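/-
Families of lines as decompositions; monomial stabilisers.
-/
import Cfsg.Prelude.Def_GeometricClasses
import Mathlib
set_option autoImplicit false

namespace CfsgLib.ClassicalMax.Frames

open Matrix Cfsg.Geo

variable {ι : Type} [Fintype ι] [DecidableEq ι] {F : Type*} [Field F] {κ : Type} [Fintype κ]

/-- The lines through the members of a family of vectors. -/
noncomputable def lines (e : κ → ι → F) : Fin (Fintype.card κ) → Submodule F (ι → F) :=
  fun i => Submodule.span F {e ((Fintype.equivFin κ).symm i)}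

variable {e : κ → ι → F}

lemma mem_lines_stab (hli : LinearIndependent F e) {g : GL ι F}
    (h : ∀ s, ∃ s', ∃ c : F, (g : Matrix ι ι F) *ᵥ e s = c • e s') :
    g ∈ decompositionStabilizer (lines e) := by
  classical
  choose π c hc using h
  have hinj : Function.Injective fun x : ι → F => (g : Matrix ι ι F) *ᵥ x :=
    Matrix.mulVec_injective_iff_isUnit.2 g.isUnit
  have hc0 : ∀ s, c s ≠ 0 := fun s h0 => hli.ne_zero s (hinj (by
    simp only [hc, h0, zero_smul, mulVec_zero]))
  have hπ : Function.Injective π := fun s s' hss => by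
    by_contra hne
    have he : c s' • e s + (-c s) • e s' = 0 := hinj (by
      simp only [mulVec_add, mulVec_smul, mulVec_zero, hc, hss, smul_smul, ← add_smul]
      rw [show c s' * c s + -c s * c s' = 0 by ring, zero_smul])
    have h2 := linearIndependent_iff'.1 hli {s, s'} (fun x => if x = s then c s' else -c s)
      (by rw [Finset.sum_pair hne, if_pos rfl, if_neg (Ne.symm hne), he]) s (by simp)
    exact hc0 s' (by simpa using h2)
  let E := Fintype.equivFin κ
  refine ⟨(E.symm.trans (Equiv.ofBijective π hπ.bijective_of_finite)).trans E, fun i => ?_⟩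
  simp only [lines, Submodule.map_span, Set.image_singleton, Matrix.toLin'_apply, hc, E,
    Equiv.trans_apply, Equiv.ofBijective_apply, Equiv.symm_apply_apply]
  exact Submodule.span_singleton_smul_eq (Ne.isUnit (hc0 _)) _

lemma exists_of_mem_lines_stab {g : GL ι F} (hg : g ∈ decompositionStabilizer (lines e)) (s : κ) :
    ∃ s', ∃ c : F, (g : Matrix ι ι F) *ᵥ e s = c • e s' := by
  obtain ⟨σ, hσ⟩ := hg
  let E := Fintype.equivFin κ
  have h : (g : Matrix ι ι F) *ᵥ e s ∈ lines e (σ (E s)) := by
    rw [← hσ (E s)]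
    refine ⟨e s, ?_, Matrix.toLin'_apply _ _⟩
    simp [lines, E, Submodule.mem_span_singleton_self]
  obtain ⟨c, hc⟩ := Submodule.mem_span_singleton.1 h
  exact ⟨_, c, hc.symm⟩

omit [Fintype κ] in
lemma exists_block_image {t : ℕ} {D : Fin t → Submodule F (ι → F)} {g : GL ι F}
    (hg : g ∈ decompositionStabilizer D) (i : Fin t) :
    ∃ j, ∀ x ∈ D i, (g : Matrix ι ι F) *ᵥ x ∈ D j := by
  obtain ⟨σ, hσ⟩ := hg
  exact ⟨σ i, fun x hx => by rw [← hσ i]; exact ⟨x, hx, Matrix.toLin'_apply _ _⟩⟩

omit [Fintype κ] in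
/-- Two vectors of one member sent into two different members. -/
lemma not_mem_stab {t : ℕ} {D : Fin t → Submodule F (ι → F)} (hD : iSupIndep D) {g : GL ι F}
    {i a b : Fin t} {x y : ι → F} (hx : x ∈ D i) (hy : y ∈ D i) (hab : a ≠ b)
    (hgx : (g : Matrix ι ι F) *ᵥ x ∈ D a) (hgy : (g : Matrix ι ι F) *ᵥ y ∈ D b)
    (hx0 : x ≠ 0) (hy0 : y ≠ 0) : g ∉ decompositionStabilizer D := by
  intro hg
  obtain ⟨j, hj⟩ := exists_block_image hg i
  have hinj : Function.Injective fun x : ι → F => (g : Matrix ι ι F) *ᵥ x :=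
    Matrix.mulVec_injective_iff_isUnit.2 g.isUnit
  have key : ∀ (z : ι → F) (k : Fin t), z ≠ 0 → z ∈ D i → (g : Matrix ι ι F) *ᵥ z ∈ D k → j = k := by
    intro z k hz hzi hzk
    by_contra hne
    have := Submodule.disjoint_def.1 (hD.pairwiseDisjoint hne) _ (hj z hzi) hzk
    exact hz (hinj (by simpa using this))
  exact hab ((key x a hx0 hx hgx).symm.trans (key y b hy0 hy hgy))

omit [Fintype κ] in
/-- The vectors chosen in the members of an independent family are independent. -/
lemma linearIndependent_blocks {t : ℕ} {β : Type} [Fintype β] {D : Fin t → Submodule F (ι → F)}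
    (hD : iSupIndep D) {v : Fin t × β → ι → F} (hv : ∀ i b, v (i, b) ∈ D i)
    (hli : ∀ i, LinearIndependent F fun b => v (i, b)) : LinearIndependent F v := by
  classical
  refine Fintype.linearIndependent_iff.2 fun c hc s => ?_
  rw [Fintype.sum_prod_type] at hc
  have hz := (iSupIndep_iff_finsetSum_eq_zero_imp_eq_zero D).1 hD Finset.univ
    (fun i => ∑ b, c (i, b) • v (i, b))
    (fun i _ => Submodule.sum_mem _ fun b _ => Submodule.smul_mem _ _ (hv i b)) hc s.1
    (Finset.mem_univ _)
  exact Fintype.linearIndependent_iff.1 (hli s.1) (fun b => c (s.1, b)) hz s.2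

end CfsgLib.ClassicalMax.Frames
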