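/-
Transvections in the general linear group of coordinate vectors, and generation of the special linear group.
-/
import Cfsg.Prelude.Def_GeometricClasses
set_option autoImplicit false

namespace CfsgLib.ClassicalMax

open Matrix

variable {ι : Type} [Fintype ι] [DecidableEq ι] {F : Type*} [Field F]

/-- Two invertible matrices with the same action on vectors are equal. -/
lemma gl_ext_mulVec {g h : GL ι F}
    (e : ∀ x : ι → F, (g : Matrix ι ι F) *ᵥ x = (h : Matrix ι ι F) *ᵥ x) : g = h :=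
  Units.ext (Matrix.ext_of_mulVec_single fun i => e _)

lemma gl_mulVec_mul (g h : GL ι F) (x : ι → F) :
    ((g * h : GL ι F) : Matrix ι ι F) *ᵥ x = (g : Matrix ι ι F) *ᵥ ((h : Matrix ι ι F) *ᵥ x) := by
  rw [Units.val_mul, mulVec_mulVec]

@[simp] lemma gl_inv_mulVec_mulVec (g : GL ι F) (x : ι → F) :
    ((g⁻¹ : GL ι F) : Matrix ι ι F) *ᵥ ((g : Matrix ι ι F) *ᵥ x) = x := by
  rw [mulVec_mulVec, ← Units.val_mul, inv_mul_cancel, Units.val_one, one_mulVec]

@[simp] lemma gl_mulVec_inv_mulVec (g : GL ι F) (x : ι → F) :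
    (g : Matrix ι ι F) *ᵥ (((g⁻¹ : GL ι F) : Matrix ι ι F) *ᵥ x) = x := by
  rw [mulVec_mulVec, ← Units.val_mul, mul_inv_cancel, Units.val_one, one_mulVec]

lemma gl_mulVec_injective (g : GL ι F) :
    Function.Injective fun x : ι → F => (g : Matrix ι ι F) *ᵥ x := fun x y h => by
  have := congrArg (fun z => ((g⁻¹ : GL ι F) : Matrix ι ι F) *ᵥ z) h
  simpa using this

lemma gl_mulVec_ne_zero (g : GL ι F) {x : ι → F} (hx : x ≠ 0) :
    (g : Matrix ι ι F) *ᵥ x ≠ 0 := fun h =>
  hx (gl_mulVec_injective g (by simpa using h))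

private lemma tvMat_mul (u φ ψ : ι → F) (hφ : φ ⬝ᵥ u = 0) :
    (1 + vecMulVec u φ) * (1 + vecMulVec u ψ) = 1 + vecMulVec u (φ + ψ) := by
  rw [add_mul, one_mul, mul_add, mul_one, vecMulVec_mul_vecMulVec, hφ, zero_smul,
    vecMulVec_add]
  simp only [vecMulVec_zero, add_zero]
  abel

/-- The transvection `x ↦ x + (φ ⬝ x) • u` when `φ ⬝ u = 0` (the identity otherwise). -/
def tvGL [DecidableEq F] (u φ : ι → F) : GL ι F :=
  if h : φ ⬝ᵥ u = 0 then
    ⟨1 + vecMulVec u φ, 1 + vecMulVec u (-φ),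
      by rw [tvMat_mul u φ (-φ) h, add_neg_cancel, vecMulVec_zero, add_zero],
      by rw [tvMat_mul u (-φ) φ (by rw [neg_dotProduct, h, neg_zero]), neg_add_cancel, vecMulVec_zero,
        add_zero]⟩
  else 1

variable [DecidableEq F]

lemma coe_tvGL {u φ : ι → F} (h : φ ⬝ᵥ u = 0) :
    (tvGL u φ : Matrix ι ι F) = 1 + vecMulVec u φ := by
  rw [tvGL, dif_pos h]

lemma tvGL_mulVec {u φ : ι → F} (h : φ ⬝ᵥ u = 0) (x : ι → F) :
    (tvGL u φ : Matrix ι ι F) *ᵥ x = x + (φ ⬝ᵥ x) • u := by
  rw [coe_tvGL h, add_mulVec, one_mulVec, vecMulVec_mulVec, op_smul_eq_smul]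

lemma det_tvGL (u φ : ι → F) : Matrix.det (tvGL u φ : Matrix ι ι F) = 1 := by
  by_cases h : φ ⬝ᵥ u = 0
  · rw [coe_tvGL h, vecMulVec_eq Unit, det_one_add_replicateCol_mul_replicateRow, h, add_zero]
  · rw [tvGL, dif_neg h]
    simp

lemma tvGL_mem_sl (u φ : ι → F) : tvGL u φ ∈ Cfsg.Geo.specialLinear ι F := by
  rw [Cfsg.Geo.specialLinear, MonoidHom.mem_ker]
  exact Units.ext (by simpa using det_tvGL u φ)

@[simp] lemma tvGL_zero_right (u : ι → F) : tvGL u (0 : ι → F) = 1 := by
  refine gl_ext_mulVec fun x => ?_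
  rw [tvGL_mulVec (zero_dotProduct u)]
  simp

@[simp] lemma tvGL_zero_left (φ : ι → F) : tvGL (0 : ι → F) φ = 1 := by
  refine gl_ext_mulVec fun x => ?_
  rw [tvGL_mulVec (dotProduct_zero φ)]
  simp

lemma tvGL_add_right {u φ ψ : ι → F} (hφ : φ ⬝ᵥ u = 0) (hψ : ψ ⬝ᵥ u = 0) :
    tvGL u (φ + ψ) = tvGL u φ * tvGL u ψ := by
  have h : (φ + ψ) ⬝ᵥ u = 0 := by rw [add_dotProduct, hφ, hψ, add_zero]
  refine Units.ext ?_
  rw [Units.val_mul, coe_tvGL h, coe_tvGL hφ, coe_tvGL hψ, tvMat_mul u φ ψ hφ]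

lemma tvGL_add_left {u w φ : ι → F} (hu : φ ⬝ᵥ u = 0) (hw : φ ⬝ᵥ w = 0) :
    tvGL (u + w) φ = tvGL u φ * tvGL w φ := by
  have h : φ ⬝ᵥ (u + w) = 0 := by rw [dotProduct_add, hu, hw, add_zero]
  refine gl_ext_mulVec fun x => ?_
  rw [gl_mulVec_mul, tvGL_mulVec h, tvGL_mulVec hw, tvGL_mulVec hu, dotProduct_add,
    dotProduct_smul, hw, smul_zero, add_zero, smul_add]
  abel

lemma tvGL_neg_right {u φ : ι → F} (h : φ ⬝ᵥ u = 0) : tvGL u (-φ) = (tvGL u φ)⁻¹ := by
  refine eq_inv_of_mul_eq_one_left ?_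
  rw [← tvGL_add_right (by rw [neg_dotProduct, h, neg_zero]) h, neg_add_cancel, tvGL_zero_right]

lemma tvGL_smul (a : F) {u φ : ι → F} (h : φ ⬝ᵥ u = 0) :
    tvGL (a • u) φ = tvGL u (a • φ) := by
  refine gl_ext_mulVec fun x => ?_
  rw [tvGL_mulVec (by rw [dotProduct_smul, h, smul_zero]),
    tvGL_mulVec (by rw [smul_dotProduct, h, smul_zero]), smul_dotProduct, smul_smul, smul_eq_mul,
    mul_comm]

lemma vecMul_inv_dot (g : GL ι F) (φ y : ι → F) :
    (φ ᵥ* ((g⁻¹ : GL ι F) : Matrix ι ι F)) ⬝ᵥ y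
      = φ ⬝ᵥ (((g⁻¹ : GL ι F) : Matrix ι ι F) *ᵥ y) :=
  (dotProduct_mulVec _ _ _).symm

lemma conj_tvGL (g : GL ι F) {u φ : ι → F} (h : φ ⬝ᵥ u = 0) :
    g * tvGL u φ * g⁻¹
      = tvGL ((g : Matrix ι ι F) *ᵥ u) (φ ᵥ* ((g⁻¹ : GL ι F) : Matrix ι ι F)) := by
  refine gl_ext_mulVec fun x => ?_
  have h' : (φ ᵥ* ((g⁻¹ : GL ι F) : Matrix ι ι F)) ⬝ᵥ ((g : Matrix ι ι F) *ᵥ u) = 0 := by
    rw [vecMul_inv_dot, gl_inv_mulVec_mulVec, h]
  rw [gl_mulVec_mul, gl_mulVec_mul, tvGL_mulVec h, tvGL_mulVec h', mulVec_add,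
    gl_mulVec_inv_mulVec, mulVec_smul, vecMul_inv_dot]

/-- The matrices that come from members of a subgroup. -/
def matSubmonoid (H : Subgroup (GL ι F)) : Submonoid (Matrix ι ι F) :=
  H.toSubmonoid.map (Units.coeHom (Matrix ι ι F))

omit [DecidableEq F] in
lemma mem_matSubmonoid {H : Subgroup (GL ι F)} {A : Matrix ι ι F} :
    A ∈ matSubmonoid H ↔ ∃ g ∈ H, (g : Matrix ι ι F) = A := Iff.rfl

lemma transvection_mem_matSubmonoid {H : Subgroup (GL ι F)}
    (hH : ∀ i j : ι, i ≠ j → ∀ c : F, tvGL (Pi.single i c) (Pi.single j 1) ∈ H) {i j : ι} (hij : i ≠ j) (c : F) :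
    Matrix.transvection i j c ∈ matSubmonoid H := by
  have h : (Pi.single j (1 : F)) ⬝ᵥ (Pi.single i c : ι → F) = 0 := by
    rw [single_dotProduct, one_mul, Pi.single_eq_of_ne hij.symm]
  refine mem_matSubmonoid.2 ⟨_, hH i j hij c, ?_⟩
  rw [coe_tvGL h, Matrix.transvection]
  ext a b
  simp only [Matrix.add_apply, vecMulVec_apply, Matrix.single_apply, Pi.single_apply]
  by_cases ha : a = i <;> by_cases hb : b = j <;>
    simp_all [eq_comm]

omit [Fintype ι] [DecidableEq F] in
lemma mul_transvection_diag_pair [Fintype ι] {i j : ι} (hij : i ≠ j) {a : F} (ha : a ≠ 0) :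
    Matrix.transvection i j a * Matrix.transvection j i (-a⁻¹) * Matrix.transvection i j a *
      Matrix.transvection i j (-1) * Matrix.transvection j i 1 * Matrix.transvection i j (-1) =
    Matrix.diagonal fun k => if k = i then a else if k = j then a⁻¹ else 1 := by
  refine Matrix.ext_of_mulVec_single fun l => ?_
  simp only [Matrix.transvection, ← mulVec_mulVec, add_mulVec, one_mulVec, single_mulVec]
  ext k
  by_cases h1 : k = i <;> by_cases h2 : k = j <;> by_cases h3 : l = i <;> by_cases h4 : l = j <;>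
    simp_all [Function.update_apply, Pi.single_apply, mulVec_diagonal, eq_comm] <;>
    field_simp

lemma diagonal_mem_matSubmonoid {H : Subgroup (GL ι F)}
    (hH : ∀ i j : ι, i ≠ j → ∀ c : F, tvGL (Pi.single i c) (Pi.single j 1) ∈ H) :
    ∀ (s : Finset ι) (d : ι → F), (∀ k, k ∉ s → d k = 1) → ∏ k, d k = 1 →
      Matrix.diagonal d ∈ matSubmonoid H := by
  intro s
  induction s using Finset.induction_on with
  | empty =>
    intro d hd _
    rw [show d = fun _ => 1 from funext fun k => hd k (by simp), diagonal_one]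
    exact one_mem _
  | @insert i s his ih =>
    intro d hd hprod
    by_cases hi : d i = 1
    · refine ih d (fun k hk => ?_) hprod
      by_cases hki : k = i
      · rw [hki, hi]
      · exact hd k (by simp [hki, hk])
    · have hne : ∀ k, d k ≠ 0 := fun k hk =>
        one_ne_zero (hprod.symm.trans (Finset.prod_eq_zero (Finset.mem_univ k) hk))
      obtain ⟨j, hjs, hj1⟩ : ∃ j ∈ s, d j ≠ 1 := by
        by_contra hcon
        push Not at hcon
        apply hi
        rw [← hprod, Fintype.prod_eq_single i]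
        intro k hk
        by_cases hks : k ∈ s
        · exact hcon k hks
        · exact hd k (by simp [hk, hks])
      have hij : i ≠ j := fun e => his (e ▸ hjs)
      let d' : ι → F := Function.update (Function.update d j (d i * d j)) i 1
      have hd' : ∀ k, k ∉ s → d' k = 1 := by
        intro k hk
        by_cases hki : k = i
        · simp [d', hki]
        · have hkj : k ≠ j := fun e => hk (e ▸ hjs)
          simp [d', hki, hkj, hd k (by simp [hki, hk])]
      have hsplit : d = fun k => (if k = i then d i else if k = j then (d i)⁻¹ else 1) * d' k := by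
        funext k
        by_cases hki : k = i
        · simp [d', hki]
        · by_cases hkj : k = j
          · have := hne i
            simp [d', hij.symm, hkj]
            field_simp
          · simp [d', hki, hkj]
      have hp' : ∏ k, d' k = 1 := by
        have := hprod
        rw [hsplit, Finset.prod_mul_distrib] at this
        have h1 : ∏ k, (if k = i then d i else if k = j then (d i)⁻¹ else 1) = (1 : F) := by
          rw [Fintype.prod_eq_mul i j hij (fun k hk => by simp [hk.1, hk.2])]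
          simp [hij.symm, hne i]
        rwa [h1, one_mul] at this
      rw [hsplit, ← Matrix.diagonal_mul_diagonal, ← mul_transvection_diag_pair hij (hne i)]
      have tm := fun (a b : ι) (h : a ≠ b) (c : F) => transvection_mem_matSubmonoid hH h c
      exact mul_mem (mul_mem (mul_mem (mul_mem (mul_mem (mul_mem (tm _ _ hij _) (tm _ _ hij.symm _))
        (tm _ _ hij _)) (tm _ _ hij _)) (tm _ _ hij.symm _)) (tm _ _ hij _)) (ih d' hd' hp')

/-- A subgroup containing the elementary transvections contains the special linear group. -/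
theorem sl_le_of_elementary {H : Subgroup (GL ι F)}
    (hH : ∀ i j : ι, i ≠ j → ∀ c : F, tvGL (Pi.single i c) (Pi.single j 1) ∈ H) : Cfsg.Geo.specialLinear ι F ≤ H := by
  intro g hg
  have hdet : Matrix.det (g : Matrix ι ι F) = 1 := by
    rw [Cfsg.Geo.specialLinear, MonoidHom.mem_ker] at hg
    simpa using congrArg Units.val hg
  obtain ⟨L, L', D, e⟩ :=
    Matrix.Pivot.exists_list_transvec_mul_diagonal_mul_list_transvec (g : Matrix ι ι F)
  have hL : ∀ l : List (Matrix.TransvectionStruct ι F),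
      (l.map Matrix.TransvectionStruct.toMatrix).prod ∈ matSubmonoid H := by
    intro l
    refine list_prod_mem fun A hA => ?_
    obtain ⟨t, -, rfl⟩ := List.mem_map.1 hA
    exact transvection_mem_matSubmonoid hH t.hij t.c
  have hD : ∏ k, D k = 1 := by
    rw [e, det_mul, det_mul, TransvectionStruct.det_toMatrix_prod,
      TransvectionStruct.det_toMatrix_prod, one_mul, mul_one, det_diagonal] at hdet
    exact hdet
  obtain ⟨h, hh, he⟩ := mem_matSubmonoid.1
    (mul_mem (mul_mem (hL L) (diagonal_mem_matSubmonoid hH Finset.univ D (by simp) hD)) (hL L'))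
  rwa [show g = h from Units.ext (e.trans he.symm)]

/-- A subgroup containing all transvections contains the special linear group. -/
theorem sl_le_of_tvGL {H : Subgroup (GL ι F)}
    (hH : ∀ u φ : ι → F, φ ⬝ᵥ u = 0 → tvGL u φ ∈ H) : Cfsg.Geo.specialLinear ι F ≤ H :=
  sl_le_of_elementary fun i j hij c => hH _ _ (by
    rw [single_dotProduct, one_mul, Pi.single_eq_of_ne hij.symm])

end CfsgLib.ClassicalMax
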