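/-
Pure tensors in the coordinates of a tensor structure.
-/
import Cfsg.Agent.Lib.ClassicalMax.Tv
import Cfsg.Agent.Lib.ClassicalMax.Frames
set_option autoImplicit false

namespace CfsgLib.ClassicalMax.Tensor

open Matrix Kronecker Cfsg.Geo

variable {ι : Type} [Fintype ι] [DecidableEq ι] {F : Type*} [Field F] {n₁ n₂ : ℕ}
  (e : ι ≃ Fin n₁ × Fin n₂) (P : GL ι F)

/-- The pure tensor with the two given factors, as a linear map in the second one. -/
def pureL (u : Fin n₁ → F) : (Fin n₂ → F) →ₗ[F] (ι → F) :=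
  (Matrix.toLin' (P : Matrix ι ι F)).comp
    ({ toFun := fun w => (fun s : Fin n₁ × Fin n₂ => u s.1 * w s.2) ∘ e
       map_add' := fun w w' => funext fun i => by simp [mul_add]
       map_smul' := fun c w => funext fun i => by simp [mul_left_comm] } :
      (Fin n₂ → F) →ₗ[F] (ι → F))

lemma pureL_eq (u : Fin n₁ → F) (w : Fin n₂ → F) :
    pureL e P u w = (P : Matrix ι ι F) *ᵥ ((fun s : Fin n₁ × Fin n₂ => u s.1 * w s.2) ∘ e) :=
  Matrix.toLin'_apply _ _

lemma smul_pureL (c : F) (u : Fin n₁ → F) (w : Fin n₂ → F) :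
    pureL e P (c • u) w = pureL e P u (c • w) := by
  rw [pureL_eq, pureL_eq]
  congr 1
  funext i
  simp [mul_comm, mul_left_comm]

lemma sum_eq_zero {κ : Type} [Fintype κ] {u : κ → Fin n₁ → F} (hu : LinearIndependent F u)
    {w : κ → Fin n₂ → F} (h : ∑ k, pureL e P (u k) (w k) = 0) (k : κ) : w k = 0 := by
  funext b
  refine Fintype.linearIndependent_iff.1 hu (fun k => w k b) (funext fun a => ?_) k
  simp only [pureL_eq, ← Matrix.mulVec_sum] at h
  have h0 := gl_mulVec_injective P (h.trans (mulVec_zero _).symm)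
  have := congrFun h0 (e.symm (a, b))
  simpa [mul_comm, Finset.sum_apply] using this

lemma eq_zero_of_add {κ : Type} [Fintype κ] [DecidableEq κ] {u : κ → Fin n₁ → F}
    (hu : LinearIndependent F u) {i j : κ} (hij : i ≠ j) {w w' : Fin n₂ → F}
    (h : pureL e P (u i) w + pureL e P (u j) w' = 0) : w = 0 ∧ w' = 0 := by
  have h' : ∑ k, pureL e P (u k) ((Pi.single i w + Pi.single j w' : κ → Fin n₂ → F) k) = 0 := by
    rw [← h]
    simp only [Pi.add_apply, map_add, Finset.sum_add_distrib]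
    congr 1
    · rw [Finset.sum_eq_single i] <;> simp +contextual
    · rw [Finset.sum_eq_single j] <;> simp +contextual
  have h1 := sum_eq_zero e P hu h' i
  have h2 := sum_eq_zero e P hu h' j
  simp [hij, Ne.symm hij] at h1 h2
  exact ⟨h1, h2⟩

lemma pureL_ne_zero {u : Fin n₁ → F} (hu : u ≠ 0) {w : Fin n₂ → F} (hw : w ≠ 0) :
    pureL e P u w ≠ 0 := fun h => hw
  (sum_eq_zero e P (u := fun _ : Unit => u) (linearIndependent_unique_iff.2 hu)
    (w := fun _ => w) (by simpa using h) ())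

lemma exists_smul_of_eq {u u' : Fin n₁ → F} (hu : u ≠ 0) {w w' : Fin n₂ → F}
    (h : pureL e P u w = pureL e P u' w') : ∃ c : F, w = c • w' := by
  obtain ⟨a, ha⟩ := Function.ne_iff.1 hu
  refine ⟨u' a / u a, funext fun b => ?_⟩
  rw [pureL_eq, pureL_eq] at h
  have := congrFun (gl_mulVec_injective P h) (e.symm (a, b))
  simp only [Function.comp, Equiv.apply_symm_apply] at this
  rw [Pi.smul_apply, smul_eq_mul, div_mul_eq_mul_div, eq_div_iff ha, ← this, mul_comm]

/-- The elements of the tensor product stabiliser act factor by factor. -/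
lemma exists_factors {g : GL ι F} (hg : g ∈ tensorProductSubgroup n₁ n₂ e P) :
    ∃ (a : GL (Fin n₁) F) (b : GL (Fin n₂) F), ∀ u w,
      (g : Matrix ι ι F) *ᵥ pureL e P u w =
        pureL e P ((a : Matrix _ _ F) *ᵥ u) ((b : Matrix _ _ F) *ᵥ w) := by
  obtain ⟨y, ⟨k, ⟨a, b, hk⟩, rfl⟩, rfl⟩ := hg
  refine ⟨a, b, fun u w => ?_⟩
  change ((P * glReindex e.symm k * P⁻¹ : GL ι F) : Matrix ι ι F) *ᵥ _ = _
  rw [pureL_eq, pureL_eq, gl_mulVec_mul, gl_mulVec_mul, gl_inv_mulVec_mulVec]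
  congr 1
  funext i
  have hre : (glReindex e.symm k : Matrix ι ι F) =
      Matrix.reindex e.symm e.symm (k : Matrix (Fin n₁ × Fin n₂) (Fin n₁ × Fin n₂) F) := rfl
  rw [hre, hk]
  simp only [Matrix.mulVec, dotProduct, Matrix.reindex_apply, Matrix.submatrix_apply, Equiv.symm_symm,
    Function.comp, kroneckerMap_apply]
  rw [Finset.sum_mul_sum, ← Fintype.sum_prod_type',
    ← Equiv.sum_comp e (fun s : Fin n₁ × Fin n₂ =>
      (a : Matrix _ _ F) (e i).1 s.1 * u s.1 * ((b : Matrix _ _ F) (e i).2 s.2 * w s.2))]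
  exact Finset.sum_congr rfl fun j _ => by ring

/-- A form which is linear in the first and `σ`-linear in the second argument is given by its Gram
matrix. -/
lemma formOfGram_gram {κ : Type} [Fintype κ] [DecidableEq κ] {σ : F → F}
    {f : (κ → F) → (κ → F) → F} (hl : ∀ x y v, f (x + y) v = f x v + f y v)
    (hls : ∀ (c : F) x v, f (c • x) v = c * f x v) (hr : ∀ v x y, f v (x + y) = f v x + f v y)
    (hrs : ∀ (c : F) v x, f v (c • x) = σ c * f v x) (u v : κ → F) :
    formOfGram σ (gramMatrix f) u v = f u v := by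
  have h0 : ∀ v, f 0 v = 0 := fun v => by simpa using hls 0 0 v
  have h0' : ∀ v, f v 0 = 0 := fun v => by
    have := hr v 0 0; rw [add_zero] at this; exact left_eq_add.1 this
  let L : (κ → F) →+ (κ → F) →+ F := AddMonoidHom.mk' (fun x => AddMonoidHom.mk' (f x) (hr x))
    (fun x y => AddMonoidHom.ext fun v => hl x y v)
  have hu : ∀ x : κ → F, x = ∑ a, x a • Pi.single a 1 := fun x => by
    funext k; simp [Finset.sum_apply, Pi.single_apply]
  conv_rhs => rw [hu u, hu v]
  change _ = L (∑ a, u a • Pi.single a 1) (∑ b, v b • Pi.single b 1)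
  simp only [map_sum, AddMonoidHom.finsetSum_apply, formOfGram, gramMatrix, L,
    AddMonoidHom.mk'_apply]
  rw [Finset.sum_comm]
  refine Finset.sum_congr rfl fun b _ => ?_
  refine Finset.sum_congr rfl fun a _ => ?_
  rw [hls, hrs]
  ring

/-- The form on pure tensors. -/
lemma form_pureL {σ : F → F} (hσ : ∀ x y, σ (x * y) = σ x * σ y)
    {f : (ι → F) → (ι → F) → F} {f₁ : (Fin n₁ → F) → (Fin n₁ → F) → F}
    {f₂ : (Fin n₂ → F) → (Fin n₂ → F) → F} {c : F}
    (hc : ∀ x y : Fin n₁ × Fin n₂ → F,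
      f ((P : Matrix ι ι F) *ᵥ (x ∘ e)) ((P : Matrix ι ι F) *ᵥ (y ∘ e)) =
        c * formOfGram σ (gramMatrix f₁ ⊗ₖ gramMatrix f₂) x y)
    (h₁ : ∀ u v, formOfGram σ (gramMatrix f₁) u v = f₁ u v)
    (h₂ : ∀ u v, formOfGram σ (gramMatrix f₂) u v = f₂ u v)
    (u u' : Fin n₁ → F) (w w' : Fin n₂ → F) :
    f (pureL e P u w) (pureL e P u' w') = c * (f₁ u u' * f₂ w w') := by
  rw [pureL_eq, pureL_eq, hc, ← h₁ u u', ← h₂ w w']
  congr 1
  simp only [formOfGram, Fintype.sum_prod_type, kroneckerMap_apply, hσ]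
  rw [Finset.sum_mul_sum]
  refine Finset.sum_congr rfl fun a _ => Finset.sum_congr rfl fun b _ => ?_
  rw [Finset.sum_mul_sum]
  refine Finset.sum_congr rfl fun a' _ => Finset.sum_congr rfl fun b' _ => ?_
  ring

/-- The subspaces of pure tensors with first factor in a given family. -/
def parts {t : ℕ} (u : Fin t → Fin n₁ → F) : Fin t → Submodule F (ι → F) :=
  fun i => LinearMap.range (pureL e P (u i))

lemma mem_parts_stab {t : ℕ} {u : Fin t → Fin n₁ → F} (hu : LinearIndependent F u) {g : GL ι F}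
    {a : GL (Fin n₁) F} {b : GL (Fin n₂) F}
    (hg : ∀ x w, (g : Matrix ι ι F) *ᵥ pureL e P x w =
      pureL e P ((a : Matrix _ _ F) *ᵥ x) ((b : Matrix _ _ F) *ᵥ w))
    (h : ∀ k, ∃ k', ∃ c : F, (a : Matrix _ _ F) *ᵥ u k = c • u k') :
    g ∈ decompositionStabilizer (parts e P u) := by
  choose π c hc using h
  have hc0 : ∀ k, c k ≠ 0 := fun k h0 =>
    hu.ne_zero k (gl_mulVec_injective a (by simp [hc, h0]))
  have hπ : Function.Injective π := fun k k' hkk => by
    by_contra hne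
    have he : c k' • u k + (-c k) • u k' = 0 := gl_mulVec_injective a (by
      simp only [mulVec_add, mulVec_smul, mulVec_zero, hc, hkk, smul_smul, ← add_smul]
      rw [show c k' * c k + -c k * c k' = 0 by ring, zero_smul])
    have h2 := linearIndependent_iff'.1 hu {k, k'} (fun x => if x = k then c k' else -c k)
      (by rw [Finset.sum_pair hne, if_pos rfl, if_neg (Ne.symm hne), he]) k (by simp)
    exact hc0 k' (by simpa using h2)
  refine ⟨Equiv.ofBijective π hπ.bijective_of_finite, fun k => le_antisymm ?_ ?_⟩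
  · rintro _ ⟨_, ⟨w, rfl⟩, rfl⟩
    exact ⟨c k • ((b : Matrix _ _ F) *ᵥ w), by
      rw [Matrix.toLin'_apply, hg, hc, smul_pureL]; rfl⟩
  · rintro _ ⟨w, rfl⟩
    refine ⟨_, ⟨((b⁻¹ : GL (Fin n₂) F) : Matrix _ _ F) *ᵥ ((c k)⁻¹ • w), rfl⟩, ?_⟩
    rw [Matrix.toLin'_apply, hg, hc, gl_mulVec_inv_mulVec, smul_pureL, smul_inv_smul₀ (hc0 k)]
    rfl

end CfsgLib.ClassicalMax.Tensor
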