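/-
Reflections and simple elements of the commutator subgroup of an orthogonal group, as matrices.
-/
import Cfsg.Agent.Lib.ClassicalMax.Tv
set_option autoImplicit false

namespace CfsgLib.ClassicalMax.Om

open Matrix Cfsg.Geo QuadraticMap
open scoped commutatorElement

variable {ι : Type} [Fintype ι] [DecidableEq ι] {F : Type*} [Field F] {Q : (ι → F) → F}

lemma polar_comm' (Q : (ι → F) → F) (x y : ι → F) : polar Q x y = polar Q y x :=
  QuadraticMap.polar_comm Q x y

variable (hQ : IsNondegenerateQuadraticForm Q)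

include hQ

lemma Q_add (x y : ι → F) : Q (x + y) = Q x + Q y + polar Q x y := by rw [polar]; ring

lemma Q_zero : Q 0 = 0 := by
  have := hQ.smul 0 0
  simpa using this

lemma polar_self (x : ι → F) : polar Q x x = 2 * Q x := by
  rw [polar, show x + x = (2 : F) • x by rw [two_smul], hQ.smul]
  ring

lemma add_left (x y z : ι → F) : polar Q (x + y) z = polar Q x z + polar Q y z :=
  hQ.polar_bilinear.add_left x y z

lemma smul_left (c : F) (x z : ι → F) : polar Q (c • x) z = c * polar Q x z :=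
  hQ.polar_bilinear.smul_left c x z

lemma add_right (z x y : ι → F) : polar Q z (x + y) = polar Q z x + polar Q z y :=
  hQ.polar_bilinear.add_right z x y

lemma smul_right (c : F) (z x : ι → F) : polar Q z (c • x) = c * polar Q z x :=
  hQ.polar_bilinear.smul_right c z x

lemma sub_left (x y z : ι → F) : polar Q (x - y) z = polar Q x z - polar Q y z := by
  rw [eq_sub_iff_add_eq, ← add_left hQ, sub_add_cancel]

lemma sub_right (z x y : ι → F) : polar Q z (x - y) = polar Q z x - polar Q z y := by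
  rw [eq_sub_iff_add_eq, ← add_right hQ, sub_add_cancel]

lemma Q_sub (x y : ι → F) : Q (x - y) = Q x + Q y - polar Q x y := by
  rw [sub_eq_add_neg, ← neg_one_smul F y, Q_add hQ, hQ.smul, smul_right hQ]
  ring

/-- The coefficient vector of the polar form with a fixed vector. -/
def dual (Q : (ι → F) → F) (r : ι → F) : ι → F := fun j => polar Q (Pi.single j 1) r

lemma dual_dot (r x : ι → F) : dual Q r ⬝ᵥ x = polar Q x r := by
  let L : (ι → F) →ₗ[F] F := { toFun := fun x => polar Q x r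
                               map_add' := fun x y => add_left hQ x y r
                               map_smul' := fun c x => smul_left hQ c x r }
  change _ = L x
  conv_rhs => rw [pi_eq_sum_univ x, map_sum]
  refine Finset.sum_congr rfl fun j _ => ?_
  rw [map_smul, smul_eq_mul, mul_comm]
  congr 1
  change L _ = L _
  refine congrArg L (funext fun k => ?_)
  simp [Pi.single_apply, eq_comm]

/-- The matrix of a reflection. -/
lemma exists_rf {r : ι → F} (hr : Q r ≠ 0) :
    ∃ R : GL ι F, R ∈ Cfsg.isometryGroup F Q ∧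
      ∀ x, (R : Matrix ι ι F) *ᵥ x = x - (polar Q x r / Q r) • r := by
  set A : Matrix ι ι F := 1 + vecMulVec r (-(Q r)⁻¹ • dual Q r) with hA
  have hdet : A.det = -1 := by
    rw [hA, vecMulVec_eq Unit, det_one_add_replicateCol_mul_replicateRow, smul_dotProduct,
      dual_dot hQ, polar_self hQ, smul_eq_mul]
    field_simp
    ring
  have hAx : ∀ x, A *ᵥ x = x - (polar Q x r / Q r) • r := fun x => by
    rw [hA, add_mulVec, one_mulVec, vecMulVec_mulVec, op_smul_eq_smul, smul_dotProduct,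
      dual_dot hQ, smul_eq_mul, sub_eq_add_neg, ← neg_smul, div_eq_inv_mul, neg_mul]
  refine ⟨Matrix.GeneralLinearGroup.mkOfDetNeZero A (by rw [hdet]; exact neg_ne_zero.2 one_ne_zero),
    fun x _ => ?_, hAx⟩
  change Q (A *ᵥ x) = Q x
  rw [hAx, Q_sub hQ, hQ.smul, smul_right hQ]
  field_simp
  ring

/-- The reflection in an anisotropic vector. -/
noncomputable def rf {r : ι → F} (hr : Q r ≠ 0) : GL ι F := Classical.choose (exists_rf hQ hr)

lemma rf_mem {r : ι → F} (hr : Q r ≠ 0) : rf hQ hr ∈ Cfsg.isometryGroup F Q :=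
  (Classical.choose_spec (exists_rf hQ hr)).1

lemma rf_mulVec {r : ι → F} (hr : Q r ≠ 0) (x : ι → F) :
    (rf hQ hr : Matrix ι ι F) *ᵥ x = x - (polar Q x r / Q r) • r :=
  (Classical.choose_spec (exists_rf hQ hr)).2 x

lemma rf_fix {r : ι → F} (hr : Q r ≠ 0) {x : ι → F} (h : polar Q x r = 0) :
    (rf hQ hr : Matrix ι ι F) *ᵥ x = x := by
  rw [rf_mulVec, h, zero_div, zero_smul, sub_zero]

lemma rf_self {r : ι → F} (hr : Q r ≠ 0) : (rf hQ hr : Matrix ι ι F) *ᵥ r = -r := by
  rw [rf_mulVec, polar_self hQ, mul_div_assoc, div_self hr, mul_one, two_smul, ← sub_sub,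
    sub_self, zero_sub]

lemma rf_mul_self {r : ι → F} (hr : Q r ≠ 0) : rf hQ hr * rf hQ hr = 1 := by
  refine gl_ext_mulVec fun x => ?_
  rw [gl_mulVec_mul, rf_mulVec hQ hr x, mulVec_sub, mulVec_smul, rf_self hQ hr,
    rf_mulVec hQ hr x, Units.val_one, one_mulVec]
  module

lemma iso_Q {g : GL ι F} (hg : g ∈ Cfsg.isometryGroup F Q) (x : ι → F) :
    Q ((g : Matrix ι ι F) *ᵥ x) = Q x := hg x x

lemma iso_polar {g : GL ι F} (hg : g ∈ Cfsg.isometryGroup F Q) (x y : ι → F) :
    polar Q ((g : Matrix ι ι F) *ᵥ x) ((g : Matrix ι ι F) *ᵥ y) = polar Q x y := by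
  simp only [polar, ← mulVec_add, iso_Q hQ hg]

lemma rf_conj {g : GL ι F} (hg : g ∈ Cfsg.isometryGroup F Q) {r r' : ι → F} (hr : Q r ≠ 0)
    (hr' : Q r' ≠ 0) (h : (g : Matrix ι ι F) *ᵥ r = r') : g * rf hQ hr * g⁻¹ = rf hQ hr' := by
  rw [mul_inv_eq_iff_eq_mul]
  refine gl_ext_mulVec fun x => ?_
  rw [gl_mulVec_mul, gl_mulVec_mul, rf_mulVec, rf_mulVec, mulVec_sub, mulVec_smul, h]
  congr 2
  rw [← h, iso_polar hQ hg, iso_Q hQ hg]

/-- Two reflections in vectors of the same value give an element of `Ω`. -/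
lemma rf_mul_rf_mem {a b : ι → F} (ha : Q a ≠ 0) (hb : Q b ≠ 0) (h : Q a = Q b)
    (hab : Q (a - b) ≠ 0) : rf hQ ha * rf hQ hb ∈ omegaGL Q := by
  set R := rf hQ hab with hR
  have hRa : (R : Matrix ι ι F) *ᵥ a = b := by
    rw [hR, rf_mulVec]
    have : polar Q a (a - b) = Q (a - b) := by
      rw [sub_right hQ, polar_self hQ, Q_sub hQ, ← h]; ring
    rw [this, div_self hab, one_smul, sub_sub_cancel]
  have hc := rf_conj hQ (rf_mem hQ hab) ha hb hRa
  have hinv : (rf hQ ha)⁻¹ = rf hQ ha := inv_eq_of_mul_eq_one_left (rf_mul_self hQ ha)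
  refine ⟨⁅(⟨rf hQ ha, rf_mem hQ ha⟩ : Cfsg.isometryGroup F Q),
    (⟨R, rf_mem hQ hab⟩ : Cfsg.isometryGroup F Q)⁆,
    Subgroup.commutator_mem_commutator (Subgroup.mem_top _) (Subgroup.mem_top _), ?_⟩
  rw [commutatorElement_def]
  change rf hQ ha * R * (rf hQ ha)⁻¹ * R⁻¹ = _
  rw [hinv, mul_assoc, mul_assoc, ← mul_assoc R, hR, hc]

omit hQ in
lemma omega_le : omegaGL Q ≤ Cfsg.isometryGroup F Q := Subgroup.map_subtype_le _

/-- Orthogonal projection to a non-degenerate subspace. -/
lemma exists_proj {W : Submodule F (ι → F)} (hW : IsNondegenerateOn (polar Q) W) (z : ι → F) :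
    ∃ w ∈ W, ∀ x ∈ W, polar Q (z - w) x = 0 := by
  let L : W →ₗ[F] Module.Dual F W :=
    LinearMap.mk₂ F (fun x y => polar Q (x : ι → F) y) (fun _ _ _ => add_left hQ _ _ _)
      (fun _ _ _ => smul_left hQ _ _ _) (fun _ _ _ => add_right hQ _ _ _)
      (fun _ _ _ => smul_right hQ _ _ _)
  have hinj : Function.Injective L := by
    rw [injective_iff_map_eq_zero]
    intro w hw
    by_contra h0
    obtain ⟨-, x, hx, hwx⟩ := hW w w.2 (fun h => h0 (Subtype.ext h))
    exact hwx (LinearMap.congr_fun hw ⟨x, hx⟩)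
  have hsurj : Function.Surjective L :=
    (LinearMap.injective_iff_surjective_of_finrank_eq_finrank Subspace.dual_finrank_eq.symm).1 hinj
  obtain ⟨w, hw⟩ := hsurj
    { toFun := fun x : W => polar Q z x
      map_add' := fun _ _ => add_right hQ _ _ _
      map_smul' := fun _ _ => smul_right hQ _ _ _ }
  refine ⟨w, w.2, fun x hx => ?_⟩
  rw [sub_left hQ, sub_eq_zero]
  exact (LinearMap.congr_fun hw ⟨x, hx⟩).symm

/-- A hyperbolic pair orthogonal to a non-degenerate subspace that is small compared to a totally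
singular one. -/
lemma exists_pair_orth {W U : Submodule F (ι → F)} (hW : IsNondegenerateOn (polar Q) W)
    (hU : ∀ u ∈ U, Q u = 0) (hdim : Module.finrank F W < Module.finrank F U) :
    ∃ u v : ι → F, Q u = 0 ∧ Q v = 0 ∧ polar Q u v = 1 ∧
      (∀ x ∈ W, polar Q u x = 0) ∧ ∀ x ∈ W, polar Q v x = 0 := by
  let L : U →ₗ[F] Module.Dual F W :=
    LinearMap.mk₂ F (fun x y => polar Q (x : ι → F) (y : ι → F)) (fun _ _ _ => add_left hQ _ _ _)
      (fun _ _ _ => smul_left hQ _ _ _) (fun _ _ _ => add_right hQ _ _ _)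
      (fun _ _ _ => smul_right hQ _ _ _)
  obtain ⟨u, hu, hu0⟩ := Submodule.exists_mem_ne_zero_of_ne_bot (LinearMap.ker_ne_bot_of_finrank_lt
    (f := L) (by rw [Subspace.dual_finrank_eq]; exact hdim))
  have hu0' : (u : ι → F) ≠ 0 := fun h => hu0 (Subtype.ext h)
  have huW : ∀ x ∈ W, polar Q (u : ι → F) x = 0 := fun x hx =>
    LinearMap.congr_fun (LinearMap.mem_ker.1 hu) ⟨x, hx⟩
  obtain ⟨-, z, hz⟩ := hQ.nondegenerate _ hu0'
  obtain ⟨w, hw, hzw⟩ := exists_proj hQ hW z
  set a := polar Q (u : ι → F) (z - w) with ha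
  have ha0 : a ≠ 0 := by rw [ha, sub_right hQ, huW w hw, sub_zero]; exact hz
  set v₀ := a⁻¹ • (z - w) with hv₀
  have h1 : polar Q (u : ι → F) v₀ = 1 := by rw [hv₀, smul_right hQ, ← ha, inv_mul_cancel₀ ha0]
  have hv₀W : ∀ x ∈ W, polar Q v₀ x = 0 := fun x hx => by
    rw [hv₀, smul_left hQ, hzw x hx, mul_zero]
  clear_value v₀
  refine ⟨u, v₀ - Q v₀ • (u : ι → F), hU _ u.2, ?_, ?_, huW, fun x hx => ?_⟩
  · rw [Q_sub hQ, hQ.smul, hU _ u.2, smul_right hQ, polar_comm' Q v₀ u, h1]; ring
  · rw [sub_right hQ, smul_right hQ, h1, polar_self hQ, hU _ u.2]; ring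
  · rw [sub_left hQ, smul_left hQ, hv₀W x hx, huW x hx]; ring

omit hQ

lemma polar_quadFormOdd (m : ℕ) (u v : Unit ⊕ (Fin m ⊕ Fin m) → F) :
    polar (Cfsg.quadFormOdd m F) u v = 2 * u (.inl ()) * v (.inl ()) +
      ∑ i, (u (.inr (.inl i)) * v (.inr (.inr i)) + u (.inr (.inr i)) * v (.inr (.inl i))) := by
  have hs : ∑ i, (u + v) (.inr (.inl i)) * (u + v) (.inr (.inr i)) =
      ∑ i, u (.inr (.inl i)) * u (.inr (.inr i)) + ∑ i, v (.inr (.inl i)) * v (.inr (.inr i)) +
      ∑ i, (u (.inr (.inl i)) * v (.inr (.inr i)) + u (.inr (.inr i)) * v (.inr (.inl i))) := by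
    rw [← Finset.sum_add_distrib, ← Finset.sum_add_distrib]
    exact Finset.sum_congr rfl fun i _ => by simp only [Pi.add_apply]; ring
  rw [polar, Cfsg.quadFormOdd, Cfsg.quadFormOdd, Cfsg.quadFormOdd, hs, Pi.add_apply]
  ring

lemma isNondegenerate_quadFormOdd (m : ℕ) (h2 : (2 : F) ≠ 0) :
    IsNondegenerateQuadraticForm (Cfsg.quadFormOdd m F) where
  smul c v := by
    simp only [Cfsg.quadFormOdd, Pi.smul_apply, smul_eq_mul, mul_add, Finset.mul_sum]
    congr 1
    · ring
    · exact Finset.sum_congr rfl fun i _ => by ring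
  polar_bilinear := by
    constructor <;> intros <;>
      simp only [polar_quadFormOdd, Pi.add_apply, Pi.smul_apply, smul_eq_mul]
    all_goals first
      | (rw [add_add_add_comm, ← Finset.sum_add_distrib]
         congr 1
         · ring
         · exact Finset.sum_congr rfl fun i _ => by ring)
      | (rw [mul_add, Finset.mul_sum]
         congr 1
         · ring
         · exact Finset.sum_congr rfl fun i _ => by ring)
  nondegenerate v hv := by
    have key : ∃ y, polar (Cfsg.quadFormOdd m F) v y ≠ 0 := by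
      obtain ⟨i, hi⟩ := Function.ne_iff.1 hv
      rcases i with ⟨⟩ | i | i
      · refine ⟨Pi.single (.inl ()) 1, ?_⟩
        simpa [polar_quadFormOdd, h2] using hi
      · refine ⟨Pi.single (.inr (.inr i)) 1, ?_⟩
        simpa [polar_quadFormOdd, Pi.single_apply, Finset.sum_add_distrib] using hi
      · refine ⟨Pi.single (.inr (.inl i)) 1, ?_⟩
        simpa [polar_quadFormOdd, Pi.single_apply, Finset.sum_add_distrib] using hi
    exact ⟨key.imp fun y h => by rwa [polar_comm'], key⟩

lemma exists_totallySingular (m : ℕ) :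
    ∃ U : Submodule F (Unit ⊕ (Fin m ⊕ Fin m) → F), (∀ u ∈ U, Cfsg.quadFormOdd m F u = 0) ∧
      Module.finrank F U = m := by
  classical
  let L : (Fin m → F) →ₗ[F] (Unit ⊕ (Fin m ⊕ Fin m) → F) :=
    { toFun := fun a => Sum.elim 0 (Sum.elim a 0)
      map_add' := fun a b => funext fun i => by rcases i with ⟨⟩ | i | i <;> simp
      map_smul' := fun c a => funext fun i => by rcases i with ⟨⟩ | i | i <;> simp }
  refine ⟨LinearMap.range L, ?_, ?_⟩
  · rintro _ ⟨a, rfl⟩
    simp [L, Cfsg.quadFormOdd]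
  · rw [LinearMap.finrank_range_of_inj fun a b h => funext fun i => congrFun h (.inr (.inl i)),
      Module.finrank_fintype_fun_eq_card, Fintype.card_fin]

end CfsgLib.ClassicalMax.Om
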