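/-
Symplectic forms given as functions: transvections, transitivity and generation of the isometry group.
-/
import Cfsg.Agent.Lib.ClassicalMax.Tv
set_option autoImplicit false

namespace CfsgLib.ClassicalMax

open Matrix Cfsg.Geo

variable {ι : Type} [Fintype ι] [DecidableEq ι] {F : Type*} [Field F]
  {f : (ι → F) → (ι → F) → F}

/-- A bilinear form given as a function, as a linear map. -/
def bilinOf (hf : IsBilinearForm f) : (ι → F) →ₗ[F] (ι → F) →ₗ[F] F :=
  LinearMap.mk₂ F f hf.add_left hf.smul_left hf.add_right hf.smul_right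

@[simp] lemma bilinOf_apply (hf : IsBilinearForm f) (x y : ι → F) : bilinOf hf x y = f x y := rfl

lemma form_sub_left (hf : IsBilinearForm f) (x y z : ι → F) : f (x - y) z = f x z - f y z :=
  LinearMap.map_sub₂ (bilinOf hf) x y z

lemma form_sub_right (hf : IsBilinearForm f) (z x y : ι → F) : f z (x - y) = f z x - f z y :=
  map_sub (bilinOf hf z) x y

lemma form_zero_left (hf : IsBilinearForm f) (z : ι → F) : f 0 z = 0 :=
  LinearMap.map_zero₂ (bilinOf hf) z

lemma form_zero_right (hf : IsBilinearForm f) (z : ι → F) : f z 0 = 0 :=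
  map_zero (bilinOf hf z)

lemma form_neg_right (hf : IsBilinearForm f) (z x : ι → F) : f z (-x) = - f z x :=
  map_neg (bilinOf hf z) x

/-- The coefficient vector of `x ↦ f x v`. -/
def formDual (f : (ι → F) → (ι → F) → F) (v : ι → F) : ι → F := fun j => f (Pi.single j 1) v

lemma formDual_dot (hf : IsBilinearForm f) (v x : ι → F) : formDual f v ⬝ᵥ x = f x v := by
  conv_rhs => rw [pi_eq_sum_univ x, ← bilinOf_apply hf, map_sum]
  simp only [LinearMap.sum_apply, map_smul, LinearMap.smul_apply, bilinOf_apply, dotProduct,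
    formDual, smul_eq_mul]
  refine Finset.sum_congr rfl fun j _ => ?_
  rw [mul_comm]
  congr 1
  congr 1
  funext k
  simp [Pi.single_apply, eq_comm]

lemma formDual_add (hf : IsBilinearForm f) (v w : ι → F) :
    formDual f (v + w) = formDual f v + formDual f w :=
  funext fun _ => hf.add_right _ _ _

lemma formDual_smul (hf : IsBilinearForm f) (c : F) (v : ι → F) :
    formDual f (c • v) = c • formDual f v :=
  funext fun _ => hf.smul_right _ _ _

/-- Every coordinate vector is the coefficient vector of some `x ↦ f x w`. -/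
lemma exists_formDual_eq (hf : IsBilinearForm f) (hnd : IsNondegenerateForm f) (φ : ι → F) :
    ∃ w, formDual f w = φ := by
  let L : (ι → F) →ₗ[F] (ι → F) :=
    { toFun := formDual f, map_add' := formDual_add hf, map_smul' := formDual_smul hf }
  have hinj : Function.Injective L := by
    rw [injective_iff_map_eq_zero]
    intro w hw
    by_contra h0
    obtain ⟨x, hx⟩ := (hnd w h0).1
    exact hx (by rw [← formDual_dot hf, show formDual f w = 0 from hw, zero_dotProduct])
  exact LinearMap.surjective_of_injective hinj φ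

lemma exists_form_eq (hf : IsBilinearForm f) (hnd : IsNondegenerateForm f)
    (φ : (ι → F) →ₗ[F] F) : ∃ w, ∀ x, f x w = φ x := by
  obtain ⟨w, hw⟩ := exists_formDual_eq hf hnd (fun j => φ (Pi.single j 1))
  refine ⟨w, fun x => ?_⟩
  rw [← formDual_dot hf, hw]
  conv_rhs => rw [pi_eq_sum_univ x, map_sum]
  refine Finset.sum_congr rfl fun j _ => ?_
  rw [map_smul, smul_eq_mul, mul_comm]
  congr 1
  refine congrArg φ (funext fun k => ?_)
  simp [Pi.single_apply, eq_comm]

lemma eq_zero_of_form_left (hnd : IsNondegenerateForm f) {v : ι → F} (h : ∀ x, f v x = 0) :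
    v = 0 := by
  by_contra h0
  obtain ⟨x, hx⟩ := (hnd v h0).2
  exact hx (h x)

/-- The isometry group of a two-argument form. -/
abbrev isoOf (f : (ι → F) → (ι → F) → F) : Subgroup (GL ι F) :=
  Cfsg.preserving (Cfsg.glToMat ι F) f

lemma mem_isoOf {g : GL ι F} :
    g ∈ isoOf f ↔ ∀ u v, f ((g : Matrix ι ι F) *ᵥ u) ((g : Matrix ι ι F) *ᵥ v) = f u v := Iff.rfl

lemma form_mulVec_left {g : GL ι F} (hg : g ∈ isoOf f) (x y : ι → F) :
    f ((g : Matrix ι ι F) *ᵥ x) y = f x (((g⁻¹ : GL ι F) : Matrix ι ι F) *ᵥ y) := by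
  conv_lhs => rw [← gl_mulVec_inv_mulVec g y]
  exact hg _ _

variable [DecidableEq F]

/-- The symplectic transvection `x ↦ x + c f(x, v) v`. -/
def sTv (f : (ι → F) → (ι → F) → F) (v : ι → F) (c : F) : GL ι F := tvGL v (c • formDual f v)

lemma sTv_dot (hf : IsSymplecticForm f) (v : ι → F) (c : F) : (c • formDual f v) ⬝ᵥ v = 0 := by
  rw [smul_dotProduct, formDual_dot hf.bilinear, hf.alternating, smul_zero]

lemma sTv_mulVec (hf : IsSymplecticForm f) (v : ι → F) (c : F) (x : ι → F) :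
    (sTv f v c : Matrix ι ι F) *ᵥ x = x + (c * f x v) • v := by
  rw [sTv, tvGL_mulVec (sTv_dot hf v c), smul_dotProduct, formDual_dot hf.bilinear, smul_eq_mul]

lemma sTv_mem_sl (v : ι → F) (c : F) : sTv f v c ∈ specialLinear ι F := tvGL_mem_sl _ _

lemma sTv_mem_isoOf (hf : IsSymplecticForm f) (v : ι → F) (c : F) : sTv f v c ∈ isoOf f := by
  intro x y
  change f ((sTv f v c : Matrix ι ι F) *ᵥ x) ((sTv f v c : Matrix ι ι F) *ᵥ y) = f x y
  rw [sTv_mulVec hf, sTv_mulVec hf, hf.bilinear.add_left, hf.bilinear.add_right,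
    hf.bilinear.add_right, hf.bilinear.smul_left, hf.bilinear.smul_left, hf.bilinear.smul_right,
    hf.bilinear.smul_right, hf.alternating, hf.skew v y]
  ring

lemma sTv_conj (hf : IsSymplecticForm f) {g : GL ι F} (hg : g ∈ isoOf f) (v : ι → F) (c : F) :
    g * sTv f v c * g⁻¹ = sTv f ((g : Matrix ι ι F) *ᵥ v) c := by
  refine gl_ext_mulVec fun x => ?_
  rw [gl_mulVec_mul, gl_mulVec_mul, sTv_mulVec hf, sTv_mulVec hf, mulVec_add, mulVec_smul,
    gl_mulVec_inv_mulVec, form_mulVec_left ((isoOf f).inv_mem hg), inv_inv]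

lemma sTv_smul_vec (hf : IsSymplecticForm f) (a : F) (v : ι → F) (c : F) :
    sTv f (a • v) c = sTv f v (a ^ 2 * c) := by
  refine gl_ext_mulVec fun x => ?_
  rw [sTv_mulVec hf, sTv_mulVec hf, hf.bilinear.smul_right, smul_smul]
  congr 2
  ring

lemma sTv_zero (v : ι → F) : sTv f v 0 = 1 := by rw [sTv, zero_smul, tvGL_zero_right]

lemma sTv_sub_mulVec (hf : IsSymplecticForm f) {x y : ι → F} (h : f x y ≠ 0) :
    (sTv f (y - x) (f x y)⁻¹ : Matrix ι ι F) *ᵥ x = y := by
  rw [sTv_mulVec hf, form_sub_right hf.bilinear, hf.alternating, sub_zero, inv_mul_cancel₀ h,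
    one_smul, add_sub_cancel]

lemma sTv_mulVec_of_orth (hf : IsSymplecticForm f) {v x : ι → F} (c : F) (h : f x v = 0) :
    (sTv f v c : Matrix ι ι F) *ᵥ x = x := by
  rw [sTv_mulVec hf, h, mul_zero, zero_smul, add_zero]

omit [DecidableEq F] in
/-- Two nonzero linear functionals have a common non-vanishing point. -/
lemma exists_both_ne_zero {V : Type*} [AddCommGroup V] [Module F V] (a b : V →ₗ[F] F)
    (D : Submodule F V) (ha : ∃ z ∈ D, a z ≠ 0) (hb : ∃ z ∈ D, b z ≠ 0) :
    ∃ z ∈ D, a z ≠ 0 ∧ b z ≠ 0 := by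
  obtain ⟨z₁, h₁, ha⟩ := ha
  obtain ⟨z₂, h₂, hb⟩ := hb
  by_cases hb1 : b z₁ = 0
  · by_cases ha2 : a z₂ = 0
    · refine ⟨z₁ + z₂, add_mem h₁ h₂, ?_, ?_⟩ <;> simp [ha2, hb1, ha, hb]
    · exact ⟨z₂, h₂, ha2, hb⟩
  · exact ⟨z₁, h₁, ha, hb1⟩

/-- The isometry group of a symplectic form is generated by its transvections. -/
theorem isoOf_le_of_sTv (hf : IsSymplecticForm f) {H : Subgroup (GL ι F)}
    (hH : ∀ v c, sTv f v c ∈ H) : isoOf f ≤ H := by
  let fixd : GL ι F → Submodule F (ι → F) := fun g =>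
    LinearMap.ker (Matrix.toLin' (g : Matrix ι ι F) - LinearMap.id)
  have hfix : ∀ (g : GL ι F) (x : ι → F), x ∈ fixd g ↔ (g : Matrix ι ι F) *ᵥ x = x := by
    intro g x
    simp [fixd, sub_eq_zero]
  suffices ∀ k, ∀ g ∈ isoOf f, Fintype.card ι ≤ Module.finrank F (fixd g) + k → g ∈ H by
    exact fun g hg => this (Fintype.card ι) g hg (Nat.le_add_left _ _)
  intro k
  induction k with
  | zero =>
    intro g hg hk
    have htop : fixd g = ⊤ := Submodule.eq_top_of_finrank_eq
      (le_antisymm (Submodule.finrank_le _) (by simpa using hk))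
    rw [show g = 1 from gl_ext_mulVec fun x => by
      rw [(hfix g x).1 (htop ▸ Submodule.mem_top)]; simp]
    exact H.one_mem
  | succ k ih =>
    intro g hg hk
    by_cases hg1 : ∀ x, (g : Matrix ι ι F) *ᵥ x = x
    · rw [show g = 1 from gl_ext_mulVec fun x => by rw [hg1 x]; simp]
      exact H.one_mem
    push Not at hg1
    have orth : ∀ w, (g : Matrix ι ι F) *ᵥ w = w → ∀ a, f w ((g : Matrix ι ι F) *ᵥ a - a) = 0 := by
      intro w hw a
      rw [form_sub_right hf.bilinear]
      have e := mem_isoOf.1 hg w a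
      rw [hw] at e
      rw [e, sub_self]
    -- if some element of H ∩ isometries extends the fixed space, induction finishes
    have step : ∀ (t : GL ι F) (x : ι → F), t ∈ H → t ∈ isoOf f → (g : Matrix ι ι F) *ᵥ x ≠ x →
        (t : Matrix ι ι F) *ᵥ ((g : Matrix ι ι F) *ᵥ x) = x →
        (∀ w, (g : Matrix ι ι F) *ᵥ w = w → (t : Matrix ι ι F) *ᵥ w = w) → g ∈ H := by
      intro t x ht ht' hx htx htw
      have hlt : fixd g < fixd (t * g) := by
        refine lt_of_le_of_ne (fun w hw => ?_) (fun e => ?_)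
        · rw [hfix] at hw ⊢
          rw [gl_mulVec_mul, hw, htw w hw]
        · exact hx ((hfix g x).1 (e ▸ (hfix _ x).2 (by rw [gl_mulVec_mul, htx])))
      have := Submodule.finrank_lt_finrank_of_lt hlt
      have hmem := ih (t * g) ((isoOf f).mul_mem ht' hg) (by omega)
      exact (H.mul_mem_cancel_left ht).1 hmem
    obtain ⟨x, hx⟩ := hg1
    by_cases hA : ∃ y, f ((g : Matrix ι ι F) *ᵥ y) y ≠ 0
    · obtain ⟨y, hy⟩ := hA
      have hy' : (g : Matrix ι ι F) *ᵥ y ≠ y := fun e => hy (by rw [e, hf.alternating])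
      refine step (sTv f (y - (g : Matrix ι ι F) *ᵥ y) (f ((g : Matrix ι ι F) *ᵥ y) y)⁻¹) y (hH _ _)
        (sTv_mem_isoOf hf _ _) hy' (sTv_sub_mulVec hf hy) fun w hw => ?_
      refine sTv_mulVec_of_orth hf _ ?_
      rw [← neg_sub, form_neg_right hf.bilinear, orth w hw, neg_zero]
    push Not at hA
    set gx := (g : Matrix ι ι F) *ᵥ x with hgx
    let D : Submodule F (ι → F) := LinearMap.range (Matrix.toLin' (g : Matrix ι ι F) - LinearMap.id)
    have hD : ∀ w, (g : Matrix ι ι F) *ᵥ w = w → ∀ z ∈ D, f w z = 0 := by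
      rintro w hw z ⟨a, rfl⟩
      exact orth w hw a
    have hne : ∀ u, (g : Matrix ι ι F) *ᵥ u ≠ u → ∃ z ∈ D, bilinOf hf.bilinear u z ≠ 0 := by
      intro u hu
      by_contra hcon
      push Not at hcon
      apply hu
      rw [← sub_eq_zero]
      refine eq_zero_of_form_left hf.nondegenerate fun b => ?_
      have h' := hcon ((g : Matrix ι ι F) *ᵥ (((g⁻¹ : GL ι F) : Matrix ι ι F) *ᵥ b) -
        ((g⁻¹ : GL ι F) : Matrix ι ι F) *ᵥ b)
        (LinearMap.mem_range_self (Matrix.toLin' (g : Matrix ι ι F) - LinearMap.id)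
          (((g⁻¹ : GL ι F) : Matrix ι ι F) *ᵥ b))
      rw [gl_mulVec_inv_mulVec, bilinOf_apply, form_sub_right hf.bilinear, sub_eq_zero] at h'
      rw [form_sub_left hf.bilinear, form_mulVec_left hg, h', sub_self]
    obtain ⟨z, hzD, hz1, hz2⟩ := exists_both_ne_zero _ _ D (hne x hx)
      (hne gx fun e => hx (gl_mulVec_injective g e))
    have h1 : f gx (x + z) ≠ 0 := by
      rw [hf.bilinear.add_right, hgx, hA x, zero_add]; exact hz2
    have h2 : f (x + z) x ≠ 0 := by
      rw [hf.bilinear.add_left, hf.alternating, zero_add, hf.skew]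
      exact neg_ne_zero.2 hz1
    refine step (sTv f (x - (x + z)) (f (x + z) x)⁻¹ * sTv f ((x + z) - gx) (f gx (x + z))⁻¹) x
      (H.mul_mem (hH _ _) (hH _ _)) ((isoOf f).mul_mem (sTv_mem_isoOf hf _ _) (sTv_mem_isoOf hf _ _))
      hx ?_ fun w hw => ?_
    · rw [gl_mulVec_mul, sTv_sub_mulVec hf h1, sTv_sub_mulVec hf h2]
    · have e1 : f w (x + z - gx) = 0 := by
        rw [show x + z - gx = z - (gx - x) by abel, form_sub_right hf.bilinear, hD w hw z hzD,
          hgx, orth w hw, sub_self]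
      have e2 : f w (x - (x + z)) = 0 := by
        rw [sub_add_cancel_left, form_neg_right hf.bilinear, hD w hw z hzD, neg_zero]
      rw [gl_mulVec_mul, sTv_mulVec_of_orth hf _ e1, sTv_mulVec_of_orth hf _ e2]

/-- Any nonzero vector is moved to any other by at most two transvections. -/
lemma exists_iso_mulVec (hf : IsSymplecticForm f) {x y : ι → F} (hx : x ≠ 0) (hy : y ≠ 0) :
    ∃ g ∈ Subgroup.closure {t | ∃ v c, t = sTv f v c}, (g : Matrix ι ι F) *ᵥ x = y := by
  by_cases h : f x y = 0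
  · obtain ⟨z, -, hz1, hz2⟩ := exists_both_ne_zero (bilinOf hf.bilinear x) (bilinOf hf.bilinear y) ⊤
      ⟨_, Submodule.mem_top, (hf.nondegenerate x hx).2.choose_spec⟩
      ⟨_, Submodule.mem_top, (hf.nondegenerate y hy).2.choose_spec⟩
    have hzy : f z y ≠ 0 := by rw [hf.skew]; exact neg_ne_zero.2 hz2
    exact ⟨sTv f (y - z) (f z y)⁻¹ * sTv f (z - x) (f x z)⁻¹,
      mul_mem (Subgroup.subset_closure ⟨_, _, rfl⟩) (Subgroup.subset_closure ⟨_, _, rfl⟩),
      by rw [gl_mulVec_mul, sTv_sub_mulVec hf hz1, sTv_sub_mulVec hf hzy]⟩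
  · exact ⟨_, Subgroup.subset_closure ⟨_, _, rfl⟩, sTv_sub_mulVec hf h⟩

/-- The vectors all of whose transvections lie in `M`. -/
def tvSet (f : (ι → F) → (ι → F) → F) (M : Subgroup (GL ι F)) : Set (ι → F) :=
  {v | ∀ c, sTv f v c ∈ M}

lemma tvSet_mulVec (hf : IsSymplecticForm f) {M : Subgroup (GL ι F)} {g : GL ι F} (hg : g ∈ M)
    (hg' : g ∈ isoOf f) {v : ι → F} (hv : v ∈ tvSet f M) :
    (g : Matrix ι ι F) *ᵥ v ∈ tvSet f M := fun c => by
  rw [← sTv_conj hf hg']
  exact M.mul_mem (M.mul_mem hg (hv c)) (M.inv_mem hg)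

lemma tvSet_smul (hf : IsSymplecticForm f) {M : Subgroup (GL ι F)} (a : F) {v : ι → F}
    (hv : v ∈ tvSet f M) : a • v ∈ tvSet f M := fun c => by
  rw [sTv_smul_vec hf]; exact hv _

lemma tvSet_add_smul (hf : IsSymplecticForm f) {M : Subgroup (GL ι F)} {u v : ι → F}
    (hu : u ∈ tvSet f M) (hv : v ∈ tvSet f M) (huv : f u v ≠ 0) (a : F) :
    u + a • v ∈ tvSet f M := by
  have := tvSet_mulVec hf (hv (a / f u v)) (sTv_mem_isoOf hf v _) hu
  rwa [sTv_mulVec hf, div_mul_cancel₀ _ huv] at this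

lemma isoOf_le_of_tvSet (hf : IsSymplecticForm f) {M : Subgroup (GL ι F)}
    (h : ∀ v, v ∈ tvSet f M) : isoOf f ≤ M :=
  isoOf_le_of_sTv hf h

end CfsgLib.ClassicalMax
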