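/-
The standard symplectic form, subspace stabilisers and maximality bookkeeping.
-/
import Cfsg.Agent.Lib.ClassicalMax.Symp
set_option autoImplicit false

namespace CfsgLib.ClassicalMax

open Matrix Cfsg.Geo

variable {ι : Type} [Fintype ι] [DecidableEq ι] {F : Type*} [Field F]

lemma isMaximalIn_of {G : Type*} [Group G] {K H : Subgroup G} (hle : H ≤ K)
    (hne : ∃ k ∈ K, k ∉ H) (hmax : ∀ M, H ≤ M → M ≤ K → ∀ g ∈ M, g ∉ H → K ≤ M) :
    IsMaximalIn K H := by
  obtain ⟨k, hk, hk'⟩ := hne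
  refine ⟨lt_of_le_of_ne hle fun e => hk' (e ▸ hk), fun M h1 h2 => ?_⟩
  by_cases h : M ≤ H
  · exact Or.inl (le_antisymm h h1)
  · obtain ⟨g, hg, hg'⟩ := SetLike.not_le_iff_exists.1 h
    exact Or.inr (le_antisymm h2 (hmax M h1 h2 g hg hg'))

lemma mem_subspaceStabilizer {W : Submodule F (ι → F)} {g : GL ι F} :
    g ∈ subspaceStabilizer W ↔ ∀ v, v ∈ W ↔ (g : Matrix ι ι F) *ᵥ v ∈ W := Iff.rfl

lemma exists_preimage_mem {W : Submodule F (ι → F)} {g : GL ι F}
    (h : ∀ v ∈ W, (g : Matrix ι ι F) *ᵥ v ∈ W) {v : ι → F} (hv : v ∈ W) :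
    ∃ w ∈ W, (g : Matrix ι ι F) *ᵥ w = v := by
  let L : W →ₗ[F] W := (Matrix.toLin' (g : Matrix ι ι F)).restrict fun v hv => by
    simpa using h v hv
  have hL : Function.Injective L := fun a b e => by
    have := congrArg Subtype.val e
    simp only [L, LinearMap.coe_restrict_apply, Matrix.toLin'_apply] at this
    exact Subtype.ext (gl_mulVec_injective g this)
  obtain ⟨w, hw⟩ := LinearMap.surjective_of_injective hL ⟨v, hv⟩
  refine ⟨w, w.2, ?_⟩
  have := congrArg Subtype.val hw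
  simpa [L] using this

lemma mem_subspaceStabilizer_of_forall {W : Submodule F (ι → F)} {g : GL ι F}
    (h : ∀ v ∈ W, (g : Matrix ι ι F) *ᵥ v ∈ W) : g ∈ subspaceStabilizer W := by
  refine fun v => ⟨h v, fun hv => ?_⟩
  obtain ⟨w, hw, e⟩ := exists_preimage_mem h hv
  rwa [← gl_mulVec_injective g e]

variable {f : (ι → F) → (ι → F) → F}

/-- The vectors right orthogonal to `W`. -/
def orthSub (hf : IsBilinearForm f) (W : Submodule F (ι → F)) : Submodule F (ι → F) where
  carrier := {v | ∀ w ∈ W, f w v = 0}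
  add_mem' {a b} ha hb w hw := by rw [hf.add_right, ha w hw, hb w hw, add_zero]
  zero_mem' w _ := form_zero_right hf w
  smul_mem' c a ha w hw := by rw [hf.smul_right, ha w hw, mul_zero]

lemma mem_orthSub {hf : IsBilinearForm f} {W : Submodule F (ι → F)} {v : ι → F} :
    v ∈ orthSub hf W ↔ ∀ w ∈ W, f w v = 0 := Iff.rfl

lemma exists_orth_ne_zero (hf : IsBilinearForm f) (hnd : IsNondegenerateForm f)
    {W : Submodule F (ι → F)} {x : ι → F} (hx : x ∉ W) :
    ∃ y ∈ orthSub hf W, f x y ≠ 0 := by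
  obtain ⟨φ, hφx, hφW⟩ := Submodule.exists_dual_map_eq_bot_of_notMem hx inferInstance
  obtain ⟨y, hy⟩ := exists_form_eq hf hnd φ
  refine ⟨y, fun w hw => ?_, by rwa [hy]⟩
  rw [hy]
  exact (Submodule.mem_bot F).1 (hφW ▸ Submodule.mem_map_of_mem hw)

lemma form_symplectic_eq_zero_comm (hf : IsSymplecticForm f) {x y : ι → F} :
    f x y = 0 ↔ f y x = 0 := by
  rw [hf.skew x y, neg_eq_zero]

lemma isoOf_comm_zero (hf : IsSymplecticForm f) {x y : ι → F} (h : f x y ≠ 0) : f y x ≠ 0 :=
  fun e => h ((form_symplectic_eq_zero_comm hf).2 e)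

/-! ### The standard form -/

lemma sympForm_eq (m : ℕ) (u v : Fin m ⊕ Fin m → F) :
    Cfsg.sympForm m F u v =
      ∑ i : Fin m, (u (Sum.inr i) * v (Sum.inl i) - u (Sum.inl i) * v (Sum.inr i)) := by
  rw [Cfsg.sympForm, Matrix.J, Finset.sum_sub_distrib]
  simp only [dotProduct, Fintype.sum_sum_type, fromBlocks_mulVec, Sum.elim_inl, Sum.elim_inr,
    zero_mulVec, neg_mulVec, one_mulVec, Pi.add_apply, Pi.neg_apply, Pi.zero_apply,
    Function.comp_apply, zero_add, add_zero, mul_neg, Finset.sum_neg_distrib]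
  ring

lemma isSymplecticForm_sympForm (m : ℕ) (F : Type*) [Field F] :
    IsSymplecticForm (Cfsg.sympForm m F) where
  bilinear := {
    add_left := fun x y v => add_dotProduct _ _ _
    smul_left := fun c x v => by simp [Cfsg.sympForm, smul_dotProduct]
    add_right := fun v x y => by simp [Cfsg.sympForm, mulVec_add, dotProduct_add]
    smul_right := fun c v x => by simp [Cfsg.sympForm, mulVec_smul, dotProduct_smul] }
  skew v w := by
    rw [sympForm_eq, sympForm_eq, ← Finset.sum_neg_distrib]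
    exact Finset.sum_congr rfl fun i _ => by ring
  alternating v := by
    rw [sympForm_eq]
    exact Finset.sum_eq_zero fun i _ => by ring
  nondegenerate v hv := by
    obtain ⟨j, hj⟩ := Function.ne_iff.1 hv
    simp only [Pi.zero_apply] at hj
    rcases j with i | i
    · exact ⟨⟨Pi.single (Sum.inr i) 1, by
        rw [sympForm_eq]; simpa [Pi.single_apply] using hj⟩,
        ⟨Pi.single (Sum.inr i) 1, by rw [sympForm_eq]; simpa [Pi.single_apply] using hj⟩⟩
    · exact ⟨⟨Pi.single (Sum.inl i) 1, by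
        rw [sympForm_eq]; simpa [Pi.single_apply] using hj⟩,
        ⟨Pi.single (Sum.inl i) 1, by rw [sympForm_eq]; simpa [Pi.single_apply] using hj⟩⟩

lemma spGL_eq_isoOf (m : ℕ) (F : Type*) [Field F] :
    Cfsg.spGL m F = isoOf (Cfsg.sympForm m F) := rfl

end CfsgLib.ClassicalMax
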