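/-
The set of singular points whose whole root group lies in a subgroup of `Ω`.
-/
import Cfsg.Agent.Lib.Aschbacher.OmegaProper
import Cfsg.Agent.Lib.ClassicalMax.SympTools
set_option autoImplicit false

namespace CfsgLib.ClassicalMax.OmS

open Matrix Cfsg.Geo QuadraticMap
open CfsgLib.Classical.Quad (NDPolar Orth Frame)

variable {ι : Type} [Fintype ι] [DecidableEq ι] {F : Type*} [Field F] {Q : QuadraticForm F (ι → F)}

/-- `g` acts as the Siegel transformation of the pair. -/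
def IsSg (Q : QuadraticForm F (ι → F)) (g : GL ι F) (u w : ι → F) : Prop :=
  ∀ x, (g : Matrix ι ι F) *ᵥ x = x + polar Q x u • w + (-(polar Q x w) - Q w * polar Q x u) • u

/-- The singular vectors whose root group lies in `M`. -/
def SS (Q : QuadraticForm F (ι → F)) (M : Subgroup (GL ι F)) : Set (ι → F) :=
  {u | Q u = 0 ∧ ∀ w, polar Q u w = 0 → ∃ h ∈ M, IsSg Q h u w}

variable {M : Subgroup (GL ι F)}

lemma omega_iso {g : GL ι F} (hg : g ∈ omegaGL ⇑Q) (x : ι → F) :
    Q ((g : Matrix ι ι F) *ᵥ x) = Q x :=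
  (Subgroup.map_subtype_le _ hg : g ∈ Cfsg.isometryGroup F ⇑Q) x x

lemma omega_polar {g : GL ι F} (hg : g ∈ omegaGL ⇑Q) (x y : ι → F) :
    polar Q ((g : Matrix ι ι F) *ᵥ x) ((g : Matrix ι ι F) *ᵥ y) = polar Q x y := by
  simp only [polar, ← mulVec_add, omega_iso hg]

lemma SS_smul (c : F) {u : ι → F} (hu : u ∈ SS Q M) : c • u ∈ SS Q M := by
  rcases eq_or_ne c 0 with rfl | hc
  · rw [zero_smul]
    exact ⟨map_zero Q, fun w _ => ⟨1, M.one_mem, fun x => by simp⟩⟩
  refine ⟨by rw [QuadraticMap.map_smul, hu.1, smul_zero], fun w hw => ?_⟩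
  rw [polar_smul_left, smul_eq_mul, mul_eq_zero] at hw
  obtain ⟨h, hh, hhx⟩ := hu.2 (c • w) (by rw [polar_smul_right, hw.resolve_left hc, smul_zero])
  refine ⟨h, hh, fun x => ?_⟩
  rw [hhx x]
  simp only [polar_smul_right, QuadraticMap.map_smul, smul_eq_mul]
  module

lemma SS_mulVec {g : GL ι F} (hg : g ∈ M) (hgo : g ∈ omegaGL ⇑Q) {u : ι → F} (hu : u ∈ SS Q M) :
    (g : Matrix ι ι F) *ᵥ u ∈ SS Q M := by
  refine ⟨by rw [omega_iso hgo, hu.1], fun w hw => ?_⟩
  set w' := ((g⁻¹ : GL ι F) : Matrix ι ι F) *ᵥ w with hw'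
  have hgw : (g : Matrix ι ι F) *ᵥ w' = w := gl_mulVec_inv_mulVec g w
  obtain ⟨h, hh, hhx⟩ := hu.2 w' (by rw [← omega_polar hgo, hgw]; exact hw)
  refine ⟨g * h * g⁻¹, M.mul_mem (M.mul_mem hg hh) (M.inv_mem hg), fun x => ?_⟩
  set x' := ((g⁻¹ : GL ι F) : Matrix ι ι F) *ᵥ x with hx'
  have hgx : (g : Matrix ι ι F) *ᵥ x' = x := gl_mulVec_inv_mulVec g x
  rw [gl_mulVec_mul, gl_mulVec_mul, ← hx', hhx, mulVec_add, mulVec_add, mulVec_smul, mulVec_smul,
    hgw, hgx, ← omega_polar hgo x' u, ← omega_polar hgo x' w', hgw, hgx, ← omega_iso hgo w', hgw]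

variable [Fintype F] (hnd : NDPolar Q) (P : Frame Q)

include hnd P

lemma exists_sg {u w : ι → F} (hu : Q u = 0) (hw : polar Q u w = 0) :
    ∃ h ∈ omegaGL ⇑Q, IsSg Q h u w :=
  Asch.exists_omega_siegel hnd P hu hw

/-- A subgroup of `Ω` containing `Ω`-root groups of all singular points is everything. -/
lemma omega_le_of_all (h : ∀ u, Q u = 0 → u ∈ SS Q M) : omegaGL ⇑Q ≤ M := by
  have key : ∀ x ∈ Classical.Quad.siegelGroup Q, ∃ g ∈ M, ∀ v, (g : Matrix ι ι F) *ᵥ v = x.1 v := by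
    intro x hx
    induction hx using Subgroup.closure_induction with
    | mem x hx =>
      obtain ⟨u, w, hu, hw, rfl⟩ := hx
      obtain ⟨g, hg, hgx⟩ := (h u hu).2 w hw
      exact ⟨g, hg, fun v => by rw [hgx v, Classical.Quad.siegel_apply]⟩
    | one => exact ⟨1, M.one_mem, fun v => by simp⟩
    | mul x y _ _ hx hy =>
      obtain ⟨g, hg, hgx⟩ := hx
      obtain ⟨k, hk, hky⟩ := hy
      exact ⟨g * k, M.mul_mem hg hk, fun v => by rw [gl_mulVec_mul, hky, hgx]; rfl⟩
    | inv x _ hx =>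
      obtain ⟨g, hg, hgx⟩ := hx
      refine ⟨g⁻¹, M.inv_mem hg, fun v => gl_mulVec_injective g ?_⟩
      simp only [gl_mulVec_inv_mulVec]
      rw [hgx]
      exact (Classical.Quad.self_apply_inv x v).symm
  rintro _ ⟨γ, hγ, rfl⟩
  have hmem : OrthCrit.toOrth Q γ ∈ Classical.Quad.siegelGroup Q := by
    rw [← Classical.Quad.commutator_orth_eq hnd P]
    have h := Subgroup.mem_map_of_mem ((OrthCrit.toOrth Q).toMonoidHom) hγ
    rw [show Cfsg.Omega F ⇑Q = commutator _ from rfl, commutator_def, Subgroup.map_commutator,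
      Subgroup.map_top_of_surjective (OrthCrit.toOrth Q).toMonoidHom (OrthCrit.toOrth Q).surjective,
      ← commutator_def] at h
    exact h
  obtain ⟨g, hg, hgx⟩ := key _ hmem
  have : g = (γ : GL ι F) := gl_ext_mulVec fun v => by rw [hgx, OrthCrit.toOrth_apply]; rfl
  change (γ : GL ι F) ∈ M
  rw [← this]
  exact hg

/-- Two non-orthogonal points suffice. -/
lemma omega_le_of_pair (hM : M ≤ omegaGL ⇑Q) {u u' : ι → F} (hu : u ∈ SS Q M) (hu' : u' ∈ SS Q M)
    (huu : polar Q u u' ≠ 0) : omegaGL ⇑Q ≤ M := by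
  have step : ∀ u u' z : ι → F, u ∈ SS Q M → u' ∈ SS Q M → polar Q u u' ≠ 0 → Q z = 0 →
      polar Q u z ≠ 0 → z ∈ SS Q M := by
    intro u u' z hu hu' huu hz huz
    have hv := SS_smul (polar Q u u')⁻¹ hu'
    set v := (polar Q u u')⁻¹ • u' with hvdef
    have huv : polar Q u v = 1 := by rw [hvdef, polar_smul_right, smul_eq_mul, inv_mul_cancel₀ huu]
    set z' := (polar Q u z)⁻¹ • z with hzdef
    have hz' : Q z' = 0 := by rw [hzdef, QuadraticMap.map_smul, hz, smul_zero]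
    have huz' : polar Q u z' = 1 := by
      rw [hzdef, polar_smul_right, smul_eq_mul, inv_mul_cancel₀ huz]
    obtain ⟨w, hw, hwz⟩ := Classical.Quad.exists_siegel_partner hu.1 hv.1 hz' huv huz'
    obtain ⟨h, hh, hhx⟩ := hu.2 w hw
    have h2 := SS_mulVec hh (hM hh) hv
    rw [hhx, ← Classical.Quad.siegel_apply hu.1 hw, hwz, hzdef] at h2
    have h3 := SS_smul (polar Q u z) h2
    rwa [smul_smul, mul_inv_cancel₀ huz, one_smul] at h3
  have hu0 : u ≠ 0 := fun e => huu (by rw [e, polar_zero_left])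
  refine omega_le_of_all hnd P fun z hz => ?_
  rcases eq_or_ne z 0 with rfl | hz0
  · simpa using SS_smul 0 hu
  by_cases hzu : polar Q u z = 0
  · obtain ⟨y, hy, huy, hzy⟩ := Classical.Quad.exists_singular_polar hnd hu0 hz0 hu.1 hzu
    have hyS := step u u' y hu hu' huu hy huy
    exact step y u z hyS hu (by rwa [polar_comm]) hz (by rwa [polar_comm])
  · exact step u u' z hu hu' huu hz hzu

omit P

lemma two_mul_finrank_le {U : Submodule F (ι → F)} (hU : ∀ x ∈ U, Q x = 0) :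
    2 * Module.finrank F U ≤ Fintype.card ι := by
  set Ψ : (ι → F) →ₗ[F] (U →ₗ[F] F) := (LinearMap.lcomp F F U.subtype).comp (polarBilin Q) with hΨ
  have hsurj : Function.Surjective Ψ := by
    intro φ
    obtain ⟨g, hg⟩ := LinearMap.exists_extend φ
    obtain ⟨x, hx⟩ := Classical.Quad.exists_polar hnd g
    refine ⟨x, LinearMap.ext fun y => ?_⟩
    rw [← hg]
    exact hx _
  have hle : U ≤ LinearMap.ker Ψ := fun x hx => LinearMap.ext fun y => by
    change polar Q x (y : ι → F) = 0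
    rw [polar, hU x hx, hU y y.2, hU _ (U.add_mem hx y.2), sub_zero, sub_zero]
  have h1 := LinearMap.finrank_range_add_finrank_ker Ψ
  rw [LinearMap.range_eq_top.2 hsurj, finrank_top, Subspace.dual_finrank_eq,
    Module.finrank_fintype_fun_eq_card] at h1
  have h2 := Submodule.finrank_mono hle
  omega

end CfsgLib.ClassicalMax.OmS
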