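/-
Maximality of stabilisers of totally singular subspaces in odd-dimensional `Ω`.
-/
import Cfsg.Agent.Lib.ClassicalMax.OrthRoot
import Cfsg.Agent.Lib.OrthCrit.Forms
set_option autoImplicit false

namespace CfsgLib.ClassicalMax.OmS

open Matrix Cfsg.Geo QuadraticMap
open CfsgLib.Classical.Quad (NDPolar Orth Frame)

variable {ι : Type} [Fintype ι] [DecidableEq ι] {F : Type*} [Field F] [Fintype F]
  {Q : QuadraticForm F (ι → F)}

theorem singular_stabilizer_maximal (hnd : NDPolar Q) (P : Frame Q) (hn : Odd (Fintype.card ι))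
    {W : Submodule F (ι → F)} (hW0 : W ≠ ⊥) (hW : ∀ w ∈ W, Q w = 0) :
    IsMaximalIn (omegaGL ⇑Q) (subspaceStabilizer W ⊓ omegaGL ⇑Q) := by
  classical
  have hWW : ∀ a ∈ W, ∀ b ∈ W, polar Q a b = 0 := fun a ha b hb => by
    rw [polar, hW a ha, hW b hb, hW _ (W.add_mem ha hb), sub_zero, sub_zero]
  refine CfsgLib.ClassicalMax.isMaximalIn_of inf_le_right ?_ ?_
  · have hW1 : W ≠ ⊤ := fun h => by
      have := two_mul_finrank_le hnd hW
      rw [h, finrank_top, Module.finrank_fintype_fun_eq_card] at this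
      obtain ⟨r, hr⟩ := hn
      omega
    obtain ⟨g, hg, hg'⟩ := SetLike.not_le_iff_exists.1 (Asch.omega_not_le_subspace hnd P hW0 hW1)
    exact ⟨g, hg, fun h => hg' h.1⟩
  intro M hHM hMK g hgM hgH
  have hWS : ∀ w ∈ W, w ∈ SS Q M := by
    refine fun w hw => ⟨hW w hw, fun v hv => ?_⟩
    obtain ⟨h, hh, hhx⟩ := exists_sg hnd P (hW w hw) hv
    refine ⟨h, hHM ⟨mem_subspaceStabilizer_of_forall fun x hx => ?_, hh⟩, hhx⟩
    rw [hhx x, hWW x hx w hw, zero_smul, add_zero]
    exact W.add_mem hx (W.smul_mem _ hw)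
  by_cases hpair : ∃ w ∈ W, ∃ w' ∈ W, polar Q w' ((g : Matrix ι ι F) *ᵥ w) ≠ 0
  · obtain ⟨w, hw, w', hw', hne⟩ := hpair
    exact omega_le_of_pair hnd P hMK (hWS w' hw') (SS_mulVec hgM (hMK hgM) (hWS w hw)) hne
  push Not at hpair
  obtain ⟨w₀, hw₀, hz⟩ : ∃ w ∈ W, (g : Matrix ι ι F) *ᵥ w ∉ W := by
    by_contra h
    push Not at h
    exact hgH ⟨mem_subspaceStabilizer_of_forall h, hMK hgM⟩
  set z := (g : Matrix ι ι F) *ᵥ w₀ with hzdef
  have hzS : z ∈ SS Q M := SS_mulVec hgM (hMK hgM) (hWS w₀ hw₀)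
  have hzW : ∀ x ∈ W, polar Q x z = 0 := hpair w₀ hw₀
  obtain ⟨φ, hφz, hφW⟩ := Submodule.exists_dual_map_eq_bot_of_notMem hz inferInstance
  obtain ⟨y₀, hy₀⟩ := Classical.Quad.exists_polar hnd ((φ z)⁻¹ • φ)
  have hy₀z : polar Q y₀ z = 1 := by
    rw [hy₀, LinearMap.smul_apply, smul_eq_mul, inv_mul_cancel₀ hφz]
  have hy₀W : ∀ x ∈ W, polar Q x y₀ = 0 := fun x hx => by
    rw [polar_comm, hy₀, LinearMap.smul_apply,
      (Submodule.mem_bot F).1 (hφW ▸ Submodule.mem_map_of_mem hx : φ x ∈ (⊥ : Submodule F F)),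
      smul_zero]
  set y := y₀ + (-(Q y₀)) • z with hy
  have hQy : Q y = 0 := by rw [hy, Classical.Quad.Q_comb1, hzS.1, hy₀z]; ring
  have hyz : polar Q y z = 1 := by
    rw [hy, polar_add_left, polar_smul_left, hy₀z, Classical.Quad.polar_singular_self hzS.1,
      smul_zero, add_zero]
  have hyW : ∀ x ∈ W, polar Q x y = 0 := fun x hx => by
    rw [hy, polar_add_right, polar_smul_right, hy₀W x hx, hzW x hx, smul_zero, add_zero]
  clear_value y
  obtain ⟨w, hwy, hwz, hwW, hQw⟩ : ∃ w, polar Q w y = 0 ∧ polar Q w z = 0 ∧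
      (∀ x ∈ W, polar Q x w = 0) ∧ Q w ≠ 0 := by
    by_contra hcon
    push Not at hcon
    let L : (ι → F) →ₗ[F] (F × F) × (W →ₗ[F] F) :=
      (((polarBilin Q).flip y).prod ((polarBilin Q).flip z)).prod
        ((LinearMap.lcomp F F W.subtype).comp (polarBilin Q))
    set X := LinearMap.ker L with hX
    have hXmem : ∀ x ∈ X, polar Q x y = 0 ∧ polar Q x z = 0 ∧ ∀ v ∈ W, polar Q v x = 0 := by
      intro x hx
      have h := LinearMap.mem_ker.1 hx
      simp only [L, LinearMap.prod_apply, Function.prod_apply, Prod.mk_eq_zero] at h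
      exact ⟨h.1.1, h.1.2, fun v hv => by
        rw [polar_comm]; exact LinearMap.congr_fun h.2 ⟨v, hv⟩⟩
    have hXQ : ∀ x ∈ X, Q x = 0 := fun x hx => hcon x (hXmem x hx).1 (hXmem x hx).2.1 (hXmem x hx).2.2
    have hrange := Submodule.finrank_le (LinearMap.range L)
    rw [Module.finrank_prod, Module.finrank_prod, Module.finrank_self, Subspace.dual_finrank_eq] at hrange
    have hsum := LinearMap.finrank_range_add_finrank_ker L
    rw [Module.finrank_fintype_fun_eq_card, ← hX] at hsum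
    have hz0 : z ≠ 0 := fun e => one_ne_zero (α := F) (by rw [← hyz, e, polar_zero_right])
    have hbig : ∀ U : Submodule F (ι → F), z ∉ U → (∀ x ∈ U, Q x = 0 ∧ polar Q x z = 0) →
        2 * (Module.finrank F U + 1) ≤ Fintype.card ι := by
      intro U hzU hU
      have hts : ∀ x ∈ U ⊔ Submodule.span F {z}, Q x = 0 := by
        intro x hx
        obtain ⟨a, ha, b, hb, rfl⟩ := Submodule.mem_sup.1 hx
        obtain ⟨c, rfl⟩ := Submodule.mem_span_singleton.1 hb
        rw [Classical.Quad.Q_comb1, (hU a ha).1, (hU a ha).2, hzS.1]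
        ring
      have h := two_mul_finrank_le hnd hts
      have h' := Submodule.finrank_sup_add_finrank_inf_eq U (Submodule.span F {z})
      rw [finrank_span_singleton hz0,
        (Submodule.disjoint_span_singleton' hz0).2 hzU |>.eq_bot, finrank_bot] at h'
      omega
    have h1 := hbig X (fun h => one_ne_zero (α := F) (by
      rw [← hyz, polar_comm]; exact (hXmem z h).1)) fun x hx => ⟨hXQ x hx, (hXmem x hx).2.1⟩
    have h2 := hbig W hz fun x hx => ⟨hW x hx, hzW x hx⟩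
    obtain ⟨r, hr⟩ := hn
    omega
  obtain ⟨h, hh, hhx⟩ := exists_sg hnd P hQy (show polar Q y w = 0 by rw [polar_comm]; exact hwy)
  have hhH : h ∈ M := hHM ⟨mem_subspaceStabilizer_of_forall fun x hx => by
    rw [hhx x, hyW x hx, hwW x hx]
    simpa using hx, hh⟩
  refine omega_le_of_pair hnd P hMK hzS (SS_mulVec hhH hh hzS) ?_
  rw [hhx z, polar_comm Q z y, hyz, polar_comm Q z w, hwz, polar_add_right, polar_add_right,
    polar_smul_right, polar_smul_right, Classical.Quad.polar_singular_self hzS.1, polar_comm Q z y,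
    hyz, polar_comm Q z w, hwz]
  simpa using hQw

/-- A frame of the standard odd-dimensional form. -/
def oddFrame {m : ℕ} (hm : 2 ≤ m) : Frame (OrthCrit.oddForm m F) where
  e₁ := Pi.single (.inr (.inl ⟨0, by omega⟩)) 1
  f₁ := Pi.single (.inr (.inr ⟨0, by omega⟩)) 1
  e₂ := Pi.single (.inr (.inl ⟨1, by omega⟩)) 1
  f₂ := Pi.single (.inr (.inr ⟨1, by omega⟩)) 1
  a := Pi.single (.inl ()) 1
  pair₁ := ⟨by simp [Cfsg.quadFormOdd], by simp [Cfsg.quadFormOdd],
    by simp [OrthCrit.polar_oddForm, OrthCrit.polar_plusForm, Pi.single_apply]⟩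
  pair₂ := ⟨by simp [Cfsg.quadFormOdd], by simp [Cfsg.quadFormOdd],
    by simp [OrthCrit.polar_oddForm, OrthCrit.polar_plusForm, Pi.single_apply]⟩
  e₁e₂ := by simp [OrthCrit.polar_oddForm, OrthCrit.polar_plusForm, Pi.single_apply]
  e₁f₂ := by simp [OrthCrit.polar_oddForm, OrthCrit.polar_plusForm, Pi.single_apply]
  f₁e₂ := by simp [OrthCrit.polar_oddForm, OrthCrit.polar_plusForm, Pi.single_apply]
  f₁f₂ := by simp [OrthCrit.polar_oddForm, OrthCrit.polar_plusForm, Pi.single_apply]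
  ae₁ := by simp [OrthCrit.polar_oddForm, OrthCrit.polar_plusForm, Pi.single_apply]
  af₁ := by simp [OrthCrit.polar_oddForm, OrthCrit.polar_plusForm, Pi.single_apply]
  ae₂ := by simp [OrthCrit.polar_oddForm, OrthCrit.polar_plusForm, Pi.single_apply]
  af₂ := by simp [OrthCrit.polar_oddForm, OrthCrit.polar_plusForm, Pi.single_apply]
  Qa := by simp [Cfsg.quadFormOdd, Pi.single_apply]

end CfsgLib.ClassicalMax.OmS
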