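/-
Even-dimensional orthogonal groups: frames for forms given as functions, maximality of parabolics,
stabilisers contained in larger ones.
-/
import Cfsg.Agent.Lib.ClassicalMax.OrthSingular
import Cfsg.Agent.Lib.FormsDisc.Decomp
import Cfsg.Agent.Lib.OrthCrit.MaxSingular
import Cfsg.Agent.Lib.OrthGeom.MaxSingFamilies
set_option autoImplicit false

namespace CfsgLib.ClassicalMax.OmE

open Matrix Cfsg.Geo QuadraticMap Module
open CfsgLib.Classical.Quad (NDPolar Orth Frame IsHPair)

variable {ι : Type} [Fintype ι] [DecidableEq ι] {F : Type*} [Field F]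

/-- A nondegenerate form given as a function, bundled. -/
def qf (Qf : (ι → F) → F) (hQ : IsNondegenerateQuadraticForm Qf) : QuadraticForm F (ι → F) :=
  QuadraticMap.ofPolar Qf (fun a x => by rw [hQ.smul, smul_eq_mul, _root_.sq])
    (fun x x' y => hQ.polar_bilinear.add_left x x' y)
    (fun a x y => by rw [hQ.polar_bilinear.smul_left, smul_eq_mul])

@[simp] theorem coe_qf (Qf : (ι → F) → F) (hQ : IsNondegenerateQuadraticForm Qf) :
    ⇑(qf Qf hQ) = Qf := rfl

theorem ndPolar_qf (Qf : (ι → F) → F) (hQ : IsNondegenerateQuadraticForm Qf) :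
    NDPolar (qf Qf hQ) := by
  intro x hx
  by_contra h
  obtain ⟨-, y, hy⟩ := hQ.nondegenerate x h
  exact hy (hx y)

variable [Fintype F] {Q : QuadraticForm F (ι → F)}

/-- A frame and a totally singular 3-space. -/
theorem exists_frame (hnd : NDPolar Q) (h7 : 7 ≤ Fintype.card ι) :
    Nonempty (Frame Q) ∧
      ∃ U : Submodule F (ι → F), (∀ u ∈ U, Q u = 0) ∧ 3 ≤ finrank F U := by
  obtain ⟨k, r, e, f, W, hn, hr, hfam, -, -, -, -⟩ :=
    FormsDisc.exists_decomp (Fintype.card ι) Q hnd (by rw [finrank_fintype_fun_eq_card])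
  have hk : 3 ≤ k := by omega
  set i0 : Fin k := ⟨0, by omega⟩ with hi0
  set i1 : Fin k := ⟨1, by omega⟩ with hi1
  set i2 : Fin k := ⟨2, by omega⟩ with hi2
  have h01 : i0 ≠ i1 := by simp [i0, i1, Fin.ext_iff]
  have h02 : i0 ≠ i2 := by simp [i0, i2, Fin.ext_iff]
  have h12 : i1 ≠ i2 := by simp [i1, i2, Fin.ext_iff]
  have hee := fun i j => (hfam.iso i j).1
  have hff := fun i j => (hfam.iso i j).2
  have hef : ∀ i j, i ≠ j → polar Q (e i) (f j) = 0 := fun i j h => by rw [hfam.pair, if_neg h]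
  have hfe : ∀ i j, i ≠ j → polar Q (f i) (e j) = 0 := fun i j h => by
    rw [polar_comm]; exact hef j i h.symm
  have hef1 : ∀ i, polar Q (e i) (f i) = 1 := fun i => by rw [hfam.pair, if_pos rfl]
  refine ⟨⟨{ e₁ := e i0, f₁ := f i0, e₂ := e i1, f₂ := f i1, a := e i2 + f i2
             pair₁ := ⟨(hfam.sing _).1, (hfam.sing _).2, hef1 _⟩
             pair₂ := ⟨(hfam.sing _).1, (hfam.sing _).2, hef1 _⟩
             e₁e₂ := hee _ _, e₁f₂ := hef _ _ h01, f₁e₂ := hfe _ _ h01, f₁f₂ := hff _ _
             ae₁ := by rw [polar_add_left, hee, hfe _ _ h02.symm, add_zero]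
             af₁ := by rw [polar_add_left, hef _ _ h02.symm, hff, add_zero]
             ae₂ := by rw [polar_add_left, hee, hfe _ _ h12.symm, add_zero]
             af₂ := by rw [polar_add_left, hef _ _ h12.symm, hff, add_zero]
             Qa := by rw [QuadraticMap.map_add (⇑Q), (hfam.sing _).1, (hfam.sing _).2, hef1]
                      simp }⟩, ?_⟩
  refine ⟨Submodule.span F (Set.range e), ?_, ?_⟩
  · intro u hu
    have ho : ∀ x ∈ Submodule.span F (Set.range e), ∀ j, polar Q x (e j) = 0 := by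
      intro x hx j
      induction hx using Submodule.span_induction with
      | mem x hx => obtain ⟨i, rfl⟩ := hx; exact hee i j
      | zero => exact polar_zero_left _ _
      | add x y _ _ hx hy => rw [polar_add_left, hx, hy, add_zero]
      | smul c x _ hx => rw [polar_smul_left, hx, smul_zero]
    have hoo : ∀ x ∈ Submodule.span F (Set.range e), ∀ y ∈ Submodule.span F (Set.range e),
        polar Q x y = 0 := by
      intro x hx y hy
      induction hy using Submodule.span_induction with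
      | mem y hy => obtain ⟨i, rfl⟩ := hy; exact ho x hx i
      | zero => exact polar_zero_right _ _
      | add a b _ _ ha hb => rw [polar_add_right, ha, hb, add_zero]
      | smul c a _ ha => rw [polar_smul_right, ha, smul_zero]
    induction hu using Submodule.span_induction with
    | mem x hx => obtain ⟨i, rfl⟩ := hx; exact (hfam.sing i).1
    | zero => exact map_zero Q
    | add x y hx hy a b => rw [QuadraticMap.map_add (⇑Q), a, b, hoo x hx y hy]; simp
    | smul c x _ a => rw [QuadraticMap.map_smul, a, smul_zero]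
  · rw [finrank_span_eq_card ?_, Fintype.card_fin]
    · exact hk
    rw [Fintype.linearIndependent_iff]
    intro g hg i
    have h := congrArg (fun x => polarBilin Q x (f i)) hg
    simp [map_sum, hfam.pair] at h
    exact h

omit [Fintype F] in
theorem ts_polar {W : Submodule F (ι → F)} (hW : ∀ w ∈ W, Q w = 0) {a b : ι → F} (ha : a ∈ W)
    (hb : b ∈ W) : polar Q a b = 0 := by
  rw [polar, hW a ha, hW b hb, hW _ (W.add_mem ha hb), sub_zero, sub_zero]

theorem subspace_ne_top (hnd : NDPolar Q) [Nonempty ι] {W : Submodule F (ι → F)}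
    (hW : ∀ w ∈ W, Q w = 0) : W ≠ ⊤ := by
  intro h
  have := OmS.two_mul_finrank_le hnd hW
  rw [h, finrank_top, Module.finrank_fintype_fun_eq_card] at this
  have := Fintype.card_pos (α := ι)
  omega

/-- Stabilisers of totally singular subspaces which are not one short of half the dimension. -/
theorem singular_stabilizer_maximal (hnd : NDPolar Q) (P : Frame Q) [Nonempty ι]
    {W : Submodule F (ι → F)} (hW0 : W ≠ ⊥) (hW : ∀ w ∈ W, Q w = 0)
    (hcrit : ∀ U : Submodule F (ι → F), (∀ u ∈ U, Q u = 0) →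
      2 * (finrank F W + 1) = Fintype.card ι → 2 * finrank F U ≠ Fintype.card ι) :
    IsMaximalIn (omegaGL ⇑Q) (subspaceStabilizer W ⊓ omegaGL ⇑Q) := by
  classical
  refine CfsgLib.ClassicalMax.isMaximalIn_of inf_le_right ?_ ?_
  · obtain ⟨g, hg, hg'⟩ := SetLike.not_le_iff_exists.1
      (Asch.omega_not_le_subspace hnd P hW0 (subspace_ne_top hnd hW))
    exact ⟨g, hg, fun h => hg' h.1⟩
  intro M hHM hMK g hgM hgH
  have hWS : ∀ w ∈ W, w ∈ OmS.SS Q M := by
    refine fun w hw => ⟨hW w hw, fun v hv => ?_⟩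
    obtain ⟨h, hh, hhx⟩ := OmS.exists_sg hnd P (hW w hw) hv
    refine ⟨h, hHM ⟨mem_subspaceStabilizer_of_forall fun x hx => ?_, hh⟩, hhx⟩
    rw [hhx x, ts_polar hW hx hw, zero_smul, add_zero]
    exact W.add_mem hx (W.smul_mem _ hw)
  by_cases hpair : ∃ w ∈ W, ∃ w' ∈ W, polar Q w' ((g : Matrix ι ι F) *ᵥ w) ≠ 0
  · obtain ⟨w, hw, w', hw', hne⟩ := hpair
    exact OmS.omega_le_of_pair hnd P hMK (hWS w' hw')
      (OmS.SS_mulVec hgM (hMK hgM) (hWS w hw)) hne
  push Not at hpair
  obtain ⟨w₀, hw₀, hz⟩ : ∃ w ∈ W, (g : Matrix ι ι F) *ᵥ w ∉ W := by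
    by_contra h
    push Not at h
    exact hgH ⟨mem_subspaceStabilizer_of_forall h, hMK hgM⟩
  set z := (g : Matrix ι ι F) *ᵥ w₀ with hzdef
  have hzS : z ∈ OmS.SS Q M := OmS.SS_mulVec hgM (hMK hgM) (hWS w₀ hw₀)
  have hzW : ∀ x ∈ W, polar Q x z = 0 := hpair w₀ hw₀
  obtain ⟨φ, hφz, hφW⟩ := Submodule.exists_dual_map_eq_bot_of_notMem hz inferInstance
  obtain ⟨y₀, hy₀⟩ := Classical.Quad.exists_polar hnd ((φ z)⁻¹ • φ)
  have hy₀z : polar Q y₀ z = 1 := by
    rw [hy₀, LinearMap.smul_apply, smul_eq_mul, inv_mul_cancel₀ hφz]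
  have hy₀W : ∀ x ∈ W, polar Q x y₀ = 0 := fun x hx => by
    rw [polar_comm, hy₀, LinearMap.smul_apply,
      (Submodule.mem_bot F).1 (hφW ▸ Submodule.mem_map_of_mem hx : φ x ∈ (⊥ : Submodule F F)),
      smul_zero]
  set y := y₀ + (-(Q y₀)) • z with hy
  have hQy : Q y = 0 := by rw [hy, Classical.Quad.Q_comb1, hzS.1, hy₀z]; ring
  have hyz : polar Q y z = 1 := by
    rw [hy, polar_add_left, polar_smul_left, hy₀z, Classical.Quad.polar_singular_self hzS.1,
      smul_zero, add_zero]
  have hyW : ∀ x ∈ W, polar Q x y = 0 := fun x hx => by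
    rw [hy, polar_add_right, polar_smul_right, hy₀W x hx, hzW x hx, smul_zero, add_zero]
  clear_value y
  obtain ⟨w, hwy, hwz, hwW, hQw⟩ : ∃ w, polar Q w y = 0 ∧ polar Q w z = 0 ∧
      (∀ x ∈ W, polar Q x w = 0) ∧ Q w ≠ 0 := by
    by_contra hcon
    push Not at hcon
    let L : (ι → F) →ₗ[F] (F × F) × (W →ₗ[F] F) :=
      (((polarBilin Q).flip y).prod ((polarBilin Q).flip z)).prod
        ((LinearMap.lcomp F F W.subtype).comp (polarBilin Q))
    set X := LinearMap.ker L with hX
    have hXmem : ∀ x ∈ X, polar Q x y = 0 ∧ polar Q x z = 0 ∧ ∀ v ∈ W, polar Q v x = 0 := by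
      intro x hx
      have h := LinearMap.mem_ker.1 hx
      simp only [L, LinearMap.prod_apply, Function.prod_apply, Prod.mk_eq_zero] at h
      exact ⟨h.1.1, h.1.2, fun v hv => by
        rw [polar_comm]; exact LinearMap.congr_fun h.2 ⟨v, hv⟩⟩
    have hXQ : ∀ x ∈ X, Q x = 0 := fun x hx =>
      hcon x (hXmem x hx).1 (hXmem x hx).2.1 (hXmem x hx).2.2
    have hrange := Submodule.finrank_le (LinearMap.range L)
    rw [Module.finrank_prod, Module.finrank_prod, Module.finrank_self, Subspace.dual_finrank_eq]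
      at hrange
    have hsum := LinearMap.finrank_range_add_finrank_ker L
    rw [Module.finrank_fintype_fun_eq_card, ← hX] at hsum
    have hz0 : z ≠ 0 := fun e => one_ne_zero (α := F) (by rw [← hyz, e, polar_zero_right])
    have hbig : ∀ U : Submodule F (ι → F), z ∉ U → (∀ x ∈ U, Q x = 0 ∧ polar Q x z = 0) →
        (∀ x ∈ U ⊔ Submodule.span F {z}, Q x = 0) ∧
          finrank F ↥(U ⊔ Submodule.span F {z}) = finrank F U + 1 := by
      intro U hzU hU
      exact ⟨OrthGeom.singular_sup_span (fun x hx => (hU x hx).1) hzS.1 fun a ha => (hU a ha).2,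
        OrthGeom.finrank_sup_span hzU⟩
    obtain ⟨hs1, hd1⟩ := hbig X (fun h => one_ne_zero (α := F) (by
      rw [← hyz, polar_comm]; exact (hXmem z h).1)) fun x hx => ⟨hXQ x hx, (hXmem x hx).2.1⟩
    obtain ⟨hs2, hd2⟩ := hbig W hz fun x hx => ⟨hW x hx, hzW x hx⟩
    have h1 := OmS.two_mul_finrank_le hnd hs1
    have h2 := OmS.two_mul_finrank_le hnd hs2
    exact hcrit _ hs2 (by omega) (by omega)
  obtain ⟨h, hh, hhx⟩ := OmS.exists_sg hnd P hQy
    (show polar Q y w = 0 by rw [polar_comm]; exact hwy)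
  have hhH : h ∈ M := hHM ⟨mem_subspaceStabilizer_of_forall fun x hx => by
    rw [hhx x, hyW x hx, hwW x hx]
    simpa using hx, hh⟩
  refine OmS.omega_le_of_pair hnd P hMK hzS (OmS.SS_mulVec hhH hh hzS) ?_
  rw [hhx z, polar_comm Q z y, hyz, polar_comm Q z w, hwz, polar_add_right, polar_add_right,
    polar_smul_right, polar_smul_right, Classical.Quad.polar_singular_self hzS.1, polar_comm Q z y,
    hyz, polar_comm Q z w, hwz]
  simpa using hQw

/-- Elements of `Ω` keep both families of maximal singular subspaces. -/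
theorem omega_family (hnd : NDPolar Q) (h7 : 7 ≤ Fintype.card ι) {U : Submodule F (ι → F)}
    (hU : ∀ x ∈ U, Q x = 0) (hm : Fintype.card ι = 2 * finrank F U) {g : GL ι F}
    (hg : g ∈ omegaGL ⇑Q) :
    Even (finrank F U - finrank F ↥(U ⊓ U.map (Matrix.mulVecLin (g : Matrix ι ι F)))) := by
  obtain ⟨γ, hγ, rfl⟩ := hg
  have hreg : OrthCrit.Regular F ι := Or.inr (by omega)
  exact (OrthCrit.even_sub_finrank_inf_map hnd hreg hU rfl hm γ).2
    (OrthCrit.parity_of_mem_Omega hnd hreg hγ)

/-- Through a submaximal singular subspace of a split space: the stabiliser grows. -/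
theorem submaximal_not_maximal (hnd : NDPolar Q) (P : Frame Q) (h7 : 7 ≤ Fintype.card ι)
    {U₀ : Submodule F (ι → F)} (hU₀ : ∀ x ∈ U₀, Q x = 0) (hU₀d : 2 * finrank F U₀ = Fintype.card ι)
    {W : Submodule F (ι → F)} (hW : ∀ w ∈ W, Q w = 0)
    (hd : 2 * (finrank F W + 1) = Fintype.card ι) :
    ∃ K, subspaceStabilizer W ⊓ omegaGL ⇑Q < K ∧ K < omegaGL ⇑Q := by
  classical
  haveI : Nonempty ι := Fintype.card_pos_iff.1 (by omega)
  obtain ⟨z, hzQ, hzW, hzo⟩ : ∃ z, Q z = 0 ∧ z ∉ W ∧ ∀ a ∈ W, polar Q a z = 0 := by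
    by_contra hcon
    push Not at hcon
    set Ψ : U₀ →ₗ[F] Module.Dual F W :=
      ((LinearMap.lcomp F F W.subtype).comp (polarBilin Q)).comp U₀.subtype with hΨ
    have hker : LinearMap.ker Ψ ≤ (W ⊓ U₀).comap U₀.subtype := by
      intro x hx
      refine ⟨?_, x.2⟩
      by_contra h
      obtain ⟨a, ha, hne⟩ := hcon x (hU₀ x x.2) h
      exact hne (by rw [polar_comm]; exact LinearMap.congr_fun (LinearMap.mem_ker.1 hx) ⟨a, ha⟩)
    have hW0range : LinearMap.range Ψ ≤ ((W ⊓ U₀).comap W.subtype).dualAnnihilator := by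
      rintro _ ⟨x, rfl⟩
      rw [Submodule.mem_dualAnnihilator]
      intro a ha
      exact ts_polar hU₀ x.2 ha.2
    have h1 := Submodule.finrank_mono hker
    have h2 := Submodule.finrank_mono hW0range
    have h3 := LinearMap.finrank_range_add_finrank_ker Ψ
    have h4 := Subspace.finrank_add_finrank_dualAnnihilator_eq ((W ⊓ U₀).comap W.subtype)
    rw [(Submodule.comapSubtypeEquivOfLe (inf_le_left : W ⊓ U₀ ≤ W)).finrank_eq] at h4
    rw [(Submodule.comapSubtypeEquivOfLe (inf_le_right : W ⊓ U₀ ≤ U₀)).finrank_eq] at h1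
    omega
  set U := W ⊔ Submodule.span F {z} with hUdef
  have hUs : ∀ x ∈ U, Q x = 0 := OrthGeom.singular_sup_span hW hzQ hzo
  have hUd : finrank F U = finrank F W + 1 := OrthGeom.finrank_sup_span hzW
  have hWU : W ≤ U := le_sup_left
  have hzU : z ∈ U := Submodule.mem_sup_right (Submodule.mem_span_singleton_self z)
  refine ⟨subspaceStabilizer U ⊓ omegaGL ⇑Q, ?_, ?_⟩
  · have hle : subspaceStabilizer W ⊓ omegaGL ⇑Q ≤ subspaceStabilizer U ⊓ omegaGL ⇑Q := by
      rintro g ⟨hgW, hgo⟩
      refine ⟨mem_subspaceStabilizer_of_forall fun x hx => ?_, hgo⟩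
      by_contra hne
      set L := Matrix.mulVecLin (g : Matrix ι ι F)
      have hev := omega_family hnd h7 hUs (by omega) hgo
      have hge : finrank F W ≤ finrank F ↥(U ⊓ U.map L) := by
        refine Submodule.finrank_mono (le_inf hWU fun a ha => ?_)
        obtain ⟨a', ha', e⟩ := exists_preimage_mem (fun v hv => (hgW v).1 hv) ha
        exact ⟨a', hWU ha', e⟩
      have hlt : finrank F ↥(U ⊓ U.map L) < finrank F U := by
        refine Submodule.finrank_lt_finrank_of_lt (lt_of_le_of_ne inf_le_left fun e => hne ?_)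
        have hle' : U ≤ U.map L := inf_eq_left.1 e
        have := Submodule.eq_of_le_of_finrank_le hle' (Submodule.finrank_map_le L U)
        exact this ▸ ⟨x, hx, rfl⟩
      rw [hUd, show finrank F ↥(U ⊓ U.map L) = finrank F W by omega] at hev
      simp at hev
    obtain ⟨w₀, hw₀, hw₀0⟩ := Submodule.exists_mem_ne_zero_of_ne_bot (p := W) fun h => by
      rw [h, finrank_bot] at hd; omega
    have hzw : w₀ ∉ Submodule.span F {z} := fun h => by
      obtain ⟨c, rfl⟩ := Submodule.mem_span_singleton.1 h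
      have hc : c ≠ 0 := fun h => hw₀0 (by rw [h, zero_smul])
      exact hzW (by simpa [smul_smul, inv_mul_cancel₀ hc] using W.smul_mem c⁻¹ hw₀)
    obtain ⟨l, hl, hlw⟩ := Forms.exists_dual_eq (Submodule.span F {z}) hzw (1 : F)
    obtain ⟨w, hw⟩ := Classical.Quad.exists_polar hnd l
    have hzw' : polar Q z w = 0 := by
      rw [polar_comm, hw, hl z (Submodule.mem_span_singleton_self z)]
    obtain ⟨h, hh, hhx⟩ := OmS.exists_sg hnd P hzQ hzw'
    refine lt_of_le_of_ne hle fun e => ?_
    have hmem : h ∈ subspaceStabilizer U ⊓ omegaGL ⇑Q := by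
      refine ⟨mem_subspaceStabilizer_of_forall fun x hx => ?_, hh⟩
      rw [hhx x, ts_polar hUs hx hzU, zero_smul, add_zero]
      exact U.add_mem hx (U.smul_mem _ hzU)
    rw [← e] at hmem
    have h1 : (h : Matrix ι ι F) *ᵥ w₀ ∈ W := (hmem.1 w₀).1 hw₀
    rw [hhx w₀, ts_polar hUs (hWU hw₀) hzU, zero_smul, add_zero, mul_zero, sub_zero,
      polar_comm Q w₀ w, hw, hlw, Submodule.add_mem_iff_right _ hw₀] at h1
    exact hzW (by simpa using W.neg_mem h1)
  · refine lt_of_le_of_ne inf_le_right fun e => ?_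
    refine Asch.omega_not_le_subspace hnd P (fun h => ?_) (subspace_ne_top hnd hUs)
      (inf_eq_right.1 e)
    rw [h] at hUd; simp at hUd

/-- Two complementary singular halves of odd dimension: the stabiliser fixes each. -/
theorem singular_pair_not_maximal (hnd : NDPolar Q) (P : Frame Q) (h7 : 7 ≤ Fintype.card ι)
    {k : ℕ} (hk : 2 * k = Fintype.card ι) (hko : Odd k) {D : Fin 2 → Submodule F (ι → F)}
    (hD : IsMDecomposition k D) (hts : ∀ i, ∀ x ∈ D i, Q x = 0) :
    ∃ K, decompositionStabilizer D ⊓ omegaGL ⇑Q < K ∧ K < omegaGL ⇑Q := by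
  classical
  haveI : Nonempty ι := Fintype.card_pos_iff.1 (by omega)
  have hdis : D 0 ⊓ D 1 = ⊥ := disjoint_iff.1 (hD.indep.pairwiseDisjoint (by decide : (0 : Fin 2) ≠ 1))
  have hdim := hD.finrank_eq
  refine ⟨subspaceStabilizer (D 0) ⊓ omegaGL ⇑Q, ?_, ?_⟩
  · have hle : decompositionStabilizer D ⊓ omegaGL ⇑Q ≤ subspaceStabilizer (D 0) ⊓ omegaGL ⇑Q := by
      rintro g ⟨⟨σ, hσ⟩, hgo⟩
      have h0 : σ 0 = 0 := by
        by_contra hne
        have h1 : σ 0 = 1 := by omega
        have hev := omega_family hnd h7 (hts 0) (by rw [hdim]; omega) hgo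
        have hm : (D 0).map (Matrix.mulVecLin (g : Matrix ι ι F)) = D 1 := by rw [← h1]; exact hσ 0
        rw [hm, hdis, hdim] at hev
        simp only [finrank_bot, tsub_zero] at hev
        exact (Nat.not_even_iff_odd.2 hko) hev
      refine ⟨mem_subspaceStabilizer_of_forall fun x hx => ?_, hgo⟩
      have := hσ 0
      rw [h0] at this
      rw [← this]
      exact ⟨x, hx, rfl⟩
    obtain ⟨u, hu, hu0⟩ := Submodule.exists_mem_ne_zero_of_ne_bot (p := D 0) fun h => by
      have := hdim 0; rw [h, finrank_bot] at this; omega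
    obtain ⟨x, hx, hxu⟩ : ∃ x ∈ D 1, polar Q x u ≠ 0 := by
      by_contra hc
      push Not at hc
      refine hu0 (hnd u fun y => ?_)
      obtain ⟨a, ha, b, hb, rfl⟩ : ∃ a ∈ D 0, ∃ b ∈ D 1, a + b = y := by
        have : y ∈ D 0 ⊔ D 1 := by
          have he : iSup D = D 0 ⊔ D 1 := le_antisymm
            (iSup_le fun i => by fin_cases i <;> simp) (sup_le (le_iSup D 0) (le_iSup D 1))
          rw [← he, hD.iSup_eq_top]; trivial
        exact Submodule.mem_sup.1 this
      rw [polar_add_right, ts_polar (hts 0) hu ha, polar_comm, hc b hb, add_zero]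
    obtain ⟨w, hw, hwu⟩ : ∃ w ∈ D 0, w ∉ Submodule.span F {u} := by
      by_contra hc
      push Not at hc
      have h1 := Submodule.finrank_mono (show D 0 ≤ Submodule.span F {u} from hc)
      rw [finrank_span_singleton hu0, hdim] at h1
      omega
    obtain ⟨h, hh, hhx⟩ := OmS.exists_sg hnd P (hts 0 u hu) (ts_polar (hts 0) hu hw)
    refine lt_of_le_of_ne hle fun e => ?_
    have hmem : h ∈ subspaceStabilizer (D 0) ⊓ omegaGL ⇑Q := by
      refine ⟨mem_subspaceStabilizer_of_forall fun a ha => ?_, hh⟩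
      rw [hhx a, ts_polar (hts 0) ha hu, zero_smul, add_zero]
      exact (D 0).add_mem ha ((D 0).smul_mem _ hu)
    rw [← e] at hmem
    obtain ⟨σ, hσ⟩ := hmem.1
    have h00 : (D 0).map (Matrix.toLin' (h : Matrix ι ι F)) = D 0 := by
      refine Submodule.eq_of_le_of_finrank_le ?_ ?_
      · rintro _ ⟨a, ha, rfl⟩
        rw [Matrix.toLin'_apply, hhx a, ts_polar (hts 0) ha hu, zero_smul, add_zero]
        exact (D 0).add_mem ha ((D 0).smul_mem _ hu)
      · exact ((D 0).equivMapOfInjective _ (gl_mulVec_injective h)).finrank_eq.le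
    have h1 : σ 1 = 1 := by
      have hσ0 : σ 0 = 0 := by
        by_contra hne
        have h01 : σ 0 = 1 := by omega
        have : D 0 = D 1 := by rw [← h00, hσ 0, h01]
        rw [this, inf_idem] at hdis
        have := hdim 1; rw [hdis, finrank_bot] at this; omega
      by_contra hne
      exact absurd (σ.injective (show σ 1 = σ 0 by omega)) (by decide)
    have hx1 : (h : Matrix ι ι F) *ᵥ x ∈ D 1 := by
      have := hσ 1
      rw [h1] at this
      rw [← this]
      exact ⟨x, hx, rfl⟩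
    rw [hhx x, add_assoc, Submodule.add_mem_iff_right _ hx] at hx1
    have hz : _ = (0 : ι → F) := (Submodule.mem_bot F).1 (hdis ▸
      Submodule.mem_inf.2 ⟨(D 0).add_mem ((D 0).smul_mem _ hw) ((D 0).smul_mem _ hu), hx1⟩)
    refine hwu ?_
    rw [← inv_smul_smul₀ hxu w, eq_neg_of_add_eq_zero_left hz]
    exact Submodule.smul_mem _ _ (neg_mem (Submodule.smul_mem _ _
      (Submodule.mem_span_singleton_self u)))
  · refine lt_of_le_of_ne inf_le_right fun e => ?_
    refine Asch.omega_not_le_subspace hnd P (fun h => ?_) (subspace_ne_top hnd (hts 0))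
      (inf_eq_right.1 e)
    have := hdim 0; rw [h, finrank_bot] at this; omega

/-- Over two elements the stabiliser of a hyperbolic plane fixes a nonsingular point. -/
theorem plane_two_not_maximal (hnd : NDPolar Q) (P : Frame Q) (h2 : Fintype.card F = 2)
    (h7 : 7 ≤ Fintype.card ι) {W : Submodule F (ι → F)} (hdim : finrank F W = 2)
    (hW : IsNondegenerateOn (polar ⇑Q) W) (hplus : IsPlusTypeOn ⇑Q W) :
    ∃ K, subspaceStabilizer W ⊓ omegaGL ⇑Q < K ∧ K < omegaGL ⇑Q := by
  classical
  haveI : Nonempty ι := Fintype.card_pos_iff.1 (by omega)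
  have two : (2 : F) = 0 := by
    have := Nat.cast_card_eq_zero F
    rw [h2] at this; exact_mod_cast this
  have hbool : ∀ c : F, c = 0 ∨ c = 1 := by
    intro c
    by_contra hc
    push Not at hc
    have h3 : ({0, 1, c} : Finset F).card = 3 :=
      Finset.card_eq_three.2 ⟨0, 1, c, zero_ne_one, hc.1.symm, hc.2.symm, rfl⟩
    have := Finset.card_le_univ ({0, 1, c} : Finset F)
    omega
  obtain ⟨U, hUW, hUs, hU⟩ := hplus
  obtain ⟨u, hu, hu0⟩ := Submodule.exists_mem_ne_zero_of_ne_bot (p := U) fun h => by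
    rw [h, finrank_bot, hdim] at hU; omega
  obtain ⟨-, z, hz, huz⟩ := hW u (hUW hu) hu0
  have huz1 : polar Q u z = 1 := (hbool _).resolve_left huz
  obtain ⟨v, hvW, hQv, huv⟩ : ∃ v ∈ W, Q v = 0 ∧ polar Q u v = 1 := by
    have huu := Classical.Quad.polar_singular_self (hUs u hu)
    refine ⟨z + (-(Q z)) • u, W.add_mem hz (W.smul_mem _ (hUW hu)), ?_, ?_⟩
    · rw [Classical.Quad.Q_comb1, hUs u hu, polar_comm Q z u, huz1]; ring
    · rw [polar_add_right, polar_smul_right, huz1, huu, smul_zero, add_zero]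
  set p := u + v with hp
  have hQp : Q p = 1 := by rw [hp, QuadraticMap.map_add (⇑Q), hUs u hu, hQv, huv]; ring
  have hpW : p ∈ W := W.add_mem (hUW hu) hvW
  have hp0 : p ≠ 0 := fun h => one_ne_zero (α := F) (by rw [← hQp, h, map_zero Q])
  have hpp : polar Q p p = 0 := by rw [Classical.Quad.polar_self', two, zero_mul]
  have huW : polar Q u p = 1 := by
    rw [hp, polar_add_right, Classical.Quad.polar_singular_self (hUs u hu), huv, zero_add]
  have huvli : LinearIndependent F ![u, v] := (LinearIndependent.pair_iff' hu0).2 fun t ht =>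
    one_ne_zero (α := F) (by
      rw [← huv, ← ht, polar_smul_right, Classical.Quad.polar_singular_self (hUs u hu), smul_zero])
  have hspan : Submodule.span F (Set.range ![u, v]) = W :=
    Submodule.eq_of_le_of_finrank_eq (Submodule.span_le.2 (Set.range_subset_iff.2
      (Fin.forall_fin_two.2 ⟨hUW hu, hvW⟩))) (by rw [finrank_span_eq_card huvli, hdim]; simp)
  have hWp : ∀ x ∈ W, Q x = 1 → x = p := by
    intro x hx h1
    rw [← hspan, Submodule.mem_span_range_iff_exists_fun] at hx
    obtain ⟨c, rfl⟩ := hx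
    simp only [Fin.sum_univ_two, Matrix.cons_val_zero, Matrix.cons_val_one] at h1 ⊢
    rw [QuadraticMap.map_add (⇑Q), QuadraticMap.map_smul, QuadraticMap.map_smul, hUs u hu, hQv,
      polar_smul_left, polar_smul_right, huv] at h1
    rcases hbool (c 0) with h | h <;> rcases hbool (c 1) with h' | h' <;> simp_all
  refine ⟨subspaceStabilizer (Submodule.span F {p}) ⊓ omegaGL ⇑Q, ?_, ?_⟩
  · have hle : subspaceStabilizer W ⊓ omegaGL ⇑Q ≤
        subspaceStabilizer (Submodule.span F {p}) ⊓ omegaGL ⇑Q := by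
      rintro g ⟨hgW, hgo⟩
      refine ⟨mem_subspaceStabilizer_of_forall fun x hx => ?_, hgo⟩
      obtain ⟨c, rfl⟩ := Submodule.mem_span_singleton.1 hx
      have hp1 : (g : Matrix ι ι F) *ᵥ p ∈ W := (hgW p).1 hpW
      rw [mulVec_smul, hWp _ hp1 (by rw [OmS.omega_iso hgo, hQp])]
      exact Submodule.smul_mem _ _ (Submodule.mem_span_singleton_self p)
    -- a singular vector orthogonal to the plane
    set Wo := LinearMap.ker (((polarBilin Q).flip u).prod ((polarBilin Q).flip v)) with hWo
    have hWod : 3 ≤ finrank F Wo := by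
      have h1 := LinearMap.finrank_range_add_finrank_ker
        (((polarBilin Q).flip u).prod ((polarBilin Q).flip v))
      have h2 := Submodule.finrank_le
        (LinearMap.range (((polarBilin Q).flip u).prod ((polarBilin Q).flip v)))
      rw [finrank_prod, finrank_self] at h2
      rw [finrank_fintype_fun_eq_card] at h1
      rw [hWo]; omega
    obtain ⟨s', hs0', hs'⟩ := FormsDisc.exists_singular_of_three (Q.comp Wo.subtype) hWod
    obtain ⟨s, hs0, hs, hsu⟩ : ∃ s : ι → F, s ≠ 0 ∧ Q s = 0 ∧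
        (polar Q s u = 0 ∧ polar Q s v = 0) := by
      refine ⟨(s' : ι → F), fun h => hs0' (Subtype.ext h), hs', ?_⟩
      have h : ((polarBilin Q).flip u (s' : ι → F), (polarBilin Q).flip v (s' : ι → F))
          = ((0 : F), (0 : F)) := LinearMap.mem_ker.1 s'.2
      exact ⟨congrArg Prod.fst h, congrArg Prod.snd h⟩
    have hsW : s ∉ W := by
      intro h
      have hne := hs0
      obtain ⟨-, y, hy, hsy⟩ := hW _ h hne
      rw [← hspan, Submodule.mem_span_range_iff_exists_fun] at hy
      obtain ⟨c, rfl⟩ := hy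
      simp [Fin.sum_univ_two, hsu.1, hsu.2] at hsy
    have hsp : polar Q s p = 0 := by rw [hp, polar_add_right, hsu.1, hsu.2, add_zero]
    obtain ⟨h, hh, hhx⟩ := OmS.exists_sg hnd P hs hsp
    refine lt_of_le_of_ne hle fun e => ?_
    have hmem : h ∈ subspaceStabilizer (Submodule.span F {p}) ⊓ omegaGL ⇑Q := by
      refine ⟨mem_subspaceStabilizer_of_forall fun x hx => ?_, hh⟩
      obtain ⟨c, rfl⟩ := Submodule.mem_span_singleton.1 hx
      rw [mulVec_smul, hhx p, polar_comm Q p s, hsp, hpp]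
      simpa using Submodule.smul_mem _ _ (Submodule.mem_span_singleton_self p)
    rw [← e] at hmem
    have h1 : (h : Matrix ι ι F) *ᵥ u ∈ W := (hmem.1 u).1 (hUW hu)
    rw [hhx u, polar_comm Q u s, hsu.1, huW, zero_smul, add_zero, mul_zero, sub_zero,
      Submodule.add_mem_iff_right _ (hUW hu)] at h1
    exact hsW (by simpa using W.neg_mem h1)
  · refine lt_of_le_of_ne inf_le_right fun e => ?_
    refine Asch.omega_not_le_subspace hnd P ?_ ?_ (inf_eq_right.1 e)
    · rw [Ne, Submodule.span_singleton_eq_bot]; exact hp0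
    · intro h
      have := finrank_span_singleton (K := F) hp0
      rw [h, finrank_top, finrank_fintype_fun_eq_card] at this
      omega

end CfsgLib.ClassicalMax.OmE
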