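/-
The orthogonal group in three dimensions over three elements is monomial.
-/
import Cfsg.Agent.Lib.ClassicalMax.Tv
set_option autoImplicit false

namespace CfsgLib.ClassicalMax.OrthThree

open Matrix Cfsg.Geo

variable {ι : Type} [Fintype ι] [DecidableEq ι] {F : Type*} [Field F]

lemma cases_three [Fintype F] (hq : Fintype.card F = 3) (x : F) : x = 0 ∨ x = 1 ∨ x = -1 := by
  rcases eq_or_ne x 0 with h | h
  · exact Or.inl h
  refine Or.inr (sq_eq_one_iff.1 ?_)
  have := FiniteField.pow_card_sub_one_eq_one x h
  rw [hq] at this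
  simpa using this

lemma three_eq_zero [Fintype F] (hq : Fintype.card F = 3) : (3 : F) = 0 := by
  have := FiniteField.cast_card_eq_zero F
  rw [hq] at this
  simpa using this

lemma two_ne_zero' [Fintype F] (hq : Fintype.card F = 3) : (2 : F) ≠ 0 := fun h =>
  one_ne_zero (α := F) (by linear_combination three_eq_zero hq - h)

/-- An orthogonal basis of a three-dimensional subspace with equal values. -/
structure IsTriple (f : (ι → F) → (ι → F) → F) (W : Submodule F (ι → F)) (d : F)
    (u : Fin 3 → ι → F) : Prop where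
  d_ne : d ≠ 0
  mem : ∀ k, u k ∈ W
  form : ∀ k l, f (u k) (u l) = if k = l then d else 0
  li : LinearIndependent F u
  span : ∀ x ∈ W, ∃ a : Fin 3 → F, ∑ k, a k • u k = x
  line : ∀ x ∈ W, f x x = d → ∃ k, ∃ c : F, x = c • u k

variable {f : (ι → F) → (ι → F) → F}

lemma form_sum (hf : IsBilinearForm f) {d : F} {u : Fin 3 → ι → F}
    (hu : ∀ k l, f (u k) (u l) = if k = l then d else 0) (a b : Fin 3 → F) :
    f (∑ k, a k • u k) (∑ k, b k • u k) = d * (a 0 * b 0 + a 1 * b 1 + a 2 * b 2) := by
  simp [Fin.sum_univ_three, hf.add_left, hf.add_right, hf.smul_left, hf.smul_right, hu]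
  ring

lemma isTriple_of [Fintype F] (hq : Fintype.card F = 3) (hf : IsBilinearForm f)
    {W : Submodule F (ι → F)} (hdim : Module.finrank F W = 3) {d : F} (hd : d ≠ 0)
    {u : Fin 3 → ι → F} (hmem : ∀ k, u k ∈ W)
    (hu : ∀ k l, f (u k) (u l) = if k = l then d else 0) : IsTriple f W d u := by
  have hli : LinearIndependent F u := Fintype.linearIndependent_iff.2 fun a ha k => by
    have h0 : f (0 : ι → F) (u k) = 0 := by simpa using hf.smul_left 0 0 (u k)
    have h := form_sum hf hu a (fun l => if l = k then 1 else 0)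
    rw [show (∑ l, (if l = k then (1 : F) else 0) • u l) = u k by simp, ha, h0] at h
    fin_cases k <;> simpa [hd] using h.symm
  have hspan : ∀ x ∈ W, ∃ a : Fin 3 → F, ∑ k, a k • u k = x := by
    intro x hx
    have hS : Submodule.span F (Set.range u) = W := by
      refine Submodule.eq_of_le_of_finrank_eq (Submodule.span_le.2 (Set.range_subset_iff.2 hmem)) ?_
      rw [finrank_span_eq_card hli, Fintype.card_fin, hdim]
    rw [← hS] at hx
    exact Submodule.mem_span_range_iff_exists_fun F |>.1 hx
  refine ⟨hd, hmem, hu, hli, hspan, fun x hx hxx => ?_⟩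
  obtain ⟨a, rfl⟩ := hspan x hx
  rw [form_sum hf hu] at hxx
  have h1 : a 0 * a 0 + a 1 * a 1 + a 2 * a 2 = 1 := mul_left_cancel₀ hd (by rw [hxx, mul_one])
  have h3 := three_eq_zero hq
  have hsq : ∀ x : F, x ≠ 0 → x * x = 1 := fun x hx => by
    rcases cases_three hq x with rfl | rfl | rfl
    · exact absurd rfl hx
    · ring
    · ring
  have hne2 : (2 : F) ≠ 1 := fun h => one_ne_zero (α := F) (by linear_combination h)
  rcases eq_or_ne (a 0) 0 with e0 | e0 <;> rcases eq_or_ne (a 1) 0 with e1 | e1 <;>
    rcases eq_or_ne (a 2) 0 with e2 | e2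
  · exact absurd (show (0 : F) = 1 by simpa [e0, e1, e2] using h1) zero_ne_one
  · exact ⟨2, a 2, by simp [Fin.sum_univ_three, e0, e1]⟩
  · exact ⟨1, a 1, by simp [Fin.sum_univ_three, e0, e2]⟩
  · exact absurd (by rw [e0, hsq _ e1, hsq _ e2] at h1; linear_combination h1) hne2
  · exact ⟨0, a 0, by simp [Fin.sum_univ_three, e1, e2]⟩
  · exact absurd (by rw [e1, hsq _ e0, hsq _ e2] at h1; linear_combination h1) hne2
  · exact absurd (by rw [e2, hsq _ e0, hsq _ e1] at h1; linear_combination h1) hne2
  · exact absurd (by rw [hsq _ e0, hsq _ e1, hsq _ e2] at h1; linear_combination h1 - h3) zero_ne_one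

lemma exists_triple [Fintype F] (hq : Fintype.card F = 3) (hf : IsBilinearForm f)
    (hs : ∀ x y, f x y = f y x) {W : Submodule F (ι → F)} (hdim : Module.finrank F W = 3)
    (hW : IsNondegenerateOn f W) : ∃ d u, IsTriple f W d u := by
  classical
  have h2 := two_ne_zero' hq
  haveI : Invertible (2 : F) := invertibleOfNonzero h2
  let B : LinearMap.BilinForm F W := LinearMap.mk₂ F (fun x y => f (x : ι → F) y)
    (fun x y z => hf.add_left _ _ _) (fun c x y => hf.smul_left _ _ _)
    (fun x y z => hf.add_right _ _ _) (fun c x y => hf.smul_right _ _ _)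
  obtain ⟨v, hv⟩ := LinearMap.BilinForm.exists_orthogonal_basis (B := B)
    ⟨fun x y => hs _ _⟩
  let v' : Fin 3 → W := fun k => v (Fin.cast hdim.symm k)
  have horth : ∀ k l, k ≠ l → f (v' k : ι → F) (v' l) = 0 := fun k l h =>
    hv (fun e => h (Fin.cast_injective _ e))
  have hval : ∀ k, f (v' k : ι → F) (v' k) = 1 ∨ f (v' k : ι → F) (v' k) = -1 := by
    intro k
    refine (cases_three hq _).resolve_left fun h0 => ?_
    have hne : (v' k : ι → F) ≠ 0 := fun h => v.ne_zero _ (Subtype.ext h)
    obtain ⟨-, y, hy, hvy⟩ := hW _ (v' k).2 hne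
    refine hvy ?_
    change B (v' k) ⟨y, hy⟩ = 0
    rw [← v.sum_repr ⟨y, hy⟩, map_sum]
    refine Finset.sum_eq_zero fun i _ => ?_
    rw [map_smul]
    rcases eq_or_ne (Fin.cast hdim.symm k) i with h | h
    · subst h
      rw [show B (v' k) (v (Fin.cast hdim.symm k)) = 0 from h0, smul_zero]
    · rw [show B (v' k) (v i) = 0 from hv h, smul_zero]
  set a := fun k => f (v' k : ι → F) (v' k) with ha
  obtain ⟨i, j, l, hij, hil, hjl, heq⟩ : ∃ i j l : Fin 3, i ≠ j ∧ i ≠ l ∧ j ≠ l ∧ a i = a j := by
    rcases hval 0 with h0 | h0 <;> rcases hval 1 with h1 | h1 <;> rcases hval 2 with h2 | h2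
    all_goals first
      | exact ⟨0, 1, 2, by decide, by decide, by decide, h0.trans h1.symm⟩
      | exact ⟨0, 2, 1, by decide, by decide, by decide, h0.trans h2.symm⟩
      | exact ⟨1, 2, 0, by decide, by decide, by decide, h1.trans h2.symm⟩
  have hd : a i ≠ 0 := by
    rcases hval i with h | h <;> simp only [ha, h] <;> simp
  rcases eq_or_ne (a l) (a i) with hl | hl
  · refine ⟨a i, fun k => (v' k : ι → F), isTriple_of hq hf hdim hd (fun k => (v' k).2) fun k k' => ?_⟩
    rcases eq_or_ne k k' with rfl | h
    · rw [if_pos rfl]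
      rcases (by decide : ∀ i j l k : Fin 3, i ≠ j → i ≠ l → j ≠ l → k = i ∨ k = j ∨ k = l) i j l k hij hil hjl with rfl | rfl | rfl
      · rfl
      · exact heq.symm
      · exact hl
    · rw [if_neg h, horth k k' h]
  · have hln : a l = -(a i) := by
      rcases hval i with h | h <;> rcases hval l with h' | h' <;> simp only [ha, h, h'] at hl ⊢ <;>
        simp at hl ⊢
    set p := (v' i : ι → F) + v' j with hp
    set r := (v' i : ι → F) - v' j with hr
    have hpp : f p p = -(a i) := by
      rw [hp, hf.add_left, hf.add_right, hf.add_right, horth i j hij, horth j i hij.symm]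
      change a i + 0 + (0 + a j) = _
      linear_combination (three_eq_zero hq) * a i - heq
    have hsub : ∀ x y z, f (x - y) z = f x z - f y z := fun x y z => by
      rw [eq_sub_iff_add_eq, ← hf.add_left, sub_add_cancel]
    have hsub' : ∀ x y z, f z (x - y) = f z x - f z y := fun x y z => by
      rw [eq_sub_iff_add_eq, ← hf.add_right, sub_add_cancel]
    have hrr : f r r = -(a i) := by
      rw [hr, hsub, hsub', hsub', horth i j hij, horth j i hij.symm]
      change a i - 0 - (0 - a j) = _
      linear_combination (three_eq_zero hq) * a i - heq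
    have hpr : f p r = 0 := by
      rw [hp, hr, hf.add_left, hsub', hsub', horth i j hij, horth j i hij.symm]
      change a i - 0 + (0 - a j) = _
      linear_combination heq
    have hpl : f p (v' l) = 0 := by rw [hp, hf.add_left, horth i l hil, horth j l hjl, add_zero]
    have hrl : f r (v' l) = 0 := by rw [hr, hsub, horth i l hil, horth j l hjl, sub_zero]
    refine ⟨-(a i), ![p, r, v' l], isTriple_of hq hf hdim (neg_ne_zero.2 hd) (fun k => ?_) fun k k' => ?_⟩
    · fin_cases k
      · exact W.add_mem (v' i).2 (v' j).2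
      · exact W.sub_mem (v' i).2 (v' j).2
      · exact (v' l).2
    · have hll : f (v' l : ι → F) (v' l) = -(a i) := hln
      fin_cases k <;> fin_cases k' <;>
        simp [hpp, hrr, hpr, hpl, hrl, hs r p, hs (v' l : ι → F) p, hs (v' l : ι → F) r, hll]

/-- A linear map scaling the form maps the triple into its lines, provided the factor is not `-1`. -/
lemma not_anti [Fintype F] (hq : Fintype.card F = 3) (hf : IsBilinearForm f)
    {W : Submodule F (ι → F)} {d : F} {u : Fin 3 → ι → F} (hu : IsTriple f W d u)
    {x : Fin 3 → ι → F} (hx : ∀ k, x k ∈ W)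
    (hxx : ∀ k l, f (x k) (x l) = if k = l then -d else 0) : False := by
  choose M hM using fun k => hu.span (x k) (hx k)
  have hmul : (Matrix.of M) * (Matrix.of M)ᵀ = -1 := by
    ext k l
    have h := hxx k l
    rw [← hM k, ← hM l, form_sum hf hu.form] at h
    simp only [Matrix.mul_apply, Fin.sum_univ_three, Matrix.transpose_apply, Matrix.of_apply,
      Matrix.neg_apply, Matrix.one_apply]
    refine mul_left_cancel₀ hu.d_ne (h.trans ?_)
    split_ifs <;> ring
  have h := congrArg Matrix.det hmul
  rw [Matrix.det_mul, Matrix.det_transpose, Matrix.det_neg, Matrix.det_one, Fintype.card_fin] at h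
  rcases cases_three hq (Matrix.of M).det with e | e | e <;> rw [e] at h
  · exact one_ne_zero (α := F) (by linear_combination h)
  · exact two_ne_zero' hq (by linear_combination h)
  · exact two_ne_zero' hq (by linear_combination h)

end CfsgLib.ClassicalMax.OrthThree
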