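/-
Unitary forms given as functions over finite fields: norms, transvections and isotropic vectors.
-/
import Cfsg.Agent.Lib.ClassicalMax.Tv
set_option autoImplicit false

namespace CfsgLib.ClassicalMax.Unit

open Matrix Cfsg.Geo

variable {ι : Type} [Fintype ι] [DecidableEq ι] {F : Type*} [Field F]
  {σ : F ≃+* F} {f : (ι → F) → (ι → F) → F}

/-! ### The field involution -/

lemma exists_trace_zero (hne : σ ≠ RingEquiv.refl F) (h2 : ∀ a : F, σ (σ a) = a) :
    ∃ τ : F, τ ≠ 0 ∧ σ τ = -τ := by
  obtain ⟨a, ha⟩ : ∃ a, σ a ≠ a := by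
    by_contra h
    push Not at h
    exact hne (RingEquiv.ext h)
  exact ⟨a - σ a, sub_ne_zero.2 (Ne.symm ha), by rw [map_sub, h2, neg_sub]⟩

lemma exists_norm_one_ne_one (hne : σ ≠ RingEquiv.refl F) (h2 : ∀ a : F, σ (σ a) = a) :
    ∃ ζ : F, ζ * σ ζ = 1 ∧ ζ ≠ 1 := by
  obtain ⟨a, ha⟩ : ∃ a, σ a ≠ a := by
    by_contra h
    push Not at h
    exact hne (RingEquiv.ext h)
  have ha0 : a ≠ 0 := fun e => ha (by rw [e, map_zero])
  have hs0 : σ a ≠ 0 := fun e => ha0 (by simpa using congrArg σ.symm e)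
  refine ⟨a / σ a, ?_, fun e => ha ((div_eq_one_iff_eq hs0).1 e).symm⟩
  rw [map_div₀, h2]
  field_simp

/-- The subfield fixed by the involution. -/
def fixedField (σ : F ≃+* F) : Subfield F where
  carrier := {a | σ a = a}
  mul_mem' {a b} ha hb := by simp_all
  one_mem' := map_one σ
  add_mem' {a b} ha hb := by simp_all
  zero_mem' := map_zero σ
  neg_mem' {a} ha := by simp_all
  inv_mem' a ha := by simp_all

lemma mem_fixedField {a : F} : a ∈ fixedField σ ↔ σ a = a := Iff.rfl

/-- The cardinality of the field is a square `q ^ 2` and the involution is `a ↦ a ^ q`. -/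
lemma exists_card_eq [Fintype F] (hne : σ ≠ RingEquiv.refl F) (h2 : ∀ a : F, σ (σ a) = a) :
    Fintype.card F = Nat.card (fixedField σ) ^ 2 ∧
      ∀ a, σ a = a ^ Nat.card (fixedField σ) := by
  classical
  set K := fixedField σ
  obtain ⟨τ, hτ0, hτ⟩ := exists_trace_zero hne h2
  obtain ⟨b, hb⟩ : ∃ b, σ b ≠ b := by
    by_contra h
    push Not at h
    exact hne (RingEquiv.ext h)
  have hd : σ b - b ≠ 0 := sub_ne_zero.2 hb
  let e : K × K → F := fun p => (p.1 : F) + (p.2 : F) * b
  have he : Function.Bijective e := by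
    refine ⟨fun p p' h => ?_, fun a => ?_⟩
    · have h' : σ ((p.1 : F) + (p.2 : F) * b) = σ ((p'.1 : F) + (p'.2 : F) * b) := congrArg σ h
      simp only [map_add, map_mul, mem_fixedField.1 p.1.2, mem_fixedField.1 p.2.2,
        mem_fixedField.1 p'.1.2, mem_fixedField.1 p'.2.2] at h'
      have h'' : ((p.2 : F) - p'.2) * (σ b - b) = 0 := by
        have h0 : (p.1 : F) + (p.2 : F) * b = (p'.1 : F) + (p'.2 : F) * b := h
        linear_combination h' - h0
      have h2' : p.2 = p'.2 := Subtype.ext (sub_eq_zero.1 ((mul_eq_zero.1 h'').resolve_right hd))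
      refine Prod.ext (Subtype.ext ?_) h2'
      simpa [e, h2'] using h
    · have hy : (σ a - a) / (σ b - b) ∈ K := by
        rw [mem_fixedField, map_div₀, map_sub, map_sub, h2, h2, ← neg_sub (σ a) a, ← neg_sub (σ b) b,
          neg_div_neg_eq]
      have hx : a - (σ a - a) / (σ b - b) * b ∈ K := by
        rw [mem_fixedField, map_sub, map_mul, mem_fixedField.1 hy]
        field_simp
        ring
      exact ⟨(⟨_, hx⟩, ⟨_, hy⟩), by simp [e]⟩
  have hcard : Fintype.card F = Nat.card K ^ 2 := by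
    rw [← Nat.card_eq_fintype_card, ← Nat.card_congr (Equiv.ofBijective e he), Nat.card_prod, pow_two]
  letI : Algebra K F := K.subtype.toAlgebra
  haveI : Fintype K := Fintype.ofFinite K
  refine ⟨hcard, fun a => ?_⟩
  let s : F ≃ₐ[K] F := AlgEquiv.ofRingEquiv (f := σ) fun k => show σ (k : F) = k from k.2
  have hrank : Module.finrank K F = 2 := by
    have h := Module.card_eq_pow_finrank (K := K) (V := F)
    rw [hcard, Nat.card_eq_fintype_card] at h
    exact (Nat.pow_right_injective Fintype.one_lt_card h).symm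
  obtain ⟨n, hn⟩ := (FiniteField.bijective_frobeniusAlgEquivOfAlgebraic_pow K F).2 s
  have hn' : ∀ a, σ a = a ^ (Fintype.card K ^ (n : ℕ)) := fun a => by
    have := congrArg (fun t : F ≃ₐ[K] F => t a) hn
    rw [AlgEquiv.coe_pow, FiniteField.coe_frobeniusAlgEquivOfAlgebraic_iterate] at this
    exact this.symm
  have h01 : (n : ℕ) = 0 ∨ (n : ℕ) = 1 := by have := lt_of_lt_of_eq n.2 hrank; omega
  rcases h01 with h | h
  · exact absurd (by simpa [h] using hn' b) hb
  · rw [hn' a, h, pow_one, Nat.card_eq_fintype_card]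

/-- The norm map onto the fixed field is surjective. -/
lemma exists_norm_eq [Fintype F] (hne : σ ≠ RingEquiv.refl F) (h2 : ∀ a : F, σ (σ a) = a) {s : F}
    (hs : σ s = s) : ∃ a, a * σ a = s := by
  classical
  obtain ⟨hcard, hσ⟩ := exists_card_eq hne h2
  set q := Nat.card (fixedField σ)
  rcases eq_or_ne s 0 with rfl | hs0
  · exact ⟨0, by simp⟩
  have : IsCyclic Fˣ := inferInstance
  obtain ⟨g, hg⟩ := IsCyclic.exists_generator (α := Fˣ)
  obtain ⟨i, hi⟩ := Subgroup.mem_zpowers_iff.1 (hg (Units.mk0 s hs0))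
  have hq : 2 ≤ q := by
    rcases Nat.lt_or_ge q 2 with h | h
    · have := Fintype.one_lt_card (α := F)
      rw [hcard] at this
      interval_cases q <;> simp at this
    · exact h
  have hord : orderOf g = Fintype.card F - 1 := by
    rw [orderOf_eq_card_of_forall_mem_zpowers hg, Nat.card_eq_fintype_card, Fintype.card_units]
  have h1 : g ^ (i * ((q : ℤ) - 1)) = 1 := by
    rw [_root_.zpow_mul, hi, _root_.zpow_sub, zpow_natCast, zpow_one, mul_inv_eq_one]
    exact Units.ext (by rw [Units.val_pow_eq_pow_val, Units.val_mk0, ← hσ, hs])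
  have hdvd := orderOf_dvd_iff_zpow_eq_one.2 h1
  rw [hord, hcard, Nat.cast_sub (by nlinarith)] at hdvd
  push_cast at hdvd
  obtain ⟨j, hj⟩ := hdvd
  have hij : i = ((q : ℤ) + 1) * j := by
    have h3 : ((q : ℤ) - 1) ≠ 0 := by omega
    apply mul_right_cancel₀ h3
    rw [hj]; ring
  refine ⟨((g ^ j : Fˣ) : F), ?_⟩
  have : s = (((g ^ j : Fˣ) ^ (q + 1) : Fˣ) : F) := by
    rw [← zpow_natCast, ← _root_.zpow_mul, show j * ((q + 1 : ℕ) : ℤ) = i by rw [hij]; push_cast; ring, hi]
    rfl
  rw [this, Units.val_pow_eq_pow_val, hσ, pow_succ']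

/-! ### Forms -/

variable (hf : IsUnitaryForm σ f)

include hf

lemma add_right (v x y : ι → F) : f v (x + y) = f v x + f v y := by
  rw [hf.herm, hf.add_left, map_add, ← hf.herm, ← hf.herm]

lemma smul_right (c : F) (v x : ι → F) : f v (c • x) = σ c * f v x := by
  rw [hf.herm, hf.smul_left, map_mul, ← hf.herm]

/-- The form as a linear functional in its first argument. -/
def formL (v : ι → F) : (ι → F) →ₗ[F] F where
  toFun x := f x v
  map_add' x y := hf.add_left x y v
  map_smul' c x := hf.smul_left c x v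

omit hf in
@[simp] lemma formL_apply (hf : IsUnitaryForm σ f) (v x : ι → F) : formL hf v x = f x v := rfl

lemma zero_left (v : ι → F) : f 0 v = 0 := map_zero (formL hf v)
lemma zero_right (v : ι → F) : f v 0 = 0 := by rw [hf.herm, zero_left hf, map_zero]
lemma sub_left (x y v : ι → F) : f (x - y) v = f x v - f y v := map_sub (formL hf v) x y
lemma sub_right (v x y : ι → F) : f v (x - y) = f v x - f v y := by
  rw [hf.herm, sub_left hf, map_sub, ← hf.herm, ← hf.herm]
lemma eq_zero_comm {x y : ι → F} (h : f x y = 0) : f y x = 0 := by rw [hf.herm, h, map_zero]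
lemma ne_zero_comm {x y : ι → F} (h : f x y ≠ 0) : f y x ≠ 0 := fun e => h (eq_zero_comm hf e)

/-- The coefficient vector of `x ↦ f x v`. -/
def formDual (v : ι → F) : ι → F := fun j => formL hf v (Pi.single j 1)

lemma formDual_dot (v x : ι → F) : formDual hf v ⬝ᵥ x = f x v := by
  rw [← formL_apply hf v x]
  conv_rhs => rw [pi_eq_sum_univ x, map_sum]
  refine Finset.sum_congr rfl fun j _ => ?_
  rw [map_smul, smul_eq_mul, mul_comm]
  congr 1
  refine congrArg (formL hf v) (funext fun k => ?_)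
  simp [Pi.single_apply, eq_comm]

lemma formDual_add (v w : ι → F) : formDual hf (v + w) = formDual hf v + formDual hf w :=
  funext fun _ => add_right hf _ _ _

lemma formDual_smul (c : F) (v : ι → F) : formDual hf (c • v) = σ c • formDual hf v :=
  funext fun _ => smul_right hf _ _ _

lemma formDual_zero : formDual hf (0 : ι → F) = 0 := funext fun _ => zero_right hf _

lemma formDual_neg (v : ι → F) : formDual hf (-v) = -formDual hf v := by
  rw [← neg_one_smul F v, formDual_smul, map_neg, map_one, neg_one_smul]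

lemma exists_form_eq [Finite F] (φ : (ι → F) →ₗ[F] F) : ∃ w, ∀ x, f x w = φ x := by
  have hinj : Function.Injective (formDual hf) := by
    intro a b h
    by_contra hab
    obtain ⟨x, hx⟩ := (hf.nondegenerate _ (sub_ne_zero.2 hab)).1
    apply hx
    rw [sub_right hf, ← formDual_dot hf, ← formDual_dot hf, h, sub_self]
  obtain ⟨w, hw⟩ := (Finite.injective_iff_surjective.1 hinj) (fun j => φ (Pi.single j 1))
  refine ⟨w, fun x => ?_⟩
  rw [← formDual_dot hf, hw]
  conv_rhs => rw [pi_eq_sum_univ x, map_sum]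
  refine Finset.sum_congr rfl fun j _ => ?_
  rw [map_smul, smul_eq_mul, mul_comm]
  congr 1
  refine congrArg φ (funext fun k => ?_)
  simp [Pi.single_apply, eq_comm]

omit hf in
/-- The isometry group of a two-argument form. -/
abbrev isoOf (f : (ι → F) → (ι → F) → F) : Subgroup (GL ι F) :=
  Cfsg.preserving (Cfsg.glToMat ι F) f

omit hf in
lemma mem_isoOf {g : GL ι F} :
    g ∈ isoOf f ↔ ∀ u v, f ((g : Matrix ι ι F) *ᵥ u) ((g : Matrix ι ι F) *ᵥ v) = f u v := Iff.rfl

omit hf in
lemma form_mulVec_left {g : GL ι F} (hg : g ∈ isoOf f) (x y : ι → F) :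
    f ((g : Matrix ι ι F) *ᵥ x) y = f x (((g⁻¹ : GL ι F) : Matrix ι ι F) *ᵥ y) := by
  conv_lhs => rw [← gl_mulVec_inv_mulVec g y]
  exact hg _ _

lemma pullback (g : GL ι F) :
    IsUnitaryForm σ fun x y => f ((g : Matrix ι ι F) *ᵥ x) ((g : Matrix ι ι F) *ᵥ y) where
  ne_refl := hf.ne_refl
  involutive := hf.involutive
  add_left x y v := by simp only [mulVec_add, hf.add_left]
  smul_left c x v := by simp only [mulVec_smul, hf.smul_left]
  herm v w := hf.herm _ _
  nondegenerate v hv := by
    obtain ⟨⟨x, hx⟩, y, hy⟩ := hf.nondegenerate _ (gl_mulVec_ne_zero g hv)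
    exact ⟨⟨((g⁻¹ : GL ι F) : Matrix ι ι F) *ᵥ x, by
      change f ((g : Matrix ι ι F) *ᵥ _) _ ≠ 0
      rwa [gl_mulVec_inv_mulVec]⟩,
      ⟨((g⁻¹ : GL ι F) : Matrix ι ι F) *ᵥ y, by
      change f _ ((g : Matrix ι ι F) *ᵥ _) ≠ 0
      rwa [gl_mulVec_inv_mulVec]⟩⟩

variable [DecidableEq F]

/-- The unitary transvection `x ↦ x + c f(x, v) v`. -/
def uTv (v : ι → F) (c : F) : GL ι F := tvGL v (c • formDual hf v)

lemma uTv_dot {v : ι → F} (hv : f v v = 0) (c : F) : (c • formDual hf v) ⬝ᵥ v = 0 := by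
  rw [smul_dotProduct, formDual_dot, hv, smul_zero]

lemma uTv_mulVec {v : ι → F} (hv : f v v = 0) (c : F) (x : ι → F) :
    (uTv hf v c : Matrix ι ι F) *ᵥ x = x + (c * f x v) • v := by
  rw [uTv, tvGL_mulVec (uTv_dot hf hv c), smul_dotProduct, formDual_dot, smul_eq_mul]

lemma uTv_mulVec_of_orth {v x : ι → F} (hv : f v v = 0) (c : F) (h : f x v = 0) :
    (uTv hf v c : Matrix ι ι F) *ᵥ x = x := by
  rw [uTv_mulVec hf hv, h, mul_zero, zero_smul, add_zero]

lemma uTv_mem_sl (v : ι → F) (c : F) : uTv hf v c ∈ specialLinear ι F := tvGL_mem_sl _ _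

lemma uTv_mem_isoOf {v : ι → F} (hv : f v v = 0) {c : F} (hc : σ c = -c) :
    uTv hf v c ∈ isoOf f := by
  intro x y
  change f ((uTv hf v c : Matrix ι ι F) *ᵥ x) ((uTv hf v c : Matrix ι ι F) *ᵥ y) = f x y
  rw [uTv_mulVec hf hv, uTv_mulVec hf hv, hf.add_left, add_right hf, add_right hf, hf.smul_left,
    hf.smul_left, smul_right hf, smul_right hf, hv, map_mul, hc, ← hf.herm v y]
  ring

lemma formDual_vecMul_inv {h : GL ι F} (hh : h ∈ isoOf f) (w : ι → F) :
    formDual hf w ᵥ* ((h⁻¹ : GL ι F) : Matrix ι ι F) = formDual hf ((h : Matrix ι ι F) *ᵥ w) := by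
  refine dotProduct_eq _ _ fun x => ?_
  rw [vecMul_inv_dot, formDual_dot, formDual_dot, form_mulVec_left ((isoOf f).inv_mem hh), inv_inv]

lemma uTv_conj {g : GL ι F} (hg : g ∈ isoOf f) {v : ι → F} (hv : f v v = 0) (c : F) :
    g * uTv hf v c * g⁻¹ = uTv hf ((g : Matrix ι ι F) *ᵥ v) c := by
  rw [uTv, conj_tvGL _ (uTv_dot hf hv c), smul_vecMul, formDual_vecMul_inv hf hg, uTv]

omit [DecidableEq F] in
/-- A subspace on which the form vanishes has at most half the dimension. -/
lemma two_mul_finrank_le [Finite F] {W : Submodule F (ι → F)} (hW : IsTotallySingularFor f W) :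
    2 * Module.finrank F W ≤ Fintype.card ι := by
  let b := Module.finBasis F W
  let L : (ι → F) →ₗ[F] (Fin (Module.finrank F W) → F) :=
    LinearMap.pi fun i => formL hf (b i : ι → F)
  have hsurj : Function.Surjective L := by
    intro φ
    obtain ⟨ψ, hψ⟩ := LinearMap.exists_extend (b.constr F fun i => σ (φ i))
    obtain ⟨y, hy⟩ := exists_form_eq hf ψ
    refine ⟨y, funext fun i => ?_⟩
    have h1 : ψ (b i : ι → F) = σ (φ i) := by
      have := congrArg (fun t : W →ₗ[F] F => t (b i)) hψ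
      simpa using this
    change f y (b i : ι → F) = φ i
    rw [hf.herm, hy, h1, hf.involutive]
  have hker : W ≤ LinearMap.ker L := fun y hy => funext fun i => hW y hy _ (b i).2
  have h := LinearMap.finrank_range_add_finrank_ker L
  rw [LinearMap.range_eq_top.2 hsurj, finrank_top, Module.finrank_fintype_fun_eq_card,
    Module.finrank_fintype_fun_eq_card, Fintype.card_fin] at h
  have := Submodule.finrank_mono hker
  omega

omit [DecidableEq F] in
lemma self_fixed (v : ι → F) : σ (f v v) = f v v := (hf.herm v v).symm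

omit [DecidableEq F] in
/-- A subspace of more than half the dimension has a vector of every possible norm. -/
lemma exists_value [Fintype F] {W : Submodule F (ι → F)}
    (hW : Fintype.card ι < 2 * Module.finrank F W) {s : F} (hs : σ s = s) :
    ∃ w ∈ W, f w w = s := by
  obtain ⟨u, hu, hu0⟩ : ∃ u ∈ W, f u u ≠ 0 := by
    by_contra hcon
    push Not at hcon
    have := two_mul_finrank_le hf (W := W) fun a ha b hb => by
      by_contra hab
      obtain ⟨τ, hτ0, hτ⟩ := exists_trace_zero hf.ne_refl hf.involutive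
      have h : ∀ l : F, σ l * f a b + l * σ (f a b) = 0 := fun l => by
        have h' := hcon _ (W.add_mem ha (W.smul_mem l hb))
        rw [hf.add_left, add_right hf, add_right hf, hf.smul_left, hf.smul_left, smul_right hf,
          smul_right hf, hcon a ha, hcon b hb, hf.herm b a] at h'
        linear_combination h'
      obtain ⟨x, hx⟩ : ∃ x, σ x ≠ x := by
        by_contra h
        push Not at h
        exact hf.ne_refl (RingEquiv.ext h)
      have h1 := h 1
      have h2 := h x
      rw [map_one, one_mul, one_mul] at h1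
      have : (σ x - x) * f a b = 0 := by linear_combination h2 - x * h1
      exact hab ((mul_eq_zero.1 this).resolve_left (sub_ne_zero.2 hx))
    omega
  obtain ⟨a, ha⟩ := exists_norm_eq hf.ne_refl hf.involutive (s := s / f u u)
    (by rw [map_div₀, hs, self_fixed hf])
  refine ⟨a • u, W.smul_mem _ hu, ?_⟩
  rw [hf.smul_left, smul_right hf, ← mul_assoc, ha, div_mul_cancel₀ _ hu0]

omit [DecidableEq F] in
/-- The isotropic vectors of a large subspace span it. -/
lemma isotropic_span [Fintype F] {W : Submodule F (ι → F)}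
    (hW : Fintype.card ι + 2 < 2 * Module.finrank F W) :
    Submodule.span F {w | w ∈ W ∧ f w w = 0} = W := by
  refine le_antisymm (Submodule.span_le.2 fun w hw => hw.1) fun v hv => ?_
  by_cases h0 : f v v = 0
  · exact Submodule.subset_span ⟨hv, h0⟩
  have hker : Fintype.card ι < 2 * Module.finrank F ↥(W ⊓ LinearMap.ker (formL hf v)) := by
    have h := LinearMap.finrank_range_add_finrank_ker ((formL hf v).domRestrict W)
    have h2 : Module.finrank F (LinearMap.range ((formL hf v).domRestrict W)) ≤ 1 := by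
      simpa using Submodule.finrank_le (LinearMap.range ((formL hf v).domRestrict W))
    have hle : (LinearMap.ker ((formL hf v).domRestrict W)).map W.subtype ≤
        W ⊓ LinearMap.ker (formL hf v) := by
      rintro _ ⟨y, hy, rfl⟩; exact ⟨y.2, hy⟩
    have h3 := Submodule.finrank_mono hle
    rw [Submodule.finrank_map_subtype_eq] at h3
    omega
  obtain ⟨w, ⟨hwW, hwv⟩, hw⟩ := exists_value hf hker (s := - f v v) (by rw [map_neg, self_fixed hf])
  obtain ⟨ζ, hζ, hζ1⟩ := exists_norm_one_ne_one hf.ne_refl hf.involutive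
  have hwv' : f w v = 0 := hwv
  have hiso : ∀ c : F, c * σ c = 1 → f (v + c • w) (v + c • w) = 0 := fun c hc => by
    rw [hf.add_left, add_right hf, add_right hf, hf.smul_left, hf.smul_left, smul_right hf,
      smul_right hf, hwv', eq_zero_comm hf hwv', hw]
    linear_combination (-f v v) * hc
  have hm : ∀ c : F, c * σ c = 1 → v + c • w ∈ Submodule.span F {w | w ∈ W ∧ f w w = 0} :=
    fun c hc => Submodule.subset_span ⟨W.add_mem hv (W.smul_mem _ hwW), hiso c hc⟩
  have h1 := hm 1 (by simp)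
  rw [one_smul] at h1
  have h2 := Submodule.sub_mem _ h1 (hm ζ hζ)
  rw [add_sub_add_left_eq_sub] at h2
  have h3 : w ∈ Submodule.span F {w | w ∈ W ∧ f w w = 0} := by
    refine (Submodule.smul_mem_iff _ (sub_ne_zero.2 hζ1.symm)).1 ?_
    rwa [sub_smul, one_smul]
  simpa using Submodule.sub_mem _ h1 h3

omit [DecidableEq F] in
/-- Adding a suitable multiple of one isotropic vector to another keeps it isotropic. -/
lemma exists_isotropic_comb {a b : ι → F} (ha : f a a = 0) (hb : f b b = 0) :
    ∃ r : F, r ≠ 0 ∧ f (a + r • b) (a + r • b) = 0 := by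
  obtain ⟨τ, hτ0, hτ⟩ := exists_trace_zero hf.ne_refl hf.involutive
  by_cases h : f b a = 0
  · refine ⟨1, one_ne_zero, ?_⟩
    rw [one_smul, hf.add_left, add_right hf, add_right hf, ha, hb, h, eq_zero_comm hf h]
    ring
  · refine ⟨τ / f b a, div_ne_zero hτ0 h, ?_⟩
    rw [hf.add_left, add_right hf, add_right hf, hf.smul_left, hf.smul_left, smul_right hf,
      smul_right hf, ha, hb, hf.herm a b, map_div₀, hτ]
    have h' : σ (f b a) ≠ 0 := fun e => h (by simpa using congrArg σ.symm e)
    field_simp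
    ring

omit [DecidableEq F] in
/-- In a large subspace some isotropic vector avoids the kernels of two non-zero functionals. -/
lemma exists_isotropic_avoid [Fintype F] {W : Submodule F (ι → F)}
    (hW : Fintype.card ι + 2 < 2 * Module.finrank F W) (a b : (ι → F) →ₗ[F] F)
    (ha : ∃ x ∈ W, a x ≠ 0) (hb : ∃ x ∈ W, b x ≠ 0) :
    ∃ v ∈ W, f v v = 0 ∧ a v ≠ 0 ∧ b v ≠ 0 := by
  have one : ∀ a : (ι → F) →ₗ[F] F, (∃ x ∈ W, a x ≠ 0) → ∃ v ∈ W, f v v = 0 ∧ a v ≠ 0 := by
    rintro a ⟨x, hx, hx'⟩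
    by_contra hcon
    push Not at hcon
    apply hx'
    rw [← isotropic_span hf hW] at hx
    exact (Submodule.span_le.2 (fun w hw => hcon w hw.1 hw.2) hx : x ∈ LinearMap.ker a)
  obtain ⟨v₁, h₁, i₁, ha₁⟩ := one a ha
  obtain ⟨v₂, h₂, i₂, hb₂⟩ := one b hb
  by_cases hb1 : b v₁ = 0
  · by_cases ha2 : a v₂ = 0
    · obtain ⟨r, hr, hiso⟩ := exists_isotropic_comb hf i₁ i₂
      exact ⟨_, W.add_mem h₁ (W.smul_mem r h₂), hiso, by simp [ha₁, ha2], by simp [hb1, hr, hb₂]⟩
    · exact ⟨v₂, h₂, i₂, ha2, hb₂⟩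
  · exact ⟨v₁, h₁, i₁, ha₁, hb1⟩

end CfsgLib.ClassicalMax.Unit
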