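/-
Over the field with four elements a unitary decomposition into planes refines to an orthonormal frame.
-/
import Cfsg.Agent.Lib.ClassicalMax.Frames
import Cfsg.Agent.Lib.ClassicalMax.Unitary
set_option autoImplicit false

namespace CfsgLib.ClassicalMax.Unit.Frame

open Matrix Cfsg.Geo Frames

variable {ι : Type} [Fintype ι] [DecidableEq ι] {F : Type*} [Field F]
  {σ : F ≃+* F} {f : (ι → F) → (ι → F) → F}

lemma card_blocks {t m : ℕ} {D : Fin t → Submodule F (ι → F)} (hD : IsMDecomposition m D) :
    m * t = Fintype.card ι := by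
  have hint : DirectSum.IsInternal D :=
    DirectSum.isInternal_submodule_of_iSupIndep_of_iSup_eq_top hD.indep hD.iSup_eq_top
  have h := Module.finrank_eq_card_basis
    (hint.collectedBasis fun i => Module.finBasisOfFinrankEq F (D i) (hD.finrank_eq i))
  rw [Module.finrank_fintype_fun_eq_card, Fintype.card_sigma] at h
  simp at h
  rw [h, mul_comm]

/-- `σ a * a = 1` for non-zero `a`, and the fixed elements are `0` and `1`. -/
lemma norm_eq_one [Fintype F] (hF : Fintype.card F = 4) (hσ : ∀ a, σ a = a ^ 2) {a : F}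
    (ha : a ≠ 0) : σ a * a = 1 := by
  have := FiniteField.pow_card_sub_one_eq_one a ha
  rw [hF] at this
  rw [hσ]
  linear_combination this

lemma fixed_eq (hσ : ∀ a, σ a = a ^ 2) {a : F} (ha : σ a = a) : a = 0 ∨ a = 1 := by
  rw [hσ] at ha
  rcases eq_or_ne a 0 with h | h
  · exact Or.inl h
  · exact Or.inr (mul_left_cancel₀ h (by linear_combination ha))

lemma exists_unit_pair [Fintype F] (hF : Fintype.card F = 4) (hσ : ∀ a, σ a = a ^ 2)
    (hf : IsUnitaryForm σ f) {W : Submodule F (ι → F)} (hdim : Module.finrank F W = 2)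
    (hW : IsNondegenerateOn f W) :
    ∃ v : Fin 2 → ι → F, (∀ b, v b ∈ W) ∧ (∀ b, f (v b) (v b) = 1) ∧ f (v 0) (v 1) = 0 ∧
      LinearIndependent F v ∧ ∀ x ∈ W, f x x = 1 → ∃ b, ∃ c : F, x = c • v b := by
  classical
  haveI : CharP F 2 := CharTwo.of_one_ne_zero_of_two_eq_zero one_ne_zero (by
    have := FiniteField.cast_card_eq_zero F
    rw [hF] at this
    have h4 : (2 : F) * 2 = 0 := by linear_combination this
    exact mul_self_eq_zero.1 h4)
  have hunit : ∀ y, f y y ≠ 0 → f y y = 1 := fun y hy =>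
    (fixed_eq hσ (self_fixed hf y)).resolve_left hy
  obtain ⟨u, hu, hu1⟩ : ∃ u ∈ W, f u u = 1 := by
    by_contra hcon
    push Not at hcon
    have h0 : ∀ y ∈ W, f y y = 0 := fun y hy => by
      by_contra h
      exact hcon y hy (hunit y h)
    obtain ⟨w, hw, hw0⟩ := Submodule.exists_mem_ne_zero_of_ne_bot (p := W) fun h => by
      rw [h, finrank_bot] at hdim; omega
    obtain ⟨⟨x, hx, hxw⟩, -⟩ := hW w hw hw0
    obtain ⟨a, ha⟩ : ∃ a, σ a ≠ a := by
      by_contra h
      push Not at h
      exact hf.ne_refl (RingEquiv.ext h)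
    have h := h0 _ (W.add_mem (W.smul_mem (a / f x w) hx) hw)
    rw [hf.add_left, add_right hf, add_right hf, hf.smul_left, hf.smul_left, smul_right hf,
      smul_right hf, h0 x hx, h0 w hw, hf.herm w x, ← map_mul, div_mul_cancel₀ _ hxw] at h
    simp only [mul_zero, add_zero, zero_add] at h
    exact ha (CharTwo.add_eq_zero.1 (by linear_combination h))
  have hu0 : u ≠ 0 := fun h => by rw [h, zero_left hf] at hu1; exact zero_ne_one hu1
  obtain ⟨x, hx, hxu⟩ : ∃ x ∈ W, x ∉ Submodule.span F ({u} : Set (ι → F)) := by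
    by_contra hcon
    push Not at hcon
    have := Submodule.finrank_mono (show W ≤ Submodule.span F ({u} : Set (ι → F)) from hcon)
    rw [finrank_span_singleton hu0] at this
    omega
  set v := x - f x u • u with hv
  have hvW : v ∈ W := W.sub_mem hx (W.smul_mem _ hu)
  have hvu : f v u = 0 := by rw [hv, sub_left hf, hf.smul_left, hu1, mul_one, sub_self]
  have hli : LinearIndependent F ![u, v] := (LinearIndependent.pair_iff' hu0).2 fun a ha => hxu
    (Submodule.mem_span_singleton.2 ⟨a + f x u, by rw [add_smul, ha, hv, sub_add_cancel]⟩)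
  have hspan : ∀ y ∈ W, ∃ a b : F, a • u + b • v = y := by
    intro y hy
    have hS : Submodule.span F (Set.range ![u, v]) = W := by
      refine Submodule.eq_of_le_of_finrank_eq (Submodule.span_le.2 (Set.range_subset_iff.2
        fun i => by fin_cases i <;> assumption)) ?_
      rw [finrank_span_eq_card hli, Fintype.card_fin, hdim]
    rw [← hS, Matrix.range_cons_cons_empty] at hy
    exact Submodule.mem_span_pair.1 hy
  have hv0 : v ≠ 0 := hli.ne_zero 1
  have hv1 : f v v = 1 := by
    refine hunit v fun h => ?_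
    obtain ⟨-, y, hy, hvy⟩ := hW v hvW hv0
    obtain ⟨a, b, rfl⟩ := hspan y hy
    exact hvy (by rw [add_right hf, smul_right hf, smul_right hf, hvu, h]; ring)
  refine ⟨![u, v], fun b => by fin_cases b <;> assumption, fun b => by fin_cases b <;> assumption,
    eq_zero_comm hf hvu, hli, fun y hy hyy => ?_⟩
  obtain ⟨a, b, rfl⟩ := hspan y hy
  rw [hf.add_left, add_right hf, add_right hf, hf.smul_left, hf.smul_left, hf.smul_left,
    hf.smul_left, smul_right hf, smul_right hf, smul_right hf, smul_right hf, hu1, hv1, hvu,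
    eq_zero_comm hf hvu] at hyy
  rcases eq_or_ne a 0 with rfl | ha
  · exact ⟨1, b, by simp⟩
  rcases eq_or_ne b 0 with rfl | hb
  · exact ⟨0, a, by simp⟩
  exfalso
  have ha' := norm_eq_one hF hσ ha
  have hb' := norm_eq_one hF hσ hb
  have h11 : (1 : F) + 1 = 1 := by linear_combination hyy - ha' - hb'
  exact one_ne_zero (by linear_combination h11)

theorem plane_not_maximal [Fintype F] (hF : Fintype.card F = 4) (hσ : ∀ a, σ a = a ^ 2)
    (hf : IsUnitaryForm σ f) (hn : 13 ≤ Fintype.card ι) {t : ℕ}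
    {D : Fin t → Submodule F (ι → F)} (hD : IsNondegenerateMDecomposition f 2 D) :
    ∃ K : Subgroup (GL ι F), decompositionStabilizer D ⊓ (isoOf f ⊓ specialLinear ι F) < K ∧
      K < isoOf f ⊓ specialLinear ι F := by
  classical
  have ht := card_blocks hD.decomp
  choose v hvW hv1 hv01 hvli hvline using fun i =>
    exists_unit_pair hF hσ hf (hD.decomp.finrank_eq i) (hD.nondegenerate i)
  let e : Fin t × Fin 2 → ι → F := fun s => v s.1 s.2
  have hli : LinearIndependent F e :=
    linearIndependent_blocks hD.decomp.indep (v := e) (fun i b => hvW i b) hvli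
  have hee : ∀ s s', f (e s) (e s') = if s = s' then 1 else 0 := by
    rintro ⟨i, b⟩ ⟨j, c⟩
    rcases eq_or_ne i j with rfl | hij
    · fin_cases b <;> fin_cases c <;>
        simp [e, hv1, hv01, eq_zero_comm hf (hv01 i)]
    · rw [if_neg (fun h => hij (congrArg Prod.fst h))]
      exact hD.orthogonal i j hij _ (hvW i b) _ (hvW j c)
  haveI : CharP F 2 := CharTwo.of_one_ne_zero_of_two_eq_zero one_ne_zero (by
    have := FiniteField.cast_card_eq_zero F
    rw [hF] at this
    have h4 : (2 : F) * 2 = 0 := by linear_combination this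
    exact mul_self_eq_zero.1 h4)
  have hσ1 : σ (1 : F) = -1 := by rw [map_one, CharTwo.neg_eq]
  let i0 : Fin t := ⟨0, by omega⟩
  let i1 : Fin t := ⟨1, by omega⟩
  let i2 : Fin t := ⟨2, by omega⟩
  let i3 : Fin t := ⟨3, by omega⟩
  have h01 : i0 ≠ i1 := by simp [i0, i1, Fin.ext_iff]
  refine ⟨decompositionStabilizer (lines e) ⊓ (isoOf f ⊓ specialLinear ι F),
    lt_of_le_of_ne ?_ ?_, lt_of_le_of_ne inf_le_right ?_⟩
  · intro g hg
    refine ⟨mem_lines_stab hli fun s => ?_, hg.2⟩
    obtain ⟨j, hj⟩ := exists_block_image hg.1 s.1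
    obtain ⟨b, c, hc⟩ := hvline j _ (hj _ (hvW s.1 s.2))
      ((hg.2.1 _ _).trans (hv1 s.1 s.2))
    exact ⟨(j, b), c, hc⟩
  · intro heq
    -- a transvection interchanging vectors in two members
    set a := e (i0, 0) + e (i1, 0) with ha
    have haa : f a a = 0 := by
      simp [ha, hf.add_left, add_right hf, hee, h01, h01.symm, CharTwo.add_self_eq_zero]
    have hvv : ∀ z : ι → F, z + z = 0 := fun z => funext fun k => CharTwo.add_self_eq_zero (z k)
    have hax : ∀ s, (uTv hf a 1 : Matrix ι ι F) *ᵥ e s = if s = (i0, 0) then e (i1, 0) else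
        if s = (i1, 0) then e (i0, 0) else e s := by
      intro s
      rw [uTv_mulVec hf haa, one_mul, ha, add_right hf, hee, hee]
      split_ifs with h1 h2 <;> subst_vars
      · exact absurd (congrArg Prod.fst h2) h01
      · rw [add_zero, one_smul, ← add_assoc, hvv, zero_add]
      · rw [zero_add, one_smul, add_comm (e (i0, 0)), ← add_assoc, hvv, zero_add]
      · rw [add_zero, zero_smul, add_zero]
    have hmem : uTv hf a 1 ∈ decompositionStabilizer (lines e) ⊓ (isoOf f ⊓ specialLinear ι F) := by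
      refine ⟨mem_lines_stab hli fun s => ?_, uTv_mem_isoOf hf haa hσ1, uTv_mem_sl hf _ _⟩
      rw [hax]
      split_ifs <;> exact ⟨_, 1, (one_smul _ _).symm⟩
    rw [← heq] at hmem
    refine not_mem_stab hD.decomp.indep (i := i0) (a := i1) (b := i0) (x := e (i0, 0))
      (y := e (i0, 1)) (hvW _ _) (hvW _ _) h01.symm ?_ ?_ (hli.ne_zero _) (hli.ne_zero _) hmem.1
    · rw [hax, if_pos rfl]; exact hvW _ _
    · rw [hax, if_neg (by simp), if_neg (by simp)]; exact hvW _ _
  · intro heq
    set a := e (i0, 0) + e (i1, 0) + e (i2, 0) + e (i3, 0) with ha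
    have hne : ∀ b c : Fin 4, b ≠ c → ![i0, i1, i2, i3] b ≠ ![i0, i1, i2, i3] c := by
      intro b c hbc
      fin_cases b <;> fin_cases c <;> simp [i0, i1, i2, i3, Fin.ext_iff] at hbc ⊢
    have haa : f a a = 0 := by
      simp [ha, hf.add_left, add_right hf, hee, i0, i1, i2, i3, Fin.ext_iff,
        CharTwo.add_self_eq_zero]
    have hmem : uTv hf a 1 ∈ decompositionStabilizer (lines e) := by
      have : uTv hf a 1 ∈ isoOf f ⊓ specialLinear ι F :=
        ⟨uTv_mem_isoOf hf haa hσ1, uTv_mem_sl hf _ _⟩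
      rw [← heq] at this
      exact this.1
    obtain ⟨s, c, hc⟩ := exists_of_mem_lines_stab hmem (i0, 0)
    rw [uTv_mulVec hf haa] at hc
    have h1 := congrArg (fun z => f z (e (i1, 0))) hc
    have h2 := congrArg (fun z => f z (e (i2, 0))) hc
    simp [ha, hf.add_left, add_right hf, hf.smul_left, hee, i0, i1, i2, i3, Fin.ext_iff] at h1 h2
    rcases eq_or_ne s (i1, 0) with h | h
    · subst h; simp [i0, i1, i2, i3] at h2
    · simp [i0, i1, i2, i3] at h h1
      simp [h] at h1

end CfsgLib.ClassicalMax.Unit.Frame
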