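/-
Decompositions into small orthogonal subspaces over small fields: bigger stabilisers.
-/
import Cfsg.Agent.Lib.ClassicalMax.OrthEven
import Cfsg.Agent.Lib.ClassicalMax.OmegaTools
import Cfsg.Agent.Lib.ClassicalMax.OrthThree
import Cfsg.Agent.Lib.ClassicalMax.UnitFrame
import Cfsg.Agent.Lib.OrthCrit.Trans
set_option autoImplicit false

namespace CfsgLib.ClassicalMax.OmP

open Matrix Cfsg.Geo QuadraticMap Module
open CfsgLib.Classical.Quad (NDPolar Orth Frame polar_self' polar_singular_self)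

variable {ι : Type} [Fintype ι] [DecidableEq ι] {F : Type*} [Field F] {Q : QuadraticForm F (ι → F)}

/-- A hyperbolic pair in a plane of plus type. -/
theorem exists_hyp_pair {W : Submodule F (ι → F)} (hdim : finrank F W = 2)
    (hW : IsNondegenerateOn (polar ⇑Q) W) (hplus : IsPlusTypeOn ⇑Q W) :
    ∃ u ∈ W, ∃ v ∈ W, Q u = 0 ∧ Q v = 0 ∧ polar Q u v = 1 := by
  obtain ⟨U, hUW, hUs, hU⟩ := hplus
  obtain ⟨u, hu, hu0⟩ := Submodule.exists_mem_ne_zero_of_ne_bot (p := U) fun h => by
    rw [h, finrank_bot, hdim] at hU; omega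
  obtain ⟨-, z, hz, huz⟩ := hW u (hUW hu) hu0
  have hQu : Q u = 0 := hUs u hu
  have h1 : polar Q u ((polar Q u z)⁻¹ • z) = 1 := by
    rw [polar_smul_right, smul_eq_mul, inv_mul_cancel₀ huz]
  have hzW : (polar Q u z)⁻¹ • z ∈ W := W.smul_mem _ hz
  generalize (polar Q u z)⁻¹ • z = z' at h1 hzW
  refine ⟨u, hUW hu, z' + (-(Q z')) • u, W.add_mem hzW (W.smul_mem _ (hUW hu)),
    hQu, ?_, ?_⟩
  · rw [Classical.Quad.Q_comb1, hQu, polar_comm Q z' u, h1]; ring
  · rw [polar_add_right, polar_smul_right, h1, polar_singular_self hQu, smul_zero, add_zero]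

/-- Coordinates in a plane spanned by a hyperbolic pair. -/
theorem pair_span {W : Submodule F (ι → F)} (hdim : finrank F W = 2) {u v : ι → F} (hu : u ∈ W)
    (hv : v ∈ W) (hli : LinearIndependent F ![u, v]) {x : ι → F} (hx : x ∈ W) :
    ∃ a b : F, x = a • u + b • v := by
  have hspan : Submodule.span F (Set.range ![u, v]) = W :=
    Submodule.eq_of_le_of_finrank_eq (Submodule.span_le.2 (Set.range_subset_iff.2
      (Fin.forall_fin_two.2 ⟨hu, hv⟩))) (by rw [finrank_span_eq_card hli, hdim]; simp)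
  rw [← hspan, Submodule.mem_span_range_iff_exists_fun] at hx
  obtain ⟨c, rfl⟩ := hx
  exact ⟨c 0, c 1, by simp [Fin.sum_univ_two]⟩

theorem li_of_hyp {u v : ι → F} (hu : Q u = 0) (huv : polar Q u v = 1) :
    LinearIndependent F ![u, v] :=
  (LinearIndependent.pair_iff' fun h : u = 0 =>
    one_ne_zero (α := F) (by rw [← huv, h, polar_zero_left])).2 fun t ht =>
    one_ne_zero (α := F) (by rw [← huv, ← ht, polar_smul_right, polar_singular_self hu, smul_zero])

/-- Isometric copies of vectors of the first member. -/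
theorem transport {t k : ℕ} {D : Fin t → Submodule F (ι → F)}
    (hD : IsOrthogonalMDecomposition ⇑Q k D) (i j : Fin t) :
    ∃ e : D i ≃ₗ[F] D j, (∀ x, Q (e x : ι → F) = Q (x : ι → F)) ∧
      ∀ x y, polar Q (e x : ι → F) (e y : ι → F) = polar Q (x : ι → F) (y : ι → F) := by
  obtain ⟨e, he⟩ := hD.isometric i j
  refine ⟨e, he, fun x y => ?_⟩
  simp only [polar]
  rw [← Submodule.coe_add, ← map_add, he, he, he]
  rfl

variable [Fintype F]

section frame

variable (hnd : NDPolar Q) (P : Frame Q)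
include hnd P

/-- A frame of lines preserved by the stabiliser of a decomposition. -/
theorem frame_not_maximal (hQ : IsNondegenerateQuadraticForm ⇑Q) (h2 : (2 : F) ≠ 0)
    (h7 : 7 ≤ Fintype.card ι) {t k : ℕ} (ht : 3 ≤ t) (hk : 2 ≤ k)
    {D : Fin t → Submodule F (ι → F)} (hind : iSupIndep D) {e : Fin t × Fin k → ι → F}
    (hli : LinearIndependent F e) (hmem : ∀ i b, e (i, b) ∈ D i) {c : F} (hc : c ≠ 0)
    (hQe : ∀ s, Q (e s) = c) (hxy : ∀ s s', s ≠ s' → polar Q (e s) (e s') = 0)
    (hline : ∀ i, ∀ x ∈ D i, Q x = c → ∃ b, ∃ d : F, x = d • e (i, b)) :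
    ∃ K : Subgroup (GL ι F), decompositionStabilizer D ⊓ omegaGL ⇑Q < K ∧ K < omegaGL ⇑Q := by
  classical
  have hxx : ∀ s, polar Q (e s) (e s) = 2 * c := fun s => by rw [polar_self', hQe]
  have h2c : (2 : F) * c ≠ 0 := mul_ne_zero h2 hc
  let j : Fin 3 → Fin t := Fin.castLE ht
  have hj : Function.Injective j := Fin.castLE_injective _
  let z : Fin 3 → Fin t × Fin k := fun i => (j i, ⟨0, by omega⟩)
  have hz : ∀ a b, a ≠ b → z a ≠ z b := fun a b h e' => h (hj (congrArg Prod.fst e'))
  refine ⟨decompositionStabilizer (Frames.lines e) ⊓ omegaGL ⇑Q, lt_of_le_of_ne ?_ ?_,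
    lt_of_le_of_ne inf_le_right ?_⟩
  · intro g hg
    refine ⟨Frames.mem_lines_stab hli fun s => ?_, hg.2⟩
    obtain ⟨i, hi⟩ := Frames.exists_block_image hg.1 s.1
    obtain ⟨b, d, hd⟩ := hline i _ (hi _ (hmem s.1 s.2))
      ((OmS.omega_iso hg.2 _).trans (hQe s))
    exact ⟨(i, b), d, hd⟩
  · intro heq
    set p : Fin t × Fin k := (j 0, ⟨1, by omega⟩) with hp
    have hp1 : ∀ i, p ≠ z i := fun i h => by
      have := congrArg Prod.snd h; simp [p, z, Fin.ext_iff] at this
    set a := e (z 0) - e (z 1) with ha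
    set b := e p - e (z 2) with hb
    have hQa : Q a = 2 * c := by
      rw [ha, Om.Q_sub hQ, hQe, hQe, hxy _ _ (hz _ _ (by decide))]; ring
    have hQb : Q b = 2 * c := by
      rw [hb, Om.Q_sub hQ, hQe, hQe, hxy _ _ (hp1 2)]; ring
    have hab : polar Q a b = 0 := by
      rw [ha, hb, Om.sub_left hQ, Om.sub_right hQ, Om.sub_right hQ, hxy _ _ (hp1 0).symm,
        hxy _ _ (hz 0 2 (by decide)), hxy _ _ (hp1 1).symm, hxy _ _ (hz 1 2 (by decide))]
      ring
    have ha0 : Q a ≠ 0 := by rw [hQa]; exact h2c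
    have hb0 : Q b ≠ 0 := by rw [hQb]; exact h2c
    have hsw : ∀ (x y : Fin t × Fin k) (_ : x ≠ y) (hr : Q (e x - e y) ≠ 0),
        Q (e x - e y) = 2 * c → ∀ s,
          (Om.rf hQ hr : Matrix ι ι F) *ᵥ e s = e (Equiv.swap x y s) := by
      intro x y hxy' hr hval s
      rw [Om.rf_mulVec, hval, Om.sub_right hQ]
      rcases eq_or_ne s x with rfl | hsx
      · rw [hxx, hxy _ _ hxy', sub_zero, div_self h2c, one_smul, sub_sub_cancel,
          Equiv.swap_apply_left]
      rcases eq_or_ne s y with rfl | hsy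
      · rw [hxx, hxy _ _ hsx, zero_sub, neg_div, div_self h2c, neg_smul, one_smul,
          sub_neg_eq_add, add_sub_cancel, Equiv.swap_apply_right]
      · rw [hxy _ _ hsx, hxy _ _ hsy, sub_zero, zero_div, zero_smul, sub_zero,
          Equiv.swap_apply_of_ne_of_ne hsx hsy]
    have hmove : ∀ s, ((Om.rf hQ ha0 * Om.rf hQ hb0 : GL ι F) : Matrix ι ι F) *ᵥ e s =
        e (Equiv.swap (z 0) (z 1) (Equiv.swap p (z 2) s)) := fun s => by
      rw [gl_mulVec_mul, hsw p (z 2) (hp1 2) hb0 hQb,
        hsw (z 0) (z 1) (hz _ _ (by decide)) ha0 hQa]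
    have hmem' : (Om.rf hQ ha0 * Om.rf hQ hb0 : GL ι F) ∈
        decompositionStabilizer (Frames.lines e) ⊓ omegaGL ⇑Q := by
      refine ⟨Frames.mem_lines_stab hli fun s => ⟨_, 1, by rw [hmove, one_smul]⟩,
        Om.rf_mul_rf_mem hQ ha0 hb0 (hQa.trans hQb.symm) ?_⟩
      rw [Om.Q_sub hQ, hQa, hQb, hab, sub_zero, ← two_mul]
      exact mul_ne_zero h2 h2c
    rw [← heq] at hmem'
    refine Frames.not_mem_stab hind (i := j 0) (a := j 1) (b := j 2)
      (x := e (z 0)) (y := e p) (hmem _ _) (hmem _ _)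
      (fun h => absurd (hj h) (by decide)) ?_ ?_ (hli.ne_zero _) (hli.ne_zero _) hmem'.1
    · rw [hmove, Equiv.swap_apply_of_ne_of_ne (hp1 0).symm (hz 0 2 (by decide)),
        Equiv.swap_apply_left]
      exact hmem _ _
    · rw [hmove, Equiv.swap_apply_left,
        Equiv.swap_apply_of_ne_of_ne (hz 2 0 (by decide)) (hz 2 1 (by decide))]
      exact hmem _ _
  · intro heq
    set K := LinearMap.ker ((polarBilin Q).flip (e (z 0))) with hK
    have hKd : 3 ≤ finrank F K := by
      have h1 := LinearMap.finrank_range_add_finrank_ker ((polarBilin Q).flip (e (z 0)))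
      have h2 := Submodule.finrank_le (LinearMap.range ((polarBilin Q).flip (e (z 0))))
      rw [finrank_self] at h2
      rw [finrank_fintype_fun_eq_card] at h1
      rw [hK]; omega
    obtain ⟨u', hu0', hu'⟩ := FormsDisc.exists_singular_of_three (Q.comp K.subtype) hKd
    set u := (u' : ι → F) with hudef
    have hu0 : u ≠ 0 := fun h => hu0' (Subtype.ext h)
    have hQu : Q u = 0 := hu'
    have hue : polar Q u (e (z 0)) = 0 := LinearMap.mem_ker.1 u'.2
    set x := e (z 0) + u with hx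
    have hQx : Q x = c := by
      rw [hx, QuadraticMap.map_add (⇑Q), hQe, hQu, polar_comm, hue, add_zero, add_zero]
    obtain ⟨g₁, hg₁, e₁⟩ := Asch.omega_move_value hnd P (v := e (z 0)) (by rw [hQe]; exact hc)
    obtain ⟨g₂, hg₂, e₂⟩ := Asch.omega_move_value hnd P (v := x) (by rw [hQx]; exact hc)
    rw [hQe] at e₁
    rw [hQx] at e₂
    have hmem' : g₂⁻¹ * g₁ ∈ decompositionStabilizer (Frames.lines e) ⊓ omegaGL ⇑Q := by
      rw [heq]; exact mul_mem (inv_mem hg₂) hg₁
    obtain ⟨s, d, hd⟩ := Frames.exists_of_mem_lines_stab hmem'.1 (z 0)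
    rw [gl_mulVec_mul, e₁, ← e₂] at hd
    have hd' : x = d • e s := by
      rw [← hd]
      exact (gl_mulVec_injective g₂ (gl_mulVec_inv_mulVec g₂ _)).symm
    rcases eq_or_ne s (z 0) with rfl | hs
    · rw [hx] at hd'
      have hdu : u = (d - 1) • e (z 0) := by rw [sub_smul, one_smul, ← hd']; abel
      have : (d - 1) * (d - 1) * c = 0 := by
        rw [← hQe (z 0), ← smul_eq_mul ((d - 1) * (d - 1)), ← QuadraticMap.map_smul, ← hdu, hQu]
      have hd1 : d - 1 = 0 := by simpa [hc] using this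
      exact hu0 (by rw [hdu, hd1, zero_smul])
    · have h := congrArg (fun y => polar Q y (e (z 0))) hd'
      simp only [hx, polar_add_left, polar_smul_left, hxx, hue, hxy _ _ hs, smul_zero,
        add_zero] at h
      exact h2c h

end frame

/-- Over three elements an anisotropic plane has exactly two lines of value one. -/
theorem minus_plane_three (hq : Fintype.card F = 3) {W : Submodule F (ι → F)}
    (hdim : finrank F W = 2) (hW : IsNondegenerateOn (polar ⇑Q) W) (hm : ¬ IsPlusTypeOn ⇑Q W) :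
    ∃ a ∈ W, ∃ b ∈ W, Q a = 1 ∧ Q b = 1 ∧ polar Q a b = 0 := by
  have h3 := OrthThree.three_eq_zero hq
  have h2 := OrthThree.two_ne_zero' hq
  have haniso : ∀ x ∈ W, Q x = 0 → x = 0 := by
    intro x hx hQx
    by_contra hx0
    refine hm ⟨Submodule.span F {x}, (Submodule.span_singleton_le_iff_mem _ _).2 hx, ?_, ?_⟩
    · intro y hy
      obtain ⟨d, rfl⟩ := Submodule.mem_span_singleton.1 hy
      rw [QuadraticMap.map_smul, hQx, smul_zero]
    · rw [finrank_span_singleton hx0, hdim]
  obtain ⟨x, hx, hx0⟩ := Submodule.exists_mem_ne_zero_of_ne_bot (p := W) fun h => by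
    rw [h, finrank_bot] at hdim; omega
  have hQx : Q x ≠ 0 := fun h => hx0 (haniso x hx h)
  obtain ⟨w, hw, hwx⟩ : ∃ w ∈ W, w ∉ Submodule.span F {x} := by
    by_contra hc
    push Not at hc
    have h1 := Submodule.finrank_mono (show W ≤ Submodule.span F {x} from hc)
    rw [finrank_span_singleton hx0, hdim] at h1
    omega
  set y₀ := w + (-(polar Q w x / (2 * Q x))) • x with hy₀
  have hy₀W : y₀ ∈ W := W.add_mem hw (W.smul_mem _ hx)
  have hyx : polar Q x y₀ = 0 := by
    rw [hy₀, polar_add_right, polar_smul_right, polar_self', polar_comm Q x w, smul_eq_mul]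
    field_simp
    ring
  have hy0 : y₀ ≠ 0 := fun h => hwx (Submodule.mem_span_singleton.2 ⟨polar Q w x / (2 * Q x), by
    rw [hy₀, neg_smul, add_neg_eq_zero] at h; exact h.symm⟩)
  have hQy : Q y₀ ≠ 0 := fun h => hy0 (haniso _ hy₀W h)
  have hval : Q y₀ = Q x := by
    rcases OrthThree.cases_three hq (Q x) with h | h | h <;>
      rcases OrthThree.cases_three hq (Q y₀) with h' | h' | h' <;>
      first
        | exact absurd h hQx
        | exact absurd h' hQy
        | exact h'.trans h.symm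
        | exfalso
          have hz : x + y₀ = 0 := haniso _ (W.add_mem hx hy₀W)
            (by rw [QuadraticMap.map_add (⇑Q), h, h', hyx]; ring)
          rw [add_eq_zero_iff_eq_neg] at hz
          rw [hz, polar_neg_left, neg_eq_zero, polar_self', mul_eq_zero] at hyx
          exact hQy (hyx.resolve_left h2)
  rcases (OrthThree.cases_three hq (Q x)).resolve_left hQx with h | h
  · exact ⟨x, hx, y₀, hy₀W, h, hval.trans h, hyx⟩
  · refine ⟨x + y₀, W.add_mem hx hy₀W, x + (-1 : F) • y₀, W.add_mem hx (W.smul_mem _ hy₀W), ?_, ?_,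
      ?_⟩
    · rw [QuadraticMap.map_add (⇑Q), hval, h, hyx]; linear_combination -h3
    · rw [Classical.Quad.Q_comb1, hval, h, hyx]; linear_combination -h3
    · simp only [polar_add_left, polar_add_right, polar_smul_right, polar_self', hyx,
        polar_comm Q y₀ x, hval, smul_eq_mul]
      ring

end CfsgLib.ClassicalMax.OmP
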