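/-
Decompositions into plus-type planes over at most five elements, and four-spaces over two elements.
-/
import Cfsg.Agent.Lib.ClassicalMax.OrthPlanes
set_option autoImplicit false

namespace CfsgLib.ClassicalMax.OmP

open Matrix Cfsg.Geo QuadraticMap Module
open CfsgLib.Classical.Quad (NDPolar Orth Frame polar_self' polar_singular_self)

variable {ι : Type} [Fintype ι] [DecidableEq ι] {F : Type*} [Field F] {Q : QuadraticForm F (ι → F)}

/-- Hyperbolic pairs in all members. -/
theorem hyp_blocks {t : ℕ} {D : Fin t → Submodule F (ι → F)}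
    (hD : IsOrthogonalMDecomposition ⇑Q 2 D) (i₀ : Fin t) (hp : IsPlusTypeOn ⇑Q (D i₀)) :
    ∃ u v : Fin t → ι → F, ∀ i, u i ∈ D i ∧ v i ∈ D i ∧ Q (u i) = 0 ∧ Q (v i) = 0 ∧
      polar Q (u i) (v i) = 1 := by
  obtain ⟨u₀, hu₀, v₀, hv₀, hQu, hQv, huv⟩ :=
    exists_hyp_pair (hD.decomp.decomp.finrank_eq i₀) (hD.decomp.nondegenerate i₀) hp
  choose e he hep using fun i => transport hD i₀ i
  exact ⟨fun i => (e i ⟨u₀, hu₀⟩ : ι → F), fun i => (e i ⟨v₀, hv₀⟩ : ι → F), fun i =>
    ⟨(e i _).2, (e i _).2, by rw [he]; exact hQu, by rw [he]; exact hQv, by rw [hep]; exact huv⟩⟩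

omit [Fintype ι] [DecidableEq ι] in
theorem Q_pair {u v : ι → F} (hu : Q u = 0) (hv : Q v = 0) (huv : polar Q u v = 1) (a b : F) :
    Q (a • u + b • v) = a * b := by
  simp [QuadraticMap.map_add (⇑Q), QuadraticMap.map_smul, polar_smul_left, polar_smul_right, hu, hv,
    huv, mul_comm]

omit [Fintype ι] [DecidableEq ι] in
theorem polar_pair {u v : ι → F} (hu : Q u = 0) (hv : Q v = 0) (huv : polar Q u v = 1)
    (a b a' b' : F) :
    polar Q (a • u + b • v) (a' • u + b' • v) = a * b' + b * a' := by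
  simp [polar_add_left, polar_add_right, polar_smul_left, polar_smul_right, polar_singular_self hu,
    polar_singular_self hv, huv, polar_comm Q v u]
  ring

variable [Fintype F]

theorem mem_stabilizing_of_forall {S : Set (ι → F)} {g : GL ι F}
    (h : ∀ x ∈ S, (g : Matrix ι ι F) *ᵥ x ∈ S) : g ∈ Cfsg.stabilizing (Cfsg.glToMat ι F) S := by
  classical
  intro x
  refine ⟨h x, fun hx => ?_⟩
  change (g : Matrix ι ι F) *ᵥ x ∈ S at hx
  have he : (fun y => (g : Matrix ι ι F) *ᵥ y) '' S = S :=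
    Set.eq_of_subset_of_ncard_le (Set.image_subset_iff.2 h)
      (by rw [Set.ncard_image_of_injective _ (gl_mulVec_injective g)]) (Set.toFinite _)
  rw [← he] at hx
  obtain ⟨y, hy, e⟩ := hx
  rwa [← gl_mulVec_injective g e]

variable (hnd : NDPolar Q) (P : Frame Q)

section fixed
include hnd P

/-- One distinguished point in each member: their span is stabilised. -/
theorem points_not_maximal {t k : ℕ} (hk : 2 ≤ k) {D : Fin t → Submodule F (ι → F)}
    (hD : IsOrthogonalMDecomposition ⇑Q k D) {p : Fin t → ι → F} (hp : ∀ i, p i ∈ D i) {c : F}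
    (hc : c ≠ 0) (hQp : ∀ i, Q (p i) = c) (hone : ∀ i, ∀ x ∈ D i, Q x = c → ∃ d : F, x = d • p i)
    {h : GL ι F} (hh : h ∈ omegaGL ⇑Q) (hfix : ∀ i, (h : Matrix ι ι F) *ᵥ p i = p i)
    {i j : Fin t} (hij : i ≠ j) {x y : ι → F} (hx : x ∈ D i) (hy : y ∈ D j)
    (hxy : polar Q ((h : Matrix ι ι F) *ᵥ x) y ≠ 0) :
    ∃ K : Subgroup (GL ι F), decompositionStabilizer D ⊓ omegaGL ⇑Q < K ∧ K < omegaGL ⇑Q := by
  classical
  set T := Submodule.span F (Set.range p)
  refine ⟨subspaceStabilizer T ⊓ omegaGL ⇑Q, lt_of_le_of_ne ?_ ?_, lt_of_le_of_ne inf_le_right ?_⟩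
  · rintro g ⟨hgD, hgo⟩
    refine ⟨mem_subspaceStabilizer_of_forall fun z hz => ?_, hgo⟩
    induction hz using Submodule.span_induction with
    | mem z hz =>
      obtain ⟨l, rfl⟩ := hz
      obtain ⟨m, hm⟩ := Frames.exists_block_image hgD l
      obtain ⟨d, hd⟩ := hone m _ (hm _ (hp l)) ((OmS.omega_iso hgo _).trans (hQp l))
      rw [hd]
      exact Submodule.smul_mem _ _ (Submodule.subset_span (Set.mem_range_self m))
    | zero => simp
    | add a b _ _ ha hb => rw [mulVec_add]; exact add_mem ha hb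
    | smul d a _ ha => rw [mulVec_smul]; exact Submodule.smul_mem _ _ ha
  · intro e
    have hmem : h ∈ subspaceStabilizer T ⊓ omegaGL ⇑Q := by
      refine ⟨mem_subspaceStabilizer_of_forall fun z hz => ?_, hh⟩
      induction hz using Submodule.span_induction with
      | mem z hz =>
        obtain ⟨l, rfl⟩ := hz
        rw [hfix]
        exact Submodule.subset_span (Set.mem_range_self l)
      | zero => simp
      | add a b _ _ ha hb => rw [mulVec_add]; exact add_mem ha hb
      | smul d a _ ha => rw [mulVec_smul]; exact Submodule.smul_mem _ _ ha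
    rw [← e] at hmem
    obtain ⟨m, hm⟩ := Frames.exists_block_image hmem.1 i
    have hmi : m = i := by
      by_contra hne
      have := Submodule.disjoint_def.1 (hD.decomp.decomp.indep.pairwiseDisjoint hne) _
        (hfix i ▸ hm _ (hp i)) (hp i)
      exact hc (by rw [← hQp i, this, map_zero Q])
    subst hmi
    exact hxy (hD.decomp.orthogonal m j hij _ (hm x hx) _ hy)
  · intro e
    have hp0 : p i ≠ 0 := fun h0 => hc (by rw [← hQp i, h0, map_zero Q])
    refine Asch.omega_not_le_subspace hnd P ?_ ?_ (inf_eq_right.1 e)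
    · exact fun h0 => hp0 (Submodule.mem_bot F |>.1 (h0 ▸ Submodule.subset_span
        (Set.mem_range_self i)))
    · intro h0
      have h1 := finrank_range_le_card (R := F) p
      rw [Set.finrank, show Submodule.span F (Set.range p) = ⊤ from h0, finrank_top,
        finrank_fintype_fun_eq_card, Fintype.card_fin, ← Unit.Frame.card_blocks hD.decomp.decomp]
        at h1
      have := i.pos
      nlinarith

/-- Plus planes over three elements. -/
theorem plus_planes_three (hq : Fintype.card F = 3) {t : ℕ} (ht : 3 ≤ t)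
    {D : Fin t → Submodule F (ι → F)} (hD : IsOrthogonalMDecomposition ⇑Q 2 D)
    (hp : ∀ i, IsPlusTypeOn ⇑Q (D i)) :
    ∃ K : Subgroup (GL ι F), decompositionStabilizer D ⊓ omegaGL ⇑Q < K ∧ K < omegaGL ⇑Q := by
  classical
  have h3 := OrthThree.three_eq_zero hq
  have h2 := OrthThree.two_ne_zero' hq
  obtain ⟨u, v, huv⟩ := hyp_blocks hD ⟨0, by omega⟩ (hp _)
  choose hu hv hQu hQv hB using huv
  let j : Fin 3 → Fin t := Fin.castLE ht
  have hj : ∀ a b, a ≠ b → j a ≠ j b := fun a b h e => h (Fin.castLE_injective _ e)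
  let p : Fin t → ι → F := fun i => (1 : F) • u i + (1 : F) • v i
  let m : Fin t → ι → F := fun i => (1 : F) • u i + (-1 : F) • v i
  have hpD : ∀ i, p i ∈ D i := fun i => add_mem ((D i).smul_mem _ (hu i)) ((D i).smul_mem _ (hv i))
  have hmD : ∀ i, m i ∈ D i := fun i => add_mem ((D i).smul_mem _ (hu i)) ((D i).smul_mem _ (hv i))
  have horth : ∀ a b, a ≠ b → ∀ x ∈ D a, ∀ y ∈ D b, polar Q x y = 0 := fun a b h =>
    hD.decomp.orthogonal a b h
  have hmm : ∀ i, polar Q (m i) (m i) = -2 := fun i => by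
    rw [polar_pair (hQu i) (hQv i) (hB i)]; ring
  have hpm : ∀ i l, polar Q (p i) (m l) = 0 := fun i l => by
    rcases eq_or_ne i l with rfl | h
    · rw [polar_pair (hQu i) (hQv i) (hB i)]; ring
    · exact horth _ _ h _ (hpD i) _ (hmD l)
  have hm0 : ∀ a b, a ≠ b → polar Q (m (j a)) (m (j b)) = 0 := fun a b h =>
    horth _ _ (hj a b h) _ (hmD _) _ (hmD _)
  have hQm : ∀ i, Q (m i) = -1 := fun i => by rw [Q_pair (hQu i) (hQv i) (hB i)]; ring
  set U := m (j 0) + m (j 1) + m (j 2) with hU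
  set w := m (j 0) + (-1 : F) • m (j 1) with hw
  have hQU : Q U = 0 := by
    simp only [hU, QuadraticMap.map_add (⇑Q), polar_add_left, hQm, hm0 0 1 (by decide),
      hm0 0 2 (by decide), hm0 1 2 (by decide)]
    linear_combination -h3
  have hUw : polar Q U w = 0 := by
    simp only [hU, hw, polar_add_left, polar_add_right, polar_smul_right, hmm,
      hm0 0 1 (by decide), hm0 1 0 (by decide), hm0 2 0 (by decide), hm0 2 1 (by decide),
      smul_eq_mul]
    ring
  have hQw : Q w = -2 := by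
    rw [hw, Classical.Quad.Q_comb1, hQm, hQm, hm0 0 1 (by decide)]; ring
  obtain ⟨h, hh, hhx⟩ := OmS.exists_sg hnd P hQU hUw
  refine points_not_maximal hnd P le_rfl hD (p := p) hpD (c := 1) one_ne_zero
    (fun i => by rw [Q_pair (hQu i) (hQv i) (hB i), one_mul]) (fun i x hx hxx => ?_) hh
    (fun i => ?_) (i := j 0) (j := j 2) (hj _ _ (by decide)) (x := m (j 0)) (y := m (j 2))
    (hmD _) (hmD _) ?_
  · obtain ⟨a, b, rfl⟩ := pair_span (hD.decomp.decomp.finrank_eq i) (hu i) (hv i)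
      (li_of_hyp (hQu i) (hB i)) hx
    rw [Q_pair (hQu i) (hQv i) (hB i)] at hxx
    refine ⟨a, ?_⟩
    have hab : b = a := by
      rcases OrthThree.cases_three hq a with h | h | h <;> rw [h] at hxx ⊢
      · simp at hxx
      · linear_combination hxx
      · linear_combination -hxx
    simp [p, hab]
  · rw [hhx (p i), show polar Q (p i) U = 0 by simp [hU, polar_add_right, hpm],
      show polar Q (p i) w = 0 by simp [hw, polar_add_right, polar_smul_right, hpm]]
    simp
  · rw [hhx (m (j 0)), hQw]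
    simp only [hU, hw, polar_add_left, polar_add_right, polar_smul_left, polar_smul_right, hmm,
      hm0 0 1 (by decide), hm0 0 2 (by decide), hm0 1 2 (by decide), smul_eq_mul]
    ring_nf
    intro hz
    exact one_ne_zero (α := F) (by linear_combination hz - h3)

/-- Plus planes over two elements. -/
theorem plus_planes_two (hq : Fintype.card F = 2) {t : ℕ} (ht : 3 ≤ t)
    {D : Fin t → Submodule F (ι → F)} (hD : IsOrthogonalMDecomposition ⇑Q 2 D)
    (hp : ∀ i, IsPlusTypeOn ⇑Q (D i)) :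
    ∃ K : Subgroup (GL ι F), decompositionStabilizer D ⊓ omegaGL ⇑Q < K ∧ K < omegaGL ⇑Q := by
  classical
  have two : (2 : F) = 0 := by
    have := Nat.cast_card_eq_zero F
    rw [hq] at this; exact_mod_cast this
  have hbool : ∀ c : F, c = 0 ∨ c = 1 := by
    intro c
    by_contra hc
    push Not at hc
    have h3 : ({0, 1, c} : Finset F).card = 3 :=
      Finset.card_eq_three.2 ⟨0, 1, c, zero_ne_one, hc.1.symm, hc.2.symm, rfl⟩
    have := Finset.card_le_univ ({0, 1, c} : Finset F)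
    omega
  obtain ⟨u, v, huv⟩ := hyp_blocks hD ⟨0, by omega⟩ (hp _)
  choose hu hv hQu hQv hB using huv
  let j : Fin 3 → Fin t := Fin.castLE ht
  have hj : ∀ a b, a ≠ b → j a ≠ j b := fun a b h e => h (Fin.castLE_injective _ e)
  let p : Fin t → ι → F := fun i => (1 : F) • u i + (1 : F) • v i
  have hpD : ∀ i, p i ∈ D i := fun i => add_mem ((D i).smul_mem _ (hu i)) ((D i).smul_mem _ (hv i))
  have horth : ∀ a b, a ≠ b → ∀ x ∈ D a, ∀ y ∈ D b, polar Q x y = 0 := fun a b h =>
    hD.decomp.orthogonal a b h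
  have hpp : ∀ i l, polar Q (p i) (p l) = 0 := fun i l => by
    rcases eq_or_ne i l with rfl | h
    · rw [polar_pair (hQu i) (hQv i) (hB i)]; linear_combination two
    · exact horth _ _ h _ (hpD i) _ (hpD l)
  have hQp : ∀ i, Q (p i) = 1 := fun i => by rw [Q_pair (hQu i) (hQv i) (hB i), one_mul]
  have hup : ∀ i, polar Q (u i) (p i) = 1 := fun i => by
    simp [p, polar_add_right, polar_singular_self (hQu i), hB i]
  set U := p (j 0) + p (j 1) with hU
  have hQU : Q U = 0 := by
    rw [hU, QuadraticMap.map_add (⇑Q), hQp, hQp, hpp]; linear_combination two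
  have hUw : polar Q U (p (j 2)) = 0 := by rw [hU, polar_add_left, hpp, hpp, add_zero]
  obtain ⟨h, hh, hhx⟩ := OmS.exists_sg hnd P hQU hUw
  refine points_not_maximal hnd P le_rfl hD (p := p) hpD (c := 1) one_ne_zero hQp
    (fun i x hx hxx => ?_) hh (fun i => ?_) (i := j 0) (j := j 2) (hj _ _ (by decide))
    (x := u (j 0)) (y := u (j 2)) (hu _) (hu _) ?_
  · obtain ⟨a, b, rfl⟩ := pair_span (hD.decomp.decomp.finrank_eq i) (hu i) (hv i)
      (li_of_hyp (hQu i) (hB i)) hx
    rw [Q_pair (hQu i) (hQv i) (hB i)] at hxx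
    refine ⟨1, ?_⟩
    rcases hbool a with rfl | rfl <;> rcases hbool b with rfl | rfl <;> simp_all [p]
  · rw [hhx (p i), show polar Q (p i) U = 0 by simp [hU, polar_add_right, hpp], hpp]
    simp
  · have h0 : polar Q (p (j 0)) (u (j 2)) = 0 := horth _ _ (hj 0 2 (by decide)) _ (hpD _) _ (hu _)
    have h1 : polar Q (p (j 1)) (u (j 2)) = 0 := horth _ _ (hj 1 2 (by decide)) _ (hpD _) _ (hu _)
    have h02 : polar Q (u (j 0)) (p (j 1)) = 0 := horth _ _ (hj 0 1 (by decide)) _ (hu _) _ (hpD _)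
    have h03 : polar Q (u (j 0)) (p (j 2)) = 0 := horth _ _ (hj 0 2 (by decide)) _ (hu _) _ (hpD _)
    have h04 : polar Q (u (j 0)) (u (j 2)) = 0 := horth _ _ (hj 0 2 (by decide)) _ (hu _) _ (hu _)
    rw [hhx (u (j 0))]
    simp only [hU, polar_add_left, polar_add_right, polar_smul_left, hup, h02, h03, h04, h0, h1,
      polar_comm Q (p (j 2)) (u (j 2)), smul_eq_mul]
    simp

end fixed

section four
include hnd P

/-- Plus planes over four elements carry a rational structure over two. -/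
theorem plus_planes_four (hQ : IsNondegenerateQuadraticForm ⇑Q) (hq : Fintype.card F = 4) {t : ℕ}
    (ht : 3 ≤ t) {D : Fin t → Submodule F (ι → F)} (hD : IsOrthogonalMDecomposition ⇑Q 2 D)
    (hp : ∀ i, IsPlusTypeOn ⇑Q (D i)) :
    ∃ K : Subgroup (GL ι F), decompositionStabilizer D ⊓ omegaGL ⇑Q < K ∧ K < omegaGL ⇑Q := by
  classical
  have two : (2 : F) = 0 := by
    have := Nat.cast_card_eq_zero F
    rw [hq] at this
    exact mul_self_eq_zero.1 (by exact_mod_cast (show ((2 * 2 : ℕ) : F) = 0 from this))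
  haveI := OrthCrit.charP_two_of two
  obtain ⟨ω, hω0, hω1⟩ : ∃ ω : F, ω ≠ 0 ∧ ω ≠ 1 :=
    CfsgLib.Orth.exists_ne_zero_ne_one_of_card (by omega)
  have hpow : ∀ x : F, x ≠ 0 → x ^ 3 = 1 := fun x hx => by
    have := FiniteField.pow_card_sub_one_eq_one x hx
    rwa [hq] at this
  have hω : ω ^ 2 + ω + 1 = 0 := by
    have : (ω - 1) * (ω ^ 2 + ω + 1) = 0 := by linear_combination hpow ω hω0
    exact (mul_eq_zero.1 this).resolve_left (sub_ne_zero.2 hω1)
  have hall : ∀ x : F, x = 0 ∨ x = 1 ∨ x = ω ∨ x = ω * ω := by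
    intro x
    rcases eq_or_ne x 0 with h | h
    · exact Or.inl h
    have : (x - 1) * ((x - ω) * (x - ω * ω)) = 0 := by
      linear_combination hpow x h - (x ^ 2 - x * ω + ω - 1) * hω
    simp only [mul_eq_zero, sub_eq_zero] at this
    tauto
  obtain ⟨u, v, huv⟩ := hyp_blocks hD ⟨0, by omega⟩ (hp _)
  choose hu hv hQu hQv hB using huv
  let j : Fin 3 → Fin t := Fin.castLE ht
  have hj : ∀ a b, a ≠ b → j a ≠ j b := fun a b h e => h (Fin.castLE_injective _ e)
  let a : Fin t → ι → F := fun i => (1 : F) • u i + (1 : F) • v i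
  let b : Fin t → ι → F := fun i => ω • u i + (ω * ω) • v i
  have haD : ∀ i, a i ∈ D i := fun i => add_mem ((D i).smul_mem _ (hu i)) ((D i).smul_mem _ (hv i))
  have hbD : ∀ i, b i ∈ D i := fun i => add_mem ((D i).smul_mem _ (hu i)) ((D i).smul_mem _ (hv i))
  have horth : ∀ a b, a ≠ b → ∀ x ∈ D a, ∀ y ∈ D b, polar Q x y = 0 := fun a b h =>
    hD.decomp.orthogonal a b h
  have hQa : ∀ i, Q (a i) = 1 := fun i => by rw [Q_pair (hQu i) (hQv i) (hB i), one_mul]
  have hQb : ∀ i, Q (b i) = 1 := fun i => by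
    rw [Q_pair (hQu i) (hQv i) (hB i)]; linear_combination hpow ω hω0
  have haa : ∀ i l, polar Q (a i) (a l) = 0 := fun i l => by
    rcases eq_or_ne i l with rfl | h
    · rw [polar_pair (hQu i) (hQv i) (hB i)]; linear_combination two
    · exact horth _ _ h _ (haD i) _ (haD l)
  have hbb : ∀ i l, polar Q (b i) (b l) = 0 := fun i l => by
    rcases eq_or_ne i l with rfl | h
    · rw [polar_pair (hQu i) (hQv i) (hB i)]; linear_combination ω * ω * ω * two
    · exact horth _ _ h _ (hbD i) _ (hbD l)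
  have hab : ∀ i, polar Q (a i) (b i) = 1 := fun i => by
    rw [polar_pair (hQu i) (hQv i) (hB i)]; linear_combination hω - two
  have hab' : ∀ i l, i ≠ l → polar Q (a i) (b l) = 0 := fun i l h => horth _ _ h _ (haD i) _ (hbD l)
  set W₀ : AddSubgroup (ι → F) := AddSubgroup.closure (Set.range a ∪ Set.range b) with hW₀
  have hga : ∀ i, a i ∈ W₀ := fun i => AddSubgroup.subset_closure (Or.inl (Set.mem_range_self i))
  have hgb : ∀ i, b i ∈ W₀ := fun i => AddSubgroup.subset_closure (Or.inr (Set.mem_range_self i))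
  have hgen : ∀ i, ∀ x ∈ D i, Q x = 1 → x ∈ W₀ := by
    intro i x hx hxx
    obtain ⟨c, d, rfl⟩ := pair_span (hD.decomp.decomp.finrank_eq i) (hu i) (hv i)
      (li_of_hyp (hQu i) (hB i)) hx
    rw [Q_pair (hQu i) (hQv i) (hB i)] at hxx
    have hd : d = c ^ 2 := by
      have hc : c ≠ 0 := fun h => zero_ne_one (α := F) (by rw [← hxx, h, zero_mul])
      refine mul_left_cancel₀ hc (hxx.trans ?_)
      linear_combination -hpow c hc
    subst hd
    rcases hall c with rfl | rfl | rfl | rfl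
    · simp at hxx
    · simpa [a] using hga i
    · simpa [b, pow_two] using hgb i
    · convert add_mem (hga i) (hgb i) using 1
      simp only [a, b]
      match_scalars
      · linear_combination hω - (ω + 1) * two
      · linear_combination ω * hpow ω hω0 - hω + ω * two
  have hbit : ∀ x ∈ W₀, ∀ y ∈ W₀, polar Q x y = 0 ∨ polar Q x y = 1 := by
    have h01 : ∀ c d : F, (c = 0 ∨ c = 1) → (d = 0 ∨ d = 1) → (c + d = 0 ∨ c + d = 1) := by
      rintro c d (rfl | rfl) (rfl | rfl) <;> simp [CharTwo.add_self_eq_zero]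
    intro x hx y hy
    induction hx using AddSubgroup.closure_induction with
    | mem x hx =>
      induction hy using AddSubgroup.closure_induction with
      | mem y hy =>
        rcases hx with ⟨i, rfl⟩ | ⟨i, rfl⟩ <;> rcases hy with ⟨l, rfl⟩ | ⟨l, rfl⟩ <;>
          rcases eq_or_ne i l with rfl | h <;>
          simp [haa, hbb, hab, polar_comm Q (b _) (a _), hab', Ne.symm, *]
      | zero => simp
      | add y z _ _ hy hz => rw [polar_add_right]; exact h01 _ _ hy hz
      | neg y _ hy => rw [polar_neg_right, CharTwo.neg_eq]; exact hy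
    | zero => simp
    | add x z _ _ hx hz => rw [polar_add_left]; exact h01 _ _ hx hz
    | neg x _ hx => rw [polar_neg_left, CharTwo.neg_eq]; exact hx
  refine ⟨Cfsg.stabilizing (Cfsg.glToMat ι F) (W₀ : Set (ι → F)) ⊓ omegaGL ⇑Q,
    lt_of_le_of_ne ?_ ?_, lt_of_le_of_ne inf_le_right ?_⟩
  · rintro g ⟨hgD, hgo⟩
    refine ⟨mem_stabilizing_of_forall fun x hx => ?_, hgo⟩
    induction hx using AddSubgroup.closure_induction with
    | mem x hx =>
      rcases hx with ⟨i, rfl⟩ | ⟨i, rfl⟩ <;> obtain ⟨l, hl⟩ := Frames.exists_block_image hgD i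
      · exact hgen l _ (hl _ (haD i)) ((OmS.omega_iso hgo _).trans (hQa i))
      · exact hgen l _ (hl _ (hbD i)) ((OmS.omega_iso hgo _).trans (hQb i))
    | zero => simp
    | add x z _ _ hx hz => rw [mulVec_add]; exact add_mem hx hz
    | neg x _ hx => rw [mulVec_neg]; exact neg_mem hx
  · intro e
    set r := a (j 0) + a (j 1) + a (j 2) with hr
    have hrW : r ∈ W₀ := add_mem (add_mem (hga _) (hga _)) (hga _)
    have hQr : Q r = 1 := by
      simp only [hr, QuadraticMap.map_add (⇑Q), polar_add_left, hQa, haa]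
      linear_combination two
    have hrs : polar Q r (b (j 0)) = 1 := by
      simp only [hr, polar_add_left, hab, hab' _ _ (hj 1 0 (by decide)),
        hab' _ _ (hj 2 0 (by decide)), add_zero]
    have hr0 : Q r ≠ 0 := by rw [hQr]; exact one_ne_zero
    have hs0 : Q (b (j 0)) ≠ 0 := by rw [hQb]; exact one_ne_zero
    have hmove : ∀ (z : ι → F) (hz : Q z ≠ 0), Q z = 1 → z ∈ W₀ → ∀ x ∈ W₀,
        (Om.rf hQ hz : Matrix ι ι F) *ᵥ x ∈ W₀ := by
      intro z hz hz1 hzW x hx
      rw [Om.rf_mulVec, hz1, div_one]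
      rcases hbit x hx z hzW with h | h <;> rw [h]
      · simpa using hx
      · simpa using sub_mem hx hzW
    have hmem : (Om.rf hQ hr0 * Om.rf hQ hs0 : GL ι F) ∈
        Cfsg.stabilizing (Cfsg.glToMat ι F) (W₀ : Set (ι → F)) ⊓ omegaGL ⇑Q := by
      refine ⟨mem_stabilizing_of_forall fun x hx => ?_,
        Om.rf_mul_rf_mem hQ hr0 hs0 (hQr.trans (hQb _).symm) ?_⟩
      · rw [gl_mulVec_mul]
        exact hmove r hr0 hQr hrW _ (hmove _ hs0 (hQb _) (hgb _) x hx)
      · rw [Om.Q_sub hQ, hQr, hQb, hrs]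
        exact fun h => one_ne_zero (α := F) (by linear_combination h)
    rw [← e] at hmem
    obtain ⟨l, hl⟩ := Frames.exists_block_image hmem.1 (j 1)
    have ha1 : ((Om.rf hQ hr0 * Om.rf hQ hs0 : GL ι F) : Matrix ι ι F) *ᵥ a (j 1) = a (j 1) := by
      rw [gl_mulVec_mul, Om.rf_fix hQ hs0 (hab' _ _ (hj 1 0 (by decide))),
        Om.rf_fix hQ hr0 (by simp [hr, polar_add_right, haa])]
    have hl1 : l = j 1 := by
      by_contra hne
      have := Submodule.disjoint_def.1 (hD.decomp.decomp.indep.pairwiseDisjoint hne) _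
        (ha1 ▸ hl _ (haD _)) (haD _)
      exact one_ne_zero (α := F) (by rw [← hQa (j 1), this, map_zero Q])
    subst hl1
    have := horth _ _ (hj 1 0 (by decide)) _ (hl _ (hbD _)) _ (hbD (j 0))
    rw [gl_mulVec_mul, Om.rf_fix hQ hs0 (hbb _ _), Om.rf_mulVec, hQr, div_one,
      polar_comm Q (b (j 1)) r, Om.sub_left hQ, hbb, Om.smul_left hQ, hrs,
      show polar Q r (b (j 1)) = 1 by
        simp only [hr, polar_add_left, hab, hab' _ _ (hj 0 1 (by decide)),
          hab' _ _ (hj 2 1 (by decide)), add_zero, zero_add]] at this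
    simp at this
  · intro e
    set U := a (j 0) + a (j 1) with hU
    have hQU : Q U = 0 := by
      rw [hU, QuadraticMap.map_add (⇑Q), hQa, hQa, haa]; linear_combination two
    have hUw : polar Q U (ω • a (j 2)) = 0 := by simp [hU, polar_add_left, polar_smul_right, haa]
    obtain ⟨h, hh, hhx⟩ := OmS.exists_sg hnd P hQU hUw
    rw [← e] at hh
    have h1 : (h : Matrix ι ι F) *ᵥ b (j 0) ∈ W₀ := (hh.1 (b (j 0))).1 (hgb _)
    have hv : polar Q ((h : Matrix ι ι F) *ᵥ b (j 0)) (b (j 2)) = ω := by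
      rw [hhx (b (j 0))]
      simp only [hU, polar_add_left, polar_add_right, polar_smul_left, polar_smul_right, hbb,
        polar_comm Q (b (j 0)) (a _), hab, hab' _ _ (hj 1 0 (by decide)),
        hab' _ _ (hj 0 2 (by decide)), hab' _ _ (hj 1 2 (by decide)), smul_eq_mul]
      ring
    rcases hbit _ h1 _ (hgb (j 2)) with h0 | h0 <;> rw [hv] at h0
    · exact hω0 h0
    · exact hω1 h0

/-- Four-spaces of plus type over two elements: each carries six points of value one. -/
theorem plus_quads_two (hQ : IsNondegenerateQuadraticForm ⇑Q) (hq : Fintype.card F = 2) {t : ℕ} (ht : 3 ≤ t)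
    {D : Fin t → Submodule F (ι → F)} (hD : IsOrthogonalMDecomposition ⇑Q 4 D)
    (hp : ∀ i, IsPlusTypeOn ⇑Q (D i)) :
    ∃ K : Subgroup (GL ι F), decompositionStabilizer D ⊓ omegaGL ⇑Q < K ∧ K < omegaGL ⇑Q := by
  classical
  have two : (2 : F) = 0 := by
    have := Nat.cast_card_eq_zero F
    rw [hq] at this; exact_mod_cast this
  haveI := OrthCrit.charP_two_of two
  have hbool : ∀ c : F, c = 0 ∨ c = 1 := by
    intro c
    by_contra hc
    push Not at hc
    have h3 : ({0, 1, c} : Finset F).card = 3 :=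
      Finset.card_eq_three.2 ⟨0, 1, c, zero_ne_one, hc.1.symm, hc.2.symm, rfl⟩
    have := Finset.card_le_univ ({0, 1, c} : Finset F)
    omega
  let j : Fin 3 → Fin t := Fin.castLE ht
  have hj : ∀ a b, a ≠ b → j a ≠ j b := fun a b h e => h (Fin.castLE_injective _ e)
  -- two hyperbolic pairs in the first member
  obtain ⟨q, hqD, hgram⟩ : ∃ q : Fin 4 → ι → F, (∀ k, q k ∈ D (j 0)) ∧
      (∀ k, Q (q k) = 1) ∧ polar Q (q 0) (q 1) = 1 ∧ polar Q (q 2) (q 3) = 1 ∧
      polar Q (q 0) (q 2) = 0 ∧ polar Q (q 0) (q 3) = 0 ∧ polar Q (q 1) (q 2) = 0 ∧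
      polar Q (q 1) (q 3) = 0 := by
    obtain ⟨U, hUD, hUs, hUd⟩ := hp (j 0)
    rw [hD.decomp.decomp.finrank_eq] at hUd
    obtain ⟨u₁, hu₁, hu₁0⟩ := Submodule.exists_mem_ne_zero_of_ne_bot (p := U) fun h => by
      rw [h, finrank_bot] at hUd; omega
    obtain ⟨u₂, hu₂, hu₂1⟩ : ∃ u₂ ∈ U, u₂ ∉ Submodule.span F {u₁} := by
      by_contra hc
      push Not at hc
      have h1 := Submodule.finrank_mono (show U ≤ Submodule.span F {u₁} from hc)
      rw [finrank_span_singleton hu₁0] at h1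
      omega
    have hpr : ∀ z, ∃ z' ∈ D (j 0), ∀ x ∈ D (j 0), polar Q x z' = polar Q x z := fun z => by
      obtain ⟨z', hz', hz⟩ := Om.exists_proj hQ (hD.decomp.nondegenerate (j 0)) z
      refine ⟨z', hz', fun x hx => ?_⟩
      have h := hz x hx
      rw [polar_sub_left, sub_eq_zero] at h
      rw [polar_comm Q x z', polar_comm Q x z, h]
    have hu₁1 : u₁ ∉ Submodule.span F {u₂} := fun h => by
      obtain ⟨c, rfl⟩ := Submodule.mem_span_singleton.1 h
      have hc : c ≠ 0 := fun hc => hu₁0 (by rw [hc, zero_smul])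
      exact hu₂1 (Submodule.mem_span_singleton.2 ⟨c⁻¹, by rw [smul_smul, inv_mul_cancel₀ hc, one_smul]⟩)
    obtain ⟨l₁, hl₁, hl₁'⟩ := Forms.exists_dual_eq _ hu₁1 (1 : F)
    obtain ⟨l₂, hl₂, hl₂'⟩ := Forms.exists_dual_eq _ hu₂1 (1 : F)
    obtain ⟨y₁, hy₁⟩ := Classical.Quad.exists_polar hnd l₁
    obtain ⟨y₂, hy₂⟩ := Classical.Quad.exists_polar hnd l₂
    obtain ⟨z₁, hz₁, hz₁'⟩ := hpr y₁
    obtain ⟨z₂, hz₂, hz₂'⟩ := hpr y₂
    have huu : polar Q u₁ u₂ = 0 := OmE.ts_polar hUs hu₁ hu₂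
    have h11 := polar_singular_self (hUs u₁ hu₁)
    have h22 := polar_singular_self (hUs u₂ hu₂)
    have a11 : polar Q u₁ z₁ = 1 := by rw [hz₁' _ (hUD hu₁), polar_comm, hy₁, hl₁']
    have a21 : polar Q u₂ z₁ = 0 := by
      rw [hz₁' _ (hUD hu₂), polar_comm, hy₁, hl₁ _ (Submodule.mem_span_singleton_self _)]
    have a22 : polar Q u₂ z₂ = 1 := by rw [hz₂' _ (hUD hu₂), polar_comm, hy₂, hl₂']
    have a12 : polar Q u₁ z₂ = 0 := by
      rw [hz₂' _ (hUD hu₁), polar_comm, hy₂, hl₂ _ (Submodule.mem_span_singleton_self _)]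
    obtain ⟨v₁, hv₁, hQ1, b11, b21⟩ : ∃ v₁ ∈ D (j 0), Q v₁ = 0 ∧ polar Q u₁ v₁ = 1 ∧
        polar Q u₂ v₁ = 0 := by
      refine ⟨z₁ + (-(Q z₁)) • u₁, add_mem hz₁ ((D _).smul_mem _ (hUD hu₁)), ?_, ?_, ?_⟩
      · rw [Classical.Quad.Q_comb1, hUs u₁ hu₁, polar_comm Q z₁ u₁, a11]; ring
      · rw [polar_add_right, polar_smul_right, a11, h11, smul_zero, add_zero]
      · rw [polar_add_right, polar_smul_right, a21, polar_comm Q u₂ u₁, huu, smul_zero, add_zero]
    obtain ⟨v₂, hv₂, hQ2, b22, b12, b33⟩ : ∃ v₂ ∈ D (j 0), Q v₂ = 0 ∧ polar Q u₂ v₂ = 1 ∧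
        polar Q u₁ v₂ = 0 ∧ polar Q v₁ v₂ = 0 := by
      set z := z₂ + (-(polar Q v₁ z₂)) • u₁ with hz
      have hzD : z ∈ D (j 0) := add_mem hz₂ ((D _).smul_mem _ (hUD hu₁))
      have c22 : polar Q u₂ z = 1 := by
        rw [hz, polar_add_right, polar_smul_right, a22, polar_comm Q u₂ u₁, huu, smul_zero, add_zero]
      have c12 : polar Q u₁ z = 0 := by
        rw [hz, polar_add_right, polar_smul_right, a12, h11, smul_zero, add_zero]
      have c33 : polar Q v₁ z = 0 := by
        rw [hz, polar_add_right, polar_smul_right, polar_comm Q v₁ u₁, b11, smul_eq_mul, mul_one,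
          add_neg_cancel]
      clear_value z
      refine ⟨z + (-(Q z)) • u₂, add_mem hzD ((D _).smul_mem _ (hUD hu₂)), ?_, ?_, ?_, ?_⟩
      · rw [Classical.Quad.Q_comb1, hUs u₂ hu₂, polar_comm Q z u₂, c22]; ring
      · rw [polar_add_right, polar_smul_right, c22, h22, smul_zero, add_zero]
      · rw [polar_add_right, polar_smul_right, c12, huu, smul_zero, add_zero]
      · rw [polar_add_right, polar_smul_right, c33, polar_comm Q v₁ u₂, b21, smul_zero, add_zero]
    have h33 := polar_singular_self hQ1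
    have h44 := polar_singular_self hQ2
    refine ⟨![u₁ + v₁, u₁ + u₂ + v₂, u₂ + v₂, u₂ + u₁ + v₁], ?_, ?_, ?_, ?_, ?_, ?_, ?_, ?_⟩
    · intro k; fin_cases k
      · exact add_mem (hUD hu₁) hv₁
      · exact add_mem (add_mem (hUD hu₁) (hUD hu₂)) hv₂
      · exact add_mem (hUD hu₂) hv₂
      · exact add_mem (add_mem (hUD hu₂) (hUD hu₁)) hv₁
    all_goals
      first
        | intro k; fin_cases k <;>
            simp [QuadraticMap.map_add (⇑Q), hUs u₁ hu₁, hUs u₂ hu₂, hQ1, hQ2, b11, b22, b12,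
              b21, huu, polar_comm Q u₂ u₁]
        | simp [h11, h22, h33, h44, huu, b11, b22, b12, b21, b33, polar_comm Q u₂ u₁,
            polar_comm Q v₁ u₁, polar_comm Q v₁ u₂, polar_comm Q v₂ u₁, polar_comm Q v₂ u₂,
            polar_comm Q v₂ v₁, CharTwo.add_self_eq_zero]
  choose f hf hfp using fun i => transport hD (j 0) i
  let r : Fin t → Fin 4 → ι → F := fun i k => (f i ⟨q k, hqD k⟩ : ι → F)
  have hrD : ∀ i k, r i k ∈ D i := fun i k => (f i _).2
  have hrQ : ∀ i k, Q (r i k) = 1 := fun i k => (hf i _).trans (hgram.1 k)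
  have hrP : ∀ i k l, polar Q (r i k) (r i l) = polar Q (q k) (q l) := fun i k l => hfp i _ _
  obtain ⟨-, g01, g23, g02, g03, g12, g13⟩ := hgram
  have gkk : ∀ i k, polar Q (r i k) (r i k) = 0 := fun i k => by rw [polar_self', two, zero_mul]
  have horth : ∀ a b, a ≠ b → ∀ x ∈ D a, ∀ y ∈ D b, polar Q x y = 0 := fun a b h =>
    hD.decomp.orthogonal a b h
  have hcross : ∀ i l k k', i ≠ l → polar Q (r i k) (r l k') = 0 := fun i l k k' h =>
    horth _ _ h _ (hrD i k) _ (hrD l k')
  have hli : ∀ i, LinearIndependent F (r i) := by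
    intro i
    rw [Fintype.linearIndependent_iff]
    intro g hg
    have hB : ∀ k, polar Q (g 0 • r i 0 + g 1 • r i 1 + g 2 • r i 2 + g 3 • r i 3) (r i k) = 0 := by
      intro k
      rw [← Fin.sum_univ_four (f := fun k => g k • r i k), hg, polar_zero_left]
    simp only [polar_add_left, polar_smul_left, hrP, smul_eq_mul] at hB
    have e0 := hB 0
    have e1 := hB 1
    have e2 := hB 2
    have e3 := hB 3
    simp only [polar_comm Q (q 1) (q 0), polar_comm Q (q 2) (q 0), polar_comm Q (q 3) (q 0),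
      polar_comm Q (q 2) (q 1), polar_comm Q (q 3) (q 1), polar_comm Q (q 3) (q 2), g01, g23, g02,
      g03, g12, g13, polar_self', two, mul_zero, zero_mul, mul_one, add_zero, zero_add] at e0 e1 e2 e3
    intro k; fin_cases k <;> assumption
  set S : Set (ι → F) := {x | Q x = 1 ∧ ∃ i, x ∈ D i} with hS
  refine ⟨Cfsg.stabilizing (Cfsg.glToMat ι F) S ⊓ omegaGL ⇑Q, lt_of_le_of_ne ?_ ?_,
    lt_of_le_of_ne inf_le_right ?_⟩
  · rintro g ⟨hgD, hgo⟩
    refine ⟨mem_stabilizing_of_forall fun x ⟨hx, i, hxi⟩ => ?_, hgo⟩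
    obtain ⟨l, hl⟩ := Frames.exists_block_image hgD i
    exact ⟨(OmS.omega_iso hgo x).trans hx, l, hl x hxi⟩
  · intro e
    set U := r (j 0) 0 + r (j 1) 0 with hU
    set w := r (j 0) 1 + r (j 1) 1 with hw
    have c01 := hcross _ _ 0 0 (hj 0 1 (by decide))
    have hQU : Q U = 0 := by
      rw [hU, QuadraticMap.map_add (⇑Q), hrQ, hrQ, c01]; linear_combination two
    have hUw : polar Q U w = 0 := by
      simp [hU, hw, polar_add_left, polar_add_right, hrP, g01, hcross _ _ _ _ (hj 0 1 (by decide)),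
        hcross _ _ _ _ (hj 1 0 (by decide)), CharTwo.add_self_eq_zero]
    have hQw : Q w = 0 := by
      rw [hw, QuadraticMap.map_add (⇑Q), hrQ, hrQ, hcross _ _ _ _ (hj 0 1 (by decide))]
      linear_combination two
    obtain ⟨h, hh, hhx⟩ := OmS.exists_sg hnd P hQU hUw
    have hfixq : ∀ i, i ≠ j 0 → i ≠ j 1 → ∀ x ∈ D i, (h : Matrix ι ι F) *ᵥ x = x := by
      intro i h0 h1 x hx
      rw [hhx x, show polar Q x U = 0 by
          rw [hU, polar_add_right, horth _ _ h0 _ hx _ (hrD _ _), horth _ _ h1 _ hx _ (hrD _ _),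
            add_zero],
        show polar Q x w = 0 by
          rw [hw, polar_add_right, horth _ _ h0 _ hx _ (hrD _ _), horth _ _ h1 _ hx _ (hrD _ _),
            add_zero]]
      simp
    have key : ∀ a b : Fin 3, (a = 0 ∧ b = 1 ∨ a = 1 ∧ b = 0) →
        (h : Matrix ι ι F) *ᵥ r (j a) 0 = r (j b) 0 ∧ (h : Matrix ι ι F) *ᵥ r (j a) 1 = r (j b) 1 ∧
        (h : Matrix ι ι F) *ᵥ r (j a) 2 = r (j a) 2 ∧
        (h : Matrix ι ι F) *ᵥ r (j a) 3 = r (j a) 3 := by
      intro a b hab
      have d01 := fun k k' => hcross _ _ k k' (hj 0 1 (by decide))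
      have d10 := fun k k' => hcross _ _ k k' (hj 1 0 (by decide))
      have hdup : ∀ x : ι → F, x + x = 0 := fun x => by
        rw [← two_smul F x, two, zero_smul]
      refine ⟨?_, ?_, ?_, ?_⟩ <;>
        (rw [hhx, hQw]
         rcases hab with ⟨rfl, rfl⟩ | ⟨rfl, rfl⟩ <;>
           simp [hU, hw, polar_add_right, hrP, polar_comm Q (q 1) (q 0), polar_comm Q (q 2) (q 0),
             polar_comm Q (q 3) (q 0), polar_comm Q (q 2) (q 1), polar_comm Q (q 3) (q 1), g01, g02,
             g03, g12, g13, polar_self', two, d01, d10, CharTwo.neg_eq, add_comm, add_left_comm,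
             ← add_assoc, hdup])
    have hmem : h ∈ Cfsg.stabilizing (Cfsg.glToMat ι F) S ⊓ omegaGL ⇑Q := by
      refine ⟨mem_stabilizing_of_forall fun x ⟨hx, i, hxi⟩ => ⟨(OmS.omega_iso hh x).trans hx, ?_⟩, hh⟩
      by_cases h0 : i = j 0 ∨ i = j 1
      · obtain ⟨a, b, hab, rfl⟩ : ∃ a b : Fin 3, (a = 0 ∧ b = 1 ∨ a = 1 ∧ b = 0) ∧ i = j a := by
          rcases h0 with h | h
          exacts [⟨0, 1, Or.inl ⟨rfl, rfl⟩, h⟩, ⟨1, 0, Or.inr ⟨rfl, rfl⟩, h⟩]
        obtain ⟨k0, k1, k2, k3⟩ := key a b hab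
        have hspan : Submodule.span F (Set.range (r (j a))) = D (j a) :=
          Submodule.eq_of_le_of_finrank_eq
            (Submodule.span_le.2 (Set.range_subset_iff.2 (hrD _)))
            (by rw [finrank_span_eq_card (hli _), hD.decomp.decomp.finrank_eq, Fintype.card_fin])
        rw [← hspan, Submodule.mem_span_range_iff_exists_fun] at hxi
        obtain ⟨c, rfl⟩ := hxi
        simp only [Fin.sum_univ_four, mulVec_add, mulVec_smul, k0, k1, k2, k3] at hx ⊢
        rcases hbool (c 0) with c0 | c0 <;> rcases hbool (c 1) with c1 | c1 <;>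
          rcases hbool (c 2) with c2 | c2 <;> rcases hbool (c 3) with c3 | c3 <;>
          simp only [c0, c1, c2, c3, one_smul, zero_smul, add_zero, zero_add] at hx ⊢ <;>
          first
            | exact ⟨j b, hrD _ _⟩
            | exact ⟨j a, hrD _ _⟩
            | exact ⟨j b, add_mem (hrD _ _) (hrD _ _)⟩
            | exact ⟨j a, add_mem (hrD _ _) (hrD _ _)⟩
            | exact ⟨j a, zero_mem _⟩
            | (exfalso
               simp [QuadraticMap.map_add (⇑Q), hrQ, hrP, g01, g23, g02, g03, g12, g13,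
                 polar_add_left, CharTwo.add_self_eq_zero] at hx)
      · push Not at h0
        exact ⟨i, by rw [hfixq i h0.1 h0.2 x hxi]; exact hxi⟩
    rw [← e] at hmem
    obtain ⟨k0, -, k2, -⟩ := key 0 1 (Or.inl ⟨rfl, rfl⟩)
    exact Frames.not_mem_stab hD.decomp.decomp.indep (hrD (j 0) 0) (hrD (j 0) 2)
      (hj 1 0 (by decide)) (by rw [k0]; exact hrD _ _) (by rw [k2]; exact hrD _ _) ((hli _).ne_zero _) ((hli _).ne_zero _)
      hmem.1
  · intro e
    set U := r (j 0) 0 + r (j 1) 0 with hU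
    have c01 := hcross _ _ 0 0 (hj 0 1 (by decide))
    have hQU : Q U = 0 := by
      rw [hU, QuadraticMap.map_add (⇑Q), hrQ, hrQ, c01]; linear_combination two
    have hUw : polar Q U (r (j 2) 0) = 0 := by
      rw [hU, polar_add_left, hcross _ _ _ _ (hj 0 2 (by decide)),
        hcross _ _ _ _ (hj 1 2 (by decide)), add_zero]
    obtain ⟨h, hh, hhx⟩ := OmS.exists_sg hnd P hQU hUw
    rw [← e] at hh
    obtain ⟨-, i, hi⟩ : (h : Matrix ι ι F) *ᵥ r (j 0) 1 ∈ S :=
      (hh.1 (r (j 0) 1)).1 ⟨hrQ _ _, j 0, hrD _ _⟩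
    have d20 := fun k k' => hcross _ _ k k' (hj 2 0 (by decide))
    have d10 := fun k k' => hcross _ _ k k' (hj 1 0 (by decide))
    have d01 := fun k k' => hcross _ _ k k' (hj 0 1 (by decide))
    have d02 := fun k k' => hcross _ _ k k' (hj 0 2 (by decide))
    have d12 := fun k k' => hcross _ _ k k' (hj 1 2 (by decide))
    have v0 : polar Q ((h : Matrix ι ι F) *ᵥ r (j 0) 1) (r (j 0) 0) = 1 := by
      rw [hhx]
      simp [hU, polar_add_left, polar_add_right, polar_smul_left, hrP, polar_comm Q (q 1) (q 0), g01,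
        polar_self', two, d20, d10, d01, d02]
    have v2 : polar Q ((h : Matrix ι ι F) *ᵥ r (j 0) 1) (r (j 2) 1) = 1 := by
      rw [hhx]
      simp [hU, polar_add_left, polar_add_right, polar_smul_left, hrP, polar_comm Q (q 1) (q 0), g01,
        polar_self', two, d01, d02, d12]
    have e0 : i = j 0 := by
      by_contra hne
      exact one_ne_zero (v0.symm.trans (horth _ _ hne _ hi _ (hrD _ _)))
    exact one_ne_zero (v2.symm.trans (horth _ _ (e0 ▸ hj 0 2 (by decide)) _ hi _ (hrD _ _)))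

end four

end CfsgLib.ClassicalMax.OmP
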