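/-
Planes over three or five elements with two perpendicular lines of value one.
-/
import Cfsg.Agent.Lib.ClassicalMax.OrthPlanesPlus
set_option autoImplicit false

namespace CfsgLib.ClassicalMax.OmP

open Matrix Cfsg.Geo QuadraticMap Module
open CfsgLib.Classical.Quad (NDPolar Orth Frame polar_self' polar_singular_self)

variable {ι : Type} [Fintype ι] [DecidableEq ι] {F : Type*} [Field F] [Fintype F]
  {Q : QuadraticForm F (ι → F)}

/-- A perpendicular pair of value one in one plane gives a frame. -/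
theorem frame_planes (hnd : NDPolar Q) (P : Frame Q) (hQ : IsNondegenerateQuadraticForm ⇑Q)
    (h2 : (2 : F) ≠ 0) (hsum : ∀ x y : F, x * x + y * y = 1 → x = 0 ∨ y = 0)
    (h7 : 7 ≤ Fintype.card ι) {t : ℕ} (ht : 3 ≤ t) {D : Fin t → Submodule F (ι → F)}
    (hD : IsOrthogonalMDecomposition ⇑Q 2 D) (i₀ : Fin t) {a b : ι → F} (ha : a ∈ D i₀)
    (hb : b ∈ D i₀) (hQa : Q a = 1) (hQb : Q b = 1) (hab : polar Q a b = 0) :
    ∃ K : Subgroup (GL ι F), decompositionStabilizer D ⊓ omegaGL ⇑Q < K ∧ K < omegaGL ⇑Q := by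
  classical
  choose f hf hfp using fun i => transport hD i₀ i
  let e : Fin t × Fin 2 → ι → F := fun s =>
    ![(f s.1 ⟨a, ha⟩ : ι → F), (f s.1 ⟨b, hb⟩ : ι → F)] s.2
  have hmem : ∀ i k, e (i, k) ∈ D i := fun i k => by
    fin_cases k
    · exact (f i _).2
    · exact (f i _).2
  have hA : ∀ i, Q (e (i, 0)) = 1 := fun i => (hf i _).trans hQa
  have hB : ∀ i, Q (e (i, 1)) = 1 := fun i => (hf i _).trans hQb
  have hAB : ∀ i, polar Q (e (i, 0)) (e (i, 1)) = 0 := fun i => (hfp i _ _).trans hab
  have hQe : ∀ s, Q (e s) = 1 := by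
    rintro ⟨i, k⟩
    fin_cases k
    exacts [hA i, hB i]
  have hxy : ∀ s s', s ≠ s' → polar Q (e s) (e s') = 0 := by
    rintro ⟨i, k⟩ ⟨l, k'⟩ hne
    rcases eq_or_ne i l with rfl | hil
    · fin_cases k <;> fin_cases k'
      · exact absurd rfl hne
      · exact hAB i
      · rw [polar_comm]; exact hAB i
      · exact absurd rfl hne
    · exact hD.decomp.orthogonal i l hil _ (hmem i k) _ (hmem l k')
  have hli2 : ∀ i, LinearIndependent F ![e (i, 0), e (i, 1)] := fun i => by
    have h0 : e (i, 0) ≠ 0 := fun h => one_ne_zero (α := F) (by rw [← hA i, h, map_zero Q])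
    refine (LinearIndependent.pair_iff' h0).2 fun r hr => ?_
    have h := hAB i
    rw [← hr, polar_smul_right, polar_self', hA, mul_one, smul_eq_mul, mul_eq_zero] at h
    have hr0 := h.resolve_right h2
    exact one_ne_zero (α := F) (by rw [← hB i, ← hr, hr0, zero_smul, map_zero Q])
  have hli : LinearIndependent F e :=
    Frames.linearIndependent_blocks hD.decomp.decomp.indep (v := e) (fun i k => hmem i k) fun i => by
      have : (fun k => e (i, k)) = ![e (i, 0), e (i, 1)] := funext fun k => by fin_cases k <;> rfl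
      rw [this]; exact hli2 i
  refine frame_not_maximal hnd P hQ h2 h7 ht le_rfl hD.decomp.decomp.indep hli hmem one_ne_zero
    hQe hxy fun i x hx hxx => ?_
  obtain ⟨c, d, rfl⟩ := pair_span (hD.decomp.decomp.finrank_eq i) (hmem i 0) (hmem i 1) (hli2 i) hx
  rw [QuadraticMap.map_add (⇑Q), QuadraticMap.map_smul, QuadraticMap.map_smul, hA, hB,
    polar_smul_left, polar_smul_right, hAB] at hxx
  rcases hsum c d (by simpa using hxx) with h | h
  · exact ⟨1, d, by rw [h, zero_smul, zero_add]⟩
  · exact ⟨0, c, by rw [h, zero_smul, add_zero]⟩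

/-- Anisotropic planes over three elements. -/
theorem minus_planes_three (hnd : NDPolar Q) (P : Frame Q) (hQ : IsNondegenerateQuadraticForm ⇑Q)
    (hq : Fintype.card F = 3) (h7 : 7 ≤ Fintype.card ι) {t : ℕ} (ht : 3 ≤ t)
    {D : Fin t → Submodule F (ι → F)} (hD : IsOrthogonalMDecomposition ⇑Q 2 D) (i₀ : Fin t)
    (hm : ¬ IsPlusTypeOn ⇑Q (D i₀)) :
    ∃ K : Subgroup (GL ι F), decompositionStabilizer D ⊓ omegaGL ⇑Q < K ∧ K < omegaGL ⇑Q := by
  obtain ⟨a, ha, b, hb, hQa, hQb, hab⟩ := minus_plane_three hq (hD.decomp.decomp.finrank_eq i₀)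
    (hD.decomp.nondegenerate i₀) hm
  refine frame_planes hnd P hQ (OrthThree.two_ne_zero' hq) (fun x y h => ?_) h7 ht hD i₀ ha hb hQa
    hQb hab
  by_contra hc
  push Not at hc
  have hsq : ∀ z : F, z ≠ 0 → z * z = 1 := fun z hz => by
    rcases OrthThree.cases_three hq z with rfl | rfl | rfl
    · exact absurd rfl hz
    · ring
    · ring
  rw [hsq x hc.1, hsq y hc.2] at h
  exact one_ne_zero (α := F) (by linear_combination h)

/-- Hyperbolic planes over five elements. -/
theorem plus_planes_five (hnd : NDPolar Q) (P : Frame Q) (hQ : IsNondegenerateQuadraticForm ⇑Q)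
    (hq : Fintype.card F = 5) (h7 : 7 ≤ Fintype.card ι) {t : ℕ} (ht : 3 ≤ t)
    {D : Fin t → Submodule F (ι → F)} (hD : IsOrthogonalMDecomposition ⇑Q 2 D) (i₀ : Fin t)
    (hp : IsPlusTypeOn ⇑Q (D i₀)) :
    ∃ K : Subgroup (GL ι F), decompositionStabilizer D ⊓ omegaGL ⇑Q < K ∧ K < omegaGL ⇑Q := by
  classical
  have h5 : (5 : F) = 0 := by
    have := Nat.cast_card_eq_zero F
    rw [hq] at this; exact_mod_cast this
  have h2 : (2 : F) ≠ 0 := fun h => one_ne_zero (α := F) (by linear_combination h5 - 2 * h)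
  obtain ⟨u, hu, v, hv, hQu, hQv, huv⟩ :=
    exists_hyp_pair (hD.decomp.decomp.finrank_eq i₀) (hD.decomp.nondegenerate i₀) hp
  refine frame_planes hnd P hQ h2 (fun x y h => ?_) h7 ht hD i₀
    (a := (1 : F) • u + (1 : F) • v) (b := (2 : F) • u + (3 : F) • v)
    (add_mem (Submodule.smul_mem _ _ hu) (Submodule.smul_mem _ _ hv))
    (add_mem (Submodule.smul_mem _ _ hu) (Submodule.smul_mem _ _ hv)) ?_ ?_ ?_
  · by_contra hc
    push Not at hc
    have hsq : ∀ z : F, z ≠ 0 → z * z = 1 ∨ z * z = -1 := fun z hz => by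
      have := FiniteField.pow_card_sub_one_eq_one z hz
      rw [hq] at this
      have e : (z * z - 1) * (z * z + 1) = 0 := by linear_combination this
      rw [mul_eq_zero, sub_eq_zero, add_eq_zero_iff_eq_neg] at e
      exact e
    rcases hsq x hc.1 with hx | hx <;> rcases hsq y hc.2 with hy | hy <;> rw [hx, hy] at h
    · exact one_ne_zero (α := F) (by linear_combination h)
    · exact one_ne_zero (α := F) (by linear_combination -h)
    · exact one_ne_zero (α := F) (by linear_combination -h)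
    · exact h2 (by linear_combination h + h5)
  · rw [Q_pair hQu hQv huv, one_mul]
  · rw [Q_pair hQu hQv huv]; linear_combination h5
  · rw [polar_pair hQu hQv huv]; linear_combination h5

end CfsgLib.ClassicalMax.OmP
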