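/-
An orthogonal tensor product with a three-dimensional factor over three elements preserves a decomposition
into three parts.
-/
import Cfsg.Agent.Lib.ClassicalMax.OmegaTools
import Cfsg.Agent.Lib.ClassicalMax.OrthThree
import Cfsg.Agent.Lib.ClassicalMax.TensorTools
set_option autoImplicit false

namespace CfsgLib.ClassicalMax.Om

open Matrix Kronecker Cfsg.Geo QuadraticMap CfsgLib.ClassicalMax.Tensor

variable {ι : Type} [Fintype ι] [DecidableEq ι] {F : Type*} [Field F] {Q : (ι → F) → F}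

lemma exists_three_orth [Fintype F] (hq : Fintype.card F = 3) {n : ℕ} (hn : 3 ≤ n)
    {f : (Fin n → F) → (Fin n → F) → F} (hf : IsSymmetricForm f) :
    ∃ (α β γ : Fin n → F), f α α = f β β ∧ f α α ≠ 0 ∧ f γ γ ≠ 0 ∧ f α β = 0 ∧ f α γ = 0 ∧
      f β γ = 0 := by
  classical
  haveI : Invertible (2 : F) := invertibleOfNonzero (OrthThree.two_ne_zero' hq)
  let B : LinearMap.BilinForm F (Fin n → F) := LinearMap.mk₂ F f hf.bilinear.add_left
    hf.bilinear.smul_left hf.bilinear.add_right hf.bilinear.smul_right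
  obtain ⟨v, hv⟩ := LinearMap.BilinForm.exists_orthogonal_basis (B := B) ⟨fun x y => hf.symm x y⟩
  have hdim : Module.finrank F (Fin n → F) = n := by
    rw [Module.finrank_fintype_fun_eq_card, Fintype.card_fin]
  have hne : ∀ i, f (v i) (v i) ≠ 0 := by
    intro i h0
    obtain ⟨-, y, hy⟩ := hf.nondegenerate (v i) (v.ne_zero i)
    refine hy ?_
    change B (v i) y = 0
    rw [← v.sum_repr y, map_sum]
    refine Finset.sum_eq_zero fun k _ => ?_
    rw [map_smul]
    rcases eq_or_ne i k with rfl | h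
    · rw [show B (v i) (v i) = 0 from h0, smul_zero]
    · rw [show B (v i) (v k) = 0 from hv h, smul_zero]
  let w : Fin 3 → Fin n → F := fun i => v (Fin.cast hdim.symm (Fin.castLE hn i))
  have horth : ∀ i k, i ≠ k → f (w i) (w k) = 0 := fun i k h => hv fun e =>
    h (Fin.castLE_injective _ (Fin.cast_injective _ e))
  have hval : ∀ i, f (w i) (w i) = 1 ∨ f (w i) (w i) = -1 := fun i =>
    (OrthThree.cases_three hq _).resolve_left (hne _)
  rcases hval 0 with h0 | h0 <;> rcases hval 1 with h1 | h1 <;> rcases hval 2 with h2 | h2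
  all_goals first
    | exact ⟨w 0, w 1, w 2, h0.trans h1.symm, hne _, hne _, horth _ _ (by decide),
        horth _ _ (by decide), horth _ _ (by decide)⟩
    | exact ⟨w 0, w 2, w 1, h0.trans h2.symm, hne _, hne _, horth _ _ (by decide),
        horth _ _ (by decide), horth _ _ (by decide)⟩
    | exact ⟨w 1, w 2, w 0, h1.trans h2.symm, hne _, hne _, horth _ _ (by decide),
        horth _ _ (by decide), horth _ _ (by decide)⟩

theorem tensor_three_not_maximal [Fintype F] (hq : Fintype.card F = 3)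
    (hQ : IsNondegenerateQuadraticForm Q) {n₂ : ℕ} (hn : 3 ≤ n₂) (e : ι ≃ Fin 3 × Fin n₂)
    (P : GL ι F) {f₁ : (Fin 3 → F) → (Fin 3 → F) → F} {f₂ : (Fin n₂ → F) → (Fin n₂ → F) → F}
    (hf₁ : IsSymmetricForm f₁) (hf₂ : IsSymmetricForm f₂) {c : F} (hc0 : c ≠ 0)
    (hc : ∀ x y : Fin 3 × Fin n₂ → F,
      polar Q ((P : Matrix ι ι F) *ᵥ (x ∘ e)) ((P : Matrix ι ι F) *ᵥ (y ∘ e)) =
        c * formOfGram id (gramMatrix f₁ ⊗ₖ gramMatrix f₂) x y) :
    ∃ K : Subgroup (GL ι F), tensorProductSubgroup 3 n₂ e P ⊓ omegaGL Q < K ∧ K < omegaGL Q := by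
  classical
  have h3 := OrthThree.three_eq_zero hq
  have h2 := OrthThree.two_ne_zero' hq
  have hform := form_pureL e P (σ := id) (fun _ _ => rfl) hc
    (formOfGram_gram hf₁.bilinear.add_left hf₁.bilinear.smul_left hf₁.bilinear.add_right
      hf₁.bilinear.smul_right)
    (formOfGram_gram hf₂.bilinear.add_left hf₂.bilinear.smul_left hf₂.bilinear.add_right
      hf₂.bilinear.smul_right)
  obtain ⟨d, u, hu⟩ := OrthThree.exists_triple hq hf₁.bilinear hf₁.symm
    (W := (⊤ : Submodule F (Fin 3 → F))) (by rw [finrank_top, Module.finrank_fintype_fun_eq_card,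
      Fintype.card_fin]) (fun w _ hw => ⟨(hf₁.nondegenerate w hw).1.imp fun x hx => ⟨trivial, hx⟩,
      (hf₁.nondegenerate w hw).2.imp fun x hx => ⟨trivial, hx⟩⟩)
  have hu0 : ∀ k, u k ≠ 0 := fun k => hu.li.ne_zero k
  obtain ⟨α, β, γ, hαβ, hα, hγ, hab, hag, hbg⟩ := exists_three_orth hq hn hf₂
  have hform' : ∀ k l w w', polar Q (pureL e P (u k) w) (pureL e P (u l) w') =
      if k = l then c * (d * f₂ w w') else 0 := fun k l w w' => by
    rw [hform, hu.form]; split_ifs <;> simp
  have hQx : ∀ x, Q x = -polar Q x x := fun x => by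
    rw [polar_self hQ]; linear_combination Q x * h3
  set k := c * (d * f₂ α α) with hk
  have hk0 : k ≠ 0 := mul_ne_zero hc0 (mul_ne_zero hu.d_ne hα)
  refine ⟨decompositionStabilizer (parts e P u) ⊓ omegaGL Q, lt_of_le_of_ne ?_ ?_,
    lt_of_le_of_ne inf_le_right ?_⟩
  · intro g hg
    refine ⟨?_, hg.2⟩
    obtain ⟨a, b, hab'⟩ := exists_factors e P hg.1
    have h : ∀ i l, f₁ ((a : Matrix _ _ F) *ᵥ u i) ((a : Matrix _ _ F) *ᵥ u l) *
        f₂ ((b : Matrix _ _ F) *ᵥ α) ((b : Matrix _ _ F) *ᵥ α) = f₁ (u i) (u l) * f₂ α α := by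
      intro i l
      have := iso_polar hQ (omega_le hg.2) (pureL e P (u i) α) (pureL e P (u l) α)
      rw [hab', hab', hform, hform] at this
      exact mul_left_cancel₀ hc0 this
    set A := f₂ ((b : Matrix _ _ F) *ᵥ α) ((b : Matrix _ _ F) *ᵥ α)
    have hA : A ≠ 0 := fun h0 => by
      have := h 0 0
      rw [h0, mul_zero, hu.form, if_pos rfl] at this
      exact mul_ne_zero hu.d_ne hα this.symm
    have ha : ∀ i l, f₁ ((a : Matrix _ _ F) *ᵥ u i) ((a : Matrix _ _ F) *ᵥ u l) =
        f₂ α α / A * if i = l then d else 0 := fun i l => by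
      rw [div_mul_eq_mul_div, eq_div_iff hA, ← hu.form, h i l]; ring
    have hone : f₂ α α / A = 1 := by
      rcases OrthThree.cases_three hq (f₂ α α / A) with e1 | e1 | e1
      · exact absurd e1 (div_ne_zero hα hA)
      · exact e1
      · exfalso
        refine OrthThree.not_anti hq hf₁.bilinear hu (x := fun i => (a : Matrix _ _ F) *ᵥ u i)
          (fun _ => trivial) fun i l => ?_
        rw [ha, e1]
        split_ifs <;> ring
    exact mem_parts_stab e P hu.li hab' fun i => hu.line _ trivial (by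
      rw [ha, hone, if_pos rfl, one_mul])
  · intro heq
    set a := pureL e P (u 0) α with ha
    set b := pureL e P (u 0) β with hb
    have hQa : Q a = -k := by rw [hQx, ha, hform', if_pos rfl]
    have hQb : Q b = -k := by rw [hQx, hb, hform', if_pos rfl, ← hαβ]
    have hpab : polar Q a b = 0 := by rw [ha, hb, hform', if_pos rfl, hab, mul_zero, mul_zero]
    have ha0 : Q a ≠ 0 := by rw [hQa]; exact neg_ne_zero.2 hk0
    have hb0 : Q b ≠ 0 := by rw [hQb]; exact neg_ne_zero.2 hk0
    have hfix : ∀ i, i ≠ 0 → ∀ y, ((rf hQ ha0 * rf hQ hb0 : GL ι F) : Matrix ι ι F) *ᵥ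
        pureL e P (u i) y = pureL e P (u i) y := fun i hi y => by
      rw [gl_mulVec_mul, rf_fix hQ hb0 (by rw [hb, hform', if_neg hi]),
        rf_fix hQ ha0 (by rw [ha, hform', if_neg hi])]
    have hpart : ∀ y, ∃ y', ((rf hQ ha0 * rf hQ hb0 : GL ι F) : Matrix ι ι F) *ᵥ
        pureL e P (u 0) y = pureL e P (u 0) y' := fun y => by
      refine ⟨?_, ?_⟩
      rotate_left
      · rw [gl_mulVec_mul, rf_mulVec, rf_mulVec, hb, ha, ← map_smul, ← map_sub, ← map_smul,
          ← map_sub]
    have hle : ∀ i, (parts e P u i).map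
        (Matrix.toLin' ((rf hQ ha0 * rf hQ hb0 : GL ι F) : Matrix ι ι F)) ≤ parts e P u i := by
      intro i
      rintro _ ⟨_, ⟨y, rfl⟩, rfl⟩
      rw [Matrix.toLin'_apply]
      by_cases hi : i = 0
      · subst hi
        obtain ⟨y', hy'⟩ := hpart y
        exact ⟨y', hy'.symm⟩
      · exact ⟨_, (hfix i hi y).symm⟩
    have hmem : (rf hQ ha0 * rf hQ hb0 : GL ι F) ∈
        decompositionStabilizer (parts e P u) ⊓ omegaGL Q := by
      refine ⟨⟨1, fun i => ?_⟩, rf_mul_rf_mem hQ ha0 hb0 (hQa.trans hQb.symm) ?_⟩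
      · refine Submodule.eq_of_le_of_finrank_eq (hle i) ?_
        exact LinearEquiv.finrank_eq (Submodule.equivMapOfInjective _
          (fun x y hxy => gl_mulVec_injective (rf hQ ha0 * rf hQ hb0)
            (by simpa [Matrix.toLin'_apply] using hxy)) _).symm
      · rw [Q_sub hQ, hQa, hQb, hpab, sub_zero, ← neg_add, ← two_mul]
        exact neg_ne_zero.2 (mul_ne_zero h2 hk0)
    rw [← heq] at hmem
    obtain ⟨A, B, hAB⟩ := exists_factors e P hmem.1
    have hscal : ∀ y, ∃ p : F, (B : Matrix (Fin n₂) (Fin n₂) F) *ᵥ y = p • y := fun y =>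
      exists_smul_of_eq e P (u' := u 1) (gl_mulVec_ne_zero A (hu0 1))
        (by rw [← hAB, hfix 1 (by decide)])
    obtain ⟨p, hp⟩ := hscal (α + γ)
    have e1 := hAB (u 0) (α + γ)
    rw [gl_mulVec_mul, rf_fix hQ hb0 (by
        rw [hb, hform', if_pos rfl, hf₂.bilinear.add_left, hab, hf₂.symm γ β, hbg, add_zero,
          mul_zero, mul_zero]), rf_mulVec,
      show polar Q (pureL e P (u 0) (α + γ)) a = k by
        rw [ha, hform', if_pos rfl, hf₂.bilinear.add_left, hf₂.symm γ α, hag, add_zero],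
      hQa, div_neg, div_self hk0, neg_smul, one_smul, sub_neg_eq_add, ha, ← map_add, hp] at e1
    obtain ⟨r, hr⟩ := exists_smul_of_eq e P (hu0 0) e1
    rw [smul_smul] at hr
    have fa := congrArg (fun x => f₂ x α) hr
    have fg := congrArg (fun x => f₂ x γ) hr
    simp only [hf₂.bilinear.add_left, hf₂.bilinear.smul_left, hag, hf₂.symm γ α] at fa fg
    have hr1 : r * p = 1 := mul_right_cancel₀ hγ (by linear_combination -fg)
    rw [hr1] at fa
    exact hα (by linear_combination fa)
  · intro heq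
    set a := pureL e P (u 0) α + pureL e P (u 1) α with ha
    set b := pureL e P (u 0) β + pureL e P (u 1) β with hb
    have h01 : (0 : Fin 3) ≠ 1 := by decide
    have hQa : Q a = -(2 * k) := by
      rw [hQx, ha, add_left hQ, add_right hQ, add_right hQ, hform', hform', hform', hform',
        if_pos rfl, if_neg h01, if_neg h01.symm, if_pos rfl]
      ring
    have hQb : Q b = -(2 * k) := by
      rw [hQx, hb, add_left hQ, add_right hQ, add_right hQ, hform', hform', hform', hform',
        if_pos rfl, if_neg h01, if_neg h01.symm, if_pos rfl, ← hαβ]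
      ring
    have hpab : polar Q a b = 0 := by
      rw [ha, hb, add_left hQ, add_right hQ, add_right hQ, hform', hform', hform', hform',
        if_pos rfl, if_neg h01, if_neg h01.symm, if_pos rfl, hab]
      ring
    have ha0 : Q a ≠ 0 := by rw [hQa]; exact neg_ne_zero.2 (mul_ne_zero h2 hk0)
    have hb0 : Q b ≠ 0 := by rw [hQb]; exact neg_ne_zero.2 (mul_ne_zero h2 hk0)
    have hmem : (rf hQ ha0 * rf hQ hb0 : GL ι F) ∈
        decompositionStabilizer (parts e P u) ⊓ omegaGL Q := by
      rw [heq]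
      refine rf_mul_rf_mem hQ ha0 hb0 (hQa.trans hQb.symm) ?_
      rw [Q_sub hQ, hQa, hQb, hpab, sub_zero, ← neg_add, ← two_mul]
      exact neg_ne_zero.2 (mul_ne_zero h2 (mul_ne_zero h2 hk0))
    obtain ⟨j, hj⟩ := Frames.exists_block_image hmem.1 0
    have h1 := hj _ ⟨α, rfl⟩
    have h2' := hj _ ⟨γ, rfl⟩
    have hbα : polar Q (pureL e P (u 0) α) b = 0 := by
      rw [hb, add_right hQ, hform', hform', if_pos rfl, if_neg h01, hab]; ring
    rw [gl_mulVec_mul, rf_fix hQ hb0 hbα, rf_mulVec, hQa,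
      show polar Q (pureL e P (u 0) α) a = k by
        rw [ha, add_right hQ, hform', hform', if_pos rfl, if_neg h01, add_zero]] at h1
    rw [gl_mulVec_mul, rf_fix hQ hb0 (by
        rw [hb, add_right hQ, hform', hform', if_pos rfl, if_neg h01, hf₂.symm γ β, hbg]; ring),
      rf_fix hQ ha0 (by
        rw [ha, add_right hQ, hform', hform', if_pos rfl, if_neg h01, hf₂.symm γ α, hag]; ring)] at h2'
    have hfrac : k / -(2 * k) = 1 := by
      rw [div_eq_one_iff_eq (neg_ne_zero.2 (mul_ne_zero h2 hk0))]; linear_combination k * h3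
    rw [hfrac, one_smul, ha, sub_add_cancel_left] at h1
    obtain ⟨y, hy⟩ := h1
    obtain ⟨z, hz⟩ := h2'
    have hγ0 : γ ≠ 0 := fun h => hγ (by
      rw [h]; simpa using hf₂.bilinear.smul_left 0 0 0)
    have hα0 : α ≠ 0 := fun h => hα (by
      rw [h]; simpa using hf₂.bilinear.smul_left 0 0 0)
    rcases eq_or_ne j 0 with rfl | hj0
    · exact hα0 (eq_zero_of_add e P hu.li h01 (w := y) (w' := α) (by rw [hy, neg_add_cancel])).2
    · exact hγ0 (neg_eq_zero.1 (eq_zero_of_add e P hu.li hj0 (w := z) (w' := -γ)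
        (by rw [hz, map_neg, add_neg_cancel])).2)

end CfsgLib.ClassicalMax.Om
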