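/-
A symplectic tensor square over two elements preserves a quadratic extension.
-/
import Cfsg.Agent.Lib.ClassicalMax.OrthEven
import Cfsg.Agent.Lib.ClassicalMax.TensorTools
set_option autoImplicit false

namespace CfsgLib.ClassicalMax.OmT

open Matrix Kronecker Cfsg.Geo QuadraticMap CfsgLib.ClassicalMax.Tensor
open CfsgLib.Classical.Quad (NDPolar Orth Frame polar_singular_self)

variable {ι : Type} [Fintype ι] [DecidableEq ι] {F : Type*} [Field F] {n₁ n₂ : ℕ}
  (e : ι ≃ Fin n₁ × Fin n₂) (P : GL ι F)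

lemma add_pureL (u u' : Fin n₁ → F) (w : Fin n₂ → F) :
    pureL e P (u + u') w = pureL e P u w + pureL e P u' w := by
  simp only [pureL_eq, ← mulVec_add]
  congr 1
  funext i
  simp [add_mul]

/-- A pair of factors gives an element of the tensor stabiliser. -/
lemma exists_pure_map (a : GL (Fin n₁) F) (b : GL (Fin n₂) F) :
    ∃ g ∈ tensorProductSubgroup n₁ n₂ e P, ∀ u w,
      (g : Matrix ι ι F) *ᵥ pureL e P u w =
        pureL e P ((a : Matrix _ _ F) *ᵥ u) ((b : Matrix _ _ F) *ᵥ w) := by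
  let k : GL (Fin n₁ × Fin n₂) F :=
    { val := (a : Matrix _ _ F) ⊗ₖ (b : Matrix _ _ F)
      inv := ((a⁻¹ : GL _ F) : Matrix _ _ F) ⊗ₖ ((b⁻¹ : GL _ F) : Matrix _ _ F)
      val_inv := by
        rw [← Matrix.mul_kronecker_mul, ← Units.val_mul, ← Units.val_mul, mul_inv_cancel,
          mul_inv_cancel, Units.val_one, Units.val_one, Matrix.one_kronecker_one]
      inv_val := by
        rw [← Matrix.mul_kronecker_mul, ← Units.val_mul, ← Units.val_mul, inv_mul_cancel,
          inv_mul_cancel, Units.val_one, Units.val_one, Matrix.one_kronecker_one] }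
  refine ⟨P * glReindex e.symm k * P⁻¹, ⟨glReindex e.symm k, ⟨k, ⟨a, b, rfl⟩, rfl⟩, rfl⟩,
    fun u w => ?_⟩
  rw [pureL_eq, pureL_eq, gl_mulVec_mul, gl_mulVec_mul, gl_inv_mulVec_mulVec]
  congr 1
  funext i
  have hre : (glReindex e.symm k : Matrix ι ι F) =
      Matrix.reindex e.symm e.symm ((a : Matrix _ _ F) ⊗ₖ (b : Matrix _ _ F)) := rfl
  rw [hre]
  simp only [Matrix.mulVec, dotProduct, Matrix.reindex_apply, Matrix.submatrix_apply, Equiv.symm_symm,
    Function.comp, kroneckerMap_apply]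
  rw [Finset.sum_mul_sum, ← Fintype.sum_prod_type',
    ← Equiv.sum_comp e (fun s : Fin n₁ × Fin n₂ =>
      (a : Matrix _ _ F) (e i).1 s.1 * u s.1 * ((b : Matrix _ _ F) (e i).2 s.2 * w s.2))]
  exact Finset.sum_congr rfl fun j _ => by ring

/-- Pure tensors span. -/
lemma ext_pure {g h : GL ι F} (H : ∀ u w, (g : Matrix ι ι F) *ᵥ pureL e P u w =
    (h : Matrix ι ι F) *ᵥ pureL e P u w) : g = h := by
  refine gl_ext_mulVec fun x => ?_
  have hx : x = ∑ a, pureL e P (Pi.single a 1)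
      (fun b => (((P⁻¹ : GL ι F) : Matrix ι ι F) *ᵥ x) (e.symm (a, b))) := by
    simp only [pureL_eq, ← Matrix.mulVec_sum]
    rw [← gl_mulVec_inv_mulVec P x]
    congr 1
    funext i
    rw [gl_mulVec_inv_mulVec, Finset.sum_apply, Finset.sum_eq_single (e i).1]
    · simp [Pi.single_apply]
    · intro b _ hb; simp [Pi.single_apply, Ne.symm hb]
    · simp
  rw [hx, Matrix.mulVec_sum, Matrix.mulVec_sum]
  exact Finset.sum_congr rfl fun a _ => H _ _

variable [Fintype F] {Q : QuadraticForm F (ι → F)}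

theorem symp_square_not_maximal (hnd : NDPolar Q) (R : Frame Q) (hq : Fintype.card F = 2) {m : ℕ}
    (hm : 3 ≤ m) (e : ι ≃ Fin 2 × Fin m) (P : GL ι F)
    {f₁ : (Fin 2 → F) → (Fin 2 → F) → F} {f₂ : (Fin m → F) → (Fin m → F) → F}
    (hf₁ : IsSymplecticForm f₁) (hf₂ : IsSymplecticForm f₂)
    (hform : ∀ u u' w w', polar Q (pureL e P u w) (pureL e P u' w') = f₁ u u' * f₂ w w')
    (hpure : ∀ u w, Q (pureL e P u w) = 0) :
    ∃ K : Subgroup (GL ι F), tensorProductSubgroup 2 m e P ⊓ omegaGL ⇑Q < K ∧ K < omegaGL ⇑Q := by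
  classical
  have two : (2 : F) = 0 := by
    have := Nat.cast_card_eq_zero F
    rw [hq] at this; exact_mod_cast this
  haveI := OrthCrit.charP_two_of two
  have hbool : ∀ c : F, c = 0 ∨ c = 1 := by
    intro c
    by_contra hc
    push Not at hc
    have h3 : ({0, 1, c} : Finset F).card = 3 :=
      Finset.card_eq_three.2 ⟨0, 1, c, zero_ne_one, hc.1.symm, hc.2.symm, rfl⟩
    have := Finset.card_le_univ ({0, 1, c} : Finset F)
    omega
  -- the first factor
  set e₀ : Fin 2 → F := ![1, 0] with he₀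
  set e₁ : Fin 2 → F := ![0, 1] with he₁
  have hdec : ∀ u : Fin 2 → F, u = u 0 • e₀ + u 1 • e₁ := fun u => by
    funext i; fin_cases i <;> simp [e₀, e₁]
  have h01 : f₁ e₀ e₁ = 1 := by
    refine (hbool _).resolve_left fun h => ?_
    obtain ⟨-, x, hx⟩ := hf₁.nondegenerate e₀ (fun h0 => by simpa [e₀] using congrFun h0 0)
    rw [hdec x, hf₁.bilinear.add_right, hf₁.bilinear.smul_right, hf₁.bilinear.smul_right,
      hf₁.alternating, h] at hx
    simp at hx
  have h10 : f₁ e₁ e₀ = 1 := by rw [hf₁.skew, h01, CharTwo.neg_eq]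
  -- the second factor
  obtain ⟨α, hα⟩ : ∃ α : Fin m → F, α ≠ 0 := ⟨Pi.single ⟨0, by omega⟩ 1, by simp⟩
  let L : (Fin m → F) → ((Fin m → F) →ₗ[F] F) := fun v =>
    { toFun := fun x => f₂ x v
      map_add' := fun x y => hf₂.bilinear.add_left x y v
      map_smul' := fun c x => hf₂.bilinear.smul_left c x v }
  obtain ⟨β, hβ, hβα⟩ : ∃ β, f₂ β α = 0 ∧ β ∉ Submodule.span F {α} := by
    by_contra hc
    push Not at hc
    have h1 := Submodule.finrank_mono (show LinearMap.ker (L α) ≤ Submodule.span F {α} from hc)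
    have h2 := LinearMap.finrank_range_add_finrank_ker (L α)
    have h3 := Submodule.finrank_le (LinearMap.range (L α))
    rw [finrank_span_singleton hα] at h1
    rw [Module.finrank_self] at h3
    rw [Module.finrank_fin_fun] at h2
    omega
  have hαβ : f₂ α β = 0 := by rw [hf₂.skew, hβ, neg_zero]
  obtain ⟨w₀, hw₀α, hw₀β⟩ : ∃ w, f₂ w α = 1 ∧ f₂ w β = 0 := by
    by_contra hc
    push Not at hc
    obtain ⟨⟨x, hx⟩, -⟩ := hf₂.nondegenerate α hα
    have hx1 : f₂ x α = 1 := (hbool _).resolve_left hx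
    have hxb : f₂ x β = 1 := (hbool _).resolve_left (hc x hx1)
    have hne : β + α ≠ 0 := fun h => hβα (Submodule.mem_span_singleton.2 ⟨-1, by
      rw [neg_smul, one_smul]; exact (eq_neg_of_add_eq_zero_left h).symm⟩)
    obtain ⟨⟨y, hy⟩, -⟩ := hf₂.nondegenerate _ hne
    rw [hf₂.bilinear.add_right] at hy
    rcases hbool (f₂ y α) with ha | ha
    · have hb : f₂ y β = 1 := (hbool _).resolve_left fun h => hy (by rw [ha, h, add_zero])
      exact hc (x + y) (by rw [hf₂.bilinear.add_left, hx1, ha, add_zero])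
        (by rw [hf₂.bilinear.add_left, hxb, hb, CharTwo.add_self_eq_zero])
    · exact hc y ha ((hbool _).resolve_right fun h => hy (by
        rw [ha, h, CharTwo.add_self_eq_zero]))
  -- the scalar of order three
  obtain ⟨ω, hω⟩ : ∃ ω : GL (Fin 2) F, (ω : Matrix (Fin 2) (Fin 2) F) = !![0, 1; 1, 1] :=
    ⟨Matrix.GeneralLinearGroup.mkOfDetNeZero !![0, 1; 1, 1] (by simp [Matrix.det_fin_two]), rfl⟩
  have hωe₀ : (ω : Matrix (Fin 2) (Fin 2) F) *ᵥ e₀ = e₁ := by
    rw [hω]; funext i; fin_cases i <;> simp [e₀, e₁, Matrix.mulVec, dotProduct, Fin.sum_univ_two]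
  have hωe₁ : (ω : Matrix (Fin 2) (Fin 2) F) *ᵥ e₁ = e₀ + e₁ := by
    rw [hω]; funext i; fin_cases i <;> simp [e₀, e₁, Matrix.mulVec, dotProduct, Fin.sum_univ_two]
  have hω3 : ω * ω * ω = 1 := Units.ext <| by
    rw [Units.val_mul, Units.val_mul, hω, Units.val_one]
    ext i k; fin_cases i <;> fin_cases k <;>
      simp [Matrix.mul_apply, Fin.sum_univ_two, CharTwo.add_self_eq_zero]
  have hnorm : ∀ a : GL (Fin 2) F,
      (a : Matrix (Fin 2) (Fin 2) F) * (ω : Matrix (Fin 2) (Fin 2) F) = (ω : Matrix (Fin 2) (Fin 2) F) * (a : Matrix (Fin 2) (Fin 2) F) ∨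
        (a : Matrix (Fin 2) (Fin 2) F) * (ω : Matrix (Fin 2) (Fin 2) F) = (ω : Matrix (Fin 2) (Fin 2) F) * (ω : Matrix (Fin 2) (Fin 2) F) * (a : Matrix (Fin 2) (Fin 2) F) := by
    intro a
    have hdet : (a : Matrix (Fin 2) (Fin 2) F) 0 0 * (a : Matrix (Fin 2) (Fin 2) F) 1 1 -
        (a : Matrix (Fin 2) (Fin 2) F) 0 1 * (a : Matrix (Fin 2) (Fin 2) F) 1 0 ≠ 0 := by
      rw [← Matrix.det_fin_two]
      exact (Matrix.isUnit_iff_isUnit_det _).1 a.isUnit |>.ne_zero
    rw [hω]
    rcases hbool ((a : Matrix (Fin 2) (Fin 2) F) 0 0) with a0 | a0 <;>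
      rcases hbool ((a : Matrix (Fin 2) (Fin 2) F) 0 1) with a1 | a1 <;>
      rcases hbool ((a : Matrix (Fin 2) (Fin 2) F) 1 0) with a2 | a2 <;>
      rcases hbool ((a : Matrix (Fin 2) (Fin 2) F) 1 1) with a3 | a3 <;>
      first
        | (exfalso; apply hdet; rw [a0, a1, a2, a3]; ring1)
        | left; ext i k; fin_cases i <;> fin_cases k <;>
            simp [Matrix.mul_apply, Fin.sum_univ_two, a0, a1, a2, a3, CharTwo.add_self_eq_zero]
          done
        | right; ext i k; fin_cases i <;> fin_cases k <;>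
            simp [Matrix.mul_apply, Fin.sum_univ_two, a0, a1, a2, a3, CharTwo.add_self_eq_zero]
          done
  obtain ⟨C, -, hC⟩ := exists_pure_map e P ω (1 : GL (Fin m) F)
  have hC' : ∀ u w, (C : Matrix ι ι F) *ᵥ pureL e P u w =
      pureL e P ((ω : Matrix (Fin 2) (Fin 2) F) *ᵥ u) w := fun u w => by rw [hC, Units.val_one, one_mulVec]
  have hC3 : C * C * C = 1 := ext_pure e P fun u w => by
    rw [gl_mulVec_mul, gl_mulVec_mul, hC', hC', hC', ← gl_mulVec_mul, ← gl_mulVec_mul,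
      hω3, Units.val_one, one_mulVec, Units.val_one, one_mulVec]
  have hpow : ∀ x ∈ Subgroup.zpowers C, x = 1 ∨ x = C ∨ x = C * C := by
    intro x hx
    rw [Subgroup.zpowers_eq_closure] at hx
    have hCi : C⁻¹ = C * C := inv_eq_of_mul_eq_one_left hC3
    induction hx using Subgroup.closure_induction with
    | mem x hx => exact Or.inr (Or.inl hx)
    | one => exact Or.inl rfl
    | mul x y _ _ hx hy =>
      rcases hx with rfl | rfl | rfl <;> rcases hy with rfl | rfl | rfl <;>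
        simp only [one_mul, mul_one, true_or, or_true, ← mul_assoc, hC3]
    | inv x _ hx =>
      rcases hx with rfl | rfl | rfl
      · exact Or.inl inv_one
      · exact Or.inr (Or.inr hCi)
      · exact Or.inr (Or.inl (inv_eq_of_mul_eq_one_left (by rw [← mul_assoc]; exact hC3)))
  set N := Subgroup.normalizer (Subgroup.zpowers C : Set (GL ι F)) with hN
  have hsmulC : ∀ (c : F) x, (C : Matrix ι ι F) *ᵥ (c • x) = c • ((C : Matrix ι ι F) *ᵥ x) :=
    fun c x => mulVec_smul _ _ _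
  refine ⟨N ⊓ omegaGL ⇑Q, lt_of_le_of_ne ?_ ?_, lt_of_le_of_ne inf_le_right ?_⟩
  · rintro g ⟨hgT, hgo⟩
    refine ⟨?_, hgo⟩
    have hmem : ∀ g ∈ tensorProductSubgroup 2 m e P, ∀ x ∈ Subgroup.zpowers C,
        g * x * g⁻¹ ∈ Subgroup.zpowers C := by
      intro g hg x hx
      obtain ⟨a, b, hab⟩ := exists_factors e P hg
      have hCg : g * C * g⁻¹ = C ∨ g * C * g⁻¹ = C * C := by
        rcases hnorm a with h | h
        · left
          rw [mul_inv_eq_iff_eq_mul]
          exact ext_pure e P fun u w => by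
            rw [gl_mulVec_mul, gl_mulVec_mul, hC', hab, hab, hC', mulVec_mulVec, h, ← mulVec_mulVec]
        · right
          rw [mul_inv_eq_iff_eq_mul]
          exact ext_pure e P fun u w => by
            rw [gl_mulVec_mul, gl_mulVec_mul, gl_mulVec_mul, hC', hab, hab, hC', hC', mulVec_mulVec,
              h, ← mulVec_mulVec, ← mulVec_mulVec]
      rcases hpow x hx with h0 | h0 | h0 <;> rw [h0]
      · simp
      · rcases hCg with h | h <;> rw [h]
        · exact Subgroup.mem_zpowers C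
        · exact mul_mem (Subgroup.mem_zpowers C) (Subgroup.mem_zpowers C)
      · have : g * (C * C) * g⁻¹ = (g * C * g⁻¹) * (g * C * g⁻¹) := by group
        rw [this]
        rcases hCg with h | h <;> rw [h] <;>
          repeat' first | apply mul_mem | exact Subgroup.mem_zpowers C
    change g ∈ N
    rw [hN, Subgroup.mem_normalizer_iff]
    intro x
    refine ⟨hmem g hgT x, fun hx => ?_⟩
    have h' := hmem g⁻¹ (inv_mem hgT) _ hx
    simpa [mul_assoc] using h'
  · intro heq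
    have hstep : ∀ (U W : ι → F), Q U = 0 → polar Q U W = 0 → Q W = 0 →
        ∃ h ∈ omegaGL ⇑Q, ∀ x, (h : Matrix ι ι F) *ᵥ x = x + polar Q x U • W + polar Q x W • U := by
      intro U W hU hUW hW
      obtain ⟨h, hh, hhx⟩ := OmS.exists_sg hnd R hU hUW
      exact ⟨h, hh, fun x => by rw [hhx x, hW, zero_mul, sub_zero, CharTwo.neg_eq]⟩
    obtain ⟨h₁, hh₁, hx₁⟩ := hstep (pureL e P e₁ α) (pureL e P e₁ β) (hpure _ _)
      (by rw [hform, hf₁.alternating, zero_mul]) (hpure _ _)
    obtain ⟨h₂, hh₂, hx₂⟩ := hstep (pureL e P e₀ α) (pureL e P (e₀ + e₁) β) (hpure _ _)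
      (by rw [hform, hαβ, mul_zero]) (hpure _ _)
    have key : ∀ u w, ((h₁ * h₂ : GL ι F) : Matrix ι ι F) *ᵥ pureL e P u w = pureL e P u w +
        f₂ w α • pureL e P ((ω : Matrix (Fin 2) (Fin 2) F) *ᵥ u) β +
        f₂ w β • pureL e P ((ω : Matrix (Fin 2) (Fin 2) F) *ᵥ ((ω : Matrix (Fin 2) (Fin 2) F) *ᵥ u)) α := by
      intro u w
      rw [hdec u, gl_mulVec_mul, hx₂]
      simp only [mulVec_add, mulVec_smul, hωe₀, hωe₁, hx₁]
      simp only [add_pureL, smul_pureL, map_smul, polar_add_left, polar_smul_left, polar_add_right,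
        polar_smul_right, hform, hf₁.bilinear.add_left, hf₁.bilinear.add_right,
        hf₁.bilinear.smul_left, hf₁.bilinear.smul_right, hf₁.alternating, h01, h10, hαβ, hβ,
        hf₂.alternating, smul_eq_mul, mul_zero, zero_mul, mul_one, one_mul, add_zero, zero_add,
        zero_smul, smul_add, smul_smul, smul_zero]
      match_scalars <;> first | ring1 | linear_combination (f₂ w β * u 1) * two | linear_combination -(f₂ w β * u 1) * two
    have hcomm : (h₁ * h₂) * C = C * (h₁ * h₂) := ext_pure e P fun u w => by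
      rw [gl_mulVec_mul, hC', key, gl_mulVec_mul C (h₁ * h₂), key, mulVec_add, mulVec_add,
        mulVec_smul, mulVec_smul, hC', hC', hC']
    have hmem : h₁ * h₂ ∈ N ⊓ omegaGL ⇑Q := by
      refine ⟨?_, mul_mem hh₁ hh₂⟩
      change h₁ * h₂ ∈ N
      rw [hN, Subgroup.mem_normalizer_iff]
      have hfix : ∀ x ∈ Subgroup.zpowers C, (h₁ * h₂) * x = x * (h₁ * h₂) := by
        intro x hx
        rcases hpow x hx with h0 | h0 | h0 <;> rw [h0]
        · simp
        · exact hcomm
        · rw [← mul_assoc, hcomm, mul_assoc, hcomm, ← mul_assoc]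
      intro x
      refine ⟨fun hx => ?_, fun hx => ?_⟩
      · rw [hfix x hx, mul_inv_cancel_right]; exact hx
      · have h' : h₁ * h₂ * x * (h₁ * h₂)⁻¹ = x := calc
          _ = (h₁ * h₂)⁻¹ * ((h₁ * h₂) * (h₁ * h₂ * x * (h₁ * h₂)⁻¹)) := by group
          _ = (h₁ * h₂)⁻¹ * ((h₁ * h₂ * x * (h₁ * h₂)⁻¹) * (h₁ * h₂)) := by rw [hfix _ hx]
          _ = x := by group
        rwa [h'] at hx
    rw [← heq] at hmem
    obtain ⟨A, B, hAB⟩ := exists_factors e P hmem.1
    have h := hAB e₀ w₀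
    rw [key, hw₀α, hw₀β, hωe₀, one_smul, zero_smul, add_zero] at h
    set u' := (A : Matrix (Fin 2) (Fin 2) F) *ᵥ e₀
    set w' := (B : Matrix (Fin m) (Fin m) F) *ᵥ w₀
    rw [hdec u', add_pureL, smul_pureL, smul_pureL, ← sub_eq_zero, add_sub_add_comm, ← map_sub,
      ← map_sub] at h
    have hli : LinearIndependent F ![e₀, e₁] := by
      rw [LinearIndependent.pair_iff]
      intro s t hst
      exact ⟨by simpa [e₀, e₁] using congrFun hst 0, by simpa [e₀, e₁] using congrFun hst 1⟩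
    obtain ⟨r0, r1⟩ := eq_zero_of_add e P hli (i := (0 : Fin 2)) (j := 1) (by decide) h
    rw [sub_eq_zero] at r0 r1
    have hA : f₂ w₀ α = u' 0 * f₂ w' α := by rw [r0, hf₂.bilinear.smul_left]
    have hB : f₂ β α = u' 1 * f₂ w' α := by rw [r1, hf₂.bilinear.smul_left]
    rw [hw₀α] at hA
    rw [hβ] at hB
    have hw' : f₂ w' α ≠ 0 := fun h0 => one_ne_zero (α := F) (by rw [hA, h0, mul_zero])
    have hu1 : u' 1 = 0 := (mul_eq_zero.1 hB.symm).resolve_right hw'
    exact hβα (by rw [r1, hu1, zero_smul]; exact zero_mem _)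
  · intro heq
    obtain ⟨h, hh, hhx⟩ := OmS.exists_sg hnd R (hpure e₀ α)
      (show polar Q (pureL e P e₀ α) (pureL e P e₀ β) = 0 by rw [hform, hf₁.alternating, zero_mul])
    have hhN : h ∈ N := by
      have : h ∈ N ⊓ omegaGL ⇑Q := by rw [heq]; exact hh
      exact this.1
    have hc : h * C * h⁻¹ ∈ Subgroup.zpowers C :=
      ((Subgroup.mem_normalizer_iff.1 hhN) C).1 (Subgroup.mem_zpowers C)
    have hfix : (h : Matrix ι ι F) *ᵥ pureL e P e₀ w₀ = pureL e P e₀ w₀ := by
      rw [hhx]; simp [hform, hf₁.alternating, hpure]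
    have hmove : (h : Matrix ι ι F) *ᵥ pureL e P e₁ w₀ = pureL e P e₁ w₀ + pureL e P e₀ β := by
      rw [hhx]; simp [hform, h10, hw₀α, hw₀β, hpure]
    have hlhs : ((h * C * h⁻¹ : GL ι F) : Matrix ι ι F) *ᵥ pureL e P e₀ w₀ =
        pureL e P e₁ w₀ + pureL e P e₀ β := by
      conv_lhs => rw [← hfix]
      rw [gl_mulVec_mul, gl_mulVec_mul, gl_inv_mulVec_mulVec, hC', hωe₀, hmove]
    have hli : LinearIndependent F ![e₀, e₁] := by
      rw [LinearIndependent.pair_iff]
      intro s t hst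
      exact ⟨by simpa [e₀, e₁] using congrFun hst 0, by simpa [e₀, e₁] using congrFun hst 1⟩
    have hβ0 : β ≠ 0 := fun h0 => hβα (h0 ▸ zero_mem _)
    have hw0 : w₀ ≠ 0 := fun h0 => one_ne_zero (α := F) (by
      rw [← hw₀α, h0]; simpa using hf₂.bilinear.smul_left 0 0 α)
    rcases hpow _ hc with h' | h' | h' <;> rw [h'] at hlhs
    · rw [Units.val_one, one_mulVec, ← sub_eq_zero, sub_add_eq_sub_sub_swap, ← map_sub,
        sub_eq_add_neg, ← map_neg] at hlhs
      exact hw0 (neg_eq_zero.1 (eq_zero_of_add e P hli (i := (0 : Fin 2)) (j := 1) (by decide) hlhs).2)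
    · rw [hC', hωe₀, left_eq_add] at hlhs
      exact pureL_ne_zero e P (fun h0 => by simpa [e₀] using congrFun h0 0) hβ0 hlhs
    · rw [gl_mulVec_mul, hC', hC', hωe₀, hωe₁, add_pureL, add_comm, add_left_cancel_iff] at hlhs
      have h2 : pureL e P e₀ (w₀ + -β) + pureL e P e₁ 0 = 0 := by
        rw [map_add, map_neg, hlhs, add_neg_cancel, map_zero, add_zero]
      have hwb : w₀ = β := by
        have := (eq_zero_of_add e P hli (i := (0 : Fin 2)) (j := 1) (by decide) h2).1
        exact add_neg_eq_zero.1 this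
      rw [hwb, hβ] at hw₀α
      exact zero_ne_one hw₀α

end CfsgLib.ClassicalMax.OmT
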