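/-
Unitary groups over finite fields: transitivity of transvections and generation of the special unitary group.
-/
import Cfsg.Agent.Lib.ClassicalMax.Unitary
set_option autoImplicit false

namespace CfsgLib.ClassicalMax.Unit

open Matrix Cfsg.Geo

variable {ι : Type} [Fintype ι] [DecidableEq ι] {F : Type*} [Field F] [Fintype F]
  {σ : F ≃+* F} {f : (ι → F) → (ι → F) → F}

/-- The vectors orthogonal to `W`. -/
def perp (hf : IsUnitaryForm σ f) (W : Submodule F (ι → F)) : Submodule F (ι → F) where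
  carrier := {v | ∀ w ∈ W, f v w = 0}
  add_mem' {a b} ha hb w hw := by rw [hf.add_left, ha w hw, hb w hw, add_zero]
  zero_mem' w _ := zero_left hf w
  smul_mem' c a ha w hw := by rw [hf.smul_left, ha w hw, mul_zero]

variable (hf : IsUnitaryForm σ f)

include hf

omit [Fintype F] in
lemma mem_perp {W : Submodule F (ι → F)} {v : ι → F} : v ∈ perp hf W ↔ ∀ w ∈ W, f v w = 0 :=
  Iff.rfl

omit [Fintype F] in
lemma eq_zero_of_mem_perp {W : Submodule F (ι → F)} (hW : IsNondegenerateOn f W) {a : ι → F}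
    (ha : a ∈ W) (ha' : a ∈ perp hf W) : a = 0 := by
  by_contra h
  obtain ⟨x, hx, hx'⟩ := (hW a ha h).2
  exact hx' (ha' x hx)

/-- Prescribed pairings are realised inside a non-degenerate subspace. -/
lemma exists_riesz {W : Submodule F (ι → F)} (hW : IsNondegenerateOn f W) (φ : W →ₗ[F] F) :
    ∃ y ∈ W, ∀ x : W, f (x : ι → F) y = φ x := by
  classical
  let L : W → (W →ₗ[F] F) := fun y => (formL hf (y : ι → F)).comp W.subtype
  have hinj : Function.Injective L := by
    intro a b h
    by_contra hab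
    obtain ⟨x, hx, hx'⟩ := (hW _ (W.sub_mem a.2 b.2) (fun e => hab (Subtype.ext (sub_eq_zero.1 e)))).1
    apply hx'
    have := congrArg (fun t : W →ₗ[F] F => t ⟨x, hx⟩) h
    simp [L] at this
    rw [sub_right hf, this, sub_self]
  haveI : Finite (W →ₗ[F] F) := Module.finite_of_finite F
  have hbij : Function.Bijective L := by
    refine (Nat.bijective_iff_injective_and_card L).2 ⟨hinj, ?_⟩
    haveI : Fintype (W →ₗ[F] F) := Fintype.ofFinite _
    rw [Nat.card_eq_fintype_card, Nat.card_eq_fintype_card, Module.card_eq_pow_finrank (K := F),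
      Module.card_eq_pow_finrank (K := F) (V := W →ₗ[F] F), Subspace.dual_finrank_eq]
  obtain ⟨y, hy⟩ := hbij.2 φ
  exact ⟨y, y.2, fun x => by rw [← hy]; rfl⟩

lemma exists_split {W : Submodule F (ι → F)} (hW : IsNondegenerateOn f W) (x : ι → F) :
    ∃ a ∈ W, x - a ∈ perp hf W := by
  obtain ⟨a, ha, h⟩ := exists_riesz hf hW ((formL hf x).comp W.subtype)
  refine ⟨a, ha, fun w hw => eq_zero_comm hf ?_⟩
  rw [sub_right hf, h ⟨w, hw⟩]
  simp

/-- A totally singular subspace of a non-degenerate subspace has at most half its dimension. -/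
lemma two_mul_finrank_le_in {W K : Submodule F (ι → F)} (hW : IsNondegenerateOn f W) (hKW : K ≤ W)
    (hK : IsTotallySingularFor f K) : 2 * Module.finrank F K ≤ Module.finrank F W := by
  let b := Module.finBasis F K
  let L : W →ₗ[F] (Fin (Module.finrank F K) → F) :=
    LinearMap.pi fun i => (formL hf (b i : ι → F)).comp W.subtype
  have hsurj : Function.Surjective L := by
    intro φ
    let K' : Submodule F W := Submodule.comap W.subtype K
    let e : K' ≃ₗ[F] K := Submodule.comapSubtypeEquivOfLe hKW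
    obtain ⟨ψ, hψ⟩ := LinearMap.exists_extend ((b.constr F fun i => σ (φ i)).comp (e : K' →ₗ[F] K))
    obtain ⟨y, hy, hy'⟩ := exists_riesz hf hW ψ
    refine ⟨⟨y, hy⟩, funext fun i => ?_⟩
    have hbi : (b i : ι → F) ∈ W := hKW (b i).2
    have h1 : ψ ⟨_, hbi⟩ = σ (φ i) := by
      have := congrArg (fun t : K' →ₗ[F] F => t ⟨⟨_, hbi⟩, (b i).2⟩) hψ
      simp only [LinearMap.comp_apply, Submodule.subtype_apply] at this
      rw [this]
      have he : e ⟨⟨_, hbi⟩, (b i).2⟩ = b i := Subtype.ext rfl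
      simp [he]
    change f y (b i : ι → F) = φ i
    rw [hf.herm]
    rw [hy' ⟨_, hbi⟩, h1, hf.involutive]
  have hker : K.comap W.subtype ≤ LinearMap.ker L := fun y hy => funext fun i => hK _ hy _ (b i).2
  have h := LinearMap.finrank_range_add_finrank_ker L
  rw [LinearMap.range_eq_top.2 hsurj, finrank_top, Module.finrank_fintype_fun_eq_card,
    Fintype.card_fin] at h
  have h' := Submodule.finrank_mono hker
  rw [(Submodule.comapSubtypeEquivOfLe hKW).finrank_eq] at h'
  omega

/-- A subspace of more than half the dimension of a non-degenerate one has every norm. -/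
lemma exists_value_in {W K : Submodule F (ι → F)} (hW : IsNondegenerateOn f W) (hKW : K ≤ W)
    (hdim : Module.finrank F W < 2 * Module.finrank F K) {s : F} (hs : σ s = s) :
    ∃ w ∈ K, f w w = s := by
  obtain ⟨u, hu, hu0⟩ : ∃ u ∈ K, f u u ≠ 0 := by
    by_contra hcon
    push Not at hcon
    have := two_mul_finrank_le_in hf hW hKW fun a ha b hb => by
      by_contra hab
      have h : ∀ l : F, σ l * f a b + l * σ (f a b) = 0 := fun l => by
        have h' := hcon _ (K.add_mem ha (K.smul_mem l hb))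
        rw [hf.add_left, add_right hf, add_right hf, hf.smul_left, hf.smul_left, smul_right hf,
          smul_right hf, hcon a ha, hcon b hb, hf.herm b a] at h'
        linear_combination h'
      obtain ⟨x, hx⟩ : ∃ x, σ x ≠ x := by
        by_contra h
        push Not at h
        exact hf.ne_refl (RingEquiv.ext h)
      have h1 := h 1
      have h2 := h x
      rw [map_one, one_mul, one_mul] at h1
      have : (σ x - x) * f a b = 0 := by linear_combination h2 - x * h1
      exact hab ((mul_eq_zero.1 this).resolve_left (sub_ne_zero.2 hx))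
    omega
  obtain ⟨a, ha⟩ := exists_norm_eq hf.ne_refl hf.involutive (s := s / f u u)
    (by rw [map_div₀, hs, self_fixed hf])
  refine ⟨a • u, K.smul_mem _ hu, ?_⟩
  rw [hf.smul_left, smul_right hf, ← mul_assoc, ha, div_mul_cancel₀ _ hu0]

/-- A vector with prescribed pairings with two independent vectors and prescribed norm. -/
lemma exists_prescribed {W : Submodule F (ι → F)} (hW : IsNondegenerateOn f W)
    (hdim : 7 ≤ Module.finrank F W) {b b' : ι → F} (hb : b ∈ W) (hb' : b' ∈ W)
    (hli : LinearIndependent F ![b, b']) (α β : F) {s : F} (hs : σ s = s) :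
    ∃ z ∈ W, f b z = α ∧ f b' z = β ∧ f z z = s := by
  let v : Fin 2 → W := ![⟨b, hb⟩, ⟨b', hb'⟩]
  have hv : LinearIndependent F v := by
    apply LinearIndependent.of_comp W.subtype
    convert hli using 1
    funext i
    fin_cases i <;> rfl
  obtain ⟨φ, hφ⟩ := LinearMap.exists_extend ((Module.Basis.span hv).constr F ![α, β])
  obtain ⟨z₀, hz₀, hz⟩ := exists_riesz hf hW φ
  have hφv : ∀ i, φ (v i) = ![α, β] i := fun i => by
    have := congrArg (fun t => t (Module.Basis.span hv i)) hφ
    rw [LinearMap.comp_apply, Module.Basis.constr_basis] at this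
    rw [← this, Submodule.subtype_apply, Module.Basis.span_apply]
  let L : W →ₗ[F] (F × F × F) :=
    ((formL hf b).prod ((formL hf b').prod (formL hf z₀))).comp W.subtype
  have h := LinearMap.finrank_range_add_finrank_ker L
  have h3 := Submodule.finrank_le (LinearMap.range L)
  simp only [Module.finrank_prod, Module.finrank_self] at h3
  have hmap : Module.finrank F ((LinearMap.ker L).map W.subtype) = Module.finrank F (LinearMap.ker L) :=
    Submodule.finrank_map_subtype_eq _ _
  obtain ⟨k, hk, hkk⟩ := exists_value_in hf hW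
    (K := (LinearMap.ker L).map W.subtype) (Submodule.map_subtype_le _ _) (by omega)
    (s := s - f z₀ z₀) (by rw [map_sub, hs, self_fixed hf])
  obtain ⟨k, hk', rfl⟩ := hk
  simp only [SetLike.mem_coe, L, LinearMap.mem_ker, LinearMap.comp_apply, LinearMap.prod_apply,
    Function.prod, Prod.mk_eq_zero, formL_apply, Submodule.subtype_apply] at hk' hkk
  refine ⟨z₀ + k, W.add_mem hz₀ k.2, ?_, ?_, ?_⟩
  · rw [add_right hf, eq_zero_comm hf hk'.1, add_zero]
    exact (hz ⟨b, hb⟩).trans (hφv 0)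
  · rw [add_right hf, eq_zero_comm hf hk'.2.1, add_zero]
    exact (hz ⟨b', hb'⟩).trans (hφv 1)
  · rw [hf.add_left, add_right hf, add_right hf, hkk, hk'.2.2, eq_zero_comm hf hk'.2.2]
    ring

omit [Fintype F] in
lemma exists_trace_eq {s : F} (hs : σ s = s) : ∃ a, a + σ a = s := by
  obtain ⟨a, ha⟩ : ∃ a, σ a ≠ a := by
    by_contra h
    push Not at h
    exact hf.ne_refl (RingEquiv.ext h)
  obtain ⟨e, he⟩ : ∃ e, e + σ e ≠ 0 := by
    by_contra h
    push Not at h
    have h1 := h 1
    rw [map_one] at h1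
    apply ha
    linear_combination h a - a * h1
  have he' : σ (e + σ e) = e + σ e := by rw [map_add, hf.involutive, add_comm]
  refine ⟨s * e / (e + σ e), ?_⟩
  rw [map_div₀, map_mul, hs, he', ← add_div, ← mul_add, mul_div_assoc, div_self he, mul_one]

/-- An isotropic vector outside the radical of a subspace forces the isotropic vectors to span it. -/
lemma isotropic_span_of_mem {W : Submodule F (ι → F)} {u : ι → F} (hu : u ∈ W) (hu0 : f u u = 0)
    (hrad : ∃ y ∈ W, f y u ≠ 0) : Submodule.span F {w | w ∈ W ∧ f w w = 0} = W := by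
  refine le_antisymm (Submodule.span_le.2 fun w hw => hw.1) ?_
  have huS : u ∈ Submodule.span F {w | w ∈ W ∧ f w w = 0} := Submodule.subset_span ⟨hu, hu0⟩
  have hne : ∀ v ∈ W, f v u ≠ 0 → v ∈ Submodule.span F {w | w ∈ W ∧ f w w = 0} := by
    intro v hv hvu
    obtain ⟨a, ha⟩ := exists_trace_eq hf (s := - f v v) (by rw [map_neg, self_fixed hf])
    have hiso : f (v + (a / f u v) • u) (v + (a / f u v) • u) = 0 := by
      have hne := ne_zero_comm hf hvu
      rw [hf.add_left, add_right hf, add_right hf, hf.smul_left, hf.smul_left, smul_right hf,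
        smul_right hf, hu0, map_div₀, hf.herm v u]
      have hne' : σ (f u v) ≠ 0 := fun e => hne (by simpa using congrArg σ.symm e)
      field_simp
      linear_combination (σ (f u v) * f u v) * ha
    have := Submodule.sub_mem _ (Submodule.subset_span (R := F)
      (s := {w | w ∈ W ∧ f w w = 0}) ⟨W.add_mem hv (W.smul_mem _ hu), hiso⟩)
      (Submodule.smul_mem _ (a / f u v) huS)
    rwa [add_sub_cancel_right] at this
  obtain ⟨y, hy, hyu⟩ := hrad
  intro v hv
  by_cases hvu : f v u = 0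
  · have h1 := hne _ (W.add_mem hv hy) (by rw [hf.add_left, hvu, zero_add]; exact hyu)
    simpa using Submodule.sub_mem _ h1 (hne y hy hyu)
  · exact hne v hv hvu

variable [DecidableEq F]

/-- The group generated by the unitary transvections with centres in `W`. -/
def tvGroup (W : Submodule F (ι → F)) : Subgroup (GL ι F) :=
  Subgroup.closure {t | ∃ v c, v ∈ W ∧ f v v = 0 ∧ σ c = -c ∧ t = uTv hf v c}

omit [Fintype F] in
lemma tvGroup_le_iso (W : Submodule F (ι → F)) : tvGroup hf W ≤ isoOf f ⊓ specialLinear ι F :=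
  (Subgroup.closure_le _).2 (by
    rintro _ ⟨v, c, -, hv, hc, rfl⟩
    exact ⟨uTv_mem_isoOf hf hv hc, uTv_mem_sl hf v c⟩)

omit [Fintype F] in
/-- One transvection moves `b` to `b'` when their difference is isotropic and not orthogonal. -/
lemma exists_uTv_mulVec {W : Submodule F (ι → F)} {b b' : ι → F} (hb : b ∈ W) (hb' : b' ∈ W)
    (hs : f b b = f b' b') (hd : f (b' - b) (b' - b) = 0) (hne : f b (b' - b) ≠ 0) :
    ∃ t ∈ tvGroup hf W, (t : Matrix ι ι F) *ᵥ b = b' := by
  refine ⟨uTv hf (b' - b) (f b (b' - b))⁻¹, Subgroup.subset_closure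
    ⟨_, _, W.sub_mem hb' hb, hd, ?_, rfl⟩, ?_⟩
  · rw [map_inv₀, ← inv_neg]
    congr 1
    rw [sub_right hf, map_sub, self_fixed hf, ← hf.herm]
    have h : f b' b' - f b' b - (f b b' - f b b) = 0 := by
      rw [← hd, sub_left hf, sub_right hf, sub_right hf]
    linear_combination -hs - h
  · rw [uTv_mulVec hf hd, inv_mul_cancel₀ hne, one_smul, add_sub_cancel]

/-- Transvections with centres in a non-degenerate subspace are transitive on its vectors of given norm. -/
lemma exists_tvGroup_mulVec {W : Submodule F (ι → F)} (hW : IsNondegenerateOn f W)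
    (hdim : 7 ≤ Module.finrank F W) {b b' : ι → F} (hb : b ∈ W) (hb' : b' ∈ W) (hb0 : b ≠ 0)
    (hb'0 : b' ≠ 0) (hs : f b b = f b' b') :
    ∃ t ∈ tvGroup hf W, (t : Matrix ι ι F) *ᵥ b = b' := by
  obtain ⟨τ, hτ0, hτ⟩ := exists_trace_zero hf.ne_refl hf.involutive
  set s := f b b with hsdef
  have hσs : σ s = s := self_fixed hf b
  -- the independent case
  have indep : ∀ b b' : ι → F, b ∈ W → b' ∈ W → f b b = s → f b' b' = s →
      LinearIndependent F ![b, b'] → ∃ t ∈ tvGroup hf W, (t : Matrix ι ι F) *ᵥ b = b' := by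
    intro b b' hb hb' h1 h2 hli
    obtain ⟨z, hz, hz1, hz2, hz3⟩ := exists_prescribed hf hW hdim hb hb' hli (s + τ) (s + τ) hσs
    have hz1' : f z b = s - τ := by rw [hf.herm, hz1, map_add, hσs, hτ, sub_eq_add_neg]
    have hz2' : f z b' = s - τ := by rw [hf.herm, hz2, map_add, hσs, hτ, sub_eq_add_neg]
    obtain ⟨t₁, ht₁, e₁⟩ := exists_uTv_mulVec hf hb hz (h1.trans hz3.symm)
      (by rw [sub_left hf, sub_right hf, sub_right hf, h1, hz3, hz1, hz1']; ring)
      (by rw [sub_right hf, hz1, h1, add_sub_cancel_left]; exact hτ0)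
    obtain ⟨t₂, ht₂, e₂⟩ := exists_uTv_mulVec hf hz hb' (hz3.trans h2.symm)
      (by rw [sub_left hf, sub_right hf, sub_right hf, h2, hz3, hz2, hz2']; ring)
      (by rw [sub_right hf, hz2', hz3]; simpa using hτ0)
    exact ⟨t₂ * t₁, mul_mem ht₂ ht₁, by rw [gl_mulVec_mul, e₁, e₂]⟩
  by_cases hli : LinearIndependent F ![b, b']
  · exact indep b b' hb hb' rfl hs.symm hli
  obtain ⟨p, hp, hpb⟩ : ∃ p ∈ W, p ∉ Submodule.span F {b} := by
    apply SetLike.not_le_iff_exists.1
    intro hle
    have := Submodule.finrank_mono hle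
    rw [finrank_span_singleton hb0] at this
    omega
  have hbp : LinearIndependent F ![b, p] := by
    rw [LinearIndependent.pair_iff' hb0]
    exact fun a e => hpb (Submodule.mem_span_singleton.2 ⟨a, e⟩)
  obtain ⟨z, hz, hz1, -, hz3⟩ := exists_prescribed hf hW hdim hb hp hbp (s + τ) 0 hσs
  have hbz : LinearIndependent F ![b, z] := by
    rw [LinearIndependent.pair_iff' hb0]
    intro a e
    rw [← e, smul_right hf] at hz1
    rw [← e, hf.smul_left, smul_right hf] at hz3
    have e1 : a * (σ a * s) = s := hz3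
    have e2 : a * s = s - τ := by
      have := congrArg σ hz1
      rw [map_mul, map_add, hf.involutive, hσs, hτ, ← sub_eq_add_neg] at this
      exact this
    have e3 : σ a * s = s + τ := hz1
    apply hτ0
    refine mul_self_eq_zero.1 ?_
    linear_combination -s * e1 + σ a * s * e2 + (s - τ) * e3
  obtain ⟨l, hl⟩ : ∃ l : F, l • b = b' := by
    rw [LinearIndependent.pair_iff' hb0] at hli
    push Not at hli
    exact hli
  have hl0 : l ≠ 0 := fun e => hb'0 (by rw [← hl, e, zero_smul])
  have hzb' : LinearIndependent F ![z, b'] := by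
    have hz0 : z ≠ 0 := fun e => by
      have := LinearIndependent.ne_zero 1 hbz
      exact this e
    rw [LinearIndependent.pair_iff' hz0]
    intro a e
    rw [LinearIndependent.pair_iff' hb0] at hbz
    have ha : a ≠ 0 := fun h => hb'0 (by rw [← e, h, zero_smul])
    exact hbz (a⁻¹ * l) (by rw [← smul_smul, hl, ← e, smul_smul, inv_mul_cancel₀ ha, one_smul])
  obtain ⟨t₁, ht₁, e₁⟩ := indep b z hb hz rfl hz3 hbz
  obtain ⟨t₂, ht₂, e₂⟩ := indep z b' hz hb' hz3 hs.symm hzb'
  exact ⟨t₂ * t₁, mul_mem ht₂ ht₁, by rw [gl_mulVec_mul, e₁, e₂]⟩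

/-- The quasi-reflection `x ↦ x + (ζ - 1) f(x, v) / f(v, v) • v`. -/
def qMat (v : ι → F) (ζ : F) : Matrix ι ι F :=
  1 + vecMulVec v (((ζ - 1) / f v v) • formDual hf v)

omit [Fintype F] [DecidableEq F] in
lemma qMat_mulVec (v : ι → F) (ζ : F) (x : ι → F) :
    qMat hf v ζ *ᵥ x = x + ((ζ - 1) / f v v * f x v) • v := by
  rw [qMat, add_mulVec, one_mulVec, vecMulVec_mulVec, op_smul_eq_smul, smul_dotProduct,
    formDual_dot, smul_eq_mul]

omit [Fintype F] [DecidableEq F] in
lemma qMat_mul {v : ι → F} (hv : f v v ≠ 0) (ζ η : F) :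
    qMat hf v ζ * qMat hf v η = qMat hf v (ζ * η) := by
  refine Matrix.ext_of_mulVec_single fun i => ?_
  rw [← mulVec_mulVec, qMat_mulVec, qMat_mulVec, qMat_mulVec, hf.add_left, hf.smul_left]
  match_scalars
  · ring
  · field_simp
    ring

omit [Fintype F] [DecidableEq F] in
lemma qMat_one (v : ι → F) : qMat hf v 1 = 1 := by
  rw [qMat, sub_self, zero_div, zero_smul, vecMulVec_zero, add_zero]

omit [Fintype F] [DecidableEq F] in
lemma det_qMat {v : ι → F} (hv : f v v ≠ 0) (ζ : F) : (qMat hf v ζ).det = ζ := by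
  rw [qMat, vecMulVec_eq Unit, det_one_add_replicateCol_mul_replicateRow, smul_dotProduct,
    formDual_dot, smul_eq_mul, div_mul_cancel₀ _ hv, add_sub_cancel]

/-- The quasi-reflection as an invertible matrix. -/
def qRefl (v : ι → F) (hv : f v v ≠ 0) : Fˣ →* GL ι F :=
  MonoidHom.toHomUnits
    { toFun := fun ζ => qMat hf v ζ
      map_one' := qMat_one hf v
      map_mul' := fun a b => (qMat_mul hf hv a b).symm }

omit [Fintype F] [DecidableEq F] in
lemma qRefl_mulVec (v : ι → F) (hv : f v v ≠ 0) (ζ : Fˣ) (x : ι → F) :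
    (qRefl hf v hv ζ : Matrix ι ι F) *ᵥ x = x + (((ζ : F) - 1) / f v v * f x v) • v :=
  qMat_mulVec hf v ζ x

omit [Fintype F] [DecidableEq F] in
lemma qRefl_mem_isoOf (v : ι → F) (hv : f v v ≠ 0) (ζ : Fˣ) (hζ : (ζ : F) * σ ζ = 1) :
    qRefl hf v hv ζ ∈ isoOf f := by
  intro x y
  change f ((qRefl hf v hv ζ : Matrix ι ι F) *ᵥ x) ((qRefl hf v hv ζ : Matrix ι ι F) *ᵥ y) = f x y
  rw [qRefl_mulVec, qRefl_mulVec, hf.add_left, add_right hf, add_right hf, hf.smul_left,
    hf.smul_left, smul_right hf, smul_right hf, map_mul, map_div₀, map_sub, map_one,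
    self_fixed hf, ← hf.herm v y]
  field_simp
  linear_combination (f x v * f v y) * hζ

/-- The special unitary group is generated by transvections. -/
theorem iso_inf_sl_le (hn : 7 ≤ Fintype.card ι) {H : Subgroup (GL ι F)}
    (hH : ∀ v c, f v v = 0 → σ c = -c → uTv hf v c ∈ H) : isoOf f ⊓ specialLinear ι F ≤ H := by
  classical
  have htopnd : IsNondegenerateOn f (⊤ : Submodule F (ι → F)) := fun w _ hw =>
    ⟨let ⟨x, hx⟩ := (hf.nondegenerate w hw).1; ⟨x, trivial, hx⟩,
      let ⟨x, hx⟩ := (hf.nondegenerate w hw).2; ⟨x, trivial, hx⟩⟩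
  have htop : 7 ≤ Module.finrank F (⊤ : Submodule F (ι → F)) := by
    rwa [finrank_top, Module.finrank_fintype_fun_eq_card]
  set T := tvGroup hf (⊤ : Submodule F (ι → F)) with hT
  have hTH : T ≤ H := (Subgroup.closure_le _).2 (by
    rintro _ ⟨v, c, -, hv, hc, rfl⟩; exact hH v c hv hc)
  obtain ⟨v₀, -, hv₀⟩ := exists_value_in hf htopnd le_rfl (by omega) (map_one σ)
  have hv₀' : f v₀ v₀ ≠ 0 := by rw [hv₀]; exact one_ne_zero
  -- every quasi-reflection is congruent to one with centre `v₀`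
  have hcong : ∀ v (hv : f v v ≠ 0) (ζ : Fˣ), ∃ t ∈ T,
      qRefl hf v hv ζ = t * qRefl hf v₀ hv₀' ζ * t⁻¹ := by
    intro v hv ζ
    obtain ⟨a, ha⟩ := exists_norm_eq hf.ne_refl hf.involutive (s := (f v v)⁻¹)
      (by rw [map_inv₀, self_fixed hf])
    have ha' : f (a • v) (a • v) = 1 := by
      rw [hf.smul_left, smul_right hf, ← mul_assoc, ha, inv_mul_cancel₀ hv]
    have hav : a • v ≠ 0 := fun e => by
      rw [e, zero_left hf] at ha'; exact zero_ne_one ha'
    have hv₀0 : v₀ ≠ 0 := fun e => hv₀' (by rw [e, zero_left hf])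
    obtain ⟨t, ht, hte⟩ := exists_tvGroup_mulVec hf htopnd htop (Submodule.mem_top (x := v₀))
      (Submodule.mem_top (x := a • v)) hv₀0 hav (hv₀.trans ha'.symm)
    refine ⟨t, ht, gl_ext_mulVec fun x => ?_⟩
    have hti : t ∈ isoOf f := (tvGroup_le_iso hf _ ht).1
    rw [gl_mulVec_mul, gl_mulVec_mul, qRefl_mulVec, qRefl_mulVec, mulVec_add, gl_mulVec_inv_mulVec t,
      mulVec_smul, hte, hv₀, form_mulVec_left ((isoOf f).inv_mem hti), inv_inv, hte, smul_right hf,
      smul_smul]
    congr 2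
    have e : σ a * a = (f v v)⁻¹ := by rw [mul_comm]; exact ha
    field_simp at e
    field_simp
    linear_combination -((ζ : F) - 1) * f x v * e
  -- the isometry group is the product
  let U : Set (GL ι F) := {g | ∃ t ∈ T, ∃ ζ : Fˣ, g = t * qRefl hf v₀ hv₀' ζ}
  have hnorm : ∀ ζ : Fˣ, (ζ : F) * σ ζ = 1 → ∀ t ∈ T,
      qRefl hf v₀ hv₀' ζ * t * (qRefl hf v₀ hv₀' ζ)⁻¹ ∈ T := by
    intro ζ hζ t ht
    induction ht using Subgroup.closure_induction with
    | mem t ht =>
      obtain ⟨v, c, -, hv, hc, rfl⟩ := ht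
      rw [uTv_conj hf (qRefl_mem_isoOf hf v₀ hv₀' ζ hζ) hv]
      exact Subgroup.subset_closure ⟨_, c, trivial,
        (mem_isoOf.1 (qRefl_mem_isoOf hf v₀ hv₀' ζ hζ) v v).trans hv, hc, rfl⟩
    | one => simp
    | mul a b _ _ ha hb =>
      have := T.mul_mem ha hb
      simpa [mul_assoc] using this
    | inv a _ ha =>
      have := T.inv_mem ha
      simpa [mul_assoc] using this
  let fixd : GL ι F → Submodule F (ι → F) := fun g =>
    LinearMap.ker (Matrix.toLin' (g : Matrix ι ι F) - LinearMap.id)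
  have hfix : ∀ (g : GL ι F) (x : ι → F), x ∈ fixd g ↔ (g : Matrix ι ι F) *ᵥ x = x := by
    intro g x
    simp [fixd, sub_eq_zero]
  suffices hU : ∀ k, ∀ g ∈ isoOf f, Fintype.card ι ≤ Module.finrank F (fixd g) + k →
      ∃ t ∈ T, ∃ ζ : Fˣ, (ζ : F) * σ ζ = 1 ∧ g = t * qRefl hf v₀ hv₀' ζ by
    rintro g ⟨hgi, hgs⟩
    obtain ⟨t, ht, ζ, -, rfl⟩ := hU (Fintype.card ι) g hgi (Nat.le_add_left _ _)
    have h1 : Matrix.GeneralLinearGroup.det (t * qRefl hf v₀ hv₀' ζ) = 1 := hgs
    have h2 : Matrix.GeneralLinearGroup.det t = 1 := (tvGroup_le_iso hf _ ht).2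
    rw [map_mul, h2, one_mul] at h1
    have h3 : (qMat hf v₀ (ζ : F)).det = 1 := congrArg Units.val h1
    rw [det_qMat hf hv₀'] at h3
    rw [show ζ = 1 from Units.ext h3, map_one, mul_one]
    exact hTH ht
  intro k
  induction k with
  | zero =>
    intro g _ hk
    have htop : fixd g = ⊤ := Submodule.eq_top_of_finrank_eq
      (le_antisymm (Submodule.finrank_le _) (by simpa using hk))
    refine ⟨1, T.one_mem, 1, by simp, gl_ext_mulVec fun x => ?_⟩
    rw [(hfix g x).1 (htop ▸ Submodule.mem_top)]; simp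
  | succ k ih =>
    intro g hg hk
    by_cases hg1 : ∀ x, (g : Matrix ι ι F) *ᵥ x = x
    · exact ⟨1, T.one_mem, 1, by simp, gl_ext_mulVec fun x => by rw [hg1 x]; simp⟩
    obtain ⟨x, hA⟩ : ∃ x, f ((g : Matrix ι ι F) *ᵥ x) ((g : Matrix ι ι F) *ᵥ x - x) ≠ 0 := by
      by_contra hcon
      push Not at hcon
      apply hg1
      have h : ∀ x, f ((g : Matrix ι ι F) *ᵥ x) x = f x x := fun x => by
        have := hcon x
        rw [sub_right hf, sub_eq_zero, mem_isoOf.1 hg] at this
        exact this.symm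
      intro a
      rw [← sub_eq_zero]
      by_contra hne
      obtain ⟨b, hb⟩ := (hf.nondegenerate _ hne).2
      apply hb
      obtain ⟨c, hc⟩ : ∃ c, σ c ≠ c := by
        by_contra h
        push Not at h
        exact hf.ne_refl (RingEquiv.ext h)
      have h0 : ∀ l : F, σ l * f ((g : Matrix ι ι F) *ᵥ a - a) b
          + l * f ((g : Matrix ι ι F) *ᵥ b - b) a = 0 := fun l => by
        have h' := h (a + l • b)
        rw [mulVec_add, mulVec_smul, hf.add_left, hf.add_left, add_right hf, add_right hf,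
          add_right hf, add_right hf, hf.smul_left, hf.smul_left, hf.smul_left, hf.smul_left,
          smul_right hf, smul_right hf, smul_right hf, smul_right hf, h a, h b] at h'
        rw [sub_left hf, sub_left hf]
        linear_combination h'
      have h1 := h0 1
      have h2 := h0 c
      rw [map_one, one_mul, one_mul] at h1
      have : (σ c - c) * f ((g : Matrix ι ι F) *ᵥ a - a) b = 0 := by linear_combination h2 - c * h1
      exact (mul_eq_zero.1 this).resolve_left (sub_ne_zero.2 hc)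
    set gx := (g : Matrix ι ι F) *ᵥ x with hgx
    set d := gx - x with hdd
    have hx : gx ≠ x := fun e => hA (by rw [hdd, e, sub_self, zero_right hf])
    have horth : ∀ w, (g : Matrix ι ι F) *ᵥ w = w → f w d = 0 := by
      intro w hw
      rw [hdd, sub_right hf, sub_eq_zero]
      have e := mem_isoOf.1 hg w x
      rwa [hw] at e
    have hdd' : f d d = f gx d + σ (f gx d) := by
      rw [hdd, sub_left hf, sub_right hf, sub_right hf, map_sub, self_fixed hf, ← hf.herm x gx,
        mem_isoOf.1 hg]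
      ring
    have step : ∀ r : GL ι F, r ∈ isoOf f → (r : Matrix ι ι F) *ᵥ gx = x →
        (∀ w, (g : Matrix ι ι F) *ᵥ w = w → (r : Matrix ι ι F) *ᵥ w = w) →
        ∃ t ∈ T, ∃ ζ : Fˣ, (ζ : F) * σ ζ = 1 ∧ r * g = t * qRefl hf v₀ hv₀' ζ := by
      intro r hr hrx hrw
      have hlt : fixd g < fixd (r * g) := by
        refine lt_of_le_of_ne (fun w hw => ?_) (fun e => ?_)
        · rw [hfix] at hw ⊢
          rw [gl_mulVec_mul, hw, hrw w hw]
        · exact hx ((hfix g x).1 (e ▸ (hfix _ x).2 (by rw [gl_mulVec_mul, ← hgx, hrx])))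
      have := Submodule.finrank_lt_finrank_of_lt hlt
      exact ih (r * g) ((isoOf f).mul_mem hr hg) (by omega)
    by_cases hd0 : f d d = 0
    · have hc : σ (-(f gx d)⁻¹) = -(-(f gx d)⁻¹) := by
        rw [map_neg, map_inv₀, show σ (f gx d) = - f gx d by linear_combination -hdd' + hd0,
          inv_neg]
      obtain ⟨t, ht, ζ, hζ, e⟩ := step (uTv hf d (-(f gx d)⁻¹)) (uTv_mem_isoOf hf hd0 hc)
        (by rw [uTv_mulVec hf hd0, neg_mul, inv_mul_cancel₀ hA, neg_one_smul, hdd]; abel)
        (fun w hw => uTv_mulVec_of_orth hf hd0 _ (horth w hw))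
      refine ⟨(uTv hf d (-(f gx d)⁻¹))⁻¹ * t, T.mul_mem (T.inv_mem ?_) ht, ζ, hζ, ?_⟩
      · exact Subgroup.subset_closure ⟨d, _, trivial, hd0, hc, rfl⟩
      · rw [mul_assoc, ← e, inv_mul_cancel_left]
    · have hσA : σ (f gx d) ≠ 0 := fun e => hA (by simpa using congrArg σ.symm e)
      set ζ₁ : Fˣ := Units.mk0 (- σ (f gx d) / f gx d) (div_ne_zero (neg_ne_zero.2 hσA) hA) with hζ₁
      have hζ₁n : (ζ₁ : F) * σ ζ₁ = 1 := by
        rw [hζ₁, Units.val_mk0, map_div₀, map_neg, hf.involutive]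
        field_simp
      obtain ⟨t, ht, ζ, hζ, e⟩ := step (qRefl hf d hd0 ζ₁) (qRefl_mem_isoOf hf d hd0 ζ₁ hζ₁n)
        (by
          rw [qRefl_mulVec, hζ₁, Units.val_mk0,
            show (- σ (f gx d) / f gx d - 1) / f d d * f gx d = -1 by
              field_simp
              linear_combination hdd', neg_one_smul, hdd]
          abel)
        (fun w hw => by rw [qRefl_mulVec, horth w hw, mul_zero, zero_smul, add_zero])
      obtain ⟨s, hs, hse⟩ := hcong d hd0 ζ₁⁻¹
      have hg' : g = qRefl hf d hd0 ζ₁⁻¹ * (t * qRefl hf v₀ hv₀' ζ) := by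
        rw [← e, map_inv, inv_mul_cancel_left]
      have hinv : ((ζ₁⁻¹ : Fˣ) : F) * σ ((ζ₁⁻¹ : Fˣ) : F) = 1 := by
        rw [Units.val_inv_eq_inv_val, map_inv₀, ← mul_inv, hζ₁n, inv_one]
      refine ⟨s * (qRefl hf v₀ hv₀' ζ₁⁻¹ * (s⁻¹ * t) * (qRefl hf v₀ hv₀' ζ₁⁻¹)⁻¹),
        T.mul_mem hs (hnorm _ hinv _ (T.mul_mem (T.inv_mem hs) ht)), ζ₁⁻¹ * ζ, ?_, ?_⟩
      · rw [Units.val_mul, map_mul]; linear_combination ((ζ : F) * σ (ζ : F)) * hinv + hζ
      · rw [hg', hse, map_mul]; group

end CfsgLib.ClassicalMax.Unit
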