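/-
The standard unitary form `hermForm n F q` as a unitary form.
-/
import Cfsg.Agent.Lib.ClassicalMax.UnitGen
import Cfsg.Prelude.Def_LieClassical
set_option autoImplicit false

namespace CfsgLib.ClassicalMax.Unit

open Matrix Cfsg.Geo

variable {F : Type*} [Field F] [Fintype F]

lemma two_le_of_card_eq_sq {q : ℕ} (hF : Fintype.card F = q ^ 2) : 2 ≤ q := by
  have h := Fintype.one_lt_card (α := F)
  rw [hF] at h
  rcases Nat.lt_or_ge q 2 with h' | h'
  · interval_cases q <;> simp at h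
  · exact h'

/-- The automorphism `x ↦ x ^ q` of a field of order `q ^ 2`. -/
lemma exists_powEquiv {q : ℕ} (hF : Fintype.card F = q ^ 2) :
    ∃ σ : F ≃+* F, (∀ a, σ a = a ^ q) ∧ (∀ a, σ (σ a) = a) ∧ σ ≠ RingEquiv.refl F := by
  obtain ⟨p, hpc⟩ := CharP.exists F
  haveI := hpc
  obtain ⟨k, hp, hk⟩ := FiniteField.card F p
  haveI := Fact.mk hp
  obtain ⟨j, -, hj⟩ := (Nat.dvd_prime_pow hp).1 (show q ∣ p ^ (k : ℕ) from hk ▸ hF ▸ dvd_pow_self q two_ne_zero)
  refine ⟨iterateFrobeniusEquiv F p j, fun a => ?_, fun a => ?_, fun h => ?_⟩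
  · rw [iterateFrobeniusEquiv_def, hj]
  · rw [iterateFrobeniusEquiv_def, iterateFrobeniusEquiv_def, ← hj, ← pow_mul, ← pow_two, ← hF,
      FiniteField.pow_card]
  · have hq := two_le_of_card_eq_sq hF
    have hall : ∀ a : Fˣ, a ^ (q - 1) = 1 := fun a => by
      have e : (a : F) ^ q = a := by
        have := congrArg (fun t : F ≃+* F => t (a : F)) h
        rw [iterateFrobeniusEquiv_def, ← hj, RingEquiv.refl_apply] at this
        exact this
      refine mul_right_cancel (b := a) ?_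
      rw [← pow_succ, one_mul, Nat.sub_add_cancel (by omega)]
      exact Units.ext (by rw [Units.val_pow_eq_pow_val, e])
    obtain ⟨g, hg⟩ := IsCyclic.exists_generator (α := Fˣ)
    have h1 := Nat.le_of_dvd (by omega) (orderOf_dvd_of_pow_eq_one (hall g))
    classical
    rw [orderOf_eq_card_of_forall_mem_zpowers hg, Nat.card_eq_fintype_card, Fintype.card_units, hF] at h1
    have : q * q ≤ q := by rw [← pow_two]; omega
    nlinarith

lemma isUnitaryForm_hermForm {q : ℕ} (hF : Fintype.card F = q ^ 2) (n : ℕ) {σ : F ≃+* F}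
    (hσ : ∀ a, σ a = a ^ q) (hne : σ ≠ RingEquiv.refl F) :
    IsUnitaryForm σ (Cfsg.hermForm n F q) where
  ne_refl := hne
  involutive a := by rw [hσ, hσ, ← pow_mul, ← pow_two, ← hF, FiniteField.pow_card]
  add_left x y v := by simp [Cfsg.hermForm, add_mul, Finset.sum_add_distrib]
  smul_left c x v := by simp [Cfsg.hermForm, Finset.mul_sum, mul_assoc]
  herm v w := by
    rw [Cfsg.hermForm, Cfsg.hermForm, map_sum]
    refine Finset.sum_congr rfl fun i _ => ?_
    rw [map_mul, map_pow, hσ, hσ, ← pow_mul, ← pow_two, ← hF, FiniteField.pow_card, mul_comm]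
  nondegenerate v hv := by
    obtain ⟨i, hi⟩ := Function.ne_iff.1 hv
    have hq : q ≠ 0 := by have := two_le_of_card_eq_sq hF; omega
    refine ⟨⟨Pi.single i 1, ?_⟩, ⟨Pi.single i 1, ?_⟩⟩
    · simpa [Cfsg.hermForm, Pi.single_apply, ite_pow, zero_pow hq, hq] using hi
    · simpa [Cfsg.hermForm, Pi.single_apply, ite_pow, zero_pow hq, hq] using hi

lemma GU_eq_isoOf (n q : ℕ) : Cfsg.GU n F q = isoOf (Cfsg.hermForm n F q) := rfl

end CfsgLib.ClassicalMax.Unit
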