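/-
Stabilisers of two subspaces are not maximal in the special linear group.
-/
import Cfsg.Agent.Lib.ClassicalMax.SympTools
set_option autoImplicit false

namespace CfsgLib.ClassicalMax

open Matrix Cfsg.Geo

variable {ι : Type} [Fintype ι] [DecidableEq ι] {F : Type*} [Field F]

/-- A transvection with centre `u` non-trivial on `x` and trivial on `W`. -/
lemma exists_tvGL_sep [DecidableEq F] {W : Submodule F (ι → F)} {u x : ι → F}
    (hx : x ∉ W ⊔ Submodule.span F {u}) :
    ∃ t ∈ specialLinear ι F, (∀ w ∈ W, (t : Matrix ι ι F) *ᵥ w = w) ∧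
      (t : Matrix ι ι F) *ᵥ x = x + u := by
  obtain ⟨φ, hφ, hφm⟩ := Submodule.exists_dual_map_eq_bot_of_notMem hx inferInstance
  set ψ : ι → F := fun j => (φ x)⁻¹ * φ (Pi.single j 1) with hψ
  have hψd : ∀ z, ψ ⬝ᵥ z = (φ x)⁻¹ * φ z := by
    intro z
    conv_rhs => rw [pi_eq_sum_univ z, map_sum, Finset.mul_sum]
    refine Finset.sum_congr rfl fun j _ => ?_
    have e : (fun k => if j = k then (1 : F) else 0) = Pi.single j 1 := by
      funext k; simp [Pi.single_apply, eq_comm]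
    rw [map_smul, smul_eq_mul, e]
    simp only [hψ]
    ring
  have hz : ∀ z ∈ W ⊔ Submodule.span F {u}, ψ ⬝ᵥ z = 0 := fun z hz' => by
    rw [hψd, show φ z = 0 from (Submodule.mem_bot F).1 (hφm ▸ Submodule.mem_map_of_mem hz'), mul_zero]
  have hu : ψ ⬝ᵥ u = 0 := hz u (Submodule.mem_sup_right (Submodule.mem_span_singleton_self u))
  refine ⟨tvGL u ψ, tvGL_mem_sl _ _, fun w hw => ?_, ?_⟩
  · rw [tvGL_mulVec hu, hz w (Submodule.mem_sup_left hw), zero_smul, add_zero]
  · rw [tvGL_mulVec hu, hψd, inv_mul_cancel₀ hφ, one_smul]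

/-- The pair stabiliser is not maximal when the second space can be moved without moving the first. -/
theorem pair_stabilizer_not_maximal {W U : Submodule F (ι → F)}
    (hW : ∃ w ∈ W, ∃ u, w ∉ Submodule.span F {u} ∧ u ∉ W)
    (hWU : ∃ x ∈ U, ∃ u, x ∉ W ⊔ Submodule.span F {u} ∧ u ∉ U) :
    ∃ K : Subgroup (GL ι F),
      subspaceStabilizer W ⊓ subspaceStabilizer U ⊓ specialLinear ι F < K ∧
        K < specialLinear ι F := by
  classical
  refine ⟨subspaceStabilizer W ⊓ specialLinear ι F, ?_, ?_⟩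
  · refine lt_of_le_of_ne (fun g hg => ⟨hg.1.1, hg.2⟩) fun e => ?_
    obtain ⟨x, hx, u, hxu, hu⟩ := hWU
    obtain ⟨t, ht, htW, htx⟩ := exists_tvGL_sep hxu
    have hmem : t ∈ subspaceStabilizer W ⊓ subspaceStabilizer U ⊓ specialLinear ι F :=
      e ▸ ⟨mem_subspaceStabilizer_of_forall fun w hw => by rw [htW w hw]; exact hw, ht⟩
    have h1 := (mem_subspaceStabilizer.1 hmem.1.2 x).1 hx
    rw [htx, Submodule.add_mem_iff_right _ hx] at h1
    exact hu h1
  · refine lt_of_le_of_ne inf_le_right fun e => ?_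
    obtain ⟨w, hw, u, hwu, hu⟩ := hW
    obtain ⟨t, ht, -, htw⟩ := exists_tvGL_sep (W := ⊥) (u := u) (x := w) (by rwa [bot_sup_eq])
    have hmem : t ∈ subspaceStabilizer W ⊓ specialLinear ι F := e.symm ▸ ht
    have h1 := (mem_subspaceStabilizer.1 hmem.1 w).1 hw
    rw [htw, Submodule.add_mem_iff_right _ hw] at h1
    exact hu h1

lemma notMem_sup_span {W U : Submodule F (ι → F)} {x u : ι → F} (hWU : W ≤ U) (hx : x ∈ U)
    (hxW : x ∉ W) (hu : u ∉ U) : x ∉ W ⊔ Submodule.span F {u} := by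
  intro h
  obtain ⟨w, hw, z, hz, rfl⟩ := Submodule.mem_sup.1 h
  obtain ⟨c, rfl⟩ := Submodule.mem_span_singleton.1 hz
  rcases eq_or_ne c 0 with rfl | hc
  · simp [hw] at hxW
  · exact hu ((Submodule.smul_mem_iff _ hc).1 ((Submodule.add_mem_iff_right _ (hWU hw)).1 hx))

lemma notMem_span_of_notMem {W : Submodule F (ι → F)} {w u : ι → F} (hw : w ∈ W) (hw0 : w ≠ 0)
    (hu : u ∉ W) : w ∉ Submodule.span F {u} := by
  intro h
  obtain ⟨c, rfl⟩ := Submodule.mem_span_singleton.1 h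
  have hc : c ≠ 0 := fun e => hw0 (by rw [e, zero_smul])
  exact hu ((Submodule.smul_mem_iff _ hc).1 hw)

end CfsgLib.ClassicalMax
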