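/-
Maximality of stabilisers of totally singular and of non-degenerate subspaces in symplectic groups.
-/
import Cfsg.Agent.Lib.ClassicalMax.SympTools
set_option autoImplicit false

namespace CfsgLib.ClassicalMax

open Matrix Cfsg.Geo

variable {ι : Type} [Fintype ι] [DecidableEq ι] {F : Type*} [Field F]
  {f : (ι → F) → (ι → F) → F}

theorem symp_singular_stabilizer_maximal (hf : IsSymplecticForm f) (W : Submodule F (ι → F))
    (hW0 : W ≠ ⊥) (hW : IsTotallySingularFor f W) :
    IsMaximalIn (isoOf f) (subspaceStabilizer W ⊓ isoOf f) := by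
  classical
  refine isMaximalIn_of inf_le_right ?_ ?_
  · obtain ⟨w, hw, hw0⟩ := Submodule.exists_mem_ne_zero_of_ne_bot hW0
    obtain ⟨y, hy⟩ := (hf.nondegenerate w hw0).2
    refine ⟨sTv f y 1, sTv_mem_isoOf hf y 1, fun h => ?_⟩
    have h1 := (mem_subspaceStabilizer.1 h.1 w).1 hw
    rw [sTv_mulVec hf, one_mul, Submodule.add_mem_iff_right _ hw,
      Submodule.smul_mem_iff _ hy] at h1
    exact hy (hW w hw y h1)
  intro M hHM hMK g hgM hgH
  set P := orthSub hf.bilinear W with hP
  have hWP : ∀ w ∈ W, w ∈ P := fun w hw x hx => hW x hx w hw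
  have hPS : ∀ v ∈ P, v ∈ tvSet f M := by
    refine fun v hv c => hHM ⟨mem_subspaceStabilizer_of_forall fun x hx => ?_, sTv_mem_isoOf hf v c⟩
    rw [sTv_mulVec_of_orth hf c (hv x hx)]
    exact hx
  have hgiso : g ∈ isoOf f := hMK hgM
  -- a vector of the set outside the orthogonal subspace
  obtain ⟨u₀, hu₀, hu₀P⟩ : ∃ u ∈ tvSet f M, u ∉ P := by
    by_contra hcon
    push Not at hcon
    have hgP : ∀ v ∈ P, (g : Matrix ι ι F) *ᵥ v ∈ P := fun v hv =>
      hcon _ (tvSet_mulVec hf hgM hgiso (hPS v hv))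
    refine hgH ⟨mem_subspaceStabilizer_of_forall fun w hw => ?_, hgiso⟩
    by_contra hgw
    obtain ⟨y, hy, hy'⟩ := exists_orth_ne_zero hf.bilinear hf.nondegenerate hgw
    obtain ⟨y', hy'', rfl⟩ := exists_preimage_mem hgP hy
    exact hy' ((hgiso w y').trans (hy'' w hw))
  -- translates by the orthogonal subspace
  have hadd : ∀ u ∈ tvSet f M, u ∉ P → ∀ v ∈ P, u + v ∈ tvSet f M := by
    intro u hu huP v hv
    by_cases h : f u v = 0
    · obtain ⟨w, hw, hwu⟩ : ∃ w ∈ W, f w u ≠ 0 := by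
        by_contra hc; push Not at hc; exact huP hc
      have h1 : u + w ∈ tvSet f M := by
        simpa using tvSet_add_smul hf hu (hPS w (hWP w hw)) (isoOf_comm_zero hf hwu) 1
      have h2 : f (u + w) (v - w) ≠ 0 := by
        rw [hf.bilinear.add_left, form_sub_right hf.bilinear, form_sub_right hf.bilinear, h,
          hv w hw, hf.alternating, sub_self, add_zero, zero_sub, neg_ne_zero]
        exact isoOf_comm_zero hf hwu
      have h3 := tvSet_add_smul hf h1 (hPS _ (sub_mem hv (hWP w hw))) h2 1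
      rwa [one_smul, show u + w + (v - w) = u + v by abel] at h3
    · simpa using tvSet_add_smul hf hu (hPS v hv) h 1
  refine isoOf_le_of_tvSet hf fun u' => ?_
  by_cases hu'P : u' ∈ P
  · exact hPS u' hu'P
  obtain ⟨a₀, ha₀, ha₀u⟩ : ∃ w ∈ W, f w u₀ ≠ 0 := by
    by_contra hc; push Not at hc; exact hu₀P hc
  by_cases hk : ∃ a ∈ W, f a u₀ = f a u' ∧ f a u₀ ≠ 0
  · obtain ⟨a', ha', he, hne⟩ := hk
    -- scale so that the value is `-1`
    obtain ⟨a, ha, hau, hau'⟩ : ∃ a ∈ W, f a u₀ = -1 ∧ f a u' = -1 := by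
      refine ⟨(-(f a' u₀)⁻¹) • a', W.smul_mem _ ha', ?_, ?_⟩ <;>
        rw [hf.bilinear.smul_left]
      · field_simp
      · rw [← he]; field_simp
    set b := u' - u₀ with hb
    have hab : f a b = 0 := by rw [hb, form_sub_right hf.bilinear, hau, hau', sub_self]
    set E := sTv f (a + b) 1 * sTv f a (-1) * sTv f b (-1) with hE
    have hEv : ∀ x, (E : Matrix ι ι F) *ᵥ x = x + f x a • b + f x b • a := by
      intro x
      rw [hE, gl_mulVec_mul, gl_mulVec_mul]
      simp only [sTv_mulVec hf, hf.bilinear.add_left, hf.bilinear.smul_left, hf.bilinear.add_right,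
        hf.alternating, hab, (form_symplectic_eq_zero_comm hf).1 hab]
      module
    have hEM : E ∈ M := by
      refine hHM ⟨mem_subspaceStabilizer_of_forall fun x hx => ?_, ?_⟩
      · rw [hEv, hW x hx a ha, zero_smul, add_zero]
        exact W.add_mem hx (W.smul_mem _ ha)
      · exact mul_mem (mul_mem (sTv_mem_isoOf hf _ _) (sTv_mem_isoOf hf _ _)) (sTv_mem_isoOf hf _ _)
    have h1 := tvSet_mulVec hf hEM (hMK hEM) hu₀
    rw [hEv, hf.skew u₀ a, hau, neg_neg, one_smul, hb, add_sub_cancel] at h1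
    have h2 : u' + f u₀ (u' - u₀) • a ∉ P :=
      fun h => hu'P ((Submodule.add_mem_iff_left _ (P.smul_mem _ (hWP a ha))).1 h)
    have h3 := hadd _ h1 h2 _ (P.neg_mem (P.smul_mem (f u₀ (u' - u₀)) (hWP a ha)))
    rwa [add_neg_cancel_right] at h3
  · push Not at hk
    set l := f a₀ u' / f a₀ u₀ with hl
    have hdiff : u' - l • u₀ ∈ P := by
      intro w hw
      rw [form_sub_right hf.bilinear, hf.bilinear.smul_right, sub_eq_zero]
      by_contra hne
      -- move `a₀` by a multiple of the difference to reach a forbidden vector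
      set k := w - (f w u₀ / f a₀ u₀) • a₀ with hk'
      have hku : f k u₀ = 0 := by
        rw [hk', form_sub_left hf.bilinear, hf.bilinear.smul_left]; field_simp; ring
      have hku' : f k u' ≠ 0 := by
        rw [hk', form_sub_left hf.bilinear, hf.bilinear.smul_left]
        intro e
        refine hne ?_
        rw [hl]
        linear_combination e
      refine ha₀u ?_
      have := hk (a₀ + ((f a₀ u₀ - f a₀ u') / f k u') • k)
        (W.add_mem ha₀ (W.smul_mem _ (W.sub_mem hw (W.smul_mem _ ha₀))))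
        (by rw [hf.bilinear.add_left, hf.bilinear.add_left, hf.bilinear.smul_left,
              hf.bilinear.smul_left, hku, mul_zero, add_zero, div_mul_cancel₀ _ hku']; ring)
      rwa [hf.bilinear.add_left, hf.bilinear.smul_left, hku, mul_zero, add_zero] at this
    have hl0 : l ≠ 0 := fun e => hu'P (by simpa [e] using hdiff)
    have h1 : l • u₀ ∉ P := fun h => hu₀P ((Submodule.smul_mem_iff _ hl0).1 h)
    simpa using hadd _ (tvSet_smul hf l hu₀) h1 _ hdiff

lemma exists_split_of_nondegenerateOn (hf : IsBilinearForm f) {W : Submodule F (ι → F)}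
    (hW : IsNondegenerateOn f W) (x : ι → F) : ∃ a ∈ W, x - a ∈ orthSub hf W := by
  let L : W →ₗ[F] (W →ₗ[F] F) :=
    { toFun := fun w => ((bilinOf hf).flip (w : ι → F)).comp W.subtype
      map_add' := fun a b => by ext z; simp
      map_smul' := fun c a => by ext z; simp }
  have hL : Function.Injective L := by
    rw [injective_iff_map_eq_zero]
    intro w hw
    by_contra h0
    obtain ⟨y, hy, hy'⟩ := (hW w w.2 (fun e => h0 (Subtype.ext e))).1
    exact hy' (by simpa [L] using congrArg (fun φ : W →ₗ[F] F => φ ⟨y, hy⟩) hw)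
  obtain ⟨w, hw⟩ := (LinearMap.injective_iff_surjective_of_finrank_eq_finrank
    Subspace.dual_finrank_eq.symm).1 hL (((bilinOf hf).flip x).comp W.subtype)
  refine ⟨w, w.2, fun z hz => ?_⟩
  rw [form_sub_right hf, sub_eq_zero]
  exact (by simpa [L] using (congrArg (fun φ : W →ₗ[F] F => φ ⟨z, hz⟩) hw).symm)

lemma eq_zero_of_mem_orth_nondegenerateOn (hf : IsBilinearForm f) {W : Submodule F (ι → F)}
    (hW : IsNondegenerateOn f W) {a : ι → F} (ha : a ∈ W) (ha' : a ∈ orthSub hf W) : a = 0 := by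
  by_contra h
  obtain ⟨x, hx, hx'⟩ := (hW a ha h).1
  exact hx' (ha' x hx)

lemma finrank_add_orthSub (hf : IsBilinearForm f) {W : Submodule F (ι → F)}
    (hW : IsNondegenerateOn f W) :
    Module.finrank F W + Module.finrank F (orthSub hf W) = Fintype.card ι := by
  rw [← Submodule.finrank_sup_add_finrank_inf_eq]
  have h1 : W ⊔ orthSub hf W = ⊤ := eq_top_iff.2 fun x _ => by
    obtain ⟨a, ha, ha'⟩ := exists_split_of_nondegenerateOn hf hW x
    exact Submodule.mem_sup.2 ⟨a, ha, _, ha', add_sub_cancel _ _⟩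
  have h2 : W ⊓ orthSub hf W = ⊥ := eq_bot_iff.2 fun x hx =>
    (Submodule.mem_bot F).2 (eq_zero_of_mem_orth_nondegenerateOn hf hW hx.1 hx.2)
  rw [h1, h2, finrank_top, finrank_bot, add_zero, Module.finrank_fintype_fun_eq_card]

/-- In a non-degenerate subspace one nonzero summand can be replaced by any other. -/
lemma tvSet_replace [DecidableEq F] (hf : IsSymplecticForm f) {M : Subgroup (GL ι F)} {W : Submodule F (ι → F)}
    (hW : IsNondegenerateOn f W) (hWS : ∀ v ∈ W, v ∈ tvSet f M) {b a a' : ι → F}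
    (hb : b ∈ orthSub hf.bilinear W) (ha : a ∈ W) (ha0 : a ≠ 0) (ha' : a' ∈ W) (ha'0 : a' ≠ 0)
    (h : a + b ∈ tvSet f M) : a' + b ∈ tvSet f M := by
  have step : ∀ a a' : ι → F, a ∈ W → a' ∈ W → f a a' ≠ 0 → a + b ∈ tvSet f M →
      a' + b ∈ tvSet f M := by
    intro a a' ha ha' hne h
    have hp : f (a + b) (a' - a) ≠ 0 := by
      rw [hf.bilinear.add_left, form_sub_right hf.bilinear, form_sub_right hf.bilinear,
        hf.alternating, sub_zero, hf.skew b a', hf.skew b a, hb a' ha', hb a ha]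
      simpa using hne
    have := tvSet_add_smul hf h (hWS _ (W.sub_mem ha' ha)) hp 1
    rwa [one_smul, show a + b + (a' - a) = a' + b by abel] at this
  obtain ⟨z, hz, hz1, hz2⟩ := exists_both_ne_zero (bilinOf hf.bilinear a) (bilinOf hf.bilinear a') W
    (hW a ha ha0).2 (hW a' ha' ha'0).2
  exact step z a' hz ha' (isoOf_comm_zero hf hz2) (step a z ha hz hz1 h)

theorem symp_nondegenerate_stabilizer_maximal (hf : IsSymplecticForm f) (W : Submodule F (ι → F))
    (hW0 : W ≠ ⊥) (hW : IsNondegenerateOn f W) (hdim : 2 * Module.finrank F W < Fintype.card ι) :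
    IsMaximalIn (isoOf f) (subspaceStabilizer W ⊓ isoOf f) := by
  classical
  set P := orthSub hf.bilinear W with hP
  have hsum := finrank_add_orthSub hf.bilinear hW
  have hlt : Module.finrank F W < Module.finrank F P := by rw [← hP] at hsum; omega
  have hP' : IsNondegenerateOn f P := by
    intro b hb hb0
    obtain ⟨x, hx⟩ := (hf.nondegenerate b hb0).1
    obtain ⟨a, ha, hc⟩ := exists_split_of_nondegenerateOn hf.bilinear hW x
    have hne : f (x - a) b ≠ 0 := by rwa [form_sub_left hf.bilinear, hb a ha, sub_zero]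
    exact ⟨⟨_, hc, hne⟩, ⟨_, hc, isoOf_comm_zero hf hne⟩⟩
  have hP0 : P ≠ ⊥ := fun e => by rw [e, finrank_bot] at hlt; exact absurd hlt (Nat.not_lt_zero _)
  refine isMaximalIn_of inf_le_right ?_ ?_
  · obtain ⟨a, ha, ha0⟩ := Submodule.exists_mem_ne_zero_of_ne_bot hW0
    obtain ⟨b, hb, hb0⟩ := Submodule.exists_mem_ne_zero_of_ne_bot hP0
    obtain ⟨z, hz, hza⟩ := (hW a ha ha0).1
    have hzab : f z (a + b) ≠ 0 := by rwa [hf.bilinear.add_right, hb z hz, add_zero]
    refine ⟨sTv f (a + b) 1, sTv_mem_isoOf hf _ _, fun h => ?_⟩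
    have h1 := (mem_subspaceStabilizer.1 h.1 z).1 hz
    rw [sTv_mulVec hf, one_mul, Submodule.add_mem_iff_right _ hz,
      Submodule.smul_mem_iff _ hzab, Submodule.add_mem_iff_right _ ha] at h1
    exact hb0 (eq_zero_of_mem_orth_nondegenerateOn hf.bilinear hW h1 hb)
  intro M hHM hMK g hgM hgH
  have hgiso : g ∈ isoOf f := hMK hgM
  have hWS : ∀ v ∈ W, v ∈ tvSet f M := by
    refine fun v hv c => hHM ⟨mem_subspaceStabilizer_of_forall fun x hx => ?_, sTv_mem_isoOf hf v c⟩
    rw [sTv_mulVec hf]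
    exact W.add_mem hx (W.smul_mem _ hv)
  have hPS : ∀ v ∈ P, v ∈ tvSet f M := by
    refine fun v hv c => hHM ⟨mem_subspaceStabilizer_of_forall fun x hx => ?_, sTv_mem_isoOf hf v c⟩
    rw [sTv_mulVec_of_orth hf c (hv x hx)]
    exact hx
  have hWP : ∀ a ∈ W, a ∈ orthSub hf.bilinear P := fun a ha b hb =>
    (form_symplectic_eq_zero_comm hf).1 (hb a ha)
  obtain ⟨a₀, b₀, ha₀, hb₀, ha₀0, hb₀0, h₀⟩ : ∃ a b, a ∈ W ∧ b ∈ P ∧ a ≠ 0 ∧ b ≠ 0 ∧
      a + b ∈ tvSet f M := by
    by_contra hcon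
    push Not at hcon
    have hcov : ∀ y ∈ P, (g : Matrix ι ι F) *ᵥ y ∈ W ∨ (g : Matrix ι ι F) *ᵥ y ∈ P := by
      intro y hy
      obtain ⟨a, ha, hb⟩ := exists_split_of_nondegenerateOn hf.bilinear hW ((g : Matrix ι ι F) *ᵥ y)
      by_cases ha0 : a = 0
      · exact Or.inr (by simpa [ha0] using hb)
      by_cases hb0 : (g : Matrix ι ι F) *ᵥ y - a = 0
      · exact Or.inl (by rw [sub_eq_zero.1 hb0]; exact ha)
      refine absurd ?_ (hcon a _ ha hb ha0 hb0)
      rw [add_sub_cancel]
      exact tvSet_mulVec hf hgM hgiso (hPS y hy)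
    have hgP : ∀ y ∈ P, (g : Matrix ι ι F) *ᵥ y ∈ P := by
      by_contra hc
      push Not at hc
      obtain ⟨y₁, hy₁, hy₁'⟩ := hc
      have hgy₁ : (g : Matrix ι ι F) *ᵥ y₁ ∈ W := (hcov y₁ hy₁).resolve_right hy₁'
      have hall : P.map (Matrix.toLin' (g : Matrix ι ι F)) ≤ W := by
        rintro _ ⟨y, hy, rfl⟩
        rw [Matrix.toLin'_apply]
        rcases hcov y hy with h | h
        · exact h
        · rcases hcov (y + y₁) (P.add_mem hy hy₁) with h' | h' <;> rw [mulVec_add] at h'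
          · exact (Submodule.add_mem_iff_left _ hgy₁).1 h'
          · exact absurd ((Submodule.add_mem_iff_right _ h).1 h') hy₁'
      have := Submodule.finrank_mono hall
      rw [← (Submodule.equivMapOfInjective _ (by
        intro x y e; exact gl_mulVec_injective g (by simpa using e)) P).finrank_eq] at this
      omega
    refine hgH ⟨mem_subspaceStabilizer_of_forall fun w hw => ?_, hgiso⟩
    obtain ⟨a, ha, hb⟩ := exists_split_of_nondegenerateOn hf.bilinear hW ((g : Matrix ι ι F) *ᵥ w)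
    suffices (g : Matrix ι ι F) *ᵥ w - a = 0 by rw [sub_eq_zero.1 this]; exact ha
    refine eq_zero_of_mem_orth_nondegenerateOn hf.bilinear hP' hb fun y hy => ?_
    obtain ⟨y', hy', rfl⟩ := exists_preimage_mem hgP hy
    rw [form_sub_right hf.bilinear, mem_isoOf.1 hgiso, hWP w hw y' hy', hWP a ha _ hy, sub_zero]
  refine isoOf_le_of_tvSet hf fun x => ?_
  obtain ⟨a, ha, hb⟩ := exists_split_of_nondegenerateOn hf.bilinear hW x
  by_cases ha0 : a = 0
  · exact hPS x (by simpa [ha0] using hb)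
  by_cases hb0 : x - a = 0
  · rw [sub_eq_zero.1 hb0]; exact hWS a ha
  have h1 : a + b₀ ∈ tvSet f M := tvSet_replace hf hW hWS hb₀ ha₀ ha₀0 ha ha0 h₀
  have h2 : (x - a) + a ∈ tvSet f M :=
    tvSet_replace hf hP' hPS (hWP a ha) hb₀ hb₀0 hb hb0 (by rwa [add_comm])
  rwa [sub_add_cancel] at h2

end CfsgLib.ClassicalMax
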