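/-
Maximality of stabilisers of non-degenerate decompositions in symplectic groups.
-/
import Cfsg.Agent.Lib.ClassicalMax.SympParabolic
set_option autoImplicit false

namespace CfsgLib.ClassicalMax

open Matrix Cfsg.Geo

variable {ι : Type} [Fintype ι] [DecidableEq ι] {F : Type*} [Field F]
  {f : (ι → F) → (ι → F) → F}

/-- Two finite-dimensional spaces with non-degenerate alternating forms of equal dimension are isometric. -/
lemma exists_alt_isometry (hf : IsSymplecticForm f) :
    ∀ (d : ℕ) (W W' : Submodule F (ι → F)), IsNondegenerateOn f W → IsNondegenerateOn f W' →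
      Module.finrank F W = d → Module.finrank F W' = d →
      ∃ φ : W →ₗ[F] W', ∀ a b : W, f (φ a : ι → F) (φ b : ι → F) = f (a : ι → F) (b : ι → F) := by
  intro d
  induction d using Nat.strong_induction_on with
  | _ d ih =>
    intro W W' hW hW' hd hd'
    rcases Nat.eq_zero_or_pos d with rfl | hpos
    · refine ⟨0, fun a b => ?_⟩
      have ha : (a : ι → F) = 0 := by
        have := Submodule.finrank_eq_zero.1 hd
        exact (Submodule.mem_bot F).1 (this ▸ a.2)
      simp [ha, form_zero_left hf.bilinear]
    have pick : ∀ W : Submodule F (ι → F), IsNondegenerateOn f W → Module.finrank F W = d →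
        ∃ e ∈ W, ∃ g ∈ W, f e g = 1 := by
      intro W hW hd
      obtain ⟨e, he, he0⟩ := Submodule.exists_mem_ne_zero_of_ne_bot (p := W) fun h => by
        rw [h, finrank_bot] at hd; omega
      obtain ⟨g, hg, hg'⟩ := (hW e he he0).2
      exact ⟨e, he, (f e g)⁻¹ • g, W.smul_mem _ hg,
        by rw [hf.bilinear.smul_right, inv_mul_cancel₀ hg']⟩
    obtain ⟨e, he, g, hg, heg⟩ := pick W hW hd
    obtain ⟨e', he', g', hg', heg'⟩ := pick W' hW' hd'
    -- splitting off the hyperbolic pair
    let pair : (ι → F) → (ι → F) → Submodule F (ι → F) → Submodule F (ι → F) := fun e g W =>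
      W ⊓ LinearMap.ker ((bilinOf hf.bilinear).flip g) ⊓ LinearMap.ker ((bilinOf hf.bilinear).flip e)
    have hsplit : ∀ e g : ι → F, f e g = 1 → ∀ W : Submodule F (ι → F), e ∈ W → g ∈ W →
        IsNondegenerateOn f W → Module.finrank F W = d →
        (∀ x ∈ W, x - f x g • e + f x e • g ∈ pair e g W) ∧ IsNondegenerateOn f (pair e g W) ∧
        Module.finrank F (pair e g W) + 2 = d := by
      intro e g heg W he hg hW hd
      have hge : f g e = -1 := by rw [hf.skew, heg]
      have hproj : ∀ x ∈ W, x - f x g • e + f x e • g ∈ pair e g W := by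
        intro x hx
        refine ⟨⟨W.add_mem (W.sub_mem hx (W.smul_mem _ he)) (W.smul_mem _ hg), ?_⟩, ?_⟩ <;>
          simp [hf.alternating, heg, hge]
      refine ⟨hproj, fun x hx hx0 => ?_, ?_⟩
      · obtain ⟨⟨hxW, hxg⟩, hxe⟩ := hx
        simp only [SetLike.mem_coe, LinearMap.mem_ker, LinearMap.flip_apply, bilinOf_apply] at hxg hxe
        obtain ⟨y, hy, hy'⟩ := (hW x hxW hx0).1
        have hexg : f e x = 0 := by rw [hf.skew, hxe, neg_zero]
        have hgxg : f g x = 0 := by rw [hf.skew, hxg, neg_zero]
        have hne : f (y - f y g • e + f y e • g) x ≠ 0 := by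
          rw [hf.bilinear.add_left, form_sub_left hf.bilinear, hf.bilinear.smul_left,
            hf.bilinear.smul_left, hexg, hgxg]
          simpa using hy'
        exact ⟨⟨_, hproj y hy, hne⟩, ⟨_, hproj y hy, isoOf_comm_zero hf hne⟩⟩
      · set P := pair e g W with hP
        have h1 : P ⊔ Submodule.span F {e, g} = W := by
          refine le_antisymm (sup_le (inf_le_left.trans inf_le_left)
            (Submodule.span_le.2 ?_)) fun x hx => Submodule.mem_sup.2
              ⟨_, hproj x hx, f x g • e + (- f x e) • g, ?_, by module⟩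
          · rintro z (rfl | rfl) <;> assumption
          · exact add_mem (Submodule.smul_mem _ _ (Submodule.subset_span (by simp)))
              (Submodule.smul_mem _ _ (Submodule.subset_span (by simp)))
        have h2 : P ⊓ Submodule.span F {e, g} = ⊥ := by
          refine eq_bot_iff.2 fun z hz => ?_
          obtain ⟨a, b, rfl⟩ := Submodule.mem_span_pair.1 hz.2
          obtain ⟨⟨-, hzg⟩, hze⟩ := hz.1
          simp [hf.alternating, heg, hge] at hzg hze
          simp [hzg, hze]
        have hli : LinearIndependent F ![e, g] := by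
          refine LinearIndependent.pair_iff.2 fun a b hab => ?_
          have ha := congrArg (fun z => f z g) hab
          have hb := congrArg (fun z => f z e) hab
          simp [hf.bilinear.add_left, hf.bilinear.smul_left, hf.alternating, heg, hge,
            form_zero_left hf.bilinear] at ha hb
          exact ⟨ha, hb⟩
        have h3 : Module.finrank F (Submodule.span F ({e, g} : Set (ι → F))) = 2 := by
          have := finrank_span_eq_card hli
          rwa [Matrix.range_cons_cons_empty, Fintype.card_fin] at this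
        have := Submodule.finrank_sup_add_finrank_inf_eq P (Submodule.span F {e, g})
        rw [h1, h2, finrank_bot, h3, hd] at this
        omega
    obtain ⟨hp, hnd, hdim⟩ := hsplit e g heg W he hg hW hd
    obtain ⟨-, hnd', hdim'⟩ := hsplit e' g' heg' W' he' hg' hW' hd'
    obtain ⟨ψ, hψ⟩ := ih (Module.finrank F (pair e g W)) (by omega) _ _ hnd hnd' rfl (by omega)
    let π : W →ₗ[F] pair e g W :=
      { toFun := fun x => ⟨(x : ι → F) - f x g • e + f x e • g, hp x x.2⟩
        map_add' := fun x y => Subtype.ext (by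
          simp [hf.bilinear.add_left]; module)
        map_smul' := fun c x => Subtype.ext (by
          simp [hf.bilinear.smul_left]; module) }
    let φ : W →ₗ[F] W' :=
      { toFun := fun x => ⟨f x g • e' - f x e • g' + (ψ (π x) : ι → F),
          W'.add_mem (W'.sub_mem (W'.smul_mem _ he') (W'.smul_mem _ hg'))
            (ψ (π x)).2.1.1⟩
        map_add' := fun x y => Subtype.ext (by
          simp [hf.bilinear.add_left]; module)
        map_smul' := fun c x => Subtype.ext (by
          simp [hf.bilinear.smul_left]; module) }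
    refine ⟨φ, fun x y => ?_⟩
    have hk : ∀ z : pair e' g' W', f (z : ι → F) g' = 0 ∧ f (z : ι → F) e' = 0 ∧
        f g' (z : ι → F) = 0 ∧ f e' (z : ι → F) = 0 := fun z =>
      ⟨z.2.1.2, z.2.2, (form_symplectic_eq_zero_comm hf).1 z.2.1.2,
        (form_symplectic_eq_zero_comm hf).1 z.2.2⟩
    obtain ⟨hx1, hx2, -, -⟩ := hk (ψ (π x))
    obtain ⟨-, -, hy3, hy4⟩ := hk (ψ (π y))
    have hge' : f g' e' = -1 := by rw [hf.skew, heg']
    have hge : f g e = -1 := by rw [hf.skew, heg]
    have e1 := hψ (π x) (π y)
    simp [φ, π, form_sub_left hf.bilinear, form_sub_right hf.bilinear, hf.bilinear.add_left,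
      hf.bilinear.add_right, hf.bilinear.smul_left, hf.bilinear.smul_right, hf.alternating,
      heg, hge, heg', hge', hf.skew e (y : ι → F), hf.skew g (y : ι → F)] at e1 hx1 hx2 hy3 hy4 ⊢
    rw [e1, hx1, hx2, hy3, hy4]
    ring

variable {t : ℕ} {k : ℕ} {D : Fin t → Submodule F (ι → F)}

lemma exists_components (hD : IsMDecomposition k D) (x : ι → F) :
    ∃ a : Fin t → (ι → F), (∀ i, a i ∈ D i) ∧ ∑ i, a i = x := by
  classical
  have hx : x ∈ iSup D := hD.iSup_eq_top ▸ Submodule.mem_top
  obtain ⟨μ, hμ, hμx⟩ := (Submodule.mem_iSup_iff_exists_finsupp D x).1 hx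
  exact ⟨μ, hμ, by rw [← hμx, Finsupp.sum_fintype _ _ fun _ => rfl]⟩

/-- The pairing of a sum of components with a vector of one component. -/
lemma form_sum_component (hf : IsBilinearForm f) (hD : IsNondegenerateMDecomposition f k D)
    {a : Fin t → (ι → F)} (ha : ∀ i, a i ∈ D i) {j : Fin t} {z : ι → F} (hz : z ∈ D j) :
    f z (∑ i, a i) = f z (a j) := by
  have : f z (∑ i, a i) = ∑ i, f z (a i) := map_sum (bilinOf hf z) a Finset.univ
  rw [this, Finset.sum_eq_single j (fun i _ hij => hD.orthogonal j i hij.symm z hz (a i) (ha i))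
    (fun h => absurd (Finset.mem_univ j) h)]

lemma components_unique (hf : IsBilinearForm f) (hD : IsNondegenerateMDecomposition f k D)
    {a b : Fin t → (ι → F)} (ha : ∀ i, a i ∈ D i) (hb : ∀ i, b i ∈ D i)
    (h : ∑ i, a i = ∑ i, b i) : a = b := by
  funext j
  rw [← sub_eq_zero]
  refine eq_zero_of_mem_orth_nondegenerateOn hf (hD.nondegenerate j)
    ((D j).sub_mem (ha j) (hb j)) fun z hz => ?_
  rw [form_sub_right hf, ← form_sum_component hf hD ha hz, ← form_sum_component hf hD hb hz, h,
    sub_self]

lemma form_sum_sum (hf : IsBilinearForm f) (hD : IsNondegenerateMDecomposition f k D)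
    {a b : Fin t → (ι → F)} (ha : ∀ i, a i ∈ D i) (hb : ∀ i, b i ∈ D i) :
    f (∑ i, a i) (∑ i, b i) = ∑ i, f (a i) (b i) := by
  rw [← bilinOf_apply hf, LinearMap.map_sum₂]
  exact Finset.sum_congr rfl fun i _ => form_sum_component hf hD hb (ha i)

/-- A permutation of the components by isometries gives a member of the stabiliser. -/
lemma exists_swap (hf : IsSymplecticForm f) (hD : IsNondegenerateMDecomposition f k D)
    (σ : Equiv.Perm (Fin t)) :
    ∃ g ∈ decompositionStabilizer D ⊓ isoOf f,
      ∀ i, ∀ v ∈ D i, (g : Matrix ι ι F) *ᵥ v ∈ D (σ i) := by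
  classical
  choose φ hφ using fun i => exists_alt_isometry hf k (D i) (D (σ i)) (hD.nondegenerate i)
    (hD.nondegenerate (σ i)) (hD.decomp.finrank_eq i) (hD.decomp.finrank_eq (σ i))
  choose c hc hcs using exists_components hD.decomp
  have cadd : ∀ x y i, c (x + y) i = c x i + c y i := fun x y => congrFun
    (components_unique hf.bilinear hD (hc (x + y)) (fun i => (D i).add_mem (hc x i) (hc y i))
      (by rw [Finset.sum_add_distrib, hcs, hcs, hcs]))
  have csmul : ∀ (r : F) x i, c (r • x) i = r • c x i := fun r x => congrFun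
    (components_unique hf.bilinear hD (hc (r • x)) (fun i => (D i).smul_mem r (hc x i))
      (by rw [← Finset.smul_sum, hcs, hcs]))
  have cD : ∀ i, ∀ v ∈ D i, ∀ j, c v j = if j = i then v else 0 := fun i v hv => congrFun
    (components_unique hf.bilinear hD (hc v) (fun j => by split_ifs with e; exacts [e ▸ hv, zero_mem _])
      (by rw [hcs, Finset.sum_ite_eq', if_pos (Finset.mem_univ i)]))
  let L : (ι → F) →ₗ[F] (ι → F) :=
    { toFun := fun x => ∑ i, (φ i ⟨c x i, hc x i⟩ : ι → F)
      map_add' := fun x y => by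
        rw [← Finset.sum_add_distrib]
        refine Finset.sum_congr rfl fun i _ => ?_
        rw [← Submodule.coe_add, ← map_add]
        congr 2
        exact Subtype.ext (cadd x y i)
      map_smul' := fun r x => by
        rw [RingHom.id_apply, Finset.smul_sum]
        refine Finset.sum_congr rfl fun i _ => ?_
        rw [← Submodule.coe_smul, ← map_smul]
        congr 2
        exact Subtype.ext (csmul r x i) }
  have hLf : ∀ x y, f (L x) (L y) = f x y := by
    intro x y
    let A : (ι → F) → Fin t → (ι → F) := fun x j =>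
      (φ (σ.symm j) ⟨c x (σ.symm j), hc x _⟩ : ι → F)
    have hA : ∀ x j, A x j ∈ D j := fun x j => by
      have := (φ (σ.symm j) ⟨c x (σ.symm j), hc x _⟩).2
      simpa only [σ.apply_symm_apply] using this
    have hLA : ∀ x, L x = ∑ j, A x j := fun x =>
      (Equiv.sum_comp σ.symm fun i => (φ i ⟨c x i, hc x i⟩ : ι → F)).symm
    rw [hLA, hLA, form_sum_sum hf.bilinear hD (hA x) (hA y)]
    conv_rhs => rw [← hcs x, ← hcs y, form_sum_sum hf.bilinear hD (hc x) (hc y)]
    simp only [A, hφ]
    exact Equiv.sum_comp σ.symm fun i => f (c x i) (c y i)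
  have hLinj : Function.Injective L := by
    rw [injective_iff_map_eq_zero]
    exact fun x hx => eq_zero_of_form_left hf.nondegenerate fun y => by
      rw [← hLf, hx, form_zero_left hf.bilinear]
  have hdet : IsUnit (LinearMap.toMatrix' L) := by
    rw [← Matrix.mulVec_injective_iff_isUnit]
    intro x y e
    simp only [LinearMap.toMatrix'_mulVec] at e
    exact hLinj e
  obtain ⟨g, hg⟩ := hdet
  have hgv : ∀ x, (g : Matrix ι ι F) *ᵥ x = L x := fun x => by
    rw [hg, LinearMap.toMatrix'_mulVec]
  have hmap : ∀ i, ∀ v ∈ D i, (g : Matrix ι ι F) *ᵥ v ∈ D (σ i) := by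
    intro i v hv
    rw [hgv]
    change (∑ j, (φ j ⟨c v j, hc v j⟩ : ι → F)) ∈ D (σ i)
    rw [Finset.sum_eq_single i]
    · exact (φ i _).2
    · intro j _ hji
      have e : (⟨c v j, hc v j⟩ : D j) = 0 :=
        Subtype.ext (show c v j = 0 from (cD i v hv j).trans (if_neg hji))
      rw [e, map_zero]; rfl
    · exact fun h => absurd (Finset.mem_univ i) h
  refine ⟨g, ⟨⟨σ, fun i => ?_⟩, fun x y => ?_⟩, hmap⟩
  · refine Submodule.eq_of_le_of_finrank_eq ?_ ?_
    · rintro _ ⟨v, hv, rfl⟩
      rw [Matrix.toLin'_apply]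
      exact hmap i v hv
    · rw [← (Submodule.equivMapOfInjective _ (fun x y e => gl_mulVec_injective g (by simpa using e))
        (D i)).finrank_eq, hD.decomp.finrank_eq, hD.decomp.finrank_eq]
  · change f ((g : Matrix ι ι F) *ᵥ x) ((g : Matrix ι ι F) *ᵥ y) = f x y
    rw [hgv, hgv, hLf]

theorem symp_decomposition_stabilizer_maximal [Fintype F] (hf : IsSymplecticForm f)
    (hD : IsNondegenerateMDecomposition f k D) (hex : ¬ (k = 2 ∧ Fintype.card F = 2)) :
    IsMaximalIn (isoOf f) (decompositionStabilizer D ⊓ isoOf f) := by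
  classical
  have hne0 : ∀ i, ∃ a ∈ D i, a ≠ 0 := fun i => Submodule.exists_mem_ne_zero_of_ne_bot fun h => by
    have := hD.decomp.finrank_eq i
    rw [h, finrank_bot] at this
    exact absurd this hD.decomp.pos.ne
  let supp : (Fin t → (ι → F)) → Finset (Fin t) := fun a => Finset.univ.filter fun i => a i ≠ 0
  have hmem_supp : ∀ a i, i ∈ supp a ↔ a i ≠ 0 := fun a i => by simp [supp]
  -- membership of a sum in a single component
  have honly : ∀ (a : Fin t → (ι → F)), (∀ i, a i ∈ D i) → ∀ j, ∑ i, a i ∈ D j →
      ∀ i, i ≠ j → a i = 0 := by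
    intro a ha j hj i hij
    have := components_unique hf.bilinear hD ha
      (fun l => show (if l = j then ∑ i, a i else 0) ∈ D l by
        split_ifs with e; exacts [e ▸ hj, zero_mem _])
      (by rw [Finset.sum_ite_eq', if_pos (Finset.mem_univ j)])
    rw [this]; simp [hij]
  obtain ⟨i₀, i₁, hi01⟩ : ∃ i j : Fin t, i ≠ j :=
    ⟨⟨0, by have := hD.decomp.two_le; omega⟩, ⟨1, by have := hD.decomp.two_le; omega⟩,
      by simp [Fin.ext_iff]⟩
  refine isMaximalIn_of inf_le_right ?_ ?_
  · obtain ⟨a, ha, ha0⟩ := hne0 i₀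
    obtain ⟨b, hb, hb0⟩ := hne0 i₁
    obtain ⟨z, hz, hza⟩ := (hD.nondegenerate i₀ a ha ha0).1
    refine ⟨sTv f (a + b) 1, sTv_mem_isoOf hf _ _, fun h => ?_⟩
    obtain ⟨σ, hσ⟩ := h.1
    have h1 : (sTv f (a + b) 1 : Matrix ι ι F) *ᵥ z ∈ D (σ i₀) := by
      rw [← hσ i₀]
      exact ⟨z, hz, by rw [Matrix.toLin'_apply]⟩
    have hzb : f z b = 0 := hD.orthogonal i₀ i₁ hi01 z hz b hb
    rw [sTv_mulVec hf, one_mul, hf.bilinear.add_right, hzb, add_zero, smul_add, ← add_assoc] at h1
    have hza0 : z + f z a • a ≠ 0 := by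
      intro e
      have e' := congrArg (fun x => f x a) e
      simp [hf.bilinear.add_left, hf.bilinear.smul_left, hf.alternating,
        form_zero_left hf.bilinear, hza] at e'
    let c : Fin t → (ι → F) := fun i =>
      if i = i₀ then z + f z a • a else if i = i₁ then f z a • b else 0
    have hc : ∀ i, c i ∈ D i := fun i => by
      by_cases e₀ : i = i₀
      · subst e₀; simpa [c] using (D i).add_mem hz ((D i).smul_mem _ ha)
      · by_cases e₁ : i = i₁
        · subst e₁; simpa [c, e₀] using (D i).smul_mem _ hb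
        · simp [c, e₀, e₁]
    have hsum : ∑ i, c i = z + f z a • a + f z a • b := by
      rw [Fintype.sum_eq_add i₀ i₁ hi01 (fun i hi => by simp [c, hi.1, hi.2])]
      simp [c, hi01.symm]
    rw [← hsum] at h1
    by_cases e : i₀ = σ i₀
    · have := honly c hc _ h1 i₁ (fun e' => hi01 (e.trans e'.symm))
      simp [c, hi01.symm, hza, hb0] at this
    · have := honly c hc _ h1 i₀ e
      simp [c] at this
      exact hza0 this
  intro M hHM hMK g hgM hgH
  have hgiso : g ∈ isoOf f := hMK hgM
  have hDS : ∀ i, ∀ v ∈ D i, v ∈ tvSet f M := by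
    intro i v hv c
    refine hHM ⟨⟨1, fun j => ?_⟩, sTv_mem_isoOf hf v c⟩
    refine Submodule.eq_of_le_of_finrank_eq ?_ ?_
    · rintro _ ⟨x, hx, rfl⟩
      rw [Matrix.toLin'_apply, sTv_mulVec hf, Equiv.Perm.one_apply]
      by_cases e : j = i
      · exact (D j).add_mem hx ((D j).smul_mem _ (e ▸ hv))
      · rw [hD.orthogonal j i e x hx v hv, mul_zero, zero_smul, add_zero]; exact hx
    · rw [← (Submodule.equivMapOfInjective _ (fun x y e => gl_mulVec_injective _ (by simpa using e))
        (D j)).finrank_eq, Equiv.Perm.one_apply]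
  -- one component can be replaced
  have hrep : ∀ (a : Fin t → (ι → F)), (∀ i, a i ∈ D i) → ∑ i, a i ∈ tvSet f M →
      ∀ j, a j ≠ 0 → ∀ b ∈ D j, b ≠ 0 → ∑ i, Function.update a j b i ∈ tvSet f M := by
    intro a ha hS j hj b hb hb0
    rw [← Finset.add_sum_erase _ _ (Finset.mem_univ j)] at hS
    have hor : ∑ i ∈ Finset.univ.erase j, a i ∈ orthSub hf.bilinear (D j) :=
      Submodule.sum_mem _ fun i hi w hw =>
        hD.orthogonal j i (Finset.ne_of_mem_erase hi).symm w hw _ (ha i)
    have h := tvSet_replace hf (hD.nondegenerate j) (hDS j) hor (ha j) hj hb hb0 hS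
    rw [← Finset.add_sum_erase _ _ (Finset.mem_univ j), Function.update_self]
    rwa [Finset.sum_congr rfl fun i hi => Function.update_of_ne (Finset.ne_of_mem_erase hi) _ _]
  -- so every component can be replaced
  have hrepAll : ∀ (a b : Fin t → (ι → F)), (∀ i, a i ∈ D i) → (∀ i, b i ∈ D i) →
      (∀ i, a i = 0 ↔ b i = 0) → ∑ i, a i ∈ tvSet f M → ∑ i, b i ∈ tvSet f M := by
    intro a b ha hb hab hS
    suffices ∀ s : Finset (Fin t), ∑ i, (if i ∈ s then b i else a i) ∈ tvSet f M by
      simpa using this Finset.univ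
    intro s
    induction s using Finset.induction_on with
    | empty => simpa using hS
    | @insert j s hjs ih =>
      by_cases h0 : a j = 0
      · rw [Finset.sum_congr rfl fun i _ =>
          show (if i ∈ insert j s then b i else a i) = if i ∈ s then b i else a i by
            by_cases e : i = j
            · subst e; simp [hjs, h0, (hab i).1 h0]
            · simp [e]]
        exact ih
      · have hm : ∀ i, (if i ∈ s then b i else a i) ∈ D i := fun i => by
          split_ifs; exacts [hb i, ha i]
        convert hrep _ hm ih j (by simpa [hjs] using h0) (b j) (hb j) (fun e => h0 ((hab j).2 e))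
          using 3 with i
        by_cases e : i = j
        · subst e; simp
        · simp [Function.update_of_ne e, e]
  -- some element of the set lies in no component
  obtain ⟨a, ha, hS, h2⟩ : ∃ a : Fin t → (ι → F), (∀ i, a i ∈ D i) ∧ ∑ i, a i ∈ tvSet f M ∧
      2 ≤ (supp a).card := by
    by_contra hcon
    push Not at hcon
    have hsing : ∀ i, ∀ v ∈ D i, ∃ j, (g : Matrix ι ι F) *ᵥ v ∈ D j := by
      intro i v hv
      obtain ⟨a, ha, hsum⟩ := exists_components hD.decomp ((g : Matrix ι ι F) *ᵥ v)
      have h := hcon a ha (hsum ▸ tvSet_mulVec hf hgM hgiso (hDS i v hv))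
      rcases (supp a).eq_empty_or_nonempty with e | ⟨j, hj⟩
      · refine ⟨i, ?_⟩
        rw [← hsum, Finset.sum_eq_zero fun l _ => ?_]
        · exact zero_mem _
        · by_contra hl
          exact absurd ((hmem_supp a l).2 hl) (by rw [e]; simp)
      · refine ⟨j, ?_⟩
        rw [← hsum, Finset.sum_eq_single j]
        · exact ha j
        · intro l _ hlj
          by_contra hl
          exact hlj (Finset.card_le_one.1 (by omega) l ((hmem_supp a l).2 hl) j hj)
        · exact fun h => absurd (Finset.mem_univ j) h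
    have hdisj : ∀ p q, p ≠ q → ∀ z, z ∈ D p → z ∈ D q → z = 0 := fun p q hpq z hp hq =>
      eq_zero_of_mem_orth_nondegenerateOn hf.bilinear (hD.nondegenerate p) hp
        fun w hw => hD.orthogonal p q hpq w hw z hq
    have hblock : ∀ i, ∃ j, ∀ v ∈ D i, (g : Matrix ι ι F) *ᵥ v ∈ D j := by
      intro i
      obtain ⟨v₀, hv₀, hv₀0⟩ := hne0 i
      obtain ⟨j, hj⟩ := hsing i v₀ hv₀
      refine ⟨j, fun v hv => ?_⟩
      obtain ⟨p, hp⟩ := hsing i v hv
      by_cases hpj : p = j
      · exact hpj ▸ hp
      obtain ⟨q, hq⟩ := hsing i (v₀ + v) ((D i).add_mem hv₀ hv)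
      rw [mulVec_add] at hq
      by_cases hqj : q = j
      · subst hqj
        exact (Submodule.add_mem_iff_right _ hj).1 hq
      exfalso
      let b : Fin t → (ι → F) := fun l =>
        if l = j then (g : Matrix ι ι F) *ᵥ v₀ else if l = p then (g : Matrix ι ι F) *ᵥ v else 0
      have hb : ∀ l, b l ∈ D l := fun l => by
        by_cases e : l = j
        · subst e; simpa [b] using hj
        · by_cases e' : l = p
          · subst e'; simpa [b, e] using hp
          · simp [b, e, e']
      have hsumb : ∑ l, b l = (g : Matrix ι ι F) *ᵥ v₀ + (g : Matrix ι ι F) *ᵥ v := by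
        rw [Fintype.sum_eq_add j p (Ne.symm hpj) (fun l hl => by simp [b, hl.1, hl.2])]
        simp [b, hpj]
      have := honly b hb q (hsumb ▸ hq) j (Ne.symm hqj)
      simp [b] at this
      exact hv₀0 (gl_mulVec_injective g (by simpa using this))
    choose τ hτ using hblock
    have hmapτ : ∀ i, (D i).map (Matrix.toLin' (g : Matrix ι ι F)) = D (τ i) := fun i => by
      refine Submodule.eq_of_le_of_finrank_eq ?_ ?_
      · rintro _ ⟨v, hv, rfl⟩
        rw [Matrix.toLin'_apply]; exact hτ i v hv
      · rw [← (Submodule.equivMapOfInjective _ (fun x y e => gl_mulVec_injective g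
          (by simpa using e)) (D i)).finrank_eq, hD.decomp.finrank_eq, hD.decomp.finrank_eq]
    have hτinj : Function.Injective τ := by
      intro i j e
      by_contra hij
      have : D i = D j := Submodule.map_injective_of_injective (fun x y e => gl_mulVec_injective g
        (by simpa using e)) ((hmapτ i).trans ((congrArg D e).trans (hmapτ j).symm))
      obtain ⟨v, hv, hv0⟩ := hne0 i
      exact hv0 (hdisj i j hij v hv (this ▸ hv))
    exact hgH ⟨⟨Equiv.ofBijective τ (Finite.injective_iff_bijective.1 hτinj), hmapτ⟩, hgiso⟩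
  -- shrink the support to two
  have hperp : ∀ i, ∀ x ∈ D i, x ≠ 0 → ∃ y ∈ D i, y ≠ 0 ∧ y ≠ x ∧ f x y = 0 := by
    intro i x hx hx0
    by_cases hq : ∃ l : F, l ≠ 0 ∧ l ≠ 1
    · obtain ⟨l, hl0, hl1⟩ := hq
      refine ⟨l • x, (D i).smul_mem _ hx, smul_ne_zero hl0 hx0, fun e => hl1 ?_,
        by rw [hf.bilinear.smul_right, hf.alternating, mul_zero]⟩
      exact smul_left_injective F hx0 (by simpa using e)
    · push Not at hq
      have hcard : Fintype.card F = 2 := by
        refine le_antisymm ?_ Fintype.one_lt_card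
        rw [← Finset.card_univ]
        exact (Finset.card_le_card (t := {(0 : F), 1}) fun l _ => by
          by_cases e : l = 0
          · simp [e]
          · simp [hq l e]).trans (by simp)
      have hk : k ≠ 2 := fun e => hex ⟨e, hcard⟩
      let φ : D i →ₗ[F] F := (bilinOf hf.bilinear x).comp (D i).subtype
      have h1 := LinearMap.finrank_range_add_finrank_ker φ
      rw [hD.decomp.finrank_eq i] at h1
      have hr : Module.finrank F (LinearMap.range φ) ≤ 1 := by
        simpa using Submodule.finrank_le (LinearMap.range φ)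
      obtain ⟨w, hw, hw'⟩ := (hD.nondegenerate i x hx hx0).2
      have hk1 : k ≠ 1 := by
        intro hk1
        obtain ⟨c, hc⟩ := (finrank_eq_one_iff_of_nonzero' (⟨x, hx⟩ : D i)
          (fun e => hx0 (congrArg Subtype.val e))).1 (hk1 ▸ hD.decomp.finrank_eq i) ⟨w, hw⟩
        have : c • x = w := congrArg Subtype.val hc
        rw [← this, hf.bilinear.smul_right, hf.alternating, mul_zero] at hw'
        exact hw' rfl
      have hker : 1 < Module.finrank F (LinearMap.ker φ) := by
        have := hD.decomp.pos
        omega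
      obtain ⟨y, hy, hy'⟩ : ∃ y ∈ LinearMap.ker φ, y ∉ Submodule.span F {(⟨x, hx⟩ : D i)} := by
        apply SetLike.not_le_iff_exists.1
        intro hle
        have := Submodule.finrank_mono hle
        rw [finrank_span_singleton (fun e => hx0 (congrArg Subtype.val e))] at this
        omega
      exact ⟨y, y.2, fun e => hy' (by rw [show y = 0 from Subtype.ext e]; exact zero_mem _),
        fun e => hy' (by rw [show y = ⟨x, hx⟩ from Subtype.ext e]; exact Submodule.mem_span_singleton_self _),
        by simpa [φ] using hy⟩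
  have hpair : ∃ i j, i ≠ j ∧ ∀ u ∈ D i, ∀ v ∈ D j, u ≠ 0 → v ≠ 0 → u + v ∈ tvSet f M := by
    suffices ∀ s, ∀ a : Fin t → (ι → F), (∀ i, a i ∈ D i) → ∑ i, a i ∈ tvSet f M →
        (supp a).card = s → 2 ≤ s →
        ∃ b : Fin t → (ι → F), (∀ i, b i ∈ D i) ∧ ∑ i, b i ∈ tvSet f M ∧ (supp b).card = 2 by
      obtain ⟨b, hb, hbS, hb2⟩ := this _ a ha hS rfl h2
      obtain ⟨i, j, hij, e⟩ := Finset.card_eq_two.1 hb2
      refine ⟨i, j, hij, fun u hu v hv hu0 hv0 => ?_⟩
      let c : Fin t → (ι → F) := fun l => if l = i then u else if l = j then v else 0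
      have hc : ∀ l, c l ∈ D l := fun l => by
        by_cases e₁ : l = i
        · subst e₁; simpa [c] using hu
        · by_cases e₂ : l = j
          · subst e₂; simpa [c, e₁] using hv
          · simp [c, e₁, e₂]
      have := hrepAll b c hb hc (fun l => by
        have hl := (hmem_supp b l).symm
        rw [e] at hl
        by_cases e₁ : l = i
        · subst e₁; simp [c, hu0] at hl ⊢; exact hl
        · by_cases e₂ : l = j
          · subst e₂; simp [c, e₁, hv0] at hl ⊢; exact hl
          · simp [c, e₁, e₂] at hl ⊢; exact hl) hbS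
      rwa [Fintype.sum_eq_add i j hij (fun l hl => by simp [c, hl.1, hl.2]),
        show c i = u by simp [c], show c j = v by simp [c, hij.symm]] at this
    intro s
    induction s using Nat.strong_induction_on with
    | _ s ih =>
      intro a ha hS hs h2
      rcases h2.eq_or_lt with e | h3
      · exact ⟨a, ha, hS, hs.trans e.symm⟩
      obtain ⟨l, hl⟩ := Finset.card_pos.1 (show 0 < (supp a).card by omega)
      obtain ⟨i, hi⟩ := Finset.card_pos.1
        (show 0 < ((supp a).erase l).card by rw [Finset.card_erase_of_mem hl]; omega)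
      obtain ⟨hil, hi⟩ := Finset.mem_erase.1 hi
      obtain ⟨bi, hbi, hbi'⟩ := (hD.nondegenerate i _ (ha i) ((hmem_supp a i).1 hi)).2
      choose y hy using fun j => show ∃ y, y ∈ D j ∧ (a j ≠ 0 → y ≠ 0 ∧ y ≠ a j ∧ f (a j) y = 0) by
        by_cases e : a j = 0
        · exact ⟨0, zero_mem _, fun h => absurd e h⟩
        · obtain ⟨y, h1, h2⟩ := hperp j _ (ha j) e
          exact ⟨y, h1, fun _ => h2⟩
      let b : Fin t → (ι → F) := fun j =>
        if j = l then a l else if j = i then bi else if a j = 0 then 0 else y j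
      have hb : ∀ j, b j ∈ D j := fun j => by
        by_cases e₁ : j = l
        · subst e₁; simpa [b] using ha j
        · by_cases e₂ : j = i
          · subst e₂; simpa [b, e₁] using hbi
          · by_cases e₃ : a j = 0
            · simp [b, e₁, e₂, e₃]
            · simpa [b, e₁, e₂, e₃] using (hy j).1
      have hbi0 : bi ≠ 0 := fun e => hbi' (by rw [e, form_zero_right hf.bilinear])
      have hbia : bi ≠ a i := fun e => hbi' (by rw [e, hf.alternating])
      have hzero : ∀ j, a j = 0 ↔ b j = 0 := fun j => by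
        by_cases e₁ : j = l
        · subst e₁; simp [b]
        · by_cases e₂ : j = i
          · subst e₂; simp [b, e₁, hbi0, (hmem_supp a j).1 hi]
          · by_cases e₃ : a j = 0
            · simp [b, e₁, e₂, e₃]
            · simp [b, e₁, e₂, e₃, ((hy j).2 e₃).1]
      have hbS := hrepAll a b ha hb hzero hS
      have hp : f (∑ j, a j) (∑ j, b j) ≠ 0 := by
        rw [form_sum_sum hf.bilinear hD ha hb, Finset.sum_eq_single i]
        · simpa [b, hil] using hbi'
        · intro j _ hji
          by_cases e₁ : j = l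
          · subst e₁; simp [b, hf.alternating]
          · by_cases e₃ : a j = 0
            · simp [e₃, form_zero_left hf.bilinear]
            · simp [b, e₁, hji, e₃, ((hy j).2 e₃).2.2]
        · exact fun h => absurd (Finset.mem_univ i) h
      have hd : ∑ j, (a j - b j) ∈ tvSet f M := by
        have := tvSet_add_smul hf hS hbS hp (-1)
        rwa [neg_one_smul, ← sub_eq_add_neg, ← Finset.sum_sub_distrib] at this
      have hsupp : supp (fun j => a j - b j) = (supp a).erase l := by
        ext j
        simp only [hmem_supp, Finset.mem_erase, sub_ne_zero]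
        by_cases e₁ : j = l
        · subst e₁; simp [b]
        · by_cases e₂ : j = i
          · subst e₂; simp [b, e₁, hbia.symm, (hmem_supp a j).1 hi]
          · by_cases e₃ : a j = 0
            · simp [b, e₁, e₂, e₃]
            · simp [b, e₁, e₂, e₃, ((hy j).2 e₃).2.1.symm]
      exact ih (s - 1) (by omega) _ (fun j => (D j).sub_mem (ha j) (hb j)) hd
        (by rw [hsupp, Finset.card_erase_of_mem hl, hs]) (by omega)
  -- move the pair around
  obtain ⟨p, q, hpq, hPQ⟩ := hpair
  have hall2 : ∀ i j, i ≠ j → ∀ u ∈ D i, ∀ v ∈ D j, u ≠ 0 → v ≠ 0 → u + v ∈ tvSet f M := by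
    intro i j hij u hu v hv hu0 hv0
    obtain ⟨σ, hσi, hσj⟩ : ∃ σ : Equiv.Perm (Fin t), σ p = i ∧ σ q = j := by
      refine ⟨Equiv.swap (Equiv.swap p i q) j * Equiv.swap p i, ?_, by simp⟩
      rw [Equiv.Perm.mul_apply, Equiv.swap_apply_left,
        Equiv.swap_apply_of_ne_of_ne ?_ hij]
      intro e
      exact hpq ((Equiv.swap p i).injective (by rw [Equiv.swap_apply_left]; exact e))
    obtain ⟨h, hh, hmap⟩ := exists_swap hf hD σ
    have hpre : ∀ r, ∀ w ∈ D (σ r), ∃ w' ∈ D r, (h : Matrix ι ι F) *ᵥ w' = w := by
      intro r w hw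
      have e : (D r).map (Matrix.toLin' (h : Matrix ι ι F)) = D (σ r) := by
        refine Submodule.eq_of_le_of_finrank_eq ?_ ?_
        · rintro _ ⟨v, hv, rfl⟩
          rw [Matrix.toLin'_apply]; exact hmap r v hv
        · rw [← (Submodule.equivMapOfInjective _ (fun x y e => gl_mulVec_injective h
            (by simpa using e)) (D r)).finrank_eq, hD.decomp.finrank_eq, hD.decomp.finrank_eq]
      obtain ⟨w', hw', rfl⟩ := (e ▸ hw : w ∈ (D r).map (Matrix.toLin' (h : Matrix ι ι F)))
      exact ⟨w', hw', (Matrix.toLin'_apply _ _).symm⟩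
    obtain ⟨u', hu', rfl⟩ := hpre p u (hσi ▸ hu)
    obtain ⟨v', hv', rfl⟩ := hpre q v (hσj ▸ hv)
    rw [← mulVec_add]
    exact tvSet_mulVec hf (hHM hh) (hMK (hHM hh))
      (hPQ u' hu' v' hv' (fun e => hu0 (by rw [e, mulVec_zero])) (fun e => hv0 (by rw [e, mulVec_zero])))
  -- every vector
  have hall : ∀ s, ∀ a : Fin t → (ι → F), (∀ i, a i ∈ D i) → (supp a).card = s →
      ∑ i, a i ∈ tvSet f M := by
    intro s
    induction s using Nat.strong_induction_on with
    | _ s ih =>
      intro a ha hs
      have hout : ∀ j, j ∉ supp a → a j = 0 := fun j hj => by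
        by_contra e; exact hj ((hmem_supp a j).2 e)
      rcases Nat.lt_or_ge s 3 with h3 | h3
      · interval_cases s
        · rw [Finset.card_eq_zero] at hs
          rw [Finset.sum_eq_zero fun j _ => hout j (by rw [hs]; simp)]
          exact hDS i₀ 0 (zero_mem _)
        · obtain ⟨i, hi⟩ := Finset.card_eq_one.1 hs
          rw [Fintype.sum_eq_single i fun j hj => hout j (by rw [hi]; simp [hj])]
          exact hDS i _ (ha i)
        · obtain ⟨i, j, hij, he⟩ := Finset.card_eq_two.1 hs
          rw [Fintype.sum_eq_add i j hij fun l hl => hout l (by rw [he]; simp [hl.1, hl.2])]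
          exact hall2 i j hij _ (ha i) _ (ha j) ((hmem_supp a i).1 (by rw [he]; simp))
            ((hmem_supp a j).1 (by rw [he]; simp))
      obtain ⟨l, hl⟩ := Finset.card_pos.1 (show 0 < (supp a).card by omega)
      obtain ⟨i, hi⟩ := Finset.card_pos.1
        (show 0 < ((supp a).erase l).card by rw [Finset.card_erase_of_mem hl]; omega)
      obtain ⟨hil, hi⟩ := Finset.mem_erase.1 hi
      obtain ⟨bi, hbi, hbi'⟩ := (hD.nondegenerate i _ (ha i) ((hmem_supp a i).1 hi)).2
      let w : Fin t → (ι → F) := fun j => if j = i then bi else if j = l then a l else 0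
      have hw : ∀ j, w j ∈ D j := fun j => by
        by_cases e₁ : j = i
        · subst e₁; simpa [w] using hbi
        · by_cases e₂ : j = l
          · subst e₂; simpa [w, e₁] using ha j
          · simp [w, e₁, e₂]
      have hbi0 : bi ≠ 0 := fun e => hbi' (by rw [e, form_zero_right hf.bilinear])
      have hwS : ∑ j, w j ∈ tvSet f M := by
        rw [Fintype.sum_eq_add i l hil (fun j hj => by simp [w, hj.1, hj.2]),
          show w i = bi by simp [w], show w l = a l by simp [w, hil.symm]]
        exact hall2 i l hil bi hbi (a l) (ha l) hbi0 ((hmem_supp a l).1 hl)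
      have hai : a i ≠ bi := fun e => hbi' (by rw [← e, hf.alternating])
      have hsupp : supp (fun j => a j - w j) = (supp a).erase l := by
        ext j
        simp only [hmem_supp, Finset.mem_erase, sub_ne_zero]
        by_cases e₁ : j = i
        · subst e₁; simp [w, hil, hai, (hmem_supp a j).1 hi]
        · by_cases e₂ : j = l
          · subst e₂; simp [w, e₁]
          · simp [w, e₁, e₂]
      have hvS := ih (s - 1) (by omega) (fun j => a j - w j) (fun j => (D j).sub_mem (ha j) (hw j))
        (by rw [hsupp, Finset.card_erase_of_mem hl, hs])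
      have hp : f (∑ j, (a j - w j)) (∑ j, w j) ≠ 0 := by
        rw [form_sum_sum hf.bilinear hD (fun j => (D j).sub_mem (ha j) (hw j)) hw,
          Finset.sum_eq_single i]
        · simpa [w, form_sub_left hf.bilinear, hf.alternating] using hbi'
        · intro j _ hji
          by_cases e₂ : j = l
          · subst e₂; simp [w, hji, form_zero_left hf.bilinear]
          · simp [w, hji, e₂, form_zero_right hf.bilinear]
        · exact fun h => absurd (Finset.mem_univ i) h
      have := tvSet_add_smul hf hvS hwS hp 1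
      rwa [one_smul, ← Finset.sum_add_distrib,
        Finset.sum_congr rfl fun j _ => sub_add_cancel (a j) (w j)] at this
  refine isoOf_le_of_tvSet hf fun x => ?_
  obtain ⟨a, ha, rfl⟩ := exists_components hD.decomp x
  exact hall _ a ha rfl

end CfsgLib.ClassicalMax
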