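/-
Decomposition stabilisers over very small fields preserve a form, hence are not maximal.
-/
import Cfsg.Agent.Lib.ClassicalMax.LinFlags
import Cfsg.Agent.Lib.ClassicalMax.SympDecomp
set_option autoImplicit false

namespace CfsgLib.ClassicalMax.DecompNot

open Matrix Cfsg.Geo

variable {ι : Type} [Fintype ι] [DecidableEq ι] {F : Type*} [Field F]

/-- A form, linear in the first argument, with `f x y = τ (f y x)`. -/
structure IsHermLike (τ : F →+* F) (f : (ι → F) → (ι → F) → F) : Prop where
  invol : ∀ a, τ (τ a) = a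
  add_left : ∀ x y v, f (x + y) v = f x v + f y v
  smul_left : ∀ (c : F) x v, f (c • x) v = c * f x v
  herm : ∀ x y, f x y = τ (f y x)

variable {τ : F →+* F} {f : (ι → F) → (ι → F) → F}

lemma IsHermLike.add_right (hf : IsHermLike τ f) (v x y : ι → F) : f v (x + y) = f v x + f v y := by
  rw [hf.herm, hf.add_left, map_add, ← hf.herm, ← hf.herm]

lemma IsHermLike.smul_right (hf : IsHermLike τ f) (c : F) (v x : ι → F) :
    f v (c • x) = τ c * f v x := by
  rw [hf.herm, hf.smul_left, map_mul, ← hf.herm]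

/-- The form as a linear map in its first argument. -/
def leftL (hf : IsHermLike τ f) (v : ι → F) : (ι → F) →ₗ[F] F where
  toFun x := f x v
  map_add' x y := hf.add_left x y v
  map_smul' c x := hf.smul_left c x v

/-- Equality of two forms can be checked on a basis. -/
lemma form_eq_of_basis {κ : Type} [Fintype κ] (b : Module.Basis κ F (ι → F)) {f' : (ι → F) → (ι → F) → F}
    (hf : IsHermLike τ f) (hf' : IsHermLike τ f') (h : ∀ p q, f (b p) (b q) = f' (b p) (b q))
    (x y : ι → F) : f x y = f' x y := by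
  have h1 : ∀ q x, f x (b q) = f' x (b q) := fun q x => by
    have : leftL hf (b q) = leftL hf' (b q) := b.ext fun p => h p q
    exact congrArg (fun L => L x) this
  have h2 : leftL hf x = leftL hf' x := b.ext fun q => by
    change f (b q) x = f' (b q) x
    rw [hf.herm, h1, ← hf'.herm]
  have h3 : f y x = f' y x := congrArg (fun L => L y) h2
  rw [hf.herm, h3, ← hf'.herm]

lemma IsHermLike.pullback (hf : IsHermLike τ f) (g : GL ι F) :
    IsHermLike τ fun x y => f ((g : Matrix ι ι F) *ᵥ x) ((g : Matrix ι ι F) *ᵥ y) where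
  invol := hf.invol
  add_left x y v := by simp only [mulVec_add, hf.add_left]
  smul_left c x v := by simp only [mulVec_smul, hf.smul_left]
  herm x y := hf.herm _ _

/-- The isometry `x ↦ x + f(x, v) v` for `2 + f(v, v) = 0`. -/
lemma exists_refl (hf : IsHermLike τ f) {v : ι → F} (hv : 2 + f v v = 0) :
    ∃ T : GL ι F, (∀ x y, f ((T : Matrix ι ι F) *ᵥ x) ((T : Matrix ι ι F) *ᵥ y) = f x y) ∧
      Matrix.det (T : Matrix ι ι F) = -1 ∧ ∀ x, (T : Matrix ι ι F) *ᵥ x = x + f x v • v := by
  set φ : ι → F := fun j => f (Pi.single j 1) v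
  have hφ : ∀ x, φ ⬝ᵥ x = f x v := by
    intro x
    change _ = leftL hf v x
    conv_rhs => rw [pi_eq_sum_univ x, map_sum]
    refine Finset.sum_congr rfl fun j _ => ?_
    rw [map_smul, smul_eq_mul, mul_comm]
    congr 1
    change leftL hf v _ = leftL hf v _
    refine congrArg (leftL hf v) (funext fun k => ?_)
    simp [Pi.single_apply, eq_comm]
  set A : Matrix ι ι F := 1 + vecMulVec v φ with hA
  have hdet : A.det = -1 := by
    rw [hA, vecMulVec_eq Unit, det_one_add_replicateCol_mul_replicateRow, hφ]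
    linear_combination hv
  have hAx : ∀ x, A *ᵥ x = x + f x v • v := fun x => by
    rw [hA, add_mulVec, one_mulVec, vecMulVec_mulVec, op_smul_eq_smul, hφ]
  refine ⟨Matrix.GeneralLinearGroup.mkOfDetNeZero A (by rw [hdet]; exact neg_ne_zero.2 one_ne_zero),
    fun x y => ?_, hdet, hAx⟩
  change f (A *ᵥ x) (A *ᵥ y) = f x y
  rw [hAx, hAx, hf.add_left, hf.add_right, hf.add_right, hf.smul_left, hf.smul_left, hf.smul_right,
    hf.smul_right, ← hf.herm v y]
  linear_combination (f x v * f v y) * hv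

/-- A preserved form with two such isometries shows that the stabiliser is not maximal. -/
theorem not_maximal_of_form {t : ℕ} {D : Fin t → Submodule F (ι → F)} (hf : IsHermLike τ f)
    (hpres : ∀ g ∈ decompositionStabilizer D,
      ∀ x y, f ((g : Matrix ι ι F) *ᵥ x) ((g : Matrix ι ι F) *ᵥ y) = f x y)
    {v v' x : ι → F} {i : Fin t} (hx : x ∈ D i) (hv : 2 + f v v = 0) (hv' : 2 + f v' v' = 0)
    (hxv' : f x v' = 0) (hnot : ∀ j, x + f x v • v ∉ D j)
    (hbad : ∃ h ∈ specialLinear ι F, ∃ a b : ι → F,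
      f ((h : Matrix ι ι F) *ᵥ a) ((h : Matrix ι ι F) *ᵥ b) ≠ f a b) :
    ∃ K : Subgroup (GL ι F),
      decompositionStabilizer D ⊓ specialLinear ι F < K ∧ K < specialLinear ι F := by
  refine ⟨isoOf f ⊓ specialLinear ι F, ?_, ?_⟩
  · refine lt_of_le_of_ne (fun g hg => ⟨hpres g hg.1, hg.2⟩) fun e => ?_
    obtain ⟨T, hT, hTd, hTx⟩ := exists_refl hf hv
    obtain ⟨T', hT', hTd', hTx'⟩ := exists_refl hf hv'
    have hmem : T * T' ∈ decompositionStabilizer D ⊓ specialLinear ι F := by
      rw [e]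
      refine ⟨(isoOf f).mul_mem hT hT', ?_⟩
      change Matrix.GeneralLinearGroup.det (T * T') = 1
      refine Units.ext ?_
      simp [hTd, hTd']
    obtain ⟨σ, hσ⟩ := hmem.1
    apply hnot (σ i)
    rw [← hσ i]
    refine ⟨x, hx, ?_⟩
    rw [Matrix.toLin'_apply, gl_mulVec_mul, hTx', hxv', zero_smul, add_zero, hTx]
  · refine lt_of_le_of_ne inf_le_right fun e => ?_
    obtain ⟨h, hh, a, b, hab⟩ := hbad
    exact hab ((e.symm ▸ hh : h ∈ isoOf f ⊓ specialLinear ι F).1 a b)

/-- The coordinate form of a basis with an involution. -/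
noncomputable def coordForm {κ : Type} [Fintype κ] (b : Module.Basis κ F (ι → F)) (p : κ → κ) (τ : F →+* F)
    (x y : ι → F) : F :=
  ∑ i, b.repr x i * τ (b.repr y (p i))

lemma isHermLike_coordForm {κ : Type} [Fintype κ] (b : Module.Basis κ F (ι → F)) {p : κ → κ}
    (hp : Function.Involutive p) {τ : F →+* F} (hτ : ∀ a, τ (τ a) = a) :
    IsHermLike τ (coordForm b p τ) where
  invol := hτ
  add_left x y v := by simp [coordForm, add_mul, Finset.sum_add_distrib]
  smul_left c x v := by simp [coordForm, Finset.mul_sum, mul_assoc]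
  herm x y := by
    simp only [coordForm, map_sum, map_mul, hτ]
    rw [← Equiv.sum_comp (Function.Involutive.toPerm p hp)]
    exact Finset.sum_congr rfl fun i _ => by
      simp only [Function.Involutive.coe_toPerm, hp i]
      exact mul_comm _ _

lemma coordForm_basis {κ : Type} [Fintype κ] [DecidableEq κ] (b : Module.Basis κ F (ι → F))
    {p : κ → κ} (hp : Function.Involutive p) (τ : F →+* F) (i j : κ) :
    coordForm b p τ (b i) (b j) = if j = p i then 1 else 0 := by
  rw [coordForm, Finset.sum_eq_single i]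
  · simp [Finsupp.single_apply]
  · intro k _ hk; simp [Finsupp.single_apply, Ne.symm hk]
  · exact fun h => absurd (Finset.mem_univ i) h

theorem monomial_not_maximal [Fintype F] {t : ℕ} {D : Fin t → Submodule F (ι → F)}
    (hD : IsMDecomposition 1 D) (hn : 8 ≤ Fintype.card ι) (τ : F →+* F) (hτ : ∀ a, τ (τ a) = a)
    (hnorm : ∀ a : F, a ≠ 0 → a * τ a = 1) (h6 : (6 : F) = 0) :
    ∃ K : Subgroup (GL ι F),
      decompositionStabilizer D ⊓ specialLinear ι F < K ∧ K < specialLinear ι F := by
  classical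
  have hne : ∀ i, ∃ e ∈ D i, e ≠ 0 := fun i => Submodule.exists_mem_ne_zero_of_ne_bot fun h => by
    have := hD.finrank_eq i
    rw [h, finrank_bot] at this
    exact zero_ne_one this
  choose e he he0 using hne
  have hline : ∀ i, ∀ x ∈ D i, ∃ c : F, c • e i = x := fun i x hx => by
    obtain ⟨c, hc⟩ := (finrank_eq_one_iff_of_nonzero' (⟨e i, he i⟩ : D i)
      (fun h => he0 i (congrArg Subtype.val h))).1 (hD.finrank_eq i) ⟨x, hx⟩
    exact ⟨c, congrArg Subtype.val hc⟩
  have hli : LinearIndependent F e := hD.indep.linearIndependent D he he0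
  have hsp : ⊤ ≤ Submodule.span F (Set.range e) := fun x _ => by
    obtain ⟨a, ha, rfl⟩ := exists_components hD x
    refine Submodule.sum_mem _ fun i _ => ?_
    obtain ⟨c, hc⟩ := hline i _ (ha i)
    rw [← hc]
    exact Submodule.smul_mem _ _ (Submodule.subset_span ⟨i, rfl⟩)
  set b := Module.Basis.mk hli hsp with hbdef
  have hbe : ∀ i, b i = e i := fun i => Module.Basis.mk_apply hli hsp i
  have ht : t = Fintype.card ι := by
    have h := Module.finrank_eq_card_basis b
    rw [Module.finrank_fintype_fun_eq_card, Fintype.card_fin] at h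
    exact h.symm
  set f := coordForm b id τ with hf
  have hH : IsHermLike τ f := isHermLike_coordForm b (fun _ => rfl) hτ
  have hB : ∀ i j, f (e i) (e j) = if j = i then 1 else 0 := fun i j => by
    rw [hf, ← hbe, ← hbe, coordForm_basis b (fun _ => rfl)]
    rfl
  -- four coordinates
  let ix : Fin 8 ↪ Fin t := Fin.castLEEmb (by omega)
  let V : (Fin 4 → Fin 8) → (ι → F) := fun s => e (ix (s 0)) + e (ix (s 1)) + e (ix (s 2)) + e (ix (s 3))
  have hV : ∀ s : Fin 4 → Fin 8, Function.Injective s → 2 + f (V s) (V s) = 0 := by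
    intro s hs
    have hne : ∀ a c, a ≠ c → ix (s a) ≠ ix (s c) := fun a c h e => h (hs (ix.injective e))
    simp only [V, hH.add_left, hH.add_right, hB,
      hne 0 1 (by decide), hne 1 0 (by decide), hne 0 2 (by decide), hne 2 0 (by decide),
      hne 0 3 (by decide), hne 3 0 (by decide), hne 1 2 (by decide), hne 2 1 (by decide),
      hne 1 3 (by decide), hne 3 1 (by decide), hne 2 3 (by decide), hne 3 2 (by decide), if_false,
      if_true, add_zero, zero_add]
    linear_combination h6
  refine not_maximal_of_form hH (fun g hg x y => ?_) (v := V ![0, 1, 2, 3]) (v' := V ![4, 5, 6, 7])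
    (he (ix 0)) (hV _ (by decide)) (hV _ (by decide)) ?_ ?_ ?_
  · obtain ⟨σ, hσ⟩ := hg
    have hmem : ∀ i, (g : Matrix ι ι F) *ᵥ e i ∈ D (σ i) := fun i => by
      rw [← hσ i]; exact ⟨e i, he i, Matrix.toLin'_apply _ _⟩
    choose c hc using fun i => hline (σ i) _ (hmem i)
    have hc0 : ∀ i, c i ≠ 0 := fun i h => gl_mulVec_ne_zero g (he0 i) (by rw [← hc i, h, zero_smul])
    refine form_eq_of_basis b (hH.pullback g) hH (fun p q => ?_) x y
    rw [hbe, hbe, ← hc p, ← hc q, hH.smul_left, hH.smul_right, hB, hB]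
    simp only [σ.injective.eq_iff]
    by_cases hpq : q = p
    · subst hpq; rw [if_pos rfl, mul_one, hnorm _ (hc0 q)]
    · rw [if_neg hpq, mul_zero, mul_zero]
  · simp [V, hH.add_right, hB, ix.injective.eq_iff]
  · intro j hj
    have h0 : f (e (ix 0)) (V ![0, 1, 2, 3]) = 1 := by simp [V, hH.add_right, hB, ix.injective.eq_iff]
    rw [h0, one_smul] at hj
    obtain ⟨c, hc⟩ := hline j _ hj
    have h1 := congrArg (fun z => f z (e (ix 1))) hc
    have h2 := congrArg (fun z => f z (e (ix 2))) hc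
    simp [V, hH.add_left, hH.smul_left, hB, ix.injective.eq_iff] at h1 h2
    have e1 : ix 1 = j := by
      by_contra e; rw [if_neg e] at h1; exact zero_ne_one h1
    have e2 : ix 2 = j := by
      by_contra e; rw [if_neg e] at h2; exact zero_ne_one h2
    exact absurd (ix.injective (e1.trans e2.symm)) (by decide)
  · obtain ⟨T, hT, -, hTx⟩ := exists_tvGL_sep (W := (⊥ : Submodule F (ι → F))) (u := e (ix 1))
      (x := e (ix 0)) (by
        rw [bot_sup_eq]
        intro h
        obtain ⟨c, hc⟩ := Submodule.mem_span_singleton.1 h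
        have := congrArg (fun z => f z (e (ix 0))) hc
        simp [hH.smul_left, hB, ix.injective.eq_iff] at this)
    refine ⟨T, hT, e (ix 0), e (ix 0), ?_⟩
    rw [hTx, hH.add_left, hH.add_right, hH.add_right, hB, hB, hB, hB]
    simp [ix.injective.eq_iff]

lemma cross_eq_one (h01 : ∀ a : F, a = 0 ∨ a = 1) (h2 : (2 : F) = 0) {c d : Fin 2 → F} (hc : c ≠ 0)
    (hd : d ≠ 0) (hcd : c ≠ d) : c 0 * d 1 + c 1 * d 0 = 1 := by
  simp only [Ne, funext_iff, Fin.forall_fin_two, Pi.zero_apply] at hc hd hcd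
  rcases h01 (c 0) with e0 | e0 <;> rcases h01 (c 1) with e1 | e1 <;>
    rcases h01 (d 0) with e2 | e2 <;> rcases h01 (d 1) with e3 | e3 <;>
    simp_all [one_add_one_eq_two]

theorem plane_not_maximal [Fintype F] (hq : Fintype.card F = 2) {t : ℕ}
    {D : Fin t → Submodule F (ι → F)} (hD : IsMDecomposition 2 D) (hn : 8 ≤ Fintype.card ι) :
    ∃ K : Subgroup (GL ι F),
      decompositionStabilizer D ⊓ specialLinear ι F < K ∧ K < specialLinear ι F := by
  classical
  have h01 : ∀ a : F, a = 0 ∨ a = 1 := by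
    intro a
    by_contra h
    push Not at h
    have : ({0, 1, a} : Finset F).card = 3 := by
      rw [Finset.card_insert_of_notMem (by simp [h.1.symm]), Finset.card_insert_of_notMem
        (by simp [h.2.symm]), Finset.card_singleton]
    have := Finset.card_le_univ ({0, 1, a} : Finset F)
    omega
  have h2 : (2 : F) = 0 := by
    rcases h01 2 with h | h
    · exact h
    · exact absurd (by linear_combination h : (1 : F) = 0) one_ne_zero
  have hint : DirectSum.IsInternal D :=
    DirectSum.isInternal_submodule_of_iSupIndep_of_iSup_eq_top hD.indep hD.iSup_eq_top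
  set bi := fun i => Module.finBasisOfFinrankEq F (D i) (hD.finrank_eq i)
  set b := hint.collectedBasis bi with hbdef
  have hbm : ∀ i k, b ⟨i, k⟩ ∈ D i := fun i k => hint.collectedBasis_mem bi ⟨i, k⟩
  have ht : 2 * t = Fintype.card ι := by
    have h := Module.finrank_eq_card_basis b
    rw [Module.finrank_fintype_fun_eq_card, Fintype.card_sigma] at h
    simp at h
    omega
  let p : (Σ _ : Fin t, Fin 2) → (Σ _ : Fin t, Fin 2) := fun s => ⟨s.1, s.2.rev⟩
  have hp : Function.Involutive p := fun s => by simp [p]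
  set f := coordForm b p (RingHom.id F) with hf
  have hH : IsHermLike (RingHom.id F) f := isHermLike_coordForm b hp fun _ => rfl
  have hB : ∀ r s, f (b r) (b s) = if s = p r then 1 else 0 := coordForm_basis b hp _
  -- expansion inside one component
  have hexp : ∀ i, ∀ x ∈ D i, ∃ c : Fin 2 → F, x = c 0 • b ⟨i, 0⟩ + c 1 • b ⟨i, 1⟩ := by
    intro i x hx
    refine ⟨fun k => (bi i).repr ⟨x, hx⟩ k, ?_⟩
    have h := congrArg Subtype.val ((bi i).sum_repr ⟨x, hx⟩)
    rw [Fin.sum_univ_two] at h
    simp only [hbdef, hint.collectedBasis_coe]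
    exact h.symm
  have hpair : ∀ (i : Fin t) (c d : Fin 2 → F),
      f (c 0 • b ⟨i, 0⟩ + c 1 • b ⟨i, 1⟩) (d 0 • b ⟨i, 0⟩ + d 1 • b ⟨i, 1⟩) = c 0 * d 1 + c 1 * d 0 := by
    intro i c d
    simp [hH.add_left, hH.add_right, hH.smul_left, hH.smul_right, hB, p]
  have hcross : ∀ i j, i ≠ j → ∀ x ∈ D i, ∀ y ∈ D j, f x y = 0 := by
    intro i j hij x hx y hy
    obtain ⟨c, rfl⟩ := hexp i x hx
    obtain ⟨d, rfl⟩ := hexp j y hy
    simp [hH.add_left, hH.add_right, hH.smul_left, hH.smul_right, hB, p, Ne.symm hij]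
  let ix : Fin 4 ↪ Fin t := Fin.castLEEmb (by omega)
  refine not_maximal_of_form hH (fun g hg x y => ?_) (v := b ⟨ix 0, 0⟩ + b ⟨ix 1, 0⟩)
    (v' := b ⟨ix 2, 0⟩ + b ⟨ix 3, 0⟩) (hbm (ix 0) 1) ?_ ?_ ?_ ?_ ?_
  · obtain ⟨σ, hσ⟩ := hg
    have hmem : ∀ i k, (g : Matrix ι ι F) *ᵥ b ⟨i, k⟩ ∈ D (σ i) := fun i k => by
      rw [← hσ i]; exact ⟨_, hbm i k, Matrix.toLin'_apply _ _⟩
    refine form_eq_of_basis b (hH.pullback g) hH ?_ x y
    rintro ⟨i, k⟩ ⟨j, l⟩
    by_cases hij : i = j
    · subst hij
      obtain ⟨c, hc⟩ := hexp (σ i) _ (hmem i k)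
      obtain ⟨d, hd⟩ := hexp (σ i) _ (hmem i l)
      rw [hc, hd, hpair, hB]
      by_cases hkl : k = l
      · subst hkl
        have : c = d := by
          have h1 := congrArg (fun z => b.repr z ⟨σ i, 0⟩) (hc.symm.trans hd)
          have h2 := congrArg (fun z => b.repr z ⟨σ i, 1⟩) (hc.symm.trans hd)
          simp at h1 h2
          funext a
          fin_cases a <;> assumption
        subst this
        rw [if_neg (show (⟨i, k⟩ : Σ _ : Fin t, Fin 2) ≠ p ⟨i, k⟩ from fun e => (by decide : ∀ a : Fin 2, a ≠ a.rev) k (eq_of_heq (Sigma.mk.inj e).2))]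
        linear_combination (c 0 * c 1) * h2
      · have hl : l = k.rev := (by decide : ∀ a b : Fin 2, a ≠ b → b = a.rev) k l hkl
        rw [if_pos (by subst hl; rfl)]
        have hne : ∀ s, (g : Matrix ι ι F) *ᵥ b s ≠ 0 := fun s => gl_mulVec_ne_zero g (b.ne_zero s)
        have hd' : c ≠ d := fun e => hkl (by
          subst e
          have := b.injective (gl_mulVec_injective g (hc.trans hd.symm))
          simpa using this)
        exact cross_eq_one h01 h2 (fun e => hne ⟨i, k⟩ (by simp [hc, e]))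
          (fun e => hne ⟨i, l⟩ (by simp [hd, e])) hd'
    · rw [hcross (σ i) (σ j) (fun e => hij (σ.injective e)) _ (hmem i k) _ (hmem j l), hB,
        if_neg (fun e => hij (congrArg Sigma.fst e).symm)]
  · simp [hH.add_left, hH.add_right, hB, p, ix.injective.eq_iff, h2]
  · simp [hH.add_left, hH.add_right, hB, p, ix.injective.eq_iff, h2]
  · simp [hH.add_right, hB, p, ix.injective.eq_iff]
  · intro j hj
    have h0 : f (b ⟨ix 0, 1⟩) (b ⟨ix 0, 0⟩ + b ⟨ix 1, 0⟩) = 1 := by
      simp [hH.add_right, hB, p, ix.injective.eq_iff]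
    rw [h0, one_smul] at hj
    obtain ⟨c, hc⟩ := hexp j _ hj
    have h1 := congrArg (fun z => b.repr z ⟨ix 0, 1⟩) hc
    have h3 := congrArg (fun z => b.repr z ⟨ix 1, 0⟩) hc
    simp [ix.injective.eq_iff, Finsupp.single_apply] at h1 h3
    have e1 : j = ix 0 := by
      by_contra e; rw [if_neg e] at h1; exact one_ne_zero h1
    have e3 : j = ix 1 := by
      by_contra e; rw [if_neg e] at h3; exact one_ne_zero h3
    exact absurd (ix.injective (e1.symm.trans e3)) (by decide)
  · obtain ⟨T, hT, hTW, hTx⟩ := exists_tvGL_sep (W := Submodule.span F {b ⟨ix 1, 1⟩})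
      (u := b ⟨ix 1, 0⟩) (x := b ⟨ix 0, 0⟩) (by
        rw [← Submodule.span_union]
        intro h
        obtain ⟨p', q', hpq⟩ := Submodule.mem_span_pair.1 (by simpa [Set.pair_comm] using h)
        have := congrArg (fun z => b.repr z ⟨ix 0, 0⟩) hpq
        simp [ix.injective.eq_iff, Finsupp.single_apply] at this)
    refine ⟨T, hT, b ⟨ix 0, 0⟩, b ⟨ix 1, 1⟩, ?_⟩
    rw [hTx, hTW _ (Submodule.mem_span_singleton_self _), hH.add_left]
    simp [hB, p, ix.injective.eq_iff]

end CfsgLib.ClassicalMax.DecompNot
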