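/-
The stabiliser of a tensor decomposition with a two-dimensional factor over the field with two elements
normalises a field structure, hence is not maximal.
-/
import Cfsg.Prelude.Def_GeometricClasses
import Mathlib
set_option autoImplicit false

namespace CfsgLib.ClassicalMax.TwoBlock

open Matrix Kronecker Cfsg.Geo

variable {F : Type*} [Field F]

/-- The elements mapping `t` to itself or its inverse. -/
def flipGroup {G : Type*} [Group G] (t : G) : Subgroup G where
  carrier := {g | g * t * g⁻¹ = t ∨ g * t * g⁻¹ = t⁻¹}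
  one_mem' := Or.inl (by simp)
  mul_mem' := by
    intro a b ha hb
    have e : a * b * t * (a * b)⁻¹ = a * (b * t * b⁻¹) * a⁻¹ := by group
    simp only [Set.mem_setOf_eq, e]
    rcases hb with h | h <;> rw [h]
    · exact ha
    · have e2 : a * t⁻¹ * a⁻¹ = (a * t * a⁻¹)⁻¹ := by group
      rw [e2]; rcases ha with h' | h' <;> rw [h'] <;> simp
  inv_mem' := by
    intro a ha
    rcases ha with h | h
    · exact Or.inl (by conv_lhs => rw [← h]
                       group)
    · refine Or.inr ?_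
      have h2 : a * t⁻¹ * a⁻¹ = t := by
        rw [show a * t⁻¹ * a⁻¹ = (a * t * a⁻¹)⁻¹ by group, h, inv_inv]
      conv_lhs => rw [← h2]
      group

lemma mem_flipGroup {G : Type*} [Group G] {t g : G} :
    g ∈ flipGroup t ↔ g * t * g⁻¹ = t ∨ g * t * g⁻¹ = t⁻¹ := Iff.rfl

/-- Block diagonal matrices. -/
noncomputable def blk (o : ℕ) : (Fin o → GL (Fin 2) F) →* GL (Fin 2 × Fin o) F :=
  (Units.map (Matrix.blockDiagonalRingHom (Fin 2) (Fin o) F).toMonoidHom).comp
    MulEquiv.piUnits.symm.toMonoidHom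

@[simp] lemma coe_blk (o : ℕ) (M : Fin o → GL (Fin 2) F) :
    (blk o M : Matrix (Fin 2 × Fin o) (Fin 2 × Fin o) F) = blockDiagonal fun j => (M j : Matrix _ _ F) :=
  rfl

lemma blk_injective (o : ℕ) : Function.Injective (blk (F := F) o) := fun M N h => by
  funext j
  refine Units.ext ?_
  have h' : (blk o M : Matrix (Fin 2 × Fin o) (Fin 2 × Fin o) F) = blk o N := congrArg Units.val h
  rw [coe_blk, coe_blk, blockDiagonal_inj] at h'
  exact congrFun h' j

lemma zero_or_one [Fintype F] (hq : Fintype.card F = 2) (x : F) : x = 0 ∨ x = 1 := by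
  classical
  by_contra h
  push Not at h
  have h3 : ({0, 1, x} : Finset F).card = 3 := by
    rw [Finset.card_insert_of_notMem (by simp [h.1.symm]), Finset.card_pair h.2.symm]
  have := Finset.card_le_univ ({0, 1, x} : Finset F)
  omega

/-- The element of order three. -/
def w3 [CharP F 2] : GL (Fin 2) F :=
  ⟨!![0, 1; 1, 1], !![1, 1; 1, 0],
    by ext i j; fin_cases i <;> fin_cases j <;> simp [CharTwo.add_self_eq_zero],
    by ext i j; fin_cases i <;> fin_cases j <;> simp [CharTwo.add_self_eq_zero]⟩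

/-- The swap. -/
def sw : GL (Fin 2) F :=
  ⟨!![0, 1; 1, 0], !![0, 1; 1, 0], by ext i j; fin_cases i <;> fin_cases j <;> simp,
    by ext i j; fin_cases i <;> fin_cases j <;> simp⟩

lemma conj_w3 [Fintype F] [CharP F 2] (hq : Fintype.card F = 2) (a : GL (Fin 2) F) :
    a * w3 * a⁻¹ = w3 ∨ a * w3 * a⁻¹ = w3⁻¹ := by
  rw [mul_inv_eq_iff_eq_mul, mul_inv_eq_iff_eq_mul, ← Units.val_inj, ← Units.val_inj,
    Units.val_mul, Units.val_mul, Units.val_mul]
  have hdet : (a : Matrix (Fin 2) (Fin 2) F).det ≠ 0 := (Matrix.GeneralLinearGroup.det a).ne_zero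
  rw [Matrix.det_fin_two] at hdet
  show (a : Matrix _ _ F) * !![0, 1; 1, 1] = !![0, 1; 1, 1] * (a : Matrix _ _ F) ∨
    (a : Matrix _ _ F) * !![0, 1; 1, 1] = !![1, 1; 1, 0] * (a : Matrix _ _ F)
  rw [Matrix.eta_fin_two (a : Matrix (Fin 2) (Fin 2) F)]
  revert hdet
  rcases zero_or_one hq ((a : Matrix (Fin 2) (Fin 2) F) 0 0) with h1 | h1 <;>
  rcases zero_or_one hq ((a : Matrix (Fin 2) (Fin 2) F) 0 1) with h2 | h2 <;>
  rcases zero_or_one hq ((a : Matrix (Fin 2) (Fin 2) F) 1 0) with h3 | h3 <;>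
  rcases zero_or_one hq ((a : Matrix (Fin 2) (Fin 2) F) 1 1) with h4 | h4 <;>
  simp [h1, h2, h3, h4, CharTwo.add_self_eq_zero, funext_iff, Fin.forall_fin_two]

theorem tensor_two_not_maximal {ι : Type} [Fintype ι] [DecidableEq ι] [Fintype F]
    (hq : Fintype.card F = 2) {n₂ : ℕ} (hn : 2 ≤ n₂) (e : ι ≃ Fin 2 × Fin n₂) (P : GL ι F) :
    ∃ K : Subgroup (GL ι F),
      tensorProductSubgroup 2 n₂ e P ⊓ specialLinear ι F < K ∧ K < specialLinear ι F := by
  classical
  haveI : CharP F 2 := CharTwo.of_one_ne_zero_of_two_eq_zero one_ne_zero (by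
    have := FiniteField.cast_card_eq_zero F; rw [hq] at this; simpa using this)
  haveI : Subsingleton Fˣ := Fintype.card_le_one_iff_subsingleton.1 (by
    rw [Fintype.card_units, hq])
  have hsl : specialLinear ι F = ⊤ := eq_top_iff.2 fun g _ =>
    MonoidHom.mem_ker.2 (Subsingleton.elim _ _)
  let Φ : GL (Fin 2 × Fin n₂) F ≃* GL ι F := (glReindex e.symm).trans (MulAut.conj P)
  let t : GL (Fin 2 × Fin n₂) F := blk n₂ fun _ => w3
  let j0 : Fin n₂ := ⟨0, by omega⟩
  let j1 : Fin n₂ := ⟨1, by omega⟩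
  have hj : j1 ≠ j0 := by simp [j0, j1, Fin.ext_iff]
  rw [hsl, inf_top_eq]
  refine ⟨(flipGroup t).map Φ.toMonoidHom, lt_of_le_of_ne ?_ ?_, lt_top_iff_ne_top.2 ?_⟩
  · rintro x ⟨y, ⟨g, ⟨a, b, hg⟩, rfl⟩, rfl⟩
    refine Subgroup.mem_map.2 ⟨g, ?_, rfl⟩
    have key : g * t = blk n₂ (fun _ => a * w3 * a⁻¹) * g := by
      refine Units.ext ?_
      simp only [t, Units.val_mul, coe_blk, hg, ← kronecker_one, ← mul_kronecker_mul, mul_one, one_mul]
      rw [mul_assoc _ _ (a : Matrix (Fin 2) (Fin 2) F), Units.inv_mul, mul_one]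
    rw [mem_flipGroup, key, mul_inv_cancel_right, ← map_inv]
    rcases conj_w3 hq a with h | h
    · exact Or.inl (by simp only [t, h])
    · exact Or.inr (by simp only [h]; rfl)
  · intro h
    have hm : Φ (blk n₂ (Pi.mulSingle j0 w3)) ∈ (flipGroup t).map Φ.toMonoidHom := by
      refine Subgroup.mem_map.2 ⟨_, Or.inl ?_, rfl⟩
      rw [mul_inv_eq_iff_eq_mul]
      simp only [t, ← map_mul]
      congr 1
      funext j
      rcases eq_or_ne j j0 with rfl | hne
      · simp
      · simp [hne]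
    rw [← h] at hm
    obtain ⟨y, ⟨g, ⟨a, b, hg⟩, rfl⟩, hy⟩ := hm
    have hy' : g = blk n₂ (Pi.mulSingle j0 w3) := Φ.injective hy
    rw [hy', coe_blk] at hg
    have h00 := congrFun (congrFun hg (0, j0)) (0, j0)
    have h01 := congrFun (congrFun hg (0, j1)) (0, j1)
    have h10 := congrFun (congrFun hg (0, j0)) (1, j0)
    simp [blockDiagonal_apply, kroneckerMap_apply, w3, hj] at h00 h01 h10
    rcases h00 with h00 | h00
    · rw [h00, zero_mul] at h01; exact one_ne_zero h01
    · rw [h00, mul_zero] at h10; exact one_ne_zero h10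
  · intro h
    have hm : Φ (blk n₂ (Pi.mulSingle j0 sw)) ∈ (flipGroup t).map Φ.toMonoidHom := h ▸ trivial
    obtain ⟨y, hy, hy'⟩ := Subgroup.mem_map.1 hm
    obtain rfl : y = blk n₂ (Pi.mulSingle j0 sw) := Φ.injective hy'
    rw [mem_flipGroup] at hy
    simp only [t, ← map_inv, ← map_mul, (blk_injective n₂).eq_iff] at hy
    rcases hy with hy | hy
    · have := congrArg (fun M : GL (Fin 2) F => (M : Matrix (Fin 2) (Fin 2) F) 0 0) (congrFun hy j0)
      simp [sw, w3, Units.inv_mk, Matrix.mul_fin_two] at this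
    · have := congrArg (fun M : GL (Fin 2) F => (M : Matrix (Fin 2) (Fin 2) F) 0 0) (congrFun hy j1)
      simp [w3, hj, Units.inv_mk] at this

end CfsgLib.ClassicalMax.TwoBlock
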