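/-
Over the field with two elements a symplectic decomposition into planes preserves a quadratic form.
-/
import Cfsg.Agent.Lib.ClassicalMax.Frames
import Cfsg.Agent.Lib.ClassicalMax.TwoBlock
import Cfsg.Agent.Lib.ClassicalMax.UnitFrame
import Cfsg.Agent.Lib.ClassicalMax.SympTools
set_option autoImplicit false

namespace CfsgLib.ClassicalMax.SympPlanes

open Matrix Cfsg.Geo Frames

variable {ι : Type} [Fintype ι] [DecidableEq ι] {F : Type*} [Field F]
  {f : (ι → F) → (ι → F) → F}

/-- The isometries of a function. -/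
def keep (Q : (ι → F) → F) : Subgroup (GL ι F) where
  carrier := {g | ∀ x, Q ((g : Matrix ι ι F) *ᵥ x) = Q x}
  one_mem' x := by simp
  mul_mem' {a b} ha hb x := by rw [Units.val_mul, ← Matrix.mulVec_mulVec, ha, hb]
  inv_mem' {a} ha x := by
    conv_rhs => rw [← gl_mulVec_inv_mulVec a x]
    exact (ha _).symm

theorem plane_not_maximal [Fintype F] (hq : Fintype.card F = 2) (hf : IsSymplecticForm f)
    (hn : 14 ≤ Fintype.card ι) {t : ℕ} {D : Fin t → Submodule F (ι → F)}
    (hD : IsNondegenerateMDecomposition f 2 D) :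
    ∃ K : Subgroup (GL ι F), decompositionStabilizer D ⊓ isoOf f < K ∧ K < isoOf f := by
  classical
  haveI : CharP F 2 := CharTwo.of_one_ne_zero_of_two_eq_zero one_ne_zero (by
    have := FiniteField.cast_card_eq_zero F; rw [hq] at this; simpa using this)
  have h01 := TwoBlock.zero_or_one hq
  have ht := Unit.Frame.card_blocks hD.decomp
  have hint : DirectSum.IsInternal D :=
    DirectSum.isInternal_submodule_of_iSupIndep_of_iSup_eq_top hD.decomp.indep hD.decomp.iSup_eq_top
  let P : (ι → F) ≃ₗ[F] (DirectSum (Fin t) fun i => D i) :=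
    (LinearEquiv.ofBijective (DirectSum.coeLinearMap D) hint).symm
  let pr : Fin t → (ι → F) → (ι → F) := fun i x => ((P x i : D i) : ι → F)
  have prmem : ∀ i x, pr i x ∈ D i := fun i x => (P x i).2
  have prsum : ∀ x, ∑ i, pr i x = x := fun x => by
    conv_rhs => rw [← P.symm_apply_apply x, ← DirectSum.sum_univ_of (P x), map_sum]
    exact Finset.sum_congr rfl fun i _ => (DirectSum.coeLinearMap_of D i _).symm
  have prof : ∀ i, ∀ x ∈ D i, ∀ j, pr j x = if j = i then x else 0 := by
    intro i x hx j
    have : P x = DirectSum.of (fun i => D i) i ⟨x, hx⟩ := by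
      apply P.symm.injective
      rw [LinearEquiv.symm_apply_apply]
      exact (DirectSum.coeLinearMap_of D i ⟨x, hx⟩).symm
    simp only [pr, this, DirectSum.of_apply]
    split_ifs with h1 h2 h3
    · subst h1; rfl
    · exact absurd h1.symm h2
    · exact absurd h3.symm h1
    · rfl
  have pradd : ∀ i x y, pr i (x + y) = pr i x + pr i y := fun i x y => by simp [pr, map_add]
  have hfb : ∀ x y, f x y = ∑ i, f (pr i x) (pr i y) := fun x y => by
    conv_lhs => rw [← prsum x, ← prsum y]
    rw [← bilinOf_apply hf.bilinear, map_sum]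
    refine Finset.sum_congr rfl fun i _ => ?_
    rw [map_sum, LinearMap.sum_apply, Finset.sum_eq_single i]
    · rfl
    · exact fun j _ hji => hD.orthogonal j i hji _ (prmem j x) _ (prmem i y)
    · simp
  let nz : (ι → F) → F := fun x => if x = 0 then 0 else 1
  let Q : (ι → F) → F := fun x => ∑ i, nz (pr i x)
  have hnz : ∀ i, ∀ u ∈ D i, ∀ v ∈ D i, nz (u + v) = nz u + nz v + f u v := by
    intro i u hu v hv
    rcases eq_or_ne u 0 with rfl | hu0
    · simp [nz, form_zero_left hf.bilinear]
    rcases eq_or_ne v 0 with rfl | hv0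
    · simp [nz, form_zero_right hf.bilinear]
    rcases eq_or_ne u v with rfl | huv
    · simp [nz, hu0, hf.alternating, show u + u = 0 from funext fun k => CharTwo.add_self_eq_zero (u k),
        CharTwo.add_self_eq_zero]
    have huv0 : u + v ≠ 0 := fun h => huv (funext fun k => CharTwo.add_eq_zero.1 (congrFun h k))
    simp only [nz, hu0, hv0, huv0, if_false]
    have hne : f u v ≠ 0 := by
      intro h0
      have hli : LinearIndependent F ![u, v] := (LinearIndependent.pair_iff' hu0).2 fun a ha => by
        rcases h01 a with rfl | rfl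
        · exact hv0 (by rw [← ha, zero_smul])
        · exact huv (by rw [← ha, one_smul])
      have hS : Submodule.span F (Set.range ![u, v]) = D i := by
        refine Submodule.eq_of_le_of_finrank_eq (Submodule.span_le.2 (Set.range_subset_iff.2
          fun i => by fin_cases i <;> assumption)) ?_
        rw [finrank_span_eq_card hli, Fintype.card_fin, hD.decomp.finrank_eq]
      obtain ⟨-, y, hy, huy⟩ := hD.nondegenerate i u hu hu0
      rw [← hS, Matrix.range_cons_cons_empty] at hy
      obtain ⟨a, b, rfl⟩ := Submodule.mem_span_pair.1 hy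
      exact huy (by rw [hf.bilinear.add_right, hf.bilinear.smul_right, hf.bilinear.smul_right,
        hf.alternating, h0, mul_zero, mul_zero, add_zero])
    rw [(h01 _).resolve_left hne, CharTwo.add_self_eq_zero, zero_add]
  have Qadd : ∀ x y, Q (x + y) = Q x + Q y + f x y := fun x y => by
    simp only [Q, pradd, hfb x y, ← Finset.sum_add_distrib]
    exact Finset.sum_congr rfl fun i _ => hnz i _ (prmem i x) _ (prmem i y)
  have Qsingle : ∀ i, ∀ x ∈ D i, x ≠ 0 → Q x = 1 := fun i x hx hx0 => by
    simp only [Q, nz, prof i x hx]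
    rw [Finset.sum_eq_single i (fun j _ hj => by simp [hj]) (by simp)]
    simp [hx0]
  have Qzero : Q 0 = 0 := by
    have := Qadd 0 0
    rw [add_zero, form_zero_left hf.bilinear, add_zero, CharTwo.add_self_eq_zero] at this
    exact this
  -- a vector in each member
  have hne : ∀ i, ∃ x ∈ D i, x ≠ 0 := fun i => Submodule.exists_mem_ne_zero_of_ne_bot fun h => by
    have := hD.decomp.finrank_eq i; rw [h, finrank_bot] at this; omega
  choose a haD ha0 using hne
  have hc : ∀ c, f (a c) (a c) = 0 := fun c => hf.alternating _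
  have horth : ∀ i j, i ≠ j → f (a i) (a j) = 0 := fun i j h =>
    hD.orthogonal i j h _ (haD i) _ (haD j)
  let i0 : Fin t := ⟨0, by omega⟩
  let i1 : Fin t := ⟨1, by omega⟩
  let i2 : Fin t := ⟨2, by omega⟩
  have h01' : i0 ≠ i1 := by simp [i0, i1, Fin.ext_iff]
  have h02 : i0 ≠ i2 := by simp [i0, i2, Fin.ext_iff]
  have h12 : i1 ≠ i2 := by simp [i1, i2, Fin.ext_iff]
  obtain ⟨-, y, hy, hay⟩ := hD.nondegenerate i0 _ (haD i0) (ha0 i0)
  have hya : f y (a i0) = 1 := (h01 _).resolve_left fun h => hay (by rw [hf.skew, h, neg_zero])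
  have hy0 : y ≠ 0 := fun h => hay (by rw [h, form_zero_right hf.bilinear])
  have hyo : ∀ j, i0 ≠ j → f y (a j) = 0 := fun j hj => hD.orthogonal i0 j hj _ hy _ (haD j)
  refine ⟨keep Q ⊓ isoOf f, lt_of_le_of_ne ?_ ?_, lt_of_le_of_ne inf_le_right ?_⟩
  · intro g hg
    refine ⟨fun x => ?_, hg.2⟩
    obtain ⟨π, hπ⟩ := hg.1
    have hgpr : ∀ i, (g : Matrix ι ι F) *ᵥ pr i x ∈ D (π i) := fun i => by
      rw [← hπ i]; exact ⟨_, prmem i x, Matrix.toLin'_apply _ _⟩
    have hpr : ∀ j, pr j ((g : Matrix ι ι F) *ᵥ x) = (g : Matrix ι ι F) *ᵥ pr (π.symm j) x := by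
      intro j
      let L : (ι → F) →+ (ι → F) := AddMonoidHom.mk' (pr j) (pradd j)
      conv_lhs => rw [← prsum x, mulVec_sum]
      change L (∑ i, _) = _
      rw [map_sum, Finset.sum_eq_single (π.symm j)]
      · change pr j _ = _
        rw [prof _ _ (hgpr _) j, if_pos (π.apply_symm_apply j).symm]
      · intro i _ hi
        change pr j _ = 0
        rw [prof _ _ (hgpr _) j, if_neg fun h => hi (by rw [h, π.symm_apply_apply])]
      · simp
    simp only [Q, hpr]
    rw [← Equiv.sum_comp π]
    refine Finset.sum_congr rfl fun i _ => ?_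
    simp only [Equiv.symm_apply_apply, nz]
    congr 1
    exact propext ⟨fun h => Matrix.mulVec_injective_iff_isUnit.2 g.isUnit (by simpa using h),
      fun h => by rw [h, mulVec_zero]⟩
  · intro heq
    set v := a i0 + a i1 + a i2 with hv
    have hQv : Q v = 1 := by
      rw [hv, Qadd, Qadd, Qsingle _ _ (haD i0) (ha0 _), Qsingle _ _ (haD i1) (ha0 _),
        Qsingle _ _ (haD i2) (ha0 _), hf.bilinear.add_left, horth _ _ h01', horth _ _ h02,
        horth _ _ h12, CharTwo.add_self_eq_zero]
      ring
    have hmem : sTv f v 1 ∈ keep Q ⊓ isoOf f := by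
      refine ⟨fun x => ?_, sTv_mem_isoOf hf v 1⟩
      rw [sTv_mulVec hf, one_mul, Qadd, hf.bilinear.smul_right]
      rcases h01 (f x v) with h | h <;> rw [h]
      · simp [Qzero]
      · rw [one_smul, hQv, one_mul]; linear_combination CharTwo.add_self_eq_zero (1 : F)
    rw [← heq] at hmem
    obtain ⟨j, hj⟩ := exists_block_image hmem.1 i0
    have h := hj y hy
    rw [sTv_mulVec hf, one_mul, show f y v = 1 by
      rw [hv, hf.bilinear.add_right, hf.bilinear.add_right, hya, hyo _ h01', hyo _ h02]; ring,
      one_smul] at h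
    have e1 : ∀ k, k ≠ i0 → pr k (y + v) = if k = i1 then a i1 else if k = i2 then a i2 else 0 := by
      intro k hk
      rw [hv, pradd, pradd, pradd, prof _ _ hy, prof _ _ (haD i0), prof _ _ (haD i1),
        prof _ _ (haD i2), if_neg hk, if_neg hk]
      split_ifs with h1 h2 <;> simp
      exact absurd (h1.symm.trans h2) h12
    have hk : ∀ k, k ≠ j → pr k (y + v) = 0 := fun k hk => by rw [prof _ _ h, if_neg hk]
    by_cases hj1 : i1 = j
    · have := hk i2 (fun e => h12 (hj1.trans e.symm))
      rw [e1 i2 h02.symm, if_neg h12.symm, if_pos rfl] at this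
      exact ha0 _ this
    · have := hk i1 hj1
      rw [e1 i1 h01'.symm, if_pos rfl] at this
      exact ha0 _ this
  · intro heq
    set v := a i0 + a i1 with hv
    have hQv : Q v = 0 := by
      rw [hv, Qadd, Qsingle _ _ (haD i0) (ha0 _), Qsingle _ _ (haD i1) (ha0 _), horth _ _ h01',
        CharTwo.add_self_eq_zero, add_zero]
    have hm' : sTv f v 1 ∈ keep Q ⊓ isoOf f := by rw [heq]; exact sTv_mem_isoOf hf v 1
    have hm := hm'.1
    have h := hm y
    rw [sTv_mulVec hf, one_mul, show f y v = 1 by
      rw [hv, hf.bilinear.add_right, hya, hyo _ h01', add_zero], one_smul, Qadd, hQv,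
      show f y v = 1 by rw [hv, hf.bilinear.add_right, hya, hyo _ h01', add_zero]] at h
    exact one_ne_zero (by linear_combination h)

end CfsgLib.ClassicalMax.SympPlanes
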