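/-
A symplectic tensor product with a three-dimensional orthogonal factor over three elements preserves a
decomposition into three parts.
-/
import Cfsg.Agent.Lib.ClassicalMax.TensorTools
import Cfsg.Agent.Lib.ClassicalMax.OrthThree
import Cfsg.Agent.Lib.ClassicalMax.SympTools
set_option autoImplicit false

namespace CfsgLib.ClassicalMax.SympTensor

open Matrix Kronecker Cfsg.Geo CfsgLib.ClassicalMax.Tensor

variable {ι : Type} [Fintype ι] [DecidableEq ι] {F : Type*} [Field F]
  {f : (ι → F) → (ι → F) → F}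

lemma pureL_swap {n₁ n₂ : ℕ} (e : ι ≃ Fin n₁ × Fin n₂) (P : GL ι F) (u : Fin n₁ → F)
    (w : Fin n₂ → F) : pureL (e.trans (Equiv.prodComm _ _)) P w u = pureL e P u w := by
  rw [pureL_eq, pureL_eq]
  congr 1
  funext i
  exact mul_comm _ _

theorem tensor_three_not_maximal [Fintype F] (hq : Fintype.card F = 3) (hf : IsSymplecticForm f)
    {n₁ : ℕ} (e : ι ≃ Fin n₁ × Fin 3) (hn : 0 < n₁) (P : GL ι F)
    {f₁ : (Fin n₁ → F) → (Fin n₁ → F) → F} {f₂ : (Fin 3 → F) → (Fin 3 → F) → F}
    (hf₁ : IsSymplecticForm f₁) (hf₂ : IsSymmetricForm f₂) {c : F} (hc0 : c ≠ 0)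
    (hc : ∀ x y : Fin n₁ × Fin 3 → F,
      f ((P : Matrix ι ι F) *ᵥ (x ∘ e)) ((P : Matrix ι ι F) *ᵥ (y ∘ e)) =
        c * formOfGram id (gramMatrix f₁ ⊗ₖ gramMatrix f₂) x y) :
    ∃ K : Subgroup (GL ι F), tensorProductSubgroup n₁ 3 e P ⊓ isoOf f < K ∧ K < isoOf f := by
  classical
  have hform := form_pureL e P (σ := id) (fun _ _ => rfl) hc
    (formOfGram_gram hf₁.bilinear.add_left hf₁.bilinear.smul_left hf₁.bilinear.add_right
      hf₁.bilinear.smul_right)
    (formOfGram_gram hf₂.bilinear.add_left hf₂.bilinear.smul_left hf₂.bilinear.add_right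
      hf₂.bilinear.smul_right)
  set e' := e.trans (Equiv.prodComm _ _)
  have hform' : ∀ (u u' : Fin 3 → F) (w w' : Fin n₁ → F),
      f (pureL e' P u w) (pureL e' P u' w') = c * (f₁ w w' * f₂ u u') := fun u u' w w' => by
    rw [pureL_swap, pureL_swap, hform]
  obtain ⟨d, u, hu⟩ := OrthThree.exists_triple hq hf₂.bilinear hf₂.symm
    (W := (⊤ : Submodule F (Fin 3 → F))) (by rw [finrank_top, Module.finrank_fintype_fun_eq_card,
      Fintype.card_fin]) (fun w _ hw => ⟨(hf₂.nondegenerate w hw).1.imp fun x hx => ⟨trivial, hx⟩,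
      (hf₂.nondegenerate w hw).2.imp fun x hx => ⟨trivial, hx⟩⟩)
  have hu0 : ∀ k, u k ≠ 0 := fun k => hu.li.ne_zero k
  let w : Fin n₁ → F := Pi.single ⟨0, hn⟩ 1
  have hw0 : w ≠ 0 := by simp [w]
  obtain ⟨⟨z, hz⟩, -⟩ := hf₁.nondegenerate w hw0
  have hzw : ∀ r : F, z ≠ r • w := fun r h => hz (by
    rw [h, hf₁.bilinear.smul_left, hf₁.alternating, mul_zero])
  have h22 : f₂ (u 0) (u 1) = 0 := by rw [hu.form, if_neg (by decide)]
  refine ⟨decompositionStabilizer (parts e' P u) ⊓ isoOf f, lt_of_le_of_ne ?_ ?_,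
    lt_of_le_of_ne inf_le_right ?_⟩
  · intro g hg
    refine ⟨?_, hg.2⟩
    obtain ⟨a, b, hab⟩ := exists_factors e P hg.1
    have hab' : ∀ x v, (g : Matrix ι ι F) *ᵥ pureL e' P x v =
        pureL e' P ((b : Matrix _ _ F) *ᵥ x) ((a : Matrix _ _ F) *ᵥ v) := fun x v => by
      rw [pureL_swap, pureL_swap, hab]
    have h : ∀ k l, f₁ ((a : Matrix _ _ F) *ᵥ z) ((a : Matrix _ _ F) *ᵥ w) *
        f₂ ((b : Matrix _ _ F) *ᵥ u k) ((b : Matrix _ _ F) *ᵥ u l) = f₁ z w * f₂ (u k) (u l) := by
      intro k l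
      have := hg.2 (pureL e' P (u k) z) (pureL e' P (u l) w)
      change f ((g : Matrix ι ι F) *ᵥ _) ((g : Matrix ι ι F) *ᵥ _) = _ at this
      rw [hab', hab', hform', hform'] at this
      exact mul_left_cancel₀ hc0 this
    set A := f₁ ((a : Matrix _ _ F) *ᵥ z) ((a : Matrix _ _ F) *ᵥ w)
    have hA : A ≠ 0 := fun h0 => by
      have := h 0 0
      rw [h0, zero_mul, hu.form, if_pos rfl] at this
      exact mul_ne_zero hz hu.d_ne this.symm
    have hb : ∀ k l, f₂ ((b : Matrix _ _ F) *ᵥ u k) ((b : Matrix _ _ F) *ᵥ u l) =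
        f₁ z w / A * if k = l then d else 0 := fun k l => by
      rw [div_mul_eq_mul_div, eq_div_iff hA, ← hu.form, ← h k l]; ring
    have hone : f₁ z w / A = 1 := by
      rcases OrthThree.cases_three hq (f₁ z w / A) with e1 | e1 | e1
      · exact absurd e1 (div_ne_zero hz hA)
      · exact e1
      · exfalso
        refine OrthThree.not_anti hq hf₂.bilinear hu (x := fun k => (b : Matrix _ _ F) *ᵥ u k)
          (fun _ => trivial) fun k l => ?_
        rw [hb, e1]
        split_ifs <;> ring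
    exact mem_parts_stab e' P hu.li hab' fun k => hu.line _ trivial (by
      rw [hb, hone, if_pos rfl, one_mul])
  · intro heq
    set v := pureL e' P (u 0) w with hv
    have hfix : ∀ k, k ≠ 0 → ∀ y, (sTv f v 1 : Matrix ι ι F) *ᵥ pureL e' P (u k) y =
        pureL e' P (u k) y := fun k hk y => by
      rw [sTv_mulVec hf, hv, hform', hu.form, if_neg hk, mul_zero, mul_zero, mul_zero, zero_smul,
        add_zero]
    have hmove : ∀ y, (sTv f v 1 : Matrix ι ι F) *ᵥ pureL e' P (u 0) y =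
        pureL e' P (u 0) (y + (c * (f₁ y w * d)) • w) := fun y => by
      rw [sTv_mulVec hf, map_add, map_smul, one_mul, hv, hform', hu.form, if_pos rfl]
    have hle : ∀ k, (parts e' P u k).map (Matrix.toLin' (sTv f v 1 : Matrix ι ι F)) ≤
        parts e' P u k := by
      intro k
      rintro _ ⟨_, ⟨y, rfl⟩, rfl⟩
      rw [Matrix.toLin'_apply]
      by_cases hk : k = 0
      · subst hk; exact ⟨_, (hmove y).symm⟩
      · exact ⟨_, (hfix k hk y).symm⟩
    have hmem : sTv f v 1 ∈ decompositionStabilizer (parts e' P u) ⊓ isoOf f := by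
      refine ⟨⟨1, fun k => ?_⟩, sTv_mem_isoOf hf v 1⟩
      refine Submodule.eq_of_le_of_finrank_eq (hle k) ?_
      exact LinearEquiv.finrank_eq (Submodule.equivMapOfInjective _
        (fun a b hab => gl_mulVec_injective (sTv f v 1) (by simpa [Matrix.toLin'_apply] using hab))
        _).symm
    rw [← heq] at hmem
    obtain ⟨a, b, hab⟩ := exists_factors e P hmem.1
    have hab' : ∀ x y, (sTv f v 1 : Matrix ι ι F) *ᵥ pureL e' P x y =
        pureL e' P ((b : Matrix _ _ F) *ᵥ x) ((a : Matrix _ _ F) *ᵥ y) := fun x y => by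
      rw [pureL_swap, pureL_swap, hab]
    obtain ⟨p, hp⟩ : ∃ p : F, (a : Matrix _ _ F) *ᵥ z = p • z :=
      exists_smul_of_eq e' P (u' := u 1) (gl_mulVec_ne_zero b (hu0 1))
        (by rw [← hab', hfix 1 (by decide)])
    have h0 := hab' (u 0) z
    rw [hmove, hp] at h0
    obtain ⟨r, hr⟩ := exists_smul_of_eq e' P (hu0 0) h0
    rw [smul_smul] at hr
    have hcz : c * (f₁ z w * d) ≠ 0 := mul_ne_zero hc0 (mul_ne_zero hz hu.d_ne)
    rcases eq_or_ne (r * p - 1) 0 with h | h
    · rw [sub_eq_zero.1 h, one_smul, add_eq_left, smul_eq_zero] at hr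
      exact hr.elim hcz hw0
    · exact hzw ((c * (f₁ z w * d)) / (r * p - 1)) (by
        rw [div_eq_inv_mul, mul_smul, eq_inv_smul_iff₀ h, sub_smul, one_smul, ← hr,
          add_sub_cancel_left])
  · intro heq
    set v := pureL e' P (u 0) w + pureL e' P (u 1) w with hv
    have hm' : sTv f v 1 ∈ decompositionStabilizer (parts e' P u) ⊓ isoOf f := by
      rw [heq]; exact sTv_mem_isoOf hf v 1
    obtain ⟨j, hj⟩ := Frames.exists_block_image hm'.1 0
    have h := hj _ ⟨z, rfl⟩
    have hcz : c * (f₁ z w * d) ≠ 0 := mul_ne_zero hc0 (mul_ne_zero hz hu.d_ne)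
    rw [sTv_mulVec hf, one_mul, hv, hf.bilinear.add_right, hform', hform', hu.form, hu.form,
      if_pos rfl, if_neg (by decide : (0 : Fin 3) ≠ 1), mul_zero, mul_zero, add_zero, smul_add,
      ← map_smul, ← map_smul, ← add_assoc, ← map_add] at h
    obtain ⟨y, hy⟩ := h
    by_cases h0 : j = 0
    · subst h0
      have h2 := eq_zero_of_add e' P hu.li (i := 0) (j := 1) (by decide)
        (w := z + (c * (f₁ z w * d)) • w - y) (w' := (c * (f₁ z w * d)) • w) (by
        rw [map_sub, sub_add_eq_add_sub, ← hy]; exact sub_self _)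
      exact smul_ne_zero hcz hw0 h2.2
    · have hsum : ∑ k, pureL e' P (u k) ((fun k : Fin 3 =>
          (if k = 0 then z + (c * (f₁ z w * d)) • w else 0) +
          (if k = 1 then (c * (f₁ z w * d)) • w else 0) - (if k = j then y else 0)) k) = 0 := by
        simp only [map_sub, map_add, Finset.sum_sub_distrib, Finset.sum_add_distrib]
        simp only [apply_ite, map_zero, Finset.sum_ite_eq', Finset.mem_univ, if_true]
        rw [hy, map_add, sub_self]
      have := sum_eq_zero e' P hu.li hsum 0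
      simp [Ne.symm h0] at this
      exact hzw (-(c * (f₁ z w * d))) (by rw [neg_smul]; exact eq_neg_of_add_eq_zero_left this)

end CfsgLib.ClassicalMax.SympTensor
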