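/-
A unitary tensor product with a plane factor over four elements preserves a decomposition into two halves.
-/
import Cfsg.Agent.Lib.ClassicalMax.TensorTools
import Cfsg.Agent.Lib.ClassicalMax.UnitFrame
set_option autoImplicit false

namespace CfsgLib.ClassicalMax.Unit.TensorNot

open Matrix Kronecker Cfsg.Geo CfsgLib.ClassicalMax.Tensor

variable {ι : Type} [Fintype ι] [DecidableEq ι] {F : Type*} [Field F]
  {σ : F ≃+* F} {f : (ι → F) → (ι → F) → F}

theorem tensor_two_not_maximal [Fintype F] (hF : Fintype.card F = 4) (hσ : ∀ a, σ a = a ^ 2)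
    (hf : IsUnitaryForm σ f) {n₂ : ℕ} (hn : 3 ≤ n₂) (e : ι ≃ Fin 2 × Fin n₂) (P : GL ι F)
    {f₁ : (Fin 2 → F) → (Fin 2 → F) → F} {f₂ : (Fin n₂ → F) → (Fin n₂ → F) → F}
    (hf₁ : IsUnitaryForm σ f₁) (hf₂ : IsUnitaryForm σ f₂) {c : F} (hc0 : c ≠ 0)
    (hc : ∀ x y : Fin 2 × Fin n₂ → F,
      f ((P : Matrix ι ι F) *ᵥ (x ∘ e)) ((P : Matrix ι ι F) *ᵥ (y ∘ e)) =
        c * formOfGram σ (gramMatrix f₁ ⊗ₖ gramMatrix f₂) x y) :
    ∃ K : Subgroup (GL ι F), tensorProductSubgroup 2 n₂ e P ⊓ (isoOf f ⊓ specialLinear ι F) < K ∧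
      K < isoOf f ⊓ specialLinear ι F := by
  classical
  have hform := form_pureL e P (map_mul σ) hc
    (formOfGram_gram hf₁.add_left hf₁.smul_left (add_right hf₁) (smul_right hf₁))
    (formOfGram_gram hf₂.add_left hf₂.smul_left (add_right hf₂) (smul_right hf₂))
  obtain ⟨u, -, hu1, hu01, huli, huline⟩ := Frame.exists_unit_pair hF hσ hf₁
    (W := (⊤ : Submodule F (Fin 2 → F))) (by rw [finrank_top, Module.finrank_fintype_fun_eq_card,
      Fintype.card_fin]) (fun w _ hw => ⟨(hf₁.nondegenerate w hw).1.imp fun x hx => ⟨trivial, hx⟩,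
      (hf₁.nondegenerate w hw).2.imp fun x hx => ⟨trivial, hx⟩⟩)
  haveI : CharP F 2 := CharTwo.of_one_ne_zero_of_two_eq_zero one_ne_zero (by
    have := FiniteField.cast_card_eq_zero F
    rw [hF] at this
    have h4 : (2 : F) * 2 = 0 := by linear_combination this
    exact mul_self_eq_zero.1 h4)
  have hσ1 : σ (1 : F) = -1 := by rw [map_one, CharTwo.neg_eq]
  obtain ⟨w, hw, hw0⟩ : ∃ w, f₂ w w = 0 ∧ w ≠ 0 := by
    by_contra hcon
    push Not at hcon
    have hspan := isotropic_span hf₂ (W := (⊤ : Submodule F (Fin n₂ → F)))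
      (by rw [finrank_top, Module.finrank_fintype_fun_eq_card, Fintype.card_fin]; omega)
    rw [Submodule.span_eq_bot.2 fun x hx => hcon x hx.2] at hspan
    exact absurd (congrArg (fun W : Submodule F (Fin n₂ → F) => Module.finrank F W) hspan) (by
      simp only [finrank_bot, finrank_top, Module.finrank_fintype_fun_eq_card, Fintype.card_fin]
      omega)
  obtain ⟨⟨z, hz⟩, -⟩ := hf₂.nondegenerate w hw0
  have hzw : ∀ d : F, z ≠ d • w := fun d h => hz (by rw [h, hf₂.smul_left, hw, mul_zero])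
  have hu0 : ∀ k, u k ≠ 0 := fun k => huli.ne_zero k
  have hu10 : f₁ (u 1) (u 0) = 0 := eq_zero_comm hf₁ hu01
  refine ⟨decompositionStabilizer (parts e P u) ⊓ (isoOf f ⊓ specialLinear ι F),
    lt_of_le_of_ne ?_ ?_, lt_of_le_of_ne inf_le_right ?_⟩
  · intro g hg
    refine ⟨?_, hg.2⟩
    obtain ⟨a, b, hab⟩ := exists_factors e P hg.1
    refine mem_parts_stab e P huli hab fun k => huline _ trivial ?_
    have h : ∀ x y v v', f₁ ((a : Matrix _ _ F) *ᵥ x) ((a : Matrix _ _ F) *ᵥ y) *
        f₂ ((b : Matrix _ _ F) *ᵥ v) ((b : Matrix _ _ F) *ᵥ v') = f₁ x y * f₂ v v' := by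
      intro x y v v'
      have := hg.2.1 (pureL e P x v) (pureL e P y v')
      change f ((g : Matrix ι ι F) *ᵥ _) ((g : Matrix ι ι F) *ᵥ _) = _ at this
      rw [hab, hab, hform, hform] at this
      exact mul_left_cancel₀ hc0 this
    refine (Frame.fixed_eq hσ (self_fixed hf₁ _)).resolve_left fun h0 => hz ?_
    have h' := h (u k) (u k) z w
    rw [h0, zero_mul, hu1, one_mul] at h'
    exact h'.symm
  · intro heq
    set v := pureL e P (u 0) w with hv
    have hvv : f v v = 0 := by rw [hv, hform, hw, mul_zero, mul_zero]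
    have hfix : ∀ y, (uTv hf v 1 : Matrix ι ι F) *ᵥ pureL e P (u 1) y = pureL e P (u 1) y := fun y =>
      uTv_mulVec_of_orth hf hvv 1 (by rw [hv, hform, hu10, zero_mul, mul_zero])
    have hmove : ∀ y, (uTv hf v 1 : Matrix ι ι F) *ᵥ pureL e P (u 0) y =
        pureL e P (u 0) (y + (c * f₂ y w) • w) := fun y => by
      rw [uTv_mulVec hf hvv, map_add, map_smul, one_mul, hv, hform, hu1, one_mul]
    have hle : ∀ k, (parts e P u k).map (Matrix.toLin' (uTv hf v 1 : Matrix ι ι F)) ≤ parts e P u k := by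
      intro k
      rintro _ ⟨_, ⟨y, rfl⟩, rfl⟩
      rw [Matrix.toLin'_apply]
      fin_cases k
      · exact ⟨_, (hmove y).symm⟩
      · exact ⟨_, (hfix y).symm⟩
    have hmem : uTv hf v 1 ∈
        decompositionStabilizer (parts e P u) ⊓ (isoOf f ⊓ specialLinear ι F) := by
      refine ⟨⟨1, fun k => ?_⟩, uTv_mem_isoOf hf hvv hσ1, uTv_mem_sl hf _ _⟩
      refine Submodule.eq_of_le_of_finrank_eq (hle k) ?_
      exact LinearEquiv.finrank_eq (Submodule.equivMapOfInjective _
        (fun a b hab => gl_mulVec_injective (uTv hf v 1) (by simpa [Matrix.toLin'_apply] using hab))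
        _).symm
    rw [← heq] at hmem
    obtain ⟨a, b, hab⟩ := exists_factors e P hmem.1
    -- on the second part the factor fixes every vector up to a scalar
    obtain ⟨p, hp⟩ : ∃ p : F, (b : Matrix _ _ F) *ᵥ z = p • z := by
      exact exists_smul_of_eq e P (u' := u 1) (gl_mulVec_ne_zero a (hu0 1)) (by rw [← hab, hfix])
    have h0 := hab (u 0) z
    rw [hmove, hp] at h0
    obtain ⟨r, hr⟩ := exists_smul_of_eq e P (hu0 0) h0
    rw [smul_smul] at hr
    have hcz : c * f₂ z w ≠ 0 := mul_ne_zero hc0 hz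
    rcases eq_or_ne (r * p - 1) 0 with h | h
    · rw [sub_eq_zero.1 h, one_smul, add_eq_left, smul_eq_zero] at hr
      exact hr.elim hcz hw0
    · exact hzw ((c * f₂ z w) / (r * p - 1)) (by
        rw [div_eq_inv_mul, mul_smul, eq_inv_smul_iff₀ h, sub_smul, one_smul, ← hr, add_sub_cancel_left])
  · intro heq
    set v := pureL e P (u 0) w + pureL e P (u 1) w with hv
    have hvv : f v v = 0 := by
      simp only [hv, hf.add_left, add_right hf, hform, hw, mul_zero, add_zero]
    have hm' : uTv hf v 1 ∈ decompositionStabilizer (parts e P u) ⊓ (isoOf f ⊓ specialLinear ι F) := by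
      rw [heq]; exact ⟨uTv_mem_isoOf hf hvv hσ1, uTv_mem_sl hf _ _⟩
    obtain ⟨j, hj⟩ := Frames.exists_block_image hm'.1 0
    have h := hj _ ⟨z, rfl⟩
    have hcz : c * f₂ z w ≠ 0 := mul_ne_zero hc0 hz
    rw [uTv_mulVec hf hvv, one_mul, hv, add_right hf, hform, hform, hu1, hu01, one_mul, zero_mul,
      mul_zero, add_zero, smul_add, ← map_smul, ← map_smul, ← add_assoc, ← map_add] at h
    obtain ⟨y, hy⟩ := h
    fin_cases j
    · have h2 := eq_zero_of_add e P huli (i := 0) (j := 1) (by decide)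
        (w := z + (c * f₂ z w) • w - y) (w' := (c * f₂ z w) • w) (by
        rw [map_sub, sub_add_eq_add_sub, ← hy]; exact sub_self _)
      exact smul_ne_zero hcz hw0 h2.2
    · have h2 := eq_zero_of_add e P huli (i := 0) (j := 1) (by decide)
        (w := z + (c * f₂ z w) • w) (w' := (c * f₂ z w) • w - y) (by
        rw [map_sub, add_sub, ← hy]; exact sub_self _)
      exact hzw (-(c * f₂ z w)) (by rw [neg_smul]; exact eq_neg_of_add_eq_zero_left h2.1)

end CfsgLib.ClassicalMax.Unit.TensorNot
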