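/-
Short root elements of unitary groups and auxiliary vectors.
-/
import Cfsg.Agent.Lib.ClassicalMax.UnitGen
set_option autoImplicit false

namespace CfsgLib.ClassicalMax.Unit

open Matrix Cfsg.Geo

variable {ι : Type} [Fintype ι] [DecidableEq ι] {F : Type*} [Field F]
  {σ : F ≃+* F} {f : (ι → F) → (ι → F) → F}

/-- A vector with prescribed pairings against independent vectors. -/
lemma exists_pairing [Finite F] (hf : IsUnitaryForm σ f) {k : ℕ} {v : Fin k → ι → F}
    (hli : LinearIndependent F v) (c : Fin k → F) : ∃ z, ∀ i, f (v i) z = c i := by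
  obtain ⟨g, hg⟩ := LinearMap.exists_extend ((Finsupp.linearCombination F c).comp
    (hli.repr : Submodule.span F (Set.range v) →ₗ[F] (Fin k →₀ F)))
  obtain ⟨z, hz⟩ := exists_form_eq hf g
  refine ⟨z, fun i => ?_⟩
  have := LinearMap.congr_fun hg ⟨v i, Submodule.subset_span ⟨i, rfl⟩⟩
  rw [hz]
  simpa [hli.repr_eq_single i ⟨v i, Submodule.subset_span ⟨i, rfl⟩⟩ rfl] using this

/-- Every plane contains a non-zero isotropic vector. -/
lemma exists_isotropic_mem [Fintype F] (hf : IsUnitaryForm σ f) {W : Submodule F (ι → F)}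
    (hW : 2 ≤ Module.finrank F W) : ∃ v ∈ W, v ≠ 0 ∧ f v v = 0 := by
  by_contra hcon
  push Not at hcon
  have hbot : W ≠ ⊥ := fun e => by rw [e, finrank_bot] at hW; omega
  obtain ⟨u, hu, hu0⟩ := Submodule.exists_mem_ne_zero_of_ne_bot hbot
  obtain ⟨w, hw, hw0⟩ := Submodule.exists_mem_ne_zero_of_ne_bot
    (p := LinearMap.ker ((formL hf u).domRestrict W)) (fun e => by
      have h1 := LinearMap.finrank_le_finrank_of_injective (LinearMap.ker_eq_bot.1 e)
      rw [Module.finrank_self] at h1
      omega)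
  have hwu : f (w : ι → F) u = 0 := hw
  have hw0' : (w : ι → F) ≠ 0 := fun e => hw0 (Subtype.ext e)
  have hfu := hcon u hu hu0
  have hfw := hcon _ w.2 hw0'
  obtain ⟨s, hs⟩ := exists_norm_eq hf.ne_refl hf.involutive (s := - (f u u / f (w : ι → F) w))
    (by rw [map_neg, map_div₀, self_fixed hf, self_fixed hf])
  refine hcon (u + s • (w : ι → F)) (W.add_mem hu (W.smul_mem _ w.2)) (fun e => ?_) ?_
  · have h := congrArg (formL hf u) e
    simp only [map_add, map_smul, map_zero, formL_apply, hwu, smul_zero, add_zero] at h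
    exact hfu h
  · rw [hf.add_left, add_right hf, add_right hf, hf.smul_left, hf.smul_left, smul_right hf,
      smul_right hf, hwu, eq_zero_comm hf hwu, ← mul_assoc, hs, neg_mul, div_mul_cancel₀ _ hfw]
    ring

/-- An isotropic vector with prescribed pairings, one of them equal to one. -/
lemma exists_isotropic_pairing [Fintype F] (hf : IsUnitaryForm σ f) {k : ℕ}
    {v : Fin (k + 1) → ι → F} (hli : LinearIndependent F v) (horth : ∀ i, f (v i) (v 0) = 0) :
    ∃ q, f q q = 0 ∧ f (v 0) q = 1 ∧ ∀ i : Fin k, f (v i.succ) q = 0 := by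
  obtain ⟨z, hz⟩ := exists_pairing hf hli (Fin.cons 1 fun _ => 0)
  have hz0 : f (v 0) z = 1 := by rw [hz]; rfl
  obtain ⟨t, ht⟩ := exists_trace_eq hf (s := - f z z) (by rw [map_neg, self_fixed hf])
  refine ⟨z + t • v 0, ?_, ?_, fun i => ?_⟩
  · rw [hf.add_left, add_right hf, add_right hf, hf.smul_left, hf.smul_left, smul_right hf,
      smul_right hf, horth 0, hf.herm z (v 0), hz0, map_one]
    linear_combination ht
  · rw [add_right hf, smul_right hf, horth 0, hz0, mul_zero, add_zero]
  · rw [add_right hf, smul_right hf, horth i.succ, hz, mul_zero, add_zero]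
    rfl

/-- Isotropic vectors span any subspace of more than half the dimension plus a half. -/
lemma isotropic_span_succ [Fintype F] (hf : IsUnitaryForm σ f) {W : Submodule F (ι → F)}
    (hW : Fintype.card ι + 1 < 2 * Module.finrank F W) :
    Submodule.span F {w | w ∈ W ∧ f w w = 0} = W := by
  refine le_antisymm (Submodule.span_le.2 fun w hw => hw.1) fun v hv => ?_
  by_cases h0 : f v v = 0
  · exact Submodule.subset_span ⟨hv, h0⟩
  set K := LinearMap.ker (formL hf v) with hK
  have hKnd : IsNondegenerateOn f K := fun x hx hx0 => by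
    obtain ⟨y, hy⟩ := (hf.nondegenerate x hx0).1
    have hvx : f v x = 0 := eq_zero_comm hf hx
    have hne : f (y - (f y v / f v v) • v) x ≠ 0 := by
      rwa [sub_left hf, hf.smul_left, hvx, mul_zero, sub_zero]
    have hmem : y - (f y v / f v v) • v ∈ K := by
      rw [hK, LinearMap.mem_ker, formL_apply, sub_left hf, hf.smul_left, div_mul_cancel₀ _ h0,
        sub_self]
    exact ⟨⟨_, hmem, hne⟩, ⟨_, hmem, ne_zero_comm hf hne⟩⟩
  have hK1 : Module.finrank F K + 1 ≤ Fintype.card ι := by
    have hne : K ≠ ⊤ := fun e => h0 (e ▸ Submodule.mem_top : v ∈ K)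
    have := Submodule.finrank_lt hne
    rw [Module.finrank_fintype_fun_eq_card] at this
    omega
  have hK2 : Fintype.card ι ≤ Module.finrank F K + 1 := by
    have h := LinearMap.finrank_range_add_finrank_ker (formL hf v)
    have h' := Submodule.finrank_le (LinearMap.range (formL hf v))
    rw [Module.finrank_self] at h'
    rw [Module.finrank_fintype_fun_eq_card, ← hK] at h
    omega
  have hker : Module.finrank F K < 2 * Module.finrank F ↥(W ⊓ K) := by
    have h := Submodule.finrank_sup_add_finrank_inf_eq W K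
    have h' := Submodule.finrank_le (W ⊔ K)
    rw [Module.finrank_fintype_fun_eq_card] at h'
    omega
  obtain ⟨w, ⟨hwW, hwv⟩, hw⟩ := exists_value_in hf hKnd inf_le_right hker (s := - f v v)
    (by rw [map_neg, self_fixed hf])
  have hwv' : f w v = 0 := hwv
  obtain ⟨ζ, hζ, hζ1⟩ := exists_norm_one_ne_one hf.ne_refl hf.involutive
  have hm : ∀ c : F, c * σ c = 1 → v + c • w ∈ Submodule.span F {w | w ∈ W ∧ f w w = 0} :=
    fun c hc => Submodule.subset_span ⟨W.add_mem hv (W.smul_mem _ hwW), by
      rw [hf.add_left, add_right hf, add_right hf, hf.smul_left, hf.smul_left, smul_right hf,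
        smul_right hf, hwv', eq_zero_comm hf hwv', hw]
      linear_combination (-f v v) * hc⟩
  have h1 := hm 1 (by simp)
  rw [one_smul] at h1
  have h2 := Submodule.sub_mem _ h1 (hm ζ hζ)
  rw [add_sub_add_left_eq_sub] at h2
  have h3 : w ∈ Submodule.span F {w | w ∈ W ∧ f w w = 0} := by
    refine (Submodule.smul_mem_iff _ (sub_ne_zero.2 hζ1.symm)).1 ?_
    rwa [sub_smul, one_smul]
  simpa using Submodule.sub_mem _ h1 h3

/-- An isotropic vector orthogonal to a family and outside the span of another. -/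
lemma exists_isotropic_orth [Fintype F] (hf : IsUnitaryForm σ f) {k l : ℕ} (a : Fin k → ι → F)
    (b : Fin l → ι → F) (hk : 2 * k + 1 < Fintype.card ι) (hkl : k + l < Fintype.card ι) :
    ∃ r, f r r = 0 ∧ (∀ i, f r (a i) = 0) ∧ r ∉ Submodule.span F (Set.range b) := by
  let L : (ι → F) →ₗ[F] (Fin k → F) := LinearMap.pi fun i => formL hf (a i)
  have h1 := LinearMap.finrank_range_add_finrank_ker L
  have h2 : Module.finrank F (LinearMap.range L) ≤ k := by
    simpa using Submodule.finrank_le (LinearMap.range L)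
  have h3 : Module.finrank F (Submodule.span F (Set.range b)) ≤ l :=
    (finrank_range_le_card b).trans (by simp)
  rw [Module.finrank_fintype_fun_eq_card] at h1
  by_contra hcon
  push Not at hcon
  have hle : LinearMap.ker L ≤ Submodule.span F (Set.range b) := by
    rw [← isotropic_span_succ hf (W := LinearMap.ker L) (by omega)]
    exact Submodule.span_le.2 fun r hr => hcon r hr.2 fun i => congrFun hr.1 i
  have := Submodule.finrank_mono hle
  omega

variable [DecidableEq F]

/-- The short root element `x ↦ x + b f(x,v) w - σ b f(x,w) v`. -/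
def ush (hf : IsUnitaryForm σ f) (v w : ι → F) (b : F) : GL ι F :=
  tvGL w (b • formDual hf v) * tvGL v ((-σ b) • formDual hf w)

lemma ush_mem_sl (hf : IsUnitaryForm σ f) (v w : ι → F) (b : F) :
    ush hf v w b ∈ specialLinear ι F :=
  mul_mem (tvGL_mem_sl _ _) (tvGL_mem_sl _ _)

lemma ush_mulVec (hf : IsUnitaryForm σ f) {v w : ι → F} (hv : f v v = 0) (hvw : f v w = 0)
    (b : F) (x : ι → F) :
    (ush hf v w b : Matrix ι ι F) *ᵥ x = x + (b * f x v) • w - (σ b * f x w) • v := by
  rw [ush, gl_mulVec_mul,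
    tvGL_mulVec (u := v) (by rw [smul_dotProduct, formDual_dot, hvw, smul_zero]),
    tvGL_mulVec (u := w) (by rw [smul_dotProduct, formDual_dot, eq_zero_comm hf hvw, smul_zero]),
    smul_dotProduct, smul_dotProduct, formDual_dot, formDual_dot, hf.add_left, hf.smul_left, hv,
    smul_eq_mul, smul_eq_mul, mul_zero, add_zero]
  module

lemma ush_mem_isoOf (hf : IsUnitaryForm σ f) {v w : ι → F} (hv : f v v = 0) (hw : f w w = 0)
    (hvw : f v w = 0) (b : F) : ush hf v w b ∈ isoOf f := by
  intro x y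
  change f ((ush hf v w b : Matrix ι ι F) *ᵥ x) ((ush hf v w b : Matrix ι ι F) *ᵥ y) = f x y
  rw [ush_mulVec hf hv hvw, ush_mulVec hf hv hvw]
  simp only [sub_left hf, sub_right hf, hf.add_left, add_right hf, hf.smul_left, smul_right hf, hv,
    hw, hvw, eq_zero_comm hf hvw, map_mul, hf.involutive, ← hf.herm]
  ring

lemma ush_conj (hf : IsUnitaryForm σ f) {g : GL ι F} (hg : g ∈ isoOf f) {v w : ι → F}
    (hv : f v v = 0) (hvw : f v w = 0) (b : F) :
    g * ush hf v w b * g⁻¹
      = ush hf ((g : Matrix ι ι F) *ᵥ v) ((g : Matrix ι ι F) *ᵥ w) b := by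
  refine gl_ext_mulVec fun x => ?_
  have h1 : f ((g : Matrix ι ι F) *ᵥ v) ((g : Matrix ι ι F) *ᵥ v) = 0 := (hg v v).trans hv
  have h2 : f ((g : Matrix ι ι F) *ᵥ v) ((g : Matrix ι ι F) *ᵥ w) = 0 := (hg v w).trans hvw
  rw [gl_mulVec_mul, gl_mulVec_mul, ush_mulVec hf hv hvw, ush_mulVec hf h1 h2, mulVec_sub, mulVec_add, mulVec_smul,
    mulVec_smul, gl_mulVec_inv_mulVec, form_mulVec_left ((isoOf f).inv_mem hg),
    form_mulVec_left ((isoOf f).inv_mem hg), inv_inv]

lemma ush_add (hf : IsUnitaryForm σ f) {v w : ι → F} (hv : f v v = 0) (hw : f w w = 0)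
    (hvw : f v w = 0) (a b : F) : ush hf v w a * ush hf v w b = ush hf v w (a + b) := by
  refine gl_ext_mulVec fun x => ?_
  simp only [gl_mulVec_mul, ush_mulVec hf hv hvw, sub_left hf, hf.add_left, hf.smul_left, hv, hw,
    hvw, eq_zero_comm hf hvw, map_add]
  module

lemma ush_zero (hf : IsUnitaryForm σ f) {v w : ι → F} (hv : f v v = 0) (hvw : f v w = 0) :
    ush hf v w 0 = 1 := by
  refine gl_ext_mulVec fun x => ?_
  rw [ush_mulVec hf hv hvw]
  simp

lemma ush_inv (hf : IsUnitaryForm σ f) {v w : ι → F} (hv : f v v = 0) (hw : f w w = 0)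
    (hvw : f v w = 0) (a : F) : (ush hf v w a)⁻¹ = ush hf v w (-a) := by
  refine inv_eq_of_mul_eq_one_right ?_
  rw [ush_add hf hv hw hvw, add_neg_cancel, ush_zero hf hv hvw]

lemma ush_swap (hf : IsUnitaryForm σ f) {v w : ι → F} (hv : f v v = 0) (hw : f w w = 0)
    (hvw : f v w = 0) (b : F) : ush hf v w b = ush hf w v (-σ b) := by
  refine gl_ext_mulVec fun x => ?_
  rw [ush_mulVec hf hv hvw, ush_mulVec hf hw (eq_zero_comm hf hvw), map_neg, hf.involutive]
  module

lemma ush_smul_right (hf : IsUnitaryForm σ f) {v w : ι → F} (hv : f v v = 0) (hvw : f v w = 0)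
    (a b : F) : ush hf v (a • w) b = ush hf v w (a * b) := by
  refine gl_ext_mulVec fun x => ?_
  rw [ush_mulVec hf hv (by rw [smul_right hf, hvw, mul_zero]), ush_mulVec hf hv hvw, smul_right hf,
    map_mul]
  module

lemma ush_smul_left (hf : IsUnitaryForm σ f) {v w : ι → F} (hv : f v v = 0) (hvw : f v w = 0)
    (a b : F) : ush hf (a • v) w b = ush hf v w (σ a * b) := by
  refine gl_ext_mulVec fun x => ?_
  rw [ush_mulVec hf (by rw [hf.smul_left, smul_right hf, hv, mul_zero, mul_zero])
    (by rw [hf.smul_left, hvw, mul_zero]), ush_mulVec hf hv hvw, smul_right hf, map_mul,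
    hf.involutive]
  module

lemma ush_add_left (hf : IsUnitaryForm σ f) {u u' v : ι → F} (hu : f u u = 0) (hu' : f u' u' = 0)
    (hs : f (u + u') (u + u') = 0) (hv : f v v = 0) (h : f u v = 0) (h' : f u' v = 0) (a : F) :
    ush hf (u + u') v a
      = ush hf u v a * ush hf u' v a * uTv hf v (a * σ a * f u' u) := by
  refine gl_ext_mulVec fun x => ?_
  simp only [gl_mulVec_mul, ush_mulVec hf hu h, ush_mulVec hf hu' h',
    ush_mulVec hf hs (show f (u + u') v = 0 by rw [hf.add_left, h, h', add_zero]), uTv_mulVec hf hv,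
    sub_left hf, hf.add_left, add_right hf, hf.smul_left, hv, eq_zero_comm hf h,
    eq_zero_comm hf h', h, h']
  module

lemma uTv_ush_comm (hf : IsUnitaryForm σ f) {u v : ι → F} (hu : f u u = 0) (hv : f v v = 0)
    (h : f u v = 0) (a c : F) :
    uTv hf v c * ush hf u v a = ush hf u v a * uTv hf v c := by
  refine gl_ext_mulVec fun x => ?_
  simp only [gl_mulVec_mul, ush_mulVec hf hu h, uTv_mulVec hf hv, sub_left hf, hf.add_left,
    hf.smul_left, hv, h, eq_zero_comm hf h]
  module

lemma uTv_add_smul (hf : IsUnitaryForm σ f) {v w : ι → F} (hv : f v v = 0) (hw : f w w = 0)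
    (hvw : f v w = 0) (a : F) {c : F} (hc : σ c = -c) :
    uTv hf (v + a • w) c
      = uTv hf v c * ush hf v w (c * a) * uTv hf w (c * (a * σ a)) := by
  have hs : f (v + a • w) (v + a • w) = 0 := by
    rw [hf.add_left, add_right hf, add_right hf, hf.smul_left, hf.smul_left, smul_right hf,
      smul_right hf, hv, hw, hvw, eq_zero_comm hf hvw]
    ring
  refine gl_ext_mulVec fun x => ?_
  simp only [gl_mulVec_mul, uTv_mulVec hf hs, uTv_mulVec hf hv, uTv_mulVec hf hw,
    ush_mulVec hf hv hvw, sub_left hf, hf.add_left, add_right hf, hf.smul_left, smul_right hf,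
    hv, hw, hvw, eq_zero_comm hf hvw, map_mul, hc]
  module

lemma uTv_inv_eq (hf : IsUnitaryForm σ f) {v : ι → F} (hv : f v v = 0) (c : F) :
    (uTv hf v c)⁻¹ = uTv hf v (-c) := by
  refine inv_eq_of_mul_eq_one_right (gl_ext_mulVec fun x => ?_)
  simp only [gl_mulVec_mul, uTv_mulVec hf hv, hf.add_left, hf.smul_left, hv, Units.val_one,
    one_mulVec]
  module

end CfsgLib.ClassicalMax.Unit
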