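/-
Monomial matrices, pseudo-reflections, and isolating elementary transvections.
-/
import Cfsg.Agent.Lib.ClassicalMax.Tv
import Mathlib
set_option autoImplicit false

namespace CfsgLib.ClassicalMax.MonG

open Matrix Cfsg.Geo

variable {ι : Type} [Fintype ι] [DecidableEq ι] {F : Type*} [Field F]

/-- The matrix of `e_y ↦ d y • e_(σ y)`. -/
def monMat (σ : Equiv.Perm ι) (d : ι → Fˣ) : Matrix ι ι F :=
  Matrix.of fun i j => if i = σ j then (d j : F) else 0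

lemma det_monMat (σ : Equiv.Perm ι) (d : ι → Fˣ) :
    (monMat σ d).det = (Equiv.Perm.sign σ : F) * ∏ y, (d y : F) := by
  have h : (monMat σ d).submatrix σ id = diagonal fun y => (d y : F) := by
    ext i j
    by_cases hij : i = j
    · subst hij; simp [monMat]
    · simp [monMat, hij, σ.injective.eq_iff]
  have h2 := Matrix.det_permute σ (monMat σ d)
  rw [h, det_diagonal] at h2
  rw [h2, ← mul_assoc, ← Int.cast_mul, Int.units_coe_mul_self, Int.cast_one, one_mul]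

lemma det_monMat_ne_zero (σ : Equiv.Perm ι) (d : ι → Fˣ) : (monMat σ d).det ≠ 0 := by
  rw [det_monMat]
  refine mul_ne_zero ?_ (Finset.prod_ne_zero_iff.2 fun y _ => (d y).ne_zero)
  rcases Int.units_eq_one_or (Equiv.Perm.sign σ) with h | h <;> simp [h]

/-- The monomial element `e_y ↦ d y • e_(σ y)`. -/
noncomputable def mon (σ : Equiv.Perm ι) (d : ι → Fˣ) : GL ι F :=
  Matrix.GeneralLinearGroup.mkOfDetNeZero _ (det_monMat_ne_zero σ d)

lemma coe_mon (σ : Equiv.Perm ι) (d : ι → Fˣ) : (mon σ d : Matrix ι ι F) = monMat σ d := rfl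

lemma det_mon (σ : Equiv.Perm ι) (d : ι → Fˣ) :
    Matrix.det (mon σ d : Matrix ι ι F) = (Equiv.Perm.sign σ : F) * ∏ y, (d y : F) :=
  det_monMat σ d

lemma mon_mulVec (σ : Equiv.Perm ι) (d : ι → Fˣ) (v : ι → F) (i : ι) :
    ((mon σ d : Matrix ι ι F) *ᵥ v) i = (d (σ.symm i) : F) * v (σ.symm i) := by
  rw [coe_mon, mulVec, dotProduct, Finset.sum_eq_single (σ.symm i)]
  · simp [monMat]
  · intro j _ hj
    have : i ≠ σ j := fun e => hj (by rw [e, Equiv.symm_apply_apply])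
    simp [monMat, this]
  · simp

lemma mon_mulVec_single (σ : Equiv.Perm ι) (d : ι → Fˣ) (y : ι) (c : F) :
    (mon σ d : Matrix ι ι F) *ᵥ Pi.single y c = Pi.single (σ y) ((d y : F) * c) := by
  funext i
  rw [mon_mulVec]
  by_cases h : i = σ y
  · subst h; simp
  · have : σ.symm i ≠ y := fun e => h (by rw [← e, Equiv.apply_symm_apply])
    simp [h, this]

lemma mon_inv (σ : Equiv.Perm ι) (d : ι → Fˣ) :
    (mon σ d)⁻¹ = mon σ⁻¹ fun i => (d (σ⁻¹ i))⁻¹ := by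
  refine inv_eq_of_mul_eq_one_right (gl_ext_mulVec fun x => funext fun i => ?_)
  rw [gl_mulVec_mul, mon_mulVec, mon_mulVec]
  simp [Equiv.Perm.inv_def]

lemma vecMul_mon_inv (σ : Equiv.Perm ι) (d : ι → Fˣ) (φ : ι → F) (i : ι) :
    (φ ᵥ* (((mon σ d)⁻¹ : GL ι F) : Matrix ι ι F)) i = φ (σ.symm i) * ((d (σ.symm i) : F))⁻¹ := by
  rw [mon_inv, coe_mon, vecMul, dotProduct, Finset.sum_eq_single (σ.symm i)]
  · simp [monMat]
  · intro j _ hj
    simp [monMat, hj]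
  · simp

/-- Every column is supported on one coordinate. -/
def Mon (g : GL ι F) : Prop := ∀ b, ∃ b', ∀ y, y ≠ b' → (g : Matrix ι ι F) y b = 0

lemma mon_Mon (σ : Equiv.Perm ι) (d : ι → Fˣ) : Mon (mon σ d) :=
  fun b => ⟨σ b, fun y hy => by simp [coe_mon, monMat, hy]⟩

lemma col_eq (g : GL ι F) (b : ι) :
    (g : Matrix ι ι F) *ᵥ Pi.single b 1 = fun y => (g : Matrix ι ι F) y b :=
  funext fun y => by simp [mulVec]

lemma exists_mon_of_Mon {g : GL ι F} (hg : Mon g) : ∃ σ d, g = mon σ d := by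
  choose f hf using hg
  have hne : ∀ b, (g : Matrix ι ι F) (f b) b ≠ 0 := fun b h => by
    refine gl_mulVec_ne_zero g (x := Pi.single b 1) (fun e => by simpa using congrFun e b) ?_
    rw [col_eq]
    funext y
    by_cases hy : y = f b
    · rw [hy, h, Pi.zero_apply]
    · exact hf b y hy
  have hinj : Function.Injective f := fun a b hab => by
    by_contra hne'
    have h1 : (g : Matrix ι ι F) *ᵥ ((g : Matrix ι ι F) (f b) b • Pi.single a 1)
        = (g : Matrix ι ι F) *ᵥ ((g : Matrix ι ι F) (f a) a • Pi.single b 1) := by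
      rw [mulVec_smul, mulVec_smul, col_eq, col_eq]
      funext y
      by_cases hy : y = f a
      · simp [hy, hab, mul_comm]
      · simp [hf a y hy, hf b y (hab ▸ hy)]
    have h2 := congrFun (gl_mulVec_injective g h1) a
    simp [hne b, hne'] at h2
  refine ⟨Equiv.ofBijective f hinj.bijective_of_finite, fun b => Units.mk0 _ (hne b), Units.ext ?_⟩
  ext y b
  by_cases hy : y = f b
  · simp [coe_mon, monMat, hy]
  · simp [coe_mon, monMat, hy, hf b y hy]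

lemma Mon_mul {g h : GL ι F} (hg : Mon g) (hh : Mon h) : Mon (g * h) := by
  obtain ⟨σ, d, rfl⟩ := exists_mon_of_Mon hg
  obtain ⟨τ, e, rfl⟩ := exists_mon_of_Mon hh
  intro b
  refine ⟨σ (τ b), fun y hy => ?_⟩
  have := congrFun (col_eq (mon σ d * mon τ e) b) y
  rw [gl_mulVec_mul, mon_mulVec_single, mon_mulVec_single, Pi.single_eq_of_ne hy] at this
  exact this.symm

lemma Mon_inv {g : GL ι F} (hg : Mon g) : Mon g⁻¹ := by
  obtain ⟨σ, d, rfl⟩ := exists_mon_of_Mon hg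
  rw [mon_inv]
  exact mon_Mon _ _

/-- Scaling by `t` at `j` and by `s` at `k`. -/
def dfun (j : ι) (t : Fˣ) (k : ι) (s : Fˣ) : ι → Fˣ :=
  Function.update (Function.update 1 j t) k s

lemma prod_dfun {j k : ι} (h : j ≠ k) (t s : Fˣ) :
    ∏ y, ((dfun j t k s y : Fˣ) : F) = (t : F) * (s : F) := by
  rw [Fintype.prod_eq_mul j k h (fun y hy => by simp [dfun, hy.1, hy.2])]
  simp [dfun, h]

lemma dg_mulVec (d : ι → Fˣ) (v : ι → F) :
    (mon 1 d : Matrix ι ι F) *ᵥ v = fun i => (d i : F) * v i :=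
  funext fun i => by rw [mon_mulVec]; rfl

lemma dg_vecMul (d : ι → Fˣ) (φ : ι → F) :
    φ ᵥ* (((mon 1 d)⁻¹ : GL ι F) : Matrix ι ι F) = fun i => φ i * ((d i : F))⁻¹ :=
  funext fun i => by rw [vecMul_mon_inv]; rfl

/-- The monomial elements of determinant one lie in `M`. -/
def HasMon (M : Subgroup (GL ι F)) : Prop :=
  ∀ σ d, Matrix.det (mon σ d : Matrix ι ι F) = 1 → mon σ d ∈ M

lemma dg_pair_mem {M : Subgroup (GL ι F)} (hM : HasMon M) {j k : ι} (h : j ≠ k) (t : Fˣ) :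
    mon 1 (dfun j t k t⁻¹) ∈ M := hM _ _ (by rw [det_mon, prod_dfun h]; simp)

lemma exists_notMem (hn : 4 ≤ Fintype.card ι) (a b c : ι) : ∃ y, y ≠ a ∧ y ≠ b ∧ y ≠ c := by
  obtain ⟨y, -, hy⟩ := Finset.exists_mem_notMem_of_card_lt_card (s := ({a, b, c} : Finset ι))
    (t := Finset.univ) ((Finset.card_le_three).trans_lt (by rw [Finset.card_univ]; omega))
  exact ⟨y, by simpa using hy⟩

variable [DecidableEq F] {M : Subgroup (GL ι F)}

lemma conj_mem {g h : GL ι F} (hg : g ∈ M) (hh : h ∈ M) : h * g * h⁻¹ ∈ M :=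
  M.mul_mem (M.mul_mem hh hg) (M.inv_mem hh)

lemma tv_sub_left {u w φ : ι → F} (hu : φ ⬝ᵥ u = 0) (hw : φ ⬝ᵥ w = 0)
    (hmu : tvGL u φ ∈ M) (hmw : tvGL w φ ∈ M) : tvGL (w - u) φ ∈ M := by
  have h : φ ⬝ᵥ (w - u) = 0 := by rw [dotProduct_sub, hu, hw, sub_zero]
  have e := tvGL_add_left h hu
  rw [sub_add_cancel] at e
  rw [eq_mul_inv_of_mul_eq e.symm]
  exact M.mul_mem hmw (M.inv_mem hmu)

lemma tv_sub_right {u φ ψ : ι → F} (hφ : φ ⬝ᵥ u = 0) (hψ : ψ ⬝ᵥ u = 0)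
    (hmφ : tvGL u φ ∈ M) (hmψ : tvGL u ψ ∈ M) : tvGL u (ψ - φ) ∈ M := by
  rw [sub_eq_add_neg, tvGL_add_right hψ (by rw [neg_dotProduct, hφ, neg_zero]), tvGL_neg_right hφ]
  exact M.mul_mem hmψ (M.inv_mem hmφ)

lemma tv_dg_left (hM : HasMon M) {u φ : ι → F} (h : φ ⬝ᵥ u = 0) (hm : tvGL u φ ∈ M) {j k : ι}
    (hjk : j ≠ k) (hj : φ j = 0) (hk : φ k = 0) (t : Fˣ) :
    tvGL (Pi.single j (((t : F) - 1) * u j) + Pi.single k ((((t : F))⁻¹ - 1) * u k)) φ ∈ M := by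
  have hm2 := conj_mem hm (dg_pair_mem hM hjk t)
  rw [conj_tvGL _ h, dg_mulVec, dg_vecMul] at hm2
  have hφ : (fun i => φ i * ((dfun j t k t⁻¹ i : Fˣ) : F)⁻¹) = φ := by
    funext i
    by_cases hi : i = j
    · simp [hi, hj]
    by_cases hi' : i = k
    · simp [hi', hk]
    simp [dfun, hi, hi']
  rw [hφ] at hm2
  have h2 : φ ⬝ᵥ (fun i => ((dfun j t k t⁻¹ i : Fˣ) : F) * u i) = 0 := by
    rw [← h]
    refine Finset.sum_congr rfl fun i _ => ?_
    by_cases hi : i = j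
    · simp [hi, hj]
    by_cases hi' : i = k
    · simp [hi', hk]
    simp [dfun, hi, hi']
  have hm3 := tv_sub_left h h2 hm hm2
  rwa [show (Pi.single j (((t : F) - 1) * u j) + Pi.single k ((((t : F))⁻¹ - 1) * u k) : ι → F)
      = (fun i => ((dfun j t k t⁻¹ i : Fˣ) : F) * u i) - u from ?_]
  funext i
  by_cases hi : i = j
  · subst hi; simp [dfun, hjk]; ring
  by_cases hi' : i = k
  · subst hi'; simp [dfun, hjk.symm]; ring
  simp [dfun, hi, hi']

lemma tv_dg_right (hM : HasMon M) {u φ : ι → F} (h : φ ⬝ᵥ u = 0) (hm : tvGL u φ ∈ M) {j k : ι}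
    (hjk : j ≠ k) (hj : u j = 0) (hk : u k = 0) (t : Fˣ) :
    tvGL u (Pi.single j ((((t : F))⁻¹ - 1) * φ j) + Pi.single k (((t : F) - 1) * φ k)) ∈ M := by
  have hm2 := conj_mem hm (dg_pair_mem hM hjk t)
  rw [conj_tvGL _ h, dg_mulVec, dg_vecMul] at hm2
  have hu : (fun i => ((dfun j t k t⁻¹ i : Fˣ) : F) * u i) = u := by
    funext i
    by_cases hi : i = j
    · simp [hi, hj]
    by_cases hi' : i = k
    · simp [hi', hk]
    simp [dfun, hi, hi']
  rw [hu] at hm2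
  have h2 : (fun i => φ i * ((dfun j t k t⁻¹ i : Fˣ) : F)⁻¹) ⬝ᵥ u = 0 := by
    rw [← h]
    refine Finset.sum_congr rfl fun i _ => ?_
    by_cases hi : i = j
    · simp [hi, hj]
    by_cases hi' : i = k
    · simp [hi', hk]
    simp [dfun, hi, hi']
  have hm3 := tv_sub_right h h2 hm hm2
  rwa [show (Pi.single j ((((t : F))⁻¹ - 1) * φ j) + Pi.single k (((t : F) - 1) * φ k) : ι → F)
      = (fun i => φ i * ((dfun j t k t⁻¹ i : Fˣ) : F)⁻¹) - φ from ?_]
  funext i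
  by_cases hi : i = j
  · subst hi; simp [dfun, hjk]; ring
  by_cases hi' : i = k
  · subst hi'; simp [dfun, hjk.symm]; ring
  simp [dfun, hi, hi']

/-- `M` contains an elementary transvection. -/
def HasElem (M : Subgroup (GL ι F)) : Prop :=
  ∃ j l : ι, ∃ c : F, j ≠ l ∧ c ≠ 0 ∧ tvGL (Pi.single j c) (Pi.single l 1) ∈ M

/-- A transvection with a coordinate axis gives an elementary one. -/
lemma hasElem_of_axis (hM : HasMon M) (hn : 4 ≤ Fintype.card ι) {t : Fˣ} (ht : t ≠ 1) {u : ι → F}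
    {l : ι} (hu : u ≠ 0) (hl : u l = 0) (hm : tvGL u (Pi.single l 1) ∈ M) : HasElem M := by
  obtain ⟨j, hj⟩ : ∃ j, u j ≠ 0 := Function.ne_iff.1 hu
  have hjl : j ≠ l := fun e => hj (e ▸ hl)
  have ht' : (t : F) - 1 ≠ 0 := sub_ne_zero.2 fun e => ht (Units.ext e)
  have h0 : (Pi.single l (1 : F)) ⬝ᵥ u = 0 := by rw [single_dotProduct, one_mul, hl]
  obtain ⟨z, hzj, hzl, -⟩ := exists_notMem hn j l l
  obtain ⟨z', hzj', hzl', hzz⟩ := exists_notMem hn j l z
  have h1 := tv_dg_left hM h0 hm hzj.symm (by simp [hjl]) (by simp [hzl]) t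
  set u' : ι → F := Pi.single j (((t : F) - 1) * u j) + Pi.single z ((((t : F))⁻¹ - 1) * u z)
  have h0' : (Pi.single l (1 : F)) ⬝ᵥ u' = 0 := by
    simp [u', single_dotProduct, hjl.symm, hzl.symm]
  have h2 := tv_dg_left hM h0' h1 hzj'.symm (by simp [hjl]) (by simp [hzl']) t
  refine ⟨j, l, ((t : F) - 1) * (((t : F) - 1) * u j), hjl, by simp [ht', hj], ?_⟩
  simpa [u', hzj.symm, hzz, hzj'] using h2

/-- A transvection with a coordinate centre gives an elementary one. -/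
lemma hasElem_of_centre (hM : HasMon M) (hn : 4 ≤ Fintype.card ι) {t : Fˣ} (ht : t ≠ 1)
    {φ : ι → F} {j : ι} (hφ : φ ≠ 0) (hj : φ j = 0) (hm : tvGL (Pi.single j 1) φ ∈ M) :
    HasElem M := by
  obtain ⟨l, hl⟩ : ∃ l, φ l ≠ 0 := Function.ne_iff.1 hφ
  have hlj : l ≠ j := fun e => hl (e ▸ hj)
  have ht' : ((t : F))⁻¹ - 1 ≠ 0 :=
    sub_ne_zero.2 fun e => ht (Units.ext (by simpa using e))
  have h0 : φ ⬝ᵥ (Pi.single j (1 : F)) = 0 := by rw [dotProduct_single, hj, zero_mul]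
  obtain ⟨z, hzl, hzj, -⟩ := exists_notMem hn l j j
  obtain ⟨z', hzl', hzj', hzz⟩ := exists_notMem hn l j z
  have h1 := tv_dg_right hM h0 hm hzl.symm (by simp [hlj]) (by simp [hzj]) t
  set φ' : ι → F := Pi.single l ((((t : F))⁻¹ - 1) * φ l) + Pi.single z (((t : F) - 1) * φ z)
  have h0' : φ' ⬝ᵥ (Pi.single j (1 : F)) = 0 := by
    simp [φ', dotProduct_single, hlj.symm, hzj.symm]
  have h2 := tv_dg_right hM h0' h1 hzl'.symm (by simp [hlj]) (by simp [hzj']) t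
  set c := (((t : F))⁻¹ - 1) * ((((t : F))⁻¹ - 1) * φ l)
  refine ⟨j, l, c, hlj.symm, by simp [c, ht', hl], ?_⟩
  have hc : tvGL (c • Pi.single j (1 : F)) (Pi.single l (1 : F)) ∈ M := by
    rw [tvGL_smul c (by rw [dotProduct_single, Pi.single_eq_of_ne hlj.symm, zero_mul]),
      ← Pi.single_smul, smul_eq_mul, mul_one]
    simpa [φ', c, hzl.symm, hzz, hzl'] using h2
  rwa [← Pi.single_smul, smul_eq_mul, mul_one] at hc

/-- One elementary transvection and the monomial group give the special linear group. -/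
theorem sl_le_of_hasElem (hM : HasMon M) (hn : 4 ≤ Fintype.card ι) (he : HasElem M) :
    specialLinear ι F ≤ M := by
  obtain ⟨j, l, c, hjl, hc, hm⟩ := he
  refine sl_le_of_elementary fun a b hab a' => ?_
  rcases eq_or_ne a' 0 with rfl | ha'
  · rw [Pi.single_zero, tvGL_zero_left]; exact M.one_mem
  obtain ⟨σ, hσa, hσb⟩ : ∃ σ : Equiv.Perm ι, σ j = a ∧ σ l = b := by
    refine ⟨Equiv.swap (Equiv.swap j a l) b * Equiv.swap j a, ?_, by simp⟩
    rw [Equiv.Perm.mul_apply, Equiv.swap_apply_left, Equiv.swap_apply_of_ne_of_ne _ hab]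
    intro e
    exact hjl ((Equiv.swap j a).injective (by rw [Equiv.swap_apply_left]; exact e))
  obtain ⟨y, hyj, hyl, -⟩ := exists_notMem hn j l l
  set t : Fˣ := Units.mk0 (a' / c) (div_ne_zero ha' hc)
  set sg : Fˣ := if Equiv.Perm.sign σ = 1 then 1 else -1
  have hdet : Matrix.det (mon σ (dfun j t y (sg * t⁻¹)) : Matrix ι ι F) = 1 := by
    rw [det_mon, prod_dfun hyj.symm]
    rcases Int.units_eq_one_or (Equiv.Perm.sign σ) with h | h <;>
      simp [sg, h, t] <;> field_simp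
  have hm2 := conj_mem hm (hM σ _ hdet)
  have h0 : (Pi.single l (1 : F)) ⬝ᵥ (Pi.single j c : ι → F) = 0 := by
    rw [single_dotProduct, one_mul, Pi.single_eq_of_ne hjl.symm]
  rw [conj_tvGL _ h0, mon_mulVec_single, hσa] at hm2
  have e1 : (Pi.single l (1 : F)) ᵥ* (((mon σ (dfun j t y (sg * t⁻¹)))⁻¹ : GL ι F) : Matrix ι ι F)
      = Pi.single b 1 := by
    funext i
    rw [vecMul_mon_inv]
    by_cases hi : i = b
    · subst hi
      simp [← hσb, dfun, hjl.symm, hyl.symm]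
    · have : σ.symm i ≠ l := fun e => hi (by rw [← hσb, ← e, Equiv.apply_symm_apply])
      simp [this, hi]
  rw [e1] at hm2
  simpa [dfun, hyj.symm, t, div_mul_cancel₀ _ hc] using hm2

/-- The pseudo-reflection `x ↦ x + (ε - 1)(w ⬝ x) u` when `w ⬝ u = 1`, `ε ≠ 0`. -/
def psGL (u w : ι → F) (ε : F) : GL ι F :=
  if h : w ⬝ᵥ u = 1 ∧ ε ≠ 0 then
    ⟨1 + (ε - 1) • vecMulVec u w, 1 + (ε⁻¹ - 1) • vecMulVec u w,
      by
        simp only [add_mul, mul_add, one_mul, mul_one, smul_mul_assoc, mul_smul_comm,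
          vecMulVec_mul_vecMulVec, h.1, one_smul, smul_smul]
        rw [show (1 : Matrix ι ι F) + (ε - 1) • vecMulVec u w + (ε⁻¹ - 1) • (vecMulVec u w +
            (ε - 1) • vecMulVec u w) = 1 + ((ε - 1) + (ε⁻¹ - 1) +
              (ε⁻¹ - 1) * (ε - 1)) • vecMulVec u w by module]
        have : (ε - 1) + (ε⁻¹ - 1) + (ε⁻¹ - 1) * (ε - 1) = 0 := by
          have := mul_inv_cancel₀ h.2
          linear_combination this
        rw [this, zero_smul, add_zero],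
      by
        simp only [add_mul, mul_add, one_mul, mul_one, smul_mul_assoc, mul_smul_comm,
          vecMulVec_mul_vecMulVec, h.1, one_smul, smul_smul]
        rw [show (1 : Matrix ι ι F) + (ε⁻¹ - 1) • vecMulVec u w + (ε - 1) • (vecMulVec u w +
            (ε⁻¹ - 1) • vecMulVec u w) = 1 + ((ε - 1) + (ε⁻¹ - 1) +
              (ε⁻¹ - 1) * (ε - 1)) • vecMulVec u w by module]
        have : (ε - 1) + (ε⁻¹ - 1) + (ε⁻¹ - 1) * (ε - 1) = 0 := by
          have := mul_inv_cancel₀ h.2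
          linear_combination this
        rw [this, zero_smul, add_zero]⟩
  else 1

lemma psGL_mulVec {u w : ι → F} {ε : F} (h : w ⬝ᵥ u = 1) (hε : ε ≠ 0) (x : ι → F) :
    (psGL u w ε : Matrix ι ι F) *ᵥ x = x + ((ε - 1) * (w ⬝ᵥ x)) • u := by
  rw [psGL, dif_pos ⟨h, hε⟩]
  change (1 + (ε - 1) • vecMulVec u w) *ᵥ x = _
  rw [add_mulVec, one_mulVec, smul_mulVec, vecMulVec_mulVec, op_smul_eq_smul, smul_smul]

lemma psGL_inv {u w : ι → F} {ε : F} (h : w ⬝ᵥ u = 1) (hε : ε ≠ 0) :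
    (psGL u w ε)⁻¹ = psGL u w ε⁻¹ := by
  refine Units.ext ?_
  rw [psGL, dif_pos ⟨h, hε⟩, psGL, dif_pos ⟨h, inv_ne_zero hε⟩]
  rfl

lemma psGL_vecMul {u w : ι → F} {ε : F} (h : w ⬝ᵥ u = 1) (hε : ε ≠ 0) (φ : ι → F) :
    φ ᵥ* (((psGL u w ε)⁻¹ : GL ι F) : Matrix ι ι F) = φ + ((ε⁻¹ - 1) * (φ ⬝ᵥ u)) • w := by
  rw [psGL, dif_pos ⟨h, hε⟩]
  change φ ᵥ* (1 + (ε⁻¹ - 1) • vecMulVec u w) = _
  rw [vecMul_add, vecMul_one, vecMul_smul, vecMul_vecMulVec, smul_smul]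

lemma conj_dot (g : GL ι F) (w u : ι → F) :
    (w ᵥ* ((g⁻¹ : GL ι F) : Matrix ι ι F)) ⬝ᵥ ((g : Matrix ι ι F) *ᵥ u) = w ⬝ᵥ u := by
  rw [vecMul_inv_dot, gl_inv_mulVec_mulVec]

lemma conj_psGL (g : GL ι F) {u w : ι → F} {ε : F} (h : w ⬝ᵥ u = 1) (hε : ε ≠ 0) :
    g * psGL u w ε * g⁻¹
      = psGL ((g : Matrix ι ι F) *ᵥ u) (w ᵥ* ((g⁻¹ : GL ι F) : Matrix ι ι F)) ε := by
  refine gl_ext_mulVec fun x => ?_
  rw [gl_mulVec_mul, gl_mulVec_mul, psGL_mulVec h hε,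
    psGL_mulVec (by rw [conj_dot, h]) hε, mulVec_add, gl_mulVec_inv_mulVec, mulVec_smul,
    vecMul_inv_dot]

end CfsgLib.ClassicalMax.MonG
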