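/-
A non-monomial element in an overgroup of the monomial group gives one fixing a coordinate line.
-/
import Cfsg.Agent.Lib.ClassicalMax.MonBase
set_option autoImplicit false
set_option maxHeartbeats 1000000

namespace CfsgLib.ClassicalMax.MonG

open Matrix Cfsg.Geo

variable {ι : Type} [Fintype ι] [DecidableEq ι] {F : Type*} [Field F]

/-- All elements of `M` fixing a coordinate line are monomial. -/
def NoLine (M : Subgroup (GL ι F)) : Prop :=
  ∀ k ∈ M, ∀ a, (∀ y, y ≠ a → (k : Matrix ι ι F) y a = 0) → Mon k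

/-- The column of `g`. -/
def col (g : GL ι F) (b : ι) : ι → F := fun y => (g : Matrix ι ι F) y b

lemma col_smul_inj (g : GL ι F) {b b' : ι} {c c' : F} (hc : c ≠ 0)
    (h : c • col g b = c' • col g b') : b = b' := by
  by_contra hne
  have : (g : Matrix ι ι F) *ᵥ Pi.single b c = (g : Matrix ι ι F) *ᵥ Pi.single b' c' := by
    have h1 : ∀ (e : ι) (a : F), (g : Matrix ι ι F) *ᵥ Pi.single e a = a • col g e := fun e a => by
      funext y; simp [col, mulVec, dotProduct_single, mul_comm]
    rw [h1, h1, h]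
  have h2 := congrFun (gl_mulVec_injective g this) b
  simp [hne] at h2
  exact hc h2

lemma col_eq' (g : GL ι F) (b : ι) : (g : Matrix ι ι F) *ᵥ Pi.single b 1 = col g b := col_eq g b

lemma linearIndependent_col (g : GL ι F) : LinearIndependent F (col g) := by
  refine Fintype.linearIndependent_iff.2 fun c hc i => ?_
  have h : (g : Matrix ι ι F) *ᵥ c = (g : Matrix ι ι F) *ᵥ (0 : ι → F) := by
    rw [mulVec_zero, ← hc]
    funext y
    simp [col, mulVec, dotProduct, mul_comm]
  exact congrFun (gl_mulVec_injective g h) i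

lemma exists_row_ne_zero (g : GL ι F) (z : ι) : ∃ b, col g b z ≠ 0 := by
  by_contra h
  push Not at h
  have := congrFun (gl_mulVec_inv_mulVec g (Pi.single z (1 : F))) z
  rw [mulVec, dotProduct, Finset.sum_eq_zero fun b _ => by
    rw [show (g : Matrix ι ι F) z b = 0 from h b, zero_mul]] at this
  simp at this

variable {M : Subgroup (GL ι F)}

lemma two_supp (hM : HasMon M) (hn : 5 ≤ Fintype.card ι) (hno : NoLine M) {g : GL ι F}
    (hg : g ∈ M) (hgm : ¬ Mon g) (b a : ι) : ∃ y, y ≠ a ∧ col g b y ≠ 0 := by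
  by_contra h
  push Not at h
  obtain ⟨y, hya, hyb, -⟩ := exists_notMem (by omega) a b b
  set sg : Fˣ := if Equiv.Perm.sign (Equiv.swap a b) = 1 then 1 else -1
  have hdet : Matrix.det (mon (Equiv.swap a b) (Function.update 1 y sg) : Matrix ι ι F) = 1 := by
    rw [det_mon, Fintype.prod_eq_single y (fun i hi => by simp [hi])]
    rcases Int.units_eq_one_or (Equiv.Perm.sign (Equiv.swap a b)) with e | e <;> simp [sg, e]
  have hk : Mon (mon (Equiv.swap a b) (Function.update 1 y sg) * g) := by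
    refine hno _ (M.mul_mem (hM _ _ hdet) hg) b fun i hi => ?_
    have := congrFun (col_eq (mon (Equiv.swap a b) (Function.update 1 y sg) * g) b) i
    rw [← this, gl_mulVec_mul, col_eq', mon_mulVec, h _ ?_, mul_zero]
    intro e
    exact hi (by rw [Equiv.symm_apply_eq] at e; simp [e])
  apply hgm
  have := Mon_mul (Mon_inv (mon_Mon (Equiv.swap a b) (Function.update (1 : ι → Fˣ) y sg))) hk
  rwa [← mul_assoc, inv_mul_cancel, one_mul] at this

lemma perm_cols (hno : NoLine M) {g : GL ι F} (hg : g ∈ M) {h : GL ι F} (hh : h ∈ M) {a : ι}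
    {c : F} (ha : (h : Matrix ι ι F) *ᵥ col g a = c • col g a) (b : ι) :
    ∃ b', ∃ c' : F, c' ≠ 0 ∧ (h : Matrix ι ι F) *ᵥ col g b = c' • col g b' := by
  have hk : Mon (g⁻¹ * h * g) := by
    refine hno _ (M.mul_mem (M.mul_mem (M.inv_mem hg) hh) hg) a fun y hy => ?_
    have := congrFun (col_eq (g⁻¹ * h * g) a) y
    rw [← this, gl_mulVec_mul, gl_mulVec_mul, col_eq', ha, mulVec_smul, ← col_eq',
      gl_inv_mulVec_mulVec]
    simp [hy]
  obtain ⟨σ, d, e⟩ := exists_mon_of_Mon hk
  refine ⟨σ b, d b, (d b).ne_zero, ?_⟩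
  have e2 : h * g = g * mon σ d := by rw [← e]; group
  rw [← col_eq', ← gl_mulVec_mul, e2, gl_mulVec_mul, mon_mulVec_single, mul_one, ← col_eq',
    ← mulVec_smul, ← Pi.single_smul, smul_eq_mul, mul_one]

lemma torus_false [Fintype F] (hq : 5 ≤ Fintype.card F) (hM : HasMon M) (hno : NoLine M) {g : GL ι F}
    (hg : g ∈ M) {a b z z' y : ι} (hzz : z ≠ z') (ha : col g a z = 0) (ha' : col g a z' = 0)
    (hbz : col g b z ≠ 0) (hyz : y ≠ z) (hyz' : y ≠ z') (hby : col g b y ≠ 0) : False := by
  classical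
  have h4 : 4 ≤ Fintype.card Fˣ := by rw [Fintype.card_units]; omega
  obtain ⟨t⟩ := Function.Embedding.nonempty_of_card_le (α := Fin 4) (by simpa using h4)
  have hfix : ∀ i, (mon 1 (dfun z (t i) z' (t i)⁻¹) : Matrix ι ι F) *ᵥ col g a
      = (1 : F) • col g a := fun i => by
    funext x
    rw [dg_mulVec, one_smul]
    by_cases h1 : x = z
    · simp [h1, ha]
    by_cases h2 : x = z'
    · simp [h2, ha']
    simp [dfun, h1, h2]
  choose π c hc he using fun i => perm_cols hno hg (dg_pair_mem hM hzz (t i)) (hfix i) b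
  have hinj : Function.Injective π := fun i j hij => by
    have e : c j • ((mon 1 (dfun z (t i) z' (t i)⁻¹) : Matrix ι ι F) *ᵥ col g b)
        = c i • ((mon 1 (dfun z (t j) z' (t j)⁻¹) : Matrix ι ι F) *ᵥ col g b) := by
      rw [he, he, hij, smul_smul, smul_smul, mul_comm]
    rw [dg_mulVec, dg_mulVec] at e
    have e1 := congrFun e y
    have e2 := congrFun e z
    simp [dfun, hyz, hyz', hzz] at e1 e2
    have hcc : c j = c i := e1.resolve_right hby
    rw [hcc] at e2
    have := (mul_left_cancel₀ (hc i) e2)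
    exact t.injective (Units.ext (mul_right_cancel₀ hbz this))
  set A : ι → F := col g b - Pi.single z (col g b z) - Pi.single z' (col g b z')
  set W := Submodule.span F (Set.range ![A, Pi.single z (1 : F), Pi.single z' (1 : F)])
  have hmem : ∀ i, col g (π i) ∈ W := fun i => by
    rw [show col g (π i) = (c i)⁻¹ • (c i • col g (π i)) by rw [inv_smul_smul₀ (hc i)], ← he i,
      dg_mulVec]
    refine W.smul_mem _ ?_
    rw [show (fun x => ((dfun z (t i) z' (t i)⁻¹ x : Fˣ) : F) * col g b x) =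
        A + ((t i : F) * col g b z) • Pi.single z 1 + (((t i : F))⁻¹ * col g b z') • Pi.single z' 1
        from ?_]
    · exact W.add_mem (W.add_mem (Submodule.subset_span ⟨0, rfl⟩)
        (W.smul_mem _ (Submodule.subset_span ⟨1, rfl⟩))) (W.smul_mem _ (Submodule.subset_span ⟨2, rfl⟩))
    funext x
    by_cases h1 : x = z
    · subst h1; simp [A, dfun, hzz]
    by_cases h2 : x = z'
    · subst h2; simp [A, dfun, h1]
    simp [A, dfun, h1, h2]
  have h5 := finrank_span_eq_card ((linearIndependent_col g).comp π hinj)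
  have h6 : Submodule.span F (Set.range (col g ∘ π)) ≤ W :=
    Submodule.span_le.2 (Set.range_subset_iff.2 hmem)
  have h7 := Submodule.finrank_mono h6
  have h8 : Module.finrank F W ≤ 3 :=
    (finrank_range_le_card (R := F) ![A, Pi.single z (1 : F), Pi.single z' (1 : F)]).trans (by simp)
  rw [h5] at h7
  simp at h7
  omega

lemma at_most_one_zero [Fintype F] (hq : 5 ≤ Fintype.card F) (hM : HasMon M) (hn : 5 ≤ Fintype.card ι)
    (hno : NoLine M) {g : GL ι F} (hg : g ∈ M) (hgm : ¬ Mon g) {a z z' : ι}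
    (ha : col g a z = 0) (ha' : col g a z' = 0) : z = z' := by
  by_contra hzz
  obtain ⟨b, hb⟩ := exists_row_ne_zero g z
  by_cases h : ∃ y, y ≠ z ∧ y ≠ z' ∧ col g b y ≠ 0
  · obtain ⟨y, h1, h2, h3⟩ := h
    exact torus_false hq hM hno hg hzz ha ha' hb h1 h2 h3
  push Not at h
  obtain ⟨k, -, hk⟩ := two_supp hM hn hno hg hgm a z
  obtain ⟨y, hyk, hy⟩ := two_supp hM hn hno hg hgm a k
  have hk1 : k ≠ z := fun e => hk (e ▸ ha)
  have hk2 : k ≠ z' := fun e => hk (e ▸ ha')
  obtain ⟨z2, hz2⟩ : ∃ z2, z2 ∉ ({z, z', k, y} : Finset ι) := by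
    by_contra hcon
    push Not at hcon
    have := Finset.card_le_card (fun x (_ : x ∈ (Finset.univ : Finset ι)) => hcon x)
    rw [Finset.card_univ] at this
    have := this.trans Finset.card_le_four
    omega
  simp only [Finset.mem_insert, Finset.mem_singleton, not_or] at hz2
  exact torus_false hq hM hno hg (Ne.symm hz2.2.2.1) (h k hk1 hk2) (h z2 hz2.1 hz2.2.1) hk hyk
    (Ne.symm hz2.2.2.2) hy

/-- The monomial element carrying `v` to itself along `σ`. -/
noncomputable def tw (v : ι → Fˣ) (σ : Equiv.Perm ι) : GL ι F := mon σ fun y => v (σ y) * (v y)⁻¹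

lemma det_tw (v : ι → Fˣ) {σ : Equiv.Perm ι} (hσ : Equiv.Perm.sign σ = 1) :
    Matrix.det (tw v σ : Matrix ι ι F) = 1 := by
  rw [tw, det_mon, hσ]
  simp only [Units.val_one, Int.cast_one, one_mul, Units.val_mul, Units.val_inv_eq_inv_val]
  rw [Finset.prod_mul_distrib, Equiv.prod_comp σ fun y => (v y : F), Finset.prod_inv_distrib,
    mul_inv_cancel₀ (Finset.prod_ne_zero_iff.2 fun y _ => (v y).ne_zero)]

lemma tw_mulVec (v : ι → Fˣ) (σ : Equiv.Perm ι) (x : ι → F) (i : ι) :
    ((tw v σ : Matrix ι ι F) *ᵥ x) (σ i) = (v (σ i) : F) * ((v i : F))⁻¹ * x i := by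
  simp [tw, mon_mulVec]

lemma tw_mul (v : ι → Fˣ) (σ τ : Equiv.Perm ι) : tw v (σ * τ) = tw v σ * tw v τ := by
  refine gl_ext_mulVec fun x => funext fun i => ?_
  obtain ⟨y, rfl⟩ := (σ * τ).surjective i
  rw [tw_mulVec, gl_mulVec_mul, Equiv.Perm.mul_apply, tw_mulVec, tw_mulVec]
  field_simp

lemma shared_false (hM : HasMon M) (hn : 6 ≤ Fintype.card ι) (hno : NoLine M) {g : GL ι F}
    (hg : g ∈ M) (h1 : ∀ b z z', col g b z = 0 → col g b z' = 0 → z = z') {a b : ι} (hab : a ≠ b)
    (Z : Finset ι) (hZ : Z.card ≤ 1) (ha : ∀ y, col g a y = 0 ↔ y ∈ Z)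
    (hb : ∀ z ∈ Z, col g b z = 0) : False := by
  classical
  let S := {y : ι // y ∉ Z}
  have hS : 5 ≤ Fintype.card S := by
    rw [Fintype.card_subtype_compl, Fintype.card_coe]; omega
  let v : ι → Fˣ := fun y => if h : col g a y = 0 then 1 else Units.mk0 _ h
  have hv : ∀ y, y ∉ Z → (v y : F) = col g a y := fun y hy => by
    simp [v, mt (ha y).1 hy]
  let ext' : Equiv.Perm S →* Equiv.Perm ι := Equiv.Perm.ofSubtype
  have hextZ : ∀ (τ : Equiv.Perm S), ∀ z ∈ Z, ext' τ z = z := fun τ z hz =>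
    Equiv.Perm.ofSubtype_apply_of_not_mem τ (by simpa using hz)
  have hextS : ∀ (τ : Equiv.Perm S), ∀ y, y ∉ Z → ext' τ y ∉ Z := fun τ y hy => by
    have : ext' τ y = (τ ⟨y, hy⟩ : ι) := Equiv.Perm.ofSubtype_apply_coe τ ⟨y, hy⟩
    rw [this]
    exact (τ ⟨y, hy⟩).2
  have hmem : ∀ τ : alternatingGroup S, tw v (ext' (τ : Equiv.Perm S)) ∈ M := fun τ =>
    hM _ _ (det_tw v ((Equiv.Perm.sign_ofSubtype _).trans τ.2))
  have hfix : ∀ τ : Equiv.Perm S, (tw v (ext' τ) : Matrix ι ι F) *ᵥ col g a = (1 : F) • col g a :=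
    fun τ => by
      funext i
      obtain ⟨y, rfl⟩ := (ext' τ).surjective i
      rw [tw_mulVec, one_smul]
      by_cases hy : y ∈ Z
      · rw [hextZ τ y hy, (ha y).2 hy, mul_zero]
      · rw [hv y hy, hv _ (hextS τ y hy)]
        field_simp [mt (ha y).1 hy]
  choose π cc hcc he using fun (τ : alternatingGroup S) => perm_cols hno hg (hmem τ) (hfix τ)
  have hone : ∀ i, π 1 i = i := fun i => by
    refine (col_smul_inj g (one_ne_zero (α := F)) (c' := cc 1 i) ?_).symm
    have e1 : tw v (ext' ((1 : alternatingGroup S) : Equiv.Perm S)) = 1 := by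
      refine gl_ext_mulVec fun x => funext fun j => ?_
      rw [Subgroup.coe_one, map_one]
      simp [tw, mon_mulVec, Equiv.Perm.one_def]
    rw [← he 1 i, e1, Units.val_one, one_mulVec, one_smul]
  have hmul : ∀ τ τ' i, π (τ * τ') i = π τ (π τ' i) := fun τ τ' i => by
    refine col_smul_inj g (hcc (τ * τ') i) (c' := cc τ' i * cc τ (π τ' i)) ?_
    rw [← he, Subgroup.coe_mul, map_mul, tw_mul, gl_mulVec_mul, he τ', mulVec_smul, he τ, smul_smul]
  have hPi : ∀ τ i, (i ≠ a ∧ ∀ z ∈ Z, col g i z = 0) → (π τ i ≠ a ∧ ∀ z ∈ Z, col g (π τ i) z = 0) := by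
    rintro τ i ⟨hi, hiz⟩
    refine ⟨fun e => hi ?_, fun z hz => ?_⟩
    · have ha' : π τ⁻¹ a = a := by
        refine (col_smul_inj g (one_ne_zero (α := F)) (c' := cc τ⁻¹ a) ?_).symm
        exact (hfix _).symm.trans (he τ⁻¹ a)
      rw [← hone i, ← inv_mul_cancel τ, hmul, e, ha']
    · have h2 := congrFun (he τ i) (ext' (τ : Equiv.Perm S) z)
      rw [tw_mulVec, hiz z hz, mul_zero, hextZ _ z hz, Pi.smul_apply, smul_eq_mul] at h2
      exact (mul_eq_zero.1 h2.symm).resolve_left (hcc τ i)
  let P := {i : ι // i ≠ a ∧ ∀ z ∈ Z, col g i z = 0}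
  let act : alternatingGroup S →* Equiv.Perm P :=
    { toFun := fun τ =>
        { toFun := fun i => ⟨π τ i, hPi τ i i.2⟩
          invFun := fun i => ⟨π τ⁻¹ i, hPi τ⁻¹ i i.2⟩
          left_inv := fun i => Subtype.ext (by simp only; rw [← hmul, inv_mul_cancel, hone])
          right_inv := fun i => Subtype.ext (by simp only; rw [← hmul, mul_inv_cancel, hone]) }
      map_one' := by ext i; simp [hone]
      map_mul' := fun τ τ' => by ext i; simp [hmul] }
  have hcard : Fintype.card P + 1 ≤ Fintype.card S := by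
    let f : Option P → (S → F) := fun o y => col g (o.elim a Subtype.val) y.1
    have hf : LinearIndependent F f := by
      refine Fintype.linearIndependent_iff.2 fun c hc => ?_
      have hli := (linearIndependent_col g).comp (fun o : Option P => o.elim a Subtype.val) (by
        rintro (_ | x) (_ | y) e
        · rfl
        · exact absurd e.symm y.2.1
        · exact absurd e x.2.1
        · exact congrArg some (Subtype.ext e))
      refine Fintype.linearIndependent_iff.1 hli c (funext fun y => ?_)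
      simp only [Finset.sum_apply, Pi.smul_apply, Pi.zero_apply, Function.comp]
      by_cases hy : y ∈ Z
      · refine Finset.sum_eq_zero fun o _ => ?_
        rcases o with _ | x
        · simp [(ha y).2 hy]
        · simp [x.2.2 y hy]
      · simpa [f] using congrFun hc ⟨y, hy⟩
    simpa using hf.fintype_card_le_finrank
  haveI : Nontrivial S := Fintype.one_lt_card_iff_nontrivial.1 (by omega)
  haveI := alternatingGroup.isSimpleGroup (α := S) (by rw [Nat.card_eq_fintype_card]; omega)
  have hker : act.ker = ⊤ := by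
    refine (Subgroup.Normal.eq_bot_or_eq_top inferInstance).resolve_left fun e => ?_
    have h2 := Fintype.card_le_of_injective act (MonoidHom.ker_eq_bot_iff act |>.1 e)
    have h3 := two_mul_card_alternatingGroup (α := S)
    rw [Fintype.card_perm] at h2 h3
    obtain ⟨s, hs⟩ : ∃ s, Fintype.card S = s + 1 := ⟨Fintype.card S - 1, by omega⟩
    have h4 : (Fintype.card P).factorial ≤ s.factorial := Nat.factorial_le (by omega)
    rw [hs, Nat.factorial_succ] at h3
    have h5 : 5 * s.factorial ≤ (s + 1) * s.factorial := Nat.mul_le_mul_right _ (by omega)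
    have h6 := Nat.factorial_pos s
    omega
  have hratio : ∀ k l : ι, k ∉ Z → l ∉ Z →
      col g b k * col g a l = col g b l * col g a k := by
    intro k l hk hl
    rcases eq_or_ne k l with rfl | hkl
    · rfl
    obtain ⟨m, hm⟩ : ∃ m, m ∉ Z ∪ {k, l} := by
      by_contra hcon
      push Not at hcon
      have := Finset.card_le_card (fun x (_ : x ∈ (Finset.univ : Finset ι)) => hcon x)
      rw [Finset.card_univ] at this
      have h2 := this.trans (Finset.card_union_le _ _)
      have h3 : ({k, l} : Finset ι).card ≤ 2 := Finset.card_le_two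
      omega
    simp only [Finset.mem_union, Finset.mem_insert, Finset.mem_singleton, not_or] at hm
    obtain ⟨y, hy⟩ : ∃ y, y ∉ ({k, l, m} : Finset ι) ∧ col g b y ≠ 0 := by
      by_contra hcon
      push Not at hcon
      obtain ⟨y1, h1a, h1b, h1c⟩ := exists_notMem (by omega) k l m
      obtain ⟨y2, hy2⟩ : ∃ y2, y2 ∉ ({k, l, m, y1} : Finset ι) := by
        by_contra hcon'
        push Not at hcon'
        have := Finset.card_le_card (fun x (_ : x ∈ (Finset.univ : Finset ι)) => hcon' x)
        rw [Finset.card_univ] at this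
        have := this.trans Finset.card_le_four
        omega
      simp only [Finset.mem_insert, Finset.mem_singleton, not_or] at hy2
      exact hy2.2.2.2 (h1 b _ _ (hcon y2 (by simp [hy2.1, hy2.2.1, hy2.2.2.1]))
        (hcon y1 (by simp [h1a, h1b, h1c])))
    simp only [Finset.mem_insert, Finset.mem_singleton, not_or] at hy
    let τ : alternatingGroup S := ⟨Equiv.swap (⟨k, hk⟩ : S) ⟨l, hl⟩ * Equiv.swap ⟨l, hl⟩ ⟨m, hm.1⟩, by
      rw [Equiv.Perm.mem_alternatingGroup, map_mul,
        Equiv.Perm.sign_swap (fun e => hkl (congrArg Subtype.val e)),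
        Equiv.Perm.sign_swap (fun e => hm.2.2 (congrArg Subtype.val e).symm)]
      rfl⟩
    have hb' : π τ b = b := by
      have h2 : act τ = 1 := MonoidHom.mem_ker.1 (hker ▸ Subgroup.mem_top τ)
      simpa [act] using congrArg Subtype.val (Equiv.congr_fun h2 ⟨b, hab.symm, hb⟩)
    have hτ : ext' (τ : Equiv.Perm S) = Equiv.swap k l * Equiv.swap l m := by
      simp only [τ, ext', map_mul]
      congr 1 <;> exact Equiv.Perm.ofSubtype_swap_eq _ _
    have e := he τ b
    rw [hb', hτ] at e
    have ey := congrFun e y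
    have el := congrFun e l
    have hy' : (Equiv.swap k l * Equiv.swap l m) y = y := by
      simp [Equiv.swap_apply_of_ne_of_ne hy.1.2.1 hy.1.2.2,
        Equiv.swap_apply_of_ne_of_ne hy.1.1 hy.1.2.1]
    have hk' : (Equiv.swap k l * Equiv.swap l m) k = l := by
      simp [Equiv.swap_apply_of_ne_of_ne hkl (Ne.symm hm.2.1)]
    conv at ey => lhs; rw [← hy']
    rw [tw_mulVec, hy', Pi.smul_apply, smul_eq_mul] at ey
    have el2 := tw_mulVec v (Equiv.swap k l * Equiv.swap l m) (col g b) k
    rw [hk', el, Pi.smul_apply, smul_eq_mul, hv k hk, hv l hl] at el2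
    replace el := el2.symm
    have hc1 : cc τ b = 1 := by
      have e3 : (v y : F) * (v y : F)⁻¹ = 1 := mul_inv_cancel₀ (v y).ne_zero
      rw [e3] at ey
      exact (mul_right_cancel₀ hy.2 ey).symm
    rw [hc1, one_mul] at el
    rw [← el]
    field_simp [mt (ha k).1 hk]
  obtain ⟨k, hk⟩ : ∃ k, k ∉ Z := by
    obtain ⟨x⟩ := (inferInstance : Nonempty S); exact ⟨x.1, x.2⟩
  refine hab (col_smul_inj g (mt (ha k).1 hk) (c := col g a k) (c' := col g b k) ?_).symm
  funext y
  by_cases hy : y ∈ Z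
  · simp [(ha y).2 hy, hb y hy]
  · simp only [Pi.smul_apply, smul_eq_mul]
    linear_combination hratio y k hy hk

lemma full_false [Fintype F] (hq : 5 ≤ Fintype.card F) (hM : HasMon M) (hn : 6 ≤ Fintype.card ι)
    (hno : NoLine M) {g : GL ι F} (hg : g ∈ M) (hgm : ¬ Mon g) {a : ι}
    (ha : ∀ y, col g a y ≠ 0) : False := by
  obtain ⟨b, hb, -⟩ := exists_notMem (by omega) a a a
  exact shared_false hM hn hno hg (fun b z z' => at_most_one_zero hq hM (by omega) hno hg hgm)
    hb.symm ∅ (by simp) (fun y => by simp [ha y]) (by simp)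

theorem exists_line [Fintype F] (hq : 5 ≤ Fintype.card F) (hM : HasMon M) (hn : 6 ≤ Fintype.card ι)
    {g : GL ι F} (hg : g ∈ M) (hgm : ¬ Mon g) :
    ∃ k ∈ M, ¬ Mon k ∧ ∃ a, ∀ y, y ≠ a → (k : Matrix ι ι F) y a = 0 := by
  classical
  by_contra hcon
  have hno : NoLine M := fun k hk a ha => by_contra fun h => hcon ⟨k, hk, h, a, ha⟩
  have hone := fun b z z' => at_most_one_zero hq hM (by omega) hno hg hgm (a := b) (z := z) (z' := z')
  have hex : ∀ b, ∃ z, col g b z = 0 := fun b => by
    by_contra h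
    push Not at h
    exact full_false hq hM hn hno hg hgm h
  choose Z hZ using hex
  have hiff : ∀ b y, col g b y = 0 ↔ y = Z b := fun b y =>
    ⟨fun h => hone b y (Z b) h (hZ b), fun h => h ▸ hZ b⟩
  have hinj : Function.Injective Z := fun a b e => by
    by_contra hne
    exact shared_false hM hn hno hg hone hne {Z a} (by simp) (fun y => by simp [hiff])
      (by simp [e, hZ b])
  have hpair : ∀ a b k l : ι, k ≠ Z a → k ≠ Z b → l ≠ Z a → l ≠ Z b →
      col g b k * col g a l = col g b l * col g a k := by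
    intro a b k l hka hkb hla hlb
    rcases eq_or_ne a b with rfl | hab
    · ring
    rcases eq_or_ne k l with rfl | hkl
    · rfl
    have hk0 := mt (hiff a k).1 hka
    have hl0 := mt (hiff a l).1 hla
    set d : ι → Fˣ := Function.update
      (dfun k (Units.mk0 (col g a l / col g a k) (div_ne_zero hl0 hk0)) l
        (Units.mk0 (col g a k / col g a l) (div_ne_zero hk0 hl0))) (Z a) (-1)
    have hdo : ∀ y, y ≠ k → y ≠ l → y ≠ Z a → d y = 1 := fun y h1 h2 h3 => by
      simp [d, dfun, h1, h2, h3]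
    have hdet : Matrix.det (mon (Equiv.swap k l) d : Matrix ι ι F) = 1 := by
      rw [det_mon, Equiv.Perm.sign_swap hkl,
        ← Finset.prod_subset (Finset.subset_univ ({k, l, Z a} : Finset ι)) (fun y _ hy => by
          simp only [Finset.mem_insert, Finset.mem_singleton, not_or] at hy
          simp [hdo y hy.1 hy.2.1 hy.2.2]),
        Finset.prod_insert (by simp [hkl, hka]), Finset.prod_pair hla]
      simp [d, dfun, hkl, hka, hla]
      field_simp
    have hfix : (mon (Equiv.swap k l) d : Matrix ι ι F) *ᵥ col g a = (1 : F) • col g a := by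
      funext y
      rw [mon_mulVec, one_smul, Equiv.symm_swap]
      by_cases h1 : y = k
      · subst h1; simp [d, dfun, hla, div_mul_cancel₀ _ hl0]
      by_cases h2 : y = l
      · subst h2; simp [d, dfun, hkl, hka, div_mul_cancel₀ _ hk0]
      rw [Equiv.swap_apply_of_ne_of_ne h1 h2]
      by_cases h3 : y = Z a
      · simp [h3, hZ a]
      · simp [hdo y h1 h2 h3]
    obtain ⟨b', c, hc, e⟩ := perm_cols hno hg (hM _ _ hdet) hfix b
    have hb' : b' = b := hinj (by
      symm
      refine (hiff b' (Z b)).1 ?_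
      have := congrFun e (Z b)
      rw [mon_mulVec, Equiv.symm_swap, Equiv.swap_apply_of_ne_of_ne hkb.symm hlb.symm, hZ b,
        mul_zero, Pi.smul_apply, smul_eq_mul] at this
      exact (mul_eq_zero.1 this.symm).resolve_left hc)
    rw [hb'] at e
    obtain ⟨m, hm⟩ : ∃ m, m ∉ ({k, l, Z a, Z b} : Finset ι) := by
      by_contra hcon'
      push Not at hcon'
      have := Finset.card_le_card (fun x (_ : x ∈ (Finset.univ : Finset ι)) => hcon' x)
      rw [Finset.card_univ] at this
      have := this.trans Finset.card_le_four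
      omega
    simp only [Finset.mem_insert, Finset.mem_singleton, not_or] at hm
    have em := congrFun e m
    rw [mon_mulVec, Equiv.symm_swap, Equiv.swap_apply_of_ne_of_ne hm.1 hm.2.1,
      hdo m hm.1 hm.2.1 hm.2.2.1, Units.val_one, Pi.smul_apply, smul_eq_mul] at em
    have hc1 : c = 1 := (mul_right_cancel₀ (mt (hiff b m).1 hm.2.2.2) em).symm
    have el := congrFun e l
    rw [mon_mulVec, Equiv.symm_swap, Equiv.swap_apply_right, hc1, one_smul] at el
    simp [d, dfun, hka, hkl] at el
    rw [← el]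
    field_simp
  obtain ⟨a0⟩ : Nonempty ι := Fintype.card_pos_iff.1 (by omega)
  obtain ⟨a1, ha1, -⟩ := exists_notMem (by omega) a0 a0 a0
  have hz01 : Z a0 ≠ Z a1 := fun e => ha1 (hinj e).symm
  obtain ⟨m0, hm0, hm0', -⟩ := exists_notMem (by omega) (Z a0) (Z a1) (Z a1)
  set P : ι → F := fun y => if y = Z a0 then col g a1 (Z a0) * (col g a0 m0 / col g a1 m0)
    else col g a0 y with hP
  have hP0 : ∀ y, P y ≠ 0 := fun y => by
    simp only [hP]
    split_ifs with h
    · exact mul_ne_zero (mt (hiff _ _).1 hz01)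
        (div_ne_zero (mt (hiff _ _).1 hm0) (mt (hiff _ _).1 hm0'))
    · exact mt (hiff _ _).1 h
  have hscal : ∀ b, ∃ c : F, c ≠ 0 ∧ ∀ y, col g b y = c * (if y = Z b then 0 else P y) := by
    intro b
    obtain ⟨m, hma, hmb, hmc⟩ := exists_notMem (by omega) (Z a0) (Z a1) (Z b)
    have hm1 := mt (hiff a0 m).1 hma
    refine ⟨col g b m / col g a0 m, div_ne_zero (mt (hiff b m).1 hmc) hm1, fun y => ?_⟩
    split_ifs with hy
    · rw [hy, hZ, mul_zero]
    simp only [hP]
    split_ifs with hy0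
    · subst hy0
      have e1 := hpair a1 b (Z a0) m hz01 hy hmb hmc
      have e2 := hpair a1 a0 m m0 hmb hma hm0' hm0
      have hm2 := mt (hiff a1 m0).1 hm0'
      have hm3 := mt (hiff a1 m).1 hmb
      field_simp
      refine mul_right_cancel₀ hm3 ?_
      linear_combination (col g a0 m * col g a1 m0) * e1 + (col g b m * col g a1 (Z a0)) * e2
    · field_simp
      linear_combination hpair a0 b y m hy0 hy hma hmc
  choose c hc hcol using hscal
  have hbij : Function.Bijective Z := hinj.bijective_of_finite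
  have hvmul : ∀ w : ι → F, ∀ b', ((g : Matrix ι ι F) *ᵥ fun b => w b / c b) (Z b') =
      P (Z b') * (∑ b, w b - w b') := by
    intro w b'
    rw [mulVec, dotProduct, ← Finset.add_sum_erase _ _ (Finset.mem_univ b'),
      ← Finset.add_sum_erase _ w (Finset.mem_univ b'), add_sub_cancel_left, Finset.mul_sum,
      show (g : Matrix ι ι F) (Z b') b' = 0 from hZ b', zero_mul, zero_add]
    refine Finset.sum_congr rfl fun b hb => ?_
    change col g b (Z b') * (w b / c b) = _
    rw [hcol b, if_neg fun e => Finset.ne_of_mem_erase hb (hinj e).symm]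
    field_simp [hc b]
  set N1 : F := (Fintype.card ι : F) - 1 with hN1
  have hN : N1 ≠ 0 := by
    intro e
    refine gl_mulVec_ne_zero g (x := fun b => (1 : F) / c b) (fun e' => ?_) (funext fun y => ?_)
    · exact one_div_ne_zero (hc a0) (congrFun e' a0)
    · obtain ⟨b', rfl⟩ := hbij.2 y
      rw [hvmul (fun _ => 1) b', Pi.zero_apply]
      simp only [Finset.sum_const, Finset.card_univ, nsmul_eq_mul, mul_one]
      rw [← hN1, e, mul_zero]
  obtain ⟨p, hpq⟩ : ∃ p, p ≠ a0 ∧ True ∧ True := ⟨a1, ha1, trivial, trivial⟩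
  obtain ⟨q', hq', hq'', -⟩ := exists_notMem (by omega) a0 p p
  have hFu : ∀ x1 x2 x3 x4 : F, ∃ x : F, x ≠ x1 ∧ x ≠ x2 ∧ x ≠ x3 ∧ x ≠ x4 := fun x1 x2 x3 x4 => by
    obtain ⟨x, -, hx⟩ := Finset.exists_mem_notMem_of_card_lt_card
      (s := ({x1, x2, x3, x4} : Finset F)) (t := Finset.univ)
      (Finset.card_le_four.trans_lt (by rw [Finset.card_univ]; omega))
    exact ⟨x, by simpa using hx⟩
  obtain ⟨t, ht0, ht1, htS⟩ : ∃ t : F, t ≠ 0 ∧ t ≠ 1 ∧ N1 + ((t - 1) + (t⁻¹ - 1)) ≠ 0 := by
    obtain ⟨t1, ht10, ht11, -⟩ := hFu 0 1 1 1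
    by_cases h : N1 + ((t1 - 1) + (t1⁻¹ - 1)) = 0
    · obtain ⟨t, h0, h1, h2, h3⟩ := hFu 0 1 t1 t1⁻¹
      refine ⟨t, h0, h1, fun e => ?_⟩
      have e1 := mul_inv_cancel₀ h0
      have e2 := mul_inv_cancel₀ ht10
      have e3 : (t - t1) * (t - t1⁻¹) = 0 := by linear_combination t * e - t * h - e1 + e2
      rcases mul_eq_zero.1 e3 with h' | h'
      · exact h2 (sub_eq_zero.1 h')
      · exact h3 (sub_eq_zero.1 h')
    · exact ⟨t1, ht10, ht11, h⟩
  set D : ι → Fˣ := dfun p (Units.mk0 t ht0) q' (Units.mk0 t ht0)⁻¹ with hD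
  have hx : g * mon 1 D * g⁻¹ ∈ M := conj_mem (dg_pair_mem hM hq''.symm _) hg
  have hD0 : (D a0 : F) = 1 := by simp [D, dfun, hpq.1.symm, hq'.symm]
  have hsum : ∑ b, ((D b : F) - 1) = (t - 1) + (t⁻¹ - 1) := by
    rw [Fintype.sum_eq_add p q' hq''.symm fun b hb => by simp [D, dfun, hb.1, hb.2]]
    simp [D, dfun, hq''.symm]
  have hSD : ∑ b, (D b : F) = N1 + 1 + ((t - 1) + (t⁻¹ - 1)) := by
    rw [Finset.sum_sub_distrib, Finset.sum_const, Finset.card_univ, nsmul_one, sub_eq_iff_eq_add]
      at hsum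
    rw [hsum, hN1]; ring
  have hfull : ∀ y, col (g * mon 1 D * g⁻¹) (Z a0) y ≠ 0 := by
    intro y
    obtain ⟨b', rfl⟩ := hbij.2 y
    have hw : (g : Matrix ι ι F) *ᵥ (fun b => (N1⁻¹ - if b = a0 then 1 else 0) / c b)
        = Pi.single (Z a0) (P (Z a0)) := by
      funext y
      obtain ⟨b, rfl⟩ := hbij.2 y
      rw [hvmul]
      simp only [Finset.sum_sub_distrib, Finset.sum_const, Finset.card_univ, nsmul_eq_mul,
        Finset.sum_ite_eq', Finset.mem_univ, if_true]
      by_cases h : b = a0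
      · subst h
        simp only [if_true, Pi.single_eq_same]
        rw [show (Fintype.card ι : F) * N1⁻¹ - 1 - (N1⁻¹ - 1) = N1 * N1⁻¹ by rw [hN1]; ring,
          mul_inv_cancel₀ hN, mul_one]
      · rw [if_neg h, Pi.single_eq_of_ne fun e => h (hinj e)]
        rw [show (Fintype.card ι : F) * N1⁻¹ - 1 - (N1⁻¹ - 0) = N1 * N1⁻¹ - 1 by rw [hN1]; ring,
          mul_inv_cancel₀ hN, sub_self, mul_zero]
    intro e
    have h2 : ((g * mon 1 D * g⁻¹ : GL ι F) : Matrix ι ι F) *ᵥ Pi.single (Z a0) (P (Z a0))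
        = (g : Matrix ι ι F) *ᵥ fun b => (D b : F) * (N1⁻¹ - if b = a0 then 1 else 0) / c b := by
      rw [← hw, gl_mulVec_mul, gl_inv_mulVec_mulVec, gl_mulVec_mul, dg_mulVec]
      simp [mul_div_assoc]
    have h3 := congrFun h2 (Z b')
    rw [mulVec, dotProduct_single, show ((g * mon 1 D * g⁻¹ : GL ι F) : Matrix ι ι F) (Z b') (Z a0)
        = 0 from e, zero_mul, hvmul] at h3
    simp only [mul_sub, mul_ite, mul_one, mul_zero, Finset.sum_sub_distrib, ← Finset.sum_mul,
      Finset.sum_ite_eq', Finset.mem_univ, if_true] at h3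
    rw [hSD, hD0] at h3
    have hNN := mul_inv_cancel₀ hN
    by_cases hb : b' = a0
    · subst hb
      rw [if_pos rfl, hD0] at h3
      refine mul_ne_zero (hP0 (Z b')) (mul_ne_zero htS (inv_ne_zero hN)) ?_
      linear_combination -h3
    · rw [if_neg hb] at h3
      have h4 : (t - 1) + (t⁻¹ - 1) + 1 - (D b' : F) = 0 := by
        have h5 : ((N1 + 1 + ((t - 1) + (t⁻¹ - 1))) * N1⁻¹ - 1 - (D b' : F) * N1⁻¹) = 0 := by
          refine (mul_eq_zero.1 (?_ : P (Z b') * _ = 0)).resolve_left (hP0 _)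
          linear_combination -h3
        linear_combination N1 * h5 - (1 + ((t - 1) + (t⁻¹ - 1)) + N1 - (D b' : F)) * hNN
      by_cases hp : b' = p
      · subst hp
        simp [D, dfun, hq''.symm] at h4
        exact ht1 (inv_eq_one.1 (by linear_combination h4))
      by_cases hq3 : b' = q'
      · subst hq3
        simp [D, dfun] at h4
        exact ht1 (by linear_combination h4)
      simp [D, dfun, hp, hq3] at h4
      have h6 : (t - 1) * (t - 1) = 0 := by
        have e2 := mul_inv_cancel₀ ht0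
        linear_combination t * h4 - e2
      exact ht1 (sub_eq_zero.1 (mul_self_eq_zero.1 h6))
  refine full_false hq hM hn hno hx (fun hm => ?_) hfull
  obtain ⟨y', hy'⟩ := hm (Z a0)
  obtain ⟨y, hy, -⟩ := exists_notMem (by omega) y' y' y'
  exact hfull y (hy' y hy)

end CfsgLib.ClassicalMax.MonG
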