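/-
An overgroup of the full monomial group in the general linear group contains an elementary transvection.
-/
import Cfsg.Agent.Lib.ClassicalMax.MonBase
set_option autoImplicit false
set_option maxHeartbeats 1000000

namespace CfsgLib.ClassicalMax.MonG

open Matrix Cfsg.Geo

variable {ι : Type} [Fintype ι] [DecidableEq ι] {F : Type*} [Field F] [DecidableEq F]

/-- Scaling by `t` at one coordinate. -/
def d1 (y : ι) (t : Fˣ) : ι → Fˣ := Function.update 1 y t

lemma psGL_mul_right {u w w' : ι → F} {ε : F} (h : w ⬝ᵥ u = 1) (h' : w' ⬝ᵥ u = 1) (hε : ε ≠ 0) :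
    psGL u w ε⁻¹ * psGL u w' ε = tvGL u ((ε⁻¹ - 1) • (w - w')) := by
  have h0 : ((ε⁻¹ - 1) • (w - w')) ⬝ᵥ u = 0 := by
    rw [smul_dotProduct, sub_dotProduct, h, h', sub_self, smul_zero]
  refine gl_ext_mulVec fun x => ?_
  rw [gl_mulVec_mul, psGL_mulVec h (inv_ne_zero hε), psGL_mulVec h' hε, tvGL_mulVec h0,
    dotProduct_add, dotProduct_smul, h, smul_dotProduct, sub_dotProduct, add_assoc, ← add_smul]
  congr 2
  simp only [smul_eq_mul]
  field_simp
  ring

lemma psGL_mul_left {u u' w : ι → F} {ε : F} (h : w ⬝ᵥ u = 1) (h' : w ⬝ᵥ u' = 1) (hε : ε ≠ 0) :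
    psGL u w ε⁻¹ * psGL u' w ε = tvGL ((ε - 1) • (u' - u)) w := by
  have h0 : w ⬝ᵥ ((ε - 1) • (u' - u)) = 0 := by
    rw [dotProduct_smul, dotProduct_sub, h, h', sub_self, smul_zero]
  refine gl_ext_mulVec fun x => ?_
  rw [gl_mulVec_mul, psGL_mulVec h (inv_ne_zero hε), psGL_mulVec h' hε, tvGL_mulVec h0,
    dotProduct_add, dotProduct_smul, h', smul_eq_mul, mul_one, smul_smul, smul_sub, add_assoc]
  congr 1
  have e : (ε⁻¹ - 1) * (w ⬝ᵥ x + (ε - 1) * (w ⬝ᵥ x)) = - ((w ⬝ᵥ x) * (ε - 1)) := by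
    field_simp
    ring
  rw [e]
  module

variable (N : Subgroup (GL ι F)) (ε : F)

/-- All that is used of the overgroup. -/
structure Ctx : Prop where
  hN : ∀ σ d, mon σ d ∈ N
  hn : 5 ≤ Fintype.card ι
  h0 : ε ≠ 0
  h1 : ε ≠ 1
  h2 : ε ≠ -1
  h3 : ε ^ 2 - ε + 1 ≠ 0
  hq : ∀ a b c d : F, ∃ x : F, x ≠ a ∧ x ≠ b ∧ x ≠ c ∧ x ≠ d

/-- A member of the family of pseudo-reflections in `N`. -/
def Fam (u w : ι → F) : Prop := w ⬝ᵥ u = 1 ∧ psGL u w ε ∈ N

variable {N ε}

lemma Ctx.hasMon (H : Ctx N ε) : HasMon N := fun σ d _ => H.hN σ d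

lemma Ctx.t_ne (H : Ctx N ε) : Units.mk0 ε H.h0 ≠ 1 :=
  fun e => H.h1 (by simpa using congrArg Units.val e)

lemma Ctx.eta_ne (H : Ctx N ε) : ε⁻¹ - 1 ≠ 0 :=
  sub_ne_zero.2 fun e => H.h1 (by simpa using e)

lemma Fam.conj (H : Ctx N ε) {u w : ι → F} (hf : Fam N ε u w) {g : GL ι F} (hg : g ∈ N) :
    Fam N ε ((g : Matrix ι ι F) *ᵥ u) (w ᵥ* ((g⁻¹ : GL ι F) : Matrix ι ι F)) :=
  ⟨by rw [conj_dot, hf.1], conj_psGL g hf.1 H.h0 ▸ conj_mem hf.2 hg⟩

lemma Fam.conjFam (H : Ctx N ε) {u w u' w' : ι → F} (hf : Fam N ε u w) (hf' : Fam N ε u' w') :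
    Fam N ε (u + ((ε - 1) * (w' ⬝ᵥ u)) • u') (w + ((ε⁻¹ - 1) * (w ⬝ᵥ u')) • w') := by
  have := hf.conj H hf'.2
  rwa [psGL_mulVec hf'.1 H.h0, psGL_vecMul hf'.1 H.h0] at this

lemma Fam.tvRight (H : Ctx N ε) {u w w' : ι → F} (hf : Fam N ε u w) (hf' : Fam N ε u w') :
    tvGL u ((ε⁻¹ - 1) • (w - w')) ∈ N := by
  rw [← psGL_mul_right hf.1 hf'.1 H.h0, ← psGL_inv hf.1 H.h0]
  exact N.mul_mem (N.inv_mem hf.2) hf'.2

lemma Fam.tvLeft (H : Ctx N ε) {u u' w : ι → F} (hf : Fam N ε u w) (hf' : Fam N ε u' w) :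
    tvGL ((ε - 1) • (u' - u)) w ∈ N := by
  rw [← psGL_mul_left hf.1 hf'.1 H.h0, ← psGL_inv hf.1 H.h0]
  exact N.mul_mem (N.inv_mem hf.2) hf'.2

lemma elem_asym_right (H : Ctx N ε) {u w : ι → F} (hf : Fam N ε u w) {y : ι} (hu : u y = 0)
    (hw : w y ≠ 0) : HasElem N := by
  have hf' := hf.conj H (H.hN 1 (d1 y (Units.mk0 ε H.h0)))
  rw [dg_mulVec, dg_vecMul] at hf'
  have e : (fun i => ((d1 y (Units.mk0 ε H.h0) i : Fˣ) : F) * u i) = u := by
    funext i
    by_cases hi : i = y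
    · simp [hi, hu]
    · simp [d1, hi]
  rw [e] at hf'
  have hm := hf.tvRight H hf'
  have hne : (ε⁻¹ - 1) * (w y - w y * ε⁻¹) ≠ 0 := by
    have : w y - w y * ε⁻¹ = -(w y * (ε⁻¹ - 1)) := by ring
    rw [this, mul_neg]
    exact neg_ne_zero.2 (mul_ne_zero H.eta_ne (mul_ne_zero hw H.eta_ne))
  have e2 : (ε⁻¹ - 1) • (w - fun i => w i * ((d1 y (Units.mk0 ε H.h0) i : Fˣ) : F)⁻¹)
      = ((ε⁻¹ - 1) * (w y - w y * ε⁻¹)) • (Pi.single y (1 : F)) := by
    funext i
    by_cases hi : i = y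
    · subst hi; simp [d1]
    · simp [d1, hi]
  have h0 : (Pi.single y (1 : F)) ⬝ᵥ u = 0 := by simp [single_dotProduct, hu]
  rw [e2, ← tvGL_smul _ h0] at hm
  exact hasElem_of_axis H.hasMon (by have := H.hn; omega) H.t_ne
    (u := ((ε⁻¹ - 1) * (w y - w y * ε⁻¹)) • u)
    (smul_ne_zero hne fun e0 => by simpa [e0] using hf.1) (by simp [hu]) hm

lemma elem_asym_left (H : Ctx N ε) {u w : ι → F} (hf : Fam N ε u w) {y : ι} (hu : u y ≠ 0)
    (hw : w y = 0) : HasElem N := by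
  have hf' := hf.conj H (H.hN 1 (d1 y (Units.mk0 ε H.h0)))
  rw [dg_mulVec, dg_vecMul] at hf'
  have e : (fun i => w i * ((d1 y (Units.mk0 ε H.h0) i : Fˣ) : F)⁻¹) = w := by
    funext i
    by_cases hi : i = y
    · simp [hi, hw]
    · simp [d1, hi]
  rw [e] at hf'
  have hm := hf.tvLeft H hf'
  have e2 : (ε - 1) • ((fun i => ((d1 y (Units.mk0 ε H.h0) i : Fˣ) : F) * u i) - u)
      = ((ε - 1) * ((ε - 1) * u y)) • (Pi.single y (1 : F)) := by
    funext i
    by_cases hi : i = y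
    · subst hi
      simp only [d1, Pi.smul_apply, Pi.sub_apply, Function.update_self, Units.val_mk0, smul_eq_mul,
        Pi.single_eq_same]
      ring
    · simp [d1, hi]
  have h0 : w ⬝ᵥ (Pi.single y (1 : F)) = 0 := by simp [dotProduct_single, hw]
  rw [e2, tvGL_smul _ h0] at hm
  exact hasElem_of_centre H.hasMon (by have := H.hn; omega) H.t_ne
    (smul_ne_zero (mul_ne_zero (sub_ne_zero.2 H.h1) (mul_ne_zero (sub_ne_zero.2 H.h1) hu))
      fun e0 => by simpa [e0] using hf.1)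
    (by simp [hw]) hm

lemma elem_three (H : Ctx N ε) {u w : ι → F} (hf : Fam N ε u w) {k l j : ι} (hkl : k ≠ l)
    (hjk : j ≠ k) (hjl : j ≠ l) (hk : u k ≠ 0) (hl : u l ≠ 0) (hj : u j ≠ 0)
    (hne : u k * w k ≠ u l * w l) : HasElem N := by
  set d : ι → Fˣ := dfun k (Units.mk0 (u l / u k) (div_ne_zero hl hk)) l
    (Units.mk0 (u k / u l) (div_ne_zero hk hl))
  have hf' := hf.conj H (H.hN (Equiv.swap k l) d)
  have e : (mon (Equiv.swap k l) d : Matrix ι ι F) *ᵥ u = u := by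
    funext i
    rw [mon_mulVec, Equiv.symm_swap]
    by_cases hik : i = k
    · subst hik; simp [d, dfun, div_mul_cancel₀ _ hl]
    by_cases hil : i = l
    · subst hil; simp [d, dfun, hkl, div_mul_cancel₀ _ hk]
    simp [d, dfun, Equiv.swap_apply_of_ne_of_ne hik hil, hik, hil]
  rw [e] at hf'
  set w' := w ᵥ* (((mon (Equiv.swap k l) d)⁻¹ : GL ι F) : Matrix ι ι F)
  have hw'k : w' k = w l * (u l / u k) := by
    simp only [w', vecMul_mon_inv, Equiv.symm_swap, Equiv.swap_apply_left]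
    simp [d, dfun]
  have hw'o : ∀ i, i ≠ k → i ≠ l → w' i = w i := fun i h h' => by
    simp only [w', vecMul_mon_inv]
    simp [Equiv.swap_apply_of_ne_of_ne h h', d, dfun, h, h']
  have hm := hf.tvRight H hf'
  set φ := (ε⁻¹ - 1) • (w - w')
  have hφu : φ ⬝ᵥ u = 0 := by simp [φ, sub_dotProduct, hf.1, hf'.1]
  have hφo : ∀ i, i ≠ k → i ≠ l → φ i = 0 := fun i h h' => by simp [φ, hw'o i h h']
  have hφk : φ k ≠ 0 := by
    simp only [φ, Pi.smul_apply, Pi.sub_apply, smul_eq_mul, hw'k]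
    refine mul_ne_zero H.eta_ne (sub_ne_zero.2 fun e1 => hne ?_)
    rw [e1]; field_simp
  have hm2 := conj_mem hm (H.hN 1 (d1 j (Units.mk0 ε H.h0)))
  rw [conj_tvGL _ hφu, dg_mulVec, dg_vecMul] at hm2
  have e2 : (fun i => φ i * ((d1 j (Units.mk0 ε H.h0) i : Fˣ) : F)⁻¹) = φ := by
    funext i
    by_cases hi : i = j
    · simp [hi, hφo j hjk hjl]
    · simp [d1, hi]
  rw [e2] at hm2
  have hu2 : φ ⬝ᵥ (fun i => ((d1 j (Units.mk0 ε H.h0) i : Fˣ) : F) * u i) = 0 := by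
    rw [← hφu]
    refine Finset.sum_congr rfl fun i _ => ?_
    by_cases hi : i = j
    · simp [hi, hφo j hjk hjl]
    · simp [d1, hi]
  have hm3 := tv_sub_left hφu hu2 hm hm2
  have e3 : ((fun i => ((d1 j (Units.mk0 ε H.h0) i : Fˣ) : F) * u i) - u)
      = ((ε - 1) * u j) • (Pi.single j (1 : F)) := by
    funext i
    by_cases hi : i = j
    · subst hi; simp [d1]; ring
    · simp [d1, hi]
  rw [e3, tvGL_smul _ (by simp [dotProduct_single, hφo j hjk hjl])] at hm3
  refine hasElem_of_centre H.hasMon (by have := H.hn; omega) H.t_ne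
    (smul_ne_zero (mul_ne_zero (sub_ne_zero.2 H.h1) hj) fun e0 => hφk (by rw [e0]; rfl))
    (by simp [hφo j hjk hjl]) hm3

lemma elem_two_aux (H : Ctx N ε) {u w : ι → F} (hf : Fam N ε u w) {k l : ι} (hkl : k ≠ l)
    (hk : u k ≠ 0) (hl : u l ≠ 0) (hwk : w k ≠ 0) (hwl : w l ≠ 0)
    (hsu : ∀ i, i ≠ k → i ≠ l → u i = 0) (hsw : ∀ i, i ≠ k → i ≠ l → w i = 0)
    (hQ : (ε - 1) * (ε⁻¹ - 1) * (u l * w l) ^ 2 ≠ 1) : HasElem N := by
  obtain ⟨z, hzk, hzl, -⟩ := exists_notMem (by have := H.hn; omega) k l l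
  set σ : Equiv.Perm ι := Equiv.swap k l * Equiv.swap l z
  have hs1 : σ.symm k = z := by
    rw [Equiv.symm_apply_eq]; simp [σ]
  have hs2 : σ.symm l = k := by
    rw [Equiv.symm_apply_eq]; simp [σ, Equiv.swap_apply_of_ne_of_ne hkl hzk.symm]
  have hs3 : σ.symm z = l := by
    rw [Equiv.symm_apply_eq]; simp [σ, Equiv.swap_apply_of_ne_of_ne hzk hzl]
  have hs4 : ∀ i, i ≠ k → i ≠ l → i ≠ z → σ.symm i = i := fun i a b c => by
    rw [Equiv.symm_apply_eq]
    simp [σ, Equiv.swap_apply_of_ne_of_ne b c, Equiv.swap_apply_of_ne_of_ne a b]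
  set d : ι → Fˣ := dfun k (Units.mk0 (u l / u k) (div_ne_zero hl hk)) l
    (Units.mk0 (1 / u l) (one_div_ne_zero hl))
  have hf' := hf.conj H (H.hN σ d)
  set u' := (mon σ d : Matrix ι ι F) *ᵥ u
  set w' := w ᵥ* (((mon σ d)⁻¹ : GL ι F) : Matrix ι ι F)
  have hu'k : u' k = 0 := by simp [u', mon_mulVec, hs1, hsu z hzk hzl]
  have hu'l : u' l = u l := by simp [u', mon_mulVec, hs2, d, dfun, hkl, div_mul_cancel₀ _ hk]
  have hu'z : u' z = 1 := by simp [u', mon_mulVec, hs3, d, dfun, hl]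
  have hw'k : w' k = 0 := by simp only [w', vecMul_mon_inv]; simp [hs1, hsw z hzk hzl]
  have hw'l : w' l = u k * w k / u l := by
    simp only [w', vecMul_mon_inv]; simp [hs2, d, dfun, hkl]; field_simp
  have hw'z : w' z = u l * w l := by simp only [w', vecMul_mon_inv]; simp [hs3, d, dfun]; ring
  have hβ : w' ⬝ᵥ u = u k * w k := by
    rw [dotProduct, Fintype.sum_eq_single l (fun i hi => ?_), hw'l]
    · field_simp
    · by_cases hik : i = k
      · rw [hik, hw'k, zero_mul]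
      · rw [hsu i hik hi, mul_zero]
  have hβ' : w ⬝ᵥ u' = u l * w l := by
    rw [dotProduct, Fintype.sum_eq_single l (fun i hi => ?_), hu'l, mul_comm]
    by_cases hik : i = k
    · rw [hik, hu'k, mul_zero]
    · rw [hsw i hik hi, zero_mul]
  have hf2 := hf.conjFam H hf'
  rw [hβ, hβ'] at hf2
  set u2 := u + ((ε - 1) * (u k * w k)) • u'
  set w2 := w + ((ε⁻¹ - 1) * (u l * w l)) • w'
  have hη : ε - 1 ≠ 0 := sub_ne_zero.2 H.h1
  have hu2z : u2 z = (ε - 1) * (u k * w k) := by simp [u2, hu'z, hsu z hzk hzl]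
  have hw2z : w2 z = (ε⁻¹ - 1) * (u l * w l) * (u l * w l) := by
    simp [w2, hw'z, hsw z hzk hzl]
  have hu2k : u2 k = u k := by simp [u2, hu'k]
  have hw2k : w2 k = w k := by simp [w2, hw'k]
  by_cases h1 : u2 l = 0
  · by_cases h2 : w2 l = 0
    · exfalso
      simp only [u2, w2, Pi.add_apply, Pi.smul_apply, smul_eq_mul, hu'l, hw'l] at h1 h2
      have h1' : 1 + (ε - 1) * (u k * w k) = 0 := by
        refine (mul_eq_zero.1 ?_).resolve_left hl
        linear_combination h1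
      have h2' : 1 + (ε⁻¹ - 1) * (u k * w k) = 0 := by
        refine (mul_eq_zero.1 ?_).resolve_left hwl
        field_simp at h2 ⊢
        linear_combination h2
      have h3 : (ε - ε⁻¹) * (u k * w k) = 0 := by linear_combination h1' - h2'
      rcases mul_eq_zero.1 h3 with h | h
      · have h4 : ε * ε = 1 := by
          have := H.h0
          field_simp at h
          linear_combination h
        rcases mul_self_eq_one_iff.1 h4 with h | h
        · exact H.h1 h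
        · exact H.h2 h
      · exact mul_ne_zero hk hwk h
    · exact elem_asym_right H hf2 h1 h2
  · refine elem_three H hf2 hzk.symm (j := l) hkl.symm hzl.symm (by rw [hu2k]; exact hk)
      (by rw [hu2z]; exact mul_ne_zero hη (mul_ne_zero hk hwk)) h1 ?_
    rw [hu2k, hw2k, hu2z, hw2z]
    intro e
    refine hQ (mul_left_cancel₀ (mul_ne_zero hk hwk) ?_)
    linear_combination -e

lemma elem_two (H : Ctx N ε) {u w : ι → F} (hf : Fam N ε u w) {k l : ι} (hkl : k ≠ l)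
    (hk : u k ≠ 0) (hl : u l ≠ 0) (hwk : w k ≠ 0) (hwl : w l ≠ 0)
    (hsu : ∀ i, i ≠ k → i ≠ l → u i = 0) (hsw : ∀ i, i ≠ k → i ≠ l → w i = 0)
    (hne : u k * w k ≠ u l * w l) : HasElem N := by
  by_cases hQ : (ε - 1) * (ε⁻¹ - 1) * (u l * w l) ^ 2 = 1
  · refine elem_two_aux H hf hkl.symm hl hk hwl hwk (fun i a b => hsu i b a)
      (fun i a b => hsw i b a) fun hP => ?_
    have hsum : u k * w k + u l * w l = 1 := by
      rw [← hf.1, dotProduct, Fintype.sum_eq_add k l hkl fun i hi => by rw [hsu i hi.1 hi.2, mul_zero]]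
      ring
    have h2 : (ε - 1) * (ε⁻¹ - 1) *
        ((u k * w k - u l * w l) * (u k * w k + u l * w l)) = 0 := by
      linear_combination hP - hQ
    rw [hsum, mul_one] at h2
    rcases mul_eq_zero.1 h2 with h | h
    · exact mul_ne_zero (sub_ne_zero.2 H.h1) H.eta_ne h
    · exact hne (sub_eq_zero.1 h)
  · exact elem_two_aux H hf hkl hk hl hwk hwl hsu hsw hQ

/-- Equal supports and constant products. -/
structure Stuck (u w : ι → F) (c : F) : Prop where
  supp : ∀ y, u y = 0 ↔ w y = 0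
  prod : ∀ y, u y ≠ 0 → u y * w y = c

lemma Stuck.ne {u w : ι → F} {c : F} (h : Stuck u w c) {y : ι} (hy : u y ≠ 0) : c ≠ 0 := by
  rw [← h.prod y hy]
  exact mul_ne_zero hy fun e => hy ((h.supp y).2 e)

lemma stuck_of_not_elem (H : Ctx N ε) (he : ¬ HasElem N) {u w : ι → F} (hf : Fam N ε u w) :
    ∃ c, Stuck u w c := by
  have hsupp : ∀ y, u y = 0 ↔ w y = 0 := fun y =>
    ⟨fun h => by_contra fun h' => he (elem_asym_right H hf h h'),
      fun h => by_contra fun h' => he (elem_asym_left H hf h' h)⟩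
  obtain ⟨k, hk⟩ : ∃ k, u k ≠ 0 := Function.ne_iff.1 fun e => by simpa [e] using hf.1
  refine ⟨u k * w k, hsupp, fun l hl => by_contra fun hne => he ?_⟩
  have hkl : k ≠ l := fun e => hne (e ▸ rfl)
  by_cases h : ∃ j, j ≠ k ∧ j ≠ l ∧ u j ≠ 0
  · obtain ⟨j, a, b, c⟩ := h
    exact elem_three H hf hkl a b hk hl c (Ne.symm hne)
  · push Not at h
    exact elem_two H hf hkl hk hl (fun e => hk ((hsupp k).2 e)) (fun e => hl ((hsupp l).2 e)) h
      (fun i a b => (hsupp i).1 (h i a b)) (Ne.symm hne)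

lemma fam_column (H : Ctx N ε) {g : GL ι F} (hg : g ∈ N) (b : ι) :
    Fam N ε ((g : Matrix ι ι F) *ᵥ Pi.single b 1)
      (Pi.single b 1 ᵥ* ((g⁻¹ : GL ι F) : Matrix ι ι F)) := by
  have hb : Fam N ε (Pi.single b 1) (Pi.single b 1) := by
    refine ⟨by simp, ?_⟩
    have : psGL (Pi.single b (1 : F)) (Pi.single b 1) ε = mon 1 (d1 b (Units.mk0 ε H.h0)) := by
      refine gl_ext_mulVec fun x => funext fun i => ?_
      rw [psGL_mulVec (by simp) H.h0, mon_mulVec]
      by_cases hi : i = b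
      · subst hi; simp [d1, Equiv.Perm.one_def]; ring
      · simp [d1, hi, Equiv.Perm.one_def]
    rw [this]
    exact H.hN _ _
  exact hb.conj H hg

lemma stuck_value (H : Ctx N ε) (he : ¬ HasElem N) {u w : ι → F} {c : F} (hf : Fam N ε u w)
    (hs : Stuck u w c) {b l : ι} (hbl : b ≠ l) (hb : u b ≠ 0) (hl : u l ≠ 0) :
    (ε - 1) * (ε⁻¹ - 1) * c = 1 := by
  have hc := hs.ne hb
  have hf1 := fam_column H hf.2 b
  rw [psGL_mulVec hf.1 H.h0, psGL_vecMul hf.1 H.h0, dotProduct_single, single_dotProduct,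
    mul_one, one_mul] at hf1
  obtain ⟨c1, hs1⟩ := stuck_of_not_elem H he hf1
  have hη : ε - 1 ≠ 0 := sub_ne_zero.2 H.h1
  have hwb : w b ≠ 0 := fun e => hb ((hs.supp b).2 e)
  have h1 := hs1.prod l (by simp [hbl.symm, hη, hwb, hl])
  simp only [Pi.add_apply, Pi.smul_apply, smul_eq_mul, Pi.single_eq_of_ne hbl.symm, zero_add] at h1
  have hc1 : c1 = (ε - 1) * (ε⁻¹ - 1) * c * c := by
    have e1 := hs.prod l hl
    have e2 := hs.prod b hb
    linear_combination (-1 : F) * h1 + ((ε - 1) * (ε⁻¹ - 1) * c) * e1 +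
      ((ε - 1) * (ε⁻¹ - 1) * (u l * w l)) * e2
  have e2 := hs.prod b hb
  by_cases h0 : 1 + (ε - 1) * c = 0
  · have hz := (hs1.supp b).1 (by
      simp only [Pi.add_apply, Pi.smul_apply, smul_eq_mul, Pi.single_eq_same]
      linear_combination h0 + (ε - 1) * e2)
    simp only [Pi.add_apply, Pi.smul_apply, smul_eq_mul, Pi.single_eq_same] at hz
    have h3 : (ε - ε⁻¹) * c = 0 := by linear_combination h0 - hz + (ε⁻¹ - 1) * e2
    rcases mul_eq_zero.1 h3 with h | h
    · have h4 : ε * ε = 1 := by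
        have := H.h0
        field_simp at h
        linear_combination h
      rcases mul_self_eq_one_iff.1 h4 with h | h
      · exact absurd h H.h1
      · exact absurd h H.h2
    · exact absurd h hc
  · have h2 := hs1.prod b (by
      simp only [Pi.add_apply, Pi.smul_apply, smul_eq_mul, Pi.single_eq_same]
      intro e
      exact h0 (by linear_combination e - (ε - 1) * e2))
    simp only [Pi.add_apply, Pi.smul_apply, smul_eq_mul, Pi.single_eq_same] at h2
    rw [hc1] at h2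
    have h4 : 1 + c * ((ε - 1) + (ε⁻¹ - 1)) = 0 := by
      linear_combination h2 - ((ε - 1) + (ε⁻¹ - 1) + (ε - 1) * (ε⁻¹ - 1) * (u b * w b + c)) * e2
    have := mul_inv_cancel₀ H.h0
    linear_combination c * this - h4

lemma stuck_no_zero (H : Ctx N ε) (he : ¬ HasElem N) {u w : ι → F} {c : F} (hf : Fam N ε u w)
    (hs : Stuck u w c) {k l z : ι} (hkl : k ≠ l) (hk : u k ≠ 0) (hl : u l ≠ 0) (hz : u z = 0) :
    False := by
  have hv := stuck_value H he hf hs hkl hk hl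
  have hkz : k ≠ z := fun e => hk (e ▸ hz)
  have hlz : l ≠ z := fun e => hl (e ▸ hz)
  have hwz : w z = 0 := (hs.supp z).1 hz
  have hc1 : 1 - c ≠ 0 := by
    intro e
    have hc : c = 1 := (sub_eq_zero.1 e).symm
    rw [hc, mul_one] at hv
    apply H.h3
    have := mul_inv_cancel₀ H.h0
    linear_combination (-ε) * hv + (ε - 1) * this
  set d : ι → Fˣ := dfun k (Units.mk0 (1 / u k) (one_div_ne_zero hk)) z 1
  have hf' := hf.conj H (H.hN (Equiv.swap k z) d)
  set u' := (mon (Equiv.swap k z) d : Matrix ι ι F) *ᵥ u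
  set w' := w ᵥ* (((mon (Equiv.swap k z) d)⁻¹ : GL ι F) : Matrix ι ι F)
  have hu'k : u' k = 0 := by simp [u', mon_mulVec, hz]
  have hw'k : w' k = 0 := by simp only [w', vecMul_mon_inv]; simp [hwz]
  have hu'o : ∀ i, i ≠ k → i ≠ z → u' i = u i := fun i a b => by
    simp [u', mon_mulVec, Equiv.swap_apply_of_ne_of_ne a b, d, dfun, a, b]
  have hw'o : ∀ i, i ≠ k → i ≠ z → w' i = w i := fun i a b => by
    simp only [w', vecMul_mon_inv]
    simp [Equiv.swap_apply_of_ne_of_ne a b, d, dfun, a, b]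
  have e2 := hs.prod k hk
  have hβ : w' ⬝ᵥ u = 1 - c := by
    rw [← hf.1, dotProduct, dotProduct, ← e2]
    rw [eq_sub_iff_add_eq, ← Finset.add_sum_erase _ _ (Finset.mem_univ k),
      ← Finset.add_sum_erase _ _ (Finset.mem_univ k), hw'k]
    have : ∑ i ∈ Finset.univ.erase k, w' i * u i = ∑ i ∈ Finset.univ.erase k, w i * u i := by
      refine Finset.sum_congr rfl fun i hi => ?_
      by_cases hiz : i = z
      · simp [hiz, hz]
      · rw [hw'o i (Finset.ne_of_mem_erase hi) hiz]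
    rw [this]; ring
  have hβ' : w ⬝ᵥ u' = 1 - c := by
    rw [← hf.1, dotProduct, dotProduct, ← e2]
    rw [eq_sub_iff_add_eq, ← Finset.add_sum_erase _ _ (Finset.mem_univ k),
      ← Finset.add_sum_erase _ _ (Finset.mem_univ k), hu'k]
    have : ∑ i ∈ Finset.univ.erase k, w i * u' i = ∑ i ∈ Finset.univ.erase k, w i * u i := by
      refine Finset.sum_congr rfl fun i hi => ?_
      by_cases hiz : i = z
      · simp [hiz, hwz]
      · rw [hu'o i (Finset.ne_of_mem_erase hi) hiz]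
    rw [this]; ring
  have hf2 := hf.conjFam H hf'
  rw [hβ, hβ'] at hf2
  obtain ⟨c2, hs2⟩ := stuck_of_not_elem H he hf2
  have hc2 : c2 = c := by
    have := hs2.prod k (by simp [hu'k, hk])
    simp only [Pi.add_apply, Pi.smul_apply, smul_eq_mul, hu'k, hw'k, mul_zero, add_zero] at this
    rw [← this, e2]
  have el := hs.prod l hl
  have hu'l := hu'o l hkl.symm hlz
  have hw'l := hw'o l hkl.symm hlz
  have hwl : w l ≠ 0 := fun e => hl ((hs.supp l).2 e)
  by_cases h0 : 1 + (ε - 1) * (1 - c) = 0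
  · have hz2 := (hs2.supp l).1 (by
      simp only [Pi.add_apply, Pi.smul_apply, smul_eq_mul, hu'l]
      linear_combination (u l) * h0)
    simp only [Pi.add_apply, Pi.smul_apply, smul_eq_mul, hw'l] at hz2
    have h5 : 1 + (ε⁻¹ - 1) * (1 - c) = 0 :=
      (mul_eq_zero.1 (show w l * (1 + (ε⁻¹ - 1) * (1 - c)) = 0 by linear_combination hz2)).resolve_left hwl
    have h3 : (ε - ε⁻¹) * (1 - c) = 0 := by linear_combination h0 - h5
    rcases mul_eq_zero.1 h3 with h | h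
    · have h4 : ε * ε = 1 := by
        have := H.h0
        field_simp at h
        linear_combination h
      rcases mul_self_eq_one_iff.1 h4 with h | h
      · exact H.h1 h
      · exact H.h2 h
    · exact hc1 h
  · have h2 := hs2.prod l (by
      simp only [Pi.add_apply, Pi.smul_apply, smul_eq_mul, hu'l]
      intro e
      exact mul_ne_zero hl h0 (by linear_combination e))
    simp only [Pi.add_apply, Pi.smul_apply, smul_eq_mul, hu'l, hw'l] at h2
    have h6 : (1 + (ε - 1) * (1 - c)) * (1 + (ε⁻¹ - 1) * (1 - c)) * c = c := by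
      rw [hc2] at h2
      linear_combination h2 - ((1 + (ε - 1) * (1 - c)) * (1 + (ε⁻¹ - 1) * (1 - c))) * el
    have := mul_inv_cancel₀ H.h0
    have h7 : c * ((1 - c) * ((ε - 1) * (ε⁻¹ - 1) * c)) = 0 := by
      linear_combination (-1 : F) * h6 + (c * (1 - c)) * this
    rw [hv, mul_one] at h7
    rcases mul_eq_zero.1 h7 with h | h
    · exact hs.ne hk h
    · exact hc1 h

/-- An overgroup of the monomial group with a non-monomial element has an elementary transvection. -/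
theorem hasElem_of_not_Mon (H : Ctx N ε) {g : GL ι F} (hg : g ∈ N) (hgm : ¬ Mon g) : HasElem N := by
  by_contra he
  simp only [Mon, not_forall, not_exists] at hgm
  obtain ⟨b, hb⟩ := hgm
  obtain ⟨k, -, hk⟩ : ∃ k, k ≠ b ∧ (g : Matrix ι ι F) k b ≠ 0 := by
    obtain ⟨y, hy⟩ := hb b
    simp only [exists_prop] at hy
    exact ⟨y, hy.1, hy.2⟩
  obtain ⟨l, hlk, hl⟩ : ∃ l, l ≠ k ∧ (g : Matrix ι ι F) l b ≠ 0 := by
    obtain ⟨y, hy⟩ := hb k
    simp only [exists_prop] at hy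
    exact ⟨y, hy.1, hy.2⟩
  have hf := fam_column H hg b
  set u := (g : Matrix ι ι F) *ᵥ Pi.single b 1
  set w := Pi.single b 1 ᵥ* ((g⁻¹ : GL ι F) : Matrix ι ι F)
  replace hk : u k ≠ 0 := by simp only [u, col_eq]; exact hk
  replace hl : u l ≠ 0 := by simp only [u, col_eq]; exact hl
  obtain ⟨c, hs⟩ := stuck_of_not_elem H he hf
  have hv := stuck_value H he hf hs hlk.symm hk hl
  have hall : ∀ y, u y ≠ 0 := fun y hy => stuck_no_zero H he hf hs hlk.symm hk hl hy
  have hη : ε - 1 ≠ 0 := sub_ne_zero.2 H.h1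
  have hc := hs.ne hk
  obtain ⟨x, hx0, hx1, hxr, hxr'⟩ := H.hq 0 1 (1 / ε ^ 2)
    ((ε - 1) * c / ((ε - 1) * c - 1 - (ε - 1)))
  have hf' := hf.conj H (H.hN 1 (d1 k (Units.mk0 x hx0)))
  rw [dg_mulVec, dg_vecMul] at hf'
  set u' : ι → F := fun i => ((d1 k (Units.mk0 x hx0) i : Fˣ) : F) * u i
  set w' : ι → F := fun i => w i * ((d1 k (Units.mk0 x hx0) i : Fˣ) : F)⁻¹
  have ek := hs.prod k hk
  have hu'o : ∀ i, i ≠ k → u' i = u i := fun i hi => by simp [u', d1, hi]
  have hw'o : ∀ i, i ≠ k → w' i = w i := fun i hi => by simp [w', d1, hi]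
  have hu'k : u' k = x * u k := by simp [u', d1]
  have hw'k : w' k = w k * x⁻¹ := by simp [w', d1]
  have hβ : w' ⬝ᵥ u = 1 + c * (x⁻¹ - 1) := by
    have : ∑ i ∈ Finset.univ.erase k, w' i * u i = ∑ i ∈ Finset.univ.erase k, w i * u i :=
      Finset.sum_congr rfl fun i hi => by rw [hw'o i (Finset.ne_of_mem_erase hi)]
    have h1 := hf.1
    rw [dotProduct, ← Finset.add_sum_erase _ _ (Finset.mem_univ k)] at h1
    rw [dotProduct, ← Finset.add_sum_erase _ _ (Finset.mem_univ k), this, hw'k]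
    linear_combination h1 + (x⁻¹ - 1) * ek
  have hβ' : w ⬝ᵥ u' = 1 + c * (x - 1) := by
    have : ∑ i ∈ Finset.univ.erase k, w i * u' i = ∑ i ∈ Finset.univ.erase k, w i * u i :=
      Finset.sum_congr rfl fun i hi => by rw [hu'o i (Finset.ne_of_mem_erase hi)]
    have h1 := hf.1
    rw [dotProduct, ← Finset.add_sum_erase _ _ (Finset.mem_univ k)] at h1
    rw [dotProduct, ← Finset.add_sum_erase _ _ (Finset.mem_univ k), this, hu'k]
    linear_combination h1 + (x - 1) * ek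
  have hf2 := hf.conjFam H hf'
  rw [hβ, hβ'] at hf2
  set u2 := u + ((ε - 1) * (1 + c * (x⁻¹ - 1))) • u'
  set w2 := w + ((ε⁻¹ - 1) * (1 + c * (x - 1))) • w'
  obtain ⟨c2, hs2⟩ := stuck_of_not_elem H he hf2
  obtain ⟨m, hmk, hml, -⟩ := exists_notMem (by have := H.hn; omega) k l l
  have hA : 1 + (ε - 1) * (1 + c * (x⁻¹ - 1)) ≠ 0 := by
    intro e
    have e' : x * (1 + (ε - 1) - (ε - 1) * c) + (ε - 1) * c = 0 := by
      field_simp at e
      linear_combination e
    have hd : (ε - 1) * c - 1 - (ε - 1) ≠ 0 := fun e0 => by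
      have : (ε - 1) * c = 0 := by linear_combination e' + x * e0
      exact mul_ne_zero hη hc this
    exact hxr' (by rw [eq_div_iff hd]; linear_combination -e')
  have hnl : ∀ i, i ≠ k → u2 i ≠ 0 := fun i hi e => by
    simp only [u2, Pi.add_apply, Pi.smul_apply, smul_eq_mul, hu'o i hi] at e
    exact mul_ne_zero (hall i) hA (by linear_combination e)
  by_cases h0 : u2 k = 0
  · exact stuck_no_zero H he hf2 hs2 hml.symm (hnl l hlk) (hnl m hmk) h0
  have h1 := hs2.prod k h0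
  have h2 := hs2.prod l (hnl l hlk)
  simp only [u2, w2, Pi.add_apply, Pi.smul_apply, smul_eq_mul, hu'o l hlk, hw'o l hlk, hu'k, hw'k]
    at h1 h2
  have el := hs.prod l (hall l)
  set B := 1 + c * (x⁻¹ - 1) with hB
  set B' := 1 + c * (x - 1) with hB'
  have hxx := mul_inv_cancel₀ hx0
  have h3 : c * ((x - 1) * ((ε - 1) * B - (ε⁻¹ - 1) * B' * x⁻¹)) = 0 := by
    linear_combination h1 - h2 -
      ((1 + (ε - 1) * B * x) * (1 + (ε⁻¹ - 1) * B' * x⁻¹)) * ek +
      ((1 + (ε - 1) * B) * (1 + (ε⁻¹ - 1) * B')) * el -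
      (c * (ε - 1) * B * (ε⁻¹ - 1) * B' + c * (ε⁻¹ - 1) * B') * hxx
  have h4 : (ε - 1) * B - (ε⁻¹ - 1) * B' * x⁻¹ = 0 :=
    ((mul_eq_zero.1 h3).resolve_left hc |> mul_eq_zero.1).resolve_left (sub_ne_zero.2 hx1)
  have h5 : ε * x - ε⁻¹ = 0 := by
    have hv' : c * ((ε - 1) + (ε⁻¹ - 1)) = -1 := by
      have := mul_inv_cancel₀ H.h0
      linear_combination c * this - hv
    rw [hB, hB'] at h4
    have h4' : x * (ε - 1) * (1 - c) + (ε - 1) * c - (ε⁻¹ - 1) * (1 + c * (x - 1)) = 0 := by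
      linear_combination x * h4 + ((ε⁻¹ - 1) * (1 + c * (x - 1)) - (ε - 1) * c) * hxx
    linear_combination h4' + (x - 1) * hv'
  refine hxr ?_
  have := H.h0
  field_simp at h5 ⊢
  linear_combination h5

end CfsgLib.ClassicalMax.MonG
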