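/-
The monomial subgroup is maximal in the special linear group over fields with at least five elements.
-/
import Cfsg.Agent.Lib.ClassicalMax.MonPseudo
import Cfsg.Agent.Lib.ClassicalMax.MonLines
set_option autoImplicit false
set_option maxHeartbeats 1000000

namespace CfsgLib.ClassicalMax.MonG

open Matrix Cfsg.Geo

variable {ι : Type} [Fintype ι] [DecidableEq ι] {F : Type*} [Field F] [DecidableEq F]

lemma exists_eps [Fintype F] (hq : 5 ≤ Fintype.card F) :
    ∃ ε : F, ε ≠ 0 ∧ ε ≠ 1 ∧ ε ≠ -1 ∧ ε ^ 2 - ε + 1 ≠ 0 := by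
  by_contra hcon
  push Not at hcon
  rcases eq_or_lt_of_le hq with h5 | h6
  · have hF : (5 : F) = 0 := by
      have := FiniteField.cast_card_eq_zero F
      rw [← h5] at this
      simpa using this
    have h2 : (2 : F) ≠ 0 := fun e =>
      one_ne_zero (α := F) (by linear_combination hF - 2 * e)
    refine absurd (hcon 2 h2 (fun e => one_ne_zero (α := F) (by linear_combination e))
      (fun e => h2 (by linear_combination hF - e))) ?_
    intro e
    exact h2 (by linear_combination hF - e)
  · by_cases h : ∃ r : F, r ^ 2 - r + 1 = 0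
    · obtain ⟨r, hr⟩ := h
      obtain ⟨x, -, hx⟩ := Finset.exists_mem_notMem_of_card_lt_card
        (s := ({0, 1, -1, r, 1 - r} : Finset F)) (t := Finset.univ)
        (Finset.card_le_five.trans_lt (by rw [Finset.card_univ]; omega))
      simp only [Finset.mem_insert, Finset.mem_singleton, not_or] at hx
      have e : (x - r) * (x - (1 - r)) = 0 := by
        linear_combination hcon x hx.1 hx.2.1 hx.2.2.1 - hr
      rcases mul_eq_zero.1 e with h' | h'
      · exact hx.2.2.2.1 (sub_eq_zero.1 h')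
      · exact hx.2.2.2.2 (sub_eq_zero.1 h')
    · obtain ⟨x, -, hx⟩ := Finset.exists_mem_notMem_of_card_lt_card
        (s := ({0, 1, -1} : Finset F)) (t := Finset.univ)
        (Finset.card_le_three.trans_lt (by rw [Finset.card_univ]; omega))
      simp only [Finset.mem_insert, Finset.mem_singleton, not_or] at hx
      exact h ⟨x, hcon x hx.1 hx.2.1 hx.2.2⟩

lemma exists_four [Fintype F] (hq : 5 ≤ Fintype.card F) (a b c d : F) :
    ∃ x : F, x ≠ a ∧ x ≠ b ∧ x ≠ c ∧ x ≠ d := by
  obtain ⟨x, -, hx⟩ := Finset.exists_mem_notMem_of_card_lt_card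
    (s := ({a, b, c, d} : Finset F)) (t := Finset.univ)
    (Finset.card_le_four.trans_lt (by rw [Finset.card_univ]; omega))
  exact ⟨x, by simpa using hx⟩

/-- The stabiliser of the coordinate line at `a`. -/
def lineStab (a : ι) : Subgroup (GL ι F) where
  carrier := {k | ∃ c : F, (k : Matrix ι ι F) *ᵥ Pi.single a 1 = c • Pi.single a 1}
  one_mem' := ⟨1, by rw [Units.val_one, one_mulVec, one_smul]⟩
  mul_mem' := by
    rintro k l ⟨c, hc⟩ ⟨c', hc'⟩
    exact ⟨c' * c, by rw [gl_mulVec_mul, hc', mulVec_smul, hc, smul_smul]⟩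
  inv_mem' := by
    rintro k ⟨c, hc⟩
    have hc0 : c ≠ 0 := fun e => gl_mulVec_ne_zero k (x := Pi.single a 1)
      (fun e' => by simpa using congrFun e' a) (by rw [hc, e, zero_smul])
    refine ⟨c⁻¹, ?_⟩
    have h := congrArg (fun x => ((k⁻¹ : GL ι F) : Matrix ι ι F) *ᵥ x) hc
    rw [gl_inv_mulVec_mulVec, mulVec_smul] at h
    conv_rhs => rw [h]
    rw [inv_smul_smul₀ hc0]

lemma mem_lineStab {a : ι} {k : GL ι F} :
    k ∈ lineStab a ↔ ∀ y, y ≠ a → (k : Matrix ι ι F) y a = 0 := by
  constructor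
  · rintro ⟨c, hc⟩ y hy
    have := congrFun hc y
    rw [col_eq] at this
    simpa [hy] using this
  · intro h
    refine ⟨(k : Matrix ι ι F) a a, ?_⟩
    rw [col_eq]
    funext y
    by_cases hy : y = a
    · simp [hy]
    · simp [h y hy, hy]

/-- The action on the coordinates other than `a`, as matrices. -/
def projM (a : ι) : lineStab (F := F) a →* Matrix {y // y ≠ a} {y // y ≠ a} F where
  toFun k := ((k : GL ι F) : Matrix ι ι F).submatrix Subtype.val Subtype.val
  map_one' := by simp [Matrix.submatrix_one, Subtype.val_injective]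
  map_mul' := fun k l => by
    ext x y
    simp only [submatrix_apply, Subgroup.coe_mul, Units.val_mul, Matrix.mul_apply]
    rw [← Finset.sum_subtype (Finset.univ.erase a) (fun z => by simp)
      (fun z => ((k : GL ι F) : Matrix ι ι F) x z * ((l : GL ι F) : Matrix ι ι F) z y),
      ← Finset.add_sum_erase _ _ (Finset.mem_univ a), mem_lineStab.1 k.2 x x.2, zero_mul, zero_add]

/-- The action on the coordinates other than `a`. -/
def proj (a : ι) : lineStab (F := F) a →* GL {y // y ≠ a} F := (projM a).toHomUnits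

lemma proj_apply (a : ι) (k : lineStab (F := F) a) (x y : {y // y ≠ a}) :
    (proj a k : Matrix {y // y ≠ a} {y // y ≠ a} F) x y = ((k : GL ι F) : Matrix ι ι F) x y := rfl

variable {M : Subgroup (GL ι F)}

/-- A lift of a monomial element. -/
lemma exists_lift (hM : HasMon M) {a : ι} (σ : Equiv.Perm {y // y ≠ a}) (d : {y // y ≠ a} → Fˣ) :
    ∃ k : lineStab (F := F) a, (k : GL ι F) ∈ M ∧ Mon (k : GL ι F) ∧ proj a k = mon σ d := by
  classical
  set σ' : Equiv.Perm ι := Equiv.Perm.ofSubtype σ
  set p : Fˣ := Units.mk0 _ (mul_ne_zero (a := ((Equiv.Perm.sign σ' : ℤ) : F))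
    (b := ∏ y, (d y : F)) (by
      rcases Int.units_eq_one_or (Equiv.Perm.sign σ') with h | h <;> simp [h])
    (Finset.prod_ne_zero_iff.2 fun y _ => (d y).ne_zero))
  set d' : ι → Fˣ := fun y => if h : y ≠ a then d ⟨y, h⟩ else p⁻¹
  have hσa : σ' a = a := Equiv.Perm.ofSubtype_apply_of_not_mem σ (by simp)
  have hdet : Matrix.det (mon σ' d' : Matrix ι ι F) = 1 := by
    rw [det_mon, ← Finset.mul_prod_erase _ _ (Finset.mem_univ a),
      Finset.prod_subtype (Finset.univ.erase a) (p := fun y => y ≠ a) (fun z => by simp)]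
    have e : ∀ y : {y // y ≠ a}, (d' y : F) = d y := fun y => by simp [d', y.2]
    simp only [e]
    have e2 : (d' a : F) = (p : F)⁻¹ := by simp [d']
    rw [e2, mul_left_comm, show ((Equiv.Perm.sign σ' : ℤ) : F) * ∏ y, (d y : F) = p from rfl,
      inv_mul_cancel₀ p.ne_zero]
  refine ⟨⟨mon σ' d', mem_lineStab.2 fun y hy => ?_⟩, hM _ _ hdet, mon_Mon _ _, ?_⟩
  · simp [coe_mon, monMat, hσa, hy]
  · refine Units.ext (Matrix.ext fun x y => ?_)
    rw [proj_apply]
    simp [coe_mon, monMat, σ', d', y.2, Equiv.Perm.ofSubtype_apply_coe, Subtype.ext_iff]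

lemma eq_tv_of_proj_one (hsl : M ≤ specialLinear ι F) {a : ι} {k : lineStab (F := F) a}
    (hk : (k : GL ι F) ∈ M) (h1 : proj a k = 1) :
    ∃ φ : ι → F, φ a = 0 ∧ (k : GL ι F) = tvGL (Pi.single a 1) φ := by
  set φ : ι → F := fun y => ((k : GL ι F) : Matrix ι ι F) a y - (Pi.single a (1 : F) : ι → F) y
  have hk2 : ((k : GL ι F) : Matrix ι ι F) = 1 + vecMulVec (Pi.single a (1 : F)) φ := by
    ext x y
    by_cases hx : x = a
    · subst hx
      by_cases hy : y = x
      · subst hy; simp [φ, vecMulVec_apply]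
      · simp [φ, vecMulVec_apply, hy, Ne.symm hy]
    · by_cases hy : y = a
      · subst hy; simp [mem_lineStab.1 k.2 x hx, hx, vecMulVec_apply]
      · have := proj_apply a k ⟨x, hx⟩ ⟨y, hy⟩
        rw [h1] at this
        simp [hx, vecMulVec_apply, ← this, Matrix.one_apply, Subtype.ext_iff]
  have hd := hsl hk
  rw [specialLinear, MonoidHom.mem_ker] at hd
  have hd' : Matrix.det ((k : GL ι F) : Matrix ι ι F) = 1 := by
    simpa using congrArg Units.val hd
  rw [hk2, vecMulVec_eq Unit, det_one_add_replicateCol_mul_replicateRow, dotProduct_single,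
    mul_one] at hd'
  have hφa : φ a = 0 := by linear_combination hd'
  exact ⟨φ, hφa, Units.ext (by rw [coe_tvGL (by simp [hφa]), hk2])⟩

/-- A non-monomial element of an overgroup of the monomial group gives the special linear group. -/
theorem sl_le_of_not_Mon [Fintype F] (hq : 5 ≤ Fintype.card F) (hn : 6 ≤ Fintype.card ι)
    (hM : HasMon M) (hsl : M ≤ specialLinear ι F) {g : GL ι F} (hg : g ∈ M) (hgm : ¬ Mon g) :
    specialLinear ι F ≤ M := by
  classical
  refine sl_le_of_hasElem hM (by omega) ?_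
  obtain ⟨ε, h0, h1, h2, h3⟩ := exists_eps hq
  have ht : Units.mk0 ε h0 ≠ 1 := fun e => h1 (by simpa using congrArg Units.val e)
  obtain ⟨k, hk, hkm, a, hka⟩ := exists_line hq hM hn hg hgm
  have hcentre : ∀ φ : ι → F, φ a = 0 → φ ≠ 0 → tvGL (Pi.single a 1) φ ∈ M → HasElem M :=
    fun φ ha hne hm => hasElem_of_centre hM (by omega) ht hne ha hm
  let N := ((M.subgroupOf (lineStab (F := F) a)).map (proj a))
  let k' : lineStab (F := F) a := ⟨k, mem_lineStab.2 hka⟩
  have hkN : proj a k' ∈ N := ⟨k', Subgroup.mem_subgroupOf.2 hk, rfl⟩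
  by_cases hR : Mon (proj a k')
  · obtain ⟨σ, d, e⟩ := exists_mon_of_Mon hR
    obtain ⟨m, hm, hmm, hme⟩ := exists_lift hM σ d
    obtain ⟨φ, hφa, hφ⟩ := eq_tv_of_proj_one hsl (k := m⁻¹ * k')
      (M.mul_mem (M.inv_mem hm) hk) (by rw [map_mul, map_inv, hme, e, inv_mul_cancel])
    refine hcentre φ hφa (fun e0 => hkm ?_) (hφ ▸ M.mul_mem (M.inv_mem hm) hk)
    have e1 : (m : GL ι F)⁻¹ * k = 1 := by
      rw [show (m : GL ι F)⁻¹ * k = ((m⁻¹ * k' : lineStab (F := F) a) : GL ι F) from rfl, hφ, e0,
        tvGL_zero_right]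
    rw [← inv_mul_eq_one.1 e1]
    exact hmm
  have hcard : Fintype.card {y // y ≠ a} + 1 = Fintype.card ι := by
    rw [Fintype.card_subtype_compl, Fintype.card_subtype_eq]; omega
  have H : Ctx N ε :=
    { hN := fun σ d => by
        obtain ⟨m, hm, -, hme⟩ := exists_lift hM σ d
        exact ⟨m, Subgroup.mem_subgroupOf.2 hm, hme⟩
      hn := by omega
      h0 := h0
      h1 := h1
      h2 := h2
      h3 := h3
      hq := exists_four hq }
  obtain ⟨j, l, c, hjl, hc, z, hzM, hz⟩ := hasElem_of_not_Mon H hkN hR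
  replace hzM : (z : GL ι F) ∈ M := Subgroup.mem_subgroupOf.1 hzM
  obtain ⟨m, hma, hmj, hml⟩ := exists_notMem (by omega) a (j : ι) (l : ι)
  set t : Fˣ := Units.mk0 ε h0
  set D : ι → Fˣ := dfun a t m t⁻¹
  have hDmem : mon 1 D ∈ lineStab (F := F) a := mem_lineStab.2 fun y hy => by
    simp [coe_mon, monMat, hy]
  let h : lineStab (F := F) a := ⟨mon 1 D, hDmem⟩
  have hh : (h : GL ι F) ∈ M := dg_pair_mem hM hma.symm t
  have hproj : proj a h = mon 1 (fun y : {y // y ≠ a} => D y) := by
    refine Units.ext (Matrix.ext fun x y => ?_)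
    rw [proj_apply]
    simp [h, coe_mon, monMat, Subtype.ext_iff, Equiv.Perm.one_def]
    try rfl
  have hj0 : (Pi.single l (1 : F)) ⬝ᵥ (Pi.single j c : {y // y ≠ a} → F) = 0 := by
    rw [single_dotProduct, one_mul, Pi.single_eq_of_ne hjl.symm]
  have hcomm : proj a h * proj a z * (proj a h)⁻¹ = proj a z := by
    rw [hproj, hz, conj_tvGL _ hj0, mon_mulVec_single]
    congr 1
    · simp [D, dfun, j.2, hmj.symm]
    · funext i
      rw [vecMul_mon_inv]
      by_cases hi : i = l
      · subst hi; simp [D, dfun, i.2, hml.symm, Equiv.Perm.one_def]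
      · simp [hi, Equiv.Perm.one_def]
  obtain ⟨φ, hφa, hφ⟩ := eq_tv_of_proj_one hsl (k := z⁻¹ * (h * z * h⁻¹))
    (M.mul_mem (M.inv_mem hzM) (conj_mem hzM hh))
    (by rw [map_mul, map_mul, map_mul, map_inv, map_inv, hcomm, inv_mul_cancel])
  by_cases hφ0 : φ = 0
  · -- the lift commutes with `h`, so it is elementary
    have e1 : z⁻¹ * (h * z * h⁻¹) = 1 := Subtype.ext (by rw [hφ, hφ0, tvGL_zero_right]; rfl)
    have e2 : (h : GL ι F) * z = z * h := by
      have := congrArg (fun x : lineStab (F := F) a => (z : GL ι F) * x * h) e1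
      simpa [mul_assoc] using this
    have hrow : ∀ x, x ≠ a → ((z : GL ι F) : Matrix ι ι F) a x = 0 := by
      intro x hx
      have e3 := congrFun (congrFun (congrArg (fun g : GL ι F => (g : Matrix ι ι F)) e2) a) x
      have e4 : ∀ i, (mon 1 D : Matrix ι ι F) i = fun y => if i = y then (D y : F) else 0 :=
        fun i => rfl
      simp only [h, Units.val_mul, Matrix.mul_apply] at e3
      rw [Finset.sum_eq_single a (fun b _ hb => by rw [e4]; simp [Ne.symm hb])
          (by simp), Finset.sum_eq_single x (fun b _ hb => by rw [e4]; simp [hb])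
          (by simp), e4, e4] at e3
      simp only [if_true] at e3
      have hDa : (D a : F) = ε := by simp [D, dfun, t, hma.symm]
      rw [hDa] at e3
      by_contra hne
      have e5 : (D x : F) = ε := mul_left_cancel₀ hne (e3.symm.trans (mul_comm _ _))
      by_cases hxm : x = m
      · subst hxm
        simp [D, dfun, t] at e5
        have h4 : ε * ε = 1 := by
          nth_rw 1 [← e5]
          exact inv_mul_cancel₀ h0
        rcases mul_self_eq_one_iff.1 h4 with h | h
        · exact h1 h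
        · exact h2 h
      · simp [D, dfun, hx, hxm] at e5
        exact h1 e5.symm
    obtain ⟨s, hs⟩ : ∃ s : F, ((z : GL ι F) : Matrix ι ι F) a a = s := ⟨_, rfl⟩
    have hentry : ((z : GL ι F) : Matrix ι ι F) = (1 + vecMulVec (Pi.single a (1 : F))
        (Pi.single a (s - 1))) * (tvGL (Pi.single (j : ι) c) (Pi.single (l : ι) 1) : Matrix ι ι F) := by
      have h0' : (Pi.single (l : ι) (1 : F)) ⬝ᵥ (Pi.single (j : ι) c : ι → F) = 0 := by
        rw [single_dotProduct, one_mul, Pi.single_eq_of_ne fun e => hjl (Subtype.ext e.symm)]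
      rw [coe_tvGL h0', add_mul, one_mul, mul_add, mul_one, vecMulVec_mul_vecMulVec]
      ext x y
      have hzxy := fun (hx : x ≠ a) (hy : y ≠ a) => (proj_apply a z ⟨x, hx⟩ ⟨y, hy⟩).symm
      rw [hz, coe_tvGL hj0] at hzxy
      by_cases hx : x = a
      · subst hx
        by_cases hy : y = x
        · subst hy
          simp [vecMulVec_apply, hs, j.2.symm, l.2.symm]
        · simp [vecMulVec_apply, hrow y hy, hy, Ne.symm hy, j.2.symm]
      · by_cases hy : y = a
        · subst hy
          simp [vecMulVec_apply, mem_lineStab.1 z.2 x hx, hx, l.2.symm]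
        · simp [hzxy hx hy, vecMulVec_apply, hx, Matrix.one_apply, Subtype.ext_iff, Pi.single_apply]
    have hd := hsl hzM
    rw [specialLinear, MonoidHom.mem_ker] at hd
    have hd' : Matrix.det ((z : GL ι F) : Matrix ι ι F) = 1 := by
      simpa using congrArg Units.val hd
    rw [hentry, det_mul, det_tvGL, mul_one, vecMulVec_eq Unit,
      det_one_add_replicateCol_mul_replicateRow, dotProduct_single, mul_one, Pi.single_eq_same]
      at hd'
    have hs1 : s - 1 = 0 := by linear_combination hd'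
    refine ⟨j, l, c, fun e => hjl (Subtype.ext e), hc, ?_⟩
    have : (z : GL ι F) = tvGL (Pi.single (j : ι) c) (Pi.single (l : ι) 1) := Units.ext (by
      rw [hentry, hs1, Pi.single_zero, vecMulVec_zero, add_zero, one_mul])
    exact this ▸ hzM
  · exact hcentre φ hφa hφ0 (hφ ▸ M.mul_mem (M.inv_mem hzM) (conj_mem hzM hh))

end CfsgLib.ClassicalMax.MonG
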