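/-
The stabiliser of a decomposition into blocks is maximal in the special linear group.
-/
import Cfsg.Agent.Lib.ClassicalMax.MonMax
set_option autoImplicit false
set_option maxHeartbeats 1000000

namespace CfsgLib.ClassicalMax.BlockG

open Matrix Cfsg.Geo MonG

variable {t m : ℕ} {F : Type*} [Field F]

/-- The coordinates of one block are mapped into one block. -/
def Bst (g : GL (Fin t × Fin m) F) : Prop :=
  ∀ j, ∃ j', ∀ i y : Fin t × Fin m, i.1 = j → y.1 ≠ j' →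
    (g : Matrix (Fin t × Fin m) (Fin t × Fin m) F) y i = 0

/-- The block monomial elements of determinant one lie in `M`. -/
def HasB (M : Subgroup (GL (Fin t × Fin m) F)) : Prop :=
  ∀ g : GL (Fin t × Fin m) F, Matrix.det (g : Matrix (Fin t × Fin m) (Fin t × Fin m) F) = 1 →
    Bst g → g ∈ M

lemma exists_other_coord (hm : 2 ≤ m) (a : Fin t × Fin m) : ∃ a', a'.1 = a.1 ∧ a' ≠ a := by
  haveI : Nontrivial (Fin m) := Fin.nontrivial_iff_two_le.2 hm
  obtain ⟨k, hk⟩ := exists_ne a.2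
  exact ⟨(a.1, k), rfl, fun e => hk (congrArg Prod.snd e)⟩

lemma bst_mon (σ : Equiv.Perm (Fin t × Fin m)) (d : Fin t × Fin m → Fˣ)
    (h : ∀ i i' : Fin t × Fin m, i.1 = i'.1 → (σ i).1 = (σ i').1) : Bst (mon σ d) := by
  intro j
  by_cases hj : ∃ i0 : Fin t × Fin m, i0.1 = j
  · obtain ⟨i0, hi0⟩ := hj
    refine ⟨(σ i0).1, fun i y hi hy => ?_⟩
    have : y ≠ σ i := fun e => hy (by rw [e]; exact h i i0 (hi.trans hi0.symm))
    simp [coe_mon, monMat, this]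
  · exact ⟨j, fun i y hi _ => absurd ⟨i, hi⟩ hj⟩

variable [DecidableEq F]

lemma bst_tv {j : Fin t} {v χ : Fin t × Fin m → F} (hv : ∀ i, i.1 ≠ j → v i = 0)
    (hχ : ∀ i, i.1 ≠ j → χ i = 0) (h0 : χ ⬝ᵥ v = 0) : Bst (tvGL v χ) := by
  intro k
  refine ⟨k, fun i y hi hy => ?_⟩
  have hyi : y ≠ i := fun e => hy (e ▸ hi)
  rw [coe_tvGL h0, Matrix.add_apply, Matrix.one_apply_ne hyi, vecMulVec_apply, zero_add]
  by_cases hk : k = j
  · rw [hv y (hk ▸ hy), zero_mul]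
  · rw [hχ i (hi ▸ hk), mul_zero]

lemma det_psGL {u w : Fin t × Fin m → F} {ε : F} (h : w ⬝ᵥ u = 1) (hε : ε ≠ 0) :
    Matrix.det (psGL u w ε : Matrix (Fin t × Fin m) (Fin t × Fin m) F) = ε := by
  rw [psGL, dif_pos ⟨h, hε⟩]
  change Matrix.det (1 + (ε - 1) • vecMulVec u w) = ε
  rw [← smul_vecMulVec, vecMulVec_eq Unit, det_one_add_replicateCol_mul_replicateRow,
    dotProduct_smul, h, smul_eq_mul, mul_one]
  ring

lemma bst_ps {j : Fin t} {z χ : Fin t × Fin m → F} {ε : F} (hz : ∀ i, i.1 ≠ j → z i = 0)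
    (hχ : ∀ i, i.1 ≠ j → χ i = 0) (h : χ ⬝ᵥ z = 1) (hε : ε ≠ 0) : Bst (psGL z χ ε) := by
  intro k
  refine ⟨k, fun i y hi hy => ?_⟩
  have hyi : y ≠ i := fun e => hy (e ▸ hi)
  have := congrFun (psGL_mulVec h hε (Pi.single i 1)) y
  rw [col_eq, Pi.add_apply, Pi.single_eq_of_ne hyi, zero_add, Pi.smul_apply, smul_eq_mul,
    dotProduct_single, mul_one] at this
  refine this.trans ?_
  by_cases hk : k = j
  · rw [hz y (hk ▸ hy), mul_zero]
  · rw [hχ i (hi ▸ hk), mul_zero, zero_mul]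

lemma bst_mul {g h : GL (Fin t × Fin m) F} (hg : Bst g) (hh : Bst h) : Bst (g * h) := by
  intro j
  obtain ⟨j', hj'⟩ := hh j
  obtain ⟨j'', hj''⟩ := hg j'
  refine ⟨j'', fun i y hi hy => ?_⟩
  rw [Units.val_mul, Matrix.mul_apply]
  refine Finset.sum_eq_zero fun z _ => ?_
  by_cases hz : z.1 = j'
  · rw [hj'' z y hz hy, zero_mul]
  · rw [hj' i z hi hz, mul_zero]

variable {M : Subgroup (GL (Fin t × Fin m) F)}

lemma tv_mem (hM : HasB M) {j : Fin t} {v χ : Fin t × Fin m → F} (hv : ∀ i, i.1 ≠ j → v i = 0)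
    (hχ : ∀ i, i.1 ≠ j → χ i = 0) (h0 : χ ⬝ᵥ v = 0) : tvGL v χ ∈ M :=
  hM _ (det_tvGL v χ) (bst_tv hv hχ h0)

lemma centre_diff {w ψ : Fin t × Fin m → F} (h0 : ψ ⬝ᵥ w = 0) (hm : tvGL w ψ ∈ M)
    {h : GL (Fin t × Fin m) F} (hh : h ∈ M)
    (hψ : ψ ᵥ* ((h⁻¹ : GL (Fin t × Fin m) F) : Matrix (Fin t × Fin m) (Fin t × Fin m) F) = ψ) :
    ψ ⬝ᵥ ((h : Matrix (Fin t × Fin m) (Fin t × Fin m) F) *ᵥ w - w) = 0 ∧
      tvGL ((h : Matrix (Fin t × Fin m) (Fin t × Fin m) F) *ᵥ w - w) ψ ∈ M := by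
  have h1 := conj_dot h ψ w
  rw [hψ, h0] at h1
  have h2 := conj_mem hm hh
  rw [conj_tvGL _ h0, hψ] at h2
  exact ⟨by rw [dotProduct_sub, h1, h0, sub_zero], tv_sub_left h0 h1 hm h2⟩

lemma axis_diff {w ψ : Fin t × Fin m → F} (h0 : ψ ⬝ᵥ w = 0) (hm : tvGL w ψ ∈ M)
    {h : GL (Fin t × Fin m) F} (hh : h ∈ M)
    (hw : (h : Matrix (Fin t × Fin m) (Fin t × Fin m) F) *ᵥ w = w) :
    tvGL w (ψ ᵥ* ((h⁻¹ : GL (Fin t × Fin m) F) : Matrix (Fin t × Fin m) (Fin t × Fin m) F) - ψ)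
      ∈ M := by
  have h1 := conj_dot h ψ w
  rw [hw, h0] at h1
  have h2 := conj_mem hm hh
  rw [conj_tvGL _ h0, hw] at h2
  exact tv_sub_right h0 h1 hm h2

lemma exists_ker_vec (hm : 2 ≤ m) (ψ : Fin t × Fin m → F) (l : Fin t) :
    ∃ z : Fin t × Fin m → F, ∃ a : Fin t × Fin m,
      (∀ i, i.1 ≠ l → z i = 0) ∧ ψ ⬝ᵥ z = 0 ∧ a.1 = l ∧ z a ≠ 0 := by
  obtain ⟨b, hb, hba⟩ := exists_other_coord hm ((l, ⟨0, by omega⟩) : Fin t × Fin m)
  set a : Fin t × Fin m := (l, ⟨0, by omega⟩)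
  by_cases h : ψ a = 0
  · refine ⟨Pi.single a 1, a, fun i hi => Pi.single_eq_of_ne (fun e => hi (by rw [e])) _, ?_, rfl,
      by simp⟩
    simp [dotProduct_single, h]
  · refine ⟨Pi.single b 1 - (ψ b / ψ a) • Pi.single a 1, b, fun i hi => ?_, ?_, hb, ?_⟩
    · have h1 : i ≠ a := fun e => hi (by rw [e])
      have h2 : i ≠ b := fun e => hi (by rw [e]; exact hb)
      simp [h1, h2]
    · simp [dotProduct_sub, dotProduct_single, div_mul_cancel₀ _ h]
    · simp [hba]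

lemma torus_step (hM : HasB M) {w ψ z z' : Fin t × Fin m → F} (h0 : ψ ⬝ᵥ w = 0)
    (hm : tvGL w ψ ∈ M) {a a' : Fin t × Fin m} (hz : ∀ i, i.1 ≠ a.1 → z i = 0)
    (hz' : ∀ i, i.1 ≠ a'.1 → z' i = 0) (hψz : ψ ⬝ᵥ z = 0) (hψz' : ψ ⬝ᵥ z' = 0)
    (hne : a.1 ≠ a'.1) (hza : z a ≠ 0) (hza' : z' a' ≠ 0) {x : F} (hx : x ≠ 0) :
    ψ ⬝ᵥ (((x - 1) * (w a / z a)) • z + ((x⁻¹ - 1) * (w a' / z' a')) • z') = 0 ∧
    tvGL (((x - 1) * (w a / z a)) • z + ((x⁻¹ - 1) * (w a' / z' a')) • z') ψ ∈ M := by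
  set ρ : Fin t × Fin m → F := Pi.single a (z a)⁻¹
  set ρ' : Fin t × Fin m → F := Pi.single a' (z' a')⁻¹
  have hr : ρ ⬝ᵥ z = 1 := by simp [ρ, single_dotProduct, inv_mul_cancel₀ hza]
  have hr' : ρ' ⬝ᵥ z' = 1 := by simp [ρ', single_dotProduct, inv_mul_cancel₀ hza']
  have hρ : ∀ i, i.1 ≠ a.1 → ρ i = 0 := fun i hi => Pi.single_eq_of_ne (fun e => hi (by rw [e])) _
  have hρ' : ∀ i, i.1 ≠ a'.1 → ρ' i = 0 := fun i hi =>
    Pi.single_eq_of_ne (fun e => hi (by rw [e])) _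
  have hh : psGL z ρ x * psGL z' ρ' x⁻¹ ∈ M := hM _
    (by rw [Units.val_mul, det_mul, det_psGL hr hx, det_psGL hr' (inv_ne_zero hx), mul_inv_cancel₀ hx])
    (bst_mul (bst_ps hz hρ hr hx) (bst_ps hz' hρ' hr' (inv_ne_zero hx)))
  have hfix : ψ ᵥ* (((psGL z ρ x * psGL z' ρ' x⁻¹)⁻¹ : GL (Fin t × Fin m) F) :
      Matrix (Fin t × Fin m) (Fin t × Fin m) F) = ψ := by
    rw [_root_.mul_inv_rev, Units.val_mul, ← vecMul_vecMul, psGL_vecMul hr' (inv_ne_zero hx), hψz',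
      mul_zero, zero_smul, add_zero, psGL_vecMul hr hx, hψz, mul_zero, zero_smul, add_zero]
  have h := centre_diff h0 hm hh hfix
  have e : ((psGL z ρ x * psGL z' ρ' x⁻¹ : GL (Fin t × Fin m) F) :
      Matrix (Fin t × Fin m) (Fin t × Fin m) F) *ᵥ w - w
      = ((x - 1) * (w a / z a)) • z + ((x⁻¹ - 1) * (w a' / z' a')) • z' := by
    have hz'a : z' a = 0 := hz' a hne
    rw [gl_mulVec_mul, psGL_mulVec hr' (inv_ne_zero hx), psGL_mulVec hr hx]
    simp only [ρ, ρ', dotProduct_add, dotProduct_smul, single_dotProduct, hz'a, mul_zero,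
      smul_eq_mul, add_zero]
    rw [div_eq_mul_inv, div_eq_mul_inv, mul_comm (w a), mul_comm (w a')]
    abel
  rwa [e] at h

/-- A transvection with centre in one block and axis not in it. -/
lemma exists_block_centre (hm2 : 2 ≤ m) (ht3 : m = 2 → 3 ≤ t) (hx : m = 2 → ∃ x : F, x ≠ 0 ∧ x ≠ 1)
    (hM : HasB M) {w ψ : Fin t × Fin m → F} (h0 : ψ ⬝ᵥ w = 0) (hm : tvGL w ψ ∈ M)
    {j : Fin t} (hwj : ∃ i, i.1 = j ∧ w i ≠ 0) :
    ∃ v : Fin t × Fin m → F, v ≠ 0 ∧ (∀ i, i.1 ≠ j → v i = 0) ∧ ψ ⬝ᵥ v = 0 ∧ tvGL v ψ ∈ M := by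
  by_cases hminor : ∃ v : Fin t × Fin m → F, (∀ i, i.1 ≠ j → v i = 0) ∧ ψ ⬝ᵥ v = 0 ∧
      ∃ y1 y2 : Fin t × Fin m, y1.1 = j ∧ y2.1 = j ∧ v y2 * w y1 ≠ v y1 * w y2
  · obtain ⟨v, hv, hψv, y1, y2, h1, h2, hne⟩ := hminor
    set χ : Fin t × Fin m → F := v y2 • Pi.single y1 1 - v y1 • Pi.single y2 1
    have hχ : ∀ i, i.1 ≠ j → χ i = 0 := fun i hi => by
      have a1 : i ≠ y1 := fun e => hi (e ▸ h1)
      have a2 : i ≠ y2 := fun e => hi (e ▸ h2)
      simp [χ, a1, a2]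
    have hχv : χ ⬝ᵥ v = 0 := by simp [χ, sub_dotProduct, single_dotProduct, mul_comm]
    have hχw : χ ⬝ᵥ w ≠ 0 := by
      simp only [χ, sub_dotProduct, smul_dotProduct, single_dotProduct, one_mul, smul_eq_mul]
      exact sub_ne_zero.2 hne
    have hfix : ψ ᵥ* (((tvGL v χ)⁻¹ : GL (Fin t × Fin m) F) :
        Matrix (Fin t × Fin m) (Fin t × Fin m) F) = ψ := by
      rw [← tvGL_neg_right hχv, coe_tvGL (by rw [neg_dotProduct, hχv, neg_zero]), vecMul_add,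
        vecMul_one, vecMul_vecMulVec, hψv, zero_smul, add_zero]
    obtain ⟨e1, e2⟩ := centre_diff h0 hm (tv_mem hM hv hχ hχv) hfix
    rw [tvGL_mulVec hχv, add_sub_cancel_left] at e1 e2
    refine ⟨(χ ⬝ᵥ w) • v, smul_ne_zero hχw fun e => hne (by simp [e]), fun i hi => ?_, e1, e2⟩
    simp [hv i hi]
  · push Not at hminor
    obtain ⟨y, hyj, hy⟩ := hwj
    obtain ⟨p, hpj, hp⟩ : ∃ p, p.1 = j ∧ ψ p ≠ 0 := by
      by_contra hcon
      push Not at hcon
      obtain ⟨y', hy', hyy⟩ := exists_other_coord hm2 y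
      have := hminor (Pi.single y' 1) (fun i hi => Pi.single_eq_of_ne
        (fun e => hi (by rw [e, hy', hyj])) _)
        (by simp [dotProduct_single, hcon y' (hy'.trans hyj)]) y y' hyj (hy'.trans hyj)
      simp [hyy.symm] at this
      exact hy this
    obtain ⟨i0, hi0, hi0p⟩ := exists_other_coord hm2 p
    have hker : ∀ i, i.1 = j → i ≠ p →
        (∀ i', i'.1 = j → i' ≠ i → i' ≠ p → w i' = 0) ∧ w p = -(ψ i / ψ p) * w i := by
      intro i hi hip
      set v : Fin t × Fin m → F := Pi.single i 1 - (ψ i / ψ p) • Pi.single p 1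
      have hv : ∀ k, k.1 ≠ j → v k = 0 := fun k hk => by
        have a1 : k ≠ i := fun e => hk (e ▸ hi)
        have a2 : k ≠ p := fun e => hk (e ▸ hpj)
        simp [v, a1, a2]
      have hψv : ψ ⬝ᵥ v = 0 := by
        simp [v, dotProduct_sub, dotProduct_single, div_mul_cancel₀ _ hp]
      refine ⟨fun i' hi' h1 h2 => ?_, ?_⟩
      · have := hminor v hv hψv i' i hi' hi
        simpa [v, h1, h2, hip] using this
      · have := hminor v hv hψv p i hpj hi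
        simpa [v, hip, Ne.symm hip] using this
    have hi0j := hi0.trans hpj
    have honly : ∀ i, i.1 = j → i = i0 ∨ i = p := by
      intro i hi
      by_contra hcon
      push Not at hcon
      have h1 := (hker i hi hcon.2).1 i0 hi0j hcon.1.symm hi0p
      have h2 := (hker i0 hi0j hi0p).1
      have h3 := (hker i0 hi0j hi0p).2
      rw [h1, mul_zero] at h3
      rcases eq_or_ne y p with e | e
      · exact hy (e ▸ h3)
      rcases eq_or_ne y i0 with e' | e'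
      · exact hy (e' ▸ h1)
      exact hy (h2 y hyj e' e)
    have hm' : m = 2 := by
      by_contra hne
      obtain ⟨k, hk⟩ : ∃ k : Fin m, k ∉ ({i0.2, p.2} : Finset (Fin m)) := by
        by_contra hcon
        push Not at hcon
        have := Finset.card_le_card (fun x (_ : x ∈ (Finset.univ : Finset (Fin m))) => hcon x)
        rw [Finset.card_univ, Fintype.card_fin] at this
        have := this.trans Finset.card_le_two
        omega
      simp only [Finset.mem_insert, Finset.mem_singleton, not_or] at hk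
      rcases honly (j, k) rfl with e | e
      · exact hk.1 (congrArg Prod.snd e)
      · exact hk.2 (congrArg Prod.snd e)
    have hwp := (hker i0 hi0j hi0p).2
    have hwi0 : w i0 ≠ 0 := by
      intro e
      rw [e, mul_zero] at hwp
      rcases honly y hyj with e' | e'
      · exact hy (e' ▸ e)
      · exact hy (e' ▸ hwp)
    set zj : Fin t × Fin m → F := fun i => if i.1 = j then w i else 0 with hzj
    have hzjs : ∀ i, i.1 ≠ i0.1 → zj i = 0 := fun i hi => by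
      simp [zj, show i.1 ≠ j from fun e => hi (e.trans hi0j.symm)]
    have hzja : zj i0 = w i0 := by simp [zj, hi0j]
    have hψzj : ψ ⬝ᵥ zj = 0 := by
      rw [dotProduct, Fintype.sum_eq_add i0 p hi0p fun i hi => ?_]
      · simp only [zj, hi0j, hpj, if_true, hwp]
        field_simp
        ring
      · by_cases h : i.1 = j
        · rcases honly i h with e | e
          · exact absurd e hi.1
          · exact absurd e hi.2
        · simp [zj, h]
    obtain ⟨x, hx0, hx1⟩ := hx hm'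
    have hx1' : x - 1 ≠ 0 := sub_ne_zero.2 hx1
    have hzne : zj ≠ 0 := fun e => hwi0 (by rw [← hzja, e]; rfl)
    have key : ∀ w' : Fin t × Fin m → F, ψ ⬝ᵥ w' = 0 → tvGL w' ψ ∈ M → w' i0 ≠ 0 → ∀ l, l ≠ j →
        (∀ i, i.1 = l → w' i = 0) →
        ∃ v : Fin t × Fin m → F, v ≠ 0 ∧ (∀ i, i.1 ≠ j → v i = 0) ∧ ψ ⬝ᵥ v = 0 ∧ tvGL v ψ ∈ M := by
      intro w' h0' hm'' hw0 l hl hwl
      obtain ⟨z, a, hz, hψz, hal, hza⟩ := exists_ker_vec hm2 ψ l
      obtain ⟨e1, e2⟩ := torus_step hM h0' hm'' (a := i0) (a' := a) hzjs (hal ▸ hz) hψzj hψz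
        (by rw [hi0j, hal]; exact hl.symm) (by rw [hzja]; exact hwi0) hza hx0
      simp only [hwl a hal, zero_div, mul_zero, zero_smul, add_zero] at e1 e2
      refine ⟨_, smul_ne_zero (mul_ne_zero hx1' (div_ne_zero hw0 ?_)) hzne, fun i hi => ?_, e1, e2⟩
      · rw [hzja]; exact hwi0
      · simp [zj, hi]
    by_cases hl : ∃ l, l ≠ j ∧ ∀ i, i.1 = l → w i = 0
    · obtain ⟨l, hl, hwl⟩ := hl
      exact key w h0 hm hwi0 l hl hwl
    have ht := ht3 hm'
    obtain ⟨k, hk, -, -⟩ := exists_notMem (ι := Fin t × Fin m) (by simp [hm']; omega) i0 p p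
    obtain ⟨l, hl⟩ : ∃ l : Fin t, l ∉ ({j, k.1} : Finset (Fin t)) := by
      by_contra hcon
      push Not at hcon
      have := Finset.card_le_card (fun x (_ : x ∈ (Finset.univ : Finset (Fin t))) => hcon x)
      rw [Finset.card_univ, Fintype.card_fin] at this
      have := this.trans Finset.card_le_two
      omega
    simp only [Finset.mem_insert, Finset.mem_singleton, not_or] at hl
    obtain ⟨kk, hkk⟩ : ∃ kk : Fin t, kk ≠ j ∧ kk ≠ l := by
      by_contra hcon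
      push Not at hcon
      by_cases h : k.1 = j
      · have hsub : (Finset.univ : Finset (Fin t)) ⊆ {j, l} := fun x _ => by
          by_cases hxj : x = j
          · simp [hxj]
          · simp [hcon x hxj]
        have := (Finset.card_le_card hsub).trans Finset.card_le_two
        rw [Finset.card_univ, Fintype.card_fin] at this
        omega
      · exact hl.2 (hcon k.1 h).symm
    obtain ⟨z, a, hz, hψz, hak, hza⟩ := exists_ker_vec hm2 ψ kk
    obtain ⟨e1, e2⟩ := torus_step hM h0 hm (a := i0) (a' := a) hzjs (hak ▸ hz) hψzj hψz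
      (by rw [hi0j, hak]; exact hkk.1.symm) (by rw [hzja]; exact hwi0) hza hx0
    refine key _ e1 e2 ?_ l hl.1 fun i hi => ?_
    · have : z i0 = 0 := hz i0 (by rw [hi0j]; exact hkk.1.symm)
      simp [this, hzja, hx1', hwi0]
    · simp [zj, hi, hl.1, hz i (by rw [hi]; exact hkk.2.symm)]

lemma exists_block_perm {a b a1 b1 : Fin t × Fin m} (h : a.1 ≠ b.1) (h1 : a1.1 ≠ b1.1) :
    ∃ σ : Equiv.Perm (Fin t × Fin m), σ a = a1 ∧ σ b = b1 ∧
      ∀ i i' : Fin t × Fin m, i.1 = i'.1 → (σ i).1 = (σ i').1 := by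
  set π : Equiv.Perm (Fin t) := Equiv.swap (Equiv.swap a.1 a1.1 b.1) b1.1 * Equiv.swap a.1 a1.1
  have ha : π a.1 = a1.1 := by
    rw [Equiv.Perm.mul_apply, Equiv.swap_apply_left, Equiv.swap_apply_of_ne_of_ne _ h1]
    intro e
    exact h ((Equiv.swap a.1 a1.1).injective (by rw [Equiv.swap_apply_left]; exact e))
  have hb : π b.1 = b1.1 := by simp [π]
  set ρ : Fin t → Equiv.Perm (Fin m) := fun j =>
    if j = a.1 then Equiv.swap a.2 a1.2 else if j = b.1 then Equiv.swap b.2 b1.2 else 1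
  refine ⟨(Equiv.prodShear π ρ), ?_, ?_, fun i i' e => ?_⟩
  · exact Prod.ext ha (by simp [Equiv.prodShear, ρ])
  · exact Prod.ext hb (by simp [Equiv.prodShear, ρ, h.symm])
  · simp [Equiv.prodShear, e]

/-- An element not permuting the blocks gives the special linear group. -/
theorem sl_le_of_not_Bst (hm2 : 2 ≤ m) (ht3 : m = 2 → 3 ≤ t)
    (hx : m = 2 → ∃ x : F, x ≠ 0 ∧ x ≠ 1) (hM : HasB M) {g : GL (Fin t × Fin m) F} (hg : g ∈ M)
    (hgb : ¬ Bst g) : specialLinear (Fin t × Fin m) F ≤ M := by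
  simp only [Bst, not_forall, not_exists] at hgb
  obtain ⟨j, hj⟩ := hgb
  set G : Matrix (Fin t × Fin m) (Fin t × Fin m) F := (g : Matrix (Fin t × Fin m) (Fin t × Fin m) F)
  set i0 : Fin t × Fin m := (j, ⟨0, by omega⟩)
  obtain ⟨y0, hy0⟩ : ∃ y0, G y0 i0 ≠ 0 := by
    by_contra hcon
    push Not at hcon
    refine gl_mulVec_ne_zero g (x := Pi.single i0 1) (fun e => by simpa using congrFun e i0) ?_
    rw [col_eq]
    exact funext hcon
  obtain ⟨i, y, hi, hy, hgy⟩ : ∃ i y : Fin t × Fin m, i.1 = j ∧ y.1 ≠ y0.1 ∧ G y i ≠ 0 := by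
    obtain ⟨i, y, h1, h2, h3⟩ := hj y0.1
    exact ⟨i, y, h1, h2, h3⟩
  obtain ⟨u, φ, hu, hφ, hφu, hu0, huy, hφ0⟩ : ∃ u φ : Fin t × Fin m → F,
      (∀ k, k.1 ≠ j → u k = 0) ∧ (∀ k, k.1 ≠ j → φ k = 0) ∧ φ ⬝ᵥ u = 0 ∧
      (G *ᵥ u) y0 ≠ 0 ∧ (G *ᵥ u) y ≠ 0 ∧ φ ≠ 0 := by
    have hs : ∀ (k : Fin t × Fin m), k.1 = j → ∀ c : F, ∀ k', k'.1 ≠ j →
        (Pi.single k c : Fin t × Fin m → F) k' = 0 :=
      fun k hk c k' hk' => Pi.single_eq_of_ne (fun e : k' = k => hk' (e ▸ hk)) _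
    have hne1 : ∀ k : Fin t × Fin m, (Pi.single k (1 : F) : Fin t × Fin m → F) ≠ 0 := fun k e => by
      simpa using congrFun e k
    by_cases h1 : G y0 i ≠ 0
    · obtain ⟨i', hi', hii⟩ := exists_other_coord hm2 i
      refine ⟨Pi.single i 1, Pi.single i' 1, hs i hi 1, hs i' (hi'.trans hi) 1, ?_, ?_, ?_, hne1 i'⟩
      · simp [hii.symm]
      · simpa [mulVec] using h1
      · simpa [mulVec] using hgy
    push Not at h1
    by_cases h2 : G y i0 ≠ 0
    · obtain ⟨i', hi', hii⟩ := exists_other_coord hm2 i0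
      refine ⟨Pi.single i0 1, Pi.single i' 1, hs i0 rfl 1, hs i' hi' 1, ?_, ?_, ?_, hne1 i'⟩
      · simp [hii.symm]
      · simpa [mulVec] using hy0
      · simpa [mulVec] using h2
    push Not at h2
    have hne : i ≠ i0 := fun e => hy0 (e ▸ h1)
    refine ⟨Pi.single i 1 + Pi.single i0 1, Pi.single i 1 - Pi.single i0 1, fun k hk => ?_,
      fun k hk => ?_, ?_, ?_, ?_, fun e => ?_⟩
    · simp [hs i hi 1 k hk, hs i0 rfl 1 k hk]
    · simp [hs i hi 1 k hk, hs i0 rfl 1 k hk]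
    · simp [sub_dotProduct, single_dotProduct, hne, hne.symm]
    · simpa [mulVec, h1] using hy0
    · simpa [mulVec, h2] using hgy
    · simpa [hne] using congrFun e i
  have h1 := conj_mem (tv_mem hM hu hφ hφu) hg
  rw [conj_tvGL _ hφu] at h1
  set w := G *ᵥ u
  set ψ := φ ᵥ* ((g⁻¹ : GL (Fin t × Fin m) F) : Matrix (Fin t × Fin m) (Fin t × Fin m) F)
  have hψw : ψ ⬝ᵥ w = 0 := by rw [conj_dot, hφu]
  obtain ⟨p, hp⟩ : ∃ p, ψ p ≠ 0 := by
    refine Function.ne_iff.1 (fun e => hφ0 ?_)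
    have := congrArg (fun z => z ᵥ* G) e
    simpa [ψ, G, vecMul_vecMul, ← Units.val_mul] using this.trans (zero_vecMul _)
  obtain ⟨j1, hj1, hwj1⟩ : ∃ j1, p.1 ≠ j1 ∧ ∃ k, k.1 = j1 ∧ w k ≠ 0 := by
    by_cases h : p.1 = y0.1
    · exact ⟨y.1, h ▸ hy.symm, y, rfl, huy⟩
    · exact ⟨y0.1, h, y0, rfl, hu0⟩
  obtain ⟨v, hv0, hv, hψv, hvm⟩ := exists_block_centre hm2 ht3 hx hM hψw h1 hwj1
  obtain ⟨p', hp', hpp⟩ := exists_other_coord hm2 p
  have hk : ∀ (k : Fin t × Fin m) (c : F), ∀ i, i.1 ≠ k.1 →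
      (Pi.single k c : Fin t × Fin m → F) i = 0 :=
    fun k c i hi => Pi.single_eq_of_ne (fun e : i = k => hi (e ▸ rfl)) _
  have hpv : (Pi.single p' (1 : F)) ⬝ᵥ (Pi.single p (1 : F) : Fin t × Fin m → F) = 0 := by
    simp [hpp.symm]
  have hh := tv_mem hM (j := p.1) (hk p 1) (fun i hi => hk p' 1 i (hp'.symm ▸ hi)) hpv
  have hvp' : v p' = 0 := hv p' (by rw [hp']; exact hj1)
  have h2 := axis_diff hψv hvm hh (by
    rw [tvGL_mulVec hpv, single_dotProduct, one_mul, hvp', zero_smul, add_zero])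
  rw [← tvGL_neg_right hpv, coe_tvGL (by rw [neg_dotProduct, hpv, neg_zero]), vecMul_add, vecMul_one,
    vecMul_vecMulVec, dotProduct_single, mul_one, add_sub_cancel_left, smul_neg, ← neg_smul,
    ← tvGL_smul _ (by rw [single_dotProduct, one_mul, hvp'])] at h2
  set v' := (-ψ p) • v
  have hv' : ∀ i, i.1 ≠ j1 → v' i = 0 := fun i hi => by simp [v', hv i hi]
  obtain ⟨a, ha⟩ : ∃ a, v' a ≠ 0 := Function.ne_iff.1 (smul_ne_zero (neg_ne_zero.2 hp) hv0)
  have haj : a.1 = j1 := by_contra fun h => ha (hv' a h)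
  obtain ⟨a', ha', haa⟩ := exists_other_coord hm2 a
  have hav : (Pi.single a (1 : F)) ⬝ᵥ (Pi.single a' (1 : F) : Fin t × Fin m → F) = 0 := by
    simp [haa]
  have hh2 := tv_mem hM (j := a.1) (fun i hi => hk a' 1 i (ha'.symm ▸ hi)) (hk a 1) hav
  have hap : a' ≠ p' := fun e => hj1 (by rw [← haj, ← ha', e, hp'])
  obtain ⟨-, h3⟩ := centre_diff (by simp [v', hvp']) h2 hh2 (by
    rw [← tvGL_neg_right hav, coe_tvGL (by rw [neg_dotProduct, hav, neg_zero]), vecMul_add,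
      vecMul_one, vecMul_vecMulVec]
    simp [hap.symm])
  rw [tvGL_mulVec hav, add_sub_cancel_left, single_dotProduct, one_mul,
    ← Pi.single_smul, smul_eq_mul, mul_one] at h3
  have hap1 : a'.1 ≠ p'.1 := by rw [ha', haj, hp']; exact hj1.symm
  refine sl_le_of_elementary fun a1 b1 hab c => ?_
  by_cases hblk : a1.1 = b1.1
  · exact tv_mem hM (j := a1.1) (hk a1 c) (fun i hi => hk b1 1 i (hblk ▸ hi))
      (by simp [hab.symm])
  rcases eq_or_ne c 0 with rfl | hc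
  · rw [Pi.single_zero, tvGL_zero_left]; exact M.one_mem
  obtain ⟨σ, hσa, hσb, hσ⟩ := exists_block_perm hap1 hblk
  obtain ⟨z, hza, hzb, -⟩ : ∃ z, z ≠ a' ∧ z ≠ p' ∧ True := by
    rcases eq_or_ne p' a with e | e
    · exact absurd (e ▸ hp' : a.1 = p.1) (by rw [haj]; exact hj1.symm)
    · exact ⟨a, haa.symm, e.symm, trivial⟩
  set s : Fˣ := Units.mk0 (c / v' a) (div_ne_zero hc ha)
  set sg : Fˣ := if Equiv.Perm.sign σ = 1 then 1 else -1
  have hdet : Matrix.det (mon σ (dfun a' s z (sg * s⁻¹)) :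
      Matrix (Fin t × Fin m) (Fin t × Fin m) F) = 1 := by
    rw [det_mon, prod_dfun hza.symm]
    rcases Int.units_eq_one_or (Equiv.Perm.sign σ) with h | h <;> simp [sg, h, s] <;> field_simp
  have h4 := conj_mem h3 (hM _ hdet (bst_mon _ _ hσ))
  rw [conj_tvGL _ (by simp [hap]), mon_mulVec_single, hσa] at h4
  have e1 : (Pi.single p' (1 : F)) ᵥ* (((mon σ (dfun a' s z (sg * s⁻¹)))⁻¹ :
      GL (Fin t × Fin m) F) : Matrix (Fin t × Fin m) (Fin t × Fin m) F) = Pi.single b1 1 := by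
    funext i
    rw [vecMul_mon_inv]
    by_cases hi : i = b1
    · subst hi
      simp [← hσb, dfun, hap.symm, hzb.symm]
    · have : σ.symm i ≠ p' := fun e => hi (by rw [← hσb, ← e, Equiv.apply_symm_apply])
      simp [this, hi]
  rw [e1] at h4
  simpa [dfun, hza.symm, s, div_mul_cancel₀ _ ha] using h4

end CfsgLib.ClassicalMax.BlockG
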