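/-
The stabiliser of two complementary planes is maximal in the special linear group of dimension four,
for fields with at least four elements.
-/
import Cfsg.Agent.Lib.ClassicalMax.BlockMax
set_option autoImplicit false
set_option maxHeartbeats 1000000

namespace CfsgLib.ClassicalMax.BlockFour

open Matrix Cfsg.Geo MonG BlockG

variable {F : Type*} [Field F]

lemma two_coords {y y' i : Fin 2 × Fin 2} (h : y'.1 = y.1) (hne : y' ≠ y) (hi : i.1 = y.1) :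
    i = y ∨ i = y' := by
  revert y y' i
  decide

lemma two_blocks {j l k : Fin 2} (h : l ≠ j) : k = j ∨ k = l := by
  revert j l k
  decide

lemma sum_four {y y' z z' : Fin 2 × Fin 2} (h : y'.1 = y.1) (hne : y' ≠ y) (h' : z'.1 = z.1)
    (hne' : z' ≠ z) (hb : z.1 ≠ y.1) (f : Fin 2 × Fin 2 → F) :
    ∑ i, f i = f y + f y' + (f z + f z') := by
  have hu : (Finset.univ : Finset (Fin 2 × Fin 2)) = {y, y', z, z'} := by
    revert y y' z z'
    decide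
  have a1 : y ≠ z := fun e => hb (by rw [e])
  have a2 : y ≠ z' := fun e => hb (by rw [e, h'])
  have a3 : y' ≠ z := fun e => hb (by rw [← e, h])
  have a4 : y' ≠ z' := fun e => hb (by rw [← h', ← e, h])
  rw [hu, Finset.sum_insert (by simp [hne.symm, a1, a2]), Finset.sum_insert (by simp [a3, a4]),
    Finset.sum_pair hne'.symm]
  ring

/-- The part of a vector in one block. -/
def part (j : Fin 2) (w : Fin 2 × Fin 2 → F) : Fin 2 × Fin 2 → F := fun i => if i.1 = j then w i else 0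

variable [DecidableEq F] {M : Subgroup (GL (Fin 2 × Fin 2) F)}

lemma minor_step (hM : HasB M) {w ψ : Fin 2 × Fin 2 → F} (h0 : ψ ⬝ᵥ w = 0) (hm : tvGL w ψ ∈ M)
    {j : Fin 2} {v : Fin 2 × Fin 2 → F} (hv : ∀ i, i.1 ≠ j → v i = 0) (hψv : ψ ⬝ᵥ v = 0)
    {y1 y2 : Fin 2 × Fin 2} (h1 : y1.1 = j) (h2 : y2.1 = j) (hne : v y2 * w y1 ≠ v y1 * w y2) :
    ∃ v : Fin 2 × Fin 2 → F, v ≠ 0 ∧ (∀ i, i.1 ≠ j → v i = 0) ∧ ψ ⬝ᵥ v = 0 ∧ tvGL v ψ ∈ M := by
  set χ : Fin 2 × Fin 2 → F := v y2 • Pi.single y1 1 - v y1 • Pi.single y2 1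
  have hχ : ∀ i, i.1 ≠ j → χ i = 0 := fun i hi => by
    have a1 : i ≠ y1 := fun e => hi (e ▸ h1)
    have a2 : i ≠ y2 := fun e => hi (e ▸ h2)
    simp [χ, a1, a2]
  have hχv : χ ⬝ᵥ v = 0 := by simp [χ, sub_dotProduct, single_dotProduct, mul_comm]
  have hχw : χ ⬝ᵥ w ≠ 0 := by
    simp only [χ, sub_dotProduct, smul_dotProduct, single_dotProduct, one_mul, smul_eq_mul]
    exact sub_ne_zero.2 hne
  have hfix : ψ ᵥ* (((tvGL v χ)⁻¹ : GL (Fin 2 × Fin 2) F) :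
      Matrix (Fin 2 × Fin 2) (Fin 2 × Fin 2) F) = ψ := by
    rw [← tvGL_neg_right hχv, coe_tvGL (by rw [neg_dotProduct, hχv, neg_zero]), vecMul_add,
      vecMul_one, vecMul_vecMulVec, hψv, zero_smul, add_zero]
  obtain ⟨e1, e2⟩ := centre_diff h0 hm (tv_mem hM hv hχ hχv) hfix
  rw [tvGL_mulVec hχv, add_sub_cancel_left] at e1 e2
  refine ⟨(χ ⬝ᵥ w) • v, smul_ne_zero hχw fun e => hne (by simp [e]), fun i hi => ?_, e1, e2⟩
  simp [hv i hi]

lemma exists_ps {ψ w : Fin 2 × Fin 2 → F} {y y' : Fin 2 × Fin 2} (h : y'.1 = y.1) (hne : y' ≠ y)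
    (hψ : ψ y ≠ 0) (hw : w y' ≠ 0) (r : F) :
    ∃ u ρ : Fin 2 × Fin 2 → F, (∀ i, i.1 ≠ y.1 → u i = 0) ∧ (∀ i, i.1 ≠ y.1 → ρ i = 0) ∧
      ρ ⬝ᵥ u = 1 ∧ ψ ⬝ᵥ u = 1 ∧ ρ ⬝ᵥ w = r := by
  refine ⟨Pi.single y (ψ y)⁻¹, Pi.single y (ψ y) + Pi.single y' ((r - ψ y * w y) / w y'),
    fun i hi => Pi.single_eq_of_ne (fun e => hi (by rw [e])) _, fun i hi => ?_, ?_, ?_, ?_⟩
  · have a1 : i ≠ y := fun e => hi (by rw [e])
    have a2 : i ≠ y' := fun e => hi (by rw [e, h])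
    simp [a1, a2]
  · simp [dotProduct_single, hne.symm, mul_inv_cancel₀ hψ]
  · simp [dotProduct_single, mul_inv_cancel₀ hψ]
  · simp [add_dotProduct, single_dotProduct, div_mul_cancel₀ _ hw]

/-- A transvection with centre in one of the two blocks and the same axis. -/
lemma exists_centre (hD : ∃ D : F, D ≠ 0 ∧ D ^ 2 ≠ 1) (hM : HasB M) {w ψ : Fin 2 × Fin 2 → F}
    (h0 : ψ ⬝ᵥ w = 0) (hm : tvGL w ψ ∈ M) {j : Fin 2} (hwj : ∃ i, i.1 = j ∧ w i ≠ 0) :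
    ∃ v : Fin 2 × Fin 2 → F, v ≠ 0 ∧ (∀ i, i.1 ≠ j → v i = 0) ∧ ψ ⬝ᵥ v = 0 ∧ tvGL v ψ ∈ M := by
  obtain ⟨D, hD0, hD2⟩ := hD
  have hD1 : D - 1 ≠ 0 := sub_ne_zero.2 fun e => hD2 (by rw [e, one_pow])
  obtain ⟨y, hyj, hy⟩ := hwj
  by_cases hp : ∃ p : Fin 2 × Fin 2, p.1 = j ∧ ψ p ≠ 0
  swap
  · push Not at hp
    obtain ⟨y', hy', hyy⟩ := exists_other_coord le_rfl y
    refine minor_step hM h0 hm (v := Pi.single y' 1)
      (fun i hi => Pi.single_eq_of_ne (fun e => hi (by rw [e, hy', hyj])) _)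
      (by simp [dotProduct_single, hp y' (hy'.trans hyj)]) hyj (hy'.trans hyj) ?_
    simp [hyy.symm, hy]
  obtain ⟨a, haj, ha⟩ := hp
  obtain ⟨a', ha', haa⟩ := exists_other_coord le_rfl a
  have ha'j : a'.1 = j := ha'.trans haj
  obtain ⟨l, hl⟩ : ∃ l : Fin 2, l ≠ j := exists_ne j
  have hal : a.1 ≠ l := haj ▸ hl.symm
  obtain ⟨c', hc'1, hc'2⟩ := exists_other_coord le_rfl ((l, 0) : Fin 2 × Fin 2)
  have hsum : ∀ f : Fin 2 × Fin 2 → F, ∑ i, f i = f a + f a' + (f (l, 0) + f c') := fun f =>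
    sum_four ha' haa hc'1 hc'2 (by simpa [haj] using hl) f
  by_cases hS : ψ a * w a + ψ a' * w a' = 0
  swap
  · set v : Fin 2 × Fin 2 → F := Pi.single a (ψ a') - Pi.single a' (ψ a)
    refine minor_step hM h0 hm (v := v) (fun i hi => ?_) ?_ ha'j haj ?_
    · have a1 : i ≠ a := fun e => hi (e ▸ haj)
      have a2 : i ≠ a' := fun e => hi (e ▸ ha'j)
      simp [v, a1, a2]
    · simp [v, dotProduct_sub, dotProduct_single, mul_comm]
    · intro e
      simp [v, haa, haa.symm] at e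
      exact hS (by linear_combination e)
  have hwa' : w a' ≠ 0 := by
    intro e
    rw [e, mul_zero, add_zero] at hS
    rcases two_coords ha' haa (hyj.trans haj.symm) with rfl | rfl
    · exact hy ((mul_eq_zero.1 hS).resolve_left ha)
    · exact hy e
  set wj := part j w
  have hwjs : ∀ i, i.1 ≠ j → wj i = 0 := fun i hi => by simp [wj, part, hi]
  have hψwj : ψ ⬝ᵥ wj = 0 := by
    rw [dotProduct, hsum]
    simp [wj, part, haj, ha'j, hl, hc'1, hS]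
  by_cases hwl : ∀ i, i.1 = l → w i = 0
  · refine ⟨w, fun e => hwa' (by simp [e]), fun i hi => ?_, h0, hm⟩
    exact hwl i ((two_blocks hl).resolve_left hi)
  push Not at hwl
  obtain ⟨b, hbl, hb⟩ := hwl
  obtain ⟨b', hb', hbb⟩ := exists_other_coord le_rfl b
  have hlj : ∀ i : Fin 2 × Fin 2, i.1 = l → i.1 ≠ j := fun i hi => hi.symm ▸ hl
  by_cases hψl : ∀ i, i.1 = l → ψ i = 0
  · obtain ⟨u, ρ, hu, hρ, hru, -, hrw⟩ := exists_ps ha' haa ha hwa' 1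
    set ρ' : Fin 2 × Fin 2 → F := Pi.single b' (1 : F) - Pi.single b (w b' / w b)
    have hρ' : ∀ i, i.1 ≠ b.1 → ρ' i = 0 := fun i hi => by
      have a1 : i ≠ b := fun e => hi (by rw [e])
      have a2 : i ≠ b' := fun e => hi (by rw [e, hb'])
      simp [ρ', a1, a2]
    have hr' : ρ' ⬝ᵥ Pi.single b' (1 : F) = 1 := by
      simp [ρ', dotProduct_single, hbb]
    have hrw' : ρ' ⬝ᵥ w = 0 := by
      simp [ρ', sub_dotProduct, single_dotProduct, div_mul_cancel₀ _ hb]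
    have hz' : ∀ i, i.1 ≠ b.1 → (Pi.single b' (1 : F) : Fin 2 × Fin 2 → F) i = 0 :=
      fun i hi => Pi.single_eq_of_ne (fun e => hi (by rw [e, hb'])) _
    set ρ₀ : Fin 2 × Fin 2 → F := Pi.single a' (wj a')⁻¹
    have hwja' : wj a' = w a' := by simp [wj, part, ha'j]
    have hr₀ : ρ₀ ⬝ᵥ wj = 1 := by
      simp [ρ₀, single_dotProduct, inv_mul_cancel₀ (hwja' ▸ hwa')]
    have hρ₀ : ∀ i, i.1 ≠ j → ρ₀ i = 0 := fun i hi =>
      Pi.single_eq_of_ne (fun e => hi (by rw [e]; exact ha'j)) _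
    have hh : psGL wj ρ₀ D * psGL (Pi.single b' 1) ρ' D⁻¹ ∈ M := hM _
      (by rw [Units.val_mul, det_mul, det_psGL hr₀ hD0, det_psGL hr' (inv_ne_zero hD0),
        mul_inv_cancel₀ hD0])
      (bst_mul (bst_ps hwjs hρ₀ hr₀ hD0) (bst_ps hz' hρ' hr' (inv_ne_zero hD0)))
    have hψb : ψ ⬝ᵥ Pi.single b' (1 : F) = 0 := by simp [hψl b' (hb'.trans hbl)]
    have hfix : ψ ᵥ* (((psGL wj ρ₀ D * psGL (Pi.single b' 1) ρ' D⁻¹)⁻¹ : GL (Fin 2 × Fin 2) F) :
        Matrix (Fin 2 × Fin 2) (Fin 2 × Fin 2) F) = ψ := by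
      rw [_root_.mul_inv_rev, Units.val_mul, ← vecMul_vecMul, psGL_vecMul hr' (inv_ne_zero hD0),
        hψb, mul_zero, zero_smul, add_zero, psGL_vecMul hr₀ hD0, hψwj, mul_zero, zero_smul, add_zero]
    obtain ⟨e1, e2⟩ := centre_diff h0 hm hh hfix
    have e : ((psGL wj ρ₀ D * psGL (Pi.single b' 1) ρ' D⁻¹ : GL (Fin 2 × Fin 2) F) :
        Matrix (Fin 2 × Fin 2) (Fin 2 × Fin 2) F) *ᵥ w - w = (D - 1) • wj := by
      rw [gl_mulVec_mul, psGL_mulVec hr' (inv_ne_zero hD0), hrw', mul_zero, zero_smul, add_zero,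
        psGL_mulVec hr₀ hD0]
      simp [ρ₀, single_dotProduct, hwja', inv_mul_cancel₀ hwa']
    rw [e] at e1 e2
    refine ⟨_, smul_ne_zero hD1 fun e0 => hwa' (by rw [← hwja', e0]; rfl), fun i hi => ?_, e1, e2⟩
    simp [hwjs i hi]
  push Not at hψl
  obtain ⟨c, hcl, hc⟩ := hψl
  obtain ⟨d, hd, hdc⟩ := exists_other_coord le_rfl c
  have hsum2 : ∀ f : Fin 2 × Fin 2 → F, ∑ i, f i = f a + f a' + (f c + f d) := fun f =>
    sum_four ha' haa hd hdc (by rw [hcl, haj]; exact hl) f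
  have hwd : w d ≠ 0 := by
    intro e
    have h := h0
    rw [dotProduct, hsum2, hS, zero_add, e, mul_zero, add_zero] at h
    rcases two_coords hd hdc (hbl.trans hcl.symm) with rfl | rfl
    · exact hb ((mul_eq_zero.1 h).resolve_left hc)
    · exact hb e
  obtain ⟨u, ρ, hu, hρ, hru, hψu, hrw⟩ := exists_ps ha' haa ha hwa' 1
  obtain ⟨u', ρ', hu', hρ', hru', hψu', hrw'⟩ := exists_ps hd hdc hc hwd D
  have hlc : c.1 ≠ a.1 := by rw [hcl, haj]; exact hl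
  have hru0 : ρ ⬝ᵥ u' = 0 := Finset.sum_eq_zero fun i _ => by
    rcases eq_or_ne i.1 c.1 with e | e
    · rw [hρ i (e ▸ hlc), zero_mul]
    · rw [hu' i e, mul_zero]
  have hru0' : ρ' ⬝ᵥ u = 0 := Finset.sum_eq_zero fun i _ => by
    rcases eq_or_ne i.1 a.1 with e | e
    · rw [hρ' i (e ▸ hlc.symm), zero_mul]
    · rw [hu i e, mul_zero]
  set h := psGL u ρ D * psGL u' ρ' D⁻¹
  have hh : h ∈ M := hM _
    (by rw [Units.val_mul, det_mul, det_psGL hru hD0, det_psGL hru' (inv_ne_zero hD0),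
      mul_inv_cancel₀ hD0])
    (bst_mul (bst_ps hu hρ hru hD0) (bst_ps hu' hρ' hru' (inv_ne_zero hD0)))
  have hhw : (h : Matrix (Fin 2 × Fin 2) (Fin 2 × Fin 2) F) *ᵥ w
      = w + ((D⁻¹ - 1) * D) • u' + (D - 1) • u := by
    rw [gl_mulVec_mul, psGL_mulVec hru' (inv_ne_zero hD0), psGL_mulVec hru hD0, hrw',
      dotProduct_add, dotProduct_smul, hrw, hru0, smul_zero, add_zero, mul_one]
  set β := ψ ᵥ* ((h⁻¹ : GL (Fin 2 × Fin 2) F) : Matrix (Fin 2 × Fin 2) (Fin 2 × Fin 2) F)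
  have hβw : β ⬝ᵥ w ≠ 0 := by
    have e : β = ψ + (D⁻¹ - 1) • ρ + (D - 1) • ρ' := by
      simp only [β, h]
      rw [_root_.mul_inv_rev, Units.val_mul, ← vecMul_vecMul, psGL_vecMul hru' (inv_ne_zero hD0),
        psGL_vecMul hru hD0, hψu', add_dotProduct, smul_dotProduct, hψu, hru0', smul_zero, add_zero,
        inv_inv, mul_one, mul_one]
      abel
    rw [e, add_dotProduct, add_dotProduct, smul_dotProduct, smul_dotProduct, h0, hrw, hrw',
      smul_eq_mul, smul_eq_mul, zero_add, mul_one]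
    intro e'
    have := mul_inv_cancel₀ hD0
    have h5 : (D - 1) * (D ^ 2 - 1) = 0 := by linear_combination D * e' - this
    exact hD2 (sub_eq_zero.1 ((mul_eq_zero.1 h5).resolve_left hD1))
  have hT := conj_mem hm hh
  rw [conj_tvGL _ h0] at hT
  set b₁ := (h : Matrix (Fin 2 × Fin 2) (Fin 2 × Fin 2) F) *ᵥ w
  have hβb : β ⬝ᵥ b₁ = 0 := by rw [conj_dot, h0]
  have hψb : ψ ⬝ᵥ b₁ = 0 := by
    rw [hhw, dotProduct_add, dotProduct_add, dotProduct_smul, dotProduct_smul, h0, hψu, hψu',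
      smul_eq_mul, smul_eq_mul]
    have := mul_inv_cancel₀ hD0
    linear_combination this
  obtain ⟨e1, e2⟩ := centre_diff h0 hm hT (by
    rw [← tvGL_neg_right hβb, coe_tvGL (by rw [neg_dotProduct, hβb, neg_zero]), vecMul_add,
      vecMul_one, vecMul_vecMulVec, hψb, zero_smul, add_zero])
  rw [tvGL_mulVec hβb, add_sub_cancel_left] at e1 e2
  refine minor_step hM e1 e2 (v := wj) hwjs hψwj haj ha'j ?_
  have hu'a : ∀ i : Fin 2 × Fin 2, i.1 = j → u' i = 0 := fun i hi =>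
    hu' i (by rw [hi, hcl]; exact hl.symm)
  have hψu2 : ψ a * u a + ψ a' * u a' = 1 := by
    rw [← hψu, dotProduct, hsum2, hu c hlc, hu d (by rw [hd]; exact hlc)]
    ring
  simp only [wj, part, haj, ha'j, if_true, Pi.smul_apply, smul_eq_mul, hhw, Pi.add_apply,
    hu'a a haj, hu'a a' ha'j]
  intro e
  have h6 : (β ⬝ᵥ w) * (w a' * (D - 1)) = 0 := by
    linear_combination ψ a * e - (β ⬝ᵥ w) * w a' * (D - 1) * hψu2
      + (β ⬝ᵥ w) * (D - 1) * u a' * hS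
  exact mul_ne_zero hβw (mul_ne_zero hwa' hD1) h6

/-- An element not permuting the blocks gives the special linear group. -/
theorem sl_le_of_not_Bst (hD : ∃ D : F, D ≠ 0 ∧ D ^ 2 ≠ 1) (hM : HasB M) {g : GL (Fin 2 × Fin 2) F} (hg : g ∈ M)
    (hgb : ¬ Bst g) : specialLinear (Fin 2 × Fin 2) F ≤ M := by
  have hm2 : 2 ≤ 2 := le_rfl
  simp only [Bst, not_forall, not_exists] at hgb
  obtain ⟨j, hj⟩ := hgb
  set G : Matrix (Fin 2 × Fin 2) (Fin 2 × Fin 2) F := (g : Matrix (Fin 2 × Fin 2) (Fin 2 × Fin 2) F)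
  set i0 : Fin 2 × Fin 2 := (j, ⟨0, by omega⟩)
  obtain ⟨y0, hy0⟩ : ∃ y0, G y0 i0 ≠ 0 := by
    by_contra hcon
    push Not at hcon
    refine gl_mulVec_ne_zero g (x := Pi.single i0 1) (fun e => by simpa using congrFun e i0) ?_
    rw [col_eq]
    exact funext hcon
  obtain ⟨i, y, hi, hy, hgy⟩ : ∃ i y : Fin 2 × Fin 2, i.1 = j ∧ y.1 ≠ y0.1 ∧ G y i ≠ 0 := by
    obtain ⟨i, y, h1, h2, h3⟩ := hj y0.1
    exact ⟨i, y, h1, h2, h3⟩
  obtain ⟨u, φ, hu, hφ, hφu, hu0, huy, hφ0⟩ : ∃ u φ : Fin 2 × Fin 2 → F,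
      (∀ k, k.1 ≠ j → u k = 0) ∧ (∀ k, k.1 ≠ j → φ k = 0) ∧ φ ⬝ᵥ u = 0 ∧
      (G *ᵥ u) y0 ≠ 0 ∧ (G *ᵥ u) y ≠ 0 ∧ φ ≠ 0 := by
    have hs : ∀ (k : Fin 2 × Fin 2), k.1 = j → ∀ c : F, ∀ k', k'.1 ≠ j →
        (Pi.single k c : Fin 2 × Fin 2 → F) k' = 0 :=
      fun k hk c k' hk' => Pi.single_eq_of_ne (fun e : k' = k => hk' (e ▸ hk)) _
    have hne1 : ∀ k : Fin 2 × Fin 2, (Pi.single k (1 : F) : Fin 2 × Fin 2 → F) ≠ 0 := fun k e => by
      simpa using congrFun e k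
    by_cases h1 : G y0 i ≠ 0
    · obtain ⟨i', hi', hii⟩ := exists_other_coord hm2 i
      refine ⟨Pi.single i 1, Pi.single i' 1, hs i hi 1, hs i' (hi'.trans hi) 1, ?_, ?_, ?_, hne1 i'⟩
      · simp [hii.symm]
      · simpa [mulVec] using h1
      · simpa [mulVec] using hgy
    push Not at h1
    by_cases h2 : G y i0 ≠ 0
    · obtain ⟨i', hi', hii⟩ := exists_other_coord hm2 i0
      refine ⟨Pi.single i0 1, Pi.single i' 1, hs i0 rfl 1, hs i' hi' 1, ?_, ?_, ?_, hne1 i'⟩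
      · simp [hii.symm]
      · simpa [mulVec] using hy0
      · simpa [mulVec] using h2
    push Not at h2
    have hne : i ≠ i0 := fun e => hy0 (e ▸ h1)
    refine ⟨Pi.single i 1 + Pi.single i0 1, Pi.single i 1 - Pi.single i0 1, fun k hk => ?_,
      fun k hk => ?_, ?_, ?_, ?_, fun e => ?_⟩
    · simp [hs i hi 1 k hk, hs i0 rfl 1 k hk]
    · simp [hs i hi 1 k hk, hs i0 rfl 1 k hk]
    · simp [sub_dotProduct, single_dotProduct, hne, hne.symm]
    · simpa [mulVec, h1] using hy0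
    · simpa [mulVec, h2] using hgy
    · simpa [hne] using congrFun e i
  have h1 := conj_mem (tv_mem hM hu hφ hφu) hg
  rw [conj_tvGL _ hφu] at h1
  set w := G *ᵥ u
  set ψ := φ ᵥ* ((g⁻¹ : GL (Fin 2 × Fin 2) F) : Matrix (Fin 2 × Fin 2) (Fin 2 × Fin 2) F)
  have hψw : ψ ⬝ᵥ w = 0 := by rw [conj_dot, hφu]
  obtain ⟨p, hp⟩ : ∃ p, ψ p ≠ 0 := by
    refine Function.ne_iff.1 (fun e => hφ0 ?_)
    have := congrArg (fun z => z ᵥ* G) e
    simpa [ψ, G, vecMul_vecMul, ← Units.val_mul] using this.trans (zero_vecMul _)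
  obtain ⟨j1, hj1, hwj1⟩ : ∃ j1, p.1 ≠ j1 ∧ ∃ k, k.1 = j1 ∧ w k ≠ 0 := by
    by_cases h : p.1 = y0.1
    · exact ⟨y.1, h ▸ hy.symm, y, rfl, huy⟩
    · exact ⟨y0.1, h, y0, rfl, hu0⟩
  obtain ⟨v, hv0, hv, hψv, hvm⟩ := exists_centre hD hM hψw h1 hwj1
  obtain ⟨p', hp', hpp⟩ := exists_other_coord hm2 p
  have hk : ∀ (k : Fin 2 × Fin 2) (c : F), ∀ i, i.1 ≠ k.1 →
      (Pi.single k c : Fin 2 × Fin 2 → F) i = 0 :=
    fun k c i hi => Pi.single_eq_of_ne (fun e : i = k => hi (e ▸ rfl)) _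
  have hpv : (Pi.single p' (1 : F)) ⬝ᵥ (Pi.single p (1 : F) : Fin 2 × Fin 2 → F) = 0 := by
    simp [hpp.symm]
  have hh := tv_mem hM (j := p.1) (hk p 1) (fun i hi => hk p' 1 i (hp'.symm ▸ hi)) hpv
  have hvp' : v p' = 0 := hv p' (by rw [hp']; exact hj1)
  have h2 := axis_diff hψv hvm hh (by
    rw [tvGL_mulVec hpv, single_dotProduct, one_mul, hvp', zero_smul, add_zero])
  rw [← tvGL_neg_right hpv, coe_tvGL (by rw [neg_dotProduct, hpv, neg_zero]), vecMul_add, vecMul_one,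
    vecMul_vecMulVec, dotProduct_single, mul_one, add_sub_cancel_left, smul_neg, ← neg_smul,
    ← tvGL_smul _ (by rw [single_dotProduct, one_mul, hvp'])] at h2
  set v' := (-ψ p) • v
  have hv' : ∀ i, i.1 ≠ j1 → v' i = 0 := fun i hi => by simp [v', hv i hi]
  obtain ⟨a, ha⟩ : ∃ a, v' a ≠ 0 := Function.ne_iff.1 (smul_ne_zero (neg_ne_zero.2 hp) hv0)
  have haj : a.1 = j1 := by_contra fun h => ha (hv' a h)
  obtain ⟨a', ha', haa⟩ := exists_other_coord hm2 a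
  have hav : (Pi.single a (1 : F)) ⬝ᵥ (Pi.single a' (1 : F) : Fin 2 × Fin 2 → F) = 0 := by
    simp [haa]
  have hh2 := tv_mem hM (j := a.1) (fun i hi => hk a' 1 i (ha'.symm ▸ hi)) (hk a 1) hav
  have hap : a' ≠ p' := fun e => hj1 (by rw [← haj, ← ha', e, hp'])
  obtain ⟨-, h3⟩ := centre_diff (by simp [v', hvp']) h2 hh2 (by
    rw [← tvGL_neg_right hav, coe_tvGL (by rw [neg_dotProduct, hav, neg_zero]), vecMul_add,
      vecMul_one, vecMul_vecMulVec]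
    simp [hap.symm])
  rw [tvGL_mulVec hav, add_sub_cancel_left, single_dotProduct, one_mul,
    ← Pi.single_smul, smul_eq_mul, mul_one] at h3
  have hap1 : a'.1 ≠ p'.1 := by rw [ha', haj, hp']; exact hj1.symm
  refine sl_le_of_elementary fun a1 b1 hab c => ?_
  by_cases hblk : a1.1 = b1.1
  · exact tv_mem hM (j := a1.1) (hk a1 c) (fun i hi => hk b1 1 i (hblk ▸ hi))
      (by simp [hab.symm])
  rcases eq_or_ne c 0 with rfl | hc
  · rw [Pi.single_zero, tvGL_zero_left]; exact M.one_mem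
  obtain ⟨σ, hσa, hσb, hσ⟩ := exists_block_perm hap1 hblk
  obtain ⟨z, hza, hzb, -⟩ : ∃ z, z ≠ a' ∧ z ≠ p' ∧ True := by
    rcases eq_or_ne p' a with e | e
    · exact absurd (e ▸ hp' : a.1 = p.1) (by rw [haj]; exact hj1.symm)
    · exact ⟨a, haa.symm, e.symm, trivial⟩
  set s : Fˣ := Units.mk0 (c / v' a) (div_ne_zero hc ha)
  set sg : Fˣ := if Equiv.Perm.sign σ = 1 then 1 else -1
  have hdet : Matrix.det (mon σ (dfun a' s z (sg * s⁻¹)) :
      Matrix (Fin 2 × Fin 2) (Fin 2 × Fin 2) F) = 1 := by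
    rw [det_mon, prod_dfun hza.symm]
    rcases Int.units_eq_one_or (Equiv.Perm.sign σ) with h | h <;> simp [sg, h, s] <;> field_simp
  have h4 := conj_mem h3 (hM _ hdet (bst_mon _ _ hσ))
  rw [conj_tvGL _ (by simp [hap]), mon_mulVec_single, hσa] at h4
  have e1 : (Pi.single p' (1 : F)) ᵥ* (((mon σ (dfun a' s z (sg * s⁻¹)))⁻¹ :
      GL (Fin 2 × Fin 2) F) : Matrix (Fin 2 × Fin 2) (Fin 2 × Fin 2) F) = Pi.single b1 1 := by
    funext i
    rw [vecMul_mon_inv]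
    by_cases hi : i = b1
    · subst hi
      simp [← hσb, dfun, hap.symm, hzb.symm]
    · have : σ.symm i ≠ p' := fun e => hi (by rw [← hσb, ← e, Equiv.apply_symm_apply])
      simp [this, hi]
  rw [e1] at h4
  simpa [dfun, hza.symm, s, div_mul_cancel₀ _ ha] using h4

end CfsgLib.ClassicalMax.BlockFour
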