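/-
A decomposition seen as a decomposition of the coordinates into blocks.
-/
import Cfsg.Agent.Lib.ClassicalMax.BlockMax
import Cfsg.Agent.Lib.ClassicalMax.UnitFrame
set_option autoImplicit false

namespace CfsgLib.ClassicalMax.BlockG

open Matrix Cfsg.Geo MonG

variable {ι : Type} [Fintype ι] [DecidableEq ι] {F : Type*} [Field F]

/-- A change of coordinates from the blocks to the decomposition. -/
theorem exists_transport {t m : ℕ} {D : Fin t → Submodule F (ι → F)} (hD : IsMDecomposition m D) :
    ∃ Ψ : GL (Fin t × Fin m) F ≃* GL ι F,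
      (∀ g, Matrix.det (Ψ g : Matrix ι ι F)
        = Matrix.det (g : Matrix (Fin t × Fin m) (Fin t × Fin m) F)) ∧
      ∀ g, Ψ g ∈ decompositionStabilizer D ↔ Bst g := by
  classical
  have hint : DirectSum.IsInternal D :=
    DirectSum.isInternal_submodule_of_iSupIndep_of_iSup_eq_top hD.indep hD.iSup_eq_top
  let b : Module.Basis (Fin t × Fin m) F (ι → F) :=
    (hint.collectedBasis fun i => Module.finBasisOfFinrankEq F (D i) (hD.finrank_eq i)).reindex
      (Equiv.sigmaEquivProd _ _)
  have hb : ∀ k, b k ∈ D k.1 := fun k => by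
    simp only [b, Module.Basis.reindex_apply]
    exact hint.collectedBasis_mem (fun i => Module.finBasisOfFinrankEq F (D i) (hD.finrank_eq i))
      ((Equiv.sigmaEquivProd (Fin t) (Fin m)).symm k)
  have hc : Fintype.card ι = Fintype.card (Fin t × Fin m) := by
    rw [← Unit.Frame.card_blocks hD, Fintype.card_prod, Fintype.card_fin, Fintype.card_fin, mul_comm]
  obtain ⟨e⟩ : Nonempty (ι ≃ Fin t × Fin m) := Fintype.card_eq.1 hc
  let A : Matrix ι ι F := Matrix.of fun r c => b (e c) r
  have hA : IsUnit A := by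
    refine Matrix.mulVec_injective_iff_isUnit.1 fun x y h => ?_
    have hAx : ∀ x, A *ᵥ x = ∑ k, x (e.symm k) • b k := fun x => by
      funext r
      rw [← e.sum_comp (fun k => x (e.symm k) • b k)]
      simp [A, mulVec, dotProduct, mul_comm]
    simp only [hAx] at h
    funext i
    have := Fintype.linearIndependent_iff.1 b.linearIndependent
      (fun k => x (e.symm k) - y (e.symm k))
      (by simp only [sub_smul, Finset.sum_sub_distrib, h, sub_self]) (e i)
    simpa [sub_eq_zero] using this
  let P : GL ι F := hA.unit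
  let Ψ : GL (Fin t × Fin m) F ≃* GL ι F := (glReindex e.symm).trans (MulAut.conj P)
  have hΨ : ∀ g, (Ψ g : Matrix ι ι F) = (P : Matrix ι ι F) *
      ((g : Matrix (Fin t × Fin m) (Fin t × Fin m) F).submatrix e e) *
        ((P⁻¹ : GL ι F) : Matrix ι ι F) := fun g => rfl
  have hcol : ∀ g i, (Ψ g : Matrix ι ι F) *ᵥ b i
      = ∑ y, (g : Matrix (Fin t × Fin m) (Fin t × Fin m) F) y i • b y := by
    intro g i
    have h1 : ∀ x : ι → F, (P : Matrix ι ι F) *ᵥ x = ∑ k, x (e.symm k) • b k := fun x => by
      funext r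
      rw [← e.sum_comp (fun k => x (e.symm k) • b k)]
      simp [P, A, mulVec, dotProduct, mul_comm]
    have h2 : (P : Matrix ι ι F) *ᵥ Pi.single (e.symm i) 1 = b i := by
      funext r; simp [P, A]
    rw [hΨ, ← h2, ← mulVec_mulVec, mulVec_mulVec _ ((P⁻¹ : GL ι F) : Matrix ι ι F), ← Units.val_mul,
      inv_mul_cancel, Units.val_one, one_mulVec, ← mulVec_mulVec, h1]
    refine Finset.sum_congr rfl fun k _ => ?_
    congr 1
    simp
  have hspan : ∀ j, D j = Submodule.span F (b '' {k | k.1 = j}) := fun j => by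
    refine (Submodule.eq_of_le_of_finrank_eq (Submodule.span_le.2 ?_) ?_).symm
    · rintro _ ⟨k, hk, rfl⟩
      exact hk ▸ hb k
    · rw [hD.finrank_eq]
      let f : Fin m → ι → F := fun i => b (j, i)
      have hr : b '' {k | k.1 = j} = Set.range f := by
        ext v
        constructor
        · rintro ⟨⟨a, i⟩, rfl, rfl⟩; exact ⟨i, rfl⟩
        · rintro ⟨i, rfl⟩; exact ⟨(j, i), rfl, rfl⟩
      have hf : LinearIndependent F f :=
        b.linearIndependent.comp (fun i => (j, i)) fun i i' h => congrArg Prod.snd h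
      rw [hr, finrank_span_eq_card hf, Fintype.card_fin]
  refine ⟨Ψ, fun g => ?_, fun g => ⟨fun h j => ?_, fun h => ?_⟩⟩
  · rw [hΨ, Matrix.det_units_conj, Matrix.det_submatrix_equiv_self]
  · obtain ⟨σ, hσ⟩ := h
    refine ⟨σ j, fun i y hi hy => ?_⟩
    have h1 : (Ψ g : Matrix ι ι F) *ᵥ b i ∈ D (σ j) := by
      rw [← hσ j]
      exact ⟨b i, hi ▸ hb i, Matrix.toLin'_apply _ _⟩
    rw [hcol, hspan] at h1
    have h2 := (Module.Basis.mem_span_image b).1 h1
    have h3 : b.repr (∑ z, (g : Matrix (Fin t × Fin m) (Fin t × Fin m) F) z i • b z) y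
        = (g : Matrix (Fin t × Fin m) (Fin t × Fin m) F) y i := by
      simp [Finsupp.single_apply]
    rw [← h3]
    exact Finsupp.notMem_support_iff.1 fun hm => hy (h2 hm)
  · choose π hπ using h
    have hle : ∀ j, (D j).map (Matrix.toLin' (Ψ g : Matrix ι ι F)) ≤ D (π j) := fun j => by
      rw [hspan j, Submodule.map_span, Submodule.span_le]
      rintro _ ⟨_, ⟨i, hi, rfl⟩, rfl⟩
      rw [Matrix.toLin'_apply, hcol]
      refine Submodule.sum_mem _ fun y _ => ?_
      by_cases hy : y.1 = π j
      · exact Submodule.smul_mem _ _ (hy ▸ hb y)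
      · rw [hπ j i y hi hy, zero_smul]; exact Submodule.zero_mem _
    have hinjg : Function.Injective (Matrix.toLin' (Ψ g : Matrix ι ι F)) := fun x y hxy =>
      gl_mulVec_injective (Ψ g) (by simpa using hxy)
    have heq : ∀ j, (D j).map (Matrix.toLin' (Ψ g : Matrix ι ι F)) = D (π j) := fun j =>
      Submodule.eq_of_le_of_finrank_eq (hle j) (by
        rw [← (Submodule.equivMapOfInjective _ hinjg (D j)).finrank_eq, hD.finrank_eq, hD.finrank_eq])
    have hinj : Function.Injective π := fun a c hac => by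
      by_contra hne
      have hDe : D a = D c := Submodule.map_injective_of_injective hinjg (by rw [heq, heq, hac])
      have hdis := hD.indep.pairwiseDisjoint hne
      rw [Function.onFun, hDe, disjoint_self] at hdis
      have h4 := hD.finrank_eq c
      rw [hdis, finrank_bot] at h4
      exact absurd hD.pos (by omega)
    exact ⟨Equiv.ofBijective π hinj.bijective_of_finite, heq⟩

variable [DecidableEq F]

/-- Decomposition stabilisers are maximal in the special linear group. -/
theorem decomposition_maximal [Fintype F] {t m : ℕ} {D : Fin t → Submodule F (ι → F)}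
    (hD : IsMDecomposition m D) (hn : 7 ≤ Fintype.card ι)
    (hq1 : m = 1 → 5 ≤ Fintype.card F) (hq2 : m = 2 → 3 ≤ Fintype.card F) :
    IsMaximalIn (specialLinear ι F) (decompositionStabilizer D ⊓ specialLinear ι F) := by
  classical
  have hmt := Unit.Frame.card_blocks hD
  obtain ⟨Ψ, hdet, hst⟩ := exists_transport hD
  have hslI : ∀ g, Ψ g ∈ specialLinear ι F ↔ g ∈ specialLinear (Fin t × Fin m) F := fun g => by
    simp only [specialLinear, MonoidHom.mem_ker, Units.ext_iff, Matrix.GeneralLinearGroup.val_det_apply,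
      Units.val_one, hdet]
  have hdet1 : ∀ g : GL (Fin t × Fin m) F, g ∈ specialLinear (Fin t × Fin m) F ↔
      Matrix.det (g : Matrix (Fin t × Fin m) (Fin t × Fin m) F) = 1 := fun g => by
    simp only [specialLinear, MonoidHom.mem_ker, Units.ext_iff, Matrix.GeneralLinearGroup.val_det_apply,
      Units.val_one]
  refine ⟨lt_of_le_of_ne inf_le_right fun e => ?_, fun M hHM hMK => ?_⟩
  · have h2t := hD.two_le
    set a : Fin t × Fin m := (⟨0, by omega⟩, ⟨0, hD.pos⟩)
    set b : Fin t × Fin m := (⟨1, by omega⟩, ⟨0, hD.pos⟩)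
    have hab : a ≠ b := fun e => by simpa [a, b] using congrArg Prod.fst e
    have h0 : (Pi.single a (1 : F)) ⬝ᵥ (Pi.single b (1 : F) : Fin t × Fin m → F) = 0 := by
      simp [hab.symm]
    have hm : Ψ (tvGL (Pi.single b 1) (Pi.single a 1)) ∈
        decompositionStabilizer D ⊓ specialLinear ι F :=
      e.symm ▸ (hslI _).2 (tvGL_mem_sl _ _)
    obtain ⟨j', hj'⟩ := (hst _).1 hm.1 a.1
    by_cases h : a.1 = j'
    · have := hj' a b rfl (by rw [← h]; simp [a, b])
      simp [coe_tvGL h0, vecMulVec_apply, hab.symm] at this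
    · have := hj' a a rfl h
      simp [coe_tvGL h0, vecMulVec_apply, hab] at this
  · by_cases hle : M ≤ decompositionStabilizer D
    · exact Or.inl (le_antisymm (le_inf hle hMK) hHM)
    refine Or.inr (le_antisymm hMK fun x hx => ?_)
    obtain ⟨g, hg, hgb⟩ := SetLike.not_le_iff_exists.1 hle
    set M' := M.comap Ψ.toMonoidHom with hM'
    have hB : HasB M' := fun h h1 h2 => hHM ⟨(hst h).2 h2, (hslI h).2 ((hdet1 h).2 h1)⟩
    have hgM' : Ψ.symm g ∈ M' := by
      change Ψ (Ψ.symm g) ∈ M
      rwa [MulEquiv.apply_symm_apply]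
    have hgb' : ¬ Bst (Ψ.symm g) := fun hb => hgb (by simpa using (hst _).2 hb)
    have hsl : specialLinear (Fin t × Fin m) F ≤ M' := by
      have hpos := hD.pos
      rcases Nat.lt_or_ge m 2 with h | h
      · have hm1 : m = 1 := by omega
        haveI : Subsingleton (Fin m) := by rw [hm1]; infer_instance
        have hB' : ∀ k : GL (Fin t × Fin m) F, Mon k → Bst k := fun k hk j => by
          obtain ⟨b', hb'⟩ := hk (j, ⟨0, hpos⟩)
          refine ⟨b'.1, fun i y hi hy => ?_⟩
          rw [show i = (j, ⟨0, hpos⟩) from Prod.ext hi (Subsingleton.elim _ _)]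
          exact hb' y fun e => hy (e ▸ rfl)
        refine MonG.sl_le_of_not_Mon (hq1 hm1) ?_ ?_ (fun k hk => ?_) hgM' fun hm => hgb' (hB' _ hm)
        · simp only [Fintype.card_prod, Fintype.card_fin, hm1]; rw [hm1] at hmt; omega
        · exact fun σ d h1 => hB _ h1 (hB' _ (mon_Mon σ d))
        · exact (hslI k).1 (hMK hk)
      · refine sl_le_of_not_Bst h (fun hm => ?_) (fun hm => ?_) hB hgM' hgb'
        · rw [hm] at hmt; omega
        · obtain ⟨x, -, hx⟩ := Finset.exists_mem_notMem_of_card_lt_card (s := ({0, 1} : Finset F))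
            (t := Finset.univ) (Finset.card_le_two.trans_lt (by rw [Finset.card_univ]; exact hq2 hm))
          exact ⟨x, by simpa using hx⟩
    have := hsl ((hslI (Ψ.symm x)).1 (by rwa [MulEquiv.apply_symm_apply]))
    change Ψ (Ψ.symm x) ∈ M at this
    rwa [MulEquiv.apply_symm_apply] at this

end CfsgLib.ClassicalMax.BlockG
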