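/-
Decomposition stabilisers are maximal in the special linear group, dimension at least six.
-/
import Cfsg.Agent.Lib.ClassicalMax.BlockTransport
set_option autoImplicit false

namespace CfsgLib.ClassicalMax.BlockSmall

open Matrix Cfsg.Geo MonG
open CfsgLib.ClassicalMax.BlockG

variable {ι : Type} [Fintype ι] [DecidableEq ι] {F : Type*} [Field F] [DecidableEq F]

/-- Decomposition stabilisers are maximal in the special linear group. -/
theorem decomposition_maximal [Fintype F] {t m : ℕ} {D : Fin t → Submodule F (ι → F)}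
    (hD : IsMDecomposition m D) (hn : 6 ≤ Fintype.card ι)
    (hq1 : m = 1 → 5 ≤ Fintype.card F) (hq2 : m = 2 → 3 ≤ Fintype.card F) :
    IsMaximalIn (specialLinear ι F) (decompositionStabilizer D ⊓ specialLinear ι F) := by
  classical
  have hmt := Unit.Frame.card_blocks hD
  obtain ⟨Ψ, hdet, hst⟩ := exists_transport hD
  have hslI : ∀ g, Ψ g ∈ specialLinear ι F ↔ g ∈ specialLinear (Fin t × Fin m) F := fun g => by
    simp only [specialLinear, MonoidHom.mem_ker, Units.ext_iff, Matrix.GeneralLinearGroup.val_det_apply,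
      Units.val_one, hdet]
  have hdet1 : ∀ g : GL (Fin t × Fin m) F, g ∈ specialLinear (Fin t × Fin m) F ↔
      Matrix.det (g : Matrix (Fin t × Fin m) (Fin t × Fin m) F) = 1 := fun g => by
    simp only [specialLinear, MonoidHom.mem_ker, Units.ext_iff, Matrix.GeneralLinearGroup.val_det_apply,
      Units.val_one]
  refine ⟨lt_of_le_of_ne inf_le_right fun e => ?_, fun M hHM hMK => ?_⟩
  · have h2t := hD.two_le
    set a : Fin t × Fin m := (⟨0, by omega⟩, ⟨0, hD.pos⟩)
    set b : Fin t × Fin m := (⟨1, by omega⟩, ⟨0, hD.pos⟩)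
    have hab : a ≠ b := fun e => by simpa [a, b] using congrArg Prod.fst e
    have h0 : (Pi.single a (1 : F)) ⬝ᵥ (Pi.single b (1 : F) : Fin t × Fin m → F) = 0 := by
      simp [hab.symm]
    have hm : Ψ (tvGL (Pi.single b 1) (Pi.single a 1)) ∈
        decompositionStabilizer D ⊓ specialLinear ι F :=
      e.symm ▸ (hslI _).2 (tvGL_mem_sl _ _)
    obtain ⟨j', hj'⟩ := (hst _).1 hm.1 a.1
    by_cases h : a.1 = j'
    · have := hj' a b rfl (by rw [← h]; simp [a, b])
      simp [coe_tvGL h0, vecMulVec_apply, hab.symm] at this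
    · have := hj' a a rfl h
      simp [coe_tvGL h0, vecMulVec_apply, hab] at this
  · by_cases hle : M ≤ decompositionStabilizer D
    · exact Or.inl (le_antisymm (le_inf hle hMK) hHM)
    refine Or.inr (le_antisymm hMK fun x hx => ?_)
    obtain ⟨g, hg, hgb⟩ := SetLike.not_le_iff_exists.1 hle
    set M' := M.comap Ψ.toMonoidHom with hM'
    have hB : HasB M' := fun h h1 h2 => hHM ⟨(hst h).2 h2, (hslI h).2 ((hdet1 h).2 h1)⟩
    have hgM' : Ψ.symm g ∈ M' := by
      change Ψ (Ψ.symm g) ∈ M
      rwa [MulEquiv.apply_symm_apply]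
    have hgb' : ¬ Bst (Ψ.symm g) := fun hb => hgb (by simpa using (hst _).2 hb)
    have hsl : specialLinear (Fin t × Fin m) F ≤ M' := by
      have hpos := hD.pos
      rcases Nat.lt_or_ge m 2 with h | h
      · have hm1 : m = 1 := by omega
        haveI : Subsingleton (Fin m) := by rw [hm1]; infer_instance
        have hB' : ∀ k : GL (Fin t × Fin m) F, Mon k → Bst k := fun k hk j => by
          obtain ⟨b', hb'⟩ := hk (j, ⟨0, hpos⟩)
          refine ⟨b'.1, fun i y hi hy => ?_⟩
          rw [show i = (j, ⟨0, hpos⟩) from Prod.ext hi (Subsingleton.elim _ _)]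
          exact hb' y fun e => hy (e ▸ rfl)
        refine MonG.sl_le_of_not_Mon (hq1 hm1) ?_ ?_ (fun k hk => ?_) hgM' fun hm => hgb' (hB' _ hm)
        · simp only [Fintype.card_prod, Fintype.card_fin, hm1]; rw [hm1] at hmt; omega
        · exact fun σ d h1 => hB _ h1 (hB' _ (mon_Mon σ d))
        · exact (hslI k).1 (hMK hk)
      · refine sl_le_of_not_Bst h (fun hm => ?_) (fun hm => ?_) hB hgM' hgb'
        · rw [hm] at hmt; omega
        · obtain ⟨x, -, hx⟩ := Finset.exists_mem_notMem_of_card_lt_card (s := ({0, 1} : Finset F))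
            (t := Finset.univ) (Finset.card_le_two.trans_lt (by rw [Finset.card_univ]; exact hq2 hm))
          exact ⟨x, by simpa using hx⟩
    have := hsl ((hslI (Ψ.symm x)).1 (by rwa [MulEquiv.apply_symm_apply]))
    change Ψ (Ψ.symm x) ∈ M at this
    rwa [MulEquiv.apply_symm_apply] at this

end CfsgLib.ClassicalMax.BlockSmall
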