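/-
The monomial subgroup is maximal in the special linear group of dimension four, fields with at
least seven elements. The overgroup is enlarged by scalars, so that it contains pseudo-reflections
with a fourth power as eigenvalue; every column of its elements then has at most two entries.
-/
import Cfsg.Agent.Lib.ClassicalMax.MonMax
set_option autoImplicit false
set_option maxHeartbeats 1000000

namespace CfsgLib.ClassicalMax.MonFour

open Matrix Cfsg.Geo MonG

variable {ι : Type} [Fintype ι] [DecidableEq ι] {F : Type*} [Field F]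

lemma exists_enum (hn : Fintype.card ι = 4) {k l j : ι} (hkl : k ≠ l) (hkj : k ≠ j) (hlj : l ≠ j) :
    ∃ m, m ≠ k ∧ m ≠ l ∧ m ≠ j ∧ (∀ i, i = k ∨ i = l ∨ i = j ∨ i = m) ∧
      ∀ f : ι → F, ∑ i, f i = f k + f l + f j + f m := by
  obtain ⟨m, hmk, hml, hmj⟩ := exists_notMem (by omega) k l j
  have hu : ({k, l, j, m} : Finset ι) = Finset.univ := by
    refine Finset.eq_univ_of_card _ ?_
    rw [Finset.card_insert_of_notMem (by simp [hkl, hkj, hmk.symm]),
      Finset.card_insert_of_notMem (by simp [hlj, hml.symm]), Finset.card_pair hmj.symm, hn]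
  refine ⟨m, hmk, hml, hmj, fun i => ?_, fun f => ?_⟩
  · have := hu ▸ Finset.mem_univ i
    simpa using this
  · rw [← hu, Finset.sum_insert (by simp [hkl, hkj, hmk.symm]),
      Finset.sum_insert (by simp [hlj, hml.symm]), Finset.sum_pair hmj.symm]
    ring

lemma prod_dfun_three {k l j : ι} (hkl : k ≠ l) (hkj : k ≠ j) (hlj : l ≠ j) (a b c : Fˣ) :
    ∏ y, ((Function.update (dfun k a l b) j c y : Fˣ) : F) = a * b * c := by
  rw [← Finset.prod_subset (Finset.subset_univ ({k, l, j} : Finset ι)) (fun y _ hy => by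
      simp only [Finset.mem_insert, Finset.mem_singleton, not_or] at hy
      simp [dfun, hy.1, hy.2.1, hy.2.2]),
    Finset.prod_insert (by simp [hkl, hkj]), Finset.prod_pair hlj]
  simp [dfun, hkl, hkj, hlj, mul_assoc]

variable [DecidableEq F]
variable (N : Subgroup (GL ι F)) (ε : F)

/-- All that is used of the overgroup enlarged by scalars. -/
structure Ctx4 : Prop where
  hN : ∀ σ d, (∃ s : Fˣ, Matrix.det (mon σ d : Matrix ι ι F) = (s : F) ^ 4) → mon σ d ∈ N
  hn : Fintype.card ι = 4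
  h0 : ε ≠ 0
  h1 : ε ≠ 1
  hpow : ∃ s : Fˣ, ε = (s : F) ^ 4
  hcase : (ε = -1 ∧ (3 : F) = 0 ∧ ∃ b : F, b ≠ 0 ∧ b ^ 2 ≠ 1 ∧ b ^ 2 ≠ -1) ∨
    (ε ≠ -1 ∧ ((2 : F) = 0 → ε ^ 2 - ε + 1 ≠ 0))

variable {N ε}

lemma Ctx4.hasMon (H : Ctx4 N ε) : HasMon N :=
  fun σ d hd => H.hN σ d ⟨1, by rw [hd]; simp⟩

lemma Ctx4.t_ne (H : Ctx4 N ε) : Units.mk0 ε H.h0 ≠ 1 :=
  fun e => H.h1 (by simpa using congrArg Units.val e)

lemma Ctx4.eta_ne (H : Ctx4 N ε) : ε⁻¹ - 1 ≠ 0 :=
  sub_ne_zero.2 fun e => H.h1 (by simpa using e)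

lemma Ctx4.d1_mem (H : Ctx4 N ε) (y : ι) : mon 1 (d1 y (Units.mk0 ε H.h0)) ∈ N := by
  obtain ⟨s, hs⟩ := H.hpow
  refine H.hN _ _ ⟨s, ?_⟩
  rw [det_mon, Fintype.prod_eq_single y (fun i hi => by simp [d1, hi])]
  simp [d1, hs]

lemma fam_conj (H : Ctx4 N ε) {u w : ι → F} (hf : Fam N ε u w) {g : GL ι F} (hg : g ∈ N) :
    Fam N ε ((g : Matrix ι ι F) *ᵥ u) (w ᵥ* ((g⁻¹ : GL ι F) : Matrix ι ι F)) :=
  ⟨by rw [conj_dot, hf.1], conj_psGL g hf.1 H.h0 ▸ conj_mem hf.2 hg⟩

lemma fam_conjFam (H : Ctx4 N ε) {u w u' w' : ι → F} (hf : Fam N ε u w) (hf' : Fam N ε u' w') :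
    Fam N ε (u + ((ε - 1) * (w' ⬝ᵥ u)) • u') (w + ((ε⁻¹ - 1) * (w ⬝ᵥ u')) • w') := by
  have := fam_conj H hf hf'.2
  rwa [psGL_mulVec hf'.1 H.h0, psGL_vecMul hf'.1 H.h0] at this

lemma fam_tvRight (H : Ctx4 N ε) {u w w' : ι → F} (hf : Fam N ε u w) (hf' : Fam N ε u w') :
    tvGL u ((ε⁻¹ - 1) • (w - w')) ∈ N := by
  rw [← psGL_mul_right hf.1 hf'.1 H.h0, ← psGL_inv hf.1 H.h0]
  exact N.mul_mem (N.inv_mem hf.2) hf'.2

lemma fam_tvLeft (H : Ctx4 N ε) {u u' w : ι → F} (hf : Fam N ε u w) (hf' : Fam N ε u' w) :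
    tvGL ((ε - 1) • (u' - u)) w ∈ N := by
  rw [← psGL_mul_left hf.1 hf'.1 H.h0, ← psGL_inv hf.1 H.h0]
  exact N.mul_mem (N.inv_mem hf.2) hf'.2

lemma fam_column (H : Ctx4 N ε) {g : GL ι F} (hg : g ∈ N) (b : ι) :
    Fam N ε ((g : Matrix ι ι F) *ᵥ Pi.single b 1)
      (Pi.single b 1 ᵥ* ((g⁻¹ : GL ι F) : Matrix ι ι F)) := by
  have hb : Fam N ε (Pi.single b 1) (Pi.single b 1) := by
    refine ⟨by simp, ?_⟩
    have : psGL (Pi.single b (1 : F)) (Pi.single b 1) ε = mon 1 (d1 b (Units.mk0 ε H.h0)) := by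
      refine gl_ext_mulVec fun x => funext fun i => ?_
      rw [psGL_mulVec (by simp) H.h0, mon_mulVec]
      by_cases hi : i = b
      · subst hi; simp [d1, Equiv.Perm.one_def]; ring
      · simp [d1, hi, Equiv.Perm.one_def]
    rw [this]
    exact H.d1_mem b
  exact fam_conj H hb hg

lemma asym_right (H : Ctx4 N ε) {u w : ι → F} (hf : Fam N ε u w) {y : ι} (hu : u y = 0)
    (hw : w y ≠ 0) : HasElem N := by
  have hf' := fam_conj H hf (H.d1_mem y)
  rw [dg_mulVec, dg_vecMul] at hf'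
  have e : (fun i => ((d1 y (Units.mk0 ε H.h0) i : Fˣ) : F) * u i) = u := by
    funext i
    by_cases hi : i = y
    · simp [hi, hu]
    · simp [d1, hi]
  rw [e] at hf'
  have hm := fam_tvRight H hf hf'
  have hne : (ε⁻¹ - 1) * (w y - w y * ε⁻¹) ≠ 0 := by
    have : w y - w y * ε⁻¹ = -(w y * (ε⁻¹ - 1)) := by ring
    rw [this, mul_neg]
    exact neg_ne_zero.2 (mul_ne_zero H.eta_ne (mul_ne_zero hw H.eta_ne))
  have e2 : (ε⁻¹ - 1) • (w - fun i => w i * ((d1 y (Units.mk0 ε H.h0) i : Fˣ) : F)⁻¹)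
      = ((ε⁻¹ - 1) * (w y - w y * ε⁻¹)) • (Pi.single y (1 : F)) := by
    funext i
    by_cases hi : i = y
    · subst hi; simp [d1]
    · simp [d1, hi]
  have h0 : (Pi.single y (1 : F)) ⬝ᵥ u = 0 := by simp [single_dotProduct, hu]
  rw [e2, ← tvGL_smul _ h0] at hm
  exact hasElem_of_axis H.hasMon (by have := H.hn; omega) H.t_ne
    (u := ((ε⁻¹ - 1) * (w y - w y * ε⁻¹)) • u)
    (smul_ne_zero hne fun e0 => by simpa [e0] using hf.1) (by simp [hu]) hm

lemma asym_left (H : Ctx4 N ε) {u w : ι → F} (hf : Fam N ε u w) {y : ι} (hu : u y ≠ 0)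
    (hw : w y = 0) : HasElem N := by
  have hf' := fam_conj H hf (H.d1_mem y)
  rw [dg_mulVec, dg_vecMul] at hf'
  have e : (fun i => w i * ((d1 y (Units.mk0 ε H.h0) i : Fˣ) : F)⁻¹) = w := by
    funext i
    by_cases hi : i = y
    · simp [hi, hw]
    · simp [d1, hi]
  rw [e] at hf'
  have hm := fam_tvLeft H hf hf'
  have e2 : (ε - 1) • ((fun i => ((d1 y (Units.mk0 ε H.h0) i : Fˣ) : F) * u i) - u)
      = ((ε - 1) * ((ε - 1) * u y)) • (Pi.single y (1 : F)) := by
    funext i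
    by_cases hi : i = y
    · subst hi
      simp only [d1, Pi.smul_apply, Pi.sub_apply, Function.update_self, Units.val_mk0, smul_eq_mul,
        Pi.single_eq_same]
      ring
    · simp [d1, hi]
  have h0 : w ⬝ᵥ (Pi.single y (1 : F)) = 0 := by simp [dotProduct_single, hw]
  rw [e2, tvGL_smul _ h0] at hm
  exact hasElem_of_centre H.hasMon (by have := H.hn; omega) H.t_ne
    (smul_ne_zero (mul_ne_zero (sub_ne_zero.2 H.h1) (mul_ne_zero (sub_ne_zero.2 H.h1) hu))
      fun e0 => by simpa [e0] using hf.1)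
    (by simp [hw]) hm

lemma supp_iff (H : Ctx4 N ε) (he : ¬ HasElem N) {u w : ι → F} (hf : Fam N ε u w) (y : ι) :
    u y = 0 ↔ w y = 0 :=
  ⟨fun h => by_contra fun h' => he (asym_right H hf h h'),
    fun h => by_contra fun h' => he (asym_left H hf h' h)⟩

/-- A member fixed on the left by `h` but not on the right gives a transvection. -/
lemma elem_fix (H : Ctx4 N ε) {u w : ι → F} (hf : Fam N ε u w) {h : GL ι F} (hh : h ∈ N)
    (hu : (h : Matrix ι ι F) *ᵥ u = u) {j : ι} (huj : u j ≠ 0)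
    (hwj : (w ᵥ* ((h⁻¹ : GL ι F) : Matrix ι ι F)) j = w j) {k : ι}
    (hwk : (w ᵥ* ((h⁻¹ : GL ι F) : Matrix ι ι F)) k ≠ w k) : HasElem N := by
  have hf' := fam_conj H hf hh
  rw [hu] at hf'
  set w' := w ᵥ* ((h⁻¹ : GL ι F) : Matrix ι ι F)
  have hm := fam_tvRight H hf hf'
  set φ := (ε⁻¹ - 1) • (w - w') with hφ
  have hφu : φ ⬝ᵥ u = 0 := by simp [φ, sub_dotProduct, hf.1, hf'.1]
  have hφj : φ j = 0 := by simp [φ, hwj]
  have hφk : φ k ≠ 0 := by
    simp only [φ, Pi.smul_apply, Pi.sub_apply, smul_eq_mul]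
    exact mul_ne_zero H.eta_ne (sub_ne_zero.2 hwk.symm)
  have hm2 := conj_mem hm (H.d1_mem j)
  rw [conj_tvGL _ hφu, dg_mulVec, dg_vecMul] at hm2
  have e2 : (fun i => φ i * ((d1 j (Units.mk0 ε H.h0) i : Fˣ) : F)⁻¹) = φ := by
    funext i
    by_cases hi : i = j
    · simp [hi, hφj]
    · simp [d1, hi]
  rw [e2] at hm2
  have hu2 : φ ⬝ᵥ (fun i => ((d1 j (Units.mk0 ε H.h0) i : Fˣ) : F) * u i) = 0 := by
    rw [← hφu]
    refine Finset.sum_congr rfl fun i _ => ?_
    by_cases hi : i = j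
    · simp [hi, hφj]
    · simp [d1, hi]
  have hm3 := tv_sub_left hφu hu2 hm hm2
  have e3 : ((fun i => ((d1 j (Units.mk0 ε H.h0) i : Fˣ) : F) * u i) - u)
      = ((ε - 1) * u j) • (Pi.single j (1 : F)) := by
    funext i
    by_cases hi : i = j
    · subst hi; simp [d1]; ring
    · simp [d1, hi]
  rw [e3, tvGL_smul _ (by simp [dotProduct_single, hφj])] at hm3
  refine hasElem_of_centre H.hasMon (by have := H.hn; omega) H.t_ne
    (smul_ne_zero (mul_ne_zero (sub_ne_zero.2 H.h1) huj) fun e0 => hφk (by rw [e0]; rfl))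
    (by simp [hφj]) hm3

/-- Three non-zero entries of a member have equal products. -/
lemma prod_three (H : Ctx4 N ε) (he : ¬ HasElem N) {u w : ι → F} (hf : Fam N ε u w) {k l j : ι}
    (hkl : k ≠ l) (hkj : k ≠ j) (hlj : l ≠ j) (hk : u k ≠ 0) (hl : u l ≠ 0) (hj : u j ≠ 0) :
    u k * w k = u l * w l := by
  obtain ⟨m, hmk, hml, hmj, hall, -⟩ := exists_enum (F := F) H.hn hkl hkj hlj
  by_contra hne
  refine he ?_
  by_cases hm : u m = 0
  · have hwm : w m = 0 := (supp_iff H he hf m).1 hm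
    set d : ι → Fˣ := Function.update (dfun k (Units.mk0 (u l / u k) (div_ne_zero hl hk)) l
      (Units.mk0 (u k / u l) (div_ne_zero hk hl))) m (-1)
    have hd : Matrix.det (mon (Equiv.swap k l) d : Matrix ι ι F) = ((1 : Fˣ) : F) ^ 4 := by
      rw [det_mon, Equiv.Perm.sign_swap hkl, prod_dfun_three hkl hmk.symm hml.symm]
      simp
      field_simp
    refine elem_fix H hf (H.hN (Equiv.swap k l) d ⟨1, hd⟩) ?_ hj ?_ (k := k) ?_
    · funext i
      rw [mon_mulVec, Equiv.symm_swap]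
      rcases hall i with rfl | rfl | rfl | rfl
      · simp [d, dfun, hkl, hkl.symm, hml.symm, hmk.symm, div_mul_cancel₀ _ hl]
      · simp [d, dfun, hkl, hkl.symm, hmk.symm, div_mul_cancel₀ _ hk]
      · simp [d, dfun, Equiv.swap_apply_of_ne_of_ne hkj.symm hlj.symm, hkj.symm, hlj.symm, hmj.symm]
      · simp [Equiv.swap_apply_of_ne_of_ne hmk hml, hm]
    · rw [vecMul_mon_inv, Equiv.symm_swap, Equiv.swap_apply_of_ne_of_ne hkj.symm hlj.symm]
      simp [d, dfun, hkj.symm, hlj.symm, hmj.symm]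
    · rw [vecMul_mon_inv, Equiv.symm_swap, Equiv.swap_apply_left]
      simp [d, dfun, hkl.symm, hml.symm]
      intro e
      refine hne ?_
      field_simp at e
      linear_combination -e
  · set σ : Equiv.Perm ι := Equiv.swap k j * Equiv.swap l j
    have hs1 : σ.symm k = l := by
      rw [Equiv.symm_apply_eq]; simp [σ]
    have hs2 : σ.symm j = k := by
      rw [Equiv.symm_apply_eq]; simp [σ, Equiv.swap_apply_of_ne_of_ne hkl hkj]
    have hs3 : σ.symm l = j := by
      rw [Equiv.symm_apply_eq]; simp [σ, Equiv.swap_apply_of_ne_of_ne hkl.symm hlj]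
    have hs4 : σ.symm m = m := by
      rw [Equiv.symm_apply_eq]
      simp [σ, Equiv.swap_apply_of_ne_of_ne hml hmj, Equiv.swap_apply_of_ne_of_ne hmk hmj]
    set d : ι → Fˣ := Function.update (dfun k (Units.mk0 (u j / u k) (div_ne_zero hj hk)) l
      (Units.mk0 (u k / u l) (div_ne_zero hk hl))) j (Units.mk0 (u l / u j) (div_ne_zero hl hj))
    have hd : Matrix.det (mon σ d : Matrix ι ι F) = ((1 : Fˣ) : F) ^ 4 := by
      rw [det_mon, prod_dfun_three hkl hkj hlj, map_mul, Equiv.Perm.sign_swap hkj,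
        Equiv.Perm.sign_swap hlj]
      simp
      field_simp
    refine elem_fix H hf (H.hN σ d ⟨1, hd⟩) ?_ hm ?_ (k := k) ?_
    · funext i
      rw [mon_mulVec]
      rcases hall i with rfl | rfl | rfl | rfl
      · rw [hs1]; simp [d, dfun, hkl, hkl.symm, hlj, hkj, div_mul_cancel₀ _ hl]
      · rw [hs3]; simp [d, dfun, hkj, hkj.symm, hkl, hlj, hlj.symm, div_mul_cancel₀ _ hj]
      · rw [hs2]; simp [d, dfun, hkj, hkl, div_mul_cancel₀ _ hk]
      · rw [hs4]; simp [d, dfun, hmk, hml, hmj]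
    · rw [vecMul_mon_inv, hs4]
      simp [d, dfun, hmk, hml, hmj]
    · rw [vecMul_mon_inv, hs1]
      simp [d, dfun, hkl.symm, hlj]
      intro e
      refine hne ?_
      field_simp at e
      linear_combination -e

/-- The value of the products when three entries are non-zero. -/
lemma value (H : Ctx4 N ε) (he : ¬ HasElem N) (hε : ε ≠ -1) {u w : ι → F} (hf : Fam N ε u w)
    {k l j : ι} (hkl : k ≠ l) (hkj : k ≠ j) (hlj : l ≠ j) (hk : u k ≠ 0) (hl : u l ≠ 0)
    (hj : u j ≠ 0) : (ε - 1) * (ε⁻¹ - 1) * (u k * w k) = 1 := by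
  have e2 := prod_three H he hf hkl hkj hlj hk hl hj
  have hwk : w k ≠ 0 := fun e => hk ((supp_iff H he hf k).2 e)
  have hf1 := fam_column H hf.2 k
  rw [psGL_mulVec hf.1 H.h0, psGL_vecMul hf.1 H.h0, dotProduct_single, single_dotProduct,
    mul_one, one_mul] at hf1
  have hη : ε - 1 ≠ 0 := sub_ne_zero.2 H.h1
  have hc : u k * w k ≠ 0 := mul_ne_zero hk hwk
  have := mul_inv_cancel₀ H.h0
  by_cases h0 : 1 + (ε - 1) * (u k * w k) = 0
  · have hz := (supp_iff H he hf1 k).1 (by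
      simp only [Pi.add_apply, Pi.smul_apply, smul_eq_mul, Pi.single_eq_same]
      linear_combination h0)
    simp only [Pi.add_apply, Pi.smul_apply, smul_eq_mul, Pi.single_eq_same] at hz
    have h3 : (ε - ε⁻¹) * (u k * w k) = 0 := by linear_combination h0 - hz
    have h4 : ε * ε = 1 := by
      linear_combination ε * ((mul_eq_zero.1 h3).resolve_right hc) + this
    rcases mul_self_eq_one_iff.1 h4 with h | h
    · exact absurd h H.h1
    · exact absurd h hε
  · have h2 := prod_three H he hf1 hkl hkj hlj (by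
      simp only [Pi.add_apply, Pi.smul_apply, smul_eq_mul, Pi.single_eq_same]
      intro e
      exact h0 (by linear_combination e)) (by simp [hkl.symm, hη, hwk, hl])
      (by simp [hkj.symm, hη, hwk, hj])
    simp only [Pi.add_apply, Pi.smul_apply, smul_eq_mul, Pi.single_eq_same,
      Pi.single_eq_of_ne hkl.symm, zero_add] at h2
    linear_combination -h2 + ((ε - 1) * (ε⁻¹ - 1) * (u k * w k)) * e2 + (u k * w k) * this

/-- No member has full support. -/
lemma no_four (H : Ctx4 N ε) (he : ¬ HasElem N) {u w : ι → F} (hf : Fam N ε u w)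
    (hu : ∀ y, u y ≠ 0) {k l j : ι} (hkl : k ≠ l) (hkj : k ≠ j) (hlj : l ≠ j) : False := by
  obtain ⟨m, hmk, hml, hmj, hall, hsum⟩ := exists_enum (F := F) H.hn hkl hkj hlj
  have el := prod_three H he hf hkl hkj hlj (hu k) (hu l) (hu j)
  have ej := prod_three H he hf hkj hkl hlj.symm (hu k) (hu j) (hu l)
  have em := prod_three H he hf hmk.symm hkl hml (hu k) (hu m) (hu l)
  have h4 : (4 : F) * (u k * w k) = 1 := by
    have h := hf.1
    rw [dotProduct, hsum] at h
    linear_combination h + el + ej + em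
  have h2 : (2 : F) ≠ 0 := fun e => one_ne_zero (α := F) (by linear_combination 2 * (u k * w k) * e - h4)
  rcases H.hcase with ⟨hε, -, b₀, hb0, hb1, hbm⟩ | ⟨hε, -⟩
  · obtain ⟨b, hb, hb1, hbm, hbq⟩ : ∃ b : F, b ≠ 0 ∧ b ^ 2 ≠ 1 ∧ b ^ 2 ≠ -1 ∧
        b ^ 2 + 2 * b - 1 ≠ 0 := by
      by_cases h : b₀ ^ 2 + 2 * b₀ - 1 = 0
      · refine ⟨-b₀, neg_ne_zero.2 hb0, by rwa [neg_sq], by rwa [neg_sq], fun e => ?_⟩
        exact mul_ne_zero (mul_ne_zero h2 h2) hb0 (by linear_combination h - e)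
      · exact ⟨b₀, hb0, hb1, hbm, h⟩
    have hmem : mon (1 : Equiv.Perm ι) (dfun j (Units.mk0 b hb) m (Units.mk0 b hb)⁻¹) ∈ N :=
      dg_pair_mem H.hasMon hmj.symm _
    have hf' := fam_conj H hf hmem
    rw [dg_mulVec, dg_vecMul] at hf'
    set u' : ι → F := fun i => ((dfun j (Units.mk0 b hb) m (Units.mk0 b hb)⁻¹ i : Fˣ) : F) * u i
    set w' : ι → F := fun i => w i * ((dfun j (Units.mk0 b hb) m (Units.mk0 b hb)⁻¹ i : Fˣ) : F)⁻¹
    have hu'k : u' k = u k := by simp [u', dfun, hkj, hmk.symm]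
    have hu'l : u' l = u l := by simp [u', dfun, hlj, hml.symm]
    have hu'j : u' j = b * u j := by simp [u', dfun, hmj.symm]
    have hu'm : u' m = b⁻¹ * u m := by simp [u', dfun, hmj]
    have hw'k : w' k = w k := by simp [w', dfun, hkj, hmk.symm]
    have hw'l : w' l = w l := by simp [w', dfun, hlj, hml.symm]
    have hw'j : w' j = w j * b⁻¹ := by simp [w', dfun, hmj.symm]
    have hw'm : w' m = w m * b := by simp [w', dfun, hmj]
    set β := (u k * w k) * (2 + b + b⁻¹) with hβdef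
    have hβ : w' ⬝ᵥ u = β := by
      rw [dotProduct, hsum, hw'k, hw'l, hw'j, hw'm]
      linear_combination -el - b⁻¹ * ej - b * em
    have hβ' : w ⬝ᵥ u' = β := by
      rw [dotProduct, hsum, hu'k, hu'l, hu'j, hu'm]
      linear_combination -el - b * ej - b⁻¹ * em
    have hf2 := fam_conjFam H hf hf'
    rw [hβ, hβ'] at hf2
    have hA : 1 - 2 * β ≠ 0 := by
      intro e
      refine hbm ?_
      rw [hβdef] at e
      field_simp at e
      linear_combination -2 * e - (b ^ 2 + 2 * b + 1) * h4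
    have hB : 1 - 2 * β * b ≠ 0 := by
      intro e
      refine hbq ?_
      rw [hβdef] at e
      field_simp at e
      linear_combination -2 * e - (b ^ 2 + 2 * b + 1) * h4
    have hinv : ((-1 : F))⁻¹ = -1 := by rw [inv_neg, inv_one]
    have h3 := prod_three H he hf2 hkj hkl hlj.symm (by
        simp only [Pi.add_apply, Pi.smul_apply, smul_eq_mul, hu'k, hε]
        exact fun e => mul_ne_zero (hu k) hA (by linear_combination e)) (by
        simp only [Pi.add_apply, Pi.smul_apply, smul_eq_mul, hu'j, hε]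
        exact fun e => mul_ne_zero (hu j) hB (by linear_combination e)) (by
        simp only [Pi.add_apply, Pi.smul_apply, smul_eq_mul, hu'l, hε]
        exact fun e => mul_ne_zero (hu l) hA (by linear_combination e))
    simp only [Pi.add_apply, Pi.smul_apply, smul_eq_mul, hu'k, hu'j, hw'k, hw'j, hε, hinv] at h3
    have hk0 : u k * w k ≠ 0 := fun e => one_ne_zero (α := F) (by linear_combination 4 * e - h4)
    have hbb := mul_inv_cancel₀ hb
    have h5 : (u k * w k) * (β * (b + b⁻¹ - 2)) * 2 = 0 := by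
      linear_combination h3 - ((1 - 2 * β * b) * (1 - 2 * β * b⁻¹)) * ej
        + (4 * β ^ 2 * (u k * w k)) * hbb
    have h6 : β * (b + b⁻¹ - 2) = 0 :=
      ((mul_eq_zero.1 h5).resolve_right h2 |> mul_eq_zero.1).resolve_left hk0
    rcases mul_eq_zero.1 h6 with h | h
    · rw [hβdef] at h
      have := (mul_eq_zero.1 h).resolve_left hk0
      field_simp at this
      refine hb1 ?_
      have hb2 : (b + 1) ^ 2 = 0 := by linear_combination this
      linear_combination (b - 1) * (pow_eq_zero_iff two_ne_zero).1 hb2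
    · field_simp at h
      refine hb1 ?_
      have hb2 : (b - 1) ^ 2 = 0 := by linear_combination h
      linear_combination (b + 1) * (pow_eq_zero_iff two_ne_zero).1 hb2
  · have hv := value H he hε hf hkl hkj hlj (hu k) (hu l) (hu j)
    have := mul_inv_cancel₀ H.h0
    have h5 : (ε + 1) ^ 2 = 0 := by
      linear_combination -4 * ε * hv + (ε - 1) * (ε⁻¹ - 1) * ε * h4 + (ε - 1) * this
    exact hε (eq_neg_of_add_eq_zero_left ((pow_eq_zero_iff two_ne_zero).1 h5))

/-- No member has three non-zero entries. -/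
lemma no_three (H : Ctx4 N ε) (he : ¬ HasElem N) {u w : ι → F} (hf : Fam N ε u w) {k l j : ι}
    (hkl : k ≠ l) (hkj : k ≠ j) (hlj : l ≠ j) (hk : u k ≠ 0) (hl : u l ≠ 0) (hj : u j ≠ 0) :
    False := by
  obtain ⟨m, hmk, hml, hmj, hall, hsum⟩ := exists_enum (F := F) H.hn hkl hkj hlj
  by_cases hm : u m = 0
  swap
  · exact no_four H he hf (fun y => by rcases hall y with rfl | rfl | rfl | rfl <;> assumption)
      hkl hkj hlj
  have hwm := (supp_iff H he hf m).1 hm
  have el := prod_three H he hf hkl hkj hlj hk hl hj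
  have ej := prod_three H he hf hkj hkl hlj.symm hk hj hl
  have h3 : (3 : F) * (u k * w k) = 1 := by
    have h := hf.1
    rw [dotProduct, hsum, hwm, zero_mul, add_zero] at h
    linear_combination h + el + ej
  rcases H.hcase with ⟨-, h30, -⟩ | ⟨hε, hq⟩
  · rw [h30, zero_mul] at h3; exact zero_ne_one h3
  have hinv := mul_inv_cancel₀ H.h0
  have hc : u k * w k ≠ 0 := fun e => one_ne_zero (α := F) (by linear_combination 3 * e - h3)
  by_cases hβ0 : (2 : F) * (u k * w k) = 0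
  · have h20 : (2 : F) = 0 := (mul_eq_zero.1 hβ0).resolve_right hc
    have hv := value H he hε hf hkl hkj hlj hk hl hj
    refine hq h20 ?_
    linear_combination -ε * hv + (ε - 1) * (ε⁻¹ - 1) * ε * (h3 - hβ0) + (ε - 1) * hinv
  set d : ι → Fˣ := dfun k (-1) m 1
  have hd : Matrix.det (mon (Equiv.swap k m) d : Matrix ι ι F) = 1 := by
    rw [det_mon, Equiv.Perm.sign_swap hmk.symm, prod_dfun hmk.symm]
    simp
  have hf' := fam_conj H hf (H.hasMon _ _ hd)
  set u' := (mon (Equiv.swap k m) d : Matrix ι ι F) *ᵥ u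
  set w' := w ᵥ* (((mon (Equiv.swap k m) d)⁻¹ : GL ι F) : Matrix ι ι F)
  have hu'k : u' k = 0 := by simp [u', mon_mulVec, hm]
  have hw'k : w' k = 0 := by simp only [w', vecMul_mon_inv]; simp [hwm]
  have hu'o : ∀ i, i ≠ k → i ≠ m → u' i = u i := fun i a b => by
    simp [u', mon_mulVec, Equiv.swap_apply_of_ne_of_ne a b, d, dfun, a, b]
  have hw'o : ∀ i, i ≠ k → i ≠ m → w' i = w i := fun i a b => by
    simp only [w', vecMul_mon_inv]
    simp [Equiv.swap_apply_of_ne_of_ne a b, d, dfun, a, b]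
  have hu'm : u' m = -u k := by simp [u', mon_mulVec, d, dfun, hmk.symm]
  set β := (2 : F) * (u k * w k)
  have hβ : w' ⬝ᵥ u = β := by
    rw [dotProduct, hsum, hw'k, hw'o l hkl.symm hml.symm, hw'o j hkj.symm hmj.symm, hm]
    linear_combination -el - ej
  have hβ' : w ⬝ᵥ u' = β := by
    rw [dotProduct, hsum, hu'k, hu'o l hkl.symm hml.symm, hu'o j hkj.symm hmj.symm, hwm]
    linear_combination -el - ej
  have hf2 := fam_conjFam H hf hf'
  rw [hβ, hβ'] at hf2
  by_cases hA : 1 + (ε - 1) * β = 0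
  · have hz := (supp_iff H he hf2 l).1 (by
      simp only [Pi.add_apply, Pi.smul_apply, smul_eq_mul, hu'o l hkl.symm hml.symm]
      linear_combination (u l) * hA)
    simp only [Pi.add_apply, Pi.smul_apply, smul_eq_mul, hw'o l hkl.symm hml.symm] at hz
    have hwl : w l ≠ 0 := fun e => hl ((supp_iff H he hf l).2 e)
    have h5 : 1 + (ε⁻¹ - 1) * β = 0 :=
      (mul_eq_zero.1 (show w l * (1 + (ε⁻¹ - 1) * β) = 0 by linear_combination hz)).resolve_left hwl
    have h6 : (ε - ε⁻¹) * β = 0 := by linear_combination hA - h5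
    have h4 : ε * ε = 1 := by
      linear_combination ε * ((mul_eq_zero.1 h6).resolve_right hβ0) + hinv
    rcases mul_self_eq_one_iff.1 h4 with h | h
    · exact H.h1 h
    · exact hε h
  · refine no_four H he hf2 (fun y => ?_) hkl hkj hlj
    simp only [Pi.add_apply, Pi.smul_apply, smul_eq_mul]
    rcases hall y with rfl | rfl | rfl | rfl
    · rw [hu'k]; simpa using hk
    · rw [hu'o y hkl.symm hml.symm]
      exact fun e => mul_ne_zero hl hA (by linear_combination e)
    · rw [hu'o y hkj.symm hmj.symm]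
      exact fun e => mul_ne_zero hj hA (by linear_combination e)
    · rw [hu'm, hm, zero_add]
      exact mul_ne_zero (mul_ne_zero (sub_ne_zero.2 H.h1) hβ0) (neg_ne_zero.2 hk)

lemma exists_avoid [Fintype F] (hq : 4 ≤ Fintype.card F) (a b : F) :
    ∃ x : F, x ≠ 0 ∧ x ≠ a ∧ x ≠ b := by
  obtain ⟨x, -, hx⟩ := Finset.exists_mem_notMem_of_card_lt_card
    (s := ({0, a, b} : Finset F)) (t := Finset.univ)
    (Finset.card_le_three.trans_lt (by rw [Finset.card_univ]; omega))
  exact ⟨x, by simpa using hx⟩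

/-- A non-monomial element gives an elementary transvection. -/
theorem hasElem_of_not_Mon [Fintype F] (hq : 4 ≤ Fintype.card F) (H : Ctx4 N ε) {g : GL ι F}
    (hg : g ∈ N) (hgm : ¬ Mon g) : HasElem N := by
  by_contra he
  simp only [Mon, not_forall, not_exists] at hgm
  obtain ⟨b, hb⟩ := hgm
  obtain ⟨k, -, hk⟩ : ∃ k, k ≠ b ∧ (g : Matrix ι ι F) k b ≠ 0 := by
    obtain ⟨y, hy⟩ := hb b
    simp only [exists_prop] at hy
    exact ⟨y, hy.1, hy.2⟩
  obtain ⟨l, hlk, hl⟩ : ∃ l, l ≠ k ∧ (g : Matrix ι ι F) l b ≠ 0 := by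
    obtain ⟨y, hy⟩ := hb k
    simp only [exists_prop] at hy
    exact ⟨y, hy.1, hy.2⟩
  obtain ⟨m, hmk, hml, -⟩ := exists_notMem (by have := H.hn; omega) k l l
  have hkl := hlk.symm
  have hsupp : ∀ {h : GL ι F}, h ∈ N → ∀ b' : ι, ∀ y, y ≠ k → y ≠ l →
      MonG.col h b' k ≠ 0 → MonG.col h b' l ≠ 0 → MonG.col h b' y = 0 := by
    intro h hh b' y hyk hyl h1 h2
    by_contra h3
    have hf := fam_column H hh b'
    rw [col_eq'] at hf
    exact no_three H he hf hkl hyk.symm hyl.symm h1 h2 h3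
  have hgb : ∀ y, y ≠ k → y ≠ l → MonG.col g b y = 0 := fun y a c => hsupp hg b y a c hk hl
  obtain ⟨j, hjm⟩ := exists_row_ne_zero g m
  have hjb : b ≠ j := fun e => hjm (e ▸ hgb m hmk hml)
  obtain ⟨t, ht0, ht1, ht2⟩ := exists_avoid hq (-(MonG.col g b k / MonG.col g j k)) (-(MonG.col g b l / MonG.col g j l))
  have hne : ∀ y, MonG.col g b y ≠ 0 → t ≠ -(MonG.col g b y / MonG.col g j y) → MonG.col g b y + t * MonG.col g j y ≠ 0 := by
    intro y hy htne e
    rcases eq_or_ne (MonG.col g j y) 0 with h0 | h0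
    · rw [h0, mul_zero, add_zero] at e; exact hy e
    · exact htne (by field_simp; linear_combination e)
  obtain ⟨σ, hσb, hσj⟩ : ∃ σ : Equiv.Perm ι, σ k = b ∧ σ l = j := by
    refine ⟨Equiv.swap (Equiv.swap k b l) j * Equiv.swap k b, ?_, by simp⟩
    rw [Equiv.Perm.mul_apply, Equiv.swap_apply_left, Equiv.swap_apply_of_ne_of_ne _ hjb]
    intro e
    exact hkl ((Equiv.swap k b).injective (by rw [Equiv.swap_apply_left]; exact e))
  have hP : ((Equiv.Perm.sign σ : ℤ) : F) * MonG.col g b k * MonG.col g b l * t⁻¹ ≠ 0 := by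
    refine mul_ne_zero (mul_ne_zero (mul_ne_zero ?_ hk) hl) (inv_ne_zero ht0)
    rcases Int.units_eq_one_or (Equiv.Perm.sign σ) with h | h <;> simp [h]
  set d : ι → Fˣ := Function.update (dfun k (Units.mk0 (MonG.col g b k)⁻¹ (inv_ne_zero hk)) l
    (Units.mk0 (t / MonG.col g b l) (div_ne_zero ht0 hl))) m (Units.mk0 _ hP)
  have hd : Matrix.det (mon σ d : Matrix ι ι F) = 1 := by
    rw [det_mon, prod_dfun_three hkl hmk.symm hml.symm]
    simp only [Units.val_mk0]
    have hk' : MonG.col g b k ≠ 0 := hk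
    have hl' : MonG.col g b l ≠ 0 := hl
    rcases Int.units_eq_one_or (Equiv.Perm.sign σ) with h | h <;> simp [h] <;> field_simp
  have hv : (mon σ d : Matrix ι ι F) *ᵥ MonG.col g b = Pi.single b 1 + t • Pi.single j (1 : F) := by
    funext i
    obtain ⟨z, rfl⟩ := σ.surjective i
    rw [mon_mulVec, Equiv.symm_apply_apply]
    by_cases hzk : z = k
    · subst hzk
      rw [hσb]
      simp [d, dfun, hmk.symm, hkl, hjb, show MonG.col g b z ≠ 0 from hk]
    by_cases hzl : z = l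
    · subst hzl
      rw [hσj]
      simp [d, dfun, hml.symm, hzk, hjb.symm, show MonG.col g b z ≠ 0 from hl]
    have e1 : σ z ≠ b := fun e => hzk (σ.injective (by rw [e, hσb]))
    have e2 : σ z ≠ j := fun e => hzl (σ.injective (by rw [e, hσj]))
    simp [hgb z hzk hzl, e1, e2]
  have hmem : g * mon σ d * g ∈ N := N.mul_mem (N.mul_mem hg (H.hasMon _ _ hd)) hg
  have hcol : ∀ y, MonG.col (g * mon σ d * g) b y = MonG.col g b y + t * MonG.col g j y := fun y => by
    rw [← col_eq', gl_mulVec_mul, gl_mulVec_mul, col_eq', hv, mulVec_add, mulVec_smul, col_eq',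
      col_eq']
    rfl
  have hfin := hsupp hmem b m hmk hml (hcol k ▸ hne k hk ht1) (hcol l ▸ hne l hl ht2)
  rw [hcol, hgb m hmk hml, zero_add] at hfin
  exact mul_ne_zero ht0 hjm hfin

omit [DecidableEq F] in
/-- The scalar `c`. -/
noncomputable def scal (c : Fˣ) : GL ι F := mon 1 fun _ => c

omit [DecidableEq F] in
lemma scal_mulVec (c : Fˣ) (x : ι → F) : ((scal c : GL ι F) : Matrix ι ι F) *ᵥ x = (c : F) • x := by
  funext i
  simp [scal, mon_mulVec, Equiv.Perm.one_def]

omit [DecidableEq F] in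
lemma scal_mul (a b : Fˣ) : (scal (a * b) : GL ι F) = scal a * scal b :=
  gl_ext_mulVec fun x => by rw [gl_mulVec_mul, scal_mulVec, scal_mulVec, scal_mulVec, smul_smul,
    Units.val_mul]

omit [DecidableEq F] in
lemma scal_one : (scal 1 : GL ι F) = 1 :=
  gl_ext_mulVec fun x => by rw [scal_mulVec, Units.val_one, one_smul, Units.val_one, one_mulVec]

omit [DecidableEq F] in
lemma scal_comm (a : Fˣ) (g : GL ι F) : scal a * g = g * scal a :=
  gl_ext_mulVec fun x => by
    rw [gl_mulVec_mul, gl_mulVec_mul, scal_mulVec, scal_mulVec, mulVec_smul]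

/-- The subgroup enlarged by the scalars. -/
noncomputable def withScal (M : Subgroup (GL ι F)) : Subgroup (GL ι F) where
  carrier := {x | ∃ c : Fˣ, scal c * x ∈ M}
  one_mem' := ⟨1, by rw [scal_one, one_mul]; exact M.one_mem⟩
  mul_mem' := by
    rintro x y ⟨a, ha⟩ ⟨b, hb⟩
    refine ⟨a * b, ?_⟩
    have e : scal (a * b) * (x * y) = (scal a * x) * (scal b * y) := by
      rw [scal_mul, mul_assoc, mul_assoc, ← mul_assoc (scal b), scal_comm b x, mul_assoc]
    rw [e]; exact M.mul_mem ha hb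
  inv_mem' := by
    rintro x ⟨a, ha⟩
    refine ⟨a⁻¹, ?_⟩
    have h := M.inv_mem ha
    have e : (scal a : GL ι F)⁻¹ = scal a⁻¹ :=
      inv_eq_of_mul_eq_one_right (by rw [← scal_mul, mul_inv_cancel, scal_one])
    rw [_root_.mul_inv_rev, e, ← scal_comm] at h
    exact h

lemma exists_ctx [Fintype F] (hq : 7 ≤ Fintype.card F) :
    ∃ ε : F, ε ≠ 0 ∧ ε ≠ 1 ∧ (∃ s : Fˣ, ε = (s : F) ^ 4) ∧
      ((ε = -1 ∧ (3 : F) = 0 ∧ ∃ b : F, b ≠ 0 ∧ b ^ 2 ≠ 1 ∧ b ^ 2 ≠ -1) ∨
        (ε ≠ -1 ∧ ((2 : F) = 0 → ε ^ 2 - ε + 1 ≠ 0))) := by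
  obtain ⟨g, hg⟩ := IsCyclic.exists_generator (α := Fˣ)
  have hord : orderOf g = Fintype.card F - 1 := by
    rw [orderOf_eq_card_of_forall_mem_zpowers hg, Nat.card_eq_fintype_card, Fintype.card_units]
  have hpow : ∀ n : ℕ, (g : F) ^ n = 1 → Fintype.card F - 1 ∣ n := fun n hn => by
    rw [← hord]
    exact orderOf_dvd_of_pow_eq_one (Units.ext (by simpa using hn))
  have h4 : (g : F) ^ 4 ≠ 1 := fun e => by
    have := Nat.le_of_dvd (by norm_num) (hpow 4 e); omega
  refine ⟨(g : F) ^ 4, pow_ne_zero _ g.ne_zero, h4, ⟨g, rfl⟩, ?_⟩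
  by_cases h8 : (g : F) ^ 8 = 1
  · have h9 : Fintype.card F = 9 := by
      have hd := hpow 8 h8
      have := Nat.le_of_dvd (by norm_num) hd
      rcases (show Fintype.card F - 1 = 6 ∨ Fintype.card F - 1 = 7 ∨ Fintype.card F - 1 = 8 by omega)
        with h | h | h <;> rw [h] at hd <;> omega
    left
    have h3 : (3 : F) = 0 := by
      have e := FiniteField.cast_card_eq_zero F
      rw [h9] at e
      have e' : (3 : F) ^ 2 = 0 := by push_cast at e; linear_combination e
      exact (pow_eq_zero_iff two_ne_zero).1 e'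
    refine ⟨?_, h3, g, g.ne_zero, fun e => h4 ?_, fun e => h4 ?_⟩
    · have : ((g : F) ^ 4) * ((g : F) ^ 4) = 1 := by linear_combination h8
      exact (mul_self_eq_one_iff.1 this).resolve_left h4
    · linear_combination ((g : F) ^ 2 + 1) * e
    · linear_combination ((g : F) ^ 2 - 1) * e
  · refine Or.inr ⟨fun e => h8 (by linear_combination ((g : F) ^ 4 - 1) * e), fun h2 e => ?_⟩
    have h12 : (g : F) ^ 12 = 1 := by linear_combination ((g : F) ^ 4 + 1) * e - h2
    have hd := hpow 12 h12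
    have hodd : Fintype.card F % 2 = 0 := by
      haveI : CharP F 2 := CharTwo.of_one_ne_zero_of_two_eq_zero one_ne_zero h2
      exact FiniteField.even_card_of_char_two (F := F) (ringChar.eq F 2)
    have := Nat.le_of_dvd (by norm_num) hd
    rcases (show Fintype.card F - 1 = 7 ∨ Fintype.card F - 1 = 9 ∨ Fintype.card F - 1 = 11 by omega)
      with h | h | h <;> rw [h] at hd <;> omega

/-- A non-monomial element of an overgroup of the monomial group gives `SL₄`, when `q ≥ 7`. -/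
theorem sl_le_of_not_Mon [Fintype F] (hq : 7 ≤ Fintype.card F) (hn : Fintype.card ι = 4)
    {M : Subgroup (GL ι F)} (hM : HasMon M) (hsl : M ≤ specialLinear ι F) {g : GL ι F} (hg : g ∈ M)
    (hgm : ¬ Mon g) : specialLinear ι F ≤ M := by
  classical
  refine sl_le_of_hasElem hM (by omega) ?_
  obtain ⟨ε, h0, h1, hpow, hcase⟩ := exists_ctx (F := F) hq
  have hN : ∀ σ d, (∃ s : Fˣ, Matrix.det (mon σ d : Matrix ι ι F) = (s : F) ^ 4) →
      mon σ d ∈ withScal M := by
    rintro σ d ⟨s, hs⟩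
    refine ⟨s⁻¹, ?_⟩
    have e : scal s⁻¹ * mon σ d = mon σ (fun y => s⁻¹ * d y) := by
      refine gl_ext_mulVec fun x => funext fun i => ?_
      rw [gl_mulVec_mul, scal_mulVec, Pi.smul_apply, smul_eq_mul, mon_mulVec, mon_mulVec,
        Units.val_mul, mul_assoc]
    rw [e]
    refine hM _ _ ?_
    rw [det_mon] at hs ⊢
    simp only [Units.val_mul, Finset.prod_mul_distrib, Finset.prod_const, Finset.card_univ, hn]
    rw [← mul_assoc, mul_comm _ ((((s⁻¹ : Fˣ)) : F) ^ 4), mul_assoc, hs, ← mul_pow, ← Units.val_mul,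
      inv_mul_cancel, Units.val_one, one_pow]
  have hg' : g ∈ withScal M := ⟨1, by rw [scal_one, one_mul]; exact hg⟩
  obtain ⟨j, l, c, hjl, hc, a, ha⟩ :=
    hasElem_of_not_Mon (by omega) ⟨hN, hn, h0, h1, hpow, hcase⟩ hg' hgm
  have hd := hsl ha
  rw [specialLinear, MonoidHom.mem_ker] at hd
  have hd' : (a : F) ^ 4 = 1 := by
    have := congrArg Units.val hd
    simp only [Matrix.GeneralLinearGroup.val_det_apply, Units.val_mul, det_mul, det_tvGL,
      mul_one, Units.val_one, scal, det_mon] at this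
    simpa [hn] using this
  have h0' : (Pi.single l (1 : F)) ⬝ᵥ (Pi.single j c : ι → F) = 0 := by
    rw [single_dotProduct, one_mul, Pi.single_eq_of_ne hjl.symm]
  by_cases h2 : (2 : F) = 0
  · have ha1 : a = 1 := by
      refine Units.ext (sub_eq_zero.1 ((pow_eq_zero_iff (by norm_num : (4 : ℕ) ≠ 0)).1 ?_))
      rw [Units.val_one]
      linear_combination hd' + (-2 * (a : F) ^ 3 + 3 * (a : F) ^ 2 - 2 * (a : F) + 1) * h2
    rw [ha1, scal_one, one_mul] at ha
    exact ⟨j, l, c, hjl, hc, ha⟩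
  · have hpw : (scal a * tvGL (Pi.single j c) (Pi.single l 1)) ^ 2 =
        scal (a * a) * tvGL (Pi.single j (2 * c)) (Pi.single l 1) := by
      rw [sq, mul_assoc, ← mul_assoc (tvGL _ _), ← scal_comm, mul_assoc (scal a),
        ← mul_assoc (scal a), ← scal_mul, ← tvGL_add_left h0' h0', ← Pi.single_add, ← two_mul]
    have h0'' : (Pi.single l (1 : F)) ⬝ᵥ (Pi.single j (2 * c) : ι → F) = 0 := by
      rw [single_dotProduct, one_mul, Pi.single_eq_of_ne hjl.symm]
    have h4 := M.mul_mem (M.pow_mem ha 2) (M.pow_mem ha 2)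
    rw [hpw, mul_assoc, ← mul_assoc (tvGL _ _), ← scal_comm, mul_assoc (scal (a * a)),
      ← mul_assoc (scal (a * a)), ← scal_mul, ← tvGL_add_left h0'' h0'', ← Pi.single_add,
      show a * a * (a * a) = 1 from Units.ext (by push_cast; linear_combination hd'), scal_one,
      one_mul] at h4
    refine ⟨j, l, 2 * c + 2 * c, hjl, ?_, h4⟩
    rw [show 2 * c + 2 * c = 2 * (2 * c) by ring]
    exact mul_ne_zero h2 (mul_ne_zero h2 hc)

end CfsgLib.ClassicalMax.MonFour
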