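/-
Five coordinates: negatives of reflections in an isometry group that contains the signed double
transpositions. Basic closure properties and the dihedral group of two such elements.
-/
import Cfsg.Agent.Lib.ClassicalMax.SympTools
set_option autoImplicit false
set_option linter.unusedSectionVars false

namespace CfsgLib.ClassicalMax.FiveSpace

open Matrix Module

variable {F : Type*} [Field F]

/-- A coordinate vector. -/
abbrev E (a : Fin 5) : Fin 5 → F := Pi.single a 1

/-- The action on vectors. -/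
abbrev ac (g : GL (Fin 5) F) (v : Fin 5 → F) : Fin 5 → F := (g : Matrix (Fin 5) (Fin 5) F) *ᵥ v

/-- The negative of the reflection in a unit vector lies in `M`. -/
def Rf (M : Subgroup (GL (Fin 5) F)) (b : Fin 5 → F) : Prop :=
  b ⬝ᵥ b = 1 ∧ ∃ m ∈ M, ∀ x, ac m x = (2 * (x ⬝ᵥ b)) • b - x

/-- The hypotheses: coordinate and half reflections, double transpositions, isometries. -/
structure Five [Fintype F] (M : Subgroup (GL (Fin 5) F)) : Prop where
  iso : ∀ g ∈ M, ∀ x y, ac g x ⬝ᵥ ac g y = x ⬝ᵥ y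
  prime : ∀ a : F, ∃ n : ℕ, a = n
  two : (2 : F) ≠ 0
  coord : ∀ a, Rf M (E a)
  half : ∀ a b (t : F), a ≠ b → 2 * (t * t) = 1 → Rf M (t • (E a + E b))
  dbl : ∀ a b c d : Fin 5, a ≠ b → c ≠ d → a ≠ c → a ≠ d → b ≠ c → b ≠ d →
    ∃ g ∈ M, ∀ x l, ac g x l = x ((Equiv.swap a b * Equiv.swap c d) l)

lemma ac_mul (g h : GL (Fin 5) F) (x : Fin 5 → F) : ac (g * h) x = ac g (ac h x) :=
  gl_mulVec_mul g h x

variable [Fintype F] {M : Subgroup (GL (Fin 5) F)} (S : Five M)

include S

lemma Rf_conj {g : GL (Fin 5) F} (hg : g ∈ M) {b : Fin 5 → F} (h : Rf M b) : Rf M (ac g b) := by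
  obtain ⟨hb, m, hm, hmx⟩ := h
  refine ⟨by rw [S.iso g hg, hb], g * m * g⁻¹, M.mul_mem (M.mul_mem hg hm) (M.inv_mem hg),
    fun x => ?_⟩
  have e : x ⬝ᵥ ac g b = ac g⁻¹ x ⬝ᵥ b := by
    conv_lhs => rw [show x = ac g (ac g⁻¹ x) from (gl_mulVec_inv_mulVec g x).symm]
    rw [S.iso g hg]
  rw [ac_mul, ac_mul, hmx, e, ac, mulVec_sub, mulVec_smul]
  change _ - ac g (ac g⁻¹ x) = _
  rw [ac, ac, gl_mulVec_inv_mulVec]

omit S in
lemma Rf_neg {b : Fin 5 → F} (h : Rf M b) : Rf M (-b) := by
  obtain ⟨hb, m, hm, hmx⟩ := h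
  refine ⟨by rw [neg_dotProduct_neg, hb], m, hm, fun x => ?_⟩
  rw [hmx, dotProduct_neg]
  module

lemma Rf_refl {v w : Fin 5 → F} (hv : Rf M v) (hw : Rf M w) :
    Rf M ((2 * (v ⬝ᵥ w)) • w - v) := by
  obtain ⟨-, m, hm, hmx⟩ := hw
  rw [← hmx]
  exact Rf_conj S hm hv

/-- One sign may be changed. -/
lemma Rf_flip {v : Fin 5 → F} (hv : Rf M v) (a : Fin 5) :
    Rf M (fun l => if l = a then -v l else v l) := by
  have h := Rf_neg (Rf_refl S hv (S.coord a))
  convert h using 1
  funext l
  by_cases hl : l = a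
  · subst hl; simp [E]; ring
  · simp [E, hl]

/-- All signs may be changed. -/
lemma Rf_signs {v : Fin 5 → F} (hv : Rf M v) (U : Finset (Fin 5)) :
    Rf M (fun l => if l ∈ U then -v l else v l) := by
  induction U using Finset.induction with
  | empty => simpa using hv
  | insert a U ha ih =>
    convert Rf_flip S ih a using 1
    funext l
    by_cases hl : l = a
    · subst hl; simp [ha]
    · simp [hl]

/-- A double transposition followed by sign changes. -/
lemma Rf_move {v : Fin 5 → F} (hv : Rf M v) {a b c d : Fin 5} (hab : a ≠ b) (hcd : c ≠ d)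
    (hac : a ≠ c) (had : a ≠ d) (hbc : b ≠ c) (hbd : b ≠ d) :
    Rf M (fun l => v ((Equiv.swap a b * Equiv.swap c d) l)) := by
  obtain ⟨g, hg, hgx⟩ := S.dbl a b c d hab hcd hac had hbc hbd
  convert Rf_conj S hg hv using 1
  funext l
  exact (hgx v l).symm

/-- The dihedral group of two elements: an element negating both, or a bisecting vector. -/
lemma dihedral {v w : Fin 5 → F} (hv : Rf M v) (hwR : Rf M w)
    (hc2 : (v ⬝ᵥ w) * (v ⬝ᵥ w) ≠ 1) :
    (∃ z ∈ M, ac z v = -v ∧ ac z w = -w ∧ ∀ x, x ⬝ᵥ v = 0 → x ⬝ᵥ w = 0 → ac z x = x) ∨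
      ∃ u, Rf M u ∧ ∃ k : F, k • u = v + w ∨ k • u = v - w := by
  classical
  have h2 := S.two
  set c := v ⬝ᵥ w with hc
  obtain ⟨hv1, mv, hmv, hmvx⟩ := hv
  obtain ⟨hw1, mw, hmw, hmwx⟩ := hwR
  set t := mv * mw with ht
  have htM : t ∈ M := M.mul_mem hmv hmw
  have inv : ∀ {u : Fin 5 → F} {m : GL (Fin 5) F}, u ⬝ᵥ u = 1 →
      (∀ x, ac m x = (2 * (x ⬝ᵥ u)) • u - x) → m * m = 1 := fun hu hm => gl_ext_mulVec fun x => by
    change ac (_ * _) x = ac (1 : GL (Fin 5) F) x
    rw [ac_mul, hm, hm, sub_dotProduct, smul_dotProduct, hu]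
    simp only [ac, Units.val_one, one_mulVec, smul_eq_mul]
    module
  have hmv2 := inv hv1 hmvx
  have hmw2 := inv hw1 hmwx
  have htperp : ∀ x, x ⬝ᵥ v = 0 → x ⬝ᵥ w = 0 → ac t x = x := fun x h1 h3 => by
    rw [ht, ac_mul, hmwx, h3, hmvx]
    simp [h1]
  by_cases hc0 : c = 0
  · refine Or.inl ⟨t, htM, ?_, ?_, htperp⟩
    · rw [ht, ac_mul, hmwx, ← hc, hc0, mul_zero, zero_smul, zero_sub, hmvx, neg_dotProduct, hv1]
      module
    · rw [ht, ac_mul, hmwx, hw1, hmvx, sub_dotProduct, smul_dotProduct, dotProduct_comm w v, ← hc,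
        hc0]
      simp only [mul_zero, zero_mul, smul_zero, sub_zero, zero_smul, zero_sub]
      module
  have hpow : ∀ j : ℕ, mv * t ^ j * mv = (t ^ j)⁻¹ := fun j => by
    induction j with
    | zero => simp [hmv2]
    | succ j ih =>
      rw [pow_succ', _root_.mul_inv_rev, ← ih]
      calc mv * (t * t ^ j) * mv = mv * t * (mv * mv) * t ^ j * mv := by rw [hmv2]; group
        _ = (mv * t * mv) * (mv * t ^ j * mv) := by group
        _ = mv * t ^ j * mv * t⁻¹ := by
          have e1 : mv * t * mv = t⁻¹ := by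
            rw [ht, show mv * (mv * mw) * mv = (mv * mv) * mw * mv by group, hmv2, one_mul,
              _root_.mul_inv_rev, inv_eq_of_mul_eq_one_left hmv2, inv_eq_of_mul_eq_one_left hmw2]
          rw [e1, ih, ← _root_.mul_inv_rev, ← _root_.mul_inv_rev, ← pow_succ, ← pow_succ']
  haveI : Finite (GL (Fin 5) F) := inferInstance
  rcases Nat.even_or_odd (orderOf t) with ⟨j, hj⟩ | ⟨j, hj⟩
  · -- central involution
    set z := t ^ j with hz
    have hzM : z ∈ M := M.pow_mem htM j
    have hzz : z * z = 1 := by rw [hz, ← pow_add, ← hj, pow_orderOf_eq_one]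
    have hzi : z⁻¹ = z := inv_eq_of_mul_eq_one_left hzz
    have hzv : mv * z = z * mv := by
      have e := congrArg (· * mv) (hpow j)
      rw [mul_assoc, hmv2, mul_one, ← hz, hzi] at e
      exact e
    have hzt : z * t = t * z := (Commute.pow_self t j).eq
    have hzw : mw * z = z * mw := by
      have e : mw = mv * t := by rw [ht, ← mul_assoc, hmv2, one_mul]
      rw [e, mul_assoc, ← hzt, ← mul_assoc, hzv, mul_assoc]
    have hz1 : z ≠ 1 := fun e => by
      have := Nat.le_of_dvd (Nat.pos_of_ne_zero fun e0 => ?_) (orderOf_dvd_of_pow_eq_one (hz ▸ e))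
      · have := orderOf_pos t
        omega
      · subst e0
        have := orderOf_pos t
        omega
    have hperp : ∀ x, x ⬝ᵥ v = 0 → x ⬝ᵥ w = 0 → ac z x = x := by
      intro x h1 h3
      have : ∀ i : ℕ, ac (t ^ i) x = x := fun i => by
        induction i with
        | zero => simp [ac]
        | succ i ih => rw [pow_succ', ac_mul, ih, htperp x h1 h3]
      exact this j
    have line : ∀ {u : Fin 5 → F} {m : GL (Fin 5) F}, u ⬝ᵥ u = 1 →
        (∀ x, ac m x = (2 * (x ⬝ᵥ u)) • u - x) →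
        m * z = z * m → ac z u = u ∨ ac z u = -u := by
      intro u m hu hm hcomm
      have h1 : ac m (ac z u) = ac z u := by
        rw [← ac_mul, hcomm, ac_mul, hm, hu]
        congr 1
        module
      rw [hm] at h1
      set e := ac z u ⬝ᵥ u with he
      have h3 : ac z u = e • u := by
        refine smul_right_injective _ h2 ?_
        change (2 : F) • ac z u = (2 : F) • (e • u)
        rw [smul_smul, two_smul]
        conv_lhs => arg 1; rw [← h1]
        abel
      have h4 := S.iso z hzM u u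
      rw [h3, smul_dotProduct, dotProduct_smul, hu, smul_eq_mul, smul_eq_mul, mul_one] at h4
      rcases mul_self_eq_one_iff.1 h4 with h | h
      · exact Or.inl (by rw [h3, h, one_smul])
      · exact Or.inr (by rw [h3, h, neg_one_smul])
    have hd := S.iso z hzM v w
    rcases line hv1 hmvx hzv with hv' | hv' <;> rcases line hw1 hmwx hzw with hw' | hw'
    · exfalso
      refine hz1 (gl_ext_mulVec fun x => ?_)
      change ac z x = ac (1 : GL (Fin 5) F) x
      obtain ⟨D, hD⟩ : ∃ D, D * (1 - c * c) = 1 :=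
        ⟨_, inv_mul_cancel₀ (sub_ne_zero.2 (Ne.symm hc2))⟩
      set α := ((x ⬝ᵥ v) - c * (x ⬝ᵥ w)) * D with hα
      set β := ((x ⬝ᵥ w) - c * (x ⬝ᵥ v)) * D with hβ
      set x' := x - α • v - β • w with hx'
      have hxv : x' ⬝ᵥ v = 0 := by
        rw [hx', sub_dotProduct, sub_dotProduct, smul_dotProduct, smul_dotProduct, hv1,
          dotProduct_comm w v, ← hc, hα, hβ, smul_eq_mul, smul_eq_mul]
        linear_combination -(x ⬝ᵥ v) * hD
      have hxw : x' ⬝ᵥ w = 0 := by
        rw [hx', sub_dotProduct, sub_dotProduct, smul_dotProduct, smul_dotProduct, hw1, ← hc, hα,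
          hβ, smul_eq_mul, smul_eq_mul]
        linear_combination -(x ⬝ᵥ w) * hD
      have h5 : ac z x' = x' := hperp x' hxv hxw
      have ex : x = x' + α • v + β • w := by rw [hx']; abel
      conv_lhs => rw [ex, ac, mulVec_add, mulVec_add, mulVec_smul, mulVec_smul]
      change ac z x' + α • ac z v + β • ac z w = _
      rw [h5, hv', hw', ← ex]
      simp [ac]
    · rw [hv', hw', dotProduct_neg, ← hc] at hd
      exact absurd (mul_eq_zero.1 (show (2 : F) * c = 0 by linear_combination -hd)) (by simp [h2, hc0])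
    · rw [hv', hw', neg_dotProduct, ← hc] at hd
      exact absurd (mul_eq_zero.1 (show (2 : F) * c = 0 by linear_combination -hd)) (by simp [h2, hc0])
    · exact Or.inl ⟨z, hzM, hv', hw', hperp⟩
  · -- odd order: a bisecting vector
    set i := j * (j + 1) with hi
    set g := t ^ i with hg
    have hgM : g ∈ M := M.pow_mem htM i
    refine Or.inr ⟨ac g v, Rf_conj S hgM ⟨hv1, mv, hmv, hmvx⟩, ?_⟩
    obtain ⟨m, hm, hmu⟩ : ∃ m, m = g * mv * g⁻¹ ∧
        ∀ x, ac m x = (2 * (x ⬝ᵥ ac g v)) • ac g v - x := by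
      refine ⟨_, rfl, fun x => ?_⟩
      have e : x ⬝ᵥ ac g v = ac g⁻¹ x ⬝ᵥ v := by
        conv_lhs => rw [show x = ac g (ac g⁻¹ x) from (gl_mulVec_inv_mulVec g x).symm]
        rw [S.iso g hgM]
      rw [e, ac_mul, ac_mul, hmvx, ac, mulVec_sub, mulVec_smul]
      change _ - ac g (ac g⁻¹ x) = _
      rw [ac, ac, gl_mulVec_inv_mulVec]
    have hconj : m * mv * m⁻¹ = mw := by
      have e1 : ∀ k : ℕ, mv * t ^ k = (t ^ k)⁻¹ * mv := fun k => by
        rw [← hpow k, mul_assoc, hmv2, mul_one]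
      have e2 : g * mv * g⁻¹ = t ^ (i + i) * mv := by
        have : mv * g⁻¹ = g * mv := by
          have h := congrArg (fun y => g * y * g⁻¹) (e1 i)
          simp only [← hg] at h
          rw [show g * (g⁻¹ * mv) * g⁻¹ = mv * g⁻¹ by group,
            show g * (mv * g) * g⁻¹ = g * mv by group] at h
          exact h.symm
        rw [mul_assoc, this, ← mul_assoc, hg, ← pow_add]
      have e3 : t ^ (4 * i + 1) = 1 := by
        refine orderOf_dvd_iff_pow_eq_one.1 ⟨2 * j + 1, ?_⟩
        rw [hj, hi]; ring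
      have e4 : mw = mv * t := by rw [ht, ← mul_assoc, hmv2, one_mul]
      rw [hm, e2, e4, _root_.mul_inv_rev, inv_eq_of_mul_eq_one_left hmv2]
      calc t ^ (i + i) * mv * mv * (mv * (t ^ (i + i))⁻¹)
          = t ^ (i + i) * (mv * mv) * (mv * (t ^ (i + i))⁻¹) := by group
        _ = t ^ (i + i) * (mv * (t ^ (i + i))⁻¹) := by rw [hmv2, mul_one]
        _ = t ^ (i + i) * (t ^ (i + i) * mv) := by
          congr 1
          rw [← hpow (i + i), ← mul_assoc, ← mul_assoc, hmv2, one_mul]
        _ = t ^ (4 * i) * mv := by rw [← mul_assoc, ← pow_add]; ring_nf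
        _ = t⁻¹ * mv := by
          congr 1
          rw [eq_inv_iff_mul_eq_one, ← pow_succ, e3]
        _ = mv * t := by
          rw [show t⁻¹ = mv * t * mv by simpa using (hpow 1).symm, mul_assoc, hmv2, mul_one]
    set y := ac m v with hy
    have h1 : ac mw y = y := by
      rw [← hconj, hy, ← ac_mul, show m * mv * m⁻¹ * m = m * mv by group, ac_mul, hmvx, hv1]
      congr 1
      module
    rw [hmwx] at h1
    have hmM : m ∈ M := hm ▸ M.mul_mem (M.mul_mem hgM hmv) (M.inv_mem hgM)
    set e := y ⬝ᵥ w with he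
    have h3 : y = e • w := by
      refine smul_right_injective _ h2 ?_
      change (2 : F) • y = (2 : F) • (e • w)
      rw [smul_smul, two_smul]
      conv_lhs => arg 1; rw [← h1]
      abel
    have h4 : y ⬝ᵥ y = 1 := by rw [hy, S.iso m hmM, hv1]
    rw [h3, smul_dotProduct, dotProduct_smul, hw1, smul_eq_mul, smul_eq_mul, mul_one] at h4
    refine ⟨2 * (v ⬝ᵥ ac g v), ?_⟩
    have h5 : (2 * (v ⬝ᵥ ac g v)) • ac g v = v + y := by rw [hy, hmu]; abel
    rw [h5]
    rcases mul_self_eq_one_iff.1 h4 with h | h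
    · left; rw [h3, h, one_smul]
    · right; rw [h3, h, neg_one_smul, ← sub_eq_add_neg]

end CfsgLib.ClassicalMax.FiveSpace
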