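/-
Five coordinates, characteristic above three: a non-monomial isometry gives a short vector which is
not a coordinate or half vector.
-/
import Cfsg.Agent.Lib.ClassicalMax.FiveSpaceBase
set_option autoImplicit false
set_option linter.unusedSectionVars false

namespace CfsgLib.ClassicalMax.FiveSpace

open Matrix Module

variable {F : Type*} [Field F]

/-- The coordinates where a vector is non-zero. -/
noncomputable def sup (v : Fin 5 → F) : Finset (Fin 5) := by
  classical exact Finset.univ.filter fun l => v l ≠ 0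

lemma mem_sup {v : Fin 5 → F} {l : Fin 5} : l ∈ sup v ↔ v l ≠ 0 := by classical simp [sup]

lemma eq_zero_of_notMem {v : Fin 5 → F} {l : Fin 5} (h : l ∉ sup v) : v l = 0 :=
  not_not.1 (mt mem_sup.2 h)

lemma dot_sup (v w : Fin 5 → F) : v ⬝ᵥ w = ∑ l ∈ sup v, v l * w l := by
  rw [dotProduct]
  refine (Finset.sum_subset (Finset.subset_univ _) fun l _ hl => ?_).symm
  rw [eq_zero_of_notMem hl, zero_mul]

/-- A short vector of the set which is not a coordinate or half vector. -/
def Nice (M : Subgroup (GL (Fin 5) F)) : Prop :=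
  ∃ b, Rf M b ∧ ((sup b).card = 3 ∨
    ∃ a c, a ≠ c ∧ sup b = {a, c} ∧ b a * b a ≠ b c * b c)

lemma forall_five {P : Fin 5 → Prop} {a b c d e : Fin 5} (hab : a ≠ b) (hac : a ≠ c)
    (had : a ≠ d) (hae : a ≠ e) (hbc : b ≠ c) (hbd : b ≠ d) (hbe : b ≠ e) (hcd : c ≠ d) (hce : c ≠ e)
    (hde : d ≠ e) (ha : P a) (hb : P b) (hc : P c) (hd : P d) (he : P e) : ∀ l, P l := by
  intro l
  have hU : ({a, b, c, d, e} : Finset (Fin 5)) = Finset.univ := Finset.eq_univ_of_card _ (by
    simp [hab, hac, had, hae, hbc, hbd, hbe, hcd, hce, hde])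
  have hl := hU ▸ Finset.mem_univ l
  simp only [Finset.mem_insert, Finset.mem_singleton] at hl
  rcases hl with rfl | rfl | rfl | rfl | rfl <;> assumption

lemma all_ne {u : Fin 5 → F} {a b c d e : Fin 5} (hab : a ≠ b) (hac : a ≠ c)
    (had : a ≠ d) (hae : a ≠ e) (hbc : b ≠ c) (hbd : b ≠ d) (hbe : b ≠ e) (hcd : c ≠ d) (hce : c ≠ e)
    (hde : d ≠ e) (ha : u a ≠ 0) (hb : u b ≠ 0) (hc : u c ≠ 0) (hd : u d ≠ 0) (he : u e ≠ 0) :
    ∀ l, u l ≠ 0 :=
  forall_five (P := fun l => u l ≠ 0) hab hac had hae hbc hbd hbe hcd hce hde ha hb hc hd he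

lemma sum_five {a b c d e : Fin 5} (hab : a ≠ b) (hac : a ≠ c)
    (had : a ≠ d) (hae : a ≠ e) (hbc : b ≠ c) (hbd : b ≠ d) (hbe : b ≠ e) (hcd : c ≠ d) (hce : c ≠ e)
    (hde : d ≠ e) (g : Fin 5 → F) : ∑ l, g l = g a + g b + g c + g d + g e := by
  have hU : (Finset.univ : Finset (Fin 5)) = {a, b, c, d, e} := by
    refine (Finset.eq_univ_of_card _ ?_).symm
    simp [hab, hac, had, hae, hbc, hbd, hbe, hcd, hce, hde]
  rw [hU, Finset.sum_insert (by simp [hab, hac, had, hae]),
    Finset.sum_insert (by simp [hbc, hbd, hbe]), Finset.sum_insert (by simp [hcd, hce]),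
    Finset.sum_pair hde]
  ring

variable [Fintype F] {M : Subgroup (GL (Fin 5) F)} (S : Five M)

include S

/-- A quadratic equation without root in a prime field. -/
lemma no_root {p : ℕ} (hp : p.Prime) (h0 : (p : F) = 0) {c d : ℕ}
    (hcd : ∀ r : Fin p, (c * ((r : ℕ) * r)) % p ≠ d % p) (t : F) : (c : F) * (t * t) ≠ d := by
  intro h
  obtain ⟨n, hn⟩ := S.prime t
  haveI : Fact p.Prime := ⟨hp⟩
  haveI : CharP F p := (CharP.charP_iff_prime_eq_zero hp).2 h0
  have h' : ((c * (n * n) : ℕ) : F) = (d : ℕ) := by rw [← h, hn]; push_cast; ring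
  rw [CharP.natCast_eq_natCast F p] at h'
  refine hcd ⟨n % p, Nat.mod_lt _ hp.pos⟩ ?_
  rw [← h']
  simp [Nat.mul_mod, Nat.mod_mod]

/-- A coordinate column and a half column. -/
lemma nice_of_mix {g : GL (Fin 5) F} (hg : g ∈ M) {i k p q r : Fin 5} (hpq : p ≠ q) {a b σ : F}
    (ha : a * a = b * b) (hi : ac g (E i) = a • E p + b • E q) (hk : ac g (E k) = σ • E r) :
    Nice M := by
  classical
  have n1 := S.iso g hg (E i) (E i)
  have n2 := S.iso g hg (E k) (E k)
  rw [hi] at n1
  rw [hk] at n2
  simp [E, add_dotProduct, smul_dotProduct, dotProduct_add, dotProduct_smul, hpq, hpq.symm] at n1 n2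
  have ht : 2 * (a * a) = 1 := by linear_combination n1 + ha
  have ha0 : a ≠ 0 := fun e => one_ne_zero (α := F) (by rw [← ht, e]; ring)
  have hb0 : b ≠ 0 := fun e => ha0 (mul_self_eq_zero.1 (by rw [ha, e, mul_zero]))
  have hσ : σ ≠ 0 := fun e => one_ne_zero (α := F) (by rw [← n2, e]; ring)
  have hik : i ≠ k := fun e => by
    have := congrFun ((hi.symm.trans (e ▸ hk) : a • E p + b • E q = σ • E r)) 
    by_cases hr : r = p
    · subst hr; have h1 := this q; simp [E, hpq.symm] at h1; exact hb0 h1
    · have h1 := this p; simp [E, hpq, Ne.symm hr] at h1; exact ha0 h1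
  have o := S.iso g hg (E i) (E k)
  rw [hi, hk] at o
  simp [E, hik.symm] at o
  have hrp : r ≠ p := fun e => by
    subst e
    simp [hpq] at o
    exact o.elim hσ (fun h => ha0 h)
  have hrq : r ≠ q := fun e => by
    subst e
    simp [hpq.symm] at o
    exact o.elim hσ (fun h => hb0 h)
  have hu := Rf_conj S hg (S.half i k a hik ht)
  rw [ac, mulVec_smul, mulVec_add] at hu
  change Rf M (a • (ac g (E i) + ac g (E k))) at hu
  rw [hi, hk] at hu
  refine ⟨_, hu, Or.inl (Finset.card_eq_three.2 ⟨p, q, r, hpq, hrp.symm, hrq.symm, ?_⟩)⟩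
  ext l
  rw [mem_sup]
  by_cases h1 : l = p
  · subst h1; simp [E, hpq, hrp.symm, ha0]
  by_cases h2 : l = q
  · subst h2; simp [E, hpq.symm, hrq.symm, ha0, hb0]
  by_cases h3 : l = r
  · subst h3; simp [E, hrp, hrq, ha0, hσ]
  simp [E, h1, h2, h3]

omit S in
lemma sup_pair {v : Fin 5 → F} {p q : Fin 5} (hpq : p ≠ q) (h : sup v = {p, q}) :
    v = v p • E p + v q • E q := by
  funext l
  by_cases h1 : l = p
  · subst h1; simp [E, hpq]
  by_cases h2 : l = q
  · subst h2; simp [E, hpq.symm]
  simp [E, h1, h2, eq_zero_of_notMem (v := v) (l := l) (by rw [h]; simp [h1, h2])]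

/-- A split into three and two. -/
lemma nice_of_split_five (hp3 : (3 : F) ≠ 0) {v : Fin 5 → F} (hv : Rf M v)
    (hall : ∀ l, v l ≠ 0) {d e : Fin 5} (hde : d ≠ e)
    (h0 : v d * v d + v e * v e ≠ 0) (h1 : v d * v d + v e * v e ≠ 1)
    (hex : v d * v d ≠ v e * v e ∨ ∀ t : F, 2 * (t * t) ≠ 1) : Nice M := by
  classical
  have h2 := S.two
  set T : Finset (Fin 5) := ({d, e} : Finset (Fin 5))ᶜ with hT
  have hTc : T.card = 3 := by rw [hT, Finset.card_compl, Finset.card_pair hde]; rfl
  have memT : ∀ {l}, l ∈ T ↔ l ≠ d ∧ l ≠ e := by intro l; simp [hT]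
  set w : Fin 5 → F := fun l => if l ∈ ({d, e} : Finset (Fin 5)) then -v l else v l with hw
  have hwR : Rf M w := Rf_signs S hv _
  set P : Fin 5 → F := fun l => if l ∈ T then v l else 0 with hP
  set Q : Fin 5 → F := fun l => if l ∈ T then 0 else v l with hQ
  have hvw : v + w = (2 : F) • P ∧ v - w = (2 : F) • Q := by
    constructor <;> funext l <;> by_cases h : l ∈ T
    · have := memT.1 h
      simp [hP, hw, h, this.1, this.2]; ring
    · have : l = d ∨ l = e := by simpa [memT, or_iff_not_imp_left] using h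
      rcases this with rfl | rfl <;> simp [hP, hw, h]
    · have := memT.1 h
      simp [hQ, hw, h, this.1, this.2]
    · have : l = d ∨ l = e := by simpa [memT, or_iff_not_imp_left] using h
      rcases this with rfl | rfl <;> simp [hQ, hw, h] <;> ring
  set q := 1 - (v d * v d + v e * v e) with hq
  have hsum : ∑ l ∈ T, v l * v l = q := by
    have h := Finset.sum_add_sum_compl ({d, e} : Finset (Fin 5)) fun l => v l * v l
    rw [Finset.sum_pair hde, ← hT] at h
    have hv1 := hv.1
    rw [dotProduct] at hv1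
    linear_combination h + hv1
  have hq0 : q ≠ 0 := fun h => h1 (by linear_combination -h + hq)
  have hvwdot : v ⬝ᵥ w = 2 * q - 1 := by
    have h := Finset.sum_add_sum_compl ({d, e} : Finset (Fin 5)) fun l => v l * w l
    rw [Finset.sum_pair hde, ← hT, Finset.sum_congr rfl (g := fun l => v l * v l) fun l hl => by
      simp [hw, (memT.1 hl).1, (memT.1 hl).2], hsum] at h
    rw [dotProduct, ← h]
    simp [hw, hde, hde.symm, hq]
    ring
  rcases dihedral S hv hwR (by
    rw [hvwdot]
    intro h
    have h' : 4 * (q * (q - 1)) = 0 := by linear_combination h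
    rcases mul_eq_zero.1 h' with h' | h'
    · exact mul_ne_zero h2 h2 (by linear_combination h')
    rcases mul_eq_zero.1 h' with h' | h'
    · exact hq0 h'
    · exact h0 (by linear_combination hq - h')) with ⟨z, hz, hzv, hzw, hzp⟩ | ⟨u, hu, k, hk⟩
  · have hzP : ac z P = -P := by
      refine smul_right_injective _ h2 ?_
      change (2 : F) • ac z P = (2 : F) • -P
      rw [smul_neg, ← hvw.1, ac, ← mulVec_smul, ← hvw.1, mulVec_add]
      change ac z v + ac z w = _
      rw [hzv, hzw, neg_add]
    obtain ⟨c0, hc0, hhalf⟩ : ∃ c0 ∈ T, 2 * (v c0 * v c0) ≠ q := by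
      by_contra h
      push Not at h
      have h1 : ∑ l ∈ T, 2 * (v l * v l) = ∑ l ∈ T, q := Finset.sum_congr rfl h
      rw [← Finset.mul_sum, hsum, Finset.sum_const, hTc, nsmul_eq_mul] at h1
      exact hq0 (by push_cast at h1; linear_combination -h1)
    set s := v c0 / q with hs
    set r := E c0 - s • P with hr
    have hPv : P ⬝ᵥ v = q := by
      rw [dotProduct, ← hsum, ← Finset.sum_subset (Finset.subset_univ T) fun l _ hl => by simp [hP, hl]]
      exact Finset.sum_congr rfl fun l hl => by simp [hP, hl]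
    have hPw : P ⬝ᵥ w = q := by
      rw [dotProduct, ← hsum, ← Finset.sum_subset (Finset.subset_univ T) fun l _ hl => by simp [hP, hl]]
      exact Finset.sum_congr rfl fun l hl => by simp [hP, hw, hl, (memT.1 hl).1, (memT.1 hl).2]
    have hr1 : r ⬝ᵥ v = 0 := by
      rw [hr, sub_dotProduct, smul_dotProduct, hPv, single_dotProduct, one_mul, smul_eq_mul, hs,
        div_mul_cancel₀ _ hq0, sub_self]
    have hr2 : r ⬝ᵥ w = 0 := by
      rw [hr, sub_dotProduct, smul_dotProduct, hPw, single_dotProduct, one_mul, smul_eq_mul, hs,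
        div_mul_cancel₀ _ hq0]
      simp [hw, (memT.1 hc0).1, (memT.1 hc0).2]
    have e0 : ac z (E c0) = E c0 - (2 * s) • P := by
      have ec : E c0 = r + s • P := by rw [hr, sub_add_cancel]
      conv_lhs => rw [ec]
      rw [ac, mulVec_add, mulVec_smul]
      change ac z r + s • ac z P = _
      rw [hzp r hr1 hr2, hzP, ec]
      module
    have hRf := Rf_conj S hz (S.coord c0)
    rw [e0] at hRf
    refine ⟨_, hRf, Or.inl ?_⟩
    rw [← hTc]
    congr 1
    ext l
    rw [mem_sup]
    by_cases hlT : l ∈ T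
    · simp only [hlT, iff_true]
      have hs0 : s ≠ 0 := div_ne_zero (hall c0) hq0
      by_cases hl : l = c0
      · subst hl
        simp only [Pi.sub_apply, E, Pi.single_eq_same, Pi.smul_apply, smul_eq_mul, hP, hlT, if_true]
        intro e5
        apply hhalf
        rw [hs] at e5
        field_simp at e5
        linear_combination -e5
      · simp [E, hP, hlT, hl, h2, hs0, hall l]
    · have : l ≠ c0 := fun e' => hlT (e' ▸ hc0)
      simp [E, hP, hlT, this]
  · have hne : ∀ {X : Fin 5 → F} {l0 : Fin 5}, X l0 ≠ 0 → k • u = (2 : F) • X → sup u = sup X := by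
      intro X l0 hX e'
      have hk0 : k ≠ 0 := fun h => hX (by
        have := congrFun e' l0
        simpa [h, h2] using this.symm)
      ext l
      have := congrFun e' l
      simp only [Pi.smul_apply, smul_eq_mul] at this
      rw [mem_sup, mem_sup]
      constructor <;> intro h h'
      · rw [h', mul_zero] at this; exact h ((mul_eq_zero.1 this).resolve_left hk0)
      · rw [h', mul_zero] at this; exact h ((mul_eq_zero.1 this.symm).resolve_left h2)
    rw [hvw.1, hvw.2] at hk
    rcases hk with hk | hk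
    · obtain ⟨l0, hl0⟩ := Finset.card_pos.1 (by omega : 0 < T.card)
      refine ⟨u, hu, Or.inl ?_⟩
      rw [hne (l0 := l0) (by simp [hP, hl0, hall]) hk, ← hTc]
      congr 1
      ext l
      rw [mem_sup]
      by_cases h : l ∈ T <;> simp [hP, h, hall]
    · have hd : d ∉ T := by simp [memT]
      have he : e ∉ T := by simp [memT]
      have hsu : sup u = {d, e} := by
        rw [hne (l0 := d) (by simp [hQ, hd, hall]) hk]
        ext l
        rw [mem_sup]
        by_cases h : l ∈ T
        · simp [hQ, h]; exact memT.1 h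
        · simp [hQ, h, hall]; simp [memT] at h; tauto
      have ed := congrFun hk d
      have ee := congrFun hk e
      simp only [Pi.smul_apply, smul_eq_mul, hQ, hd, he, if_false] at ed ee
      refine ⟨u, hu, Or.inr ⟨d, e, hde, hsu, fun h => ?_⟩⟩
      rcases hex with hne' | hsq
      · refine hne' (mul_left_cancel₀ (mul_ne_zero h2 h2) ?_)
        linear_combination (k ^ 2) * h - (k * u d + 2 * v d) * ed + (k * u e + 2 * v e) * ee
      · have hu1 := hu.1
        rw [dot_sup, hsu, Finset.sum_pair hde] at hu1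
        exact hsq (u d) (by linear_combination hu1 + h)

/-- Three different squares. -/
lemma nice_of_three_values (hp3 : (3 : F) ≠ 0) {v : Fin 5 → F} (hv : Rf M v)
    (hall : ∀ l, v l ≠ 0) {a b c : Fin 5} (hab : v a * v a ≠ v b * v b)
    (hac : v a * v a ≠ v c * v c) (hbc : v b * v b ≠ v c * v c) : Nice M := by
  have key : ∀ p q : Fin 5, v p * v p ≠ v q * v q →
      Nice M ∨ v p * v p + v q * v q = 0 ∨ v p * v p + v q * v q = 1 := by
    intro p q hpq
    by_contra hcon
    simp only [not_or] at hcon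
    exact hcon.1 (nice_of_split_five S hp3 hv hall (fun e => hpq (by rw [e])) hcon.2.1 hcon.2.2
      (Or.inl hpq))
  rcases key a b hab with h | h1
  · exact h
  rcases key a c hac with h | h3
  · exact h
  rcases key b c hbc with h | h4
  · exact h
  exfalso
  rcases h1 with h1 | h1 <;> rcases h3 with h3 | h3 <;> rcases h4 with h4 | h4 <;>
    first
      | exact hbc (by linear_combination h1 - h3)
      | exact hac (by linear_combination h1 - h4)
      | exact hab (by linear_combination h3 - h4)

/-- Two pairs of equal squares are separated by a reflection. -/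
lemma split_pairs {v : Fin 5 → F} (hv : Rf M v) {a b c d e : Fin 5} (hab : a ≠ b) (hac : a ≠ c)
    (had : a ≠ d) (hae : a ≠ e) (hbc : b ≠ c) (hbd : b ≠ d) (hbe : b ≠ e) (hcd : c ≠ d) (hce : c ≠ e)
    (hde : d ≠ e) (hxab : v a * v a = v b * v b) (hxcd : v c * v c = v d * v d) :
    ∃ u, Rf M u ∧
      u e * u e = (2 * (v e * v e) - 1) ^ 2 * (v e * v e) ∧
      u a * u a = (2 * (v e * v e) - 1) ^ 2 * (v a * v a) ∧
      u b * u b = (2 * (v e * v e) + 1) ^ 2 * (v a * v a) ∧
      u c * u c = (2 * (v e * v e) - 1) ^ 2 * (v c * v c) ∧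
      u d * u d = (2 * (v e * v e) + 1) ^ 2 * (v c * v c) := by
  classical
  have huniv := sum_five (F := F) hab hac had hae hbc hbd hbe hcd hce hde
  have hwR := Rf_signs S hv {b, d}
  refine ⟨_, Rf_refl S hv hwR, ?_⟩
  set w : Fin 5 → F := fun l => if l ∈ ({b, d} : Finset (Fin 5)) then -v l else v l
  have hwa : w a = v a := by simp [w, hab, had]
  have hwb : w b = -v b := by simp [w]
  have hwc : w c = v c := by simp [w, hbc.symm, hcd]
  have hwd : w d = -v d := by simp [w]
  have hwe : w e = v e := by simp [w, hbe.symm, hde.symm]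
  have hδ : v ⬝ᵥ w = v e * v e := by
    rw [dotProduct, huniv, hwa, hwb, hwc, hwd, hwe]
    linear_combination hxab + hxcd
  simp only [Pi.sub_apply, Pi.smul_apply, smul_eq_mul, hwa, hwb, hwc, hwd, hwe, hδ]
  refine ⟨by ring, by ring, ?_, by ring, ?_⟩
  · linear_combination -(2 * (v e * v e) + 1) ^ 2 * hxab
  · linear_combination -(2 * (v e * v e) + 1) ^ 2 * hxcd

/-- Five non-zero coordinates, not all squares equal. -/
lemma nice_of_two_values (hp3 : (3 : F) ≠ 0) {v : Fin 5 → F} (hv : Rf M v)
    (hall : ∀ l, v l ≠ 0) {i k : Fin 5} (hik : v i * v i ≠ v k * v k) : Nice M := by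
  classical
  by_cases h3 : ∃ a b c : Fin 5, v a * v a ≠ v b * v b ∧ v a * v a ≠ v c * v c ∧ v b * v b ≠ v c * v c
  · obtain ⟨a, b, c, h1, h2, h3⟩ := h3
    exact nice_of_three_values S hp3 hv hall h1 h2 h3
  push Not at h3
  -- the minority value
  obtain ⟨A, B, U, hU, hUA, hUB, hAB, hA0, hB0⟩ : ∃ (A B : F) (U : Finset (Fin 5)),
      (U.card = 1 ∨ U.card = 2) ∧ (∀ l ∈ U, v l * v l = A) ∧ (∀ l ∉ U, v l * v l = B) ∧ A ≠ B ∧
      A ≠ 0 ∧ B ≠ 0 := by
    have hval : ∀ l, v l * v l = v i * v i ∨ v l * v l = v k * v k := fun l =>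
      (em _).imp id fun h => (h3 i k l hik (Ne.symm h)).symm
    set U := Finset.univ.filter fun l => v l * v l = v i * v i with hUdef
    have hi : i ∈ U := by simp [hUdef]
    have hk : k ∈ Uᶜ := by simp [hUdef, Ne.symm hik]
    have h5 : U.card + Uᶜ.card = 5 := Finset.card_add_card_compl U
    have c1 := Finset.card_pos.2 ⟨i, hi⟩
    have c2 := Finset.card_pos.2 ⟨k, hk⟩
    by_cases hc : U.card ≤ 2
    · exact ⟨_, _, U, by omega, fun l hl => (Finset.mem_filter.1 hl).2,
        fun l hl => (hval l).resolve_left fun e => hl (by simp [hUdef, e]), hik,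
        mul_ne_zero (hall i) (hall i), mul_ne_zero (hall k) (hall k)⟩
    · refine ⟨v k * v k, v i * v i, Uᶜ, by omega, fun l hl => (hval l).resolve_left ?_, fun l hl => ?_,
        Ne.symm hik, mul_ne_zero (hall k) (hall k), mul_ne_zero (hall i) (hall i)⟩
      · simpa [hUdef] using hl
      · simpa [hUdef] using hl
  have hsum : (U.card : F) * A + ((5 - U.card : ℕ) : F) * B = 1 := by
    have h := Finset.sum_add_sum_compl U fun l => v l * v l
    rw [Finset.sum_congr rfl hUA, Finset.sum_congr rfl fun l hl => hUB l (Finset.mem_compl.1 hl),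
      Finset.sum_const, Finset.sum_const, Finset.card_compl, Fintype.card_fin, nsmul_eq_mul,
      nsmul_eq_mul] at h
    have hv1 := hv.1
    rw [dotProduct] at hv1
    linear_combination h + hv1
  have hS : Nice M ∨ A + B = 0 ∨ A + B = 1 := by
    obtain ⟨a, ha⟩ := Finset.card_pos.1 (by omega : 0 < U.card)
    obtain ⟨b, hb⟩ : ∃ b, b ∈ Uᶜ := Finset.card_pos.1 (by rw [Finset.card_compl, Fintype.card_fin]; omega)
    rw [Finset.mem_compl] at hb
    by_contra hcon
    simp only [not_or] at hcon
    exact hcon.1 (nice_of_split_five S hp3 hv hall (d := a) (e := b) (fun e => hb (e ▸ ha))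
      (by rw [hUA a ha, hUB b hb]; exact hcon.2.1) (by rw [hUA a ha, hUB b hb]; exact hcon.2.2)
      (Or.inl (by rw [hUA a ha, hUB b hb]; exact hAB)))
  rcases hS with h | hS
  · exact h
  have hnz : ∀ (u : Fin 5 → F) (c1 c2 : F) (l : Fin 5), c1 ≠ 0 → c2 ≠ 0 → u l * u l = c1 ^ 2 * c2 →
      u l ≠ 0 := fun u c1 c2 l h1 h2 e h0 => mul_ne_zero (pow_ne_zero 2 h1) h2 (by rw [← e, h0, mul_zero])
  have h2 := S.two
  rcases hU with hU | hU
  · -- one against four
    obtain ⟨e, he⟩ := Finset.card_eq_one.1 hU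
    obtain ⟨a, b, c, d, hab, hac, had, hbc, hbd, hcd, hO⟩ :=
      Finset.card_eq_four.1 (show (Uᶜ).card = 4 by rw [Finset.card_compl, hU]; rfl)
    have hmem : ∀ l ∈ ({a, b, c, d} : Finset (Fin 5)), v l * v l = B ∧ l ≠ e := fun l hl => by
      rw [← hO, Finset.mem_compl] at hl
      exact ⟨hUB l hl, fun e' => hl (by rw [he, e']; simp)⟩
    obtain ⟨xa, nae⟩ := hmem a (by simp)
    obtain ⟨xb, nbe⟩ := hmem b (by simp)
    obtain ⟨xc, nce⟩ := hmem c (by simp)
    obtain ⟨xd, nde⟩ := hmem d (by simp)
    have xe := hUA e (by rw [he]; simp)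
    rw [hU] at hsum
    norm_num at hsum
    rcases hS with hS | hS
    swap
    · exact absurd ((mul_eq_zero.1 (show (3 : F) * B = 0 by linear_combination hsum - hS)).resolve_left hp3)
        hB0
    have hB : 3 * B = 1 := by linear_combination hsum - hS
    have hA : A = -B := by linear_combination hS
    by_cases h13 : (13 : F) = 0
    · refine nice_of_split_five S hp3 hv hall hab (fun h => ?_) (fun h => ?_) (Or.inr fun t ht => ?_)
      · rw [xa, xb] at h
        exact h2 (by linear_combination 3 * h - 2 * hB)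
      · rw [xa, xb] at h
        exact one_ne_zero (α := F) (by linear_combination -3 * h + 2 * hB)
      · refine no_root S (p := 13) (by norm_num) (by exact_mod_cast h13) (c := 2) (d := 1)
          (by decide) t ?_
        exact_mod_cast ht
    have h5 : (5 : F) ≠ 0 := fun h5 => no_root S (p := 5) (by norm_num) (by exact_mod_cast h5)
      (c := 3) (d := 1) (by decide) (v a) (by push_cast; rw [xa]; exact hB)
    obtain ⟨u, hu, ue, ua, ub, uc, ud⟩ := split_pairs S hv hab hac had nae hbc hbd nbe hcd nce nde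
      (xa.trans xb.symm) (xc.trans xd.symm)
    rw [xe, hA] at ue ua ub uc ud
    rw [xa] at ua ub
    rw [xc] at uc ud
    have hm : 2 * -B - 1 ≠ 0 := fun h => h5 (by linear_combination -3 * h - 2 * hB)
    have hp : 2 * -B + 1 ≠ 0 := fun h => one_ne_zero (α := F) (by linear_combination 3 * h + 2 * hB)
    have e27 : 27 * (B * (1 - 2 * -B) ^ 2) = 25 := by
      linear_combination (36 * B ^ 2 + 48 * B + 25) * hB
    refine nice_of_three_values S hp3 hu (all_ne hab hac had nae hbc hbd nbe hcd nce nde
      (hnz u _ _ a hm hB0 ua) (hnz u _ _ b hp hB0 ub) (hnz u _ _ c hm hB0 uc) (hnz u _ _ d hp hB0 ud)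
      (hnz u _ _ e hm (neg_ne_zero.2 hB0) ue)) (a := e) (b := a) (c := b) ?_ ?_ ?_
    · rw [ue, ua]
      intro h
      refine mul_ne_zero (mul_ne_zero h5 h5) h2 ?_
      linear_combination -27 * h - 2 * e27
    · rw [ue, ub]
      intro h
      refine mul_ne_zero h13 h2 ?_
      linear_combination -27 * h - e27 - (36 * B ^ 2 - 24 * B + 1) * hB
    · rw [ua, ub]
      intro h
      refine mul_ne_zero (mul_ne_zero (mul_ne_zero h2 h2) h2) hp3 ?_
      linear_combination 27 * h - e27 + (36 * B ^ 2 - 24 * B + 1) * hB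
  · -- two against three
    obtain ⟨a, b, hab, hU'⟩ := Finset.card_eq_two.1 hU
    obtain ⟨c, d, e, hcd, hce, hde, hO⟩ :=
      Finset.card_eq_three.1 (show (Uᶜ).card = 3 by rw [Finset.card_compl, hU]; rfl)
    have hmem : ∀ l ∈ ({c, d, e} : Finset (Fin 5)), v l * v l = B ∧ a ≠ l ∧ b ≠ l := fun l hl => by
      rw [← hO, Finset.mem_compl] at hl
      exact ⟨hUB l hl, fun e' => hl (by rw [hU', ← e']; simp), fun e' => hl (by rw [hU', ← e']; simp)⟩
    obtain ⟨xc, nac, nbc⟩ := hmem c (by simp)
    obtain ⟨xd, nad, nbd⟩ := hmem d (by simp)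
    obtain ⟨xe, nae, nbe⟩ := hmem e (by simp)
    have xa := hUA a (by rw [hU']; simp)
    have xb := hUA b (by rw [hU']; simp)
    rw [hU] at hsum
    norm_num at hsum
    obtain ⟨u, hu, ue, ua, ub, uc, ud⟩ := split_pairs S hv hab nac nad nae nbc nbd nbe hcd hce hde
      (xa.trans xb.symm) (xc.trans xd.symm)
    rw [xe] at ue ua ub uc ud
    rw [xa] at ua ub
    rw [xc] at uc ud
    have allu : 2 * B - 1 ≠ 0 → 2 * B + 1 ≠ 0 → ∀ l, u l ≠ 0 := fun hm hp =>
      all_ne hab nac nad nae nbc nbd nbe hcd hce hde (hnz u _ _ a hm hA0 ua) (hnz u _ _ b hp hA0 ub)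
        (hnz u _ _ c hm hB0 uc) (hnz u _ _ d hp hB0 ud) (hnz u _ _ e hm hB0 ue)
    rcases hS with hS | hS
    · -- squares minus one and one
      have hB : B = 1 := by linear_combination hsum - 2 * hS
      have hA : A = -1 := by linear_combination hS - hB
      by_cases h5 : (5 : F) = 0
      · refine nice_of_split_five S hp3 hv hall hcd (fun h => ?_) (fun h => ?_) (Or.inr fun t ht => ?_)
        · rw [xc, xd, hB] at h
          exact h2 (by linear_combination h)
        · rw [xc, xd, hB] at h
          exact one_ne_zero (α := F) (by linear_combination h)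
        · refine no_root S (p := 5) (by norm_num) (by exact_mod_cast h5) (c := 2) (d := 1)
            (by decide) t ?_
          exact_mod_cast ht
      subst hB hA
      refine nice_of_three_values S hp3 hu (allu (by norm_num) (by norm_num [hp3]))
        (a := e) (b := a) (c := b) ?_ ?_ ?_
      · rw [ue, ua]; intro h; exact h2 (by linear_combination h)
      · rw [ue, ub]; intro h; exact mul_ne_zero h2 h5 (by linear_combination h)
      · rw [ua, ub]; intro h; exact mul_ne_zero (mul_ne_zero h2 h2) h2 (by linear_combination h)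
    · -- squares two and minus one
      have hB : B = -1 := by linear_combination hsum - 2 * hS
      have hA : A = 2 := by linear_combination hS - hB
      subst hB hA
      have hall' : ∀ l, u l ≠ 0 := allu (fun h => hp3 (by linear_combination -h))
        (fun h => one_ne_zero (α := F) (by linear_combination -h))
      by_cases h11 : (11 : F) = 0
      · refine nice_of_three_values S hp3 hu hall' (a := e) (b := d) (c := a) ?_ ?_ ?_
        · rw [ue, ud]; intro h
          exact mul_ne_zero (mul_ne_zero h2 h2) h2 (by linear_combination -h)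
        · rw [ue, ua]; intro h
          exact mul_ne_zero (mul_ne_zero hp3 hp3) hp3 (by linear_combination -h)
        · rw [ud, ua]; intro h
          exact mul_ne_zero (mul_ne_zero h2 h2) h2 (by linear_combination -h - h11)
      · refine nice_of_three_values S hp3 hu hall' (a := e) (b := d) (c := b) ?_ ?_ ?_
        · rw [ue, ud]; intro h
          exact mul_ne_zero (mul_ne_zero h2 h2) h2 (by linear_combination -h)
        · rw [ue, ub]; intro h; exact h11 (by linear_combination -h)
        · rw [ud, ub]; intro h; exact hp3 (by linear_combination -h)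

omit S in
lemma sup_four {v : Fin 5 → F} {a b c d e : Fin 5} (hab : a ≠ b) (hac : a ≠ c)
    (had : a ≠ d) (hae : a ≠ e) (hbc : b ≠ c) (hbd : b ≠ d) (hbe : b ≠ e) (hcd : c ≠ d) (hce : c ≠ e)
    (hde : d ≠ e) (h : v e = 0) :
    ∀ g : Fin 5 → F, v ⬝ᵥ g = v a * g a + v b * g b + v c * g c + v d * g d := fun g => by
  rw [dotProduct, sum_five hab hac had hae hbc hbd hbe hcd hce hde, h, zero_mul, add_zero]

/-- Five non-zero coordinates. -/
lemma nice_of_five (hp3 : (3 : F) ≠ 0) {v : Fin 5 → F} (hv : Rf M v) (hall : ∀ l, v l ≠ 0) :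
    Nice M := by
  classical
  by_cases h : ∃ i k, v i * v i ≠ v k * v k
  · obtain ⟨i, k, hik⟩ := h
    exact nice_of_two_values S hp3 hv hall hik
  push Not at h
  have h2 := S.two
  set x := v 0 * v 0 with hx
  have hx5 : 5 * x = 1 := by
    have hv1 := hv.1
    rw [dotProduct, Fin.sum_univ_five] at hv1
    linear_combination hv1 - h 1 0 - h 2 0 - h 3 0 - h 4 0
  have h5 : (5 : F) ≠ 0 := fun e => one_ne_zero (α := F) (by rw [← hx5, e, zero_mul])
  have hx0 : x ≠ 0 := mul_ne_zero (hall 0) (hall 0)
  obtain ⟨u, hu, ue, ua, ub, uc, ud⟩ := split_pairs S hv (a := 1) (b := 2) (c := 3) (d := 4) (e := 0)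
    (by decide) (by decide) (by decide) (by decide) (by decide) (by decide) (by decide) (by decide)
    (by decide) (by decide) (h 1 2) (h 3 4)
  rw [h 1 0] at ua ub
  rw [h 3 0] at uc ud
  rw [← hx] at ue ua ub uc ud
  have hm : 2 * x - 1 ≠ 0 := fun e => hp3 (by linear_combination -5 * e + 2 * hx5)
  have hmz : (2 * x - 1) ^ 2 * x ≠ 0 := mul_ne_zero (pow_ne_zero 2 hm) hx0
  have n0 : u 0 ≠ 0 := fun e => hmz (by rw [← ue, e, zero_mul])
  have n1 : u 1 ≠ 0 := fun e => hmz (by rw [← ua, e, zero_mul])
  have n3 : u 3 ≠ 0 := fun e => hmz (by rw [← uc, e, zero_mul])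
  by_cases hp : 2 * x + 1 = 0
  · refine ⟨u, hu, Or.inl (Finset.card_eq_three.2 ⟨0, 1, 3, by decide, by decide, by decide, ?_⟩)⟩
    have z2 : u 2 = 0 := mul_self_eq_zero.1 (by rw [ub, hp]; ring)
    have z4 : u 4 = 0 := mul_self_eq_zero.1 (by rw [ud, hp]; ring)
    ext l
    rw [mem_sup]
    fin_cases l <;> simp [n0, n1, n3, z2, z4]
  · have hpz : (2 * x + 1) ^ 2 * x ≠ 0 := mul_ne_zero (pow_ne_zero 2 hp) hx0
    refine nice_of_two_values S hp3 hu (all_ne (a := (1 : Fin 5)) (b := 2) (c := 3) (d := 4) (e := 0)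
      (by decide) (by decide) (by decide) (by decide) (by decide) (by decide) (by decide) (by decide)
      (by decide) (by decide) n1 (fun e => hpz (by rw [← ub, e, zero_mul])) n3
      (fun e => hpz (by rw [← ud, e, zero_mul])) n0) (i := 1) (k := 2) ?_
    rw [ua, ub]
    intro e
    refine mul_ne_zero (mul_ne_zero (mul_ne_zero h2 h2) h2) hx0 ?_
    linear_combination -5 * e - 8 * x * hx5

/-- Four coordinates split into two pairs of unequal squares. -/
lemma nice_of_split_four {v : Fin 5 → F} (hv : Rf M v) {a b c d e : Fin 5} (hab : a ≠ b) (hac : a ≠ c)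
    (had : a ≠ d) (hae : a ≠ e) (hbc : b ≠ c) (hbd : b ≠ d) (hbe : b ≠ e) (hcd : c ≠ d) (hce : c ≠ e)
    (hde : d ≠ e) (va : v a ≠ 0) (vb : v b ≠ 0) (vc : v c ≠ 0) (vd : v d ≠ 0) (ve : v e = 0)
    (h0 : v a * v a + v b * v b ≠ 0) (h1 : v a * v a + v b * v b ≠ 1)
    (xab : v a * v a ≠ v b * v b) (xcd : v c * v c ≠ v d * v d) : Nice M := by
  classical
  have h2 := S.two
  have hd4 := sup_four hab hac had hae hbc hbd hbe hcd hce hde ve
  set w : Fin 5 → F := fun l => if l ∈ ({c, d} : Finset (Fin 5)) then -v l else v l with hw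
  have hwR : Rf M w := Rf_signs S hv _
  have wa : w a = v a := by simp [hw, hac, had]
  have wb : w b = v b := by simp [hw, hbc, hbd]
  have wc : w c = -v c := by simp [hw]
  have wd : w d = -v d := by simp [hw]
  have we : w e = 0 := by simp [hw, ve]
  set q := v a * v a + v b * v b with hq
  have hvw : v ⬝ᵥ w = 2 * q - 1 := by
    have hv1 := hv.1
    rw [hd4] at hv1
    rw [hd4, wa, wb, wc, wd]
    linear_combination -hv1
  rcases dihedral S hv hwR (by
    rw [hvw]
    intro h
    have h' : 4 * (q * (q - 1)) = 0 := by linear_combination h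
    rcases mul_eq_zero.1 h' with h' | h'
    · exact mul_ne_zero h2 h2 (by linear_combination h')
    rcases mul_eq_zero.1 h' with h' | h'
    · exact h0 h'
    · exact h1 (sub_eq_zero.1 h')) with ⟨z, hz, hzv, hzw, hzp⟩ | ⟨u, hu, k, hk⟩
  · set P : Fin 5 → F := v a • E a + v b • E b with hP
    have hvwP : v + w = (2 : F) • P := by
      refine funext (forall_five hab hac had hae hbc hbd hbe hcd hce hde ?_ ?_ ?_ ?_ ?_) <;>
        simp [hP, E, wa, wb, wc, wd, we, ve, hab, hab.symm, hac.symm, had.symm, hae.symm, hbc.symm,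
          hbd.symm, hbe.symm, two_mul]
    have hzP : ac z P = -P := by
      refine smul_right_injective _ h2 ?_
      change (2 : F) • ac z P = (2 : F) • -P
      rw [smul_neg, ← hvwP, ac, ← mulVec_smul, ← hvwP, mulVec_add]
      change ac z v + ac z w = _
      rw [hzv, hzw, neg_add]
    set s := v a / q with hs
    set r := E a - s • P with hr
    have hPv : P ⬝ᵥ v = q ∧ P ⬝ᵥ w = q := by
      simp [hP, E, add_dotProduct, smul_dotProduct, wa, wb, hq]
    have hr1 : r ⬝ᵥ v = 0 := by
      rw [hr, sub_dotProduct, smul_dotProduct, hPv.1, single_dotProduct, one_mul, smul_eq_mul, hs,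
        div_mul_cancel₀ _ h0, sub_self]
    have hr2 : r ⬝ᵥ w = 0 := by
      rw [hr, sub_dotProduct, smul_dotProduct, hPv.2, single_dotProduct, one_mul, smul_eq_mul, hs,
        div_mul_cancel₀ _ h0, wa, sub_self]
    have e0 : ac z (E a) = (1 - 2 * s * v a) • E a + (-2 * s * v b) • E b := by
      have ec : E a = r + s • P := by rw [hr, sub_add_cancel]
      conv_lhs => rw [ec]
      rw [ac, mulVec_add, mulVec_smul]
      change ac z r + s • ac z P = _
      rw [hzp r hr1 hr2, hzP, hr, hP]
      module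
    have hz1 : ac z (E e) = (1 : F) • E e := by
      rw [one_smul]
      exact hzp _ (by simp [E, ve]) (by simp [E, we])
    set α := 1 - 2 * s * v a with hα
    set β := -2 * s * v b with hβ
    have hsq : s * q = v a := div_mul_cancel₀ _ h0
    have hα0 : α ≠ 0 := fun h => xab (by linear_combination -q * h + q * hα - 2 * v a * hsq + hq)
    have hβ0 : β ≠ 0 := mul_ne_zero (mul_ne_zero (neg_ne_zero.2 h2) (div_ne_zero va h0)) vb
    by_cases heq : α * α = β * β
    · exact nice_of_mix S hz (i := a) (k := e) hab heq e0 hz1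
    · have hR := Rf_conj S hz (S.coord a)
      rw [e0] at hR
      refine ⟨_, hR, Or.inr ⟨a, b, hab, ?_, ?_⟩⟩
      · ext l
        rw [mem_sup]
        by_cases h1 : l = a
        · subst h1; simp [E, hab, hα0]
        by_cases h2 : l = b
        · subst h2; simp [E, hab.symm, hβ0]
        simp [E, h1, h2]
      · simpa [E, hab, hab.symm] using heq
  · have hk0 : ∀ l : Fin 5, (v + w) l ≠ 0 → k • u = v + w → k ≠ 0 := fun l hl h e' => hl (by
      rw [← h, e', zero_smul]; rfl)
    have hk1 : ∀ l : Fin 5, (v - w) l ≠ 0 → k • u = v - w → k ≠ 0 := fun l hl h e' => hl (by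
      rw [← h, e', zero_smul]; rfl)
    have fin : ∀ p q : Fin 5, p ≠ q → ∀ X : Fin 5 → F, k • u = X → k ≠ 0 → sup X = {p, q} →
        X p * X p ≠ X q * X q → Nice M := by
      intro p q hpq X hX hk' hs hne
      have hsu : sup u = {p, q} := by
        rw [← hs, ← hX]
        ext l
        simp [mem_sup, hk']
      refine ⟨u, hu, Or.inr ⟨p, q, hpq, hsu, fun h => hne ?_⟩⟩
      rw [← hX]
      simp only [Pi.smul_apply, smul_eq_mul]
      linear_combination k ^ 2 * h
    rcases hk with hk | hk
    · refine fin a b hab _ hk (hk0 a (by simp [wa, ← two_mul, h2, va]) hk) ?_ ?_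
      · ext l
        rw [mem_sup]
        revert l
        refine forall_five hab hac had hae hbc hbd hbe hcd hce hde ?_ ?_ ?_ ?_ ?_ <;>
          simp [wa, wb, wc, wd, we, ve, ← two_mul, h2, va, vb, hac.symm, had.symm, hae.symm,
            hbc.symm, hbd.symm, hbe.symm]
      · simp only [Pi.add_apply, wa, wb]
        exact fun h => xab (mul_left_cancel₀ (mul_ne_zero h2 h2) (by linear_combination h))
    · refine fin c d hcd _ hk (hk1 c (by simp [wc, ← two_mul, h2, vc]) hk) ?_ ?_
      · ext l
        rw [mem_sup]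
        revert l
        refine forall_five hab hac had hae hbc hbd hbe hcd hce hde ?_ ?_ ?_ ?_ ?_ <;>
          simp [wa, wb, wc, wd, we, ve, ← two_mul, h2, vc, vd, hac, had, hbc, hbd, hce.symm,
            hde.symm]
      · simp only [Pi.sub_apply, wc, wd]
        exact fun h => xcd (mul_left_cancel₀ (mul_ne_zero h2 h2) (by linear_combination h))

/-- Four non-zero coordinates, two squares equal. -/
lemma nice_of_four_eq (hp3 : (3 : F) ≠ 0) {v : Fin 5 → F} (hv : Rf M v) {a b c d e : Fin 5}
    (hab : a ≠ b) (hac : a ≠ c) (had : a ≠ d) (hae : a ≠ e) (hbc : b ≠ c) (hbd : b ≠ d) (hbe : b ≠ e)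
    (hcd : c ≠ d) (hce : c ≠ e) (hde : d ≠ e) (va : v a ≠ 0) (vd : v d ≠ 0) (vc : v c ≠ 0)
    (ve : v e = 0) (xab : v a * v a = v b * v b) (hxc : 4 * (v c * v c) * (v c * v c) ≠ 1) : Nice M := by
  classical
  have h2 := S.two
  have hd4 := sup_four hab hac had hae hbc hbd hbe hcd hce hde ve
  have hw := Rf_flip S (Rf_move S hv hab hde had hae hbd hbe) b
  set w : Fin 5 → F := fun l => if l = b then -v ((Equiv.swap a b * Equiv.swap d e) l)
    else v ((Equiv.swap a b * Equiv.swap d e) l) with hwdef
  have sw : ∀ l, l ≠ a → l ≠ b → Equiv.swap a b l = l := fun l h1 h2 => Equiv.swap_apply_of_ne_of_ne h1 h2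
  have sw' : ∀ l, l ≠ d → l ≠ e → Equiv.swap d e l = l := fun l h1 h2 => Equiv.swap_apply_of_ne_of_ne h1 h2
  have wa : w a = v b := by simp [hwdef, hab, sw' a had hae]
  have wb : w b = -v a := by simp [hwdef, sw' b hbd hbe]
  have wc : w c = v c := by simp [hwdef, hbc.symm, sw' c hcd hce, sw c hac.symm hbc.symm]
  have wd : w d = 0 := by simp [hwdef, hbd.symm, sw e hae.symm hbe.symm, ve]
  have we : w e = v d := by simp [hwdef, hbe.symm, sw d had.symm hbd.symm]
  set δ := v c * v c with hδ
  have hvw : v ⬝ᵥ w = δ := by rw [hd4, wa, wb, wc, wd, hδ]; ring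
  have hu := Rf_refl S hv hw
  rw [hvw] at hu
  have hδ0 : δ ≠ 0 := mul_ne_zero vc vc
  have hx0 : v a * v a ≠ 0 := mul_ne_zero va va
  refine nice_of_two_values S hp3 hu (forall_five hab hac had hae hbc hbd hbe hcd hce hde ?_ ?_ ?_ ?_ ?_)
    (i := d) (k := e) ?_
  all_goals simp only [Pi.sub_apply, Pi.smul_apply, smul_eq_mul, wa, wb, wc, wd, we, ve, mul_zero,
    zero_sub, sub_zero]
  · intro h
    refine hxc (mul_left_cancel₀ hx0 ?_)
    linear_combination (2 * δ * v b + v a) * h + 4 * δ ^ 2 * xab
  · intro h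
    refine hxc (mul_left_cancel₀ hx0 ?_)
    linear_combination (v b - 2 * δ * v a) * h + xab.symm
  · intro h
    refine hxc ?_
    have : 2 * δ = 1 := mul_left_cancel₀ vc (by linear_combination h)
    linear_combination (2 * δ + 1) * this
  · exact neg_ne_zero.2 vd
  · exact mul_ne_zero (mul_ne_zero h2 hδ0) vd
  · intro h
    exact hxc (mul_left_cancel₀ (mul_ne_zero vd vd) (by linear_combination -h))

/-- Four non-zero coordinates. -/
lemma nice_of_four (hp3 : (3 : F) ≠ 0) {v : Fin 5 → F} (hv : Rf M v) {a b c d e : Fin 5}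
    (hab : a ≠ b) (hac : a ≠ c) (had : a ≠ d) (hae : a ≠ e) (hbc : b ≠ c) (hbd : b ≠ d) (hbe : b ≠ e)
    (hcd : c ≠ d) (hce : c ≠ e) (hde : d ≠ e) (va : v a ≠ 0) (vb : v b ≠ 0) (vc : v c ≠ 0)
    (vd : v d ≠ 0) (ve : v e = 0) : Nice M := by
  classical
  have h2 := S.two
  have hd4 := sup_four hab hac had hae hbc hbd hbe hcd hce hde ve
  have hv1 := hv.1
  rw [hd4] at hv1
  -- a pair of equal squares
  have eqcase : ∀ {a b c d : Fin 5}, a ≠ b → a ≠ c → a ≠ d → a ≠ e → b ≠ c → b ≠ d → b ≠ e → c ≠ d →
      c ≠ e → d ≠ e → v a ≠ 0 → v b ≠ 0 → v c ≠ 0 → v d ≠ 0 →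
      v a * v a + v b * v b + v c * v c + v d * v d = 1 → v a * v a = v b * v b → Nice M := by
    intro a b c d hab hac had hae hbc hbd hbe hcd hce hde va vb vc vd hsum xab
    by_cases hxc : 4 * (v c * v c) * (v c * v c) ≠ 1
    · exact nice_of_four_eq S hp3 hv hab hac had hae hbc hbd hbe hcd hce hde va vd vc ve xab hxc
    by_cases hxd : 4 * (v d * v d) * (v d * v d) ≠ 1
    · exact nice_of_four_eq S hp3 hv hab had hac hae hbd hbc hbe hcd.symm hde hce va vc vd ve xab hxd
    push Not at hxc hxd
    have pm : ∀ x : F, 4 * x * x = 1 → 2 * x = 1 ∨ 2 * x = -1 := fun x h =>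
      mul_self_eq_one_iff.1 (by linear_combination h)
    -- the exceptional vector
    have exc : ∀ {c d : Fin 5}, a ≠ c → a ≠ d → b ≠ c → b ≠ d → c ≠ d → c ≠ e → d ≠ e → v c ≠ 0 →
        v d ≠ 0 → v a * v a + v b * v b + v c * v c + v d * v d = 1 → 2 * (v c * v c) = 1 →
        2 * (v d * v d) = -1 → Nice M := by
      intro c d hac had hbc hbd hcd hce hde vc vd hsum hc hd
      have hd4 := sup_four hab hac had hae hbc hbd hbe hcd hce hde ve
      have hxa : 4 * (v a * v a) = 2 := by linear_combination 2 * hsum + 2 * xab - hc - hd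
      have hxa' : 2 * (v a * v a) = 1 := mul_left_cancel₀ h2 (by linear_combination hxa)
      have hwR := Rf_flip S hv a
      set w : Fin 5 → F := fun l => if l = a then -v l else v l with hwdef
      have hvw : v ⬝ᵥ w = 0 := by
        rw [hd4]
        simp [hwdef, hab.symm, hac.symm, had.symm]
        linear_combination hsum - hxa'
      have hu := Rf_refl S (Rf_refl S (S.coord b) hv) hwR
      refine ⟨_, hu, Or.inl (Finset.card_eq_three.2 ⟨b, c, d, hbc, hbd, hcd, ?_⟩)⟩
      have hbw : E b ⬝ᵥ w = v b := by simp [E, hwdef, hab.symm]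
      have hbv : E b ⬝ᵥ v = v b := by simp [E]
      have hb2 : 2 * (v b * v b) = 1 := by linear_combination hxa' - 2 * xab
      ext l
      rw [mem_sup]
      simp only [sub_dotProduct, smul_dotProduct, hvw, hbw, hbv, Pi.sub_apply, Pi.smul_apply,
        smul_eq_mul, mul_zero, zero_sub]
      revert l
      refine forall_five hab hac had hae hbc hbd hbe hcd hce hde ?_ ?_ ?_ ?_ ?_
      · simp [E, hwdef, hab, hac, had, ve]
      · simp [E, hwdef, hab.symm]
        intro h
        exact one_ne_zero (α := F) (by linear_combination -h - 2 * hb2)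
      · simp [E, hwdef, hac.symm, hbc.symm]
        intro h
        exact mul_ne_zero (mul_ne_zero (mul_ne_zero h2 h2) vb) vc (by linear_combination -h)
      · simp [E, hwdef, had.symm, hbd.symm]
        intro h
        exact mul_ne_zero (mul_ne_zero (mul_ne_zero h2 h2) vb) vd (by linear_combination -h)
      · simp [E, hwdef, hae.symm, hbe.symm, hce.symm, hde.symm, ve]
    rcases pm _ hxc with hc | hc <;> rcases pm _ hxd with hd | hd
    · exfalso
      refine mul_ne_zero (mul_ne_zero h2 h2) (mul_ne_zero va va) ?_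
      linear_combination 2 * hsum + 2 * xab - hc - hd
    · exact exc hac had hbc hbd hcd hce hde vc vd hsum hc hd
    · exact exc had hac hbd hbc hcd.symm hde hce vd vc (by linear_combination hsum) hd hc
    · -- split into unequal pairs
      have hxa : v a * v a = 1 :=
        mul_left_cancel₀ (mul_ne_zero h2 h2) (by linear_combination 2 * hsum + 2 * xab - hc - hd)
      refine nice_of_split_four S hv hac hab had hae hbc.symm hcd hce hbd hbe hde va vc vb vd ve
        ?_ ?_ ?_ ?_
      · intro h; exact one_ne_zero (α := F) (by linear_combination 2 * h - 2 * hxa - hc)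
      · intro h; exact one_ne_zero (α := F) (by linear_combination -2 * h + 2 * hxa + hc)
      · intro h; exact hp3 (by linear_combination 2 * h - 2 * hxa + hc)
      · intro h; exact hp3 (by linear_combination 2 * h + 2 * xab - 2 * hxa + hd)
  by_cases e1 : v a * v a = v b * v b
  · exact eqcase hab hac had hae hbc hbd hbe hcd hce hde va vb vc vd hv1 e1
  by_cases e2 : v a * v a = v c * v c
  · exact eqcase hac hab had hae hbc.symm hcd hce hbd hbe hde va vc vb vd
      (by linear_combination hv1) e2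
  by_cases e3 : v a * v a = v d * v d
  · exact eqcase had hab hac hae hbd.symm hcd.symm hde hbc hbe hce va vd vb vc
      (by linear_combination hv1) e3
  by_cases e4 : v b * v b = v c * v c
  · exact eqcase hbc hab.symm hbd hbe hac.symm hcd hce had hae hde vb vc va vd
      (by linear_combination hv1) e4
  by_cases e5 : v b * v b = v d * v d
  · exact eqcase hbd hab.symm hbc hbe had.symm hcd.symm hde hac hae hce vb vd va vc
      (by linear_combination hv1) e5
  by_cases e6 : v c * v c = v d * v d
  · exact eqcase hcd hac.symm hbc.symm hce had.symm hbd.symm hde hab hae hbe vc vd va vb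
      (by linear_combination hv1) e6
  by_cases s1 : v a * v a + v b * v b ≠ 0 ∧ v a * v a + v b * v b ≠ 1
  · exact nice_of_split_four S hv hab hac had hae hbc hbd hbe hcd hce hde va vb vc vd ve s1.1 s1.2 e1 e6
  by_cases s2 : v a * v a + v c * v c ≠ 0 ∧ v a * v a + v c * v c ≠ 1
  · exact nice_of_split_four S hv hac hab had hae hbc.symm hcd hce hbd hbe hde va vc vb vd ve s2.1 s2.2
      e2 e5
  by_cases s3 : v a * v a + v d * v d ≠ 0 ∧ v a * v a + v d * v d ≠ 1
  · exact nice_of_split_four S hv had hab hac hae hbd.symm hcd.symm hde hbc hbe hce va vd vb vc ve s3.1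
      s3.2 e3 e4
  exfalso
  rw [not_and_or, not_not, not_not] at s1 s2 s3
  rcases s1 with s1 | s1 <;> rcases s2 with s2 | s2 <;> rcases s3 with s3 | s3 <;>
    first
      | exact e4 (by linear_combination s1 - s2)
      | exact e5 (by linear_combination s1 - s3)
      | exact e6 (by linear_combination s2 - s3)

/-- A short vector, unless the element is monomial. -/
lemma monomial_or_nice (hp3 : (3 : F) ≠ 0) {g : GL (Fin 5) F} (hg : g ∈ M) :
    (∀ i, (sup (ac g (E i))).card = 1) ∨ Nice M := by
  classical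
  by_contra hcon
  rw [not_or] at hcon
  obtain ⟨hmon, hnice⟩ := hcon
  have hR : ∀ i, Rf M (ac g (E i)) := fun i => Rf_conj S hg (S.coord i)
  have hle : ∀ i, (sup (ac g (E i))).card ≤ 2 := by
    intro i
    by_contra h
    set v := ac g (E i) with hv
    have h5 : (sup v).card ≤ 5 := (Finset.card_le_univ _).trans (le_of_eq (Fintype.card_fin 5))
    obtain h3 | h4 | h5' : (sup v).card = 3 ∨ (sup v).card = 4 ∨ (sup v).card = 5 := by omega
    · exact hnice ⟨v, hR i, Or.inl h3⟩
    · obtain ⟨a, b, c, d, hab, hac, had, hbc, hbd, hcd, hs⟩ := Finset.card_eq_four.1 h4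
      obtain ⟨e, he⟩ := Finset.card_pos.1
        (show 0 < ((sup v)ᶜ).card by rw [Finset.card_compl, h4]; decide)
      rw [Finset.mem_compl] at he
      have hne : ∀ l ∈ sup v, l ≠ e := fun l hl e' => he (e' ▸ hl)
      have hm : ∀ l ∈ ({a, b, c, d} : Finset (Fin 5)), l ∈ sup v := fun l hl => by rw [hs]; exact hl
      have ma := hm a (Finset.mem_insert_self _ _)
      have mb := hm b (Finset.mem_insert_of_mem (Finset.mem_insert_self _ _))
      have mc := hm c
        (Finset.mem_insert_of_mem (Finset.mem_insert_of_mem (Finset.mem_insert_self _ _)))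
      have md := hm d (Finset.mem_insert_of_mem (Finset.mem_insert_of_mem
        (Finset.mem_insert_of_mem (Finset.mem_singleton_self _))))
      exact hnice (nice_of_four S hp3 (hR i) hab hac had (hne a ma) hbc hbd (hne b mb) hcd (hne c mc)
        (hne d md) (mem_sup.1 ma) (mem_sup.1 mb) (mem_sup.1 mc) (mem_sup.1 md) (eq_zero_of_notMem he))
    · exact hnice (nice_of_five S hp3 (hR i) fun l => mem_sup.1 (by
        rw [(Finset.card_eq_iff_eq_univ _).1 (h5'.trans (Fintype.card_fin 5).symm)]; simp))
  have hpos : ∀ i, 0 < (sup (ac g (E i))).card := fun i => by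
    refine Finset.card_pos.2 (Finset.nonempty_iff_ne_empty.2 fun h => one_ne_zero (α := F) ?_)
    have h1 := (hR i).1
    rw [dot_sup, h, Finset.sum_empty] at h1
    exact h1.symm
  have htwo : ∀ i, (sup (ac g (E i))).card = 2 → ∃ p q, p ≠ q ∧ sup (ac g (E i)) = {p, q} ∧
      ac g (E i) p * ac g (E i) p = ac g (E i) q * ac g (E i) q := fun i hi => by
    obtain ⟨p, q, hpq, hs⟩ := Finset.card_eq_two.1 hi
    exact ⟨p, q, hpq, hs, by_contra fun h => hnice ⟨_, hR i, Or.inr ⟨p, q, hpq, hs, h⟩⟩⟩
  -- no coordinate column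
  have hall : ∀ i, (sup (ac g (E i))).card = 2 := by
    push Not at hmon
    obtain ⟨i, hi⟩ := hmon
    have hi2 : (sup (ac g (E i))).card = 2 := by have := hle i; have := hpos i; omega
    intro k
    by_contra hk
    obtain ⟨r, hr⟩ := Finset.card_eq_one.1
      (show (sup (ac g (E k))).card = 1 by have := hle k; have := hpos k; omega)
    obtain ⟨p, q, hpq, hs, heq⟩ := htwo i hi2
    refine hnice (nice_of_mix S hg hpq (r := r) heq (sup_pair hpq hs) (k := k)
      (σ := ac g (E k) r) ?_)
    funext l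
    by_cases h : l = r
    · subst h; simp [E]
    · rw [show ((ac g (E k) r) • E r : Fin 5 → F) l = 0 by simp [E, h]]
      exact eq_zero_of_notMem (by rw [hr]; simpa using h)
  -- supports are equal or disjoint
  set sp := fun i => sup (ac g (E i)) with hsp
  have hor : ∀ i k, sp i = sp k ∨ Disjoint (sp i) (sp k) := by
    intro i k
    by_contra h
    rw [not_or] at h
    obtain ⟨hne, hdis⟩ := h
    obtain ⟨l, hl1, hl2⟩ := Finset.not_disjoint_iff.1 hdis
    have hint : sp i ∩ sp k = {l} := by
      have h1 : (sp i ∩ sp k).card ≤ 1 := by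
        by_contra h'
        have e1 := Finset.eq_of_subset_of_card_le (Finset.inter_subset_left (s₁ := sp i) (s₂ := sp k))
          (by simp only [hsp] at h' ⊢; rw [hall]; omega)
        have e2 := Finset.eq_of_subset_of_card_le (Finset.inter_subset_right (s₁ := sp i) (s₂ := sp k))
          (by simp only [hsp] at h' ⊢; rw [hall]; omega)
        exact hne (e1.symm.trans e2)
      exact Finset.eq_singleton_iff_unique_mem.2 ⟨Finset.mem_inter.2 ⟨hl1, hl2⟩, fun y hy =>
        Finset.card_le_one.1 h1 y hy l (Finset.mem_inter.2 ⟨hl1, hl2⟩)⟩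
    have o := S.iso g hg (E i) (E k)
    have hik : i ≠ k := fun e => hne (by rw [e])
    have e0 : E i ⬝ᵥ (E k : Fin 5 → F) = 0 := by simp [E, hik]
    rw [e0, dot_sup, Finset.sum_eq_single l (fun y hy hyl => ?_) (fun h => absurd hl1 h)] at o
    · exact mul_ne_zero (mem_sup.1 hl1) (mem_sup.1 hl2) o
    · rw [eq_zero_of_notMem (v := ac g (E k)) (l := y) (fun h => hyl (Finset.mem_singleton.1
        (hint ▸ Finset.mem_inter.2 ⟨hy, h⟩))), mul_zero]
  -- some coordinate is uncovered
  obtain ⟨l, hl⟩ : ∃ l, ∀ i, l ∉ sp i := by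
    by_contra h
    push Not at h
    have hu : (Finset.univ.image sp).biUnion id = Finset.univ := Finset.eq_univ_of_forall fun l => by
      obtain ⟨i, hi⟩ := h l
      exact Finset.mem_biUnion.2 ⟨sp i, Finset.mem_image_of_mem _ (Finset.mem_univ i), hi⟩
    have hc := congrArg Finset.card hu
    rw [Finset.card_biUnion (fun x hx y hy hxy => ?_), Finset.sum_const_nat (m := 2) (fun x hx => ?_),
      Finset.card_univ, Fintype.card_fin] at hc
    · omega
    · obtain ⟨i, -, rfl⟩ := Finset.mem_image.1 hx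
      exact hall i
    · obtain ⟨i, -, rfl⟩ := Finset.mem_image.1 hx
      obtain ⟨k, -, rfl⟩ := Finset.mem_image.1 hy
      exact (hor i k).resolve_left hxy
  have hrow : ∀ i, (g : Matrix (Fin 5) (Fin 5) F) l i = 0 := fun i => by
    simpa [ac, E, Matrix.mulVec_single] using eq_zero_of_notMem (hl i)
  have hone := congrFun (gl_mulVec_inv_mulVec g (E l)) l
  rw [mulVec, dotProduct, Finset.sum_eq_zero (fun i _ => by rw [hrow i, zero_mul])] at hone
  simp [E] at hone

end CfsgLib.ClassicalMax.FiveSpace
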