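/-
Three dimensions with the dot product: root elements, and transitivity of two opposite root groups on
each sphere of non-zero radius.
-/
import Cfsg.Agent.Lib.ClassicalMax.Tv
import Mathlib.LinearAlgebra.CrossProduct
set_option autoImplicit false
set_option linter.unusedSectionVars false

namespace CfsgLib.ClassicalMax.FiveSpace

open Matrix Module

variable {F : Type*} [Field F]

/-- A root element of the orthogonal group in three dimensions. -/
def U (s α x : Fin 3 → F) : Fin 3 → F :=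
  x + (x ⬝ᵥ α) • s - (x ⬝ᵥ s) • α - (α ⬝ᵥ α / 2 * (x ⬝ᵥ s)) • s

/-- The Gram identity for a pair and its cross product. -/
lemma gram (a b v : Fin 3 → F) :
    ((a ⬝ᵥ a) * (b ⬝ᵥ b) - (a ⬝ᵥ b) * (a ⬝ᵥ b)) • v =
      (v ⬝ᵥ crossProduct a b) • crossProduct a b +
        ((v ⬝ᵥ a) * (b ⬝ᵥ b) - (v ⬝ᵥ b) * (a ⬝ᵥ b)) • a +
        ((v ⬝ᵥ b) * (a ⬝ᵥ a) - (v ⬝ᵥ a) * (a ⬝ᵥ b)) • b := by
  funext i
  fin_cases i <;> simp [cross_apply, dotProduct, Fin.sum_univ_three, Matrix.vecHead, Matrix.vecTail] <;> ring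

lemma cross_norm (a b : Fin 3 → F) :
    crossProduct a b ⬝ᵥ crossProduct a b =
      (a ⬝ᵥ a) * (b ⬝ᵥ b) - (a ⬝ᵥ b) * (a ⬝ᵥ b) := by
  simp [cross_apply, dotProduct, Fin.sum_univ_three]; ring

lemma cross_dot_left (a b : Fin 3 → F) : crossProduct a b ⬝ᵥ a = 0 := by
  simp [cross_apply, dotProduct, Fin.sum_univ_three]; ring

lemma cross_dot_right (a b : Fin 3 → F) : crossProduct a b ⬝ᵥ b = 0 := by
  simp [cross_apply, dotProduct, Fin.sum_univ_three]; ring

section Pair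

variable {s t : Fin 3 → F} (hs : s ⬝ᵥ s = 0) (ht : t ⬝ᵥ t = 0)

include hs ht

/-- Coordinates with respect to a hyperbolic pair. -/
lemma decomp (v : Fin 3 → F) :
    ((s ⬝ᵥ t) * (s ⬝ᵥ t)) • v = ((s ⬝ᵥ t) * (v ⬝ᵥ t)) • s + ((s ⬝ᵥ t) * (v ⬝ᵥ s)) • t -
      (v ⬝ᵥ crossProduct s t) • crossProduct s t := by
  have h := gram s t v
  rw [hs, ht] at h
  simp only [mul_zero, zero_sub, neg_smul, neg_mul] at h
  linear_combination (norm := module) -h

lemma pair_norm : crossProduct s t ⬝ᵥ crossProduct s t = -((s ⬝ᵥ t) * (s ⬝ᵥ t)) := by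
  rw [cross_norm, hs, ht, mul_zero, zero_sub]

lemma norm_coords (v : Fin 3 → F) :
    (s ⬝ᵥ t) * (s ⬝ᵥ t) * (v ⬝ᵥ v) =
      2 * (s ⬝ᵥ t) * (v ⬝ᵥ s) * (v ⬝ᵥ t) -
        (v ⬝ᵥ crossProduct s t) * (v ⬝ᵥ crossProduct s t) := by
  have h := congrArg (fun y => v ⬝ᵥ y) (decomp hs ht v)
  simp only [dotProduct_sub, dotProduct_add, dotProduct_smul, smul_eq_mul] at h
  linear_combination h

/-- A vector is determined by its three products. -/
lemma ext_coords (hβ : s ⬝ᵥ t ≠ 0) {v w : Fin 3 → F} (h1 : v ⬝ᵥ s = w ⬝ᵥ s) (h2 : v ⬝ᵥ t = w ⬝ᵥ t)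
    (h3 : v ⬝ᵥ crossProduct s t = w ⬝ᵥ crossProduct s t) : v = w := by
  refine smul_right_injective _ (mul_ne_zero hβ hβ) ?_
  change ((s ⬝ᵥ t) * (s ⬝ᵥ t)) • v = ((s ⬝ᵥ t) * (s ⬝ᵥ t)) • w
  rw [decomp hs ht v, decomp hs ht w, h1, h2, h3]

end Pair

lemma U_mul {s α β : Fin 3 → F} (h2 : (2 : F) ≠ 0) (hs : s ⬝ᵥ s = 0) (ha : α ⬝ᵥ s = 0)
    (hb : β ⬝ᵥ s = 0) (x : Fin 3 → F) : U s β (U s α x) = U s (α + β) x := by
  have ha' : s ⬝ᵥ α = 0 := by rw [dotProduct_comm]; exact ha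
  have hb' : s ⬝ᵥ β = 0 := by rw [dotProduct_comm]; exact hb
  simp only [U, add_dotProduct, sub_dotProduct, smul_dotProduct, dotProduct_add, smul_eq_mul, hs, ha,
    ha', hb', dotProduct_comm β α, mul_zero, add_zero, sub_zero]
  match_scalars <;> field_simp <;> ring

/-- Root elements only depend on the second vector modulo the first. -/
lemma U_mod {s α : Fin 3 → F} (h2 : (2 : F) ≠ 0) (hs : s ⬝ᵥ s = 0) (ha : α ⬝ᵥ s = 0) (c : F)
    (x : Fin 3 → F) : U s (α + c • s) x = U s α x := by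
  have ha' : s ⬝ᵥ α = 0 := by rw [dotProduct_comm]; exact ha
  simp only [U, add_dotProduct, dotProduct_add, smul_dotProduct, dotProduct_smul, smul_eq_mul, hs, ha,
    ha', mul_zero, add_zero]
  module

lemma U_iso {s α : Fin 3 → F} (h2 : (2 : F) ≠ 0) (hs : s ⬝ᵥ s = 0) (ha : α ⬝ᵥ s = 0)
    (x y : Fin 3 → F) : U s α x ⬝ᵥ U s α y = x ⬝ᵥ y := by
  have ha' : s ⬝ᵥ α = 0 := by rw [dotProduct_comm]; exact ha
  simp only [U, add_dotProduct, sub_dotProduct, dotProduct_add, dotProduct_sub, smul_dotProduct,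
    dotProduct_smul, smul_eq_mul, hs, ha, ha', dotProduct_comm α y, dotProduct_comm s y,
    dotProduct_comm s x, dotProduct_comm α x]
  field_simp
  ring

lemma U_fix {s α : Fin 3 → F} (hs : s ⬝ᵥ s = 0) (ha : α ⬝ᵥ s = 0) : U s α s = s := by
  have ha' : s ⬝ᵥ α = 0 := by rw [dotProduct_comm]; exact ha
  simp [U, hs, ha']

lemma U_zero (s x : Fin 3 → F) : U s 0 x = x := by simp [U]

/-- An opposite singular vector and a plane isometry fixing it. -/
lemma exists_root (h2 : (2 : F) ≠ 0) (k : GL (Fin 3) F)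
    (hiso : ∀ x y : Fin 3 → F, ((k : Matrix (Fin 3) (Fin 3) F) *ᵥ x) ⬝ᵥ
      ((k : Matrix (Fin 3) (Fin 3) F) *ᵥ y) = x ⬝ᵥ y)
    (hdet : (k : Matrix (Fin 3) (Fin 3) F).det = 1)
    (hfix : ∀ v : Fin 3 → F, (k : Matrix (Fin 3) (Fin 3) F) *ᵥ v = v → v ⬝ᵥ v = 0) :
    ∃ s α : Fin 3 → F, s ≠ 0 ∧ s ⬝ᵥ s = 0 ∧ α ⬝ᵥ s = 0 ∧ α ⬝ᵥ α ≠ 0 ∧
      ∀ x, (k : Matrix (Fin 3) (Fin 3) F) *ᵥ x = U s α x := by
  classical
  set K := (k : Matrix (Fin 3) (Fin 3) F) with hK
  have horth : Kᵀ * K = 1 := by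
    refine Matrix.ext fun i l => ?_
    have h := hiso (Pi.single i 1) (Pi.single l 1)
    simp only [mulVec_single_one, single_dotProduct, one_mul] at h
    rw [mul_apply]
    simpa [dotProduct, Matrix.col, Matrix.one_apply, Pi.single_apply, eq_comm] using h
  have hd0 : (K - 1).det = 0 := by
    have e : Kᵀ * (K - 1) = (1 - K)ᵀ := by
      rw [mul_sub, horth, mul_one, transpose_sub, transpose_one]
    have e' := congrArg Matrix.det e
    rw [det_mul, det_transpose, hdet, one_mul, det_transpose, ← neg_sub K 1, det_neg,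
      Fintype.card_fin] at e'
    exact (mul_eq_zero.1 (show (2 : F) * (K - 1).det = 0 by linear_combination e')).resolve_left h2
  obtain ⟨s, hs0, hs1⟩ := exists_mulVec_eq_zero_iff.2 hd0
  rw [sub_mulVec, one_mulVec, sub_eq_zero] at hs1
  have hs := hfix s hs1
  obtain ⟨i, hi⟩ : ∃ i, s i ≠ 0 := Function.ne_iff.1 hs0
  set t := s - (2 * s i) • Pi.single i (1 : F) with ht
  have htt : t ⬝ᵥ t = 0 := by
    rw [ht]
    simp only [sub_dotProduct, dotProduct_sub, smul_dotProduct, dotProduct_smul, single_dotProduct,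
      dotProduct_single, smul_eq_mul, hs, one_mul, mul_one, Pi.single_eq_same, Pi.sub_apply, Pi.smul_apply]
    ring
  have hβ : s ⬝ᵥ t ≠ 0 := by
    rw [ht]
    simp only [dotProduct_sub, dotProduct_smul, dotProduct_single, smul_eq_mul, hs, mul_one, zero_sub]
    exact neg_ne_zero.2 (mul_ne_zero (mul_ne_zero h2 hi) hi)
  set β := s ⬝ᵥ t with hβdef
  set n := crossProduct s t with hn
  have hns : n ⬝ᵥ s = 0 := cross_dot_left s t
  have hnn : n ⬝ᵥ n = -(β * β) := pair_norm hs htt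
  have hnn0 : n ⬝ᵥ n ≠ 0 := by rw [hnn]; exact neg_ne_zero.2 (mul_ne_zero hβ hβ)
  -- isometries agreeing on the pair agree
  have agree : ∀ f : (Fin 3 → F) → (Fin 3 → F), (∀ x y, f x ⬝ᵥ f y = x ⬝ᵥ y) →
      (∀ x y, f (x + y) = f x + f y) → f s = s → f n = K *ᵥ n → ∀ x, K *ᵥ x = f x := by
    intro f fiso fadd fs fn
    have dir : ∀ x, ∃ c : F, K *ᵥ x = f x + c • s := by
      intro x
      set y := K *ᵥ x - f x with hy
      have y1 : y ⬝ᵥ s = 0 := by
        rw [hy, sub_dotProduct]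
        nth_rw 1 [← hs1]
        nth_rw 2 [← fs]
        rw [hiso, fiso, sub_self]
      have y2 : y ⬝ᵥ (K *ᵥ n) = 0 := by
        rw [hy, sub_dotProduct, hiso]
        rw [← fn, fiso, sub_self]
      -- the image of n is n up to sign modulo s
      have h := decomp hs htt (K *ᵥ n)
      have hks : (K *ᵥ n) ⬝ᵥ s = 0 := by have := hiso n s; rwa [hs1, hns] at this
      have hkn : ((K *ᵥ n) ⬝ᵥ crossProduct s t) ≠ 0 := by
        intro e
        rw [hks, e] at h
        simp only [mul_zero, zero_smul, add_zero, sub_zero] at h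
        have h' := congrArg (fun z => (K *ᵥ n) ⬝ᵥ z) h
        simp only [dotProduct_smul, smul_eq_mul, hks, mul_zero, hiso] at h'
        exact mul_ne_zero (mul_ne_zero hβ hβ) hnn0 h'
      have h' := congrArg (fun z => y ⬝ᵥ z) h
      simp only [dotProduct_smul, dotProduct_sub, dotProduct_add, smul_eq_mul, y1, y2, hks,
        mul_zero, zero_mul, add_zero, zero_sub] at h'
      have y3 : y ⬝ᵥ crossProduct s t = 0 :=
        (mul_eq_zero.1 (show ((K *ᵥ n) ⬝ᵥ crossProduct s t) * (y ⬝ᵥ crossProduct s t) = 0 by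
          linear_combination h')).resolve_left hkn
      refine ⟨(y ⬝ᵥ t) / β, ?_⟩
      have e := decomp hs htt y
      rw [← hβdef, y1, y3] at e
      simp only [mul_zero, zero_smul, add_zero, sub_zero] at e
      have : y = ((y ⬝ᵥ t) / β) • s := by
        refine smul_right_injective _ (mul_ne_zero hβ hβ) ?_
        change (β * β) • y = (β * β) • (((y ⬝ᵥ t) / β) • s)
        rw [e, smul_smul]
        congr 1
        field_simp
      rw [← this, hy, add_sub_cancel]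
    have zero : ∀ (x : Fin 3 → F) (c : F), K *ᵥ x = f x + c • s → x ⬝ᵥ s ≠ 0 → c = 0 := by
      intro x c hx hxs
      have h := hiso x x
      rw [hx] at h
      have e : f x ⬝ᵥ s = x ⬝ᵥ s := by nth_rw 1 [← fs]; rw [fiso]
      simp only [add_dotProduct, dotProduct_add, smul_dotProduct, dotProduct_smul, smul_eq_mul, hs,
        fiso, dotProduct_comm s (f x), e] at h
      exact (mul_eq_zero.1 (show c * (2 * (x ⬝ᵥ s)) = 0 by linear_combination h)).resolve_right
        (mul_ne_zero h2 hxs)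
    intro x
    obtain ⟨c, hc⟩ := dir x
    by_cases hxs : x ⬝ᵥ s = 0
    · obtain ⟨ct, hct⟩ := dir t
      have hts : t ⬝ᵥ s ≠ 0 := by rwa [dotProduct_comm]
      obtain ⟨cx, hcx⟩ := dir (x + t)
      rw [zero _ _ hct hts, zero_smul, add_zero] at hct
      rw [zero _ _ hcx (by rw [add_dotProduct, hxs, zero_add]; exact hts), zero_smul, add_zero,
        mulVec_add, hct, fadd] at hcx
      exact add_right_cancel hcx
    · rw [hc, zero _ _ hc hxs, zero_smul, add_zero]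
  -- the image of n
  have hks : (K *ᵥ n) ⬝ᵥ s = 0 := by have := hiso n s; rwa [hs1, hns] at this
  obtain ⟨X, Z, hkn⟩ : ∃ X Z : F, K *ᵥ n = X • s + Z • n := by
    refine ⟨((K *ᵥ n) ⬝ᵥ t) / β, -((K *ᵥ n) ⬝ᵥ n) / (β * β), smul_right_injective _ (mul_ne_zero hβ hβ) ?_⟩
    change (β * β) • (K *ᵥ n) = (β * β) • (_ + _)
    rw [decomp hs htt (K *ᵥ n), ← hβdef, ← hn, hks, smul_add, smul_smul, smul_smul]
    match_scalars <;> field_simp <;> ring
  have hZ : Z * Z = 1 := by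
    have h := hiso n n
    rw [hkn] at h
    simp only [add_dotProduct, dotProduct_add, smul_dotProduct, dotProduct_smul, smul_eq_mul, hs, hns,
      dotProduct_comm s n] at h
    exact mul_right_cancel₀ hnn0 (by linear_combination h)
  rcases mul_self_eq_one_iff.1 hZ with rfl | rfl
  · -- a root element
    have hX : X ≠ 0 := fun e => hnn0 (hfix n (by rw [hkn, e]; simp))
    set γ := n ⬝ᵥ n with hγ
    refine ⟨s, (X / γ) • n, hs0, hs, by simp [hns], ?_, ?_⟩
    · simp only [smul_dotProduct, dotProduct_smul, smul_eq_mul]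
      exact mul_ne_zero (div_ne_zero hX hnn0) (mul_ne_zero (div_ne_zero hX hnn0) hnn0)
    · have ha : ((X / γ) • n) ⬝ᵥ s = 0 := by simp [hns]
      refine agree _ (U_iso h2 hs ha) (fun x y => ?_) (U_fix hs ha) ?_
      · simp only [U, add_dotProduct]; module
      · rw [hkn]
        simp only [U, dotProduct_smul, smul_eq_mul, hns, mul_zero, zero_smul,
          sub_zero, one_smul, ← hγ]
        rw [div_mul_cancel₀ _ hnn0, add_comm]
  · -- a reflection
    exfalso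
    set n1 := n - (X / 2) • s with hn1
    have hn1s : n1 ⬝ᵥ s = 0 := by simp [hn1, hns, hs]
    have hn1n : n1 ⬝ᵥ n1 = n ⬝ᵥ n := by simp [hn1, hns, hs, dotProduct_comm s n]
    obtain ⟨c, hc⟩ : ∃ c, c * (n ⬝ᵥ n) = 2 := ⟨2 / (n ⬝ᵥ n), div_mul_cancel₀ _ hnn0⟩
    have hf : ∀ x, K *ᵥ x = x - (c * (x ⬝ᵥ n1)) • n1 := by
      refine agree _ (fun x y => ?_) (fun x y => ?_) ?_ ?_
      · simp only [sub_dotProduct, dotProduct_sub, smul_dotProduct, dotProduct_smul, smul_eq_mul, hn1n,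
          dotProduct_comm n1 y, dotProduct_comm n1 x]
        linear_combination (c * (x ⬝ᵥ n1) * (y ⬝ᵥ n1)) * hc
      · rw [add_dotProduct]; module
      · rw [dotProduct_comm, hn1s]; simp
      · rw [hkn]
        have e : n ⬝ᵥ n1 = n ⬝ᵥ n := by simp [hn1, hns]
        rw [e, hc, hn1]
        match_scalars <;> field_simp <;> ring
    have hmat : K = 1 + vecMulVec ((-c) • n1) n1 := by
      refine Matrix.ext_of_mulVec_single fun l => ?_
      rw [hf, add_mulVec, one_mulVec, vecMulVec_mulVec, dotProduct_comm _ n1]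
      funext m
      simp [mul_comm, mul_left_comm]
      ring
    have hd := hdet
    rw [hmat, vecMulVec_eq Unit, det_one_add_replicateCol_mul_replicateRow, dotProduct_smul, hn1n,
      smul_eq_mul] at hd
    exact h2 (by linear_combination -hd - hc)

/-- Two opposite root groups are transitive on spheres. -/
theorem root_transitive [Fintype F] (h2 : (2 : F) ≠ 0) (h3 : (3 : F) ≠ 0)
    (P : ((Fin 3 → F) → (Fin 3 → F)) → Prop)
    (hid : P id) (hinv : ∀ f, P f → ∃ f', P f' ∧ ∀ x, f' (f x) = x)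
    (hcomp : ∀ f g, P f → P g → P (f ∘ g)) {s t : Fin 3 → F} (hs : s ⬝ᵥ s = 0)
    (ht : t ⬝ᵥ t = 0) (hβ : s ⬝ᵥ t ≠ 0)
    (hPs : ∀ c : F, P (U s (c • crossProduct s t)))
    (hPt : ∀ c : F, P (U t (c • crossProduct s t)))
    (v w : Fin 3 → F) (hv : v ⬝ᵥ v ≠ 0) (hvw : w ⬝ᵥ w = v ⬝ᵥ v) :
    ∃ f, P f ∧ f v = w := by
  classical
  set n := crossProduct s t with hn
  set β := s ⬝ᵥ t with hβdef
  have hns : n ⬝ᵥ s = 0 := cross_dot_left s t
  have hnt : n ⬝ᵥ t = 0 := cross_dot_right s t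
  have hnn : n ⬝ᵥ n = -(β * β) := pair_norm hs ht
  -- effect on the three products
  have Us : ∀ (c : F) (x : Fin 3 → F), U s (c • n) x ⬝ᵥ s = x ⬝ᵥ s ∧
      U s (c • n) x ⬝ᵥ t = x ⬝ᵥ t + c * β * (x ⬝ᵥ n) + c * c * β * β * β / 2 * (x ⬝ᵥ s) ∧
      U s (c • n) x ⬝ᵥ n = x ⬝ᵥ n + c * β * β * (x ⬝ᵥ s) := by
    intro c x
    refine ⟨?_, ?_, ?_⟩ <;>
      simp only [U, sub_dotProduct, add_dotProduct, smul_dotProduct, dotProduct_smul, smul_eq_mul, hns,
        hnt, hs, hnn, ← hβdef, dotProduct_comm s n] <;> ring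
  have Ut : ∀ (c : F) (x : Fin 3 → F), U t (c • n) x ⬝ᵥ t = x ⬝ᵥ t ∧
      U t (c • n) x ⬝ᵥ s = x ⬝ᵥ s + c * β * (x ⬝ᵥ n) + c * c * β * β * β / 2 * (x ⬝ᵥ t) ∧
      U t (c • n) x ⬝ᵥ n = x ⬝ᵥ n + c * β * β * (x ⬝ᵥ t) := by
    intro c x
    refine ⟨?_, ?_, ?_⟩ <;>
      simp only [U, sub_dotProduct, add_dotProduct, smul_dotProduct, dotProduct_smul, smul_eq_mul, hns,
        hnt, ht, hnn, ← hβdef, dotProduct_comm t n, dotProduct_comm t s] <;> ring
  set N := v ⬝ᵥ v with hN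
  set y0 : F := 1 with hy0
  -- reach the normal form
  have canon : ∀ x, x ⬝ᵥ x = N → ∃ f, P f ∧ f x ⬝ᵥ s = y0 ∧ f x ⬝ᵥ n = 0 ∧ f x ⬝ᵥ f x = N := by
    intro x hx
    have Piso : ∀ (c : F) (a : Fin 3 → F), U s (c • n) a ⬝ᵥ U s (c • n) a = a ⬝ᵥ a := fun c a =>
      U_iso h2 hs (by simp [hns]) a a
    have Piso' : ∀ (c : F) (a : Fin 3 → F), U t (c • n) a ⬝ᵥ U t (c • n) a = a ⬝ᵥ a := fun c a =>
      U_iso h2 ht (by simp [hnt]) a a
    obtain ⟨f1, hf1, hx1, hx1N⟩ : ∃ f, P f ∧ f x ⬝ᵥ s ≠ 0 ∧ f x ⬝ᵥ f x = N := by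
      by_cases hxs : x ⬝ᵥ s = 0
      · have hxn : x ⬝ᵥ n ≠ 0 := by
          intro e
          have h := norm_coords hs ht x
          rw [hxs, ← hn, e, ← hβdef] at h
          exact mul_ne_zero (mul_ne_zero hβ hβ) hv (by rw [← hx]; linear_combination h)
        by_cases e1 : U t ((1 : F) • n) x ⬝ᵥ s = 0
        · refine ⟨_, hPt (-1), fun e2 => mul_ne_zero (mul_ne_zero h2 hβ) hxn ?_, by rw [Piso', hx]⟩
          rw [(Ut _ x).2.1, hxs] at e1 e2
          linear_combination e1 - e2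
        · exact ⟨_, hPt 1, e1, by rw [Piso', hx]⟩
      · exact ⟨id, hid, hxs, hx⟩
    set x1 := f1 x with hx1def
    set Y := x1 ⬝ᵥ s with hY
    set c0 := -(x1 ⬝ᵥ n) / (β * β * Y) with hc0
    set x2 := U s (c0 • n) x1 with hx2
    have h2s : x2 ⬝ᵥ s = Y := (Us _ x1).1
    have h2n : x2 ⬝ᵥ n = 0 := by rw [hx2, (Us _ x1).2.2, hc0, ← hY]; field_simp; ring
    have h2N : x2 ⬝ᵥ x2 = N := by rw [hx2, Piso, hx1N]
    have h2t : 2 * (x2 ⬝ᵥ t) * Y = β * N := by
      have h := norm_coords hs ht x2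
      rw [h2s, h2n, h2N] at h
      exact mul_left_cancel₀ hβ (by linear_combination -h)
    -- represent the ratio
    obtain ⟨A, B, hB, hAB⟩ : ∃ A B : F, B ≠ 0 ∧ A * A + N * (B * B) = y0 / Y := by
      obtain ⟨a, b, hab⟩ := FiniteField.exists_root_sum_quadratic
        (Polynomial.degree_X_pow (R := F) 2) (f := Polynomial.X ^ 2)
        (g := Polynomial.C N * Polynomial.X ^ 2 - Polynomial.C (y0 / Y))
        (by rw [Polynomial.degree_sub_C (by rw [Polynomial.degree_C_mul_X_pow 2 hv]; norm_num),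
          Polynomial.degree_C_mul_X_pow 2 hv]; rfl)
        (by
          have h2' : ringChar F ≠ 2 := fun e => h2 (by
            haveI := ringChar.of_eq e
            exact CharTwo.two_eq_zero)
          exact FiniteField.odd_card_of_char_ne_two h2')
      simp at hab
      by_cases hb : b = 0
      · subst hb
        obtain ⟨m, hm0, hm⟩ : ∃ m : F, m ≠ 0 ∧ 1 + N * (m * m) ≠ 0 := by
          by_cases h1 : 1 + N = 0
          · exact ⟨2, h2, fun h => mul_ne_zero h3 hv (by linear_combination h - h1)⟩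
          · exact ⟨1, one_ne_zero, by simpa using h1⟩
        have ha : a ≠ 0 := fun e => by
          rw [e] at hab
          simp [hy0] at hab
          exact hx1 hab
        obtain ⟨Pi', hPi⟩ : ∃ Pi', Pi' * (1 + N * (m * m)) = 1 := ⟨_, inv_mul_cancel₀ hm⟩
        refine ⟨a * (1 - N * (m * m)) * Pi', 2 * a * m * Pi',
          mul_ne_zero (mul_ne_zero (mul_ne_zero h2 ha) hm0) (left_ne_zero_of_mul_eq_one hPi), ?_⟩
        linear_combination hab + a * a * (Pi' * (1 + N * (m * m)) + 1) * hPi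
      · exact ⟨a, b, hb, by linear_combination hab⟩
    -- two root elements
    set τ := 2 * Y * B / (β * β) with hτ
    have hτ0 : τ ≠ 0 := div_ne_zero (mul_ne_zero (mul_ne_zero h2 hx1) hB) (mul_ne_zero hβ hβ)
    set σ := 2 * (A - 1) / (τ * β * β * β) with hσ
    set x3 := U t (τ • n) (U s (σ • n) x2) with hx3
    have h3s : x3 ⬝ᵥ s = y0 := by
      rw [hx3, (Ut _ _).2.1, (Us _ x2).1, (Us _ x2).2.1, (Us _ x2).2.2, h2s, h2n]
      have e : x2 ⬝ᵥ t = β * N / (2 * Y) := by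
        rw [eq_div_iff (mul_ne_zero h2 hx1)]; linear_combination h2t
      have e' : y0 = (A * A + N * (B * B)) * Y := by rw [hAB, div_mul_cancel₀ _ hx1]
      rw [e, e', hσ, hτ]
      field_simp
      ring
    have h3N : x3 ⬝ᵥ x3 = N := by rw [hx3, Piso', Piso, h2N]
    set c4 := -(x3 ⬝ᵥ n) / (β * β * (x3 ⬝ᵥ s)) with hc4
    refine ⟨U s (c4 • n) ∘ (U t (τ • n) ∘ (U s (σ • n) ∘ (U s (c0 • n) ∘ f1))),
      hcomp _ _ (hPs _) (hcomp _ _ (hPt _) (hcomp _ _ (hPs _) (hcomp _ _ (hPs _) hf1))), ?_, ?_, ?_⟩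
    · simp only [Function.comp]
      rw [← hx1def, ← hx2, ← hx3, (Us _ x3).1, h3s]
    · simp only [Function.comp]
      rw [← hx1def, ← hx2, ← hx3, (Us _ x3).2.2, hc4, h3s]
      field_simp
      ring
    · simp only [Function.comp]
      rw [← hx1def, ← hx2, ← hx3, Piso, h3N]
  obtain ⟨f, hf, f1, f2, f3⟩ := canon v rfl
  obtain ⟨g, hg, g1, g2, g3⟩ := canon w hvw
  have hsame : f v = g w := by
    refine ext_coords hs ht hβ (f1.trans g1.symm) ?_ (f2.trans g2.symm)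
    have a := norm_coords hs ht (f v)
    have b := norm_coords hs ht (g w)
    rw [← hn, ← hβdef, f1, f2, f3] at a
    rw [← hn, ← hβdef, g1, g2, g3] at b
    exact mul_left_cancel₀ (mul_ne_zero h2 hβ) (by rw [hy0] at a b; linear_combination b - a)
  obtain ⟨g', hg', hgg⟩ := hinv g hg
  exact ⟨g' ∘ f, hcomp _ _ hg' hf, by rw [Function.comp, hsame, hgg]⟩

end CfsgLib.ClassicalMax.FiveSpace
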