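/-
Finite rotation groups in three dimensions in which every element has an anisotropic axis: if the group
contains the symmetries of a square, the axis of the square has an orbit of size at most three.
-/
import Cfsg.Agent.Lib.ClassicalMax.Tv
import Mathlib
set_option autoImplicit false
set_option linter.unusedSectionVars false

namespace CfsgLib.ClassicalMax.OmL

open Matrix Module

variable {F : Type*} [Field F]

/-- The diagonal form with entries `1, 1, ω`. -/
def bl (ω : F) (x y : Fin 3 → F) : F := x 0 * y 0 + x 1 * y 1 + ω * (x 2 * y 2)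

lemma bl_eq_dot (ω : F) (x y : Fin 3 → F) : bl ω x y = ![x 0, x 1, ω * x 2] ⬝ᵥ y := by
  simp [bl, dotProduct, Fin.sum_univ_three, mul_assoc]

lemma bl_add_left (ω : F) (x x' y : Fin 3 → F) : bl ω (x + x') y = bl ω x y + bl ω x' y := by
  simp only [bl, Pi.add_apply]; ring

lemma bl_smul_left (ω c : F) (x y : Fin 3 → F) : bl ω (c • x) y = c * bl ω x y := by
  simp only [bl, Pi.smul_apply, smul_eq_mul]; ring

/-- Orbit sizes. -/
lemma arith_orbits {g o0 c0 o1 c1 o2 c2 d1 d2 : ℕ} (h0 : g = 2 * (o0 * c0)) (hc0 : 4 ∣ c0)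
    (hc0' : 0 < c0) (ho0 : 2 ≤ o0) (hd1 : d1 = 1 ∨ d1 = 2) (h1 : g = d1 * (o1 * c1)) (hc1 : 2 ≤ c1)
    (hd2 : d2 = 1 ∨ d2 = 2) (h2 : g = d2 * (o2 * c2)) (hc2 : 2 ≤ c2)
    (hsum : o0 * (c0 - 1) + o1 * (c1 - 1) + o2 * (c2 - 1) + 1 = g) : o0 = 3 := by
  simp only [Nat.mul_sub, mul_one] at hsum
  have e0 : (c0 = 4 ∧ o0 * c0 = 4 * o0) ∨ 8 * o0 ≤ o0 * c0 := by
    obtain ⟨k, rfl⟩ := hc0
    rcases (show k = 1 ∨ 2 ≤ k by omega) with rfl | hk
    · exact Or.inl ⟨rfl, by ring⟩
    · exact Or.inr (by nlinarith)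
  have e : ∀ o c : ℕ, 2 ≤ c → o * c = 2 * o ∨ o * c = 3 * o ∨ 4 * o ≤ o * c := fun o c hc => by
    rcases (show c = 2 ∨ c = 3 ∨ 4 ≤ c by omega) with rfl | rfl | h
    · exact Or.inl (by ring)
    · exact Or.inr (Or.inl (by ring))
    · exact Or.inr (Or.inr (by nlinarith))
  have f1 := e o1 c1 hc1
  have f2 := e o2 c2 hc2
  rcases hd1 with rfl | rfl <;> rcases hd2 with rfl | rfl <;>
    rcases e0 with ⟨-, e0⟩ | e0 <;> omega

variable [Fintype F] (ω : F) (hω : ω ≠ 0) (h2 : (2 : F) ≠ 0) (R : Subgroup (GL (Fin 3) F))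
  (hiso : ∀ g ∈ R, ∀ x y : Fin 3 → F, bl ω ((g : Matrix (Fin 3) (Fin 3) F) *ᵥ x)
    ((g : Matrix (Fin 3) (Fin 3) F) *ᵥ y) = bl ω x y)
  (hdet : ∀ g ∈ R, Matrix.det (g : Matrix (Fin 3) (Fin 3) F) = 1)

include hω h2 hiso hdet

/-- A nontrivial rotation has at most one anisotropic axis. -/
lemma fixed_unique {g : GL (Fin 3) F} (hg : g ∈ R) (hg1 : g ≠ 1) {v w : Fin 3 → F}
    (hv : bl ω v v ≠ 0) (hgv : (g : Matrix (Fin 3) (Fin 3) F) *ᵥ v = v)
    (hgw : (g : Matrix (Fin 3) (Fin 3) F) *ᵥ w = w) : ∃ t : F, w = t • v := by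
  have hv0 : v ≠ 0 := fun e => hv (by simp [e, bl])
  by_contra hcon
  push Not at hcon
  set a : Fin 3 → F := ![v 0, v 1, ω * v 2] with ha
  set b : Fin 3 → F := ![w 0, w 1, ω * w 2] with hb
  have hli : LinearIndependent F ![a, b] := by
    refine (LinearIndependent.pair_iff' ?_).2 fun t e => hcon t (funext fun i => ?_)
    · intro e
      refine hv ?_
      rw [bl_eq_dot, ← ha, e, zero_dotProduct]
    · have := congrFun e i
      fin_cases i
      · simpa [a, b, eq_comm] using this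
      · simpa [a, b, eq_comm] using this
      · simp [a, b] at this ⊢
        exact mul_left_cancel₀ hω (by linear_combination -this)
  set c : Fin 3 → F := crossProduct a b with hc
  have hc0 : c ≠ 0 := crossProduct_ne_zero_iff_linearIndependent.2 hli
  have hline : ∀ z, a ⬝ᵥ z = 0 → b ⬝ᵥ z = 0 → ∃ t : F, z = t • c := by
    intro z h1 h3
    have h0 : crossProduct c z = 0 := by
      simp [dotProduct, Fin.sum_univ_three] at h1 h3
      funext i
      rw [hc, cross_apply, cross_apply]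
      fin_cases i <;> simp
      · linear_combination (b 0) * h1 - (a 0) * h3
      · linear_combination (b 1) * h1 - (a 1) * h3
      · linear_combination (b 2) * h1 - (a 2) * h3
    have hdep : ¬ LinearIndependent F ![c, z] := fun h =>
      crossProduct_ne_zero_iff_linearIndependent.2 h h0
    rw [LinearIndependent.pair_iff' hc0] at hdep
    push Not at hdep
    obtain ⟨t, ht⟩ := hdep
    exact ⟨t, ht.symm⟩
  -- the displacement is along `c`
  have hdisp : ∀ x, ∃ t : F, (g : Matrix (Fin 3) (Fin 3) F) *ᵥ x = x + t • c := by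
    intro x
    have e : ∀ u : Fin 3 → F, (g : Matrix (Fin 3) (Fin 3) F) *ᵥ u = u →
        ![u 0, u 1, ω * u 2] ⬝ᵥ ((g : Matrix (Fin 3) (Fin 3) F) *ᵥ x - x) = 0 := fun u hu => by
      rw [dotProduct_sub, ← bl_eq_dot, ← bl_eq_dot]
      nth_rw 1 [← hu]
      rw [hiso g hg, sub_self]
    obtain ⟨t, ht⟩ := hline _ (e v hgv) (e w hgw)
    exact ⟨t, by rw [← ht]; abel⟩
  obtain ⟨i, hi⟩ : ∃ i, c i ≠ 0 := by
    by_contra h
    push Not at h
    exact hc0 (funext h)
  choose φ hφ using hdisp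
  -- `φ` kills `c`
  set ψ : Fin 3 → F := fun k => φ (Pi.single k 1) with hψ
  have hmat : (g : Matrix (Fin 3) (Fin 3) F) = 1 + vecMulVec c ψ := by
    refine Matrix.ext_of_mulVec_single fun k => ?_
    rw [hφ, add_mulVec, one_mulVec]
    congr 1
    funext l
    simp [vecMulVec, hψ, mul_comm]
  have hlin : ∀ x, (g : Matrix (Fin 3) (Fin 3) F) *ᵥ x = x + (ψ ⬝ᵥ x) • c := fun x => by
    rw [hmat, add_mulVec, one_mulVec, vecMulVec_mulVec]
    simp
  have hψc : ψ ⬝ᵥ c = 0 := by
    have h := hdet g hg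
    rw [hmat, vecMulVec_eq Unit, det_one_add_replicateCol_mul_replicateRow] at h
    linear_combination h
  have hcx : ∀ x, (ψ ⬝ᵥ x) * (2 * bl ω x c + (ψ ⬝ᵥ x) * bl ω c c) = 0 := by
    intro x
    have h := hiso g hg x x
    rw [hlin x] at h
    simp only [bl, Pi.add_apply, Pi.smul_apply, smul_eq_mul] at h ⊢
    linear_combination h
  have hψne : ∃ x, ψ ⬝ᵥ x ≠ 0 := by
    by_contra h
    push Not at h
    exact hg1 (Units.ext (Matrix.ext_of_mulVec_single fun k => by
      rw [hlin, h, zero_smul, add_zero, Units.val_one, one_mulVec]))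
  obtain ⟨x, hx⟩ := hψne
  have e1 := (mul_eq_zero.1 (hcx x)).resolve_left hx
  have e2 : bl ω c c = 0 := by
    have e3 := (mul_eq_zero.1 (hcx (x + c))).resolve_left (by rw [dotProduct_add, hψc, add_zero]; exact hx)
    rw [dotProduct_add, hψc, add_zero, bl_add_left] at e3
    exact (mul_eq_zero.1 (show (2 : F) * bl ω c c = 0 by linear_combination e3 - e1)).resolve_left h2
  have e4 : ∀ y, bl ω y c = 0 := fun y => by
    by_cases hy : ψ ⬝ᵥ y = 0
    · have e3 := (mul_eq_zero.1 (hcx (x + y))).resolve_left (by rw [dotProduct_add, hy, add_zero]; exact hx)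
      rw [bl_add_left, e2] at e3
      rw [e2] at e1
      exact (mul_eq_zero.1 (show (2 : F) * bl ω y c = 0 by linear_combination e3 - e1)).resolve_left h2
    · have e3 := (mul_eq_zero.1 (hcx y)).resolve_left hy
      rw [e2, mul_zero, add_zero] at e3
      exact (mul_eq_zero.1 e3).resolve_left h2
  refine hc0 (funext fun k => ?_)
  have := e4 (Pi.single k 1)
  fin_cases k <;> simp [bl] at this ⊢ <;> first | exact this | exact this.resolve_left hω

/-- The orbit of the axis of the square. -/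
theorem axes (hR : ∀ g ∈ R, g ≠ 1 →
      ∃ v, (g : Matrix (Fin 3) (Fin 3) F) *ᵥ v = v ∧ bl ω v v ≠ 0)
    {j f : GL (Fin 3) F} (hj : j ∈ R) (hf : f ∈ R)
    (hjv : ∀ x, (j : Matrix (Fin 3) (Fin 3) F) *ᵥ x = ![-x 1, x 0, x 2])
    (hfv : ∀ x, (f : Matrix (Fin 3) (Fin 3) F) *ᵥ x = ![x 0, -x 1, -x 2])
    (h : GL (Fin 3) F) (hh : h ∈ R) :
    ((h : Matrix (Fin 3) (Fin 3) F) *ᵥ Pi.single 2 1) 2 = 0 ∨
      ((h : Matrix (Fin 3) (Fin 3) F) *ᵥ Pi.single 2 1) 0 = 0 ∧
        ((h : Matrix (Fin 3) (Fin 3) F) *ᵥ Pi.single 2 1) 1 = 0 := by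
  classical
  haveI : Fintype (GL (Fin 3) F) := Fintype.ofFinite _
  haveI : Fintype (Submodule F (Fin 3 → F)) := Fintype.ofFinite _
  let act : GL (Fin 3) F → Submodule F (Fin 3 → F) → Submodule F (Fin 3 → F) :=
    fun g L => L.map (Matrix.mulVecLin (g : Matrix (Fin 3) (Fin 3) F))
  have act_mul : ∀ g k L, act (g * k) L = act g (act k L) := fun g k L => by
    simp only [act, ← Submodule.map_comp, Units.val_mul, Matrix.mulVecLin_mul]
  have act_one : ∀ L, act 1 L = L := fun L => by simp [act]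
  have act_span : ∀ (g : GL (Fin 3) F) (v : Fin 3 → F),
      act g (F ∙ v) = F ∙ ((g : Matrix (Fin 3) (Fin 3) F) *ᵥ v) := fun g v => by
    simp [act, Submodule.map_span]
  have span_eq : ∀ {v w : Fin 3 → F}, v ≠ 0 → (F ∙ v) = (F ∙ w) → ∃ t : F, w = t • v := by
    intro v w _ e
    obtain ⟨t, ht⟩ := Submodule.mem_span_singleton.1 (e ▸ Submodule.mem_span_singleton_self w : w ∈ F ∙ v)
    exact ⟨t, ht.symm⟩
  let El := Finset.univ.filter fun g : GL (Fin 3) F => g ∈ R
  have memEl : ∀ {g}, g ∈ El ↔ g ∈ R := by simp [El]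
  have axis : ∀ g : GL (Fin 3) F, ∃ v : Fin 3 → F, g ∈ R → g ≠ 1 →
      (g : Matrix (Fin 3) (Fin 3) F) *ᵥ v = v ∧ bl ω v v ≠ 0 := fun g => by
    by_cases hg : g ∈ R ∧ g ≠ 1
    · obtain ⟨v, hv⟩ := hR g hg.1 hg.2
      exact ⟨v, fun _ _ => hv⟩
    · exact ⟨0, fun a b => absurd ⟨a, b⟩ hg⟩
  choose av hav using axis
  let ax : GL (Fin 3) F → Submodule F (Fin 3 → F) := fun g => F ∙ av g
  have ax_ne : ∀ {g}, g ∈ R → g ≠ 1 → av g ≠ 0 := fun hg hg1 e =>
    (hav _ hg hg1).2 (by simp [e, bl])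
  have ax_uniq : ∀ {g} {v : Fin 3 → F}, g ∈ R → g ≠ 1 → v ≠ 0 →
      (g : Matrix (Fin 3) (Fin 3) F) *ᵥ v = v → ax g = F ∙ v := by
    intro g v hg hg1 hv0 hgv
    obtain ⟨t, rfl⟩ := fixed_unique ω hω h2 R hiso hdet hg hg1 (hav g hg hg1).2 (hav g hg hg1).1 hgv
    have ht : t ≠ 0 := fun e => hv0 (by rw [e, zero_smul])
    exact (Submodule.span_singleton_smul_eq (IsUnit.mk0 t ht) _).symm
  let C : Submodule F (Fin 3 → F) → Finset (GL (Fin 3) F) := fun L =>
    El.filter fun g => ∀ v ∈ L, (g : Matrix (Fin 3) (Fin 3) F) *ᵥ v = v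
  let N : Submodule F (Fin 3 → F) → Finset (GL (Fin 3) F) := fun L => El.filter fun g => act g L = L
  let O : Submodule F (Fin 3 → F) → Finset (Submodule F (Fin 3 → F)) := fun L =>
    El.image fun g => act g L
  let El' := El.erase 1
  let A := El'.image ax
  have memEl' : ∀ {g}, g ∈ El' ↔ g ≠ 1 ∧ g ∈ R := by simp [El', memEl]
  -- fibres of the axis map
  have fibre : ∀ L ∈ A, (El'.filter fun g => ax g = L) = (C L).erase 1 := by
    intro L hL
    obtain ⟨g0, hg0, rfl⟩ := Finset.mem_image.1 hL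
    obtain ⟨hg01, hg0R⟩ := memEl'.1 hg0
    ext g
    simp only [Finset.mem_filter, Finset.mem_erase, C, memEl', memEl]
    constructor
    · rintro ⟨⟨hg1, hgR⟩, e⟩
      refine ⟨hg1, hgR, fun v hv => ?_⟩
      rw [← e] at hv
      obtain ⟨t, rfl⟩ := Submodule.mem_span_singleton.1 hv
      rw [mulVec_smul, (hav g hgR hg1).1]
    · rintro ⟨hg1, hgR, hfix⟩
      exact ⟨⟨hg1, hgR⟩, ax_uniq hgR hg1 (ax_ne hg0R hg01) (hfix _ (Submodule.mem_span_singleton_self _))⟩
  have total : El.card = 1 + ∑ L ∈ A, ((C L).card - 1) := by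
    have e1 : El'.card = ∑ L ∈ A, ((C L).card - 1) := by
      rw [Finset.card_eq_sum_card_image ax El']
      refine Finset.sum_congr rfl fun L hL => ?_
      rw [fibre L hL, Finset.card_erase_of_mem]
      simp [C, memEl, one_mem]
    have e2 : El'.card + 1 = El.card := by
      rw [Finset.card_erase_add_one]; exact memEl.2 (one_mem R)
    omega
  -- equivariance
  have act_inv : ∀ g L, act g⁻¹ (act g L) = L := fun g L => by
    rw [← act_mul, inv_mul_cancel, act_one]
  have C_conj : ∀ {g}, g ∈ R → ∀ L, (C (act g L)).card = (C L).card := by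
    intro g hg L
    refine Finset.card_bij (fun k _ => g⁻¹ * k * g) (fun k hk => ?_)
      (fun a _ b _ e => by simpa using e) (fun k hk => ⟨g * k * g⁻¹, ?_, by group⟩)
    · simp only [C, Finset.mem_filter, memEl] at hk ⊢
      refine ⟨R.mul_mem (R.mul_mem (R.inv_mem hg) hk.1) hg, fun v hv => ?_⟩
      have hkv := hk.2 _ (Submodule.mem_map_of_mem (f := Matrix.mulVecLin
        (g : Matrix (Fin 3) (Fin 3) F)) hv)
      rw [mulVecLin_apply] at hkv
      rw [gl_mulVec_mul, gl_mulVec_mul, hkv, gl_inv_mulVec_mulVec]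
    · simp only [C, Finset.mem_filter, memEl] at hk ⊢
      refine ⟨R.mul_mem (R.mul_mem hg hk.1) (R.inv_mem hg), ?_⟩
      rintro _ ⟨v, hv, rfl⟩
      rw [gl_mulVec_mul, gl_mulVec_mul, mulVecLin_apply, gl_inv_mulVec_mulVec, hk.2 v hv]
  have A_closed : ∀ {g}, g ∈ R → ∀ L ∈ A, act g L ∈ A := by
    intro g hg L hL
    obtain ⟨k, hk, rfl⟩ := Finset.mem_image.1 hL
    obtain ⟨hk1, hkR⟩ := memEl'.1 hk
    have hR' : g * k * g⁻¹ ∈ R := R.mul_mem (R.mul_mem hg hkR) (R.inv_mem hg)
    have h1 : g * k * g⁻¹ ≠ 1 := fun e => hk1 (by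
      rw [show k = g⁻¹ * (g * k * g⁻¹) * g by group, e]; group)
    refine Finset.mem_image.2 ⟨g * k * g⁻¹, memEl'.2 ⟨h1, hR'⟩, ?_⟩
    rw [act_span]
    refine ax_uniq hR' h1 (gl_mulVec_ne_zero g (ax_ne hkR hk1)) ?_
    rw [gl_mulVec_mul, gl_mulVec_mul, gl_inv_mulVec_mulVec, (hav k hkR hk1).1]
  have O_mem : ∀ {L K}, K ∈ O L ↔ ∃ g ∈ R, act g L = K := by
    intro L K; simp [O, memEl]
  have self_O : ∀ L, L ∈ O L := fun L => O_mem.2 ⟨1, one_mem R, act_one L⟩
  have O_sub : ∀ L ∈ A, O L ⊆ A := fun L hL K hK => by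
    obtain ⟨g, hg, rfl⟩ := O_mem.1 hK; exact A_closed hg L hL
  have O_disj : ∀ {L M}, M ∉ O L → Disjoint (O M) (O L) := by
    intro L M hM
    refine Finset.disjoint_left.2 fun K hK hK' => hM ?_
    obtain ⟨g, hg, rfl⟩ := O_mem.1 hK
    obtain ⟨k, hk, e⟩ := O_mem.1 hK'
    exact O_mem.2 ⟨g⁻¹ * k, R.mul_mem (R.inv_mem hg) hk, by rw [act_mul, e, act_inv]⟩
  have O_sum : ∀ L, ∑ K ∈ O L, ((C K).card - 1) = (O L).card * ((C L).card - 1) := fun L => by
    rw [Finset.sum_congr rfl (g := fun _ => (C L).card - 1) fun K hK => by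
      obtain ⟨g, hg, rfl⟩ := O_mem.1 hK
      rw [C_conj hg L], Finset.sum_const, smul_eq_mul]
  have orbit_stab : ∀ L, El.card = (O L).card * (N L).card := by
    intro L
    rw [Finset.card_eq_sum_card_image (fun g => act g L) El]
    rw [Finset.sum_congr rfl (fun K hK => ?_), Finset.sum_const, smul_eq_mul]
    obtain ⟨g, hg, rfl⟩ := O_mem.1 hK
    refine Finset.card_bij (fun k _ => g⁻¹ * k) (fun k hk => ?_) (fun a _ b _ e => by simpa using e)
      (fun k hk => ⟨g * k, ?_, by group⟩)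
    · simp only [N, Finset.mem_filter, memEl] at hk ⊢
      exact ⟨R.mul_mem (R.inv_mem hg) hk.1, by rw [act_mul, hk.2, act_inv]⟩
    · simp only [N, Finset.mem_filter, memEl] at hk ⊢
      exact ⟨R.mul_mem hg hk.1, by rw [act_mul, hk.2]⟩
  -- sign on a line
  have sign_on : ∀ {g} {v : Fin 3 → F}, g ∈ R → bl ω v v ≠ 0 → act g (F ∙ v) = F ∙ v →
      (g : Matrix (Fin 3) (Fin 3) F) *ᵥ v = v ∨ (g : Matrix (Fin 3) (Fin 3) F) *ᵥ v = -v := by
    intro g v hg hv e
    rw [act_span] at e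
    have hv0 : v ≠ 0 := fun e' => hv (by simp [e', bl])
    obtain ⟨t, ht⟩ := span_eq hv0 e.symm
    have h1 := hiso g hg v v
    rw [ht] at h1
    have h3 : (t * t - 1) * bl ω v v = 0 := by
      simp only [bl, Pi.smul_apply, smul_eq_mul] at h1 ⊢
      linear_combination h1
    rcases mul_self_eq_one_iff.1 (sub_eq_zero.1 ((mul_eq_zero.1 h3).resolve_right hv)) with rfl | rfl
    · left; rw [ht, one_smul]
    · right; rw [ht, neg_one_smul]
  have N_card : ∀ (v : Fin 3 → F), bl ω v v ≠ 0 →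
      (N (F ∙ v)).card = (C (F ∙ v)).card ∨ (N (F ∙ v)).card = 2 * (C (F ∙ v)).card := by
    intro v hv
    have hC : ∀ {g}, g ∈ C (F ∙ v) ↔ g ∈ R ∧ (g : Matrix (Fin 3) (Fin 3) F) *ᵥ v = v := by
      intro g
      simp only [C, Finset.mem_filter, memEl]
      refine ⟨fun h => ⟨h.1, h.2 v (Submodule.mem_span_singleton_self v)⟩, fun h => ⟨h.1, ?_⟩⟩
      intro w hw
      obtain ⟨t, rfl⟩ := Submodule.mem_span_singleton.1 hw
      rw [mulVec_smul, h.2]
    by_cases hflip : ∃ n ∈ N (F ∙ v), (n : Matrix (Fin 3) (Fin 3) F) *ᵥ v = -v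
    · obtain ⟨n, hn, hnv⟩ := hflip
      simp only [N, Finset.mem_filter, memEl] at hn
      right
      have e : N (F ∙ v) = C (F ∙ v) ∪ (C (F ∙ v)).image (fun c => n * c) := by
        ext g
        simp only [Finset.mem_union, Finset.mem_image]
        constructor
        · intro hg
          simp only [N, Finset.mem_filter, memEl] at hg
          rcases sign_on hg.1 hv hg.2 with h1 | h1
          · exact Or.inl (hC.2 ⟨hg.1, h1⟩)
          · refine Or.inr ⟨n⁻¹ * g, hC.2 ⟨R.mul_mem (R.inv_mem hn.1) hg.1, ?_⟩, by group⟩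
            rw [gl_mulVec_mul, h1, ← hnv, gl_inv_mulVec_mulVec]
        · rintro (hg | ⟨c, hc, rfl⟩)
          · simp only [N, Finset.mem_filter, memEl]
            exact ⟨(hC.1 hg).1, by rw [act_span, (hC.1 hg).2]⟩
          · simp only [N, Finset.mem_filter, memEl]
            exact ⟨R.mul_mem hn.1 (hC.1 hc).1, by
              rw [act_mul, act_span c, (hC.1 hc).2, hn.2]⟩
      rw [e, Finset.card_union_of_disjoint, Finset.card_image_of_injective _ (mul_right_injective n)]
      · omega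
      · refine Finset.disjoint_left.2 fun g hg hg' => ?_
        obtain ⟨c, hc, rfl⟩ := Finset.mem_image.1 hg'
        have h1 := (hC.1 hg).2
        rw [gl_mulVec_mul, (hC.1 hc).2, hnv] at h1
        have : (2 : F) • v = 0 := by
          rw [two_smul]
          nth_rw 1 [← h1]
          exact neg_add_cancel v
        exact hv (by simp [(smul_eq_zero.1 this).resolve_left h2, bl])
    · left
      push Not at hflip
      congr 1
      ext g
      constructor
      · intro hg
        have hg' := hg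
        simp only [N, Finset.mem_filter, memEl] at hg'
        exact hC.2 ⟨hg'.1, (sign_on hg'.1 hv hg'.2).resolve_right (hflip g hg)⟩
      · intro hg
        simp only [N, Finset.mem_filter, memEl]
        exact ⟨(hC.1 hg).1, by rw [act_span, (hC.1 hg).2]⟩
  -- the axis of the square
  set e2 : Fin 3 → F := Pi.single 2 1 with he2
  have he20 : e2 ≠ 0 := fun e => by simpa [e2] using congrFun e 2
  have hbl2 : bl ω e2 e2 ≠ 0 := by simpa [e2, bl] using hω
  set L0 := F ∙ e2 with hL0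
  have hje : (j : Matrix (Fin 3) (Fin 3) F) *ᵥ e2 = e2 := by
    rw [hjv]; funext i; fin_cases i <;> simp [e2]
  have hfe : (f : Matrix (Fin 3) (Fin 3) F) *ᵥ e2 = -e2 := by
    rw [hfv]; funext i; fin_cases i <;> simp [e2]
  have hj1 : j ≠ 1 := fun e => by
    have h1 := congrFun (hjv (Pi.single 0 1)) 1
    rw [e, Units.val_one, one_mulVec] at h1
    simp at h1
  have hL0A : L0 ∈ A := Finset.mem_image.2 ⟨j, memEl'.2 ⟨hj1, hj⟩, ax_uniq hj hj1 he20 hje⟩
  have hjj : ∀ x : Fin 3 → F, (j : Matrix (Fin 3) (Fin 3) F) *ᵥ ((j : Matrix (Fin 3) (Fin 3) F) *ᵥ x)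
      = ![-x 0, -x 1, x 2] := fun x => by rw [hjv, hjv]; funext i; fin_cases i <;> simp
  have horder : orderOf j = 4 := by
    have : orderOf j = 2 ^ (1 + 1) := by
      refine orderOf_eq_prime_pow ?_ ?_
      · intro e
        have h1 : ((j * j : GL (Fin 3) F) : Matrix (Fin 3) (Fin 3) F) *ᵥ Pi.single 0 1
            = Pi.single 0 1 := by
          rw [show j * j = j ^ (2 ^ 1) by rw [pow_one, pow_two], e, Units.val_one, one_mulVec]
        rw [gl_mulVec_mul, hjj] at h1
        have h3 := congrFun h1 0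
        simp at h3
        exact h2 (by linear_combination -h3)
      · refine gl_ext_mulVec fun x => ?_
        rw [show j ^ (2 ^ (1 + 1)) = (j * j) * (j * j) by simp [pow_succ, mul_assoc], gl_mulVec_mul, gl_mulVec_mul,
          gl_mulVec_mul, hjj, hjj, Units.val_one, one_mulVec]
        funext i; fin_cases i <;> simp
    simpa using this
  have hfour : 4 ∣ (C L0).card := by
    let S : Subgroup (GL (Fin 3) F) :=
      { carrier := {g | g ∈ R ∧ ∀ v ∈ L0, (g : Matrix (Fin 3) (Fin 3) F) *ᵥ v = v}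
        mul_mem' := fun {a b} ha hb => ⟨R.mul_mem ha.1 hb.1, fun v hv => by
          rw [gl_mulVec_mul, hb.2 v hv, ha.2 v hv]⟩
        one_mem' := ⟨one_mem R, fun v _ => by simp⟩
        inv_mem' := fun {a} ha => ⟨R.inv_mem ha.1, fun v hv => by
          nth_rw 1 [← ha.2 v hv]; rw [gl_inv_mulVec_mulVec]⟩ }
    have hjS : j ∈ S := ⟨hj, fun v hv => by
      obtain ⟨t, rfl⟩ := Submodule.mem_span_singleton.1 hv; rw [mulVec_smul, hje]⟩
    have h1 : orderOf (⟨j, hjS⟩ : S) ∣ Nat.card S := orderOf_dvd_natCard _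
    rw [Subgroup.orderOf_mk, horder] at h1
    have e : Nat.card S = (C L0).card := Nat.subtype_card _ fun g => by simp [C, memEl]; rfl
    rwa [e] at h1
  have hN0 : (N L0).card = 2 * (C L0).card := by
    rcases N_card e2 hbl2 with h1 | h1
    · exfalso
      have hsub : C L0 ⊆ N L0 := fun g hg => by
        simp only [C, Finset.mem_filter, memEl] at hg
        simp only [N, Finset.mem_filter, memEl]
        refine ⟨hg.1, ?_⟩
        rw [hL0, act_span, hg.2 e2 (Submodule.mem_span_singleton_self _)]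
      have hfN : f ∈ N L0 := by
        simp only [N, Finset.mem_filter, memEl]
        refine ⟨hf, ?_⟩
        rw [hL0, act_span, hfe, ← neg_one_smul F e2]
        exact Submodule.span_singleton_smul_eq (IsUnit.mk0 _ (neg_ne_zero.2 one_ne_zero)) _
      rw [← Finset.eq_of_subset_of_card_le hsub h1.le] at hfN
      simp only [C, Finset.mem_filter, memEl] at hfN
      have h3 := congrFun ((hfN.2 e2 (Submodule.mem_span_singleton_self _)).symm.trans hfe) 2
      simp [e2] at h3
      exact h2 (by linear_combination h3)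
    · exact h1
  -- sizes
  have hC2 : ∀ L ∈ A, 2 ≤ (C L).card := by
    intro L hL
    obtain ⟨g, hg, rfl⟩ := Finset.mem_image.1 hL
    have hm : g ∈ (C (ax g)).erase 1 := by
      rw [← fibre _ hL]; exact Finset.mem_filter.2 ⟨hg, rfl⟩
    have h1 := Finset.card_pos.2 ⟨g, hm⟩
    rw [Finset.card_erase_of_mem (by simp [C, memEl, one_mem])] at h1
    omega
  have hdN : ∀ L ∈ A, ∃ d, (d = 1 ∨ d = 2) ∧ (N L).card = d * (C L).card := by
    intro L hL
    obtain ⟨g, hg, rfl⟩ := Finset.mem_image.1 hL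
    obtain ⟨hg1, hgR⟩ := memEl'.1 hg
    rcases N_card _ (hav g hgR hg1).2 with h1 | h1
    · exact ⟨1, Or.inl rfl, by rw [one_mul]; exact h1⟩
    · exact ⟨2, Or.inr rfl, h1⟩
  have ho_le : (O L0).card = 1 ∨ (O L0).card = 3 := by
    by_cases h1 : (O L0).card = 1
    · exact Or.inl h1
    right
    have ho2 : 2 ≤ (O L0).card := by
      have := Finset.card_pos.2 ⟨_, self_O L0⟩; omega
    have g0 : El.card = 2 * ((O L0).card * (C L0).card) := by
      rw [orbit_stab L0, hN0]; ring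
    have hc0 := hC2 L0 hL0A
    have hsplit : ∀ (S : Finset (Submodule F (Fin 3 → F))) L, O L ⊆ S →
        ∑ K ∈ S, ((C K).card - 1) =
          (O L).card * ((C L).card - 1) + ∑ K ∈ S \ O L, ((C K).card - 1) := fun S L h => by
      rw [← O_sum L, add_comm, Finset.sum_sdiff h]
    have lower : ∀ L ∈ A, El.card ≤ 4 * ((O L).card * ((C L).card - 1)) := by
      intro L hL
      obtain ⟨d, hd, e⟩ := hdN L hL
      rw [orbit_stab L, e]
      have := hC2 L hL
      have : (C L).card ≤ 2 * ((C L).card - 1) := by omega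
      rcases hd with rfl | rfl <;> nlinarith
    have tot := total
    rw [hsplit A L0 (O_sub L0 hL0A)] at tot
    have p0 : 2 * ((O L0).card * ((C L0).card - 1)) + 2 * (O L0).card = El.card := by
      rw [g0, Nat.mul_sub, mul_one]
      have : (O L0).card ≤ (O L0).card * (C L0).card := Nat.le_mul_of_pos_right _ (by omega)
      omega
    have p1 : 8 * (O L0).card ≤ El.card := by
      rw [g0]
      have := Nat.le_of_dvd (by omega) hfour
      nlinarith
    set A1 := A \ O L0 with hA1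
    rcases A1.eq_empty_or_nonempty with e | ⟨L1, hL1⟩
    · rw [e, Finset.sum_empty] at tot; omega
    obtain ⟨hL1A, hL1O⟩ := Finset.mem_sdiff.1 hL1
    have s1 : O L1 ⊆ A1 := fun K hK => Finset.mem_sdiff.2
      ⟨O_sub L1 hL1A hK, Finset.disjoint_left.1 (O_disj hL1O) hK⟩
    rw [hsplit A1 L1 s1] at tot
    obtain ⟨d1, hd1, n1⟩ := hdN L1 hL1A
    have g1 : El.card = d1 * ((O L1).card * (C L1).card) := by rw [orbit_stab L1, n1]; ring
    set A2 := A1 \ O L1 with hA2
    rcases A2.eq_empty_or_nonempty with e | ⟨L2, hL2⟩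
    · rw [e, Finset.sum_empty] at tot
      have c1 := hC2 L1 hL1A
      have q1 : 2 * (O L1).card ≤ (O L1).card * (C L1).card := by nlinarith
      have q2 : (O L1).card * (C L1).card = 2 * (O L1).card ∨
          3 * (O L1).card ≤ (O L1).card * (C L1).card := by
        rcases (show (C L1).card = 2 ∨ 3 ≤ (C L1).card by omega) with h | h
        · exact Or.inl (by rw [h]; ring)
        · exact Or.inr (by nlinarith)
      simp only [Nat.mul_sub, mul_one] at tot p0
      rcases hd1 with rfl | rfl <;> omega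
    obtain ⟨hL2A1, hL2O⟩ := Finset.mem_sdiff.1 hL2
    obtain ⟨hL2A, hL2O0⟩ := Finset.mem_sdiff.1 hL2A1
    have s2 : O L2 ⊆ A2 := fun K hK => Finset.mem_sdiff.2 ⟨Finset.mem_sdiff.2
      ⟨O_sub L2 hL2A hK, Finset.disjoint_left.1 (O_disj hL2O0) hK⟩,
      Finset.disjoint_left.1 (O_disj hL2O) hK⟩
    rw [hsplit A2 L2 s2] at tot
    obtain ⟨d2, hd2, n2⟩ := hdN L2 hL2A
    have g2 : El.card = d2 * ((O L2).card * (C L2).card) := by rw [orbit_stab L2, n2]; ring
    rcases (A2 \ O L2).eq_empty_or_nonempty with e | ⟨L3, hL3⟩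
    · rw [e, Finset.sum_empty] at tot
      exact arith_orbits g0 hfour (by omega) ho2 hd1 g1 (hC2 L1 hL1A) hd2 g2 (hC2 L2 hL2A) (by omega)
    · obtain ⟨hL3A2, hL3O⟩ := Finset.mem_sdiff.1 hL3
      obtain ⟨hL3A1, hL3O1⟩ := Finset.mem_sdiff.1 hL3A2
      obtain ⟨hL3A, hL3O0⟩ := Finset.mem_sdiff.1 hL3A1
      have s3 : O L3 ⊆ A2 \ O L2 := fun K hK => Finset.mem_sdiff.2 ⟨Finset.mem_sdiff.2
        ⟨Finset.mem_sdiff.2 ⟨O_sub L3 hL3A hK, Finset.disjoint_left.1 (O_disj hL3O0) hK⟩,
          Finset.disjoint_left.1 (O_disj hL3O1) hK⟩, Finset.disjoint_left.1 (O_disj hL3O) hK⟩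
      rw [hsplit _ L3 s3] at tot
      have := lower L1 hL1A; have := lower L2 hL2A; have := lower L3 hL3A
      omega
  -- the image of the axis
  set v : Fin 3 → F := (h : Matrix (Fin 3) (Fin 3) F) *ᵥ e2 with hv
  have hv0 : v ≠ 0 := gl_mulVec_ne_zero h he20
  by_cases hv2 : v 2 = 0
  · exact Or.inl hv2
  right
  have hLv : act h L0 ∈ O L0 := O_mem.2 ⟨h, hh, rfl⟩
  have hin : ∀ L ∈ O L0, act j L ∈ O L0 := fun L hL => by
    obtain ⟨g, hg, rfl⟩ := O_mem.1 hL
    exact O_mem.2 ⟨j * g, R.mul_mem hj hg, act_mul j g L0⟩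
  have hjL0 : act j L0 = L0 := by rw [hL0, act_span, hje]
  have same : act h L0 = L0 → v 0 = 0 ∧ v 1 = 0 := fun e => by
    rw [hL0, act_span, ← hv] at e
    obtain ⟨t, ht⟩ := span_eq he20 e.symm
    rw [ht]; simp [e2]
  by_cases hsame : act h L0 = L0
  · exact same hsame
  -- the square of the generator fixes both other lines
  have hfix2 : act (j * j) (act h L0) = act h L0 := by
    by_cases h1 : act j (act h L0) = act h L0
    · rw [act_mul, h1, h1]
    rw [act_mul]
    have hne : act j (act h L0) ≠ L0 := fun e => hsame (by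
      rw [← act_inv j (act h L0), e]
      nth_rw 1 [← hjL0]
      rw [act_inv])
    have hne2 : act j (act j (act h L0)) ≠ L0 := fun e => hne (by
      rw [← act_inv j (act j (act h L0)), e]
      nth_rw 1 [← hjL0]
      rw [act_inv])
    have hne3 : act j (act j (act h L0)) ≠ act j (act h L0) := fun e => h1 (by
      have := congrArg (act j⁻¹) e
      rwa [act_inv, act_inv] at this)
    by_contra hne4
    have hsub : ({L0, act h L0, act j (act h L0), act j (act j (act h L0))} :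
        Finset (Submodule F (Fin 3 → F))) ⊆ O L0 := by
      intro K hK
      simp only [Finset.mem_insert, Finset.mem_singleton] at hK
      rcases hK with rfl | rfl | rfl | rfl
      exacts [self_O L0, hLv, hin _ hLv, hin _ (hin _ hLv)]
    have h4 := Finset.card_le_card hsub
    rw [Finset.card_insert_of_notMem (by simp [Ne.symm hsame, hne.symm, hne2.symm]),
      Finset.card_insert_of_notMem (by simp [Ne.symm h1, Ne.symm hne4]),
      Finset.card_pair hne3.symm] at h4
    omega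
  rw [hL0, act_span h, ← hv, act_span, gl_mulVec_mul, hjj] at hfix2
  obtain ⟨t, ht⟩ := span_eq hv0 hfix2.symm
  have e0 := congrFun ht 0
  have e1 := congrFun ht 1
  have e3 := congrFun ht 2
  simp at e0 e1 e3
  have ht1 : t = 1 := mul_right_cancel₀ hv2 (by linear_combination -e3)
  subst ht1
  exact ⟨(mul_eq_zero.1 (show (2 : F) * v 0 = 0 by linear_combination -e0)).resolve_left h2,
    (mul_eq_zero.1 (show (2 : F) * v 1 = 0 by linear_combination -e1)).resolve_left h2⟩

end CfsgLib.ClassicalMax.OmL
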