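/-
Five coordinates: a short vector which is not a coordinate or half vector gives all unit vectors.
-/
import Cfsg.Agent.Lib.ClassicalMax.FiveSpaceEscape
import Cfsg.Agent.Lib.ClassicalMax.FiveSpaceRoot
import Cfsg.Agent.Lib.ClassicalMax.OrthMonAxes
set_option autoImplicit false
set_option linter.unusedSectionVars false

namespace CfsgLib.ClassicalMax.FiveSpace

open Matrix Module

variable {F : Type*} [Field F]

/-- Three coordinates and two further ones. -/
structure Split (τ : Fin 3 → Fin 5) (d e : Fin 5) : Prop where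
  n01 : τ 0 ≠ τ 1
  n02 : τ 0 ≠ τ 2
  n0d : τ 0 ≠ d
  n0e : τ 0 ≠ e
  n12 : τ 1 ≠ τ 2
  n1d : τ 1 ≠ d
  n1e : τ 1 ≠ e
  n2d : τ 2 ≠ d
  n2e : τ 2 ≠ e
  nde : d ≠ e

/-- The three chosen coordinates. -/
abbrev res (τ : Fin 3 → Fin 5) (x : Fin 5 → F) : Fin 3 → F := fun i => x (τ i)

/-- The vector with the given three coordinates. -/
def em (τ : Fin 3 → Fin 5) (y : Fin 3 → F) : Fin 5 → F :=
  y 0 • E (τ 0) + y 1 • E (τ 1) + y 2 • E (τ 2)

variable {τ : Fin 3 → Fin 5} {d e : Fin 5} (T : Split τ d e)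

include T

lemma res_em (y : Fin 3 → F) : res τ (em τ y) = y := by
  funext i
  fin_cases i <;>
    simp [res, em, E, T.n01, T.n02, T.n12, T.n01.symm, T.n02.symm, T.n12.symm]

lemma em_d (y : Fin 3 → F) : em τ y d = 0 := by simp [em, E, T.n0d, T.n1d, T.n2d]

lemma em_e (y : Fin 3 → F) : em τ y e = 0 := by simp [em, E, T.n0e, T.n1e, T.n2e]

lemma dot_split (x y : Fin 5 → F) : x ⬝ᵥ y = res τ x ⬝ᵥ res τ y + x d * y d + x e * y e := by
  rw [dotProduct, sum_five T.n01 T.n02 T.n0d T.n0e T.n12 T.n1d T.n1e T.n2d T.n2e T.nde]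
  simp [dotProduct, Fin.sum_univ_three, res]

lemma split_ext {x y : Fin 5 → F} (h : res τ x = res τ y) (hd : x d = y d) (he : x e = y e) :
    x = y :=
  funext (forall_five T.n01 T.n02 T.n0d T.n0e T.n12 T.n1d T.n1e T.n2d T.n2e T.nde (congrFun h 0)
    (congrFun h 1) (congrFun h 2) hd he)

omit T

variable (M : Subgroup (GL (Fin 5) F))

/-- An element of `M` fixing two coordinates acting in the given way on the other three. -/
def Fx (τ : Fin 3 → Fin 5) (d e : Fin 5) (φ : (Fin 3 → F) → (Fin 3 → F)) : Prop :=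
  ∃ g ∈ M, ∀ x, res τ (ac g x) = φ (res τ x) ∧ ac g x d = x d ∧ ac g x e = x e

/-- Signs on two coordinates, possibly interchanged. -/
def W (d e : Fin 5) (g : GL (Fin 5) F) : Prop :=
  ∃ s t : F, s * s = 1 ∧ t * t = 1 ∧
    ((∀ x, ac g x d = s * x d ∧ ac g x e = t * x e) ∨ ∀ x, ac g x d = s * x e ∧ ac g x e = t * x d)

omit M in
lemma W_mul {g h : GL (Fin 5) F} (hg : W d e g) (hh : W d e h) : W d e (g * h) := by
  obtain ⟨s, t, hs, ht, hg⟩ := hg
  obtain ⟨s', t', hs', ht', hh⟩ := hh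
  rcases hg with hg | hg <;> rcases hh with hh | hh
  · exact ⟨s * s', t * t', by linear_combination (s' * s') * hs + hs',
      by linear_combination (t' * t') * ht + ht', Or.inl fun x => by
        rw [ac_mul, (hg _).1, (hg _).2, (hh x).1, (hh x).2]; constructor <;> ring⟩
  · exact ⟨s * s', t * t', by linear_combination (s' * s') * hs + hs',
      by linear_combination (t' * t') * ht + ht', Or.inr fun x => by
        rw [ac_mul, (hg _).1, (hg _).2, (hh x).1, (hh x).2]; constructor <;> ring⟩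
  · exact ⟨s * t', t * s', by linear_combination (t' * t') * hs + ht',
      by linear_combination (s' * s') * ht + hs', Or.inr fun x => by
        rw [ac_mul, (hg _).1, (hg _).2, (hh x).1, (hh x).2]; constructor <;> ring⟩
  · exact ⟨s * t', t * s', by linear_combination (t' * t') * hs + ht',
      by linear_combination (s' * s') * ht + hs', Or.inl fun x => by
        rw [ac_mul, (hg _).1, (hg _).2, (hh x).1, (hh x).2]; constructor <;> ring⟩

omit M in
lemma W_four {g : GL (Fin 5) F} (hg : W d e g) (x : Fin 5 → F) :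
    ac (g ^ 4) x d = x d ∧ ac (g ^ 4) x e = x e := by
  obtain ⟨s, t, hs, ht, hg⟩ := hg
  rw [show g ^ 4 = g * (g * (g * g)) by simp only [pow_succ, pow_zero, one_mul, mul_assoc], ac_mul, ac_mul, ac_mul]
  rcases hg with hg | hg
  all_goals
    have g1 := fun y => (hg y).1
    have g2 := fun y => (hg y).2
    simp only [g1, g2]
  · constructor
    · linear_combination (s * s + 1) * x d * hs
    · linear_combination (t * t + 1) * x e * ht
  · constructor
    · linear_combination (t * t) * x d * hs + x d * ht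
    · linear_combination (t * t) * x e * hs + x e * ht

variable [Fintype F] {M} (S : Five M)

include S

/-- An even change of signs. -/
lemma flips {p q : Fin 5} (hpq : p ≠ q) :
    ∃ g ∈ M, ∀ x l, ac g x l = if l = p ∨ l = q then -x l else x l := by
  obtain ⟨-, m, hm, hmx⟩ := S.coord p
  obtain ⟨-, m', hm', hm'x⟩ := S.coord q
  refine ⟨m * m', M.mul_mem hm hm', fun x l => ?_⟩
  rw [ac_mul, hm'x, hmx]
  simp only [dotProduct_single, mul_one, Pi.sub_apply, Pi.smul_apply, smul_eq_mul, E]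
  by_cases h1 : l = p
  · subst h1; simp [hpq, hpq.symm]; ring
  by_cases h3 : l = q
  · subst h3; simp [hpq, hpq.symm]; ring
  simp [h1, h3]

include T

lemma Fx_comp {φ ψ : (Fin 3 → F) → (Fin 3 → F)} (hφ : Fx M τ d e φ) (hψ : Fx M τ d e ψ) :
    Fx M τ d e (φ ∘ ψ) := by
  obtain ⟨g, hg, hgx⟩ := hφ
  obtain ⟨h, hh, hhx⟩ := hψ
  exact ⟨g * h, M.mul_mem hg hh, fun x => by
    rw [ac_mul, (hgx _).1, (hgx _).2.1, (hgx _).2.2, (hhx x).1, (hhx x).2.1, (hhx x).2.2]
    exact ⟨rfl, rfl, rfl⟩⟩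

omit S in
lemma Fx_id : Fx M τ d e id := ⟨1, M.one_mem, fun x => by simp [ac]⟩

lemma Fx_inv {φ : (Fin 3 → F) → (Fin 3 → F)} (hφ : Fx M τ d e φ) :
    ∃ ψ, Fx M τ d e ψ ∧ ∀ x, ψ (φ x) = x := by
  obtain ⟨g, hg, hgx⟩ := hφ
  haveI : Finite (GL (Fin 5) F) := inferInstance
  have hpow : ∀ n : ℕ, ∀ x, res τ (ac (g ^ n) x) = φ^[n] (res τ x) ∧ ac (g ^ n) x d = x d ∧
      ac (g ^ n) x e = x e := by
    intro n
    induction n with
    | zero => intro x; simp [ac]
    | succ n ih =>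
      intro x
      rw [pow_succ', ac_mul, (hgx _).1, (hgx _).2.1, (hgx _).2.2, (ih x).1, (ih x).2.1, (ih x).2.2,
        Function.iterate_succ_apply']
      exact ⟨rfl, rfl, rfl⟩
  have hpos := orderOf_pos g
  refine ⟨φ^[orderOf g - 1], ⟨_, M.pow_mem hg _, hpow _⟩, fun x => ?_⟩
  have h := (hpow (orderOf g) (em τ x)).1
  rw [pow_orderOf_eq_one, res_em T] at h
  simp only [ac, Units.val_one, one_mulVec] at h
  change res τ (em τ x) = _ at h
  rw [res_em T] at h
  conv_rhs => rw [h, show orderOf g = orderOf g - 1 + 1 by omega, Function.iterate_succ_apply]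

/-- A root element fixing the other two coordinates. -/
lemma exists_root_five {b : Fin 5 → F} (hb : Rf M b) (hbd : b d = 0) (hbe : b e = 0)
    (hb2 : b (τ 2) ≠ 0) (hhalf : 2 * (b (τ 2) * b (τ 2)) ≠ 1) (hb01 : b (τ 0) ≠ 0 ∨ b (τ 1) ≠ 0) :
    ∃ s α : Fin 3 → F, s ≠ 0 ∧ s ⬝ᵥ s = 0 ∧ α ⬝ᵥ s = 0 ∧ α ⬝ᵥ α ≠ 0 ∧
      ∀ c : F, Fx M τ d e (U s (c • α)) := by
  classical
  have h2 := S.two
  haveI : Finite (GL (Fin 3) F) := inferInstance
  let Lift : GL (Fin 3) F → Prop := fun k => (k : Matrix (Fin 3) (Fin 3) F).det = 1 ∧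
    ∃ g ∈ M, (∀ x, res τ (ac g x) = (k : Matrix (Fin 3) (Fin 3) F) *ᵥ res τ x) ∧ W d e g
  have one : Lift 1 := ⟨by simp, 1, M.one_mem, fun x => by simp [ac], 1, 1, one_mul 1, one_mul 1,
    Or.inl fun x => by simp [ac]⟩
  have mul : ∀ {a c}, Lift a → Lift c → Lift (a * c) := by
    rintro a c ⟨ha, g, hg, hgx, hgW⟩ ⟨hc, h, hh, hhx, hhW⟩
    refine ⟨by rw [Units.val_mul, det_mul, ha, hc, one_mul], g * h, M.mul_mem hg hh, fun x => ?_,
      W_mul hgW hhW⟩
    rw [ac_mul, hgx, hhx, gl_mulVec_mul]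
  have pow : ∀ {a} (n : ℕ), Lift a → Lift (a ^ n) := fun n ha => by
    induction n with
    | zero => simpa using one
    | succ n ih => rw [pow_succ]; exact mul ih ha
  let R : Subgroup (GL (Fin 3) F) :=
    { carrier := {k | Lift k}
      one_mem' := one
      mul_mem' := mul
      inv_mem' := fun {a} ha => by
        have e : a⁻¹ = a ^ (orderOf a - 1) := inv_eq_of_mul_eq_one_right (by
          rw [← pow_succ', Nat.sub_add_cancel (orderOf_pos a), pow_orderOf_eq_one])
        change Lift a⁻¹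
        rw [e]
        exact pow _ ha }
  have memR : ∀ {k}, k ∈ R ↔ Lift k := Iff.rfl
  have hblone : ∀ x y : Fin 3 → F, OmL.bl 1 x y = x ⬝ᵥ y := fun x y => by
    simp [OmL.bl, dotProduct, Fin.sum_univ_three]
  have hiso : ∀ k ∈ R, ∀ x y : Fin 3 → F, ((k : Matrix (Fin 3) (Fin 3) F) *ᵥ x) ⬝ᵥ
      ((k : Matrix (Fin 3) (Fin 3) F) *ᵥ y) = x ⬝ᵥ y := by
    rintro k ⟨-, g, hg, hgx, s, t, -, -, hW⟩ x y
    have h := S.iso g hg (em τ x) (em τ y)
    rw [dot_split T, dot_split T, hgx, hgx, res_em T, res_em T, em_d T, em_e T] at h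
    have z : ∀ y, ac g (em τ y) d = 0 ∧ ac g (em τ y) e = 0 := fun y => by
      rcases hW with hW | hW <;> rw [(hW _).1, (hW _).2, em_d T, em_e T] <;> simp
    rw [(z x).1, (z x).2] at h
    linear_combination h
  -- the three elements
  let jm : Matrix (Fin 3) (Fin 3) F := !![0, -1, 0; 1, 0, 0; 0, 0, 1]
  let fm : Matrix (Fin 3) (Fin 3) F := !![1, 0, 0; 0, -1, 0; 0, 0, -1]
  have hjd : jm.det = 1 := by simp [jm, det_fin_three]
  have hfd : fm.det = 1 := by simp [fm, det_fin_three]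
  let j := Matrix.GeneralLinearGroup.mkOfDetNeZero jm (by rw [hjd]; exact one_ne_zero)
  let f := Matrix.GeneralLinearGroup.mkOfDetNeZero fm (by rw [hfd]; exact one_ne_zero)
  have hjv : ∀ x, (j : Matrix (Fin 3) (Fin 3) F) *ᵥ x = ![-x 1, x 0, x 2] := fun x => by
    change jm *ᵥ x = _
    funext i; fin_cases i <;> simp [jm, mulVec, dotProduct, Fin.sum_univ_three]
  have hfv : ∀ x, (f : Matrix (Fin 3) (Fin 3) F) *ᵥ x = ![x 0, -x 1, -x 2] := fun x => by
    change fm *ᵥ x = _
    funext i; fin_cases i <;> simp [fm, mulVec, dotProduct, Fin.sum_univ_three]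
  have hjR : j ∈ R := by
    refine ⟨hjd, ?_⟩
    obtain ⟨g1, hg1, g1x⟩ := flips S T.n0d
    obtain ⟨g2, hg2, g2x⟩ := S.dbl (τ 0) (τ 1) d e T.n01 T.nde T.n0d T.n0e T.n1d T.n1e
    refine ⟨g1 * g2, M.mul_mem hg1 hg2, fun x => ?_, -1, 1, by ring, by ring, Or.inr fun x => ?_⟩
    · rw [hjv]
      funext i
      simp only [res, ac_mul, g1x, g2x, Equiv.Perm.mul_apply]
      fin_cases i <;>
        simp [T.n01, T.n02, T.n12, T.n0d, T.n1d, T.n2d, T.n01.symm, T.n02.symm, T.n12.symm,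
          Equiv.swap_apply_of_ne_of_ne, T.n0e, T.n1e, T.n2e]
    · simp only [ac_mul, g1x, g2x, Equiv.Perm.mul_apply]
      constructor <;>
        simp [T.nde, T.nde.symm, T.n0d.symm, T.n1d.symm, T.n0e.symm, T.n1e.symm,
          Equiv.swap_apply_of_ne_of_ne]
  have hfR : f ∈ R := by
    refine ⟨hfd, ?_⟩
    obtain ⟨g1, hg1, g1x⟩ := flips S T.n12
    refine ⟨g1, hg1, fun x => ?_, 1, 1, one_mul 1, one_mul 1, Or.inl fun x => ?_⟩
    · rw [hfv]
      funext i
      simp only [res, g1x]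
      fin_cases i <;> simp [T.n01, T.n02, T.n12.symm]
    · simp [g1x, T.n1d.symm, T.n2d.symm, T.n1e.symm, T.n2e.symm]
  set b3 := res τ b with hb3
  have hb31 : b3 ⬝ᵥ b3 = 1 := by
    have h := hb.1
    rw [dot_split T, hbd, hbe] at h
    linear_combination h
  let hm : Matrix (Fin 3) (Fin 3) F := -(1 + vecMulVec (-(2 : F) • b3) b3)
  have hhd : hm.det = 1 := by
    simp only [hm]
    rw [det_neg, vecMulVec_eq Unit, det_one_add_replicateCol_mul_replicateRow, dotProduct_smul, hb31,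
      Fintype.card_fin, smul_eq_mul]
    ring
  let h := Matrix.GeneralLinearGroup.mkOfDetNeZero hm (by rw [hhd]; exact one_ne_zero)
  have hhv : ∀ x, (h : Matrix (Fin 3) (Fin 3) F) *ᵥ x = (2 * (x ⬝ᵥ b3)) • b3 - x := fun x => by
    change hm *ᵥ x = _
    simp only [hm]
    rw [neg_mulVec, add_mulVec, one_mulVec, vecMulVec_mulVec, dotProduct_comm b3 x]
    funext i
    simp
    ring
  have hhR : h ∈ R := by
    refine ⟨hhd, ?_⟩
    obtain ⟨-, m, hmM, hmx⟩ := hb
    refine ⟨m, hmM, fun x => ?_, -1, -1, by ring, by ring, Or.inl fun x => ?_⟩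
    · rw [hhv, hmx, dot_split T x b, hbd, hbe]
      funext i
      simp [res, hb3]
    · simp [hmx, hbd, hbe]
  -- an element without anisotropic axis
  obtain ⟨k, hkR, hfix⟩ : ∃ k ∈ R, ∀ v : Fin 3 → F, (k : Matrix (Fin 3) (Fin 3) F) *ᵥ v = v →
      v ⬝ᵥ v = 0 := by
    by_contra hcon
    push Not at hcon
    have hR : ∀ g ∈ R, g ≠ 1 → ∃ v, (g : Matrix (Fin 3) (Fin 3) F) *ᵥ v = v ∧ OmL.bl 1 v v ≠ 0 := by
      intro g hg _
      obtain ⟨v, hv1, hv2⟩ := hcon g hg
      exact ⟨v, hv1, by rw [hblone]; exact hv2⟩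
    have hax := OmL.axes (1 : F) one_ne_zero h2 R
      (fun g hg x y => by rw [hblone, hblone]; exact hiso g hg x y) (fun g hg => hg.1) hR hjR hfR hjv
      hfv h hhR
    rw [hhv] at hax
    simp only [Pi.sub_apply, Pi.smul_apply, smul_eq_mul, single_dotProduct, one_mul] at hax
    have hc : b3 2 = b (τ 2) := rfl
    rcases hax with hax | ⟨hax0, hax1⟩
    · simp only [Pi.single_eq_same, hc] at hax
      exact hhalf (by linear_combination hax)
    · simp [hc] at hax0 hax1
      rcases hb01 with h0 | h0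
      · exact (mul_ne_zero (mul_ne_zero h2 hb2) h0) (by
          rcases hax0 with hh | hh
          · rcases hh with hh | hh
            · exact absurd hh h2
            · exact absurd hh hb2
          · exact absurd hh h0)
      · exact (mul_ne_zero (mul_ne_zero h2 hb2) h0) (by
          rcases hax1 with hh | hh
          · rcases hh with hh | hh
            · exact absurd hh h2
            · exact absurd hh hb2
          · exact absurd hh h0)
  obtain ⟨s, α, hs0, hs, ha, haa, hkU⟩ := exists_root h2 k (hiso k hkR) hkR.1 hfix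
  obtain ⟨-, g, hg, hgx, hgW⟩ := hkR
  refine ⟨s, α, hs0, hs, ha, haa, fun c => ?_⟩
  have hpow : ∀ n : ℕ, ∀ x, res τ (ac (g ^ n) x) = U s ((n : F) • α) (res τ x) := by
    intro n
    induction n with
    | zero => intro x; simp [ac, U_zero]
    | succ n ih =>
      intro x
      rw [pow_succ', ac_mul, hgx, ih, hkU, U_mul h2 hs (by simp [ha]) ha, Nat.cast_succ, add_smul,
        one_smul]
  have fixpow : ∀ n : ℕ, ∀ x, ac ((g ^ 4) ^ n) x d = x d ∧ ac ((g ^ 4) ^ n) x e = x e := by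
    intro n
    induction n with
    | zero => intro x; simp [ac]
    | succ n ih =>
      intro x
      rw [pow_succ', ac_mul, (W_four hgW _).1, (W_four hgW _).2, (ih x).1, (ih x).2]
      exact ⟨rfl, rfl⟩
  obtain ⟨n, hn⟩ := S.prime (c / 4)
  refine ⟨g ^ (4 * n), M.pow_mem hg _, fun x => ⟨?_, ?_, ?_⟩⟩
  · rw [hpow]
    congr 2
    push_cast
    rw [← hn, mul_comm, div_mul_cancel₀ _ (by
      rw [show (4 : F) = 2 * 2 by norm_num]; exact mul_ne_zero h2 h2)]
  all_goals
    rw [pow_mul]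
  · exact (fixpow n x).1
  · exact (fixpow n x).2

omit S T

/-- Every vector of the sphere in three coordinates, the other two fixed. -/
def Tri (M : Subgroup (GL (Fin 5) F)) (d e : Fin 5) : Prop :=
  d ≠ e ∧ ∀ v w : Fin 5 → F, v d = 0 → v e = 0 → w d = 0 → w e = 0 → v ⬝ᵥ v ≠ 0 → w ⬝ᵥ w = v ⬝ᵥ v →
    ∃ g ∈ M, ac g v = w ∧ ac g (E d) = E d ∧ ac g (E e) = E e

include S T

lemma tri_of_short (hp3 : (3 : F) ≠ 0) {b : Fin 5 → F} (hb : Rf M b) (hbd : b d = 0) (hbe : b e = 0)
    (hb2 : b (τ 2) ≠ 0) (hhalf : 2 * (b (τ 2) * b (τ 2)) ≠ 1) (hb01 : b (τ 0) ≠ 0 ∨ b (τ 1) ≠ 0) :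
    Tri M d e := by
  classical
  have h2 := S.two
  obtain ⟨s, α, hs0, hs, ha, haa, hU⟩ := exists_root_five T S hb hbd hbe hb2 hhalf hb01
  obtain ⟨i, hi⟩ : ∃ i, s i ≠ 0 := Function.ne_iff.1 hs0
  -- the reflection of the root group
  let Fl : (Fin 3 → F) → (Fin 3 → F) := fun x l => if l = i then -x l else x l
  have Fdot : ∀ x y, Fl x ⬝ᵥ Fl y = x ⬝ᵥ y := fun x y => Finset.sum_congr rfl fun l _ => by
    by_cases h : l = i <;> simp [Fl, h]
  have FF : ∀ x, Fl (Fl x) = x := fun x => funext fun l => by by_cases h : l = i <;> simp [Fl, h]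
  have hUf : ∀ c : F, Fx M τ d e (U (Fl s) (c • Fl α)) := by
    intro c
    have hid' : τ i ≠ d := by fin_cases i; exacts [T.n0d, T.n1d, T.n2d]
    have hie : τ i ≠ e := by fin_cases i; exacts [T.n0e, T.n1e, T.n2e]
    obtain ⟨G, hG, hGx⟩ := flips S hid'
    have resG : ∀ x, res τ (ac G x) = Fl (res τ x) := fun x => funext fun l => by
      have hl : τ l ≠ d := by fin_cases l; exacts [T.n0d, T.n1d, T.n2d]
      have inj : τ l = τ i ↔ l = i := ⟨fun h => by
        fin_cases l <;> fin_cases i <;> first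
          | rfl
          | exact absurd h T.n01 | exact absurd h.symm T.n01
          | exact absurd h T.n02 | exact absurd h.symm T.n02
          | exact absurd h T.n12 | exact absurd h.symm T.n12, fun h => by rw [h]⟩
      simp [res, Fl, hGx, hl, inj]
    have Gd : ∀ x, ac G x d = -x d ∧ ac G x e = x e := fun x => by
      simp [hGx, hie.symm, T.nde.symm]
    obtain ⟨g, hg, hgx⟩ := hU c
    refine ⟨G * g * G, M.mul_mem (M.mul_mem hG hg) hG, fun x => ⟨?_, ?_, ?_⟩⟩
    · rw [ac_mul, ac_mul, resG, (hgx _).1, resG]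
      set y := res τ x
      have e1 : Fl y ⬝ᵥ s = y ⬝ᵥ Fl s := by
        conv_lhs => rw [← FF s]
        rw [Fdot]
      have e2 : Fl y ⬝ᵥ (c • α) = y ⬝ᵥ (c • Fl α) := by
        rw [dotProduct_smul, dotProduct_smul]
        conv_lhs => rw [← FF α]
        rw [Fdot]
      have e3 : (c • α) ⬝ᵥ (c • α) = (c • Fl α) ⬝ᵥ (c • Fl α) := by
        simp only [smul_dotProduct, dotProduct_smul, Fdot]
      funext l
      simp only [U, e1, e2, e3, Fl, Pi.add_apply, Pi.sub_apply, Pi.smul_apply, smul_eq_mul]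
      by_cases h : l = i <;> simp [h] <;> ring
    · rw [ac_mul, ac_mul, (Gd _).1, (hgx _).2.1, (Gd x).1, neg_neg]
    · rw [ac_mul, ac_mul, (Gd _).2, (hgx _).2.2, (Gd x).2]
  set t := Fl s with ht
  have htt : t ⬝ᵥ t = 0 := by rw [Fdot, hs]
  have hβ : s ⬝ᵥ t ≠ 0 := by
    have e : s ⬝ᵥ t = s ⬝ᵥ s - 2 * (s i * s i) := by
      have : t = s - (2 * s i) • Pi.single i 1 := funext fun l => by
        by_cases h : l = i
        · subst h; simp [ht, Fl]; ring
        · simp [ht, Fl, h]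
      rw [this, dotProduct_sub, dotProduct_smul, dotProduct_single]
      simp
      ring
    rw [e, hs, zero_sub]
    exact neg_ne_zero.2 (mul_ne_zero h2 (mul_ne_zero hi hi))
  have all : ∀ {s t α : Fin 3 → F}, s ⬝ᵥ s = 0 → t ⬝ᵥ t = 0 → s ⬝ᵥ t ≠ 0 → α ⬝ᵥ s = 0 →
      α ⬝ᵥ α ≠ 0 → (∀ c : F, Fx M τ d e (U s (c • α))) →
      ∀ c : F, Fx M τ d e (U s (c • crossProduct s t)) := by
    intro s t α hs ht hβ ha haa hU c
    set n := crossProduct s t with hn
    have hd := decomp hs ht α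
    rw [ha, ← hn] at hd
    simp only [mul_zero, zero_smul, add_zero] at hd
    have hαn : α ⬝ᵥ n ≠ 0 := fun e => by
      rw [e, zero_smul, sub_zero] at hd
      have h' := congrArg (fun y => α ⬝ᵥ y) hd
      simp only [dotProduct_smul, smul_eq_mul, ha, mul_zero] at h'
      exact mul_ne_zero (mul_ne_zero hβ hβ) haa h'
    obtain ⟨P, hP⟩ : ∃ P, P * (α ⬝ᵥ n) = 1 := ⟨_, inv_mul_cancel₀ hαn⟩
    have hns : (c • n) ⬝ᵥ s = 0 := by rw [smul_dotProduct, cross_dot_left, smul_zero]
    have e : (-(c * P) * ((s ⬝ᵥ t) * (s ⬝ᵥ t))) • α =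
        c • n + (-(c * P) * ((s ⬝ᵥ t) * (α ⬝ᵥ t))) • s := by
      rw [mul_smul, hd, smul_sub, smul_smul, smul_smul]
      match_scalars <;> first | ring1 | linear_combination c * hP | linear_combination (-c) * hP
    have h := hU (-(c * P) * ((s ⬝ᵥ t) * (s ⬝ᵥ t)))
    rw [e] at h
    convert h using 1
    funext x
    exact (U_mod h2 hs hns _ x).symm
  have hPs := all hs htt hβ ha haa hU
  have hPt : ∀ c : F, Fx M τ d e (U t (c • crossProduct s t)) := fun c => by
    have h := all htt hs (by rwa [dotProduct_comm]) (show Fl α ⬝ᵥ t = 0 by rw [Fdot, ha])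
      (by rwa [Fdot]) hUf (-c)
    rwa [← cross_anticomm, neg_smul_neg] at h
  refine ⟨T.nde, fun v w hvd hve hwd hwe hv hvw => ?_⟩
  have hv3 : res τ v ⬝ᵥ res τ v = v ⬝ᵥ v := by rw [dot_split T v v, hvd, hve]; ring
  have hw3 : res τ w ⬝ᵥ res τ w = w ⬝ᵥ w := by rw [dot_split T w w, hwd, hwe]; ring
  obtain ⟨φ, ⟨g, hg, hgx⟩, hφ⟩ := root_transitive h2 hp3 (Fx M τ d e) (Fx_id T)
    (fun f hf => Fx_inv T S hf) (fun f g hf hg => Fx_comp T S hf hg) hs htt hβ hPs hPt
    (res τ v) (res τ w) (by rw [hv3]; exact hv) (by rw [hv3, hw3, hvw])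
  refine ⟨g, hg, split_ext T (by rw [(hgx v).1, hφ]) (by rw [(hgx v).2.1, hvd, hwd])
    (by rw [(hgx v).2.2, hve, hwe]), ?_, ?_⟩
  all_goals
    have φ0 : φ 0 = 0 := by
      have h := (hgx 0).1
      simp only [ac, mulVec_zero] at h
      exact h.symm
  · refine split_ext T ?_ (hgx _).2.1 (hgx _).2.2
    rw [(hgx _).1]
    have : res τ (E d : Fin 5 → F) = 0 := funext fun i => by
      fin_cases i <;> simp [res, E, T.n0d, T.n1d, T.n2d]
    rw [this, φ0]
  · refine split_ext T ?_ (hgx _).2.1 (hgx _).2.2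
    rw [(hgx _).1]
    have : res τ (E e : Fin 5 → F) = 0 := funext fun i => by
      fin_cases i <;> simp [res, E, T.n0e, T.n1e, T.n2e]
    rw [this, φ0]

omit T

lemma tri_move {d e x : Fin 5} (h : Tri M d e) (hxe : x ≠ e) : Tri M x e := by
  classical
  obtain ⟨hde, h⟩ := h
  by_cases hxd : x = d
  · exact hxd ▸ ⟨hde, h⟩
  obtain ⟨i, j, hij, hij'⟩ := Finset.card_eq_two.1
    (show (({d, e, x} : Finset (Fin 5))ᶜ).card = 2 by
      rw [Finset.card_compl, show ({d, e, x} : Finset (Fin 5)).card = 3 from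
        Finset.card_eq_three.2 ⟨d, e, x, hde, Ne.symm hxd, Ne.symm hxe, rfl⟩]
      rfl)
  have hi : i ∉ ({d, e, x} : Finset (Fin 5)) := Finset.mem_compl.1 (hij' ▸ Finset.mem_insert_self _ _)
  have hj : j ∉ ({d, e, x} : Finset (Fin 5)) :=
    Finset.mem_compl.1 (hij' ▸ Finset.mem_insert_of_mem (Finset.mem_singleton_self _))
  simp only [Finset.mem_insert, Finset.mem_singleton, not_or] at hi hj
  obtain ⟨g0, hg0, g0x⟩ := S.dbl x d i j hxd hij (Ne.symm hi.2.2) (Ne.symm hj.2.2) (Ne.symm hi.1)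
    (Ne.symm hj.1)
  set π := Equiv.swap x d * Equiv.swap i j with hπ
  have πx : π x = d := by
    simp [hπ, Equiv.swap_apply_of_ne_of_ne (Ne.symm hi.2.2) (Ne.symm hj.2.2)]
  have πd : π d = x := by
    simp [hπ, Equiv.swap_apply_of_ne_of_ne (Ne.symm hi.1) (Ne.symm hj.1)]
  have πe : π e = e := by
    simp [hπ, Equiv.swap_apply_of_ne_of_ne (Ne.symm hi.2.1) (Ne.symm hj.2.1),
      Equiv.swap_apply_of_ne_of_ne (Ne.symm hxe) hde.symm]
  have πi : ∀ l k, π l = k → l = π⁻¹ k := fun l k h => by rw [← h]; simp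
  have gE : ∀ k, ac g0 (E k) = E (π.symm k) := fun k => funext fun l => by
    rw [g0x]
    simp [E, Pi.single_apply, Equiv.eq_symm_apply]
  have gdot : ∀ v w, ac g0 v ⬝ᵥ ac g0 w = v ⬝ᵥ w := S.iso g0 hg0
  refine ⟨hxe, fun v w hv hv' hw hw' hvn hvw => ?_⟩
  obtain ⟨g, hg, gv, gd, ge⟩ := h (ac g0 v) (ac g0 w) (by rw [g0x, πd]; exact hv)
    (by rw [g0x, πe]; exact hv') (by rw [g0x, πd]; exact hw)
    (by rw [g0x, πe]; exact hw') (by rw [gdot]; exact hvn) (by rw [gdot, gdot, hvw])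
  refine ⟨g0⁻¹ * g * g0, M.mul_mem (M.mul_mem (M.inv_mem hg0) hg) hg0, ?_, ?_, ?_⟩
  · rw [ac_mul, ac_mul, gv, ac, gl_inv_mulVec_mulVec]
  · have e' : ac g0 (E x) = E d := by rw [gE, π.symm_apply_eq.2 πd.symm]
    rw [ac_mul, ac_mul, e', gd, ← e', ac, gl_inv_mulVec_mulVec]
  · have e' : ac g0 (E e) = E e := by rw [gE, π.symm_apply_eq.2 πe.symm]
    rw [ac_mul, ac_mul, e', ge]
    nth_rw 1 [← e']
    rw [ac, gl_inv_mulVec_mulVec]

omit S in
lemma tri_symm {d e : Fin 5} (h : Tri M d e) : Tri M e d :=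
  ⟨h.1.symm, fun v w a b c f hn hvw => by
    obtain ⟨g, hg, g1, g2, g3⟩ := h.2 v w b a f c hn hvw
    exact ⟨g, hg, g1, g3, g2⟩⟩

lemma tri_all {d e : Fin 5} (h : Tri M d e) {x y : Fin 5} (hxy : x ≠ y) : Tri M x y := by
  by_cases hy : y = e
  · exact hy ▸ tri_move S h (hy ▸ hxy)
  · exact tri_move S (tri_symm (tri_move S h hy)) hxy

/-- From a short vector to all triples. -/
lemma exists_tri (hp3 : (3 : F) ≠ 0) (hN : Nice M) : ∃ d e, Tri M d e := by
  classical
  have h2 := S.two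
  obtain ⟨b, hb, h⟩ := hN
  rcases h with h | ⟨a, c, hac, hs, hne⟩
  · obtain ⟨p, q, r, hpq, hpr, hqr, hs⟩ := Finset.card_eq_three.1 h
    obtain ⟨u, v, huv, huv'⟩ := Finset.card_eq_two.1
      (show ((sup b)ᶜ).card = 2 by rw [Finset.card_compl, h]; rfl)
    have hu : u ∉ sup b := Finset.mem_compl.1 (huv' ▸ Finset.mem_insert_self _ _)
    have hv : v ∉ sup b :=
      Finset.mem_compl.1 (huv' ▸ Finset.mem_insert_of_mem (Finset.mem_singleton_self _))
    have bu := eq_zero_of_notMem hu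
    have bv := eq_zero_of_notMem hv
    rw [hs] at hu hv
    simp only [Finset.mem_insert, Finset.mem_singleton, not_or] at hu hv
    have nb : ∀ l ∈ ({p, q, r} : Finset (Fin 5)), b l ≠ 0 := fun l hl => mem_sup.1 (by rw [hs]; exact hl)
    have bp := nb p (by simp)
    have bq := nb q (by simp)
    have br := nb r (by simp)
    by_cases hr : 2 * (b r * b r) = 1
    · by_cases hq : 2 * (b q * b q) = 1
      · have hp : 2 * (b p * b p) ≠ 1 := fun hp => by
          have h1 := hb.1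
          rw [dot_sup, hs, Finset.sum_insert (by simp [hpq, hpr]), Finset.sum_pair hqr] at h1
          exact one_ne_zero (α := F) (by linear_combination 2 * h1 - hp - hq - hr)
        exact ⟨u, v, tri_of_short (τ := ![r, q, p]) ⟨hqr.symm, hpr.symm, (Ne.symm hu.2.2), (Ne.symm hv.2.2),
          hpq.symm, (Ne.symm hu.2.1), (Ne.symm hv.2.1), (Ne.symm hu.1), (Ne.symm hv.1), huv⟩ S hp3 hb bu bv bp hp
          (Or.inl br)⟩
      · exact ⟨u, v, tri_of_short (τ := ![p, r, q]) ⟨hpr, hpq, (Ne.symm hu.1), (Ne.symm hv.1), hqr.symm,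
          (Ne.symm hu.2.2), (Ne.symm hv.2.2), (Ne.symm hu.2.1), (Ne.symm hv.2.1), huv⟩ S hp3 hb bu bv bq hq (Or.inl bp)⟩
    · exact ⟨u, v, tri_of_short (τ := ![p, q, r]) ⟨hpq, hpr, (Ne.symm hu.1), (Ne.symm hv.1), hqr,
        (Ne.symm hu.2.1), (Ne.symm hv.2.1), (Ne.symm hu.2.2), (Ne.symm hv.2.2), huv⟩ S hp3 hb bu bv br hr (Or.inl bp)⟩
  · obtain ⟨l, u, v, hlu, hlv, huv, hT⟩ := Finset.card_eq_three.1
      (show ((sup b)ᶜ).card = 3 by rw [Finset.card_compl, hs, Finset.card_pair hac]; rfl)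
    have hm : ∀ k ∈ ({l, u, v} : Finset (Fin 5)), b k = 0 ∧ a ≠ k ∧ c ≠ k := fun k hk => by
      rw [← hT, Finset.mem_compl] at hk
      exact ⟨eq_zero_of_notMem hk, fun e => hk (by rw [hs, ← e]; simp),
        fun e => hk (by rw [hs, ← e]; simp)⟩
    obtain ⟨-, al, cl⟩ := hm l (by simp)
    obtain ⟨bu, au, cu⟩ := hm u (by simp)
    obtain ⟨bv, av, cv⟩ := hm v (by simp)
    have ba : b a ≠ 0 := mem_sup.1 (by rw [hs]; simp)
    have bc : b c ≠ 0 := mem_sup.1 (by rw [hs]; simp)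
    refine ⟨u, v, tri_of_short (τ := ![a, l, c]) ⟨al, hac, au, av, cl.symm, hlu, hlv, cu, cv, huv⟩ S
      hp3 hb bu bv bc (fun e => hne ?_) (Or.inl ba)⟩
    have h1 := hb.1
    rw [dot_sup, hs, Finset.sum_pair hac] at h1
    change 2 * (b c * b c) = 1 at e
    exact mul_left_cancel₀ h2 (by linear_combination 2 * h1 - 2 * e)

/-- All unit vectors. -/
theorem all_units (hp3 : (3 : F) ≠ 0) (hN : Nice M) : ∀ v : Fin 5 → F, v ⬝ᵥ v = 1 → Rf M v := by
  classical
  have h2 := S.two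
  obtain ⟨d0, e0, hT0⟩ := exists_tri S hp3 hN
  have hTri : ∀ {x y : Fin 5}, x ≠ y → Tri M x y := fun h => tri_all S hT0 h
  suffices H : ∀ n, ∀ v : Fin 5 → F, (sup v).card ≤ n → v ⬝ᵥ v = 1 → Rf M v from
    fun v hv => H _ v le_rfl hv
  intro n
  induction n with
  | zero =>
    intro v hn hv
    exfalso
    rw [dot_sup, Finset.card_eq_zero.1 (Nat.le_zero.1 hn), Finset.sum_empty] at hv
    exact zero_ne_one hv
  | succ n ih =>
    intro v hn hv
    by_cases hsmall : (sup v).card ≤ 3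
    · obtain ⟨U, hUs, hUc⟩ := Finset.exists_subset_card_eq
        (show 2 ≤ ((sup v)ᶜ).card by rw [Finset.card_compl, Fintype.card_fin]; omega)
      obtain ⟨x, y, hxy, rfl⟩ := Finset.card_eq_two.1 hUc
      obtain ⟨a, ha⟩ := Finset.card_pos.1 (show 0 < (({x, y} : Finset (Fin 5))ᶜ).card by
        rw [Finset.card_compl, hUc]; decide)
      simp only [Finset.mem_compl, Finset.mem_insert, Finset.mem_singleton, not_or] at ha
      have hx := eq_zero_of_notMem (Finset.mem_compl.1 (hUs (Finset.mem_insert_self x _)))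
      have hy := eq_zero_of_notMem
        (Finset.mem_compl.1 (hUs (Finset.mem_insert_of_mem (Finset.mem_singleton_self y))))
      obtain ⟨g, hg, gv, -, -⟩ := (hTri hxy).2 (E a) v (by simp [E, ha.1, Ne.symm ha.1])
        (by simp [E, ha.2, Ne.symm ha.2]) hx hy (by simp [E]) (by simp [E, hv])
      rw [← gv]
      exact Rf_conj S hg (S.coord a)
    -- three coordinates with non-zero norm
    obtain ⟨U, hUs, hUc⟩ := Finset.exists_subset_card_eq (show 4 ≤ (sup v).card by omega)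
    obtain ⟨a, b, c, f, hab, hac, haf, hbc, hbf, hcf, rfl⟩ := Finset.card_eq_four.1 hUc
    have hm : ∀ l ∈ ({a, b, c, f} : Finset (Fin 5)), v l ≠ 0 := fun l hl => mem_sup.1 (hUs hl)
    obtain ⟨p, q, r, hpq, hpr, hqr, vp, vq, vr, hsum⟩ : ∃ p q r, p ≠ q ∧ p ≠ r ∧ q ≠ r ∧ v p ≠ 0 ∧
        v q ≠ 0 ∧ v r ≠ 0 ∧ v p * v p + v q * v q + v r * v r ≠ 0 := by
      have va := hm a (by simp); have vb := hm b (by simp)
      have vc := hm c (by simp); have vf := hm f (by simp)
      by_cases h1 : v a * v a + v b * v b + v c * v c = 0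
      swap
      · exact ⟨a, b, c, hab, hac, hbc, va, vb, vc, h1⟩
      by_cases h3 : v a * v a + v b * v b + v f * v f = 0
      swap
      · exact ⟨a, b, f, hab, haf, hbf, va, vb, vf, h3⟩
      by_cases h4 : v a * v a + v c * v c + v f * v f = 0
      swap
      · exact ⟨a, c, f, hac, haf, hcf, va, vc, vf, h4⟩
      refine ⟨b, c, f, hbc, hbf, hcf, vb, vc, vf, fun h5 => mul_ne_zero hp3 (mul_ne_zero va va) ?_⟩
      linear_combination h1 + h3 + h4 - 2 * h5
    obtain ⟨x, y, hxy, hT⟩ := Finset.card_eq_two.1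
      (show (({p, q, r} : Finset (Fin 5))ᶜ).card = 2 by
        rw [Finset.card_compl, Finset.card_eq_three.2 ⟨p, q, r, hpq, hpr, hqr, rfl⟩]; rfl)
    have hxn : x ≠ p ∧ x ≠ q ∧ x ≠ r := by
      simpa using (Finset.mem_compl.1 (hT ▸ Finset.mem_insert_self x {y}) : x ∉ ({p, q, r} : Finset (Fin 5)))
    have hyn : y ≠ p ∧ y ≠ q ∧ y ≠ r := by
      simpa using (Finset.mem_compl.1 (hT ▸ Finset.mem_insert_of_mem (Finset.mem_singleton_self y)) :
        y ∉ ({p, q, r} : Finset (Fin 5)))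
    set Q := v p * v p + v q * v q + v r * v r with hQ
    have h2' : ringChar F ≠ 2 := fun e => h2 (by
      haveI := ringChar.of_eq e
      exact CharTwo.two_eq_zero)
    obtain ⟨r1, r2, hr12⟩ := FiniteField.exists_root_sum_quadratic (f := (Polynomial.X ^ 2 : Polynomial F))
      (g := Polynomial.C (1 : F) * Polynomial.X ^ 2 - Polynomial.C Q) (Polynomial.degree_X_pow 2)
      (by rw [Polynomial.degree_sub_C (by rw [Polynomial.degree_C_mul_X_pow 2 one_ne_zero]; norm_num),
        Polynomial.degree_C_mul_X_pow 2 one_ne_zero]; rfl)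
      (FiniteField.odd_card_of_char_ne_two h2')
    simp at hr12
    set vT := v - v x • E x - v y • E y with hvT
    set w := r1 • (E p : Fin 5 → F) + r2 • E q with hw
    have hs5 := sum_five hpq hpr hxn.1.symm hyn.1.symm hqr hxn.2.1.symm hyn.2.1.symm hxn.2.2.symm
      hyn.2.2.symm hxy (F := F)
    have hvTT : vT ⬝ᵥ vT = Q := by
      rw [dotProduct, hs5]
      simp [hvT, E, hxy, hxy.symm, hxn.1, hxn.1.symm, hxn.2.1, hxn.2.1.symm, hxn.2.2, hxn.2.2.symm,
        hyn.1, hyn.1.symm, hyn.2.1, hyn.2.1.symm, hyn.2.2, hyn.2.2.symm, hQ]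
    obtain ⟨g, hg, gv, gx, gy⟩ := (hTri hxy).2 vT w (by simp [hvT, E, hxy, hxy.symm])
      (by simp [hvT, E, hxy, hxy.symm])
      (by simp [hw, E, hxn.1, hxn.2.1]) (by simp [hw, E, hyn.1, hyn.2.1]) (by rw [hvTT]; exact hsum)
      (by
        rw [hvTT, dotProduct, hs5]
        simp [hw, E, hpq, hpq.symm, hpr.symm, hqr.symm, hxn.1, hxn.2.1, hyn.1, hyn.2.1]
        linear_combination hr12)
    have hgv : ac g v = w + v x • E x + v y • E y := by
      have e : v = vT + v x • E x + v y • E y := by rw [hvT]; abel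
      conv_lhs => rw [e]
      rw [ac, mulVec_add, mulVec_add, mulVec_smul, mulVec_smul]
      change ac g vT + v x • ac g (E x) + v y • ac g (E y) = _
      rw [gv, gx, gy]
    have hlt : (sup (ac g v)).card ≤ n := by
      have hsub : sup (ac g v) ⊆ (sup v).erase r := by
        intro l hl
        rw [mem_sup, hgv] at hl
        refine Finset.mem_erase.2 ⟨fun e => hl ?_, mem_sup.2 fun e => hl ?_⟩
        · subst e; simp [hw, E, hpr.symm, hqr.symm, hxn.2.2.symm, hyn.2.2.symm]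
        · have hlp : l ≠ p := fun e' => vp (e' ▸ e)
          have hlq : l ≠ q := fun e' => vq (e' ▸ e)
          by_cases hlx : l = x
          · subst hlx; simp [hw, E, hlp, hlq, hxy, e]
          by_cases hly : l = y
          · subst hly; simp [hw, E, hlp, hlq, hlx, e]
          simp [hw, E, hlp, hlq, hlx, hly]
      have := Finset.card_le_card hsub
      rw [Finset.card_erase_of_mem (mem_sup.2 vr)] at this
      omega
    have hR := Rf_conj S (M.inv_mem hg) (ih _ hlt (by rw [S.iso g hg]; exact hv))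
    rwa [ac, ac, gl_inv_mulVec_mulVec] at hR

/-- Characteristic three. -/
lemma all_units_three (h3 : (3 : F) = 0) {b : Fin 5 → F} (hb : Rf M b) (hbc : (sup b).card ≠ 1) :
    ∀ v : Fin 5 → F, v ⬝ᵥ v = 1 → Rf M v := by
  classical
  have h2 := S.two
  haveI : Fact (Nat.Prime 3) := ⟨by norm_num⟩
  haveI : CharP F 3 := (CharP.charP_iff_prime_eq_zero (by norm_num)).2 (by exact_mod_cast h3)
  have hsq : ∀ y : F, y = 0 ∨ y * y = 1 := by
    intro y
    obtain ⟨n, hn⟩ := S.prime y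
    rw [hn, CharP.cast_eq_mod F 3 n]
    have := Nat.mod_lt n (show 3 > 0 by norm_num)
    interval_cases hr : n % 3
    · left; simp
    · right; simp
    · right; push_cast; linear_combination h3
  have hcard : ∀ v : Fin 5 → F, v ⬝ᵥ v = 1 → (sup v).card = 1 ∨ (sup v).card = 4 := by
    intro v hv
    rw [dot_sup, Finset.sum_congr rfl (g := fun _ => (1 : F))
      (fun l hl => (hsq _).resolve_left (mem_sup.1 hl)), Finset.sum_const, nsmul_one] at hv
    have h5 : (sup v).card ≤ 5 := (Finset.card_le_univ _).trans (le_of_eq (Fintype.card_fin 5))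
    have h' : (((sup v).card : ℕ) : F) = ((1 : ℕ) : F) := by simpa using hv
    rw [CharP.natCast_eq_natCast F 3, Nat.ModEq] at h'
    omega
  have hb4 := (hcard b hb.1).resolve_left hbc
  intro v hv
  have fix : ∀ (w : Fin 5 → F), Rf M w → (∀ l, w l = 0 ↔ v l = 0) → Rf M v := by
    intro w hw hz
    convert Rf_signs S hw (Finset.univ.filter fun l => v l ≠ w l) using 1
    funext l
    by_cases h : v l = w l
    · simp [h]
    · rw [if_pos (by simp [h])]
      have h1 : v l ≠ 0 := fun e => h (by rw [e, (hz l).2 e])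
      have h3' : w l ≠ 0 := fun e => h1 ((hz l).1 e)
      rcases mul_self_eq_mul_self_iff.1 (((hsq (v l)).resolve_left h1).trans
        ((hsq (w l)).resolve_left h3').symm) with e | e
      · exact absurd e h
      · exact e
  rcases hcard v hv with h | h
  · obtain ⟨a, ha⟩ := Finset.card_eq_one.1 h
    refine fix (E a) (S.coord a) fun l => ?_
    by_cases hla : l = a
    · subst hla
      simpa [E] using mem_sup.1 (ha ▸ Finset.mem_singleton_self l : l ∈ sup v)
    · simp [E, hla, eq_zero_of_notMem (v := v) (l := l) (by simp [ha, hla])]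
  · obtain ⟨x, hx⟩ := Finset.card_eq_one.1
      (show ((sup v)ᶜ).card = 1 by rw [Finset.card_compl, h]; rfl)
    obtain ⟨y, hy⟩ := Finset.card_eq_one.1
      (show ((sup b)ᶜ).card = 1 by rw [Finset.card_compl, hb4]; rfl)
    have zb : ∀ l, b l = 0 ↔ l = y := fun l => by
      have e : l ∈ (sup b)ᶜ ↔ l = y := by rw [hy, Finset.mem_singleton]
      rw [← e, Finset.mem_compl, mem_sup, not_not]
    have zv : ∀ l, v l = 0 ↔ l = x := fun l => by
      have e : l ∈ (sup v)ᶜ ↔ l = x := by rw [hx, Finset.mem_singleton]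
      rw [← e, Finset.mem_compl, mem_sup, not_not]
    by_cases hxy : x = y
    · exact fix b hb fun l => by rw [zb, zv, hxy]
    · obtain ⟨i, j, hij, hij'⟩ := Finset.card_eq_two.1
        (show ∃ U : Finset (Fin 5), U ⊆ ({x, y} : Finset (Fin 5))ᶜ ∧ U.card = 2 from
          Finset.exists_subset_card_eq (by rw [Finset.card_compl, Finset.card_pair hxy]; decide)).choose_spec.2
      have hU := (show ∃ U : Finset (Fin 5), U ⊆ ({x, y} : Finset (Fin 5))ᶜ ∧ U.card = 2 from
          Finset.exists_subset_card_eq (by rw [Finset.card_compl, Finset.card_pair hxy]; decide)).choose_spec.1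
      rw [hij'] at hU
      have hi := hU (Finset.mem_insert_self i _)
      have hj := hU (Finset.mem_insert_of_mem (Finset.mem_singleton_self j))
      simp only [Finset.mem_compl, Finset.mem_insert, Finset.mem_singleton, not_or] at hi hj
      refine fix _ (Rf_move S hb hxy hij (Ne.symm hi.1) (Ne.symm hj.1) (Ne.symm hi.2) (Ne.symm hj.2))
        fun l => ?_
      rw [zb, zv]
      have e : (Equiv.swap x y * Equiv.swap i j) x = y := by
        simp [Equiv.swap_apply_of_ne_of_ne (Ne.symm hi.1) (Ne.symm hj.1)]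
      exact ⟨fun h => (Equiv.swap x y * Equiv.swap i j).injective (h.trans e.symm), fun h => h ▸ e⟩

/-- Some element is not monomial: all unit vectors. -/
theorem all_units_of_nonmonomial {g : GL (Fin 5) F} (hg : g ∈ M) {i : Fin 5}
    (hi : (sup (ac g (E i))).card ≠ 1) : ∀ v : Fin 5 → F, v ⬝ᵥ v = 1 → Rf M v := by
  by_cases h3 : (3 : F) = 0
  · exact all_units_three S h3 (Rf_conj S hg (S.coord i)) hi
  · exact all_units S h3 ((monomial_or_nice S h3 hg).resolve_left fun h => hi (h i))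

end CfsgLib.ClassicalMax.FiveSpace
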