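/-
Two non-conjugate involutions commute with a common non-central involution.
-/
import Mathlib
set_option autoImplicit false

namespace CfsgLib.ClassicalMax

lemma exists_common_commuting {G : Type*} [Group G] [Finite G] {x z e : G} (hx : x * x = 1)
    (hz : z * z = 1) (he : e * e = 1) (hec : ∀ g : G, e * g = g * e) (h1 : ¬ IsConj x z)
    (h2 : ¬ IsConj x (e * z)) (h3 : e ≠ 1 → ¬ IsConj x (e * x)) :
    ∃ i ∈ Subgroup.closure {x, z}, i * i = 1 ∧ i ≠ 1 ∧ i ≠ e ∧ i * x = x * i ∧ i * z = z * i := by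
  set w := x * z with hw
  have hxi : x⁻¹ = x := inv_eq_of_mul_eq_one_left hx
  have hzi : z⁻¹ = z := inv_eq_of_mul_eq_one_left hz
  have hflip : ∀ n : ℕ, x * w ^ n * x = (w ^ n)⁻¹ := by
    intro n
    have : x * w * x⁻¹ = w⁻¹ := by
      rw [hw, mul_inv_rev, hxi, hzi, ← mul_assoc, hx, one_mul]
    rw [← inv_pow, ← this, conj_pow, hxi]
  -- `x` is conjugate to `w ^ (2 n) * x`
  have hconj : ∀ n : ℕ, IsConj x (w ^ (2 * n) * x) := fun n => isConj_iff.2 ⟨w ^ n, by
    rw [two_mul, pow_add, ← hflip n, ← mul_assoc, ← mul_assoc, mul_assoc (w ^ n) x x, hx, mul_one]⟩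
  have hd : 0 < orderOf w := orderOf_pos w
  obtain ⟨k, hk | hk⟩ := Nat.even_or_odd' (orderOf w)
  · have hk0 : 0 < k := by omega
    set i := w ^ k with hi
    have hii : i * i = 1 := by
      rw [hi, ← pow_add, ← two_mul, ← hk, pow_orderOf_eq_one]
    have hinv : i⁻¹ = i := inv_eq_of_mul_eq_one_left hii
    have hix : i * x = x * i := by
      have := hflip k
      rw [← hi, hinv] at this
      conv_lhs => rw [← this]
      rw [mul_assoc, hx, mul_one]
    have hi1 : i ≠ 1 := fun h => by
      have := Nat.le_of_dvd hk0 (orderOf_dvd_of_pow_eq_one h)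
      omega
    by_cases hie : i = e
    · exfalso
      obtain ⟨j, hj | hj⟩ := Nat.even_or_odd' k
      · apply h3 (fun h => hi1 (hie.trans h))
        refine isConj_iff.2 ⟨w ^ j, ?_⟩
        have h4 := hflip j
        have hii' : w ^ j * w ^ j = e := by rw [← pow_add, ← two_mul, ← hj, ← hi, hie]
        rw [← h4, ← mul_assoc, ← mul_assoc, mul_assoc (w ^ j) x x, hx, mul_one, hii']
      · apply h2
        have h5 : w ^ (2 * j) * x = e * z := by
          have : w ^ (2 * j) = e * w⁻¹ := by
            rw [eq_mul_inv_iff_mul_eq, ← pow_succ, ← hj, ← hi, hie]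
          rw [this, hw, mul_inv_rev, hxi, hzi, mul_assoc, mul_assoc, hx, mul_one]
        exact h5 ▸ hconj j
    · refine ⟨i, ?_, hii, hi1, hie, hix, ?_⟩
      · exact Subgroup.pow_mem _ (mul_mem (Subgroup.subset_closure (Set.mem_insert x {z}))
          (Subgroup.subset_closure (Set.mem_insert_of_mem x rfl))) k
      · have hzw : z = x * w := by rw [hw, ← mul_assoc, hx, one_mul]
        have hiw : i * w = w * i := by rw [hi, pow_mul_comm']
        rw [hzw, ← mul_assoc, hix, mul_assoc, hiw, ← mul_assoc]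
  · exfalso
    apply h1
    have : w ^ (2 * k) * x = z := by
      have hk' : w ^ (2 * k) = w⁻¹ := by
        rw [eq_inv_iff_mul_eq_one, ← pow_succ, ← hk, pow_orderOf_eq_one]
      rw [hk', hw, mul_inv_rev, hxi, hzi, mul_assoc, hx, mul_one]
    exact this ▸ hconj k

end CfsgLib.ClassicalMax
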