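/-
Kronecker products acting on pure tensors and contractions.
-/
import Cfsg.Agent.Lib.ClassicalMax.Tv
set_option autoImplicit false
set_option linter.unusedSectionVars false

namespace CfsgLib.ClassicalMax.Kron

open Matrix Kronecker Module

variable {F : Type*} [Field F] [DecidableEq F] {a b : ℕ}

/-- The pure tensor with the given factors. -/
def pt (x : Fin a → F) (w : Fin b → F) : Fin a × Fin b → F := fun s => x s.1 * w s.2

/-- Contraction of the second factor. -/
def con (φ : Fin b → F) : (Fin a × Fin b → F) →ₗ[F] (Fin a → F) where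
  toFun z i := φ ⬝ᵥ fun j => z (i, j)
  map_add' z z' := funext fun i => dotProduct_add φ (fun j => z (i, j)) (fun j => z' (i, j))
  map_smul' c z := funext fun i => dotProduct_smul c φ (fun j => z (i, j))

/-- The embedding of the first factor at a vector of the second. -/
def ptR (v : Fin b → F) : (Fin a → F) →ₗ[F] (Fin a × Fin b → F) where
  toFun x := pt x v
  map_add' x y := funext fun s => add_mul _ _ _
  map_smul' c x := funext fun s => mul_assoc _ _ _

@[simp] lemma ptR_apply (v : Fin b → F) (x : Fin a → F) : ptR v x = pt x v := rfl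

lemma pt_add_left (x y : Fin a → F) (w : Fin b → F) : pt (x + y) w = pt x w + pt y w :=
  funext fun _ => add_mul _ _ _

lemma pt_add_right (x : Fin a → F) (w w' : Fin b → F) : pt x (w + w') = pt x w + pt x w' :=
  funext fun _ => mul_add _ _ _

lemma pt_smul_left (c : F) (x : Fin a → F) (w : Fin b → F) : pt (c • x) w = c • pt x w :=
  funext fun _ => mul_assoc _ _ _

lemma pt_smul_right (c : F) (x : Fin a → F) (w : Fin b → F) : pt x (c • w) = c • pt x w :=
  funext fun _ => mul_left_comm _ _ _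

lemma pt_zero_left (w : Fin b → F) : pt (0 : Fin a → F) w = 0 := funext fun _ => zero_mul _

lemma pt_zero_right (x : Fin a → F) : pt x (0 : Fin b → F) = 0 := funext fun _ => mul_zero _

lemma pt_sub_right (x : Fin a → F) (w w' : Fin b → F) : pt x (w - w') = pt x w - pt x w' :=
  funext fun _ => mul_sub _ _ _

lemma dot_pt (η x : Fin a → F) (χ w : Fin b → F) : pt η χ ⬝ᵥ pt x w = (η ⬝ᵥ x) * (χ ⬝ᵥ w) := by
  simp only [dotProduct, pt, Fintype.sum_prod_type, Finset.sum_mul_sum]
  exact Finset.sum_congr rfl fun i _ => Finset.sum_congr rfl fun j _ => by ring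

lemma dot_con (η : Fin a → F) (χ : Fin b → F) (z : Fin a × Fin b → F) :
    pt η χ ⬝ᵥ z = η ⬝ᵥ con χ z := by
  simp only [dotProduct, pt, Fintype.sum_prod_type, con, LinearMap.coe_mk, AddHom.coe_mk,
    Finset.mul_sum, mul_assoc]

lemma con_pt (φ : Fin b → F) (x : Fin a → F) (w : Fin b → F) : con φ (pt x w) = (φ ⬝ᵥ w) • x := by
  funext i
  simp only [con, LinearMap.coe_mk, AddHom.coe_mk, dotProduct, pt, Pi.smul_apply, smul_eq_mul,
    Finset.sum_mul]
  exact Finset.sum_congr rfl fun j _ => by ring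

lemma pt_sum_left (z : Fin a × Fin b → F) :
    z = ∑ i, pt (Pi.single i 1) (fun j => z (i, j)) := by
  funext s
  simp [Finset.sum_apply, pt, Pi.single_apply]

/-- Linear maps agreeing on pure tensors are equal. -/
lemma linear_ext {W : Type*} [AddCommGroup W] [Module F W] {f g : (Fin a × Fin b → F) →ₗ[F] W}
    (h : ∀ x w, f (pt x w) = g (pt x w)) : f = g := by
  refine LinearMap.ext fun z => ?_
  rw [pt_sum_left z, map_sum, map_sum]
  exact Finset.sum_congr rfl fun i _ => h _ _

lemma exists_sum_dot {k : ℕ} {x : Fin k → F} (hx : x ≠ 0) : ∃ η, η ⬝ᵥ x = 1 := by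
  obtain ⟨i, hi⟩ := Function.ne_iff.1 hx
  exact ⟨Pi.single i (x i)⁻¹, by rw [single_dotProduct, inv_mul_cancel₀ hi]⟩

lemma pt_ne_zero {x : Fin a → F} (hx : x ≠ 0) {w : Fin b → F} (hw : w ≠ 0) : pt x w ≠ 0 := by
  intro h
  obtain ⟨η, hη⟩ := exists_sum_dot hx
  obtain ⟨χ, hχ⟩ := exists_sum_dot hw
  have := dot_pt η x χ w
  rw [h, dotProduct_zero, hη, hχ, one_mul] at this
  exact one_ne_zero this.symm

lemma ptR_injective {v : Fin b → F} (hv : v ≠ 0) : Function.Injective (ptR (a := a) v) := by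
  intro x y h
  obtain ⟨χ, hχ⟩ := exists_sum_dot hv
  have := congrArg (con χ) h
  simpa [con_pt, hχ] using this

/-- A functional separating a vector from a line. -/
lemma exists_dot_eq {k : ℕ} {v w : Fin k → F} (hw : w ∉ Submodule.span F {v}) :
    ∃ φ, φ ⬝ᵥ v = 0 ∧ φ ⬝ᵥ w = 1 := by
  obtain ⟨f, hf, hfm⟩ := Submodule.exists_dual_map_eq_bot_of_notMem hw inferInstance
  refine ⟨fun j => (f w)⁻¹ * f (Pi.single j 1), ?_, ?_⟩
  all_goals
    have e : ∀ x, (fun j => (f w)⁻¹ * f (Pi.single j 1)) ⬝ᵥ x = (f w)⁻¹ * f x := fun x => by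
      conv_rhs => rw [pi_eq_sum_univ' x, map_sum, Finset.mul_sum]
      refine Finset.sum_congr rfl fun j _ => ?_
      rw [map_smul, smul_eq_mul]
      ring
    rw [e]
  · rw [(Submodule.mem_bot F).1 (hfm ▸ Submodule.mem_map_of_mem
      (Submodule.mem_span_singleton_self v) : f v ∈ (⊥ : Submodule F F)), mul_zero]
  · exact inv_mul_cancel₀ hf

/-- A vector of a hyperplane outside a line. -/
lemma exists_kernel_notMem {k : ℕ} (χ v : Fin k → F) (h : 3 ≤ k ∨ (2 ≤ k ∧ χ ⬝ᵥ v ≠ 0)) :
    ∃ y, χ ⬝ᵥ y = 0 ∧ y ∉ Submodule.span F {v} := by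
  let f : (Fin k → F) →ₗ[F] F :=
    { toFun := fun x => χ ⬝ᵥ x
      map_add' := fun x y => dotProduct_add _ _ _
      map_smul' := fun c x => dotProduct_smul _ _ _ }
  by_contra hcon
  push Not at hcon
  have hle : LinearMap.ker f ≤ Submodule.span F {v} := fun y hy => hcon y hy
  have h1 := LinearMap.finrank_range_add_finrank_ker f
  rw [finrank_fin_fun] at h1
  have h2 : finrank F (LinearMap.range f) ≤ 1 := (Submodule.finrank_le _).trans (by rw [finrank_self])
  have h3 := Submodule.finrank_mono hle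
  have h4 : finrank F (Submodule.span F ({v} : Set (Fin k → F))) ≤ 1 :=
    (finrank_span_le_card _).trans (by simp)
  rcases h with h | ⟨h, hv⟩
  · omega
  · obtain ⟨y, hy, hy0⟩ := Submodule.exists_mem_ne_zero_of_ne_bot
      (p := LinearMap.ker f) (fun e => by rw [e, finrank_bot] at h1; omega)
    obtain ⟨c, hc⟩ := Submodule.mem_span_singleton.1 (hle hy)
    refine hy0 (by
      have hfy : χ ⬝ᵥ y = 0 := hy
      rw [← hc, dotProduct_smul, smul_eq_mul, mul_eq_zero, or_iff_left hv] at hfy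
      rw [← hc, hfy, zero_smul])

/-- A unimodular map taking one nonzero vector to another. -/
lemma exists_sl_map {k : ℕ} (hk : 2 ≤ k) {v w : Fin k → F} (hv : v ≠ 0) (hw : w ≠ 0) :
    ∃ g : GL (Fin k) F, Matrix.det (g : Matrix (Fin k) (Fin k) F) = 1 ∧
      (g : Matrix (Fin k) (Fin k) F) *ᵥ v = w := by
  have key : ∀ {v w : Fin k → F}, w ∉ Submodule.span F {v} → v ≠ 0 →
      ∃ g : GL (Fin k) F, Matrix.det (g : Matrix (Fin k) (Fin k) F) = 1 ∧
        (g : Matrix (Fin k) (Fin k) F) *ᵥ v = w := by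
    intro v w h hv
    have h' : v ∉ Submodule.span F {w - v} := fun e => by
      obtain ⟨c, hc⟩ := Submodule.mem_span_singleton.1 e
      rcases eq_or_ne c 0 with rfl | h0
      · exact hv (by rw [← hc, zero_smul])
      · refine h (Submodule.mem_span_singleton.2 ⟨c⁻¹ + 1, ?_⟩)
        have h1 : w - v = c⁻¹ • v := by
          conv_rhs => rw [← hc, inv_smul_smul₀ h0]
        rw [add_smul, one_smul, ← h1, sub_add_cancel]
    obtain ⟨φ, h1, h2⟩ := exists_dot_eq h'
    exact ⟨tvGL (w - v) φ, det_tvGL _ _, by rw [tvGL_mulVec h1, h2, one_smul, add_sub_cancel]⟩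
  obtain ⟨y, hyv⟩ : ∃ y, y ∉ Submodule.span F {v} := by
    by_contra hcon
    push Not at hcon
    have h4 : finrank F (Submodule.span F ({v} : Set (Fin k → F))) ≤ 1 :=
      (finrank_span_le_card _).trans (by simp)
    rw [Submodule.eq_top_iff'.2 hcon, finrank_top, finrank_fin_fun] at h4
    omega
  by_cases h : w ∈ Submodule.span F {v}
  · obtain ⟨g, hg, hgv⟩ := key hyv hv
    have hwy : w ∉ Submodule.span F {y} := fun e => by
      obtain ⟨c, hc⟩ := Submodule.mem_span_singleton.1 e
      obtain ⟨d, hd⟩ := Submodule.mem_span_singleton.1 h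
      have hc0 : c ≠ 0 := fun e0 => hw (by rw [← hc, e0, zero_smul])
      exact hyv (Submodule.mem_span_singleton.2 ⟨c⁻¹ * d, by rw [mul_smul, hd, ← hc, inv_smul_smul₀ hc0]⟩)
    obtain ⟨g', hg', hgw⟩ := key hwy (fun e => hyv (e ▸ Submodule.zero_mem _))
    exact ⟨g' * g, by rw [Units.val_mul, det_mul, hg, hg', one_mul], by
      rw [gl_mulVec_mul, hgv, hgw]⟩
  · exact key h hv

/-- The Kronecker product of invertible matrices. -/
def kronGL (A : GL (Fin a) F) (B : GL (Fin b) F) : GL (Fin a × Fin b) F where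
  val := (A : Matrix (Fin a) (Fin a) F) ⊗ₖ (B : Matrix (Fin b) (Fin b) F)
  inv := ((A⁻¹ : GL (Fin a) F) : Matrix (Fin a) (Fin a) F) ⊗ₖ
    ((B⁻¹ : GL (Fin b) F) : Matrix (Fin b) (Fin b) F)
  val_inv := by
    rw [← mul_kronecker_mul, ← Units.val_mul, ← Units.val_mul, mul_inv_cancel, mul_inv_cancel,
      Units.val_one, Units.val_one, one_kronecker_one]
  inv_val := by
    rw [← mul_kronecker_mul, ← Units.val_mul, ← Units.val_mul, inv_mul_cancel, inv_mul_cancel,
      Units.val_one, Units.val_one, one_kronecker_one]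

lemma kron_mulVec_pt (A : Matrix (Fin a) (Fin a) F) (B : Matrix (Fin b) (Fin b) F)
    (x : Fin a → F) (w : Fin b → F) : (A ⊗ₖ B) *ᵥ pt x w = pt (A *ᵥ x) (B *ᵥ w) := by
  funext s
  simp only [Matrix.mulVec, dotProduct, kroneckerMap_apply, pt, Fintype.sum_prod_type,
    Finset.sum_mul_sum]
  exact Finset.sum_congr rfl fun i _ => Finset.sum_congr rfl fun j _ => by ring

lemma kronGL_pt (A : GL (Fin a) F) (B : GL (Fin b) F) (x : Fin a → F) (w : Fin b → F) :
    (kronGL A B : Matrix (Fin a × Fin b) (Fin a × Fin b) F) *ᵥ pt x w =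
      pt ((A : Matrix (Fin a) (Fin a) F) *ᵥ x) ((B : Matrix (Fin b) (Fin b) F) *ᵥ w) :=
  kron_mulVec_pt _ _ x w

lemma det_kronGL (A : GL (Fin a) F) (B : GL (Fin b) F) :
    Matrix.det (kronGL A B : Matrix (Fin a × Fin b) (Fin a × Fin b) F) =
      Matrix.det (A : Matrix (Fin a) (Fin a) F) ^ b * Matrix.det (B : Matrix (Fin b) (Fin b) F) ^ a := by
  show Matrix.det ((A : Matrix (Fin a) (Fin a) F) ⊗ₖ (B : Matrix (Fin b) (Fin b) F)) = _
  rw [det_kronecker, Fintype.card_fin, Fintype.card_fin]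

lemma gl_ext_pt {g h : GL (Fin a × Fin b) F}
    (e : ∀ x w, (g : Matrix (Fin a × Fin b) (Fin a × Fin b) F) *ᵥ pt x w =
      (h : Matrix (Fin a × Fin b) (Fin a × Fin b) F) *ᵥ pt x w) : g = h :=
  gl_ext_mulVec fun z => LinearMap.congr_fun (linear_ext
    (f := Matrix.toLin' (g : Matrix (Fin a × Fin b) (Fin a × Fin b) F))
    (g := Matrix.toLin' (h : Matrix (Fin a × Fin b) (Fin a × Fin b) F))
    (by simpa [Matrix.toLin'_apply] using e)) z

lemma kronGL_mul (A A' : GL (Fin a) F) (B B' : GL (Fin b) F) :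
    kronGL A B * kronGL A' B' = kronGL (A * A') (B * B') :=
  gl_ext_pt fun x w => by simp only [gl_mulVec_mul, kronGL_pt]

lemma kronGL_inv (A : GL (Fin a) F) (B : GL (Fin b) F) : (kronGL A B)⁻¹ = kronGL A⁻¹ B⁻¹ :=
  Units.ext rfl

lemma kronGL_one : kronGL (1 : GL (Fin a) F) (1 : GL (Fin b) F) = 1 :=
  Units.ext (by simp [kronGL, one_kronecker_one])

/-- The root element of a tensor line. -/
def root (v φ : Fin b → F) : GL (Fin a × Fin b) F := kronGL 1 (tvGL v φ)

lemma root_mulVec {v φ : Fin b → F} (h : φ ⬝ᵥ v = 0) (z : Fin a × Fin b → F) :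
    (root (a := a) v φ : Matrix (Fin a × Fin b) (Fin a × Fin b) F) *ᵥ z = z + pt (con φ z) v := by
  have := linear_ext (f := Matrix.toLin' (root (a := a) v φ : Matrix (Fin a × Fin b) (Fin a × Fin b) F))
    (g := LinearMap.id + (ptR v).comp (con φ)) fun x w => by
      simp [root, Matrix.toLin'_apply, kronGL_pt, tvGL_mulVec h, pt_add_right, con_pt,
        pt_smul_left, pt_smul_right]
  exact LinearMap.congr_fun this z

lemma det_root (v φ : Fin b → F) :
    Matrix.det (root (a := a) v φ : Matrix (Fin a × Fin b) (Fin a × Fin b) F) = 1 := by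
  rw [root, det_kronGL, det_tvGL]
  simp

/-- A unipotent matrix of square-zero type has determinant one. -/
lemma det_one_add_sq_zero [Finite F] {κ : Type*} [Fintype κ] [DecidableEq κ] {N : Matrix κ κ F}
    (h : N * N = 0) : Matrix.det (1 + N) = 1 := by
  obtain ⟨p, hp⟩ := CharP.exists F
  haveI : Fact p.Prime := ⟨CharP.char_is_prime F p⟩
  rcases isEmpty_or_nonempty κ with hκ | hκ
  · exact Matrix.det_isEmpty
  haveI : CharP (Matrix κ κ F) p :=
    charP_of_injective_algebraMap (algebraMap F (Matrix κ κ F)).injective p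
  have h1 : (1 + N) ^ p = 1 := by
    rw [add_pow_char_of_commute p (Commute.one_left N), one_pow,
      show N ^ p = 0 by
        obtain ⟨m, hm⟩ := Nat.exists_eq_add_of_le (Fact.out (p := p.Prime)).two_le
        rw [hm, pow_add, pow_two, h, zero_mul], add_zero]
  have h2 := congrArg Matrix.det h1
  rw [det_pow, det_one] at h2
  exact frobenius_inj F p (by simpa [frobenius_def] using h2)

end CfsgLib.ClassicalMax.Kron
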