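/-
Stabilisers of subspaces are maximal in the special linear group, in every dimension
(the proof of S5631, which does not use its dimension bound).
-/
import Cfsg.Agent.Lib.ClassicalMax.LinFlags

set_option autoImplicit false
open Cfsg

namespace CfsgLib.ClassicalMax.LinParabolic

theorem subspace_stabilizer_maximal {F : Type*} [Field F] [Fintype F] (n : ℕ)
    (W : Submodule F (Fin n → F)) (hW0 : W ≠ ⊥) (hW1 : W ≠ ⊤) :
    Cfsg.Geo.IsMaximalIn (Cfsg.Geo.specialLinear (Fin n) F)
      (Cfsg.Geo.subspaceStabilizer W ⊓ Cfsg.Geo.specialLinear (Fin n) F) := by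
  classical
  open Matrix CfsgLib.ClassicalMax in
  have key : ∀ M : Subgroup (GL (Fin n) F),
      Cfsg.Geo.subspaceStabilizer W ⊓ Cfsg.Geo.specialLinear (Fin n) F ≤ M →
      (∃ g ∈ M, ∃ w ∈ W, (g : Matrix (Fin n) (Fin n) F) *ᵥ w ∉ W) →
      Cfsg.Geo.specialLinear (Fin n) F ≤ M := by
    rintro M hHM ⟨g, hgM, w₀, hw₀, hgw⟩
    -- all transvections with a given centre
    let S : (Fin n → F) → Prop := fun u => ∀ φ : Fin n → F, φ ⬝ᵥ u = 0 → tvGL u φ ∈ M
    have hSW : ∀ u ∈ W, S u := fun u hu φ hφ =>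
      hHM ⟨mem_subspaceStabilizer_of_forall fun z hz => by
        rw [tvGL_mulVec hφ]; exact W.add_mem hz (W.smul_mem _ hu), tvGL_mem_sl _ _⟩
    have hSM : ∀ h ∈ M, ∀ u, S u → S ((h : Matrix (Fin n) (Fin n) F) *ᵥ u) := by
      intro h hh u hu φ hφ
      have h0 : (φ ᵥ* (h : Matrix (Fin n) (Fin n) F)) ⬝ᵥ u = 0 := by
        rw [← dotProduct_mulVec, hφ]
      have := M.mul_mem (M.mul_mem hh (hu _ h0)) (M.inv_mem hh)
      rw [conj_tvGL h h0, vecMul_vecMul, ← Units.val_mul, mul_inv_cancel, Units.val_one,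
        vecMul_one] at this
      exact this
    have hSc : ∀ (a : F) u, S u → S (a • u) := by
      intro a u hu φ hφ
      rcases eq_or_ne a 0 with rfl | ha
      · simp [M.one_mem]
      · have h0 : φ ⬝ᵥ u = 0 := by
          rw [dotProduct_smul, smul_eq_mul] at hφ
          exact (mul_eq_zero.1 hφ).resolve_left ha
        rw [tvGL_smul a h0]
        exact hu _ (by rw [smul_dotProduct, h0, smul_zero])
    set x := (g : Matrix (Fin n) (Fin n) F) *ᵥ w₀ with hx
    have hSx : S x := hSM g hgM w₀ (hSW w₀ hw₀)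
    have move : ∀ u, x ∉ W ⊔ Submodule.span F {u} → S (x + u) := by
      intro u hu
      obtain ⟨t, ht, htW, htx⟩ := exists_tvGL_sep hu
      have := hSM t (hHM ⟨mem_subspaceStabilizer_of_forall fun z hz => by rw [htW z hz]; exact hz,
        ht⟩) x hSx
      rwa [htx] at this
    have hall : ∀ u, S u := by
      intro y
      by_cases hy : y ∈ W
      · exact hSW y hy
      by_cases hind : x ∈ W ⊔ Submodule.span F {y - x}
      · obtain ⟨w, hw, z, hz, hsum⟩ := Submodule.mem_sup.1 hind
        obtain ⟨c, rfl⟩ := Submodule.mem_span_singleton.1 hz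
        have hc : c ≠ 0 := fun e => hgw (by
          rw [e, zero_smul, add_zero] at hsum; rw [← hsum]; exact hw)
        have he : y = ((1 + c) / c) • x - c⁻¹ • w := by
          have h2 : c • y = (1 + c) • x - w := by
            rw [add_smul, one_smul]
            conv_rhs => arg 1; arg 1; rw [← hsum]
            rw [smul_sub]; abel
          calc y = c⁻¹ • (c • y) := by rw [smul_smul, inv_mul_cancel₀ hc, one_smul]
            _ = _ := by rw [h2, smul_sub, smul_smul, mul_comm, div_eq_mul_inv]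
        have ha : (1 + c) / c ≠ 0 := fun e => hy (by
          rw [he, e, zero_smul, zero_sub]; exact W.neg_mem (W.smul_mem _ hw))
        set a := (1 + c) / c
        have hwW : -(a⁻¹ • c⁻¹ • w) ∈ W := W.neg_mem (W.smul_mem _ (W.smul_mem _ hw))
        have hnot : x ∉ W ⊔ Submodule.span F {-(a⁻¹ • c⁻¹ • w)} := by
          intro h
          refine hgw (sup_le le_rfl ((Submodule.span_singleton_le_iff_mem _ _).2 hwW) h)
        have := hSc a _ (move _ hnot)
        rwa [smul_add, smul_neg, smul_smul a, mul_inv_cancel₀ ha, one_smul, ← sub_eq_add_neg,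
          ← he] at this
      · have := move _ hind
        rwa [add_sub_cancel] at this
    exact sl_le_of_tvGL fun u φ h => hall u φ h
  refine ⟨lt_of_le_of_ne inf_le_right fun e => ?_, fun M hHM hMS => ?_⟩
  · obtain ⟨w, hw, hw0⟩ := Submodule.exists_mem_ne_zero_of_ne_bot hW0
    obtain ⟨u, -, hu⟩ := SetLike.exists_of_lt (lt_top_iff_ne_top.2 hW1)
    obtain ⟨t, ht, -, htw⟩ := CfsgLib.ClassicalMax.exists_tvGL_sep (W := ⊥) (u := u) (x := w)
      (by rw [bot_sup_eq]; exact CfsgLib.ClassicalMax.notMem_span_of_notMem hw hw0 hu)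
    have hmem : t ∈ Cfsg.Geo.subspaceStabilizer W ⊓ Cfsg.Geo.specialLinear (Fin n) F := e.symm ▸ ht
    have h1 := (CfsgLib.ClassicalMax.mem_subspaceStabilizer.1 hmem.1 w).1 hw
    rw [htw, Submodule.add_mem_iff_right _ hw] at h1
    exact hu h1
  · by_cases h : ∀ g ∈ M, ∀ w ∈ W, (g : Matrix (Fin n) (Fin n) F).mulVec w ∈ W
    · exact Or.inl (le_antisymm (fun g hg =>
        ⟨CfsgLib.ClassicalMax.mem_subspaceStabilizer_of_forall (h g hg), hMS hg⟩) hHM)
    · push Not at h
      exact Or.inr (le_antisymm hMS (key M hHM h))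

end CfsgLib.ClassicalMax.LinParabolic
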