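/-
Subfield groups: membership criterion.
-/
import Cfsg.Agent.Lib.ClassicalMax.Tv
set_option autoImplicit false

namespace CfsgLib.ClassicalMax

open Matrix Cfsg.Geo

variable {ι : Type} [Fintype ι] [DecidableEq ι] {F : Type*} [Field F] {F₀ : Subfield F}

/-- The point with coordinates in the subfield with respect to the columns of `P`. -/
def ratVec (P : GL ι F) (x : ι → F₀) : ι → F := (P : Matrix ι ι F) *ᵥ fun i => (x i : F)

lemma ratVec_add (P : GL ι F) (x y : ι → F₀) : ratVec P (x + y) = ratVec P x + ratVec P y := by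
  simp only [ratVec, ← mulVec_add]
  exact congrArg _ (funext fun i => by simp)

lemma ratVec_smul (P : GL ι F) (c : F₀) (x : ι → F₀) :
    ratVec P (c • x) = (c : F) • ratVec P x := by
  simp only [ratVec, ← mulVec_smul]
  exact congrArg _ (funext fun i => by simp)

lemma ratVec_single (P : GL ι F) (j : ι) :
    ratVec (F₀ := F₀) P (Pi.single j 1) = (P : Matrix ι ι F) *ᵥ Pi.single j 1 :=
  congrArg (fun z => (P : Matrix ι ι F) *ᵥ z)
    (funext fun k => by by_cases h : k = j <;> simp [h])

lemma ratVec_injective (P : GL ι F) : Function.Injective (ratVec (F₀ := F₀) P) := fun _ _ h =>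
  funext fun i => Subtype.ext (congrFun (gl_mulVec_injective P h) i)

/-- The rational vectors span the whole space. -/
lemma eq_sum_ratVec (P : GL ι F) (v : ι → F) :
    v = ∑ i, (((P⁻¹ : GL ι F) : Matrix ι ι F) *ᵥ v) i • ratVec (F₀ := F₀) P (Pi.single i 1) := by
  simp only [ratVec_single]
  conv_lhs => rw [← gl_mulVec_inv_mulVec P v,
    pi_eq_sum_univ' (((P⁻¹ : GL ι F) : Matrix ι ι F) *ᵥ v)]
  simp only [mulVec_sum, mulVec_smul]

/-- An element inducing a map of the rational points lies in the subfield group. -/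
lemma mem_subfieldSubgroup_of_rat (P : GL ι F) {g : GL ι F} {g₀ : GL ι F₀} {l : F} (hl : l ≠ 0)
    (h : ∀ j, (g : Matrix ι ι F) *ᵥ ratVec (F₀ := F₀) P (Pi.single j 1)
      = l • ratVec P ((g₀ : Matrix ι ι F₀) *ᵥ Pi.single j 1)) : g ∈ subfieldSubgroup F₀ P := by
  refine ⟨Matrix.GeneralLinearGroup.map (F₀.subtype : F₀ →+* F) g₀ *
    Units.map (Matrix.scalar ι : F →+* Matrix ι ι F).toMonoidHom (Units.mk0 l hl),
    Subgroup.mul_mem_sup ⟨g₀, rfl⟩ ⟨_, rfl⟩, ?_⟩
  change P * _ * P⁻¹ = g
  rw [mul_inv_eq_iff_eq_mul]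
  refine Units.ext (Matrix.ext_of_mulVec_single fun j => ?_)
  rw [gl_mulVec_mul, gl_mulVec_mul, gl_mulVec_mul, ← ratVec_single (F₀ := F₀) P j, h]
  simp only [ratVec, ← mulVec_smul]
  refine congrArg _ (funext fun k => ?_)
  have hsc : ((Units.map (Matrix.scalar ι : F →+* Matrix ι ι F).toMonoidHom (Units.mk0 l hl) :
      GL ι F) : Matrix ι ι F) = Matrix.diagonal fun _ => l := by simp
  simp [hsc, mulVec_single, mul_comm]

/-- Elements of the subfield group send rational points to multiples of rational points. -/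
lemma exists_of_mem_subfieldSubgroup (P : GL ι F) {g : GL ι F} (hg : g ∈ subfieldSubgroup F₀ P)
    (x : ι → F₀) : ∃ (l : F) (r : ι → F₀), (g : Matrix ι ι F) *ᵥ ratVec P x = l • ratVec P r := by
  obtain ⟨k, hk, rfl⟩ := hg
  obtain ⟨_, ⟨g₀, rfl⟩, z, hz, rfl⟩ := Subgroup.mem_sup_of_normal_right.1 hk
  obtain ⟨l, hl⟩ := (mem_scalars_iff z).1 hz
  refine ⟨l, (g₀ : Matrix ι ι F₀) *ᵥ x, ?_⟩
  change ((P * (_ * z) * P⁻¹ : GL ι F) : Matrix ι ι F) *ᵥ _ = _
  simp only [ratVec]
  rw [gl_mulVec_mul, gl_inv_mulVec_mulVec, gl_mulVec_mul, gl_mulVec_mul, hl, smul_mulVec,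
    one_mulVec, mulVec_smul, mulVec_smul]
  refine congrArg _ (congrArg _ (funext fun i => ?_))
  exact (RingHom.map_mulVec F₀.subtype (g₀ : Matrix ι ι F₀) x i).symm

/-- Two independent vectors have a non-vanishing minor. -/
lemma exists_minor_ne_zero {a b : ι → F} (h : LinearIndependent F ![a, b]) :
    ∃ p q, a p * b q - a q * b p ≠ 0 := by
  by_contra hcon
  push Not at hcon
  obtain ⟨p, hp⟩ := Function.ne_iff.1 (LinearIndependent.ne_zero 0 h : a ≠ 0)
  have hp' : a p ≠ 0 := hp
  refine (LinearIndependent.pair_iff.1 h (-b p) (a p) (funext fun q => ?_)).2 |> hp'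
  simp only [Pi.add_apply, Pi.smul_apply, smul_eq_mul, Pi.zero_apply]
  linear_combination hcon p q

/-- An element mapping every rational point to a multiple of a rational point lies in the
subfield group. -/
theorem mem_subfieldSubgroup_of_forall (P : GL ι F) {g : GL ι F}
    (h : ∀ x : ι → F₀, ∃ (l : F) (r : ι → F₀),
      (g : Matrix ι ι F) *ᵥ ratVec P x = l • ratVec P r) : g ∈ subfieldSubgroup F₀ P := by
  classical
  choose l r hr using h
  have hco : ∀ x i, (((P⁻¹ : GL ι F) : Matrix ι ι F) *ᵥ ((g : Matrix ι ι F) *ᵥ ratVec P x)) i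
      = l x * (r x i : F) := fun x i => by
    rw [hr]
    simp [ratVec, mulVec_smul]
  have hl0 : ∀ j : ι, l (Pi.single j 1) ≠ 0 := fun j hj => by
    refine gl_mulVec_ne_zero g (gl_mulVec_ne_zero P ?_) ((hr (Pi.single j 1)).trans (by rw [hj, zero_smul]))
    intro h'
    simpa using congrFun h' j
  -- the multipliers of two basis vectors differ by an element of the subfield
  have hratio : ∀ i j, l (Pi.single i 1) / l (Pi.single j 1) ∈ F₀ := by
    intro i j
    by_cases hij : i = j
    · rw [hij, div_self (hl0 j)]; exact F₀.one_mem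
    set xi : ι → F₀ := Pi.single i 1
    set xj : ι → F₀ := Pi.single j 1
    have hind : LinearIndependent F₀ ![r xi, r xj] := by
      refine LinearIndependent.pair_iff.2 fun s t hst => ?_
      have h1 : (g : Matrix ι ι F) *ᵥ (((s : F) / l xi) • ratVec P xi + ((t : F) / l xj) • ratVec P xj)
          = 0 := by
        rw [mulVec_add, mulVec_smul, mulVec_smul, hr, hr, smul_smul, smul_smul,
          div_mul_cancel₀ _ (hl0 i), div_mul_cancel₀ _ (hl0 j), ← ratVec_smul, ← ratVec_smul,
          ← ratVec_add, hst]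
        simp [ratVec, show (fun _ : ι => (0 : F)) = 0 from rfl]
      have h2 := gl_mulVec_injective g (a₁ := _) (a₂ := 0) (by simpa using h1)
      simp only [ratVec, ← mulVec_smul, ← mulVec_add] at h2
      have h3 := gl_mulVec_injective P (a₁ := _) (a₂ := 0) (by simpa using h2)
      constructor
      · have := congrFun h3 i
        simpa [xi, xj, hij, Ne.symm hij, hl0] using this
      · have := congrFun h3 j
        simpa [xi, xj, hij, Ne.symm hij, hl0] using this
    obtain ⟨p, q, hD⟩ := exists_minor_ne_zero hind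
    have hsum : ∀ k, l (xi + xj) * (r (xi + xj) k : F) = l xi * (r xi k : F) + l xj * (r xj k : F) :=
      fun k => by
        rw [← hco, ← hco, ← hco, ratVec_add, mulVec_add, mulVec_add]
        rfl
    set D : F₀ := r xi p * r xj q - r xi q * r xj p
    have hD' : (D : F) ≠ 0 := fun h => hD (by ext; simpa using h)
    have hi : l xi * (D : F) = l (xi + xj) *
        ((r (xi + xj) p * r xj q - r (xi + xj) q * r xj p : F₀) : F) := by
      simp only [D, Subfield.coe_sub, Subfield.coe_mul]
      linear_combination -(r xj q : F) * hsum p + (r xj p : F) * hsum q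
    have hj : l xj * (D : F) = l (xi + xj) *
        ((r xi p * r (xi + xj) q - r xi q * r (xi + xj) p : F₀) : F) := by
      simp only [D, Subfield.coe_sub, Subfield.coe_mul]
      linear_combination -(r xi p : F) * hsum q + (r xi q : F) * hsum p
    have hs : l (xi + xj) ≠ 0 := fun h0 => by
      rw [h0, zero_mul] at hi
      exact mul_ne_zero (hl0 i) hD' hi
    rw [← mul_div_mul_right (l xi) (l xj) hD', hi, hj, mul_div_mul_left _ _ hs]
    exact F₀.div_mem (SetLike.coe_mem _) (SetLike.coe_mem _)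
  obtain hι | ⟨⟨i₀⟩⟩ := isEmpty_or_nonempty ι
  · exact mem_subfieldSubgroup_of_rat P (g₀ := (1 : GL ι F₀)) one_ne_zero fun j => hι.elim j
  set g₀ : Matrix ι ι F₀ :=
    Matrix.of fun k j => (⟨_, hratio j i₀⟩ : F₀) * r (Pi.single j 1) k with hg₀
  set l₀ := l (Pi.single i₀ 1) with hl₀
  have hcol : ∀ j, (g : Matrix ι ι F) *ᵥ ratVec P (Pi.single j 1)
      = l₀ • ratVec P (g₀ *ᵥ Pi.single j 1) := fun j => by
    rw [hr]
    simp only [ratVec, ← mulVec_smul]
    refine congrArg _ (funext fun k => ?_)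
    have := hl0 i₀
    simp [hg₀, mulVec_single, hl₀]
    field_simp
  have key : ∀ z, (g : Matrix ι ι F) *ᵥ ratVec P z = l₀ • ratVec P (g₀ *ᵥ z) := by
    intro z
    let L₁ : (ι → F₀) →+ (ι → F) :=
      AddMonoidHom.mk' (fun z => (g : Matrix ι ι F) *ᵥ ratVec P z) fun a b => by
        rw [ratVec_add, mulVec_add]
    let L₂ : (ι → F₀) →+ (ι → F) :=
      AddMonoidHom.mk' (fun z => l₀ • ratVec P (g₀ *ᵥ z)) fun a b => by
        rw [mulVec_add, ratVec_add, smul_add]
    change L₁ z = L₂ z
    rw [pi_eq_sum_univ' z, map_sum, map_sum]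
    refine Finset.sum_congr rfl fun j _ => ?_
    change (g : Matrix ι ι F) *ᵥ ratVec P _ = l₀ • ratVec P _
    rw [ratVec_smul, mulVec_smul, hcol, mulVec_smul, ratVec_smul, smul_comm]
  have hdet : IsUnit g₀ := by
    rw [← Matrix.mulVec_injective_iff_isUnit]
    intro p q hpq
    exact ratVec_injective P (gl_mulVec_injective g
      (show (g : Matrix ι ι F) *ᵥ ratVec P p = (g : Matrix ι ι F) *ᵥ ratVec P q by rw [key, key, hpq]))
  obtain ⟨g₁, hg₁⟩ := hdet
  exact mem_subfieldSubgroup_of_rat P (hl0 i₀) fun j => by rw [hg₁, hcol]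

end CfsgLib.ClassicalMax
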