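/-
Subfield groups are maximal in the special linear group.
-/
import Cfsg.Agent.Lib.ClassicalMax.RatSubfield
import Cfsg.Agent.Lib.ClassicalMax.SympTools
import Cfsg.Agent.Lib.ClassicalMax.Invol
set_option autoImplicit false

namespace CfsgLib.ClassicalMax.LinSub

open Matrix Cfsg.Geo

variable {ι : Type} [Fintype ι] [DecidableEq ι]

section General

variable {K : Type*} [Field K]

/-- A vector with prescribed dot products against independent vectors. -/
lemma exists_dot {k : ℕ} {v : Fin k → ι → K} (hli : LinearIndependent K v) (c : Fin k → K) :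
    ∃ z, ∀ i, v i ⬝ᵥ z = c i := by
  obtain ⟨g, hg⟩ := LinearMap.exists_extend ((Finsupp.linearCombination K c).comp
    (hli.repr : Submodule.span K (Set.range v) →ₗ[K] (Fin k →₀ K)))
  refine ⟨fun j => g (Pi.single j 1), fun i => ?_⟩
  have h := LinearMap.congr_fun hg ⟨v i, Submodule.subset_span ⟨i, rfl⟩⟩
  have h' : g (v i) = c i := by
    simpa [hli.repr_eq_single i ⟨v i, Submodule.subset_span ⟨i, rfl⟩⟩ rfl] using h
  rw [← h']
  conv_rhs => rw [pi_eq_sum_univ' (v i)]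
  simp [dotProduct]

/-- A vector orthogonal to `a` outside the span of `b`. -/
lemma exists_dot_zero {k l : ℕ} (a : Fin k → ι → K) (b : Fin l → ι → K)
    (h : k + l < Fintype.card ι) :
    ∃ r, (∀ i, a i ⬝ᵥ r = 0) ∧ r ∉ Submodule.span K (Set.range b) := by
  let L : (ι → K) →ₗ[K] (Fin k → K) := Matrix.mulVecLin (Matrix.of a)
  have h1 := LinearMap.finrank_range_add_finrank_ker L
  have h2 : Module.finrank K (LinearMap.range L) ≤ k := by
    simpa using Submodule.finrank_le (LinearMap.range L)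
  have h3 : Module.finrank K (Submodule.span K (Set.range b)) ≤ l :=
    (finrank_range_le_card b).trans (by simp)
  rw [Module.finrank_fintype_fun_eq_card] at h1
  obtain ⟨r, hr, hr'⟩ := SetLike.not_le_iff_exists.1
    (fun h : LinearMap.ker L ≤ Submodule.span K (Set.range b) => by
      have := Submodule.finrank_mono h
      omega)
  exact ⟨r, fun i => congrFun hr i, hr'⟩

lemma li_pair {a b : ι → K} (ha : a ≠ 0) (hb : b ∉ Submodule.span K {a}) :
    LinearIndependent K ![a, b] :=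
  (LinearIndependent.pair_iff' ha).2 fun c h => hb (Submodule.mem_span_singleton.2 ⟨c, h⟩)

variable [DecidableEq K]

lemma vecMul_tvGL {u φ : ι → K} (h : φ ⬝ᵥ u = 0) (χ : ι → K) :
    χ ᵥ* (tvGL u φ : Matrix ι ι K) = χ + (χ ⬝ᵥ u) • φ := by
  rw [coe_tvGL h, vecMul_add, vecMul_one, vecMul_vecMulVec]

lemma conj_tv {u φ w χ : ι → K} (hφ : φ ⬝ᵥ u = 0) (hχ : χ ⬝ᵥ w = 0) :
    tvGL u φ * tvGL w χ * (tvGL u φ)⁻¹
      = tvGL (w + (φ ⬝ᵥ w) • u) (χ - (χ ⬝ᵥ u) • φ) := by
  rw [conj_tvGL _ hχ, tvGL_mulVec hφ, ← tvGL_neg_right hφ,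
    vecMul_tvGL (by rw [neg_dotProduct, hφ, neg_zero]), smul_neg, ← sub_eq_add_neg]

lemma comm_tv_left {u φ w χ : ι → K} (hφ : φ ⬝ᵥ u = 0) (hχ : χ ⬝ᵥ w = 0) (h : χ ⬝ᵥ u = 0) :
    tvGL u φ * tvGL w χ * (tvGL u φ)⁻¹ * (tvGL w χ)⁻¹ = tvGL ((φ ⬝ᵥ w) • u) χ := by
  rw [conj_tv hφ hχ, h, zero_smul, sub_zero, mul_inv_eq_iff_eq_mul,
    ← tvGL_add_left (by rw [dotProduct_smul, h, smul_zero]) hχ, add_comm]

lemma comm_tv_right {u φ w χ : ι → K} (hφ : φ ⬝ᵥ u = 0) (hχ : χ ⬝ᵥ w = 0) (h : φ ⬝ᵥ w = 0) :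
    tvGL u φ * tvGL w χ * (tvGL u φ)⁻¹ * (tvGL w χ)⁻¹ = tvGL w (-(χ ⬝ᵥ u) • φ) := by
  rw [conj_tv hφ hχ, h, zero_smul, add_zero, mul_inv_eq_iff_eq_mul,
    ← tvGL_add_right (by rw [smul_dotProduct, h, smul_zero]) hχ, add_comm, neg_smul, ← sub_eq_add_neg]

end General

variable {F : Type*} [Field F] {F₀ : Subfield F}

/-- The coordinates in the field. -/
def cv (x : ι → F₀) : ι → F := fun i => (x i : F)

lemma cv_add (x y : ι → F₀) : cv (x + y) = cv x + cv y := funext fun _ => by simp [cv]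

lemma cv_sub (x y : ι → F₀) : cv (x - y) = cv x - cv y := funext fun _ => by simp [cv]

lemma cv_smul (c : F₀) (x : ι → F₀) : cv (c • x) = (c : F) • cv x := funext fun _ => by simp [cv]

lemma cv_zero : cv (0 : ι → F₀) = 0 := funext fun _ => by simp [cv]

lemma cv_ne_zero {x : ι → F₀} (h : x ≠ 0) : cv x ≠ 0 := fun e =>
  h (funext fun i => Subtype.ext (congrFun e i))

lemma cv_single (j : ι) (c : F₀) : cv (Pi.single j c) = Pi.single j (c : F) :=
  funext fun k => by by_cases h : k = j <;> simp [cv, h]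

lemma cv_dot (x y : ι → F₀) : cv x ⬝ᵥ cv y = ((x ⬝ᵥ y : F₀) : F) := by
  simp [cv, dotProduct]

lemma cv_mulVec (A : Matrix ι ι F₀) (x : ι → F₀) :
    cv (A *ᵥ x) = A.map F₀.subtype *ᵥ cv x :=
  funext fun i => RingHom.map_mulVec F₀.subtype A x i

lemma ratVec_one (x : ι → F₀) : ratVec (1 : GL ι F) x = cv x := by
  simp only [ratVec, Units.val_one, one_mulVec]
  rfl

variable [DecidableEq F] {M : Subgroup (GL ι F)}

/-- All rational transvections lie in `M`. -/
def Contains (F₀ : Subfield F) (M : Subgroup (GL ι F)) : Prop :=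
  ∀ v ψ : ι → F₀, ψ ⬝ᵥ v = 0 → tvGL (cv v) (cv ψ) ∈ M

/-- The parameter `b` occurs in every rational root group. -/
def Good (F₀ : Subfield F) (M : Subgroup (GL ι F)) (b : F) : Prop :=
  ∀ v ψ : ι → F₀, ψ ⬝ᵥ v = 0 → tvGL (b • cv v) (cv ψ) ∈ M

lemma dot_cv_zero {v ψ : ι → F₀} (h : ψ ⬝ᵥ v = 0) (b : F) : cv ψ ⬝ᵥ (b • cv v) = 0 := by
  rw [dotProduct_smul, cv_dot, h]; simp

lemma change_functional (hM : Contains F₀ M) (hn : 3 < Fintype.card ι) {b : F} {v φ : ι → F₀}
    (hφ : φ ≠ 0) (hφv : φ ⬝ᵥ v = 0) (h : tvGL (b • cv v) (cv φ) ∈ M) {χ : ι → F₀}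
    (hχv : χ ⬝ᵥ v = 0) : tvGL (b • cv v) (cv χ) ∈ M := by
  have key : ∀ φ χ : ι → F₀, φ ≠ 0 → φ ⬝ᵥ v = 0 → χ ⬝ᵥ v = 0 → χ ∉ Submodule.span F₀ {φ} →
      tvGL (b • cv v) (cv φ) ∈ M → tvGL (b • cv v) (cv χ) ∈ M := by
    intro φ χ hφ hφv hχv hnot h
    obtain ⟨w, hw⟩ := exists_dot (li_pair hφ hnot) ![1, 0]
    have hS := hM w χ (hw 1)
    have := M.mul_mem (M.mul_mem (M.mul_mem h hS) (M.inv_mem h)) (M.inv_mem hS)
    rwa [comm_tv_left (dot_cv_zero hφv b) (by rw [cv_dot, show χ ⬝ᵥ w = 0 from hw 1]; simp)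
      (dot_cv_zero hχv b), cv_dot, show φ ⬝ᵥ w = 1 from hw 0, Subfield.coe_one, one_smul] at this
  by_cases hnot : χ ∈ Submodule.span F₀ {φ}
  · by_cases hχ : χ = 0
    · rw [hχ, cv_zero, tvGL_zero_right]; exact M.one_mem
    obtain ⟨χ', hχ', hχ''⟩ := exists_dot_zero ![v] ![φ] (by omega)
    rw [Matrix.range_cons, Matrix.range_empty, Set.union_empty] at hχ''
    have hχ'v : χ' ⬝ᵥ v = 0 := by rw [dotProduct_comm]; exact hχ' 0
    have hne : χ' ≠ 0 := fun e => hχ'' (by rw [e]; exact zero_mem _)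
    refine key χ' χ hne hχ'v hχv (fun hmem => hχ'' ?_) (key φ χ' hφ hφv hχ'v hχ'' h)
    obtain ⟨c, rfl⟩ := Submodule.mem_span_singleton.1 hmem
    have hc : c ≠ 0 := fun e => hχ (by rw [e, zero_smul])
    exact (Submodule.smul_mem_iff _ hc).1 hnot
  · exact key φ χ hφ hφv hχv hnot h

lemma change_vector (hM : Contains F₀ M) (hn : 3 < Fintype.card ι) {b : F} {v φ : ι → F₀}
    (hv : v ≠ 0) (hφv : φ ⬝ᵥ v = 0) (h : tvGL (b • cv v) (cv φ) ∈ M) {w : ι → F₀}
    (hφw : φ ⬝ᵥ w = 0) : tvGL (b • cv w) (cv φ) ∈ M := by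
  have key : ∀ v w : ι → F₀, v ≠ 0 → φ ⬝ᵥ v = 0 → φ ⬝ᵥ w = 0 → w ∉ Submodule.span F₀ {v} →
      tvGL (b • cv v) (cv φ) ∈ M → tvGL (b • cv w) (cv φ) ∈ M := by
    intro v w hv hφv hφw hnot h
    obtain ⟨ξ, hξ⟩ := exists_dot (li_pair hv hnot) ![1, 0]
    have hξv : ξ ⬝ᵥ v = 1 := by rw [dotProduct_comm]; exact hξ 0
    have hξw : ξ ⬝ᵥ w = 0 := by rw [dotProduct_comm]; exact hξ 1
    have hS := hM w ξ hξw
    have := M.mul_mem (M.mul_mem hS h) (M.inv_mem hS)
    rw [conj_tv (by rw [cv_dot, hξw]; simp) (dot_cv_zero hφv b), cv_dot, hφw, dotProduct_smul,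
      cv_dot, hξv, Subfield.coe_zero, zero_smul, sub_zero, Subfield.coe_one, smul_eq_mul, mul_one,
      tvGL_add_left (dot_cv_zero hφv b) (dot_cv_zero hφw b)] at this
    exact (M.mul_mem_cancel_left h).1 this
  by_cases hnot : w ∈ Submodule.span F₀ {v}
  · by_cases hw : w = 0
    · rw [hw, cv_zero, smul_zero, tvGL_zero_left]; exact M.one_mem
    obtain ⟨w', hw', hw''⟩ := exists_dot_zero ![φ] ![v] (by omega)
    rw [Matrix.range_cons, Matrix.range_empty, Set.union_empty] at hw''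
    have hne : w' ≠ 0 := fun e => hw'' (by rw [e]; exact zero_mem _)
    refine key w' w hne (hw' 0) hφw (fun hmem => hw'' ?_) (key v w' hv hφv (hw' 0) hw'' h)
    obtain ⟨c, rfl⟩ := Submodule.mem_span_singleton.1 hmem
    have hc : c ≠ 0 := fun e => hw (by rw [e, zero_smul])
    exact (Submodule.smul_mem_iff _ hc).1 hnot
  · exact key v w hv hφv hφw hnot h

lemma good_of_one (hM : Contains F₀ M) (hn : 3 < Fintype.card ι) {b : F} {v₀ φ₀ : ι → F₀}
    (hv : v₀ ≠ 0) (hφ : φ₀ ≠ 0) (hφv : φ₀ ⬝ᵥ v₀ = 0) (h : tvGL (b • cv v₀) (cv φ₀) ∈ M) :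
    Good F₀ M b := by
  intro w ψ hψw
  by_cases hw : w = 0
  · rw [hw, cv_zero, smul_zero, tvGL_zero_left]; exact M.one_mem
  obtain ⟨χ, hχ, hχ0⟩ := exists_dot_zero ![v₀, w] ![(0 : ι → F₀)] (by omega)
  have hne : χ ≠ 0 := fun e => hχ0 (by rw [e]; exact zero_mem _)
  have h1 : χ ⬝ᵥ v₀ = 0 := by rw [dotProduct_comm]; exact hχ 0
  have h2 : χ ⬝ᵥ w = 0 := by rw [dotProduct_comm]; exact hχ 1
  exact change_functional hM hn hne h2
    (change_vector hM hn hv h1 (change_functional hM hn hφ hφv h h1) h2) hψw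

lemma good_mul (hM : Contains F₀ M) (hn : 3 < Fintype.card ι) [Nonempty ι] {a c : F}
    (ha : Good F₀ M a) (hc : Good F₀ M c) : Good F₀ M (a * c) := by
  obtain ⟨v, -, hv⟩ := exists_dot_zero (![] : Fin 0 → ι → F₀) ![(0 : ι → F₀)] (by omega)
  have hv0 : v ≠ 0 := fun e => hv (by rw [e]; exact zero_mem _)
  obtain ⟨χ, hχ, hχ0⟩ := exists_dot_zero ![v] ![(0 : ι → F₀)] (by omega)
  have hχne : χ ≠ 0 := fun e => hχ0 (by rw [e]; exact zero_mem _)
  have hχv : χ ⬝ᵥ v = 0 := by rw [dotProduct_comm]; exact hχ 0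
  obtain ⟨φ, hφ, hφnot⟩ := exists_dot_zero ![v] ![χ] (by omega)
  rw [Matrix.range_cons, Matrix.range_empty, Set.union_empty] at hφnot
  have hφv : φ ⬝ᵥ v = 0 := by rw [dotProduct_comm]; exact hφ 0
  obtain ⟨w, hw⟩ := exists_dot (li_pair hχne hφnot) ![0, 1]
  have hA := ha v φ hφv
  have hS := hc w χ (hw 0)
  have := M.mul_mem (M.mul_mem (M.mul_mem hA hS) (M.inv_mem hA)) (M.inv_mem hS)
  rw [comm_tv_left (dot_cv_zero hφv a) (dot_cv_zero (show χ ⬝ᵥ w = 0 from hw 0) c) (dot_cv_zero hχv a), dotProduct_smul,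
    cv_dot, show φ ⬝ᵥ w = 1 from hw 1, Subfield.coe_one, smul_eq_mul, mul_one, smul_smul,
    mul_comm c a] at this
  exact good_of_one hM hn hv0 hχne hχv this

/-- A vector proportional to a rational one. -/
def IsRat (F₀ : Subfield F) (u : ι → F) : Prop := ∃ (l : F) (r : ι → F₀), u = l • cv r

omit [DecidableEq F] in
lemma isRat_of_forall {u : ι → F} {β : F} (hβ : β ≠ 0) (h : ∀ j, β * u j ∈ F₀) : IsRat F₀ u :=
  ⟨β⁻¹, fun j => ⟨_, h j⟩, funext fun j => by
    rw [Pi.smul_apply, smul_eq_mul]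
    change u j = β⁻¹ * (β * u j)
    rw [inv_mul_cancel_left₀ hβ]⟩

lemma exists_good_left (hM : Contains F₀ M) (hn : 3 < Fintype.card ι) {u φ : ι → F}
    (hu : ¬ IsRat F₀ u) (hφ : φ ≠ 0) (hφu : φ ⬝ᵥ u = 0) (hT : tvGL u φ ∈ M) {ψ : ι → F₀}
    (hψ : ψ ≠ 0) (hψu : cv ψ ⬝ᵥ u = 0) : ∃ b, b ∉ F₀ ∧ Good F₀ M b := by
  obtain ⟨β, hβ, hmem⟩ : ∃ β : F, β ≠ 0 ∧ tvGL (β • u) (cv ψ) ∈ M := by
    by_cases hex : ∃ v : ι → F₀, ψ ⬝ᵥ v = 0 ∧ φ ⬝ᵥ cv v ≠ 0
    · obtain ⟨v, hv, hφv⟩ := hex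
      have hS := hM v ψ hv
      have := M.mul_mem (M.mul_mem (M.mul_mem hT hS) (M.inv_mem hT)) (M.inv_mem hS)
      rw [comm_tv_left hφu (by rw [cv_dot, hv]; simp) hψu] at this
      exact ⟨_, hφv, this⟩
    · push Not at hex
      obtain ⟨v₀, hv₀⟩ := exists_dot (LinearIndependent.of_subsingleton (v := ![ψ]) 0 hψ) ![1]
      have hv₀' : ψ ⬝ᵥ v₀ = 1 := hv₀ 0
      set l := φ ⬝ᵥ cv v₀ with hl
      have hφeq : φ = l • cv ψ := by
        funext j
        have h := hex (Pi.single j 1 - ψ j • v₀) (by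
          rw [dotProduct_sub, dotProduct_smul, hv₀', dotProduct_single]; simp)
        rw [cv_sub, cv_smul, cv_single, dotProduct_sub, dotProduct_smul, dotProduct_single,
          Subfield.coe_one, mul_one, sub_eq_zero] at h
        rw [h, Pi.smul_apply, smul_eq_mul, hl, smul_eq_mul]
        exact mul_comm _ _
      have hl0 : l ≠ 0 := fun e => hφ (by rw [hφeq, e, zero_smul])
      exact ⟨l, hl0, by rwa [tvGL_smul _ hψu, ← hφeq]⟩
  by_contra hcon
  push Not at hcon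
  refine hu (isRat_of_forall hβ fun j => by_contra fun hj => hcon _ hj ?_)
  obtain ⟨v, hv, hv0⟩ := exists_dot_zero ![ψ, Pi.single j 1] ![(0 : ι → F₀)] (by omega)
  have hvne : v ≠ 0 := fun e => hv0 (by rw [e]; exact zero_mem _)
  have hS := hM v (Pi.single j 1) (hv 1)
  have := M.mul_mem (M.mul_mem hS hmem) (M.inv_mem hS)
  rw [conj_tv (by rw [cv_dot, show Pi.single j 1 ⬝ᵥ v = 0 from hv 1]; simp)
      (by rw [dotProduct_smul, hψu, smul_zero]), cv_dot, show ψ ⬝ᵥ v = 0 from hv 0,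
    Subfield.coe_zero, zero_smul, sub_zero, cv_single, Subfield.coe_one, single_dotProduct,
    one_mul, Pi.smul_apply, smul_eq_mul,
    tvGL_add_left (by rw [dotProduct_smul, hψu, smul_zero])
      (dot_cv_zero (show ψ ⬝ᵥ v = 0 from hv 0) _)] at this
  exact good_of_one hM hn hvne hψ (hv 0) ((M.mul_mem_cancel_left hmem).1 this)

lemma exists_good_right (hM : Contains F₀ M) (hn : 3 < Fintype.card ι) {u φ : ι → F}
    (hφ : ¬ IsRat F₀ φ) (hu : u ≠ 0) (hφu : φ ⬝ᵥ u = 0) (hT : tvGL u φ ∈ M) {v : ι → F₀}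
    (hv : v ≠ 0) (hφv : φ ⬝ᵥ cv v = 0) : ∃ b, b ∉ F₀ ∧ Good F₀ M b := by
  obtain ⟨β, hβ, hmem⟩ : ∃ β : F, β ≠ 0 ∧ tvGL (cv v) (β • φ) ∈ M := by
    by_cases hex : ∃ χ : ι → F₀, χ ⬝ᵥ v = 0 ∧ cv χ ⬝ᵥ u ≠ 0
    · obtain ⟨χ, hχ, hχu⟩ := hex
      have hS := hM v χ hχ
      have := M.mul_mem (M.mul_mem (M.mul_mem hT hS) (M.inv_mem hT)) (M.inv_mem hS)
      rw [comm_tv_right hφu (by rw [cv_dot, hχ]; simp) hφv] at this
      exact ⟨_, neg_ne_zero.2 hχu, this⟩
    · push Not at hex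
      obtain ⟨χ₀, hχ₀⟩ := exists_dot (LinearIndependent.of_subsingleton (v := ![v]) 0 hv) ![1]
      have hχ₀' : χ₀ ⬝ᵥ v = 1 := by rw [dotProduct_comm]; exact hχ₀ 0
      set l := cv χ₀ ⬝ᵥ u with hl
      have hueq : u = l • cv v := by
        funext j
        have h := hex (Pi.single j 1 - v j • χ₀) (by
          rw [sub_dotProduct, smul_dotProduct, hχ₀', single_dotProduct]; simp)
        rw [cv_sub, cv_smul, cv_single, sub_dotProduct, smul_dotProduct, single_dotProduct,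
          Subfield.coe_one, one_mul, sub_eq_zero] at h
        rw [h, Pi.smul_apply, smul_eq_mul, hl, smul_eq_mul]
        exact mul_comm _ _
      have hl0 : l ≠ 0 := fun e => hu (by rw [hueq, e, zero_smul])
      exact ⟨l, hl0, by rwa [← tvGL_smul _ hφv, ← hueq]⟩
  by_contra hcon
  push Not at hcon
  refine hφ (isRat_of_forall (neg_ne_zero.2 hβ) fun j => by_contra fun hj => hcon _ hj ?_)
  obtain ⟨ξ, hξ, hξ0⟩ := exists_dot_zero ![v, Pi.single j 1] ![(0 : ι → F₀)] (by omega)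
  have hξne : ξ ≠ 0 := fun e => hξ0 (by rw [e]; exact zero_mem _)
  have hξv : ξ ⬝ᵥ v = 0 := by rw [dotProduct_comm]; exact hξ 0
  have hξw : ξ ⬝ᵥ Pi.single j 1 = 0 := by rw [dotProduct_comm]; exact hξ 1
  have hβv : (β • φ) ⬝ᵥ cv v = 0 := by rw [smul_dotProduct, hφv, smul_zero]
  have hξv' : cv ξ ⬝ᵥ cv v = 0 := by rw [cv_dot, hξv]; simp
  have hS := hM (Pi.single j 1) ξ hξw
  have := M.mul_mem (M.mul_mem hS hmem) (M.inv_mem hS)
  rw [conj_tv (by rw [cv_dot, hξw]; simp) hβv, hξv', zero_smul, add_zero, sub_eq_add_neg,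
    cv_single, Subfield.coe_one, dotProduct_single, mul_one, Pi.smul_apply, smul_eq_mul,
    ← neg_smul, tvGL_add_right hβv (by rw [smul_dotProduct, hξv', smul_zero]),
    ← tvGL_smul _ hξv', ← neg_mul] at this
  exact good_of_one hM hn hv hξne hξv ((M.mul_mem_cancel_left hmem).1 this)

/-- The moved part of `h` lies in a plane. -/
def Small (h : GL ι F) : Prop :=
  ∃ s : Fin 2 → ι → F, ∀ y, (h : Matrix ι ι F) *ᵥ y - y ∈ Submodule.span F (Set.range s)

omit [DecidableEq F] in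
lemma Small.conj {x z : GL ι F} (h : IsConj x z) (hx : Small x) : Small z := by
  obtain ⟨c, rfl⟩ := isConj_iff.1 h
  obtain ⟨s, hs⟩ := hx
  refine ⟨fun i => (c : Matrix ι ι F) *ᵥ s i, fun y => ?_⟩
  have h1 := Submodule.mem_map_of_mem (f := Matrix.toLin' (c : Matrix ι ι F))
    (hs (((c⁻¹ : GL ι F) : Matrix ι ι F) *ᵥ y))
  rw [Submodule.map_span, ← Set.range_comp, Matrix.toLin'_apply, mulVec_sub, gl_mulVec_inv_mulVec,
    ← gl_mulVec_mul, ← gl_mulVec_mul] at h1
  exact h1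

omit [DecidableEq F] in
lemma not_small {h : GL ι F} (p : Fin 3 → ι) {c : F} (hc : c ≠ 0) (y : Fin 3 → ι → F)
    (hy : ∀ i j, ((h : Matrix ι ι F) *ᵥ y i - y i) (p j) = if i = j then c else 0) : ¬ Small h := by
  rintro ⟨s, hs⟩
  have hli : LinearIndependent F fun i => (h : Matrix ι ι F) *ᵥ y i - y i := by
    refine Fintype.linearIndependent_iff.2 fun a ha i => ?_
    have := congrFun ha (p i)
    simp only [Finset.sum_apply, Pi.smul_apply, smul_eq_mul, hy, mul_ite, mul_zero,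
      Finset.sum_ite_eq', Finset.mem_univ, if_true, Pi.zero_apply] at this
    exact (mul_eq_zero.1 this).resolve_right hc
  have h1 := Submodule.finrank_mono (Submodule.span_le.2 (Set.range_subset_iff.2 fun i => hs (y i)))
  rw [finrank_span_eq_card hli] at h1
  have h2 := finrank_range_le_card (R := F) s
  simp only [Fintype.card_fin] at h1
  rw [Set.finrank] at h2
  simp only [Fintype.card_fin] at h2
  omega

omit [DecidableEq F] in
/-- Rational permutation matrices of even permutations, in the special linear group. -/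
lemma exists_perm (π : Equiv.Perm ι) (hπ : Equiv.Perm.sign π = 1) :
    ∃ z : GL ι F, z ∈ subfieldSubgroup F₀ (1 : GL ι F) ⊓ specialLinear ι F ∧
      (∀ y, (z : Matrix ι ι F) *ᵥ y = y ∘ π) := by
  have hd : ∀ (K : Type _) [Field K], (π.permMatrix K).det ≠ 0 := fun K _ => by
    rw [Matrix.det_permutation, hπ]; simp
  refine ⟨Matrix.GeneralLinearGroup.mkOfDetNeZero _ (hd F), ⟨?_, ?_⟩, fun y => ?_⟩
  · refine mem_subfieldSubgroup_of_rat _ (g₀ := Matrix.GeneralLinearGroup.mkOfDetNeZero _ (hd F₀))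
      one_ne_zero fun j => ?_
    rw [ratVec_one, ratVec_one, one_smul]
    change π.permMatrix F *ᵥ _ = cv (π.permMatrix F₀ *ᵥ _)
    rw [Matrix.permMatrix_mulVec, Matrix.permMatrix_mulVec]
    rfl
  · refine MonoidHom.mem_ker.2 (Units.ext ?_)
    change (π.permMatrix F).det = 1
    rw [Matrix.det_permutation, hπ]; simp
  · exact Matrix.permMatrix_mulVec π

omit [DecidableEq F] in
lemma mem_sub_one_iff {g : GL ι F} :
    g ∈ subfieldSubgroup F₀ (1 : GL ι F) ↔ ∀ x : ι → F₀, IsRat F₀ ((g : Matrix ι ι F) *ᵥ cv x) := by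
  constructor
  · intro h x
    obtain ⟨l, r, e⟩ := exists_of_mem_subfieldSubgroup _ h x
    exact ⟨l, r, by rwa [ratVec_one, ratVec_one] at e⟩
  · intro h
    refine mem_subfieldSubgroup_of_forall _ fun x => ?_
    obtain ⟨l, r, e⟩ := h x
    exact ⟨l, r, by rw [ratVec_one, ratVec_one, e]⟩

omit [DecidableEq F] in
lemma exists_rat_matrix {g : GL ι F} (hg : g ∈ subfieldSubgroup F₀ (1 : GL ι F)) :
    ∃ (c : F) (A : Matrix ι ι F₀), ∀ x, (g : Matrix ι ι F) *ᵥ cv x = c • cv (A *ᵥ x) := by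
  obtain ⟨k, hk, rfl⟩ := hg
  obtain ⟨_, ⟨g₀, rfl⟩, z, hz, rfl⟩ := Subgroup.mem_sup_of_normal_right.1 hk
  obtain ⟨l, hl⟩ := (mem_scalars_iff z).1 hz
  refine ⟨l, (g₀ : Matrix ι ι F₀), fun x => ?_⟩
  change ((1 * (_ * z) * 1⁻¹ : GL ι F) : Matrix ι ι F) *ᵥ _ = _
  rw [one_mul, inv_one, mul_one, gl_mulVec_mul, hl, smul_mulVec, one_mulVec, mulVec_smul, cv_mulVec]
  rfl

omit [DecidableEq F] in
/-- An involution in the subfield group is rational, for extensions of odd degree. -/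
lemma exists_rat_involution [Fintype F] (hr : (Module.finrank F₀ F).Prime)
    (hr2 : 2 < Module.finrank F₀ F) [Nonempty ι] {g : GL ι F}
    (hg : g ∈ subfieldSubgroup F₀ (1 : GL ι F)) (hgg : g * g = 1) :
    ∃ A : Matrix ι ι F₀, ∀ x, (g : Matrix ι ι F) *ᵥ cv x = cv (A *ᵥ x) := by
  obtain ⟨c, A, hA⟩ := exists_rat_matrix hg
  obtain ⟨j⟩ := ‹Nonempty ι›
  have h2 : (c * c) * ((A *ᵥ (A *ᵥ Pi.single j 1)) j : F) = 1 := by
    have h := congrArg (fun k : GL ι F => ((k : Matrix ι ι F) *ᵥ cv (F₀ := F₀) (Pi.single j 1)) j) hgg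
    simp only [gl_mulVec_mul, hA, mulVec_smul, smul_smul, Units.val_one, one_mulVec,
      Pi.smul_apply, smul_eq_mul] at h
    simpa [cv, mul_assoc] using h
  have hc2 : c * c ∈ F₀ := by
    rw [eq_inv_of_mul_eq_one_left h2]
    exact F₀.inv_mem (SetLike.coe_mem _)
  suffices hc : c ∈ F₀ by
    refine ⟨(⟨c, hc⟩ : F₀) • A, fun x => ?_⟩
    rw [hA, smul_mulVec, cv_smul]
  by_contra hc
  let L : (F₀ × F₀) →ₗ[F₀] F := (Algebra.linearMap F₀ F).coprod (LinearMap.toSpanSingleton F₀ F c)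
  have hL : ∀ p, L p = (p.1 : F) + (p.2 : F) * c := fun p => rfl
  let K : Subalgebra F₀ F :=
    { carrier := Set.range L
      mul_mem' := by
        rintro _ _ ⟨p, rfl⟩ ⟨q, rfl⟩
        refine ⟨(p.1 * q.1 + p.2 * q.2 * ⟨c * c, hc2⟩, p.1 * q.2 + p.2 * q.1), ?_⟩
        simp only [hL]
        push_cast
        ring
      add_mem' := by rintro _ _ ⟨p, rfl⟩ ⟨q, rfl⟩; exact ⟨p + q, map_add _ _ _⟩
      algebraMap_mem' := fun a => ⟨(a, 0), by rw [hL]; simp; rfl⟩ }
  haveI := Subalgebra.isSimpleOrder_of_finrank_prime F₀ F hr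
  rcases IsSimpleOrder.eq_bot_or_eq_top K with h | h
  · have : c ∈ K := ⟨(0, 1), by rw [hL]; simp⟩
    rw [h, Algebra.mem_bot] at this
    obtain ⟨d, hd⟩ := this
    exact hc (hd ▸ d.2)
  · have hsurj : LinearMap.range L = ⊤ := eq_top_iff.2 fun y _ => by
      have : y ∈ K := h ▸ Algebra.mem_top
      exact this
    have h1 := LinearMap.finrank_range_le L
    rw [hsurj, finrank_top, Module.finrank_prod, Module.finrank_self] at h1
    omega

theorem sl_subfield_maximal_one [Fintype F] (hn : 11 ≤ Fintype.card ι)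
    (hr : (Module.finrank F₀ F).Prime) :
    IsMaximalIn (specialLinear ι F) (subfieldSubgroup F₀ (1 : GL ι F) ⊓ specialLinear ι F) := by
  classical
  haveI : Nonempty ι := Fintype.card_pos_iff.1 (by omega)
  set H := subfieldSubgroup F₀ (1 : GL ι F) ⊓ specialLinear ι F with hHdef
  have hH : Contains F₀ H := fun v ψ h =>
    ⟨mem_subfieldSubgroup_of_rat _ (g₀ := tvGL v ψ) one_ne_zero fun j => by
      rw [ratVec_one, ratVec_one, one_smul, tvGL_mulVec h, tvGL_mulVec (by rw [cv_dot, h]; simp),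
        cv_add, cv_smul, cv_dot], tvGL_mem_sl _ _⟩
  haveI : IsSimpleOrder (Subalgebra F₀ F) := Subalgebra.isSimpleOrder_of_finrank_prime _ _ hr
  obtain ⟨θ, hθ⟩ : ∃ θ : F, θ ∉ F₀ := by
    by_contra hcon
    push Not at hcon
    have : (⊥ : Subalgebra F₀ F) = ⊤ :=
      eq_top_iff.2 fun y _ => Algebra.mem_bot.2 ⟨⟨y, hcon y⟩, rfl⟩
    exact bot_ne_top this
  refine CfsgLib.ClassicalMax.isMaximalIn_of inf_le_right ?_ ?_
  · let ix : Fin 11 ↪ ι := (Fin.castLEEmb hn).trans (Fintype.equivFin ι).symm.toEmbedding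
    refine ⟨tvGL (θ • cv (Pi.single (ix 0) (1 : F₀))) (cv (Pi.single (ix 1) (1 : F₀))),
      tvGL_mem_sl _ _, fun h => ?_⟩
    obtain ⟨l, r, e⟩ := (mem_sub_one_iff.1 h.1) (Pi.single (ix 1) 1)
    have h0 : Pi.single (ix 1) (1 : F₀) ⬝ᵥ Pi.single (ix 0) (1 : F₀) = 0 := by
      simp [ix.injective.eq_iff]
    rw [tvGL_mulVec (dot_cv_zero h0 θ), cv_dot] at e
    have e0 := congrFun e (ix 0)
    have e1 := congrFun e (ix 1)
    simp [cv, ix.injective.eq_iff] at e0 e1
    have hr1 : (r (ix 1) : F) ≠ 0 := fun h => by rw [h, mul_zero] at e1; exact one_ne_zero e1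
    rw [show l = (r (ix 1) : F)⁻¹ from eq_inv_of_mul_eq_one_left e1.symm] at e0
    exact hθ (e0 ▸ F₀.mul_mem (F₀.inv_mem (SetLike.coe_mem _)) (SetLike.coe_mem _))
  intro M hHM hMK g hgM hgH
  have hM : Contains F₀ M := fun v ψ h => hHM (hH v ψ h)
  have hn3 : 3 < Fintype.card ι := by omega
  -- a new parameter
  obtain ⟨b, hbF, hb⟩ : ∃ b, b ∉ F₀ ∧ Good F₀ M b := by
    by_contra hcon
    have hB1 : ∀ h ∈ M, ∀ a ψ : ι → F₀, a ≠ 0 → ψ ≠ 0 →
        cv ψ ⬝ᵥ ((h : Matrix ι ι F) *ᵥ cv a) = 0 → IsRat F₀ ((h : Matrix ι ι F) *ᵥ cv a) := by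
      intro h hh a ψ ha hψ hzero
      by_contra hirr
      obtain ⟨χ, hχ, hχ0⟩ := exists_dot_zero ![a] ![(0 : ι → F₀)] (by omega)
      have hχne : χ ≠ 0 := fun e => hχ0 (by rw [e]; exact zero_mem _)
      have hχa : χ ⬝ᵥ a = 0 := by rw [dotProduct_comm]; exact hχ 0
      have hT := M.mul_mem (M.mul_mem hh (hM a χ hχa)) (M.inv_mem hh)
      have hd : cv χ ⬝ᵥ cv a = 0 := by rw [cv_dot, hχa]; simp
      rw [conj_tvGL _ hd] at hT
      refine hcon (exists_good_left hM hn3 hirr (fun e => ?_) ?_ hT hψ hzero)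
      · apply cv_ne_zero hχne
        have := congrArg (fun z => z ᵥ* (h : Matrix ι ι F)) e
        simpa [vecMul_vecMul] using this
      · rw [vecMul_inv_dot, gl_inv_mulVec_mulVec, hd]
    have hB2 : ∀ h ∈ M, ∀ v ψ : ι → F₀, v ≠ 0 → ψ ≠ 0 →
        (cv ψ ᵥ* ((h⁻¹ : GL ι F) : Matrix ι ι F)) ⬝ᵥ cv v = 0 →
        IsRat F₀ (cv ψ ᵥ* ((h⁻¹ : GL ι F) : Matrix ι ι F)) := by
      intro h hh v ψ hv hψ hzero
      by_contra hirr
      obtain ⟨a, ha, ha0⟩ := exists_dot_zero ![ψ] ![(0 : ι → F₀)] (by omega)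
      have hane : a ≠ 0 := fun e => ha0 (by rw [e]; exact zero_mem _)
      have hT := M.mul_mem (M.mul_mem hh (hM a ψ (ha 0))) (M.inv_mem hh)
      have hd : cv ψ ⬝ᵥ cv a = 0 := by rw [cv_dot, show ψ ⬝ᵥ a = 0 from ha 0]; simp
      rw [conj_tvGL _ hd] at hT
      refine hcon (exists_good_right hM hn3 hirr (gl_mulVec_ne_zero h (cv_ne_zero hane)) ?_ hT hv hzero)
      rw [vecMul_inv_dot, gl_inv_mulVec_mulVec, hd]
    -- an element with a rational image of a rational point is rational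
    have hrat : ∀ h ∈ M, ∀ a : ι → F₀, a ≠ 0 → IsRat F₀ ((h : Matrix ι ι F) *ᵥ cv a) → h ∈ H := by
      intro h hh a ha hla
      refine ⟨mem_sub_one_iff.2 fun y => ?_, hMK hh⟩
      by_cases hy : y = 0
      · exact ⟨0, 0, by rw [hy, cv_zero, mulVec_zero, zero_smul]⟩
      obtain ⟨ψ, hψ, hψ0⟩ := exists_dot_zero ![a, y] ![(0 : ι → F₀)] (by omega)
      have hψne : ψ ≠ 0 := fun e => hψ0 (by rw [e]; exact zero_mem _)
      obtain ⟨l, r, hr'⟩ := hla
      have hl : l ≠ 0 := fun e =>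
        gl_mulVec_ne_zero h (cv_ne_zero ha) (by rw [hr', e, zero_smul])
      have hr0 : r ≠ 0 := fun e =>
        gl_mulVec_ne_zero h (cv_ne_zero ha) (by rw [hr', e, cv_zero, smul_zero])
      have h1 : (cv ψ ᵥ* ((h⁻¹ : GL ι F) : Matrix ι ι F)) ⬝ᵥ (l • cv r) = 0 := by
        rw [← hr', vecMul_inv_dot, gl_inv_mulVec_mulVec, cv_dot, dotProduct_comm,
          show a ⬝ᵥ ψ = 0 from hψ 0]
        simp
      rw [dotProduct_smul, smul_eq_mul, mul_eq_zero] at h1
      obtain ⟨l', r', e'⟩ := hB2 h hh r ψ hr0 hψne (h1.resolve_left hl)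
      have hr'0 : r' ≠ 0 := fun e => by
        apply cv_ne_zero hψne
        have := congrArg (fun z => z ᵥ* (h : Matrix ι ι F)) e'
        simpa [vecMul_vecMul, e, cv_zero] using this
      have hl' : l' ≠ 0 := fun e => by
        apply cv_ne_zero hψne
        have := congrArg (fun z => z ᵥ* (h : Matrix ι ι F)) e'
        simpa [vecMul_vecMul, e] using this
      have h2 : (l' • cv r') ⬝ᵥ ((h : Matrix ι ι F) *ᵥ cv y) = 0 := by
        rw [← e', vecMul_inv_dot, gl_inv_mulVec_mulVec, cv_dot, dotProduct_comm,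
          show y ⬝ᵥ ψ = 0 from hψ 1]
        simp
      rw [smul_dotProduct, smul_eq_mul, mul_eq_zero] at h2
      exact hB1 h hh y r' hy hr'0 (h2.resolve_left hl')
    -- a rational matrix fixing an image of a rational point
    have hfix : ∀ h ∈ M, ∀ a : ι → F₀, a ≠ 0 → ∀ L : Matrix ι ι F₀, L ≠ 1 →
        L.map F₀.subtype *ᵥ ((h : Matrix ι ι F) *ᵥ cv a) = (h : Matrix ι ι F) *ᵥ cv a → h ∈ H := by
      intro h hh a ha L hL hfixL
      obtain ⟨i, hi⟩ : ∃ i, (L - 1) i ≠ 0 := by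
        by_contra hc
        push Not at hc
        exact hL (sub_eq_zero.1 (funext hc))
      refine hrat h hh a ha (hB1 h hh a _ ha hi ?_)
      have h2 : (L - 1).map F₀.subtype *ᵥ ((h : Matrix ι ι F) *ᵥ cv a) = 0 := by
        rw [Matrix.map_sub _ (map_sub F₀.subtype), Matrix.map_one _ (map_zero _) (map_one _),
          sub_mulVec, hfixL, one_mulVec, sub_self]
      exact congrFun h2 i
    -- the degree is large
    have hr2 : 2 < Module.finrank F₀ F := by
      by_contra hle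
      obtain ⟨x, hx⟩ : ∃ x, ¬ IsRat F₀ ((g : Matrix ι ι F) *ᵥ cv (F₀ := F₀) x) := by
        by_contra hc
        push Not at hc
        exact hgH ⟨mem_sub_one_iff.2 hc, hMK hgM⟩
      have hx0 : x ≠ 0 := fun e => hx ⟨0, 0, by rw [e, cv_zero, mulVec_zero, zero_smul]⟩
      let L : (ι → F₀) →ₗ[F₀] F :=
        { toFun := fun ψ => cv ψ ⬝ᵥ ((g : Matrix ι ι F) *ᵥ cv x)
          map_add' := fun p q => by rw [cv_add, add_dotProduct]
          map_smul' := fun c p => by rw [cv_smul, smul_dotProduct]; rfl }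
      obtain ⟨ψ, hψ, hψ0⟩ := Submodule.exists_mem_ne_zero_of_ne_bot (p := LinearMap.ker L) fun e => by
        have h1 := LinearMap.finrank_le_finrank_of_injective (LinearMap.ker_eq_bot.1 e)
        rw [Module.finrank_fintype_fun_eq_card] at h1
        omega
      exact hx (hB1 g hgM x ψ hx0 hψ0 hψ)
    -- two permutation involutions
    let ix : Fin 11 ↪ ι := (Fin.castLEEmb hn).trans (Fintype.equivFin ι).symm.toEmbedding
    let σ₁ : Equiv.Perm (Fin 11) := Equiv.swap 0 1 * Equiv.swap 2 3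
    let σ₂ : Equiv.Perm (Fin 11) :=
      Equiv.swap 0 1 * Equiv.swap 2 3 * (Equiv.swap 4 5 * Equiv.swap 6 7)
    have hs1 : Equiv.Perm.sign (σ₁.viaFintypeEmbedding ix) = 1 := by
      rw [Equiv.Perm.viaFintypeEmbedding_sign]; decide
    have hs2 : Equiv.Perm.sign (σ₂.viaFintypeEmbedding ix) = 1 := by
      rw [Equiv.Perm.viaFintypeEmbedding_sign]; decide
    obtain ⟨z₁, hz₁H, hz₁⟩ := exists_perm (F := F) (F₀ := F₀) _ hs1
    obtain ⟨z₂, hz₂H, hz₂⟩ := exists_perm (F := F) (F₀ := F₀) _ hs2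
    have happ : ∀ (σ : Equiv.Perm (Fin 11)) k, σ.viaFintypeEmbedding ix (ix k) = ix (σ k) :=
      fun σ k => Equiv.Perm.viaFintypeEmbedding_apply_image σ ix k
    have hsq : ∀ (σ : Equiv.Perm (Fin 11)) (z : GL ι F), σ * σ = 1 →
        (∀ y, (z : Matrix ι ι F) *ᵥ y = y ∘ σ.viaFintypeEmbedding ix) → z * z = 1 := by
      intro σ z hσ hz
      refine gl_ext_mulVec fun y => ?_
      rw [gl_mulVec_mul, hz, hz, Units.val_one, one_mulVec]
      funext k
      by_cases hk : k ∈ Set.range ix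
      · obtain ⟨j, rfl⟩ := hk
        simp only [Function.comp_apply, happ]
        rw [show σ (σ j) = j from congrArg (fun p => p j) hσ]
      · simp only [Function.comp_apply, Equiv.Perm.viaFintypeEmbedding_apply_notMem_range σ ix hk]
    have hz₁1 := hsq σ₁ z₁ (by decide) hz₁
    have hz₂1 := hsq σ₂ z₂ (by decide) hz₂
    -- the central element
    let e : GL ι F := Units.map (Matrix.scalar ι : F →+* Matrix ι ι F).toMonoidHom (-1)
    have he : ∀ y : ι → F, (e : Matrix ι ι F) *ᵥ y = -y := fun y => by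
      simp [e, neg_mulVec]
    have hee : e * e = 1 := gl_ext_mulVec fun y => by rw [gl_mulVec_mul, he, he]; simp
    have hec : ∀ h : GL ι F, e * h = h * e := fun h => gl_ext_mulVec fun y => by
      rw [gl_mulVec_mul, gl_mulVec_mul, he, he, mulVec_neg]
    have hsmall : Small z₁ := by
      refine ⟨![Pi.single (ix 0) 1 - Pi.single (ix 1) 1, Pi.single (ix 2) 1 - Pi.single (ix 3) 1],
        fun y => ?_⟩
      rw [Submodule.mem_span_range_iff_exists_fun]
      refine ⟨![y (ix 1) - y (ix 0), y (ix 3) - y (ix 2)], funext fun k => ?_⟩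
      rw [hz₁, Fin.sum_univ_two]
      by_cases hk : k ∈ Set.range ix
      · obtain ⟨j, rfl⟩ := hk
        simp only [Pi.sub_apply, Function.comp_apply, happ]
        fin_cases j <;> simp [σ₁, Equiv.swap_apply_def, ix.injective.eq_iff]
      · have hk' : ∀ j, k ≠ ix j := fun j e => hk ⟨j, e.symm⟩
        simp [Equiv.Perm.viaFintypeEmbedding_apply_notMem_range σ₁ ix hk, hk']
    have hz₂small : ¬ Small z₂ := by
      refine not_small ![ix 0, ix 2, ix 4] (c := (-1 : F)) (by simp)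
        ![Pi.single (ix 0) 1, Pi.single (ix 2) 1, Pi.single (ix 4) 1] fun i j => ?_
      rw [hz₂]
      fin_cases i <;> fin_cases j <;>
        simp [happ, σ₂, Equiv.swap_apply_def, ix.injective.eq_iff]
    have hneg : (2 : F) ≠ 0 → ∀ (σ : Equiv.Perm (Fin 11)) (z : GL ι F), σ 8 = 8 → σ 9 = 9 →
        σ 10 = 10 → (∀ y, (z : Matrix ι ι F) *ᵥ y = y ∘ σ.viaFintypeEmbedding ix) →
        ¬ Small (e * z) := by
      intro h2 σ z h8 h9 h10 hz
      refine not_small ![ix 8, ix 9, ix 10] (c := (-2 : F)) (neg_ne_zero.2 h2)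
        ![Pi.single (ix 8) 1, Pi.single (ix 9) 1, Pi.single (ix 10) 1] fun i j => ?_
      rw [gl_mulVec_mul, he, hz]
      fin_cases i <;> fin_cases j <;> simp [happ, h8, h9, h10, ix.injective.eq_iff] <;> norm_num
    have he1 : (2 : F) = 0 → e = 1 := fun h2 => gl_ext_mulVec fun y => by
      rw [he, Units.val_one, one_mulVec]
      funext k
      simp only [Pi.neg_apply]
      linear_combination -(y k) * h2
    -- the conjugate involution
    have hgsl : g ∈ specialLinear ι F := hMK hgM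
    set x := g * z₁ * g⁻¹ with hxdef
    have hxM : x ∈ M := M.mul_mem (M.mul_mem hgM (hHM hz₁H)) (M.inv_mem hgM)
    have hxx : x * x = 1 := by
      rw [hxdef, show g * z₁ * g⁻¹ * (g * z₁ * g⁻¹) = g * (z₁ * z₁) * g⁻¹ by group, hz₁1]
      group
    have hxz : IsConj z₁ x := isConj_iff.2 ⟨g, rfl⟩
    have hxsmall : Small x := Small.conj hxz hsmall
    obtain ⟨i, hicl, hii, hi1, hie, hix, hiz⟩ := exists_common_commuting hxx hz₂1 hee hec
      (fun h => hz₂small (Small.conj h hxsmall))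
      (fun h => by
        by_cases h2 : (2 : F) = 0
        · rw [he1 h2, one_mul] at h; exact hz₂small (Small.conj h hxsmall)
        · exact hneg h2 σ₂ z₂ (by decide) (by decide) (by decide) hz₂ (Small.conj h hxsmall))
      (fun hne h => by
        have h2 : (2 : F) ≠ 0 := fun h2 => hne (he1 h2)
        refine hneg h2 σ₁ z₁ (by decide) (by decide) (by decide) hz₁
          (Small.conj (isConj_iff.2 ⟨g⁻¹, ?_⟩) (Small.conj h hxsmall))
        rw [hxdef, inv_inv, ← mul_assoc g⁻¹, ← hec g⁻¹]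
        group)
    have hiM : i ∈ M := (Subgroup.closure_le M).2 (by
      rintro _ (rfl | rfl)
      exacts [hxM, hHM hz₂H]) hicl
    have hcent : ∀ (σ : Equiv.Perm (Fin 11)) (z : GL ι F), σ 10 = 10 → σ 0 = 1 →
        (∀ y, (z : Matrix ι ι F) *ᵥ y = y ∘ σ.viaFintypeEmbedding ix) →
        ∀ h ∈ M, h * z = z * h → h ∈ H := by
      intro σ z h10 h01 hz h hh hcomm
      set π := σ.viaFintypeEmbedding ix with hπ
      refine hfix h hh (Pi.single (ix 10) 1) (fun h => one_ne_zero (α := F₀)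
        (by simpa using congrFun h (ix 10))) (π.permMatrix F₀) (fun hL => ?_) ?_
      · have := congrFun (congrArg (fun A => A *ᵥ (Pi.single (ix 1) (1 : F₀) : ι → F₀)) hL) (ix 0)
        simp [Matrix.permMatrix_mulVec, hπ, happ, h01, ix.injective.eq_iff] at this
      · have e1 : (π.permMatrix F₀).map F₀.subtype = π.permMatrix F := by
          ext p q
          simp [Equiv.Perm.permMatrix, PEquiv.toMatrix_apply, apply_ite]
        rw [e1, Matrix.permMatrix_mulVec, ← hz, ← gl_mulVec_mul, ← hcomm, gl_mulVec_mul, hz, cv_single]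
        congr 1
        funext k
        have h10' : π (ix 10) = ix 10 := by rw [hπ, happ, h10]
        have hiff : π k = ix 10 ↔ k = ix 10 :=
          ⟨fun h => π.injective (h.trans h10'.symm), fun h => by rw [h, h10']⟩
        simp [Pi.single_apply, hiff]
    have hiH : i ∈ H := hcent σ₂ z₂ (by decide) (by decide) hz₂ i hiM hiz
    set i₁ := g⁻¹ * i * g with hi₁
    have hi₁z : i₁ * z₁ = z₁ * i₁ := by
      rw [hi₁, show g⁻¹ * i * g * z₁ = g⁻¹ * (i * x) * g by rw [hxdef]; group,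
        show z₁ * (g⁻¹ * i * g) = g⁻¹ * (x * i) * g by rw [hxdef]; group, hix]
    have hi₁H : i₁ ∈ H :=
      hcent σ₁ z₁ (by decide) (by decide) hz₁ _ (M.mul_mem (M.mul_mem (M.inv_mem hgM) hiM) hgM) hi₁z
    have hi₁1 : i₁ * i₁ = 1 := by
      rw [hi₁, show g⁻¹ * i * g * (g⁻¹ * i * g) = g⁻¹ * (i * i) * g by group, hii, mul_one,
        inv_mul_cancel]
    obtain ⟨A, hA⟩ := exists_rat_involution hr hr2 hi₁H.1 hi₁1
    obtain ⟨L, hL⟩ := exists_rat_involution hr hr2 hiH.1 hii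
    have hA2 : ∀ y, A *ᵥ (A *ᵥ y) = y := fun y => by
      have h : cv (A *ᵥ (A *ᵥ y)) = cv y := by
        rw [← hA, ← hA, ← gl_mulVec_mul, hi₁1, Units.val_one, one_mulVec]
      exact funext fun k => Subtype.ext (congrFun h k)
    obtain ⟨y, hy⟩ : ∃ y, y + A *ᵥ y ≠ 0 := by
      by_contra hc
      push Not at hc
      have h1 : i₁ = e := Units.ext (Matrix.ext_of_mulVec_single fun k => by
        have h := hA (Pi.single k 1)
        rw [show A *ᵥ Pi.single k 1 = -Pi.single k 1 from eq_neg_of_add_eq_zero_right (hc _),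
          cv_single, ← zero_sub, cv_sub, cv_zero, cv_single, zero_sub, Subfield.coe_one] at h
        rw [h, he])
      apply hie
      rw [show i = g * i₁ * g⁻¹ by rw [hi₁]; group, h1, ← hec, mul_assoc, mul_inv_cancel, mul_one]
    have hLF : ∀ u, (L.map F₀.subtype) *ᵥ u = (i : Matrix ι ι F) *ᵥ u := by
      intro u
      refine congrArg (fun B : Matrix ι ι F => B *ᵥ u) (Matrix.ext_of_mulVec_single fun k => ?_)
      have := hL (Pi.single k 1)
      rw [cv_mulVec, cv_single, Subfield.coe_one] at this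
      exact this.symm
    refine hgH (hfix g hgM _ hy L (fun hL1 => hi1 (gl_ext_mulVec fun u => ?_)) ?_)
    · rw [← hLF, hL1, Matrix.map_one _ (map_zero _) (map_one _), Units.val_one]
    · rw [hLF, ← gl_mulVec_mul, show i * g = g * i₁ by rw [hi₁]; group, gl_mulVec_mul, hA,
        mulVec_add, hA2, add_comm]
  -- all parameters occur
  let K : Subalgebra F₀ F :=
    { carrier := {b | Good F₀ M b}
      mul_mem' := fun ha hc => good_mul hM hn3 ha hc
      one_mem' := fun v ψ h => by rw [one_smul]; exact hM v ψ h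
      add_mem' := fun {a c} ha hc v ψ h => by
        rw [add_smul, tvGL_add_left (dot_cv_zero h a) (dot_cv_zero h c)]
        exact M.mul_mem (ha v ψ h) (hc v ψ h)
      zero_mem' := fun v ψ h => by rw [zero_smul, tvGL_zero_left]; exact M.one_mem
      algebraMap_mem' := fun c v ψ h => by
        rw [show algebraMap F₀ F c = (c : F) from rfl, ← cv_smul]
        exact hM _ _ (by rw [dotProduct_smul, h, smul_zero]) }
  have hall : ∀ c, Good F₀ M c := by
    intro c
    rcases IsSimpleOrder.eq_bot_or_eq_top K with h | h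
    · have : b ∈ K := hb
      rw [h, Algebra.mem_bot] at this
      obtain ⟨d, hd⟩ := this
      exact absurd (hd ▸ d.2 : b ∈ F₀) hbF
    · have : c ∈ K := h ▸ Algebra.mem_top
      exact this
  refine sl_le_of_elementary fun i j hij c => ?_
  have := hall c (Pi.single i 1) (Pi.single j 1) (by simp [hij.symm])
  rwa [cv_single, cv_single, Subfield.coe_one, ← Pi.single_smul', smul_eq_mul, mul_one] at this

omit [DecidableEq F] in
theorem sl_subfield_maximal [Fintype F] (hn : 11 ≤ Fintype.card ι)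
    (hr : (Module.finrank F₀ F).Prime) (P : GL ι F) :
    IsMaximalIn (specialLinear ι F) (subfieldSubgroup F₀ P ⊓ specialLinear ι F) := by
  classical
  have h1 : subfieldSubgroup F₀ P
      = (subfieldSubgroup F₀ (1 : GL ι F)).map (MulAut.conj P).toMonoidHom := by
    rw [subfieldSubgroup, subfieldSubgroup, Subgroup.map_map]
    congr 1
    ext a
    simp
  have h2 : (specialLinear ι F).map (MulAut.conj P).toMonoidHom = specialLinear ι F := by
    ext k
    constructor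
    · rintro ⟨a, ha, rfl⟩
      have ha' : Matrix.GeneralLinearGroup.det a = 1 := ha
      refine MonoidHom.mem_ker.2 ?_
      rw [MulEquiv.toMonoidHom_eq_coe, MonoidHom.coe_coe, MulAut.conj_apply, map_mul, map_mul, ha',
        mul_one, ← map_mul, mul_inv_cancel, map_one]
    · intro hk
      have hk' : Matrix.GeneralLinearGroup.det k = 1 := hk
      refine ⟨P⁻¹ * k * P, MonoidHom.mem_ker.2 ?_, by simp [mul_assoc]⟩
      rw [map_mul, map_mul, hk', mul_one, ← map_mul, inv_mul_cancel, map_one]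
  have h := sl_subfield_maximal_one (ι := ι) (F₀ := F₀) hn hr
  have hinj : Function.Injective (MulAut.conj P).toMonoidHom := (MulAut.conj P).injective
  rw [h1, ← h2, ← Subgroup.map_inf _ _ _ hinj]
  refine ⟨(Subgroup.map_lt_map_iff_of_injective hinj).2 h.1, fun M hl hu => ?_⟩
  have hM : M = (M.comap (MulAut.conj P).toMonoidHom).map (MulAut.conj P).toMonoidHom :=
    (Subgroup.map_comap_eq_self_of_surjective (MulAut.conj P).surjective _).symm
  rw [hM] at hl hu ⊢
  rw [Subgroup.map_le_map_iff_of_injective hinj] at hl hu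
  rcases h.2 _ hl hu with e | e
  · left; rw [e]
  · right; rw [e]

end CfsgLib.ClassicalMax.LinSub
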