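/-
Subfield groups are maximal in the special linear group, in dimension at least four.
-/
import Cfsg.Agent.Lib.ClassicalMax.LinSubfield
import Cfsg.Agent.Lib.PSL2Sub.Generation
set_option autoImplicit false

namespace CfsgLib.ClassicalMax.LinSubSmall

open Matrix Cfsg.Geo
open CfsgLib.ClassicalMax.LinSub

variable {ι : Type} [Fintype ι] [DecidableEq ι] {F : Type*} [Field F]

/-- Two opposite transvections with product parameter `θ` give the transvection with parameter `θ`. -/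
lemma smul_tvGL_mem [Finite F] [DecidableEq F] (h2 : (2 : F) ≠ 0) {M : Subgroup (GL ι F)} {u φ w ξ : ι → F}
    (hφu : φ ⬝ᵥ u = 0) (hξw : ξ ⬝ᵥ w = 0) (hT : tvGL u φ ∈ M) (hS : tvGL w ξ ∈ M)
    (hθ : (φ ⬝ᵥ w) * (ξ ⬝ᵥ u) ≠ 0) (h9 : ((φ ⬝ᵥ w) * (ξ ⬝ᵥ u)) ^ 2 ≠ -1) :
    tvGL (((φ ⬝ᵥ w) * (ξ ⬝ᵥ u)) • w) ξ ∈ M := by
  classical
  set θ := (φ ⬝ᵥ w) * (ξ ⬝ᵥ u) with hθdef
  obtain ⟨hφw, hξu⟩ := mul_ne_zero_iff.1 hθ
  set E := Subfield.closure ({θ} : Set F) with hE
  let t : E := ⟨θ, Subfield.subset_closure rfl⟩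
  have hgen : Subfield.closure ({t} : Set E) = ⊤ := by
    refine eq_top_iff.2 fun y _ => ?_
    have hy : (y : F) ∈ (Subfield.closure ({t} : Set E)).map E.subtype := by
      rw [RingHom.map_field_closure, Set.image_singleton]
      exact y.2
    obtain ⟨z, hz, e⟩ := hy
    rwa [← Subtype.ext e]
  have h2E : (2 : E) ≠ 0 := fun e => h2 (by
    have h := congrArg E.subtype e
    rwa [map_ofNat, map_zero] at h)
  have htop := PSL2Sub.closure_eq_top h2E t (fun e => hθ (congrArg Subtype.val e)) hgen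
    (fun h => h9 (by simpa [t] using congrArg Subtype.val h.2))
  let B : Matrix ι (Fin 2) F := Matrix.of fun i => ![((ξ ⬝ᵥ u)⁻¹ • u) i, w i]
  let D : Matrix (Fin 2) ι F := Matrix.of ![ξ, (φ ⬝ᵥ w)⁻¹ • φ]
  have hDB : D * B = 1 := by
    ext i j
    fin_cases i <;> fin_cases j
    · change ξ ⬝ᵥ ((ξ ⬝ᵥ u)⁻¹ • u) = _
      rw [dotProduct_smul, smul_eq_mul, inv_mul_cancel₀ hξu]; rfl
    · change ξ ⬝ᵥ w = _
      rw [hξw]; rfl
    · change ((φ ⬝ᵥ w)⁻¹ • φ) ⬝ᵥ ((ξ ⬝ᵥ u)⁻¹ • u) = _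
      rw [dotProduct_smul, smul_dotProduct, hφu, smul_zero, smul_zero]; rfl
    · change ((φ ⬝ᵥ w)⁻¹ • φ) ⬝ᵥ w = _
      rw [smul_dotProduct, smul_eq_mul, inv_mul_cancel₀ hφw]; rfl
  let ψ : Matrix (Fin 2) (Fin 2) E →+* Matrix (Fin 2) (Fin 2) F := E.subtype.mapMatrix
  let m : SpecialLinearGroup (Fin 2) E →* Matrix ι ι F :=
    { toFun := fun A => 1 + B * (ψ A.1 - 1) * D
      map_one' := by simp [ψ]
      map_mul' := fun X Y => by
        have e : B * (ψ X.1 - 1) * D * (B * (ψ Y.1 - 1) * D) = B * ((ψ X.1 - 1) * (ψ Y.1 - 1)) * D := by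
          rw [show B * (ψ X.1 - 1) * D * (B * (ψ Y.1 - 1) * D) = B * (ψ X.1 - 1) * (D * B) * (ψ Y.1 - 1) * D by
            simp only [Matrix.mul_assoc], hDB, Matrix.mul_one]
          simp only [Matrix.mul_assoc]
        change 1 + B * (ψ (X.1 * Y.1) - 1) * D = _
        rw [map_mul, add_mul, mul_add, mul_add, one_mul, one_mul, mul_one, e]
        rw [show ψ X.1 * ψ Y.1 - 1
            = (ψ X.1 - 1) + (ψ Y.1 - 1) + (ψ X.1 - 1) * (ψ Y.1 - 1) by noncomm_ring]
        simp only [Matrix.mul_add, Matrix.add_mul]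
        abel }
  let f : SpecialLinearGroup (Fin 2) E →* GL ι F := m.toHomUnits
  have hval : ∀ A : SpecialLinearGroup (Fin 2) E, (f A : Matrix ι ι F) = 1 + B * (ψ A.1 - 1) * D := fun A => rfl
  have hlow : ∀ c : E, f (SL2Trace.mk2 1 0 c 1 (by ring)) = tvGL ((c : F) • w) ξ := fun c => by
    refine Units.ext ?_
    rw [hval, coe_tvGL (by rw [dotProduct_smul, hξw, smul_zero])]
    congr 1
    ext i j
    simp [ψ, B, D, SL2Trace.coe_mk2, Matrix.mul_apply, Fin.sum_univ_two, vecMulVec_apply]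
    exact Or.inl (mul_comm _ _)
  have hup : f (PSL2Sub.genUpper t) = tvGL u φ := by
    refine Units.ext ?_
    rw [hval, coe_tvGL hφu]
    congr 1
    ext i j
    simp [ψ, B, D, t, PSL2Sub.genUpper, SL2Trace.coe_mk2, Matrix.mul_apply, Fin.sum_univ_two,
      vecMulVec_apply]
    rw [hθdef]
    field_simp
  have hsub : Subgroup.closure ({PSL2Sub.genLower, PSL2Sub.genUpper t} :
      Set (SpecialLinearGroup (Fin 2) E)) ≤ M.comap f := by
    refine (Subgroup.closure_le _).2 ?_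
    rintro X (rfl | rfl)
    · refine Subgroup.mem_comap.2 ?_
      rw [show PSL2Sub.genLower (F := E) = SL2Trace.mk2 1 0 1 1 (by ring) from rfl, hlow]
      simpa using hS
    · exact Subgroup.mem_comap.2 (hup ▸ hT)
  have := hsub (htop ▸ Subgroup.mem_top (SL2Trace.mk2 1 0 t 1 (by ring)))
  rwa [Subgroup.mem_comap, hlow] at this

variable {F₀ : Subfield F}

/-- An element of `F` whose square is rational is rational, for extensions of odd degree. -/
lemma mem_of_sq_mem [Fintype F] (hr : (Module.finrank F₀ F).Prime)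
    (hr2 : 2 < Module.finrank F₀ F) {c : F} (hc2 : c * c ∈ F₀) : c ∈ F₀ := by
  by_contra hc
  let L : (F₀ × F₀) →ₗ[F₀] F := (Algebra.linearMap F₀ F).coprod (LinearMap.toSpanSingleton F₀ F c)
  have hL : ∀ p, L p = (p.1 : F) + (p.2 : F) * c := fun p => rfl
  let K : Subalgebra F₀ F :=
    { carrier := Set.range L
      mul_mem' := by
        rintro _ _ ⟨p, rfl⟩ ⟨q, rfl⟩
        refine ⟨(p.1 * q.1 + p.2 * q.2 * ⟨c * c, hc2⟩, p.1 * q.2 + p.2 * q.1), ?_⟩
        simp only [hL]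
        push_cast
        ring
      add_mem' := by rintro _ _ ⟨p, rfl⟩ ⟨q, rfl⟩; exact ⟨p + q, map_add _ _ _⟩
      algebraMap_mem' := fun a => ⟨(a, 0), by rw [hL]; simp; rfl⟩ }
  haveI := Subalgebra.isSimpleOrder_of_finrank_prime F₀ F hr
  rcases IsSimpleOrder.eq_bot_or_eq_top K with h | h
  · have : c ∈ K := ⟨(0, 1), by rw [hL]; simp⟩
    rw [h, Algebra.mem_bot] at this
    obtain ⟨d, hd⟩ := this
    exact hc (hd ▸ d.2)
  · have hsurj : LinearMap.range L = ⊤ := eq_top_iff.2 fun y _ => by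
      have : y ∈ K := h ▸ Algebra.mem_top
      exact this
    have h1 := LinearMap.finrank_range_le L
    rw [hsurj, finrank_top, Module.finrank_prod, Module.finrank_self] at h1
    omega

variable [DecidableEq F]

/-- Subfield groups are maximal, in dimension at least four. -/
theorem sl_subfield_maximal_one [Fintype F] (hn : 4 ≤ Fintype.card ι)
    (hr : (Module.finrank F₀ F).Prime) :
    IsMaximalIn (specialLinear ι F) (subfieldSubgroup F₀ (1 : GL ι F) ⊓ specialLinear ι F) := by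
  classical
  haveI : Nonempty ι := Fintype.card_pos_iff.1 (by omega)
  set H := subfieldSubgroup F₀ (1 : GL ι F) ⊓ specialLinear ι F with hHdef
  have hH : Contains F₀ H := fun v ψ h =>
    ⟨mem_subfieldSubgroup_of_rat _ (g₀ := tvGL v ψ) one_ne_zero fun j => by
      rw [ratVec_one, ratVec_one, one_smul, tvGL_mulVec h, tvGL_mulVec (by rw [cv_dot, h]; simp),
        cv_add, cv_smul, cv_dot], tvGL_mem_sl _ _⟩
  haveI : IsSimpleOrder (Subalgebra F₀ F) := Subalgebra.isSimpleOrder_of_finrank_prime _ _ hr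
  obtain ⟨θ, hθ⟩ : ∃ θ : F, θ ∉ F₀ := by
    by_contra hcon
    push Not at hcon
    have : (⊥ : Subalgebra F₀ F) = ⊤ :=
      eq_top_iff.2 fun y _ => Algebra.mem_bot.2 ⟨⟨y, hcon y⟩, rfl⟩
    exact bot_ne_top this
  refine CfsgLib.ClassicalMax.isMaximalIn_of inf_le_right ?_ ?_
  · let ix : Fin 4 ↪ ι := (Fin.castLEEmb hn).trans (Fintype.equivFin ι).symm.toEmbedding
    refine ⟨tvGL (θ • cv (Pi.single (ix 0) (1 : F₀))) (cv (Pi.single (ix 1) (1 : F₀))),
      tvGL_mem_sl _ _, fun h => ?_⟩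
    obtain ⟨l, r, e⟩ := (mem_sub_one_iff.1 h.1) (Pi.single (ix 1) 1)
    have h0 : Pi.single (ix 1) (1 : F₀) ⬝ᵥ Pi.single (ix 0) (1 : F₀) = 0 := by
      simp [ix.injective.eq_iff]
    rw [tvGL_mulVec (dot_cv_zero h0 θ), cv_dot] at e
    have e0 := congrFun e (ix 0)
    have e1 := congrFun e (ix 1)
    simp [cv, ix.injective.eq_iff] at e0 e1
    have hr1 : (r (ix 1) : F) ≠ 0 := fun h => by rw [h, mul_zero] at e1; exact one_ne_zero e1
    rw [show l = (r (ix 1) : F)⁻¹ from eq_inv_of_mul_eq_one_left e1.symm] at e0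
    exact hθ (e0 ▸ F₀.mul_mem (F₀.inv_mem (SetLike.coe_mem _)) (SetLike.coe_mem _))
  intro M hHM hMK g hgM hgH
  have hM : Contains F₀ M := fun v ψ h => hHM (hH v ψ h)
  have hn3 : 3 < Fintype.card ι := by omega
  -- a new parameter
  obtain ⟨b, hbF, hb⟩ : ∃ b, b ∉ F₀ ∧ Good F₀ M b := by
    by_contra hcon
    have hB1 : ∀ h ∈ M, ∀ a ψ : ι → F₀, a ≠ 0 → ψ ≠ 0 →
        cv ψ ⬝ᵥ ((h : Matrix ι ι F) *ᵥ cv a) = 0 → IsRat F₀ ((h : Matrix ι ι F) *ᵥ cv a) := by
      intro h hh a ψ ha hψ hzero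
      by_contra hirr
      obtain ⟨χ, hχ, hχ0⟩ := exists_dot_zero ![a] ![(0 : ι → F₀)] (by omega)
      have hχne : χ ≠ 0 := fun e => hχ0 (by rw [e]; exact zero_mem _)
      have hχa : χ ⬝ᵥ a = 0 := by rw [dotProduct_comm]; exact hχ 0
      have hT := M.mul_mem (M.mul_mem hh (hM a χ hχa)) (M.inv_mem hh)
      have hd : cv χ ⬝ᵥ cv a = 0 := by rw [cv_dot, hχa]; simp
      rw [conj_tvGL _ hd] at hT
      refine hcon (exists_good_left hM hn3 hirr (fun e => ?_) ?_ hT hψ hzero)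
      · apply cv_ne_zero hχne
        have := congrArg (fun z => z ᵥ* (h : Matrix ι ι F)) e
        simpa [vecMul_vecMul] using this
      · rw [vecMul_inv_dot, gl_inv_mulVec_mulVec, hd]
    have hB2 : ∀ h ∈ M, ∀ v ψ : ι → F₀, v ≠ 0 → ψ ≠ 0 →
        (cv ψ ᵥ* ((h⁻¹ : GL ι F) : Matrix ι ι F)) ⬝ᵥ cv v = 0 →
        IsRat F₀ (cv ψ ᵥ* ((h⁻¹ : GL ι F) : Matrix ι ι F)) := by
      intro h hh v ψ hv hψ hzero
      by_contra hirr
      obtain ⟨a, ha, ha0⟩ := exists_dot_zero ![ψ] ![(0 : ι → F₀)] (by omega)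
      have hane : a ≠ 0 := fun e => ha0 (by rw [e]; exact zero_mem _)
      have hT := M.mul_mem (M.mul_mem hh (hM a ψ (ha 0))) (M.inv_mem hh)
      have hd : cv ψ ⬝ᵥ cv a = 0 := by rw [cv_dot, show ψ ⬝ᵥ a = 0 from ha 0]; simp
      rw [conj_tvGL _ hd] at hT
      refine hcon (exists_good_right hM hn3 hirr (gl_mulVec_ne_zero h (cv_ne_zero hane)) ?_ hT hv hzero)
      rw [vecMul_inv_dot, gl_inv_mulVec_mulVec, hd]
    -- an element with a rational image of a rational point is rational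
    have hrat : ∀ h ∈ M, ∀ a : ι → F₀, a ≠ 0 → IsRat F₀ ((h : Matrix ι ι F) *ᵥ cv a) → h ∈ H := by
      intro h hh a ha hla
      refine ⟨mem_sub_one_iff.2 fun y => ?_, hMK hh⟩
      by_cases hy : y = 0
      · exact ⟨0, 0, by rw [hy, cv_zero, mulVec_zero, zero_smul]⟩
      obtain ⟨ψ, hψ, hψ0⟩ := exists_dot_zero ![a, y] ![(0 : ι → F₀)] (by omega)
      have hψne : ψ ≠ 0 := fun e => hψ0 (by rw [e]; exact zero_mem _)
      obtain ⟨l, r, hr'⟩ := hla
      have hl : l ≠ 0 := fun e =>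
        gl_mulVec_ne_zero h (cv_ne_zero ha) (by rw [hr', e, zero_smul])
      have hr0 : r ≠ 0 := fun e =>
        gl_mulVec_ne_zero h (cv_ne_zero ha) (by rw [hr', e, cv_zero, smul_zero])
      have h1 : (cv ψ ᵥ* ((h⁻¹ : GL ι F) : Matrix ι ι F)) ⬝ᵥ (l • cv r) = 0 := by
        rw [← hr', vecMul_inv_dot, gl_inv_mulVec_mulVec, cv_dot, dotProduct_comm,
          show a ⬝ᵥ ψ = 0 from hψ 0]
        simp
      rw [dotProduct_smul, smul_eq_mul, mul_eq_zero] at h1
      obtain ⟨l', r', e'⟩ := hB2 h hh r ψ hr0 hψne (h1.resolve_left hl)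
      have hr'0 : r' ≠ 0 := fun e => by
        apply cv_ne_zero hψne
        have := congrArg (fun z => z ᵥ* (h : Matrix ι ι F)) e'
        simpa [vecMul_vecMul, e, cv_zero] using this
      have hl' : l' ≠ 0 := fun e => by
        apply cv_ne_zero hψne
        have := congrArg (fun z => z ᵥ* (h : Matrix ι ι F)) e'
        simpa [vecMul_vecMul, e] using this
      have h2 : (l' • cv r') ⬝ᵥ ((h : Matrix ι ι F) *ᵥ cv y) = 0 := by
        rw [← e', vecMul_inv_dot, gl_inv_mulVec_mulVec, cv_dot, dotProduct_comm,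
          show y ⬝ᵥ ψ = 0 from hψ 1]
        simp
      rw [smul_dotProduct, smul_eq_mul, mul_eq_zero] at h2
      exact hB1 h hh y r' hy hr'0 (h2.resolve_left hl')
    -- a rational matrix fixing an image of a rational point
    have hfix : ∀ h ∈ M, ∀ a : ι → F₀, a ≠ 0 → ∀ L : Matrix ι ι F₀, L ≠ 1 →
        L.map F₀.subtype *ᵥ ((h : Matrix ι ι F) *ᵥ cv a) = (h : Matrix ι ι F) *ᵥ cv a → h ∈ H := by
      intro h hh a ha L hL hfixL
      obtain ⟨i, hi⟩ : ∃ i, (L - 1) i ≠ 0 := by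
        by_contra hc
        push Not at hc
        exact hL (sub_eq_zero.1 (funext hc))
      refine hrat h hh a ha (hB1 h hh a _ ha hi ?_)
      have h2 : (L - 1).map F₀.subtype *ᵥ ((h : Matrix ι ι F) *ᵥ cv a) = 0 := by
        rw [Matrix.map_sub _ (map_sub F₀.subtype), Matrix.map_one _ (map_zero _) (map_one _),
          sub_mulVec, hfixL, one_mulVec, sub_self]
      exact congrFun h2 i
    -- the degree is large
    have hr2 : 2 < Module.finrank F₀ F := by
      by_contra hle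
      obtain ⟨x, hx⟩ : ∃ x, ¬ IsRat F₀ ((g : Matrix ι ι F) *ᵥ cv (F₀ := F₀) x) := by
        by_contra hc
        push Not at hc
        exact hgH ⟨mem_sub_one_iff.2 hc, hMK hgM⟩
      have hx0 : x ≠ 0 := fun e => hx ⟨0, 0, by rw [e, cv_zero, mulVec_zero, zero_smul]⟩
      let L : (ι → F₀) →ₗ[F₀] F :=
        { toFun := fun ψ => cv ψ ⬝ᵥ ((g : Matrix ι ι F) *ᵥ cv x)
          map_add' := fun p q => by rw [cv_add, add_dotProduct]
          map_smul' := fun c p => by rw [cv_smul, smul_dotProduct]; rfl }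
      obtain ⟨ψ, hψ, hψ0⟩ := Submodule.exists_mem_ne_zero_of_ne_bot (p := LinearMap.ker L) fun e => by
        have h1 := LinearMap.finrank_le_finrank_of_injective (LinearMap.ker_eq_bot.1 e)
        rw [Module.finrank_fintype_fun_eq_card] at h1
        omega
      exact hx (hB1 g hgM x ψ hx0 hψ0 hψ)
    obtain ⟨x₀, hx₀⟩ : ∃ x : ι → F₀, ¬ IsRat F₀ ((g : Matrix ι ι F) *ᵥ cv x) := by
      by_contra hc
      push Not at hc
      exact hgH ⟨mem_sub_one_iff.2 hc, hMK hgM⟩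
    have hx₀0 : x₀ ≠ 0 := fun e => hx₀ ⟨0, 0, by rw [e, cv_zero, mulVec_zero, zero_smul]⟩
    by_cases h2 : (2 : F) = 0
    swap
    · -- odd characteristic: two transvections generate a field
      obtain ⟨χ, hχ, hχ0⟩ := exists_dot_zero ![x₀] ![(0 : ι → F₀)] (by omega)
      have hχne : χ ≠ 0 := fun e => hχ0 (by rw [e]; exact zero_mem _)
      have hχx : χ ⬝ᵥ x₀ = 0 := by rw [dotProduct_comm]; exact hχ 0
      have hd : cv χ ⬝ᵥ (cv x₀ : ι → F) = 0 := by rw [cv_dot, hχx]; simp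
      set u := (g : Matrix ι ι F) *ᵥ cv x₀ with hu
      set φ := cv χ ᵥ* ((g⁻¹ : GL ι F) : Matrix ι ι F) with hφ
      have hφu : φ ⬝ᵥ u = 0 := by rw [hφ, hu, vecMul_inv_dot, gl_inv_mulVec_mulVec, hd]
      have hT : tvGL u φ ∈ M := by
        have h := M.mul_mem (M.mul_mem hgM (hM x₀ χ hχx)) (M.inv_mem hgM)
        rwa [conj_tvGL _ hd] at h
      obtain ⟨j, hj⟩ : ∃ j, φ j ≠ 0 := Function.ne_iff.1 fun e => by
        apply cv_ne_zero hχne
        have := congrArg (fun z => z ᵥ* (g : Matrix ι ι F)) e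
        simpa [hφ, vecMul_vecMul, ← Units.val_mul, Pi.zero_def] using this.trans (zero_vecMul _)
      set w : ι → F₀ := Pi.single j 1 with hw
      have hφw : φ ⬝ᵥ cv w ≠ 0 := by
        rw [hw, cv_single, Subfield.coe_one, dotProduct_single, mul_one]; exact hj
      obtain ⟨ξ₁, hξ₁, hξ₁0⟩ := exists_dot_zero ![w] ![(0 : ι → F₀)] (by omega)
      have hξ₁ne : ξ₁ ≠ 0 := fun e => hξ₁0 (by rw [e]; exact zero_mem _)
      obtain ⟨ξ₂, hξ₂, hξ₂1⟩ := exists_dot_zero ![w] ![ξ₁] (by omega)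
      rw [Matrix.range_cons, Matrix.range_empty, Set.union_empty] at hξ₂1
      have key : ∀ ξ : ι → F₀, w ⬝ᵥ ξ = 0 → ξ ≠ 0 →
          (φ ⬝ᵥ cv w) * (cv ξ ⬝ᵥ u) ∈ F₀ ∧ (φ ⬝ᵥ cv w) * (cv ξ ⬝ᵥ u) ≠ 0 := by
        intro ξ hξ hξ0
        have hξw : ξ ⬝ᵥ w = 0 := by rw [dotProduct_comm]; exact hξ
        have hne : (φ ⬝ᵥ cv w) * (cv ξ ⬝ᵥ u) ≠ 0 :=
          mul_ne_zero hφw fun e => hx₀ (hB1 g hgM x₀ ξ hx₀0 hξ0 e)
        refine ⟨by_contra fun hmem => hcon ⟨_, hmem, good_of_one hM hn3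
          (v₀ := w) (φ₀ := ξ) (fun e => hφw (by rw [e, cv_zero, dotProduct_zero])) hξ0 hξw
          (smul_tvGL_mem h2 hφu (by rw [cv_dot, hξw]; simp) hT (hM w ξ hξw) hne fun e => hmem
            (mem_of_sq_mem hr hr2 ?_))⟩, hne⟩
        rw [← sq, e]; exact F₀.neg_mem F₀.one_mem
      obtain ⟨k₁, n₁⟩ := key ξ₁ (hξ₁ 0) hξ₁ne
      obtain ⟨k₂, n₂⟩ := key ξ₂ (hξ₂ 0) (fun e => hξ₂1 (by rw [e]; exact zero_mem _))
      set a : F₀ := ⟨_, k₁⟩ with ha
      set b : F₀ := ⟨_, k₂⟩ with hb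
      have hne : b • ξ₁ - a • ξ₂ ≠ 0 := fun e => hξ₂1 (Submodule.mem_span_singleton.2
        ⟨a⁻¹ * b, by rw [mul_smul, sub_eq_zero.1 e, smul_smul,
          inv_mul_cancel₀ (fun h => n₁ (congrArg Subtype.val h)), one_smul]⟩)
      refine (key _ (by rw [dotProduct_sub, dotProduct_smul, dotProduct_smul,
        show w ⬝ᵥ ξ₁ = 0 from hξ₁ 0, show w ⬝ᵥ ξ₂ = 0 from hξ₂ 0]; simp) hne).2 ?_
      rw [cv_sub, cv_smul, cv_smul, sub_dotProduct, smul_dotProduct, smul_dotProduct, ha, hb]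
      simp only [smul_eq_mul]
      ring
    -- characteristic two: two involutions
    haveI : CharP F 2 := CharTwo.of_one_ne_zero_of_two_eq_zero one_ne_zero h2
    let ix : Fin 4 ↪ ι := (Fin.castLEEmb hn).trans (Fintype.equivFin ι).symm.toEmbedding
    have hd : ∀ k l : Fin 4, k ≠ l →
        Pi.single (ix k) (1 : F₀) ⬝ᵥ Pi.single (ix l) (1 : F₀) = 0 := fun k l hkl => by
      simp [ix.injective.eq_iff, hkl]
    have hd' : ∀ k l : Fin 4, k ≠ l →
        cv (F₀ := F₀) (Pi.single (ix k) 1) ⬝ᵥ cv (F₀ := F₀) (Pi.single (ix l) 1) = (0 : F) :=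
      fun k l hkl => by rw [cv_dot, hd k l hkl]; simp
    let T : Fin 4 → Fin 4 → GL ι F := fun k l =>
      tvGL (cv (F₀ := F₀) (Pi.single (ix k) 1)) (cv (F₀ := F₀) (Pi.single (ix l) 1))
    have hTx : ∀ k l, k ≠ l → ∀ y, (T k l : Matrix ι ι F) *ᵥ y
        = y + y (ix l) • cv (F₀ := F₀) (Pi.single (ix k) 1) := fun k l hkl y => by
      rw [tvGL_mulVec (hd' l k hkl.symm), cv_single, cv_single, Subfield.coe_one, single_dotProduct,
        one_mul]
    have hTH : ∀ k l, k ≠ l → T k l ∈ H := fun k l hkl => hH _ _ (hd l k hkl.symm)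
    set z₁ := T 0 1 with hz₁
    set z₂ := T 0 1 * T 2 3 with hz₂
    have hz₁x : ∀ y, (z₁ : Matrix ι ι F) *ᵥ y = y + y (ix 1) • cv (F₀ := F₀) (Pi.single (ix 0) 1) :=
      hTx 0 1 (by decide)
    have hz₂x : ∀ y, (z₂ : Matrix ι ι F) *ᵥ y = y + y (ix 1) • cv (F₀ := F₀) (Pi.single (ix 0) 1)
        + y (ix 3) • cv (F₀ := F₀) (Pi.single (ix 2) 1) := fun y => by
      rw [hz₂, gl_mulVec_mul, hTx 0 1 (by decide), hTx 2 3 (by decide)]
      simp [cv, ix.injective.eq_iff]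
      abel
    have hz₁1 : z₁ * z₁ = 1 := gl_ext_mulVec fun y => by
      rw [gl_mulVec_mul, hz₁x, hz₁x, Units.val_one, one_mulVec]
      funext k
      simp [cv, ix.injective.eq_iff]
      linear_combination (y (ix 1) * ((Pi.single (ix 0) (1 : F₀) : ι → F₀) k : F)) * h2
    have hz₂1 : z₂ * z₂ = 1 := gl_ext_mulVec fun y => by
      rw [gl_mulVec_mul, hz₂x, hz₂x, Units.val_one, one_mulVec]
      funext k
      simp [cv, ix.injective.eq_iff]
      linear_combination (y (ix 1) * ((Pi.single (ix 0) (1 : F₀) : ι → F₀) k : F)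
        + y (ix 3) * ((Pi.single (ix 2) (1 : F₀) : ι → F₀) k : F)) * h2
    have hz₂H : z₂ ∈ H := H.mul_mem (hTH 0 1 (by decide)) (hTH 2 3 (by decide))
    have hz₁H : z₁ ∈ H := hTH 0 1 (by decide)
    have hlin : ∀ z ∈ H, z * z = 1 → ∃ L : Matrix ι ι F₀, ∀ u, L.map F₀.subtype *ᵥ u
        = (z : Matrix ι ι F) *ᵥ u := by
      intro z hz hzz
      obtain ⟨L, hL⟩ := exists_rat_involution hr hr2 hz.1 hzz
      refine ⟨L, fun u => congrArg (fun B : Matrix ι ι F => B *ᵥ u)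
        (Matrix.ext_of_mulVec_single fun k => ?_)⟩
      have := hL (Pi.single k 1)
      rw [cv_mulVec, cv_single, Subfield.coe_one] at this
      exact this.symm
    have hfix' : ∀ h ∈ M, ∀ a : ι → F₀, a ≠ 0 → ∀ z ∈ H, z * z = 1 → z ≠ 1 →
        (z : Matrix ι ι F) *ᵥ ((h : Matrix ι ι F) *ᵥ cv a) = (h : Matrix ι ι F) *ᵥ cv a → h ∈ H := by
      intro h hh a ha z hz hzz hz1 he
      obtain ⟨L, hL⟩ := hlin z hz hzz
      refine hfix h hh a ha L (fun hL1 => hz1 (gl_ext_mulVec fun u => ?_)) (by rw [hL, he])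
      rw [← hL, hL1, Matrix.map_one _ (map_zero _) (map_one _), Units.val_one]
    have hne₁ : z₁ ≠ 1 := fun e => by
      have h0 := hz₁x (Pi.single (ix 1) 1)
      rw [e, Units.val_one, one_mulVec] at h0
      have h := congrFun h0 (ix 0)
      simp [cv, ix.injective.eq_iff] at h
    have hne₂ : z₂ ≠ 1 := fun e => by
      have h := congrFun (hz₂x (Pi.single (ix 1) 1)) (ix 0)
      simp [e, cv, ix.injective.eq_iff] at h
    have he0 : (Pi.single (ix 0) 1 : ι → F₀) ≠ 0 := fun h =>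
      one_ne_zero (α := F₀) (by simpa using congrFun h (ix 0))
    have hcent : ∀ z ∈ H, z * z = 1 → z ≠ 1 →
        (z : Matrix ι ι F) *ᵥ cv (F₀ := F₀) (Pi.single (ix 0) 1) = cv (F₀ := F₀) (Pi.single (ix 0) 1) →
        ∀ h ∈ M, h * z = z * h → h ∈ H := fun z hz hzz hz1 he h hh hcomm =>
      hfix' h hh _ he0 z hz hzz hz1 (by rw [← gl_mulVec_mul, ← hcomm, gl_mulVec_mul, he])
    set x := g * z₁ * g⁻¹ with hxdef
    have hxM : x ∈ M := M.mul_mem (M.mul_mem hgM (hHM hz₁H)) (M.inv_mem hgM)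
    have hxx : x * x = 1 := by
      rw [hxdef, show g * z₁ * g⁻¹ * (g * z₁ * g⁻¹) = g * (z₁ * z₁) * g⁻¹ by group, hz₁1]
      group
    have hnc : ¬ IsConj x z₂ := by
      intro hcj
      obtain ⟨c, hc⟩ := isConj_iff.1 ((isConj_iff.2 ⟨g, rfl⟩ : IsConj z₁ x).trans hcj)
      set v := (c : Matrix ι ι F) *ᵥ cv (F₀ := F₀) (Pi.single (ix 0) 1) with hv
      have hrk : ∀ y, ∃ s : F, (z₂ : Matrix ι ι F) *ᵥ y = y + s • v := fun y => by
        refine ⟨(((c⁻¹ : GL ι F) : Matrix ι ι F) *ᵥ y) (ix 1), ?_⟩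
        rw [← hc, gl_mulVec_mul, gl_mulVec_mul, hz₁x, mulVec_add, mulVec_smul,
          gl_mulVec_inv_mulVec, hv]
      obtain ⟨s, hs⟩ := hrk (Pi.single (ix 1) 1)
      obtain ⟨s', hs'⟩ := hrk (Pi.single (ix 3) 1)
      rw [hz₂x] at hs hs'
      simp [ix.injective.eq_iff, add_assoc] at hs hs'
      have h1 := congrFun hs (ix 0)
      have h2' := congrFun hs' (ix 0)
      have h3 := congrFun hs' (ix 2)
      simp [cv, ix.injective.eq_iff] at h1 h2' h3
      rcases h2' with h2' | h2'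
      · rw [h2', zero_mul] at h3; exact one_ne_zero h3
      · rw [h2', mul_zero] at h1; exact one_ne_zero h1
    obtain ⟨i, hicl, hii, hi1, -, hix, hiz⟩ := exists_common_commuting (e := (1 : GL ι F)) hxx hz₂1
      (one_mul 1) (fun h => by rw [one_mul, mul_one]) hnc (by rwa [one_mul])
      (fun hne => absurd rfl hne)
    have hiM : i ∈ M := (Subgroup.closure_le M).2 (by
      rintro _ (rfl | rfl)
      exacts [hxM, hHM hz₂H]) hicl
    have hiH : i ∈ H := hcent z₂ hz₂H hz₂1 hne₂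
      (by rw [hz₂x]; simp [cv, ix.injective.eq_iff]) i hiM hiz
    set i₁ := g⁻¹ * i * g with hi₁
    have hi₁z : i₁ * z₁ = z₁ * i₁ := by
      rw [hi₁, show g⁻¹ * i * g * z₁ = g⁻¹ * (i * x) * g by rw [hxdef]; group,
        show z₁ * (g⁻¹ * i * g) = g⁻¹ * (x * i) * g by rw [hxdef]; group, hix]
    have hi₁H : i₁ ∈ H := hcent z₁ hz₁H hz₁1 hne₁
      (by rw [hz₁x]; simp [cv, ix.injective.eq_iff])
      _ (M.mul_mem (M.mul_mem (M.inv_mem hgM) hiM) hgM) hi₁z
    have hi₁1 : i₁ * i₁ = 1 := by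
      rw [hi₁, show g⁻¹ * i * g * (g⁻¹ * i * g) = g⁻¹ * (i * i) * g by group, hii, mul_one,
        inv_mul_cancel]
    obtain ⟨A, hA⟩ := exists_rat_involution hr hr2 hi₁H.1 hi₁1
    have hA2 : ∀ y, A *ᵥ (A *ᵥ y) = y := fun y => by
      have h : cv (A *ᵥ (A *ᵥ y)) = cv y := by
        rw [← hA, ← hA, ← gl_mulVec_mul, hi₁1, Units.val_one, one_mulVec]
      exact funext fun k => Subtype.ext (congrFun h k)
    obtain ⟨k, hy⟩ : ∃ k, Pi.single k (1 : F₀) + A *ᵥ Pi.single k 1 ≠ 0 := by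
      by_contra hc
      push Not at hc
      have h1 : i₁ = 1 := Units.ext (Matrix.ext_of_mulVec_single fun k => by
        have h := hA (Pi.single k 1)
        rw [show A *ᵥ Pi.single k 1 = -Pi.single k 1 from eq_neg_of_add_eq_zero_right (hc _),
          cv_single, ← zero_sub, cv_sub, cv_zero, cv_single, zero_sub, Subfield.coe_one] at h
        rw [h, Units.val_one, one_mulVec]
        funext l
        rw [Pi.neg_apply, CharTwo.neg_eq])
      apply hi1
      rw [show i = g * i₁ * g⁻¹ by rw [hi₁]; group, h1, mul_one, mul_inv_cancel]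
    refine hgH (hfix' g hgM _ hy i hiH hii hi1 ?_)
    rw [← gl_mulVec_mul, show i * g = g * i₁ by rw [hi₁]; group, gl_mulVec_mul, hA, mulVec_add,
      hA2, add_comm]
  -- all parameters occur
  let K : Subalgebra F₀ F :=
    { carrier := {b | Good F₀ M b}
      mul_mem' := fun ha hc => good_mul hM hn3 ha hc
      one_mem' := fun v ψ h => by rw [one_smul]; exact hM v ψ h
      add_mem' := fun {a c} ha hc v ψ h => by
        rw [add_smul, tvGL_add_left (dot_cv_zero h a) (dot_cv_zero h c)]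
        exact M.mul_mem (ha v ψ h) (hc v ψ h)
      zero_mem' := fun v ψ h => by rw [zero_smul, tvGL_zero_left]; exact M.one_mem
      algebraMap_mem' := fun c v ψ h => by
        rw [show algebraMap F₀ F c = (c : F) from rfl, ← cv_smul]
        exact hM _ _ (by rw [dotProduct_smul, h, smul_zero]) }
  have hall : ∀ c, Good F₀ M c := by
    intro c
    rcases IsSimpleOrder.eq_bot_or_eq_top K with h | h
    · have : b ∈ K := hb
      rw [h, Algebra.mem_bot] at this
      obtain ⟨d, hd⟩ := this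
      exact absurd (hd ▸ d.2 : b ∈ F₀) hbF
    · have : c ∈ K := h ▸ Algebra.mem_top
      exact this
  refine sl_le_of_elementary fun i j hij c => ?_
  have := hall c (Pi.single i 1) (Pi.single j 1) (by simp [hij.symm])
  rwa [cv_single, cv_single, Subfield.coe_one, ← Pi.single_smul', smul_eq_mul, mul_one] at this

omit [DecidableEq F] in
theorem sl_subfield_maximal [Fintype F] (hn : 4 ≤ Fintype.card ι)
    (hr : (Module.finrank F₀ F).Prime) (P : GL ι F) :
    IsMaximalIn (specialLinear ι F) (subfieldSubgroup F₀ P ⊓ specialLinear ι F) := by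
  classical
  have h1 : subfieldSubgroup F₀ P
      = (subfieldSubgroup F₀ (1 : GL ι F)).map (MulAut.conj P).toMonoidHom := by
    rw [subfieldSubgroup, subfieldSubgroup, Subgroup.map_map]
    congr 1
    ext a
    simp
  have h2 : (specialLinear ι F).map (MulAut.conj P).toMonoidHom = specialLinear ι F := by
    ext k
    constructor
    · rintro ⟨a, ha, rfl⟩
      have ha' : Matrix.GeneralLinearGroup.det a = 1 := ha
      refine MonoidHom.mem_ker.2 ?_
      rw [MulEquiv.toMonoidHom_eq_coe, MonoidHom.coe_coe, MulAut.conj_apply, map_mul, map_mul, ha',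
        mul_one, ← map_mul, mul_inv_cancel, map_one]
    · intro hk
      have hk' : Matrix.GeneralLinearGroup.det k = 1 := hk
      refine ⟨P⁻¹ * k * P, MonoidHom.mem_ker.2 ?_, by simp [mul_assoc]⟩
      rw [map_mul, map_mul, hk', mul_one, ← map_mul, inv_mul_cancel, map_one]
  have h := sl_subfield_maximal_one (ι := ι) (F₀ := F₀) hn hr
  have hinj : Function.Injective (MulAut.conj P).toMonoidHom := (MulAut.conj P).injective
  rw [h1, ← h2, ← Subgroup.map_inf _ _ _ hinj]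
  refine ⟨(Subgroup.map_lt_map_iff_of_injective hinj).2 h.1, fun M hl hu => ?_⟩
  have hM : M = (M.comap (MulAut.conj P).toMonoidHom).map (MulAut.conj P).toMonoidHom :=
    (Subgroup.map_comap_eq_self_of_surjective (MulAut.conj P).surjective _).symm
  rw [hM] at hl hu ⊢
  rw [Subgroup.map_le_map_iff_of_injective hinj] at hl hu
  rcases h.2 _ hl hu with e | e
  · left; rw [e]
  · right; rw [e]

end CfsgLib.ClassicalMax.LinSubSmall
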