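/-
Maximality of stabilisers of non-degenerate subspaces in odd-dimensional `Ω`.
-/
import Cfsg.Agent.Lib.ClassicalMax.OrthRoot
import Cfsg.Agent.Lib.ClassicalMax.OmegaTools
import Cfsg.Agent.Lib.OrthCrit.Forms
import Cfsg.Agent.Lib.OrthCrit.MaxSingular
set_option autoImplicit false

namespace CfsgLib.ClassicalMax.OmS

open Matrix Cfsg.Geo QuadraticMap
open CfsgLib.Classical.Quad (NDPolar Orth Frame)

variable {ι : Type} [Fintype ι] [DecidableEq ι] {F : Type*} [Field F]
  {Q : QuadraticForm F (ι → F)} {M : Subgroup (GL ι F)}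

lemma isNondegenerateQuadraticForm (hnd : NDPolar Q) : IsNondegenerateQuadraticForm ⇑Q where
  smul c v := by rw [QuadraticMap.map_smul, smul_eq_mul]; ring
  polar_bilinear := ⟨fun x y z => polar_add_left Q x y z, fun c x z => polar_smul_left Q c x z,
    fun z x y => polar_add_right Q z x y, fun c z x => polar_smul_right Q c z x⟩
  nondegenerate v hv := by
    have h : ∃ y, polar Q v y ≠ 0 := by
      by_contra hc
      push Not at hc
      exact hv (hnd v hc)
    exact ⟨h.imp fun y hy => by rwa [polar_comm], h⟩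

lemma IsSg.conj {g h : GL ι F} (hgo : g ∈ omegaGL ⇑Q) {u w : ι → F} (hh : IsSg Q h u w) :
    IsSg Q (g * h * g⁻¹) ((g : Matrix ι ι F) *ᵥ u) ((g : Matrix ι ι F) *ᵥ w) := by
  intro x
  set x' := ((g⁻¹ : GL ι F) : Matrix ι ι F) *ᵥ x with hx'
  have hgx : (g : Matrix ι ι F) *ᵥ x' = x := gl_mulVec_inv_mulVec g x
  rw [gl_mulVec_mul, gl_mulVec_mul, ← hx', hh, mulVec_add, mulVec_add, mulVec_smul, mulVec_smul,
    hgx, ← omega_polar hgo x' u, ← omega_polar hgo x' w, hgx, ← omega_iso hgo w]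

lemma IsSg.mul {g h : GL ι F} {u w w' : ι → F} (hu : Q u = 0) (hw : polar Q u w = 0)
    (hw' : polar Q u w' = 0) (hg : IsSg Q g u w) (hh : IsSg Q h u w') :
    IsSg Q (g * h) u (w + w') := fun x => by
  rw [gl_mulVec_mul, hh x, hg]
  exact Classical.Quad.siegelFun_add hu hw hw' x

lemma IsSg.smul {h : GL ι F} {u w : ι → F} (c : F) (hh : IsSg Q h (c • u) w) :
    IsSg Q h u (c • w) := fun x => by
  rw [hh x]
  simp only [polar_smul_right, QuadraticMap.map_smul, smul_eq_mul]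
  module

/-- An orthogonal splitting of the space. -/
structure IsSplit (Q : QuadraticForm F (ι → F)) (A B : Submodule F (ι → F)) : Prop where
  nd : NDPolar Q
  two : (2 : F) ≠ 0
  orth : ∀ a ∈ A, ∀ b ∈ B, polar Q a b = 0
  split : ∀ x, ∃ a ∈ A, ∃ b ∈ B, a + b = x

variable {A B : Submodule F (ι → F)}

lemma IsSplit.symm (S : IsSplit Q A B) : IsSplit Q B A where
  nd := S.nd
  two := S.two
  orth b hb a ha := by rw [polar_comm]; exact S.orth a ha b hb
  split x := by
    obtain ⟨a, ha, b, hb, h⟩ := S.split x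
    exact ⟨b, hb, a, ha, by rw [add_comm, h]⟩

lemma IsSplit.exists_ne (S : IsSplit Q A B) {a : ι → F} (ha : a ∈ A) (ha0 : a ≠ 0) :
    ∃ x ∈ A, polar Q a x ≠ 0 := by
  by_contra h
  push Not at h
  refine ha0 (S.nd a fun y => ?_)
  obtain ⟨x, hx, b, hb, rfl⟩ := S.split y
  rw [polar_add_right, h x hx, S.orth a ha b hb, add_zero]

lemma IsSplit.eq_zero (S : IsSplit Q A B) {x : ι → F} (hA : x ∈ A) (hB : x ∈ B) : x = 0 := by
  by_contra h
  obtain ⟨y, hy, hne⟩ := S.exists_ne hA h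
  exact hne (by rw [polar_comm]; exact S.orth y hy x hB)

lemma IsSplit.exists_both (S : IsSplit Q A B) {a b : ι → F} (ha : a ∈ A) (hb : b ∈ A)
    (ha0 : a ≠ 0) (hb0 : b ≠ 0) : ∃ x ∈ A, polar Q a x ≠ 0 ∧ polar Q b x ≠ 0 := by
  obtain ⟨x, hx, hax⟩ := S.exists_ne ha ha0
  obtain ⟨y, hy, hby⟩ := S.exists_ne hb hb0
  by_cases h1 : polar Q b x = 0
  · by_cases h2 : polar Q a y = 0
    · exact ⟨x + y, A.add_mem hx hy, by rw [polar_add_right, h2, add_zero]; exact hax,
        by rw [polar_add_right, h1, zero_add]; exact hby⟩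
    · exact ⟨y, hy, h2, hby⟩
  · exact ⟨x, hx, hax, h1⟩

variable [Fintype F]

/-- Three-dimensional spaces contain singular vectors. -/
lemma exists_singular_of_three (h2 : (2 : F) ≠ 0) {S : Submodule F (ι → F)}
    (hS : 3 ≤ Module.finrank F S) : ∃ v ∈ S, v ≠ 0 ∧ Q v = 0 := by
  classical
  by_contra hcon
  push Not at hcon
  have hker : ∀ (T : Submodule F (ι → F)) (x : ι → F),
      Module.finrank F T ≤ Module.finrank F ↥(T ⊓ LinearMap.ker ((polarBilin Q).flip x)) + 1 :=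
    fun T x => OrthCrit.finrank_le_inf_ker_add_one T _
  obtain ⟨x, hx, hx0⟩ := Submodule.exists_mem_ne_zero_of_ne_bot (p := S) fun h => by
    rw [h, finrank_bot] at hS; omega
  set T := S ⊓ LinearMap.ker ((polarBilin Q).flip x) with hT
  have hTd : 2 ≤ Module.finrank F T := by have := hker S x; rw [← hT] at this; omega
  obtain ⟨y, hy, hy0⟩ := Submodule.exists_mem_ne_zero_of_ne_bot (p := T) fun h => by
    rw [h, finrank_bot] at hTd; omega
  obtain ⟨z, hz, hz0⟩ := Submodule.exists_mem_ne_zero_of_ne_bot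
    (p := T ⊓ LinearMap.ker ((polarBilin Q).flip y)) fun h => by
      have := hker T y; rw [h, finrank_bot] at this; omega
  have hyx : polar Q y x = 0 := LinearMap.mem_ker.1 hy.2
  have hzx : polar Q z x = 0 := LinearMap.mem_ker.1 hz.1.2
  have hzy : polar Q z y = 0 := LinearMap.mem_ker.1 hz.2
  have hQx := hcon x hx hx0
  have hQy := hcon y hy.1 hy0
  obtain ⟨s, t, hst⟩ := FiniteField.exists_root_sum_quadratic
    (f := Polynomial.C (Q x) * Polynomial.X ^ 2)
    (g := Polynomial.C (Q y) * Polynomial.X ^ 2 + Polynomial.C (Q z))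
    (by rw [Polynomial.degree_C_mul_X_pow 2 hQx, Nat.cast_ofNat])
    (by
      rw [Polynomial.degree_add_eq_left_of_degree_lt, Polynomial.degree_C_mul_X_pow 2 hQy,
        Nat.cast_ofNat]
      exact lt_of_le_of_lt Polynomial.degree_C_le (by rw [Polynomial.degree_C_mul_X_pow 2 hQy]; decide))
    (by
      by_contra hc
      have hc2 : ringChar F = 2 := FiniteField.even_card_iff_char_two.2 (by omega)
      have h0 := ringChar.Nat.cast_ringChar (R := F)
      rw [hc2] at h0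
      exact h2 (by simpa using h0))
  simp only [Polynomial.eval_mul, Polynomial.eval_C, Polynomial.eval_pow, Polynomial.eval_X,
    Polynomial.eval_add] at hst
  refine hcon (s • x + t • y + z) (S.add_mem (S.add_mem (S.smul_mem _ hx) (S.smul_mem _ hy.1)) hz.1.1)
    (fun h0 => ?_) ?_
  · have := congrArg (fun v => polar Q v z) h0
    simp only [polar_add_left, polar_smul_left, polar_comm Q x z, hzx, polar_comm Q y z, hzy,
      smul_zero, zero_add, polar_zero_left, Classical.Quad.polar_self'] at this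
    exact hcon z hz.1.1 hz0 ((mul_eq_zero.1 this).resolve_left h2)
  · rw [show s • x + t • y + z = z + s • x + t • y by abel, Classical.Quad.Q_comb, hzx, hzy,
      polar_comm Q x y, hyx]
    linear_combination hst

/-- A singular vector of `A` orthogonal to three given vectors. -/
lemma IsSplit.exists_orth_three (S : IsSplit Q A B) (hA : 6 ≤ Module.finrank F A) (p q r : ι → F) :
    ∃ v ∈ A, v ≠ 0 ∧ Q v = 0 ∧ polar Q v p = 0 ∧ polar Q v q = 0 ∧ polar Q v r = 0 := by
  let K := fun x => LinearMap.ker ((polarBilin Q).flip x)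
  have h : ∀ (T : Submodule F (ι → F)) (x : ι → F),
      Module.finrank F T ≤ Module.finrank F ↥(T ⊓ K x) + 1 :=
    fun T x => OrthCrit.finrank_le_inf_ker_add_one T _
  have h1 := h A p
  have h2 := h (A ⊓ K p) q
  have h3 := h (A ⊓ K p ⊓ K q) r
  obtain ⟨v, hv, hv0, hQv⟩ := exists_singular_of_three (Q := Q) S.two
    (S := A ⊓ K p ⊓ K q ⊓ K r) (by omega)
  exact ⟨v, hv.1.1.1, hv0, hQv, LinearMap.mem_ker.1 hv.1.1.2, LinearMap.mem_ker.1 hv.1.2,
    LinearMap.mem_ker.1 hv.2⟩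

variable (P : Frame Q)

include P

/-- The elements of `Ω` fixing `B` pointwise move any singular point of `A` to any other. -/
lemma IsSplit.exists_move (S : IsSplit Q A B) (hA : 6 ≤ Module.finrank F A) {u u' : ι → F}
    (hu : u ∈ A) (hu' : u' ∈ A) (hu0 : u ≠ 0) (hu'0 : u' ≠ 0) (hQu : Q u = 0) (hQu' : Q u' = 0) :
    ∃ h : GL ι F, h ∈ omegaGL ⇑Q ∧ (∀ x ∈ A, (h : Matrix ι ι F) *ᵥ x ∈ A) ∧
      (∀ b ∈ B, (h : Matrix ι ι F) *ᵥ b = b) ∧ (h : Matrix ι ι F) *ᵥ u = u' := by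
  have step : ∀ u u' s : ι → F, u ∈ A → u' ∈ A → s ∈ A → Q u = 0 → Q u' = 0 →
      polar Q u u' = 0 → polar Q u s ≠ 0 → polar Q u' s = 0 → u' ≠ 0 →
      ∃ h : GL ι F, h ∈ omegaGL ⇑Q ∧ (∀ x ∈ A, (h : Matrix ι ι F) *ᵥ x ∈ A) ∧
        (∀ b ∈ B, (h : Matrix ι ι F) *ᵥ b = b) ∧ (h : Matrix ι ι F) *ᵥ u = u' := by
    intro u u' s hu hu' hs hQu hQu' huu hus hu's hu'0
    obtain ⟨t, ht, htu⟩ := S.exists_ne hu' hu'0
    -- a vector with product one with both
    set s₁ := (polar Q u s)⁻¹ • s with hs₁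
    set t₁ := (polar Q u' t)⁻¹ • t with ht₁
    set x := t₁ + (1 - polar Q u t₁) • s₁ with hx
    have hxA : x ∈ A := A.add_mem (A.smul_mem _ ht) (A.smul_mem _ (A.smul_mem _ hs))
    have e1 : polar Q u s₁ = 1 := by rw [hs₁, polar_smul_right, smul_eq_mul, inv_mul_cancel₀ hus]
    have e2 : polar Q u' t₁ = 1 := by rw [ht₁, polar_smul_right, smul_eq_mul, inv_mul_cancel₀ htu]
    have e3 : polar Q u' s₁ = 0 := by rw [hs₁, polar_smul_right, hu's, smul_zero]
    clear_value s₁ t₁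
    have hux : polar Q u x = 1 := by
      rw [hx, polar_add_right, polar_smul_right, e1, smul_eq_mul]; ring
    have hu'x : polar Q u' x = 1 := by
      rw [hx, polar_add_right, polar_smul_right, e3, e2, smul_zero, add_zero]
    set z := x + (-(Q x)) • u with hz
    have hzz : Q z = 0 := by rw [hz, Classical.Quad.Q_comb1, hQu, polar_comm Q x u, hux]; ring
    have hzu : polar Q u z = 1 := by
      rw [hz, polar_add_right, polar_smul_right, Classical.Quad.polar_singular_self hQu, hux]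
      simp
    have hzu' : polar Q u' z = 1 := by
      rw [hz, polar_add_right, polar_smul_right, polar_comm Q u' u, huu, hu'x]
      simp
    have hzA : z ∈ A := A.add_mem hxA (A.smul_mem _ hu)
    have hd : polar Q z (u' - u) = 0 := by
      rw [polar_sub_right, polar_comm Q z u', polar_comm Q z u, hzu, hzu', sub_self]
    obtain ⟨h, hh, hhx⟩ := exists_sg S.nd P hzz hd
    refine ⟨h, hh, fun y hy => ?_, fun b hb => ?_, ?_⟩
    · rw [hhx y]
      exact A.add_mem (A.add_mem hy (A.smul_mem _ (A.sub_mem hu' hu))) (A.smul_mem _ hzA)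
    · rw [hhx b, polar_comm Q b z, S.orth z hzA b hb, polar_comm Q b (u' - u),
        S.orth (u' - u) (A.sub_mem hu' hu) b hb]
      simp
    · have hQd : Q (u' - u) = 0 := by
        rw [sub_eq_add_neg, QuadraticMap.map_add Q, QuadraticMap.map_neg, hQu, hQu', polar_neg_right,
          polar_comm Q u' u, huu]
        simp
      rw [hhx u, hzu, hQd, polar_sub_right, huu, Classical.Quad.polar_singular_self hQu]
      module
  obtain ⟨s, hs, hus, hu's⟩ := S.exists_both hu hu' hu0 hu'0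
  obtain ⟨v, hv, hv0, hQv, hvu, hvu', hvs⟩ := S.exists_orth_three hA u u' s
  obtain ⟨h₁, o₁, a₁, b₁, e₁⟩ := step u v s hu hv hs hQu hQv (by rw [polar_comm]; exact hvu) hus hvs hv0
  obtain ⟨h₂, o₂, a₂, b₂, e₂⟩ := step u' v s hu' hv hs hQu' hQv (by rw [polar_comm]; exact hvu') hu's hvs hv0
  have hA2 : ∀ x ∈ A, ((h₂⁻¹ : GL ι F) : Matrix ι ι F) *ᵥ x ∈ A := fun x hx => by
    obtain ⟨x', hx', rfl⟩ := CfsgLib.ClassicalMax.exists_preimage_mem a₂ hx
    rwa [gl_inv_mulVec_mulVec]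
  refine ⟨h₂⁻¹ * h₁, mul_mem (inv_mem o₂) o₁, fun x hx => ?_, fun b hb => ?_, ?_⟩
  · rw [gl_mulVec_mul]; exact hA2 _ (a₁ x hx)
  · rw [gl_mulVec_mul, b₁ b hb]
    conv_lhs => rw [← b₂ b hb]
    rw [gl_inv_mulVec_mulVec]
  · rw [gl_mulVec_mul, e₁, ← e₂, gl_inv_mulVec_mulVec]

omit P in
/-- An invariant subspace of the smaller part is trivial or of hyperbolic-plane shape over three elements. -/
lemma IsSplit.invariant_cases (S : IsSplit Q A B) {B₀ : Submodule F (ι → F)} (hle : B₀ ≤ B)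
    (h0 : B₀ ≠ ⊥) (hne : B₀ ≠ B) (hodd : Odd (Fintype.card F))
    (hinv : ∀ b ∈ B, Q b ≠ 0 → ∀ x ∈ B₀, x - (polar Q x b / Q b) • b ∈ B₀) :
    Fintype.card F = 3 ∧ Module.finrank F B = 2 ∧ IsPlusTypeOn ⇑Q B := by
  classical
  have h2 := S.two
  have hcov : ∀ b ∈ B, Q b ≠ 0 → b ∈ B₀ ∨ ∀ x ∈ B₀, polar Q b x = 0 := by
    intro b hb hQb
    by_contra hc
    push Not at hc
    obtain ⟨hb₀, x, hx, hne'⟩ := hc
    have h := B₀.sub_mem hx (hinv b hb hQb x hx)
    rw [sub_sub_cancel] at h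
    exact hb₀ ((B₀.smul_mem_iff (div_ne_zero (by rwa [polar_comm]) hQb)).1 h)
  have hR : ∀ r ∈ B₀, (∀ x ∈ B₀, polar Q r x = 0) → r = 0 := by
    intro r hr hrr
    have key : ∀ b ∈ B, Q b ≠ 0 → polar Q r b = 0 := fun b hb hQb => by
      rcases hcov b hb hQb with h | h
      · exact hrr b h
      · rw [polar_comm]; exact h r hr
    by_contra hr0
    obtain ⟨x, hx, hrx⟩ := S.symm.exists_ne (hle hr) hr0
    have hQx : Q x = 0 := by
      by_contra h; exact hrx (key x hx h)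
    have hQr : Q r = 0 := by
      have := hrr r hr
      rw [Classical.Quad.polar_self'] at this
      exact (mul_eq_zero.1 this).resolve_left h2
    have hQ : Q (x + r) = polar Q x r := by rw [QuadraticMap.map_add Q, hQx, hQr]; ring
    have hxr : polar Q x r ≠ 0 := by rw [polar_comm]; exact hrx
    have := key _ (B.add_mem hx (hle hr)) (by rw [hQ]; exact hxr)
    rw [polar_add_right, hrr r hr, add_zero] at this
    exact hrx this
  have hB₀ : IsNondegenerateOn (polar Q) B₀ := by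
    intro w hw hw0
    have h : ∃ x ∈ B₀, polar Q w x ≠ 0 := by
      by_contra hc; push Not at hc; exact hw0 (hR w hw hc)
    exact ⟨h.imp fun x hx => ⟨hx.1, by rw [polar_comm]; exact hx.2⟩, h⟩
  have hproj : ∀ x ∈ B, ∃ b ∈ B₀, x - b ∈ B ∧ ∀ y ∈ B₀, polar Q (x - b) y = 0 := fun x hx => by
    obtain ⟨b, hb, h⟩ := Om.exists_proj (isNondegenerateQuadraticForm S.nd) hB₀ x
    exact ⟨b, hb, B.sub_mem hx (hle hb), h⟩
  obtain ⟨x, hx, hxn⟩ : ∃ x ∈ B, x ∉ B₀ := by
    by_contra hc; push Not at hc; exact hne (le_antisymm hle hc)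
  obtain ⟨b', hb', hc, hcb⟩ := hproj x hx
  set c := x - b' with hcdef
  have hc0 : c ≠ 0 := fun h => hxn (by rw [sub_eq_zero.1 h]; exact hb')
  obtain ⟨b, hb, hb0⟩ := Submodule.exists_mem_ne_zero_of_ne_bot h0
  have mixed : ∀ b ∈ B₀, ∀ c ∈ B, (∀ y ∈ B₀, polar Q c y = 0) → b ≠ 0 → c ≠ 0 → Q b + Q c = 0 := by
    intro b hb c hc hcb hb0 hc0
    by_contra h
    have hQ : Q (b + c) = Q b + Q c := by
      rw [QuadraticMap.map_add Q, polar_comm Q b c, hcb b hb, add_zero]
    rcases hcov (b + c) (B.add_mem (hle hb) hc) (by rwa [hQ]) with h' | h'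
    · have hc' : c ∈ B₀ := by simpa using B₀.sub_mem h' hb
      exact hc0 (hR c hc' hcb)
    · refine hb0 (hR b hb fun y hy => ?_)
      have := h' y hy
      rwa [polar_add_left, hcb y hy, add_zero] at this
  have hbc := mixed b hb c hc hcb hb0 hc0
  have hd : Q b ≠ 0 := by
    intro h
    refine hb0 (hR b hb fun y hy => ?_)
    rcases eq_or_ne y 0 with rfl | hy0
    · exact polar_zero_right Q b
    rcases eq_or_ne (b + y) 0 with he | hby
    · rw [eq_neg_of_add_eq_zero_right he, polar_neg_right, Classical.Quad.polar_self', h]; ring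
    have e1 := mixed y hy c hc hcb hy0 hc0
    have e2 := mixed (b + y) (B₀.add_mem hb hy) c hc hcb hby hc0
    rw [QuadraticMap.map_add Q] at e2
    linear_combination e2 - e1 - h
  have hthree : Fintype.card F = 3 := by
    have hall : ∀ s : F, s ∈ ({0, 1, -1} : Finset F) := by
      intro s
      rcases eq_or_ne s 0 with rfl | hs
      · simp
      have e := mixed (s • b) (B₀.smul_mem s hb) c hc hcb (smul_ne_zero hs hb0) hc0
      rw [QuadraticMap.map_smul, smul_eq_mul] at e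
      have : (s * s - 1) * Q b = 0 := by linear_combination e - hbc
      rcases mul_self_eq_one_iff.1 (sub_eq_zero.1 ((mul_eq_zero.1 this).resolve_right hd)) with rfl | rfl <;>
        simp
    have h1 := Finset.card_le_card (s := Finset.univ) (t := ({0, 1, -1} : Finset F)) fun s _ => hall s
    have h3 : ({0, 1, -1} : Finset F).card ≤ 3 := Finset.card_le_three
    have h4 := Fintype.one_lt_card (α := F)
    rw [Finset.card_univ] at h1
    obtain ⟨r, hr⟩ := hodd
    omega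
  -- both parts are lines
  have hline : ∀ (d e : F) (C : Submodule F (ι → F)) (p : ι → F), p ∈ C → p ≠ 0 → d ≠ 0 →
      (∀ y ∈ C, y ≠ 0 → Q y + e = 0) → d + e = 0 → C ≤ Submodule.span F {p} := by
    intro d e C p hp hp0 hd hC hde y hy
    by_contra hyp
    have hne : ∀ s : F, y + s • p ≠ 0 := fun s h => hyp
      (Submodule.mem_span_singleton.2 ⟨-s, by rw [neg_smul]; exact (eq_neg_of_add_eq_zero_left h).symm⟩)
    have e0 := hC y hy (by simpa using hne 0)
    have e1 := hC _ (C.add_mem hy (C.smul_mem 1 hp)) (hne 1)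
    have e2 := hC _ (C.add_mem hy (C.smul_mem (-1) hp)) (hne (-1))
    have ep := hC p hp hp0
    rw [Classical.Quad.Q_comb1] at e1 e2
    have : 2 * d = 0 := by linear_combination e1 + e2 - 2 * e0 - 2 * ep + 2 * hde
    exact hd ((mul_eq_zero.1 this).resolve_left h2)
  let C : Submodule F (ι → F) :=
    { carrier := {y | y ∈ B ∧ ∀ z ∈ B₀, polar Q y z = 0}
      add_mem' := fun {a a'} ha ha' => ⟨B.add_mem ha.1 ha'.1,
        fun z hz => by rw [polar_add_left, ha.2 z hz, ha'.2 z hz, add_zero]⟩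
      zero_mem' := ⟨B.zero_mem, fun z _ => polar_zero_left Q z⟩
      smul_mem' := fun t a ha => ⟨B.smul_mem t ha.1,
        fun z hz => by rw [polar_smul_left, ha.2 z hz, smul_zero]⟩ }
  have hB₀l : B₀ ≤ Submodule.span F {b} := hline (Q b) (Q c) B₀ b hb hb0 hd
    (fun y hy hy0 => mixed y hy c hc hcb hy0 hc0) hbc
  have hCl : C ≤ Submodule.span F {c} := hline (Q c) (Q b) C c ⟨hc, hcb⟩ hc0
    (fun h => hd (by linear_combination hbc - h))
    (fun y hy hy0 => by linear_combination mixed b hb y hy.1 hy.2 hb0 hy0)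
    (by linear_combination hbc)
  have hli : LinearIndependent F ![b, c] := (LinearIndependent.pair_iff' hb0).2 fun t ht =>
    hc0 (hR c (by rw [← ht]; exact B₀.smul_mem t hb) hcb)
  have hspan : Submodule.span F (Set.range ![b, c]) = B := by
    refine le_antisymm (Submodule.span_le.2 (Set.range_subset_iff.2 fun i => by
      fin_cases i <;> simp [hle hb, hc])) fun y hy => ?_
    obtain ⟨y₀, hy₀, hyc, hyo⟩ := hproj y hy
    obtain ⟨p, hp⟩ := Submodule.mem_span_singleton.1 (hB₀l hy₀)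
    obtain ⟨r, hr⟩ := Submodule.mem_span_singleton.1 (hCl ⟨hyc, hyo⟩)
    rw [Matrix.range_cons_cons_empty]
    exact Submodule.mem_span_pair.2 ⟨p, r, by rw [hp, hr, add_sub_cancel]⟩
  have hdim : Module.finrank F B = 2 := by
    rw [← hspan, finrank_span_eq_card hli, Fintype.card_fin]
  have hbc0 : b + c ≠ 0 := fun h => hc0 (hR c (by
    rw [eq_neg_of_add_eq_zero_right h]; exact B₀.neg_mem hb) hcb)
  refine ⟨hthree, hdim, Submodule.span F {b + c}, (Submodule.span_singleton_le_iff_mem _ _).2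
    (B.add_mem (hle hb) hc), fun v hv => ?_, by rw [finrank_span_singleton hbc0, hdim]⟩
  obtain ⟨t, rfl⟩ := Submodule.mem_span_singleton.1 hv
  rw [QuadraticMap.map_smul, QuadraticMap.map_add Q, polar_comm Q b c, hcb b hb, add_zero, hbc,
    smul_zero]

/-- A subgroup of `Ω` containing the stabiliser of a splitting and an element not preserving it
is everything. -/
theorem IsSplit.omega_le (S : IsSplit Q A B) (hA : 6 ≤ Module.finrank F A)
    (hBA : Module.finrank F B < Module.finrank F A) (hodd : Odd (Fintype.card F))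
    (hex : ¬ (Fintype.card F = 3 ∧ Module.finrank F B = 2 ∧ IsPlusTypeOn ⇑Q B))
    (hMK : M ≤ omegaGL ⇑Q)
    (hH : ∀ h ∈ omegaGL ⇑Q, (∀ x ∈ A, (h : Matrix ι ι F) *ᵥ x ∈ A) → h ∈ M)
    {g : GL ι F} (hgM : g ∈ M) (hg : ¬ ∀ x ∈ A, (g : Matrix ι ι F) *ᵥ x ∈ A) :
    omegaGL ⇑Q ≤ M := by
  classical
  have hgo := hMK hgM
  have hTA : ∀ u w : ι → F, u ∈ A → w ∈ A → Q u = 0 → polar Q u w = 0 →
      ∃ h ∈ M, IsSg Q h u w := by
    intro u w hu hw hQu huw
    obtain ⟨h, hh, hhx⟩ := exists_sg S.nd P hQu huw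
    refine ⟨h, hH h hh fun x hx => ?_, hhx⟩
    rw [hhx x]
    exact A.add_mem (A.add_mem hx (A.smul_mem _ hw)) (A.smul_mem _ hu)
  -- a hyperbolic pair in `A`
  obtain ⟨u₀, hu₀, hu₀0, hQu₀, -, -, -⟩ := S.exists_orth_three hA 0 0 0
  obtain ⟨x₀, hx₀, hux₀⟩ := S.exists_ne hu₀ hu₀0
  set y₀ := (polar Q u₀ x₀)⁻¹ • x₀ with hy₀
  have hy₀A : y₀ ∈ A := A.smul_mem _ hx₀
  have huy : polar Q u₀ y₀ = 1 := by
    rw [hy₀, polar_smul_right, smul_eq_mul, inv_mul_cancel₀ hux₀]
  clear_value y₀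
  have hval : ∀ s : F, ∃ a ∈ A, Q a = s := fun s => ⟨y₀ + (s - Q y₀) • u₀,
    A.add_mem hy₀A (A.smul_mem _ hu₀), by
      rw [Classical.Quad.Q_comb1, hQu₀, polar_comm Q y₀ u₀, huy]; ring⟩
  set v₀ := y₀ + (-(Q y₀)) • u₀ with hv₀
  have hv₀A : v₀ ∈ A := A.add_mem hy₀A (A.smul_mem _ hu₀)
  have hQv₀ : Q v₀ = 0 := by rw [hv₀, Classical.Quad.Q_comb1, hQu₀, polar_comm Q y₀ u₀, huy]; ring
  have huv₀ : polar Q u₀ v₀ = 1 := by
    rw [hv₀, polar_add_right, polar_smul_right, Classical.Quad.polar_singular_self hQu₀, huy]; simp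
  have hv₀0 : v₀ ≠ 0 := fun h => one_ne_zero (α := F) (by rw [← huv₀, h, polar_zero_right])
  -- some root element with a component outside `A`
  obtain ⟨u, w, hu, hu0, hQu, hw, hw0, huw⟩ : ∃ u w, u ∈ A ∧ u ≠ 0 ∧ Q u = 0 ∧ w ∈ B ∧ w ≠ 0 ∧
      ∃ h ∈ M, IsSg Q h u w := by
    obtain ⟨u, hu, hu0, hQu, p₁, hp₁, p₂, hp₂, hp, hp₁0, hp₂0⟩ : ∃ u ∈ A, u ≠ 0 ∧ Q u = 0 ∧
        ∃ p₁ ∈ A, ∃ p₂ ∈ B, p₁ + p₂ = (g : Matrix ι ι F) *ᵥ u ∧ p₁ ≠ 0 ∧ p₂ ≠ 0 := by
      by_contra hcon
      push Not at hcon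
      have hcase : ∀ u ∈ A, Q u = 0 →
          (g : Matrix ι ι F) *ᵥ u ∈ A ∨ (g : Matrix ι ι F) *ᵥ u ∈ B := by
        intro u hu hQu
        rcases eq_or_ne u 0 with rfl | hu0
        · rw [mulVec_zero]; exact Or.inl A.zero_mem
        obtain ⟨a, ha, b, hb, hab⟩ := S.split ((g : Matrix ι ι F) *ᵥ u)
        rcases eq_or_ne a 0 with rfl | ha0
        · rw [zero_add] at hab; exact Or.inr (hab ▸ hb)
        · have := hcon u hu hu0 hQu a ha b hb hab ha0
          rw [this, add_zero] at hab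
          exact Or.inl (hab ▸ ha)
      have hsplit : ∀ u u' : ι → F, u ∈ A → u' ∈ A → Q u = 0 → Q u' = 0 → polar Q u u' ≠ 0 →
          (g : Matrix ι ι F) *ᵥ u ∈ A → (g : Matrix ι ι F) *ᵥ u' ∈ A := by
        intro u u' hu hu' hQu hQu' hne h
        refine (hcase u' hu' hQu').resolve_right fun h' => hne ?_
        rw [← omega_polar hgo]
        exact S.orth _ h _ h'
      have hsplit0 : ∀ u u' : ι → F, u ∈ A → u' ∈ A → u ≠ 0 → u' ≠ 0 → Q u = 0 → Q u' = 0 →
          (g : Matrix ι ι F) *ᵥ u ∈ A → (g : Matrix ι ι F) *ᵥ u' ∈ A := by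
        intro u u' hu hu' hu0 hu'0 hQu hQu' h
        by_cases hne : polar Q u u' = 0
        · obtain ⟨x, hx, hux, hu'x⟩ := S.exists_both hu hu' hu0 hu'0
          set x₁ := (polar Q u x)⁻¹ • x with hx₁
          have e1 : polar Q u x₁ = 1 := by rw [hx₁, polar_smul_right, smul_eq_mul, inv_mul_cancel₀ hux]
          have hx₁A : x₁ ∈ A := A.smul_mem _ hx
          clear_value x₁
          set y := x₁ + (-(Q x₁)) • u with hy
          have hyA : y ∈ A := A.add_mem hx₁A (A.smul_mem _ hu)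
          have hQy : Q y = 0 := by rw [hy, Classical.Quad.Q_comb1, hQu, polar_comm Q x₁ u, e1]; ring
          have huy' : polar Q u y ≠ 0 := by
            rw [hy, polar_add_right, polar_smul_right, Classical.Quad.polar_singular_self hQu, e1]
            simp
          have hu'y : polar Q y u' ≠ 0 := by
            rw [polar_comm, hy, polar_add_right, polar_smul_right, polar_comm Q u' u, hne, smul_zero,
              add_zero, hx₁, polar_smul_right, smul_eq_mul]
            exact mul_ne_zero (inv_ne_zero hux) hu'x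
          exact hsplit y u' hyA hu' hQy hQu' hu'y (hsplit u y hu hyA hQu hQy huy' h)
        · exact hsplit u u' hu hu' hQu hQu' hne h
      -- `A` is spanned by its singular vectors
      have hspan : ∀ C : Submodule F (ι → F), (∀ u ∈ A, Q u = 0 → (g : Matrix ι ι F) *ᵥ u ∈ C) →
          ∀ x ∈ A, (g : Matrix ι ι F) *ᵥ x ∈ C := by
        intro C hC x hx
        have hsing : ∀ x ∈ A, polar Q u₀ x = 1 → (g : Matrix ι ι F) *ᵥ x ∈ C := fun x hx h1 => by
          have h := C.add_mem (hC (x + (-(Q x)) • u₀) (A.add_mem hx (A.smul_mem _ hu₀))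
            (by rw [Classical.Quad.Q_comb1, hQu₀, polar_comm Q x u₀, h1]; ring))
            (C.smul_mem (Q x) (hC u₀ hu₀ hQu₀))
          rwa [← mulVec_smul, ← mulVec_add,
            show x + -Q x • u₀ + Q x • u₀ = x by module] at h
        have h1 := hsing (x + (1 - polar Q u₀ x) • v₀) (A.add_mem hx (A.smul_mem _ hv₀A))
          (by rw [polar_add_right, polar_smul_right, huv₀, smul_eq_mul]; ring)
        have h2 := C.smul_mem (1 - polar Q u₀ x) (hC v₀ hv₀A hQv₀)
        have := C.sub_mem h1 h2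
        rwa [mulVec_add, mulVec_smul, add_sub_cancel_right] at this
      rcases hcase u₀ hu₀ hQu₀ with h | h
      · refine hg (hspan A fun u hu hQu => ?_)
        rcases eq_or_ne u 0 with rfl | hu0
        · rw [mulVec_zero]; exact A.zero_mem
        exact hsplit0 u₀ u hu₀ hu hu₀0 hu0 hQu₀ hQu h
      · have hall : ∀ x ∈ A, (g : Matrix ι ι F) *ᵥ x ∈ B := hspan B fun u hu hQu => by
          rcases eq_or_ne u 0 with rfl | hu0
          · rw [mulVec_zero]; exact B.zero_mem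
          refine (hcase u hu hQu).resolve_left fun hA' => ?_
          exact gl_mulVec_ne_zero g hu₀0
            (S.eq_zero (hsplit0 u u₀ hu hu₀ hu0 hu₀0 hQu hQu₀ hA') h)
        have hle : A.map (Matrix.toLin' (g : Matrix ι ι F)) ≤ B := by
          rintro _ ⟨x, hx, rfl⟩
          simpa using hall x hx
        have := Submodule.finrank_mono hle
        rw [← (Submodule.equivMapOfInjective _
          (fun x y e => gl_mulVec_injective g (by simpa using e)) A).finrank_eq] at this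
        omega
    -- a partner of `u`
    obtain ⟨s, hs, hus⟩ := S.exists_ne hu hu0
    obtain ⟨w, hw, hw0, hQw, hwu, hws, -⟩ := S.exists_orth_three hA u s 0
    have hwu0 : ∀ l : F, w - l • u ≠ 0 := fun l h => by
      have h' := sub_eq_zero.1 h
      rw [h', polar_smul_left, smul_eq_mul] at hws
      rw [(mul_eq_zero.1 hws).resolve_right hus, zero_smul] at h'
      exact hw0 h'
    obtain ⟨q₁, hq₁, q₂, hq₂, hq⟩ := S.split ((g : Matrix ι ι F) *ᵥ w)
    obtain ⟨v', q₁', q₂', hv', hQv', huv', hq₁', hq₂', hq', hgood⟩ :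
        ∃ v' q₁' q₂', v' ∈ A ∧ Q v' = 0 ∧ polar Q u v' = 0 ∧ q₁' ∈ A ∧ q₂' ∈ B ∧
          q₁' + q₂' = (g : Matrix ι ι F) *ᵥ v' ∧
          ((q₂' = 0 ∧ q₁' ≠ 0) ∨ ∀ l : F, q₂' ≠ l • p₂) := by
      by_cases hl : ∃ l : F, q₂ = l • p₂
      · obtain ⟨l, hl⟩ := hl
        refine ⟨w - l • u, q₁ - l • p₁, 0, A.sub_mem hw (A.smul_mem _ hu), ?_, ?_,
          A.sub_mem hq₁ (A.smul_mem _ hp₁), B.zero_mem, ?_, Or.inl ⟨rfl, ?_⟩⟩
        · rw [sub_eq_add_neg, ← neg_smul, Classical.Quad.Q_comb1, hQw, hQu, hwu]; ring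
        · rw [polar_sub_right, polar_smul_right, polar_comm Q u w, hwu,
            Classical.Quad.polar_singular_self hQu, smul_zero, sub_zero]
        · rw [mulVec_sub, mulVec_smul, ← hp, ← hq, hl]; module
        · intro h
          refine gl_mulVec_ne_zero g (hwu0 l) ?_
          rw [mulVec_sub, mulVec_smul, ← hp, ← hq, hl]
          rw [sub_eq_zero.1 h]; module
      · push Not at hl
        exact ⟨w, q₁, q₂, hw, hQw, by rw [polar_comm]; exact hwu, hq₁, hq₂, hq, Or.inr hl⟩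
    obtain ⟨τ, hτ, hτx⟩ := hTA u v' hu hv' hQu huv'
    have hτ' : g * τ * g⁻¹ ∈ M := M.mul_mem (M.mul_mem hgM hτ) (M.inv_mem hgM)
    have hτx' := IsSg.conj hgo hτx
    rw [← hp, ← hq'] at hτx'
    set pp := p₁ + p₂ with hpp
    set qq := q₁' + q₂' with hqq
    have hQqq : Q qq = 0 := by rw [hq', omega_iso hgo, hQv']
    set r := if q₂' = 0 then q₁' else p₁ with hr
    have hrA : r ∈ A := by rw [hr]; split_ifs <;> assumption
    have hr0 : r ≠ 0 := by
      rw [hr]; split_ifs with h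
      · rcases hgood with h' | h'
        · exact h'.2
        · exact absurd (by rw [h, zero_smul]) (h' 0)
      · exact hp₁0
    obtain ⟨s', hs', hrs'⟩ := S.exists_ne hrA hr0
    obtain ⟨v, hv, hv0, hQv, hvp, hvq, hvs⟩ := S.exists_orth_three hA p₁ q₁' s'
    obtain ⟨a, ha, hva, hra⟩ : ∃ a ∈ A, polar Q v a = 0 ∧ polar Q r a ≠ 0 := ⟨s', hs', hvs, hrs'⟩
    obtain ⟨η, hη, hηx⟩ := hTA v a hv ha hQv hva
    have hconj := IsSg.conj (hMK hτ') hηx
    have hvB : ∀ b ∈ B, polar Q v b = 0 := S.orth v hv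
    rw [hτx' v, show polar Q v pp = 0 by rw [hpp, polar_add_right, hvp, hvB p₂ hp₂, add_zero],
      show polar Q v qq = 0 by rw [hqq, polar_add_right, hvq, hvB q₂' hq₂', add_zero], zero_smul,
      add_zero, mul_zero, sub_zero, neg_zero, zero_smul, add_zero, hτx' a, hQqq, zero_mul, sub_zero]
      at hconj
    have hmem : (g * τ * g⁻¹) * η * (g * τ * g⁻¹)⁻¹ ∈ M :=
      M.mul_mem (M.mul_mem hτ' hη) (M.inv_mem hτ')
    set a' := a + polar Q a pp • q₁' + (-polar Q a qq) • p₁ with ha'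
    have ha'A : a' ∈ A := A.add_mem (A.add_mem ha (A.smul_mem _ hq₁')) (A.smul_mem _ hp₁)
    set b := polar Q a pp • q₂' + (-polar Q a qq) • p₂ with hbdef
    have hbB : b ∈ B := B.add_mem (B.smul_mem _ hq₂') (B.smul_mem _ hp₂)
    have hab : a + polar Q a pp • qq + (-polar Q a qq) • pp = a' + b := by
      rw [ha', hbdef, hpp, hqq]; module
    rw [hab] at hconj
    have hva' : polar Q v a' = 0 := by
      rw [ha', polar_add_right, polar_add_right, polar_smul_right, polar_smul_right, hva, hvq, hvp]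
      simp
    obtain ⟨θ, hθ, hθx⟩ := hTA v (-a') hv (A.neg_mem ha'A) hQv (by rw [polar_neg_right, hva', neg_zero])
    have hprod := IsSg.mul hQv (by rw [polar_neg_right, hva', neg_zero])
      (by rw [polar_add_right, hva', hvB b hbB, add_zero]) hθx hconj
    rw [neg_add_cancel_left] at hprod
    refine ⟨v, b, hv, hv0, hQv, hbB, fun hb => ?_, _, M.mul_mem hθ hmem, hprod⟩
    have hap : ∀ x ∈ B, polar Q a x = 0 := S.orth a ha
    have e1 : polar Q a pp = polar Q a p₁ := by rw [hpp, polar_add_right, hap p₂ hp₂, add_zero]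
    have e2 : polar Q a qq = polar Q a q₁' := by rw [hqq, polar_add_right, hap q₂' hq₂', add_zero]
    rw [hbdef, e1, e2] at hb
    by_cases h : q₂' = 0
    · rw [hr, if_pos h] at hra
      rw [h, smul_zero, zero_add, neg_smul, neg_eq_zero, smul_eq_zero, polar_comm] at hb
      exact hb.elim hra hp₂0
    · rw [hr, if_neg h] at hra
      rcases hgood with h' | h'
      · exact h h'.1
      refine h' (polar Q a q₁' / polar Q a p₁) ?_
      rw [polar_comm] at hra
      rw [div_eq_inv_mul, mul_smul, eq_inv_smul_iff₀ hra]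
      rw [neg_smul, ← sub_eq_add_neg, sub_eq_zero] at hb
      exact hb
  -- the same elements for every singular point of `A`
  let B₀ : Submodule F (ι → F) :=
    { carrier := {b | b ∈ B ∧ ∀ u ∈ A, u ≠ 0 → Q u = 0 → ∃ h ∈ M, IsSg Q h u b}
      zero_mem' := ⟨B.zero_mem, fun u _ _ _ => ⟨1, M.one_mem, fun x => by simp⟩⟩
      add_mem' := fun {b b'} hb hb' => ⟨B.add_mem hb.1 hb'.1, fun u hu hu0 hQu => by
        obtain ⟨h, hh, hhx⟩ := hb.2 u hu hu0 hQu
        obtain ⟨h', hh', hhx'⟩ := hb'.2 u hu hu0 hQu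
        exact ⟨h * h', M.mul_mem hh hh', IsSg.mul hQu (S.orth u hu b hb.1) (S.orth u hu b' hb'.1) hhx hhx'⟩⟩
      smul_mem' := fun t b hb => ⟨B.smul_mem t hb.1, fun u hu hu0 hQu => by
        rcases eq_or_ne t 0 with rfl | ht
        · exact ⟨1, M.one_mem, fun x => by simp⟩
        obtain ⟨h, hh, hhx⟩ := hb.2 (t • u) (A.smul_mem t hu) (smul_ne_zero ht hu0)
          (by rw [QuadraticMap.map_smul, hQu, smul_zero])
        exact ⟨h, hh, IsSg.smul t hhx⟩⟩ }
  have hB₀mem : ∀ b ∈ B, ∀ u ∈ A, u ≠ 0 → Q u = 0 → (∃ h ∈ M, IsSg Q h u b) → b ∈ B₀ := by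
    intro b hb u hu hu0 hQu ⟨h, hh, hhx⟩
    refine ⟨hb, fun u' hu' hu'0 hQu' => ?_⟩
    obtain ⟨k, hk, hkA, hkB, hku⟩ := S.exists_move P hA hu hu' hu0 hu'0 hQu hQu'
    have hkM := hH k hk hkA
    have := IsSg.conj hk hhx
    rw [hku, hkB b hb] at this
    exact ⟨_, M.mul_mem (M.mul_mem hkM hh) (M.inv_mem hkM), this⟩
  have hwB₀ : w ∈ B₀ := hB₀mem w hw u hu hu0 hQu huw
  have hinv : ∀ b ∈ B, Q b ≠ 0 → ∀ x ∈ B₀, x - (polar Q x b / Q b) • b ∈ B₀ := by
    intro b hb hQb x hx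
    obtain ⟨a, ha, hQa⟩ := hval (Q b)
    have hQ' := isNondegenerateQuadraticForm S.nd
    have hQa0 : Q a ≠ 0 := by rw [hQa]; exact hQb
    have hab : polar Q a b = 0 := S.orth a ha b hb
    set k := Om.rf hQ' hQa0 * Om.rf hQ' hQb with hkdef
    have hko : k ∈ omegaGL ⇑Q := Om.rf_mul_rf_mem hQ' hQa0 hQb hQa (by
      rw [Om.Q_sub hQ', hQa, hab, sub_zero, ← two_mul]
      exact mul_ne_zero S.two hQb)
    have hkA : ∀ y ∈ A, (k : Matrix ι ι F) *ᵥ y ∈ A := fun y hy => by
      rw [hkdef, gl_mulVec_mul, Om.rf_fix hQ' hQb (S.orth y hy b hb), Om.rf_mulVec]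
      exact A.sub_mem hy (A.smul_mem _ ha)
    have hkM := hH k hko hkA
    obtain ⟨h, hh, hhx⟩ := hx.2 u₀ hu₀ hu₀0 hQu₀
    have hkx : (k : Matrix ι ι F) *ᵥ x = x - (polar Q x b / Q b) • b := by
      rw [hkdef, gl_mulVec_mul, Om.rf_mulVec hQ' hQb x, Om.rf_fix hQ' hQa0]
      rw [polar_sub_left, polar_smul_left, polar_comm Q x a, S.orth a ha x hx.1, polar_comm Q b a,
        hab, smul_zero, sub_zero]
    have h' := IsSg.conj hko hhx
    rw [hkx] at h'
    exact hB₀mem _ (B.sub_mem hx.1 (B.smul_mem _ hb)) _ (hkA _ hu₀) (gl_mulVec_ne_zero _ hu₀0)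
      (by rw [omega_iso hko, hQu₀]) ⟨_, M.mul_mem (M.mul_mem hkM hh) (M.inv_mem hkM), h'⟩
  have hB₀B : B₀ = B := by
    by_contra hne
    exact hex (S.invariant_cases (B₀ := B₀) (fun b hb => hb.1)
      (fun h => hw0 ((Submodule.mem_bot F).1 (h ▸ hwB₀))) hne hodd hinv)
  have hSS : ∀ v ∈ A, v ≠ 0 → Q v = 0 → v ∈ SS Q M := by
    refine fun v hv hv0 hQv => ⟨hQv, fun z hz => ?_⟩
    obtain ⟨a, ha, b, hb, rfl⟩ := S.split z
    rw [polar_add_right, S.orth v hv b hb, add_zero] at hz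
    obtain ⟨h, hh, hhx⟩ := hTA v a hv ha hQv hz
    obtain ⟨h', hh', hhx'⟩ := ((show b ∈ B₀ by rw [hB₀B]; exact hb) : b ∈ B ∧ _).2 v hv hv0 hQv
    exact ⟨h * h', M.mul_mem hh hh', IsSg.mul hQv hz (S.orth v hv b hb) hhx hhx'⟩
  exact omega_le_of_pair S.nd P hMK (hSS u₀ hu₀ hu₀0 hQu₀) (hSS v₀ hv₀A hv₀0 hQv₀)
    (by rw [huv₀]; exact one_ne_zero)

end CfsgLib.ClassicalMax.OmS
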