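/-
Geometry of orthogonal decompositions into isometric blocks of dimension at least three,
odd characteristic.
-/
import Cfsg.Agent.Lib.ClassicalMax.OrthNondeg
set_option autoImplicit false

namespace CfsgLib.ClassicalMax.OrthBlk

open Matrix Cfsg.Geo QuadraticMap
open scoped commutatorElement
open CfsgLib.Classical.Quad (NDPolar Q_comb1 polar_singular_self polar_self')
open CfsgLib.ClassicalMax.OmS (isNondegenerateQuadraticForm exists_singular_of_three)

variable {ι : Type} [Fintype ι] [DecidableEq ι] {F : Type*} [Field F]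

/-- An orthogonal decomposition into at least three isometric blocks of dimension at least three. -/
structure Blocks (Q : QuadraticForm F (ι → F)) {t : ℕ} (k : ℕ)
    (D : Fin t → Submodule F (ι → F)) : Prop where
  nd : NDPolar Q
  two : (2 : F) ≠ 0
  three_le : 3 ≤ t
  dim_three : 3 ≤ k
  dec : IsOrthogonalMDecomposition (⇑Q) k D

variable {Q : QuadraticForm F (ι → F)} {t k : ℕ} {D : Fin t → Submodule F (ι → F)}

/-- The polar form against `v` as a functional. -/
noncomputable def polL (Q : QuadraticForm F (ι → F)) (v : ι → F) : (ι → F) →ₗ[F] F :=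
  (polarBilin Q).flip v

omit [Fintype ι] [DecidableEq ι] in
lemma polL_apply (v x : ι → F) : polL Q v x = polar Q x v := rfl

namespace Blocks

variable (B : Blocks Q k D)

include B

omit [DecidableEq ι] in
lemma finrank (i : Fin t) : Module.finrank F (D i) = k := B.dec.decomp.decomp.finrank_eq i

omit [DecidableEq ι] in
lemma orth {i j : Fin t} (h : i ≠ j) {x y : ι → F} (hx : x ∈ D i) (hy : y ∈ D j) :
    polar Q x y = 0 :=
  B.dec.decomp.orthogonal i j h x hx y hy

omit [DecidableEq ι] in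
lemma exists_ne {i : Fin t} {a : ι → F} (ha : a ∈ D i) (ha0 : a ≠ 0) :
    ∃ x ∈ D i, polar Q a x ≠ 0 :=
  (B.dec.decomp.nondegenerate i a ha ha0).2

omit [DecidableEq ι] in
lemma eq_zero_of_orth {i : Fin t} {a : ι → F} (ha : a ∈ D i)
    (h : ∀ x ∈ D i, polar Q a x = 0) : a = 0 := by
  by_contra h0
  obtain ⟨x, hx, hne⟩ := B.exists_ne ha h0
  exact hne (h x hx)

omit [DecidableEq ι] in
lemma eq_zero_of_all {x : ι → F} (h : ∀ i, ∀ y ∈ D i, polar Q x y = 0) : x = 0 := by
  refine B.nd x fun y => ?_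
  have hy : y ∈ iSup D := B.dec.decomp.decomp.iSup_eq_top ▸ Submodule.mem_top
  have hle : iSup D ≤ LinearMap.ker (polarBilin Q x) := iSup_le fun i y hy => h i y hy
  exact hle hy

omit [DecidableEq ι] in
lemma ne_bot (i : Fin t) : ∃ x ∈ D i, x ≠ 0 := Submodule.exists_mem_ne_zero_of_ne_bot fun h => by
  have := B.finrank i
  rw [h, finrank_bot] at this
  exact absurd this B.dec.decomp.decomp.pos.ne

lemma exists_proj (i : Fin t) (z : ι → F) : ∃ w ∈ D i, ∀ x ∈ D i, polar Q z x = polar Q w x := by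
  obtain ⟨w, hw, h⟩ := Om.exists_proj (isNondegenerateQuadraticForm B.nd) (B.dec.decomp.nondegenerate i) z
  exact ⟨w, hw, fun x hx => sub_eq_zero.1 (by rw [← polar_sub_left]; exact h x hx)⟩

omit [DecidableEq ι] in
lemma eq_of_proj {i : Fin t} {z w w' : ι → F} (hw : w ∈ D i) (hw' : w' ∈ D i)
    (h : ∀ x ∈ D i, polar Q z x = polar Q w x) (h' : ∀ x ∈ D i, polar Q z x = polar Q w' x) :
    w = w' :=
  sub_eq_zero.1 (B.eq_zero_of_orth ((D i).sub_mem hw hw') fun x hx => by
    rw [polar_sub_left, ← h x hx, ← h' x hx, sub_self])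

lemma mem_of_orth {i : Fin t} {x : ι → F} (h : ∀ j, j ≠ i → ∀ y ∈ D j, polar Q x y = 0) :
    x ∈ D i := by
  obtain ⟨w, hw, hwx⟩ := B.exists_proj i x
  suffices x - w = 0 by rw [sub_eq_zero.1 this]; exact hw
  refine B.eq_zero_of_all fun j y hy => ?_
  rw [polar_sub_left]
  by_cases hji : j = i
  · subst hji; rw [hwx y hy, sub_self]
  · rw [h j hji y hy, B.orth (Ne.symm hji) hw hy, sub_self]

omit [DecidableEq ι] in
lemma disjoint {i j : Fin t} (h : i ≠ j) {x : ι → F} (hi : x ∈ D i) (hj : x ∈ D j) : x = 0 :=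
  B.eq_zero_of_orth hi fun y hy => by rw [polar_comm]; exact B.orth h hy hj

omit [DecidableEq ι] in
lemma exists_third (i j : Fin t) : ∃ l, l ≠ i ∧ l ≠ j := by
  have := B.three_le
  by_contra hcon
  push Not at hcon
  have : (Finset.univ : Finset (Fin t)).card ≤ ({i, j} : Finset (Fin t)).card :=
    Finset.card_le_card fun l _ => by
      by_cases h : l = i
      · simp [h]
      · simp [hcon l h]
  rw [Finset.card_univ, Fintype.card_fin] at this
  have := Finset.card_le_two (a := i) (b := j)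
  omega

omit [DecidableEq ι] in
/-- In one block, the orthogonal of two vectors contains a non-zero vector. -/
lemma exists_perp_pair (i : Fin t) (u v : ι → F) :
    ∃ b ∈ D i, b ≠ 0 ∧ polar Q b u = 0 ∧ polar Q b v = 0 := by
  have h1 := OrthCrit.finrank_le_inf_ker_add_one (D i) (polL Q u)
  have h2 := OrthCrit.finrank_le_inf_ker_add_one (D i ⊓ LinearMap.ker (polL Q u)) (polL Q v)
  rw [B.finrank] at h1
  have := B.dim_three
  obtain ⟨b, hb, hb0⟩ := Submodule.exists_mem_ne_zero_of_ne_bot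
    (p := D i ⊓ LinearMap.ker (polL Q u) ⊓ LinearMap.ker (polL Q v))
    fun h => by rw [h, finrank_bot] at h2; omega
  exact ⟨b, hb.1.1, hb0, LinearMap.mem_ker.1 hb.1.2, LinearMap.mem_ker.1 hb.2⟩

omit [DecidableEq ι] in
/-- A vector orthogonal to the orthogonal of a line lies on the line. -/
lemma mem_line {i : Fin t} {v y : ι → F} (hv : v ∈ D i) (hv0 : v ≠ 0) (hy : y ∈ D i)
    (h : ∀ d ∈ D i, polar Q d v = 0 → polar Q y d = 0) : ∃ s : F, y = s • v := by
  obtain ⟨d₀, hd₀, hne⟩ := B.exists_ne hv hv0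
  refine ⟨polar Q y d₀ / polar Q v d₀, sub_eq_zero.1
    (B.eq_zero_of_orth ((D i).sub_mem hy ((D i).smul_mem _ hv)) fun x hx => ?_)⟩
  have := h (x - (polar Q x v / polar Q d₀ v) • d₀) ((D i).sub_mem hx ((D i).smul_mem _ hd₀)) (by
    rw [polar_sub_left, polar_smul_left, smul_eq_mul,
      div_mul_cancel₀ _ (by rwa [polar_comm]), sub_self])
  rw [polar_sub_right, polar_smul_right, smul_eq_mul, sub_eq_zero, polar_comm Q d₀ v,
    polar_comm Q x v] at this
  rw [polar_sub_left, polar_smul_left, smul_eq_mul, this]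
  field_simp
  ring

omit [DecidableEq ι] in
lemma exists_both {i : Fin t} {a b : ι → F} (ha : a ∈ D i) (hb : b ∈ D i) (ha0 : a ≠ 0)
    (hb0 : b ≠ 0) : ∃ x ∈ D i, polar Q a x ≠ 0 ∧ polar Q b x ≠ 0 := by
  obtain ⟨x, hx, hax⟩ := B.exists_ne ha ha0
  obtain ⟨y, hy, hby⟩ := B.exists_ne hb hb0
  by_cases h1 : polar Q b x = 0
  · by_cases h2 : polar Q a y = 0
    · exact ⟨x + y, (D i).add_mem hx hy, by rw [polar_add_right, h2, add_zero]; exact hax,
        by rw [polar_add_right, h1, zero_add]; exact hby⟩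
    · exact ⟨y, hy, h2, hby⟩
  · exact ⟨x, hx, hax, h1⟩

omit [DecidableEq ι] in
/-- An anisotropic vector of a block orthogonal to a singular one. -/
lemma exists_aniso_perp {i : Fin t} {u : ι → F} (hu : u ∈ D i) (hu0 : u ≠ 0) (hQu : Q u = 0) :
    ∃ e ∈ D i, polar Q u e = 0 ∧ Q e ≠ 0 := by
  by_contra hcon
  push Not at hcon
  obtain ⟨x, hx, hux⟩ := B.exists_ne hu hu0
  obtain ⟨b, hb, hb0, hbu, hbx⟩ := B.exists_perp_pair i u x
  refine hb0 (B.eq_zero_of_orth hb fun y hy => ?_)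
  set y₀ := y + (-(polar Q u y / polar Q u x)) • x with hy₀
  have hy₀D : y₀ ∈ D i := (D i).add_mem hy ((D i).smul_mem _ hx)
  have hy₀u : polar Q u y₀ = 0 := by
    rw [hy₀, polar_add_right, polar_smul_right, smul_eq_mul]; field_simp; ring
  have hbu' : polar Q u b = 0 := by rwa [polar_comm]
  have h := hcon (b + y₀) ((D i).add_mem hb hy₀D) (by rw [polar_add_right, hbu', hy₀u, add_zero])
  rw [QuadraticMap.map_add Q, hcon b hb hbu', hcon y₀ hy₀D hy₀u, zero_add, zero_add, hy₀,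
    polar_add_right, polar_smul_right, hbx, smul_zero, add_zero] at h
  exact h

omit [DecidableEq ι] in
lemma exists_sg_partner {i : Fin t} {u : ι → F} (hu : u ∈ D i) (hu0 : u ≠ 0) (hQu : Q u = 0) :
    ∃ v ∈ D i, Q v = 0 ∧ polar Q u v = 1 := by
  obtain ⟨x, hx, hux⟩ := B.exists_ne hu hu0
  set x₁ := (polar Q u x)⁻¹ • x with hx₁
  have e1 : polar Q u x₁ = 1 := by rw [hx₁, polar_smul_right, smul_eq_mul, inv_mul_cancel₀ hux]
  have hx₁D : x₁ ∈ D i := (D i).smul_mem _ hx
  clear_value x₁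
  refine ⟨x₁ + (-(Q x₁)) • u, (D i).add_mem hx₁D ((D i).smul_mem _ hu), ?_, ?_⟩
  · rw [Q_comb1, hQu, polar_comm Q x₁ u, e1]; ring
  · rw [polar_add_right, polar_smul_right, polar_singular_self hQu, e1]; simp

variable [Fintype F]

lemma exists_singular (i : Fin t) : ∃ u ∈ D i, u ≠ 0 ∧ Q u = 0 :=
  exists_singular_of_three B.two (by rw [B.finrank]; exact B.dim_three)

lemma exists_value (i : Fin t) (s : F) : ∃ a ∈ D i, Q a = s := by
  obtain ⟨u, hu, hu0, hQu⟩ := B.exists_singular i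
  obtain ⟨v, hv, hQv, huv⟩ := B.exists_sg_partner hu hu0 hQu
  exact ⟨u + s • v, (D i).add_mem hu ((D i).smul_mem _ hv), by rw [Q_comb1, hQu, hQv, huv]; ring⟩

/-- The singular vectors span each block. -/
lemma mem_of_singular {i : Fin t} (K : Submodule F (ι → F))
    (h : ∀ u ∈ D i, Q u = 0 → u ∈ K) {x : ι → F} (hx : x ∈ D i) : x ∈ K := by
  obtain ⟨u, hu, hu0, hQu⟩ := B.exists_singular i
  obtain ⟨v, hv, hQv, huv⟩ := B.exists_sg_partner hu hu0 hQu
  have hone : ∀ x ∈ D i, polar Q u x = 1 → x ∈ K := fun x hx h1 => by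
    have := K.add_mem (h (x + (-(Q x)) • u) ((D i).add_mem hx ((D i).smul_mem _ hu))
      (by rw [Q_comb1, hQu, polar_comm Q x u, h1]; ring)) (K.smul_mem (Q x) (h u hu hQu))
    rwa [show x + -Q x • u + Q x • u = x by module] at this
  have h1 := hone (x + (1 - polar Q u x) • v) ((D i).add_mem hx ((D i).smul_mem _ hv))
    (by rw [polar_add_right, polar_smul_right, huv, smul_eq_mul]; ring)
  have := K.sub_mem h1 (K.smul_mem (1 - polar Q u x) (h v hv hQv))
  rwa [add_sub_cancel_right] at this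

omit [DecidableEq ι] in
/-- An anisotropic vector avoiding two hyperplanes of a block. -/
lemma exists_avoid {i : Fin t} (φ ψ : (ι → F) →ₗ[F] F) (hφ : ∃ x ∈ D i, φ x ≠ 0)
    (hψ : ∃ x ∈ D i, ψ x ≠ 0) : ∃ a ∈ D i, Q a ≠ 0 ∧ φ a ≠ 0 ∧ ψ a ≠ 0 := by
  classical
  by_contra hcon
  push Not at hcon
  obtain ⟨x₁, hx₁, hφ₁⟩ := hφ
  obtain ⟨x₂, hx₂, hψ₂⟩ := hψ
  obtain ⟨x₀, hx₀, hφ₀, hψ₀⟩ : ∃ x₀ ∈ D i, φ x₀ ≠ 0 ∧ ψ x₀ ≠ 0 := by
    by_cases h1 : ψ x₁ = 0
    · by_cases h2 : φ x₂ = 0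
      · exact ⟨x₁ + x₂, (D i).add_mem hx₁ hx₂, by rw [map_add, h2, add_zero]; exact hφ₁,
          by rw [map_add, h1, zero_add]; exact hψ₂⟩
      · exact ⟨x₂, hx₂, h2, hψ₂⟩
    · exact ⟨x₁, hx₁, hφ₁, h1⟩
  have h1 := OrthCrit.finrank_le_inf_ker_add_one (D i) φ
  have h2 := OrthCrit.finrank_le_inf_ker_add_one (D i ⊓ LinearMap.ker φ) ψ
  rw [B.finrank] at h1
  have := B.dim_three
  obtain ⟨h, ⟨⟨hh, hhφ⟩, hhψ⟩, hh0⟩ := Submodule.exists_mem_ne_zero_of_ne_bot
    (p := D i ⊓ LinearMap.ker φ ⊓ LinearMap.ker ψ) fun e => by rw [e, finrank_bot] at h2; omega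
  have hhφ' : φ h = 0 := hhφ
  have hhψ' : ψ h = 0 := hhψ
  have hout : ∀ x ∈ D i, φ x ≠ 0 → ψ x ≠ 0 → Q x = 0 := fun x hx hφx hψx => by
    by_contra hQ
    exact hψx (hcon x hx hQ hφx)
  have horth : ∀ x ∈ D i, φ x ≠ 0 → ψ x ≠ 0 → polar Q x h = 0 := by
    intro x hx hφx hψx
    have e0 := hout x hx hφx hψx
    have e1 := hout (x + h) ((D i).add_mem hx hh) (by rwa [map_add, hhφ', add_zero])
      (by rwa [map_add, hhψ', add_zero])
    have e2 := hout (x - h) ((D i).sub_mem hx hh) (by rwa [map_sub, hhφ', sub_zero])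
      (by rwa [map_sub, hhψ', sub_zero])
    rw [sub_eq_add_neg, QuadraticMap.map_add Q, QuadraticMap.map_neg, polar_neg_right, e0] at e2
    rw [QuadraticMap.map_add Q, e0] at e1
    exact (mul_eq_zero.1 (show (2 : F) * polar Q x h = 0 by linear_combination e1 - e2)).resolve_left B.two
  refine hh0 (B.eq_zero_of_orth hh fun x hx => ?_)
  obtain ⟨s, hs1, hs2⟩ : ∃ s : F, φ (x + s • x₀) ≠ 0 ∧ ψ (x + s • x₀) ≠ 0 := by
    by_contra hs
    push Not at hs
    have hneg : (1 : F) ≠ -1 := fun e => B.two (by linear_combination e)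
    have hzero : ∀ s : F, s = -φ x / φ x₀ ∨ s = -ψ x / ψ x₀ := fun s => by
      by_cases hs1 : φ (x + s • x₀) = 0
      · left; rw [map_add, map_smul, smul_eq_mul] at hs1
        rw [eq_div_iff hφ₀]; linear_combination hs1
      · right
        have := hs s hs1
        rw [map_add, map_smul, smul_eq_mul] at this
        rw [eq_div_iff hψ₀]; linear_combination this
    have h0 := hzero 0
    have h1 := hzero 1
    have h2 := hzero (-1)
    rcases h0 with h0 | h0 <;> rcases h1 with h1 | h1 <;> rcases h2 with h2 | h2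
    all_goals first
      | exact zero_ne_one (h0.trans h1.symm)
      | exact hneg (h1.trans h2.symm)
      | exact neg_ne_zero.2 one_ne_zero (h2.trans h0.symm)
  have := horth _ ((D i).add_mem hx ((D i).smul_mem _ hx₀)) hs1 hs2
  rw [polar_add_left, polar_smul_left, horth x₀ hx₀ hφ₀ hψ₀, smul_zero, add_zero] at this
  rw [polar_comm]; exact this

omit B in
omit [Fintype ι] [DecidableEq ι] in
/-- With at least five scalars, an anisotropic vector of a subspace avoids two proper subspaces. -/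
lemma exists_avoid_five (h5 : 5 ≤ Fintype.card F) (P : Submodule F (ι → F))
    (hP : ∃ b ∈ P, Q b ≠ 0) (φ ψ : (ι → F) →ₗ[F] F) (hφ : ∃ x ∈ P, φ x ≠ 0)
    (hψ : ∃ x ∈ P, ψ x ≠ 0) : ∃ a ∈ P, Q a ≠ 0 ∧ φ a ≠ 0 ∧ ψ a ≠ 0 := by
  classical
  obtain ⟨b, hb, hQb⟩ := hP
  obtain ⟨x₁, hx₁, hφ₁⟩ := hφ
  obtain ⟨x₂, hx₂, hψ₂⟩ := hψ
  obtain ⟨x₀, hx₀, hφ₀, hψ₀⟩ : ∃ x₀ ∈ P, φ x₀ ≠ 0 ∧ ψ x₀ ≠ 0 := by
    by_cases h1 : ψ x₁ = 0
    · by_cases h2 : φ x₂ = 0
      · exact ⟨x₁ + x₂, P.add_mem hx₁ hx₂, by rw [map_add, h2, add_zero]; exact hφ₁,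
          by rw [map_add, h1, zero_add]; exact hψ₂⟩
      · exact ⟨x₂, hx₂, h2, hψ₂⟩
    · exact ⟨x₁, hx₁, hφ₁, h1⟩
  by_cases hQ0 : Q x₀ = 0
  swap
  · exact ⟨x₀, hx₀, hQ0, hφ₀, hψ₀⟩
  obtain ⟨s, hs⟩ : ∃ s : F, s ∉ ({0, -(polar Q x₀ b) / Q b, -φ x₀ / φ b, -ψ x₀ / ψ b} : Finset F) := by
    by_contra hcon
    push Not at hcon
    have h := Finset.card_le_card (s := (Finset.univ : Finset F)) fun s _ => hcon s
    rw [Finset.card_univ] at h
    have := h.trans Finset.card_le_four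
    omega
  simp only [Finset.mem_insert, Finset.mem_singleton, not_or] at hs
  obtain ⟨hs0, hsQ, hsφ, hsψ⟩ := hs
  refine ⟨x₀ + s • b, P.add_mem hx₀ (P.smul_mem _ hb), fun e => ?_, fun e => ?_, fun e => ?_⟩
  · rw [Q_comb1, hQ0] at e
    have e' : s * (s * Q b + polar Q x₀ b) = 0 := by linear_combination e
    refine hsQ ?_
    rw [eq_div_iff hQb]
    linear_combination (mul_eq_zero.1 e').resolve_left hs0
  · rw [map_add, map_smul, smul_eq_mul] at e
    by_cases hb0 : φ b = 0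
    · rw [hb0, mul_zero, add_zero] at e; exact hφ₀ e
    · exact hsφ (by rw [eq_div_iff hb0]; linear_combination e)
  · rw [map_add, map_smul, smul_eq_mul] at e
    by_cases hb0 : ψ b = 0
    · rw [hb0, mul_zero, add_zero] at e; exact hψ₀ e
    · exact hsψ (by rw [eq_div_iff hb0]; linear_combination e)

omit B in
omit [DecidableEq ι] in
/-- Two orthogonal anisotropic vectors represent every non-zero scalar. -/
lemma exists_rep (h2 : (2 : F) ≠ 0) {e₁ e₂ : ι → F} (he₁ : Q e₁ ≠ 0) (he₂ : Q e₂ ≠ 0)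
    (h : polar Q e₁ e₂ = 0) (s : F) : ∃ x y : F, Q (x • e₁ + y • e₂) = s := by
  obtain ⟨x, y, hxy⟩ := FiniteField.exists_root_sum_quadratic
    (f := Polynomial.C (Q e₁) * Polynomial.X ^ 2)
    (g := Polynomial.C (Q e₂) * Polynomial.X ^ 2 + Polynomial.C (-s))
    (by rw [Polynomial.degree_C_mul_X_pow 2 he₁, Nat.cast_ofNat])
    (by
      rw [Polynomial.degree_add_eq_left_of_degree_lt, Polynomial.degree_C_mul_X_pow 2 he₂,
        Nat.cast_ofNat]
      exact lt_of_le_of_lt Polynomial.degree_C_le (by rw [Polynomial.degree_C_mul_X_pow 2 he₂]; decide))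
    (by
      by_contra hc
      have hc2 : ringChar F = 2 := FiniteField.even_card_iff_char_two.2 (by omega)
      have h0 := ringChar.Nat.cast_ringChar (R := F)
      rw [hc2] at h0
      exact h2 (by simpa using h0))
  simp only [Polynomial.eval_mul, Polynomial.eval_C, Polynomial.eval_pow, Polynomial.eval_X,
    Polynomial.eval_add] at hxy
  refine ⟨x, y, ?_⟩
  rw [QuadraticMap.map_add Q, QuadraticMap.map_smul, QuadraticMap.map_smul, polar_smul_left,
    polar_smul_right, h]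
  simp only [smul_eq_mul, mul_zero, add_zero]
  linear_combination hxy

end Blocks

/-! ### Isometries preserving the decomposition -/

namespace Blocks

variable (B : Blocks Q k D)

include B

lemma mem_stab_of_le {g : GL ι F} (σ : Equiv.Perm (Fin t))
    (h : ∀ i, ∀ x ∈ D i, (g : Matrix ι ι F) *ᵥ x ∈ D (σ i)) : g ∈ decompositionStabilizer D := by
  refine ⟨σ, fun i => Submodule.eq_of_le_of_finrank_eq ?_ ?_⟩
  · rintro _ ⟨x, hx, rfl⟩
    rw [Matrix.toLin'_apply]; exact h i x hx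
  · rw [← (Submodule.equivMapOfInjective _ (fun x y e => gl_mulVec_injective g (by simpa using e))
      (D i)).finrank_eq, B.finrank, B.finrank]

lemma rf_stab {i : Fin t} {a : ι → F} (ha : a ∈ D i) (hQa : Q a ≠ 0) :
    Om.rf (isNondegenerateQuadraticForm B.nd) hQa ∈ decompositionStabilizer D := by
  refine B.mem_stab_of_le 1 fun j x hx => ?_
  rw [Equiv.Perm.one_apply, Om.rf_mulVec]
  by_cases h : j = i
  · exact (D j).sub_mem hx ((D j).smul_mem _ (h ▸ ha))
  · rw [B.orth h hx ha, zero_div, zero_smul, sub_zero]; exact hx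

/-- An isometry exchanging two blocks and fixing the others. -/
lemma exists_swap {i j : Fin t} (hij : i ≠ j) : ∃ s : GL ι F, s ∈ Cfsg.isometryGroup F ⇑Q ∧
    s * s = 1 ∧ s ∈ decompositionStabilizer D ∧
    (∀ x ∈ D i, (s : Matrix ι ι F) *ᵥ x ∈ D j) ∧ (∀ x ∈ D j, (s : Matrix ι ι F) *ᵥ x ∈ D i) ∧
    ∀ l, l ≠ i → l ≠ j → ∀ x ∈ D l, (s : Matrix ι ι F) *ᵥ x = x := by
  classical
  obtain ⟨φ, hφ⟩ := B.dec.isometric i j
  choose π hπ hπx using B.exists_proj
  have huniq : ∀ l z w, w ∈ D l → (∀ x ∈ D l, polar Q z x = polar Q w x) → π l z = w :=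
    fun l z w hw h => B.eq_of_proj (hπ l z) hw (hπx l z) h
  let P : ∀ l, (ι → F) →ₗ[F] D l := fun l =>
    { toFun := fun z => ⟨π l z, hπ l z⟩
      map_add' := fun y z => Subtype.ext (huniq l (y + z) (π l y + π l z) ((D l).add_mem (hπ l y) (hπ l z)) fun x hx => by
        rw [polar_add_left, polar_add_left, hπx l y x hx, hπx l z x hx])
      map_smul' := fun c z => Subtype.ext (huniq l (c • z) (c • π l z) ((D l).smul_mem c (hπ l z)) fun x hx => by
        rw [polar_smul_left, polar_smul_left, hπx l z x hx]) }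
  have hPe : ∀ l z, (P l z : ι → F) = π l z := fun l z => rfl
  let L : (ι → F) →ₗ[F] (ι → F) := LinearMap.id - (D i).subtype.comp (P i) - (D j).subtype.comp (P j)
    + (D j).subtype.comp (φ.toLinearMap.comp (P i)) + (D i).subtype.comp (φ.symm.toLinearMap.comp (P j))
  have hL : ∀ z, L z = z - (P i z : ι → F) - (P j z : ι → F) + (φ (P i z) : ι → F)
      + (φ.symm (P j z) : ι → F) := fun z => rfl
  have hPs : ∀ {l m : Fin t}, l ≠ m → ∀ x ∈ D m, P l x = 0 := fun {l m} h x hx => Subtype.ext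
    (huniq l x 0 (D l).zero_mem fun y hy => by rw [B.orth (Ne.symm h) hx hy, polar_zero_left])
  have hPid : ∀ l, ∀ x ∈ D l, (P l x : ι → F) = x := fun l x hx => huniq l x x hx fun y _ => rfl
  have hLi : ∀ x (hx : x ∈ D i), L x = (φ ⟨x, hx⟩ : ι → F) := fun x hx => by
    rw [hL, hPs hij.symm x hx, show P i x = ⟨x, hx⟩ from Subtype.ext (hPid i x hx)]
    simp
  have hLj : ∀ x (hx : x ∈ D j), L x = (φ.symm ⟨x, hx⟩ : ι → F) := fun x hx => by
    rw [hL, hPs hij x hx, show P j x = ⟨x, hx⟩ from Subtype.ext (hPid j x hx)]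
    simp
  have hLl : ∀ l, l ≠ i → l ≠ j → ∀ x ∈ D l, L x = x := fun l h1 h2 x hx => by
    rw [hL, hPs (Ne.symm h1) x hx, hPs (Ne.symm h2) x hx]
    simp
  have hP1 : ∀ z, P i (L z) = φ.symm (P j z) := fun z => by
    rw [hL, map_add, map_add, map_sub, map_sub, hPs hij _ (P j z).2, hPs hij _ (φ (P i z)).2,
      show P i (P i z : ι → F) = P i z from Subtype.ext (hPid i _ (P i z).2),
      show P i (φ.symm (P j z) : ι → F) = φ.symm (P j z) from
        Subtype.ext (hPid i _ (φ.symm (P j z)).2)]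
    abel
  have hP2 : ∀ z, P j (L z) = φ (P i z) := fun z => by
    rw [hL, map_add, map_add, map_sub, map_sub, hPs hij.symm _ (P i z).2,
      hPs hij.symm _ (φ.symm (P j z)).2,
      show P j (P j z : ι → F) = P j z from Subtype.ext (hPid j _ (P j z).2),
      show P j (φ (P i z) : ι → F) = φ (P i z) from Subtype.ext (hPid j _ (φ (P i z)).2)]
    abel
  have hLL : ∀ z, L (L z) = z := fun z => by
    rw [hL (L z), hP1, hP2, LinearEquiv.apply_symm_apply, LinearEquiv.symm_apply_apply, hL z]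
    abel
  have hQL : ∀ z, Q (L z) = Q z := fun z => by
    set a := (P i z : ι → F) with ha
    set b := (P j z : ι → F) with hb
    set a' := (φ (P i z) : ι → F) with ha'
    set b' := (φ.symm (P j z) : ι → F) with hb'
    set r := z - a - b with hr
    have ra : ∀ x ∈ D i, polar Q r x = 0 := fun x hx => by
      rw [hr, polar_sub_left, polar_sub_left, ha, hPe, ← hπx i z x hx,
        B.orth hij.symm (P j z).2 hx]
      ring
    have rb : ∀ x ∈ D j, polar Q r x = 0 := fun x hx => by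
      rw [hr, polar_sub_left, polar_sub_left, hb, hPe, ← hπx j z x hx, B.orth hij (P i z).2 hx]
      ring
    have hQa : Q a' = Q a := hφ (P i z)
    have hQb : Q b' = Q b := by
      have := hφ (φ.symm (P j z))
      rw [LinearEquiv.apply_symm_apply] at this
      exact this.symm
    have e1 : L z = r + a' + b' := by rw [hL z, hr]
    have e2 : z = r + a + b := by rw [hr]; abel
    clear_value r
    rw [e1]
    conv_rhs => rw [e2]
    simp only [QuadraticMap.map_add Q, polar_add_left]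
    rw [rb a' (φ (P i z)).2, ra b' (φ.symm (P j z)).2, ra a (P i z).2, rb b (P j z).2,
      B.orth hij.symm (φ (P i z)).2 (φ.symm (P j z)).2, B.orth hij (P i z).2 (P j z).2, hQa, hQb]
  have hmat : LinearMap.toMatrix' L * LinearMap.toMatrix' L = 1 := by
    rw [← LinearMap.toMatrix'_comp, show L.comp L = LinearMap.id from LinearMap.ext hLL,
      LinearMap.toMatrix'_id]
  let s : GL ι F := ⟨LinearMap.toMatrix' L, LinearMap.toMatrix' L, hmat, hmat⟩
  have hs : ∀ x, (s : Matrix ι ι F) *ᵥ x = L x := fun x => LinearMap.toMatrix'_mulVec L x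
  have hsi : ∀ x ∈ D i, (s : Matrix ι ι F) *ᵥ x ∈ D j := fun x hx => by
    rw [hs, hLi x hx]; exact (φ ⟨x, hx⟩).2
  have hsj : ∀ x ∈ D j, (s : Matrix ι ι F) *ᵥ x ∈ D i := fun x hx => by
    rw [hs, hLj x hx]; exact (φ.symm ⟨x, hx⟩).2
  have hsl : ∀ l, l ≠ i → l ≠ j → ∀ x ∈ D l, (s : Matrix ι ι F) *ᵥ x = x := fun l h1 h2 x hx => by
    rw [hs, hLl l h1 h2 x hx]
  refine ⟨s, fun x _ => ?_, Units.ext hmat, B.mem_stab_of_le (Equiv.swap i j) fun l x hx => ?_,
    hsi, hsj, hsl⟩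
  · change Q ((s : Matrix ι ι F) *ᵥ x) = Q x
    rw [hs, hQL]
  · by_cases h1 : l = i
    · subst h1; rw [Equiv.swap_apply_left]; exact hsi x hx
    by_cases h2 : l = j
    · subst h2; rw [Equiv.swap_apply_right]; exact hsj x hx
    rw [Equiv.swap_apply_of_ne_of_ne h1 h2, hsl l h1 h2 x hx]
    exact hx

/-- An element of `Ω` preserving the decomposition and moving two blocks to the next ones. -/
lemma exists_cycle {i j l : Fin t} (hij : i ≠ j) (hjl : j ≠ l) (hil : i ≠ l) :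
    ∃ c : GL ι F, c ∈ omegaGL ⇑Q ∧ c ∈ decompositionStabilizer D ∧
      (∀ x ∈ D i, (c : Matrix ι ι F) *ᵥ x ∈ D j) ∧ (∀ x ∈ D j, (c : Matrix ι ι F) *ᵥ x ∈ D l) := by
  obtain ⟨s, hsO, hss, hsS, hsj, hsl, hs0⟩ := B.exists_swap hjl
  obtain ⟨s', hs'O, hss', hs'S, hs'i, hs'j, hs'0⟩ := B.exists_swap hij
  refine ⟨s * s' * s * s', ?_, mul_mem (mul_mem (mul_mem hsS hs'S) hsS) hs'S, fun x hx => ?_,
    fun x hx => ?_⟩
  · have e1 : s⁻¹ = s := inv_eq_of_mul_eq_one_left hss
    have e2 : s'⁻¹ = s' := inv_eq_of_mul_eq_one_left hss'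
    refine ⟨⁅(⟨s, hsO⟩ : Cfsg.isometryGroup F ⇑Q), (⟨s', hs'O⟩ : Cfsg.isometryGroup F ⇑Q)⁆,
      Subgroup.commutator_mem_commutator (Subgroup.mem_top _) (Subgroup.mem_top _), ?_⟩
    rw [commutatorElement_def]
    change s * s' * s⁻¹ * s'⁻¹ = _
    rw [e1, e2]
  · simp only [gl_mulVec_mul]
    have h1 := hs'i x hx
    have h2 := hsj _ h1
    rw [hs'0 l (Ne.symm hil) (Ne.symm hjl) _ h2]
    exact hsl _ h2
  · simp only [gl_mulVec_mul]
    have h1 := hs'j x hx
    rw [hs0 i hij hil _ h1]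
    exact hsj _ (hs'i _ h1)

end Blocks

end CfsgLib.ClassicalMax.OrthBlk
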