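/-
Maximality of stabilisers of non-degenerate subspaces in odd-dimensional `Ω`.
-/
import Cfsg.Agent.Lib.ClassicalMax.OrthNondeg
set_option autoImplicit false

namespace CfsgLib.ClassicalMax.OmS

open Matrix Cfsg.Geo QuadraticMap
open CfsgLib.Classical.Quad (NDPolar Orth Frame)

variable {ι : Type} [Fintype ι] [DecidableEq ι] {F : Type*} [Field F] [Fintype F]
  {Q : QuadraticForm F (ι → F)}

/-- An isometry preserving one part of a splitting preserves the other. -/
lemma IsSplit.map_other {A B : Submodule F (ι → F)} (S : IsSplit Q A B) {g : GL ι F}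
    (hg : g ∈ omegaGL ⇑Q) (hA : ∀ x ∈ A, (g : Matrix ι ι F) *ᵥ x ∈ A) :
    ∀ x ∈ B, (g : Matrix ι ι F) *ᵥ x ∈ B := by
  intro x hx
  obtain ⟨a, ha, b, hb, hab⟩ := S.split ((g : Matrix ι ι F) *ᵥ x)
  suffices a = 0 by rw [← hab, this, zero_add]; exact hb
  by_contra h
  obtain ⟨y, hy, hne⟩ := S.exists_ne ha h
  obtain ⟨y', hy', rfl⟩ := CfsgLib.ClassicalMax.exists_preimage_mem hA hy
  refine hne ?_
  have h1 : polar Q ((g : Matrix ι ι F) *ᵥ x) ((g : Matrix ι ι F) *ᵥ y') = 0 := by
    rw [omega_polar hg, polar_comm, S.orth y' hy' x hx]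
  rw [← hab, polar_add_left, polar_comm Q b, S.orth _ hy b hb, add_zero] at h1
  exact h1

theorem nondegenerate_stabilizer_maximal (hnd : NDPolar Q) (P : Frame Q) (h2 : (2 : F) ≠ 0)
    (hodd : Odd (Fintype.card F)) (hn : Odd (Fintype.card ι)) (hn13 : 11 ≤ Fintype.card ι)
    {W : Submodule F (ι → F)} (hW0 : W ≠ ⊥) (hev : Even (Module.finrank F W))
    (hW : IsNondegenerateOn (polar Q) W)
    (hex : ¬ (Fintype.card F = 3 ∧ Module.finrank F W = 2 ∧ IsPlusTypeOn (⇑Q) W)) :
    IsMaximalIn (omegaGL ⇑Q) (subspaceStabilizer W ⊓ omegaGL ⇑Q) := by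
  classical
  let W' : Submodule F (ι → F) :=
    { carrier := {y | ∀ w ∈ W, polar Q y w = 0}
      add_mem' := fun {a a'} ha ha' w hw => by rw [polar_add_left, ha w hw, ha' w hw, add_zero]
      zero_mem' := fun w _ => polar_zero_left Q w
      smul_mem' := fun t a ha w hw => by rw [polar_smul_left, ha w hw, smul_zero] }
  have S : IsSplit Q W W' :=
    { nd := hnd
      two := h2
      orth := fun a ha b hb => by rw [polar_comm]; exact hb a ha
      split := fun x => by
        obtain ⟨w, hw, h⟩ := Om.exists_proj (isNondegenerateQuadraticForm hnd) hW x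
        exact ⟨w, hw, x - w, h, add_sub_cancel _ _⟩ }
  have hsum : Module.finrank F W + Module.finrank F W' = Fintype.card ι := by
    rw [← Submodule.finrank_sup_add_finrank_inf_eq]
    have h1 : W ⊔ W' = ⊤ := eq_top_iff.2 fun x _ => by
      obtain ⟨a, ha, b, hb, h⟩ := S.split x
      exact Submodule.mem_sup.2 ⟨a, ha, b, hb, h⟩
    have h0 : W ⊓ W' = ⊥ := eq_bot_iff.2 fun x hx =>
      (Submodule.mem_bot F).2 (S.eq_zero hx.1 hx.2)
    rw [h1, h0, finrank_top, finrank_bot, add_zero, Module.finrank_fintype_fun_eq_card]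
  obtain ⟨r, hr⟩ := hn
  obtain ⟨s, hs⟩ := hev
  refine CfsgLib.ClassicalMax.isMaximalIn_of inf_le_right ?_ ?_
  · have hW1 : W ≠ ⊤ := fun h => by
      rw [h, finrank_top, Module.finrank_fintype_fun_eq_card] at hs
      omega
    obtain ⟨g, hg, hg'⟩ := SetLike.not_le_iff_exists.1 (Asch.omega_not_le_subspace hnd P hW0 hW1)
    exact ⟨g, hg, fun h => hg' h.1⟩
  intro M hHM hMK g hgM hgH
  have hgW : ¬ ∀ x ∈ W, (g : Matrix ι ι F) *ᵥ x ∈ W := fun h =>
    hgH ⟨mem_subspaceStabilizer_of_forall h, hMK hgM⟩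
  by_cases hbig : Module.finrank F W' < Module.finrank F W
  · refine S.omega_le P (by omega) hbig hodd ?_ hMK
      (fun h hh hA => hHM ⟨mem_subspaceStabilizer_of_forall hA, hh⟩) hgM hgW
    rintro ⟨-, h, -⟩
    omega
  · refine S.symm.omega_le P (by omega) (by omega) hodd hex hMK
      (fun h hh hA => hHM ⟨mem_subspaceStabilizer_of_forall (S.symm.map_other hh hA), hh⟩) hgM
      fun h => hgW (S.symm.map_other (hMK hgM) h)

end CfsgLib.ClassicalMax.OmS
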