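/-
Maximality of stabilisers of non-degenerate subspaces: any characteristic, any dimension.
-/
import Cfsg.Agent.Lib.ClassicalMax.OrthNondegMax
import Cfsg.Agent.Lib.ClassicalMax.OrthEven
set_option autoImplicit false

namespace CfsgLib.ClassicalMax.OmN

open Matrix Cfsg.Geo QuadraticMap
open CfsgLib.Classical.Quad (NDPolar Orth Frame)
open CfsgLib.ClassicalMax.OmS (SS IsSg exists_sg omega_le_of_pair omega_iso omega_polar SS_mulVec isNondegenerateQuadraticForm)

variable {ι : Type} [Fintype ι] [DecidableEq ι] {F : Type*} [Field F]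
  {Q : QuadraticForm F (ι → F)} {M : Subgroup (GL ι F)}

section split

/-- An orthogonal splitting of the space. -/
structure IsSplit (Q : QuadraticForm F (ι → F)) (A B : Submodule F (ι → F)) : Prop where
  nd : NDPolar Q
  orth : ∀ a ∈ A, ∀ b ∈ B, polar Q a b = 0
  split : ∀ x, ∃ a ∈ A, ∃ b ∈ B, a + b = x

variable {A B : Submodule F (ι → F)}

lemma IsSplit.symm (S : IsSplit Q A B) : IsSplit Q B A where
  nd := S.nd
  orth b hb a ha := by rw [polar_comm]; exact S.orth a ha b hb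
  split x := by
    obtain ⟨a, ha, b, hb, h⟩ := S.split x
    exact ⟨b, hb, a, ha, by rw [add_comm, h]⟩

lemma IsSplit.exists_ne (S : IsSplit Q A B) {a : ι → F} (ha : a ∈ A) (ha0 : a ≠ 0) :
    ∃ x ∈ A, polar Q a x ≠ 0 := by
  by_contra h
  push Not at h
  refine ha0 (S.nd a fun y => ?_)
  obtain ⟨x, hx, b, hb, rfl⟩ := S.split y
  rw [polar_add_right, h x hx, S.orth a ha b hb, add_zero]

lemma IsSplit.eq_zero (S : IsSplit Q A B) {x : ι → F} (hA : x ∈ A) (hB : x ∈ B) : x = 0 := by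
  by_contra h
  obtain ⟨y, hy, hne⟩ := S.exists_ne hA h
  exact hne (by rw [polar_comm]; exact S.orth y hy x hB)

lemma IsSplit.exists_both (S : IsSplit Q A B) {a b : ι → F} (ha : a ∈ A) (hb : b ∈ A)
    (ha0 : a ≠ 0) (hb0 : b ≠ 0) : ∃ x ∈ A, polar Q a x ≠ 0 ∧ polar Q b x ≠ 0 := by
  obtain ⟨x, hx, hax⟩ := S.exists_ne ha ha0
  obtain ⟨y, hy, hby⟩ := S.exists_ne hb hb0
  by_cases h1 : polar Q b x = 0
  · by_cases h2 : polar Q a y = 0
    · exact ⟨x + y, A.add_mem hx hy, by rw [polar_add_right, h2, add_zero]; exact hax,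
        by rw [polar_add_right, h1, zero_add]; exact hby⟩
    · exact ⟨y, hy, h2, hby⟩
  · exact ⟨x, hx, hax, h1⟩

variable [Fintype F]

/-- Three-dimensional subspaces contain singular vectors. -/
lemma exists_singular_in {S : Submodule F (ι → F)} (hS : 3 ≤ Module.finrank F S) :
    ∃ v ∈ S, v ≠ 0 ∧ Q v = 0 := by
  obtain ⟨w, hw0, hw⟩ := FormsDisc.exists_singular_of_three (Q.comp S.subtype) hS
  exact ⟨w, w.2, fun h => hw0 (Subtype.ext h), hw⟩

/-- Two reflections with the same value in perpendicular vectors. -/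
lemma rf_pair_mem (hnd : NDPolar Q) (h7 : 7 ≤ Fintype.card ι)
    (hQ' : IsNondegenerateQuadraticForm ⇑Q) {a b : ι → F} (ha : Q a ≠ 0) (hb : Q b ≠ 0)
    (h : Q a = Q b) (hab : polar Q a b = 0) :
    Om.rf hQ' ha * Om.rf hQ' hb ∈ omegaGL ⇑Q := by
  by_cases h2 : (2 : F) = 0
  · haveI := OrthCrit.charP_two_of h2
    have hreg : OrthCrit.Regular F ι := Or.inr (by omega)
    have key : ∀ {r : ι → F} (hr : Q r ≠ 0),
        ((OrthSpinor.reflection (Q := Q) hr : ↥(Cfsg.isometryGroup F ⇑Q)) : GL ι F)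
          = Om.rf hQ' hr := by
      intro r hr
      refine gl_ext_mulVec fun x => ?_
      change OrthSpinor.act Q (OrthSpinor.reflection hr) x = _
      rw [← OrthCrit.toOrth_apply, OrthCrit.toOrth_reflection, Classical.Quad.refl_apply,
        Om.rf_mulVec, neg_smul, ← sub_eq_add_neg]
    refine ⟨OrthSpinor.reflection ha * OrthSpinor.reflection hb, ?_, ?_⟩
    · refine (OrthCrit.mem_Omega_iff_char_two hnd hreg ⟨a, ha⟩ _).2 ?_
      rw [OrthCrit.parity_mul hnd hreg, OrthCrit.parity_reflection hnd ha,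
        OrthCrit.parity_reflection hnd hb]
      decide
    · change ((OrthSpinor.reflection ha * OrthSpinor.reflection hb :
        ↥(Cfsg.isometryGroup F ⇑Q)) : GL ι F) = _
      rw [Subgroup.coe_mul, key ha, key hb]
  · refine Om.rf_mul_rf_mem hQ' ha hb h ?_
    rw [Om.Q_sub hQ', h, hab, sub_zero, ← two_mul]
    exact mul_ne_zero h2 hb

/-- A singular vector of `A` orthogonal to three given vectors. -/
lemma IsSplit.exists_orth_three (S : IsSplit Q A B) (hA : 7 ≤ Module.finrank F A) (p q r : ι → F) :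
    ∃ v ∈ A, v ≠ 0 ∧ Q v = 0 ∧ polar Q v p = 0 ∧ polar Q v q = 0 ∧ polar Q v r = 0 := by
  let K := fun x => LinearMap.ker ((polarBilin Q).flip x)
  have h : ∀ (T : Submodule F (ι → F)) (x : ι → F),
      Module.finrank F T ≤ Module.finrank F ↥(T ⊓ K x) + 1 :=
    fun T x => OrthCrit.finrank_le_inf_ker_add_one T _
  have h1 := h A p
  have h2 := h (A ⊓ K p) q
  have h3 := h (A ⊓ K p ⊓ K q) r
  obtain ⟨v, hv, hv0, hQv⟩ := exists_singular_in (Q := Q)
    (S := A ⊓ K p ⊓ K q ⊓ K r) (by omega)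
  exact ⟨v, hv.1.1.1, hv0, hQv, LinearMap.mem_ker.1 hv.1.1.2, LinearMap.mem_ker.1 hv.1.2,
    LinearMap.mem_ker.1 hv.2⟩

variable (P : Frame Q)

include P

/-- The elements of `Ω` fixing `B` pointwise move any singular point of `A` to any other. -/
lemma IsSplit.exists_move (S : IsSplit Q A B) (hA : 7 ≤ Module.finrank F A) {u u' : ι → F}
    (hu : u ∈ A) (hu' : u' ∈ A) (hu0 : u ≠ 0) (hu'0 : u' ≠ 0) (hQu : Q u = 0) (hQu' : Q u' = 0) :
    ∃ h : GL ι F, h ∈ omegaGL ⇑Q ∧ (∀ x ∈ A, (h : Matrix ι ι F) *ᵥ x ∈ A) ∧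
      (∀ b ∈ B, (h : Matrix ι ι F) *ᵥ b = b) ∧ (h : Matrix ι ι F) *ᵥ u = u' := by
  have step : ∀ u u' s : ι → F, u ∈ A → u' ∈ A → s ∈ A → Q u = 0 → Q u' = 0 →
      polar Q u u' = 0 → polar Q u s ≠ 0 → polar Q u' s = 0 → u' ≠ 0 →
      ∃ h : GL ι F, h ∈ omegaGL ⇑Q ∧ (∀ x ∈ A, (h : Matrix ι ι F) *ᵥ x ∈ A) ∧
        (∀ b ∈ B, (h : Matrix ι ι F) *ᵥ b = b) ∧ (h : Matrix ι ι F) *ᵥ u = u' := by
    intro u u' s hu hu' hs hQu hQu' huu hus hu's hu'0
    obtain ⟨t, ht, htu⟩ := S.exists_ne hu' hu'0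
    -- a vector with product one with both
    set s₁ := (polar Q u s)⁻¹ • s with hs₁
    set t₁ := (polar Q u' t)⁻¹ • t with ht₁
    set x := t₁ + (1 - polar Q u t₁) • s₁ with hx
    have hxA : x ∈ A := A.add_mem (A.smul_mem _ ht) (A.smul_mem _ (A.smul_mem _ hs))
    have e1 : polar Q u s₁ = 1 := by rw [hs₁, polar_smul_right, smul_eq_mul, inv_mul_cancel₀ hus]
    have e2 : polar Q u' t₁ = 1 := by rw [ht₁, polar_smul_right, smul_eq_mul, inv_mul_cancel₀ htu]
    have e3 : polar Q u' s₁ = 0 := by rw [hs₁, polar_smul_right, hu's, smul_zero]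
    clear_value s₁ t₁
    have hux : polar Q u x = 1 := by
      rw [hx, polar_add_right, polar_smul_right, e1, smul_eq_mul]; ring
    have hu'x : polar Q u' x = 1 := by
      rw [hx, polar_add_right, polar_smul_right, e3, e2, smul_zero, add_zero]
    set z := x + (-(Q x)) • u with hz
    have hzz : Q z = 0 := by rw [hz, Classical.Quad.Q_comb1, hQu, polar_comm Q x u, hux]; ring
    have hzu : polar Q u z = 1 := by
      rw [hz, polar_add_right, polar_smul_right, Classical.Quad.polar_singular_self hQu, hux]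
      simp
    have hzu' : polar Q u' z = 1 := by
      rw [hz, polar_add_right, polar_smul_right, polar_comm Q u' u, huu, hu'x]
      simp
    have hzA : z ∈ A := A.add_mem hxA (A.smul_mem _ hu)
    have hd : polar Q z (u' - u) = 0 := by
      rw [polar_sub_right, polar_comm Q z u', polar_comm Q z u, hzu, hzu', sub_self]
    obtain ⟨h, hh, hhx⟩ := exists_sg S.nd P hzz hd
    refine ⟨h, hh, fun y hy => ?_, fun b hb => ?_, ?_⟩
    · rw [hhx y]
      exact A.add_mem (A.add_mem hy (A.smul_mem _ (A.sub_mem hu' hu))) (A.smul_mem _ hzA)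
    · rw [hhx b, polar_comm Q b z, S.orth z hzA b hb, polar_comm Q b (u' - u),
        S.orth (u' - u) (A.sub_mem hu' hu) b hb]
      simp
    · have hQd : Q (u' - u) = 0 := by
        rw [sub_eq_add_neg, QuadraticMap.map_add Q, QuadraticMap.map_neg, hQu, hQu', polar_neg_right,
          polar_comm Q u' u, huu]
        simp
      rw [hhx u, hzu, hQd, polar_sub_right, huu, Classical.Quad.polar_singular_self hQu]
      module
  obtain ⟨s, hs, hus, hu's⟩ := S.exists_both hu hu' hu0 hu'0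
  obtain ⟨v, hv, hv0, hQv, hvu, hvu', hvs⟩ := S.exists_orth_three hA u u' s
  obtain ⟨h₁, o₁, a₁, b₁, e₁⟩ := step u v s hu hv hs hQu hQv (by rw [polar_comm]; exact hvu) hus hvs hv0
  obtain ⟨h₂, o₂, a₂, b₂, e₂⟩ := step u' v s hu' hv hs hQu' hQv (by rw [polar_comm]; exact hvu') hu's hvs hv0
  have hA2 : ∀ x ∈ A, ((h₂⁻¹ : GL ι F) : Matrix ι ι F) *ᵥ x ∈ A := fun x hx => by
    obtain ⟨x', hx', rfl⟩ := CfsgLib.ClassicalMax.exists_preimage_mem a₂ hx
    rwa [gl_inv_mulVec_mulVec]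
  refine ⟨h₂⁻¹ * h₁, mul_mem (inv_mem o₂) o₁, fun x hx => ?_, fun b hb => ?_, ?_⟩
  · rw [gl_mulVec_mul]; exact hA2 _ (a₁ x hx)
  · rw [gl_mulVec_mul, b₁ b hb]
    conv_lhs => rw [← b₂ b hb]
    rw [gl_inv_mulVec_mulVec]
  · rw [gl_mulVec_mul, e₁, ← e₂, gl_inv_mulVec_mulVec]

omit P in
/-- An invariant subspace of the smaller part is trivial or of hyperbolic-plane shape over at most
three elements. -/
lemma IsSplit.invariant_cases (S : IsSplit Q A B) {B₀ : Submodule F (ι → F)} (hle : B₀ ≤ B)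
    (h0 : B₀ ≠ ⊥) (hne : B₀ ≠ B)
    (hinv : ∀ b ∈ B, Q b ≠ 0 → ∀ x ∈ B₀, x - (polar Q x b / Q b) • b ∈ B₀)
    (hsg : ∀ u ∈ B, ∀ w ∈ B, Q u = 0 → polar Q u w = 0 → ∀ x ∈ B₀,
      x + polar Q x u • w + (-(polar Q x w) - Q w * polar Q x u) • u ∈ B₀) :
    Fintype.card F ≤ 3 ∧ Module.finrank F B = 2 ∧ IsPlusTypeOn ⇑Q B := by
  classical
  by_cases h2 : (2 : F) = 0
  swap
  · have hodd : Odd (Fintype.card F) := Nat.odd_iff.2 (FiniteField.odd_card_of_char_ne_two fun h =>
      h2 (by haveI := ringChar.of_eq h; exact CharTwo.two_eq_zero))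
    obtain ⟨h3, hd, hp⟩ := (OmS.IsSplit.invariant_cases
      (⟨S.nd, h2, S.orth, S.split⟩ : OmS.IsSplit Q A B) hle h0 hne hodd hinv)
    exact ⟨h3.le, hd, hp⟩
  haveI := OrthCrit.charP_two_of h2
  have hxx : ∀ y : ι → F, polar Q y y = 0 := fun y => by
    rw [Classical.Quad.polar_self', h2, zero_mul]
  have hcov : ∀ b ∈ B, Q b ≠ 0 → b ∈ B₀ ∨ ∀ x ∈ B₀, polar Q b x = 0 := by
    intro b hb hQb
    by_contra hc
    push Not at hc
    obtain ⟨hb₀, x, hx, hne'⟩ := hc
    have h := B₀.sub_mem hx (hinv b hb hQb x hx)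
    rw [sub_sub_cancel] at h
    exact hb₀ ((B₀.smul_mem_iff (div_ne_zero (by rwa [polar_comm]) hQb)).1 h)
  by_cases hR : ∀ r ∈ B₀, (∀ x ∈ B₀, polar Q r x = 0) → r = 0
  swap
  · push Not at hR
    obtain ⟨r, hr, hrr, hr0⟩ := hR
    have hsing : ∀ z ∈ B, polar Q r z ≠ 0 → Q z = 0 := by
      intro z hz hrz
      by_contra hQz
      rcases hcov z hz hQz with h | h
      · exact hrz (hrr z h)
      · exact hrz (by rw [polar_comm]; exact h r hr)
    obtain ⟨x₀, hx₀, hrx₀⟩ := S.symm.exists_ne (hle hr) hr0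
    set x := (polar Q r x₀)⁻¹ • x₀ with hxdef
    have hxB : x ∈ B := B.smul_mem _ hx₀
    have hrx : polar Q r x = 1 := by
      rw [hxdef, polar_smul_right, smul_eq_mul, inv_mul_cancel₀ hrx₀]
    clear_value x
    have hQx : Q x = 0 := hsing x hxB (by rw [hrx]; exact one_ne_zero)
    have hline : ∀ t : F, t * t * Q r + t = 0 := fun t => by
      have h := hsing (x + t • r) (B.add_mem hxB (B.smul_mem t (hle hr)))
        (by rw [polar_add_right, polar_smul_right, hrx, hxx, smul_zero, add_zero]; exact one_ne_zero)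
      rw [Classical.Quad.Q_comb1, hQx, polar_comm Q x r, hrx] at h
      linear_combination h
    have hQr : Q r = 1 := by linear_combination hline 1 - h2
    have hq : Fintype.card F = 2 := by
      have hall : ∀ s : F, s ∈ ({0, 1} : Finset F) := fun s => by
        have h : s * (s + 1) = 0 := by linear_combination hline s - s * s * hQr
        rcases mul_eq_zero.1 h with h | h
        · simp [h]
        · simp [CharTwo.add_eq_zero.1 h]
      have h1 := Finset.card_le_card (s := Finset.univ) (t := ({0, 1} : Finset F)) fun s _ => hall s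
      have h3 : ({0, 1} : Finset F).card ≤ 2 := Finset.card_le_two
      have h4 := Fintype.one_lt_card (α := F)
      rw [Finset.card_univ] at h1
      omega
    have hperp : ∀ y ∈ B, polar Q r y = 0 → polar Q x y = 0 → y = 0 := by
      have hs : ∀ y ∈ B, polar Q r y = 0 → polar Q x y = 0 → Q y = 0 := fun y hy hry hxy => by
        have h := hsing (x + y) (B.add_mem hxB hy)
          (by rw [polar_add_right, hrx, hry, add_zero]; exact one_ne_zero)
        rwa [QuadraticMap.map_add Q, hQx, hxy, add_zero, zero_add] at h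
      intro y hy hry hxy
      by_contra hy0
      obtain ⟨z, hz, hyz⟩ := S.symm.exists_ne hy hy0
      set z' := z + polar Q z r • x + polar Q z x • r with hz'
      have hz'B : z' ∈ B := B.add_mem (B.add_mem hz (B.smul_mem _ hxB)) (B.smul_mem _ (hle hr))
      have a1 : polar Q r z' = 0 := by
        rw [hz', polar_add_right, polar_add_right, polar_smul_right, polar_smul_right, hrx, hxx,
          polar_comm Q z r, smul_zero, add_zero, smul_eq_mul, mul_one, CharTwo.add_self_eq_zero]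
      have a2 : polar Q x z' = 0 := by
        rw [hz', polar_add_right, polar_add_right, polar_smul_right, polar_smul_right, hxx,
          polar_comm Q x r, hrx, polar_comm Q z x, smul_zero, add_zero, smul_eq_mul, mul_one,
          CharTwo.add_self_eq_zero]
      have hyz' : polar Q y z' = polar Q y z := by
        rw [hz', polar_add_right, polar_add_right, polar_smul_right, polar_smul_right,
          polar_comm Q y x, hxy, polar_comm Q y r, hry, smul_zero, add_zero, smul_zero, add_zero]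
      refine hyz ?_
      rw [← hyz', polar, hs y hy hry hxy, hs z' hz'B a1 a2,
        hs (y + z') (B.add_mem hy hz'B) (by rw [polar_add_right, hry, a1, add_zero])
          (by rw [polar_add_right, hxy, a2, add_zero]), sub_zero, sub_zero]
    have hli : LinearIndependent F ![x, r] := (LinearIndependent.pair_iff'
      fun h : x = 0 => one_ne_zero (α := F) (by rw [← hrx, h, polar_zero_right])).2 fun t ht =>
        one_ne_zero (α := F) (by
          rw [← hrx, ← ht, polar_smul_left, hxx, smul_zero])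
    have hspan : Submodule.span F (Set.range ![x, r]) = B := by
      refine le_antisymm (Submodule.span_le.2 (Set.range_subset_iff.2 fun i => by
        fin_cases i <;> simp [hle hr, hxB])) fun y hy => ?_
      have h0' := hperp (y + polar Q y r • x + polar Q y x • r)
        (B.add_mem (B.add_mem hy (B.smul_mem _ hxB)) (B.smul_mem _ (hle hr)))
        (by rw [polar_add_right, polar_add_right, polar_smul_right, polar_smul_right, hrx, hxx,
          polar_comm Q y r, smul_zero, add_zero, smul_eq_mul, mul_one, CharTwo.add_self_eq_zero])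
        (by rw [polar_add_right, polar_add_right, polar_smul_right, polar_smul_right, hxx,
          polar_comm Q x r, hrx, polar_comm Q y x, smul_zero, add_zero, smul_eq_mul, mul_one,
          CharTwo.add_self_eq_zero])
      rw [Matrix.range_cons_cons_empty]
      exact Submodule.mem_span_pair.2 ⟨-polar Q y r, -polar Q y x, by
        rw [← sub_eq_zero, ← neg_eq_zero]
        rw [show -(-polar Q y r • x + -polar Q y x • r - y)
          = y + polar Q y r • x + polar Q y x • r by module]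
        exact h0'⟩
    have hdim : Module.finrank F B = 2 := by
      rw [← hspan, finrank_span_eq_card hli, Fintype.card_fin]
    refine ⟨by omega, hdim, Submodule.span F {x}, (Submodule.span_singleton_le_iff_mem _ _).2 hxB,
      fun v hv => ?_, ?_⟩
    · obtain ⟨t, rfl⟩ := Submodule.mem_span_singleton.1 hv
      rw [QuadraticMap.map_smul, hQx, smul_zero]
    · rw [finrank_span_singleton (fun h : x = 0 => one_ne_zero (α := F)
        (by rw [← hrx, h, polar_zero_right])), hdim]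
  exfalso
  have hB₀ : IsNondegenerateOn (polar Q) B₀ := by
    intro w hw hw0
    have h : ∃ x ∈ B₀, polar Q w x ≠ 0 := by
      by_contra hc; push Not at hc; exact hw0 (hR w hw hc)
    exact ⟨h.imp fun x hx => ⟨hx.1, by rw [polar_comm]; exact hx.2⟩, h⟩
  have hproj : ∀ x ∈ B, ∃ b ∈ B₀, x - b ∈ B ∧ ∀ y ∈ B₀, polar Q (x - b) y = 0 := fun x hx => by
    obtain ⟨b, hb, h⟩ := Om.exists_proj (isNondegenerateQuadraticForm S.nd) hB₀ x
    exact ⟨b, hb, B.sub_mem hx (hle hb), h⟩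
  obtain ⟨x, hx, hxn⟩ : ∃ x ∈ B, x ∉ B₀ := by
    by_contra hc; push Not at hc; exact hne (le_antisymm hle hc)
  obtain ⟨b', hb', hc, hcb⟩ := hproj x hx
  set c := x - b' with hcdef
  have hc0 : c ≠ 0 := fun h => hxn (by rw [sub_eq_zero.1 h]; exact hb')
  obtain ⟨b, hb, hb0⟩ := Submodule.exists_mem_ne_zero_of_ne_bot h0
  have mixed : ∀ b ∈ B₀, ∀ c ∈ B, (∀ y ∈ B₀, polar Q c y = 0) → b ≠ 0 → c ≠ 0 → Q b + Q c = 0 := by
    intro b hb c hc hcb hb0 hc0
    by_contra h
    have hQ : Q (b + c) = Q b + Q c := by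
      rw [QuadraticMap.map_add Q, polar_comm Q b c, hcb b hb, add_zero]
    rcases hcov (b + c) (B.add_mem (hle hb) hc) (by rwa [hQ]) with h' | h'
    · have hc' : c ∈ B₀ := by simpa using B₀.sub_mem h' hb
      exact hc0 (hR c hc' hcb)
    · refine hb0 (hR b hb fun y hy => ?_)
      have := h' y hy
      rwa [polar_add_left, hcb y hy, add_zero] at this
  obtain ⟨y, hy, hby⟩ : ∃ y ∈ B₀, polar Q b y ≠ 0 := by
    by_contra hcon; push Not at hcon; exact hb0 (hR b hb hcon)
  have hy0 : y ≠ 0 := fun h => hby (by rw [h, polar_zero_right])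
  have hne' : ∀ t : F, b + t • y ≠ 0 := fun t h => hby (by
    rw [eq_neg_of_add_eq_zero_left h, polar_neg_left, polar_smul_left, hxx]; simp)
  have eb := mixed b hb c hc hcb hb0 hc0
  have ey := mixed y hy c hc hcb hy0 hc0
  have ht : ∀ t : F, t * (t * Q y + polar Q b y) = 0 := fun t => by
    have h := mixed _ (B₀.add_mem hb (B₀.smul_mem t hy)) c hc hcb (hne' t) hc0
    rw [Classical.Quad.Q_comb1] at h
    linear_combination h - eb
  have hby1 : polar Q b y = Q y := by linear_combination ht 1 - Q y * h2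
  have hQy : Q y ≠ 0 := fun h => hby (by rw [hby1, h])
  -- move the partner of `c`
  obtain ⟨z₀, hz₀, hcz⟩ := S.symm.exists_ne hc hc0
  obtain ⟨b'', hb'', hc'B, hc'b⟩ := hproj ((Q y / polar Q c z₀) • z₀) (B.smul_mem _ hz₀)
  set c' := (Q y / polar Q c z₀) • z₀ - b'' with hc'def
  have hcc' : polar Q c c' = Q y := by
    rw [hc'def, polar_sub_right, polar_smul_right, hcb b'' hb'', sub_zero, smul_eq_mul,
      div_mul_cancel₀ _ hcz]
  have hQu : Q (b + c) = 0 := by
    rw [QuadraticMap.map_add Q, polar_comm Q b c, hcb b hb, add_zero, eb]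
  have huw : polar Q (b + c) (y + c') = 0 := by
    rw [polar_add_left, polar_add_right, polar_add_right, hcb y hy, polar_comm Q b c', hc'b b hb,
      hby1, hcc', add_zero, zero_add, CharTwo.add_self_eq_zero]
  have h := hsg (b + c) (B.add_mem (hle hb) hc) (y + c') (B.add_mem (hle hy) hc'B) hQu huw b hb
  rw [polar_add_right, hxx, polar_comm Q b c, hcb b hb, add_zero, zero_smul, add_zero,
    polar_add_right, polar_comm Q b c', hc'b b hb, add_zero, mul_zero, sub_zero,
    Submodule.add_mem_iff_right _ hb, B₀.smul_mem_iff (neg_ne_zero.2 hby),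
    Submodule.add_mem_iff_right _ hb] at h
  exact hc0 (hR c h hcb)

/-- A subgroup of `Ω` containing the stabiliser of a splitting and an element not preserving it
is everything. -/
theorem IsSplit.omega_le (S : IsSplit Q A B) (h7 : 7 ≤ Fintype.card ι) (hA : 7 ≤ Module.finrank F A)
    (hswap : ∀ g ∈ omegaGL ⇑Q, ¬ ∀ x ∈ A, (g : Matrix ι ι F) *ᵥ x ∈ B)
    (hex : ¬ (Fintype.card F ≤ 3 ∧ Module.finrank F B = 2 ∧ IsPlusTypeOn ⇑Q B))
    (hMK : M ≤ omegaGL ⇑Q)
    (hH : ∀ h ∈ omegaGL ⇑Q, (∀ x ∈ A, (h : Matrix ι ι F) *ᵥ x ∈ A) → h ∈ M)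
    {g : GL ι F} (hgM : g ∈ M) (hg : ¬ ∀ x ∈ A, (g : Matrix ι ι F) *ᵥ x ∈ A) :
    omegaGL ⇑Q ≤ M := by
  classical
  have hgo := hMK hgM
  have hTA : ∀ u w : ι → F, u ∈ A → w ∈ A → Q u = 0 → polar Q u w = 0 →
      ∃ h ∈ M, IsSg Q h u w := by
    intro u w hu hw hQu huw
    obtain ⟨h, hh, hhx⟩ := exists_sg S.nd P hQu huw
    refine ⟨h, hH h hh fun x hx => ?_, hhx⟩
    rw [hhx x]
    exact A.add_mem (A.add_mem hx (A.smul_mem _ hw)) (A.smul_mem _ hu)
  -- a hyperbolic pair in `A`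
  obtain ⟨u₀, hu₀, hu₀0, hQu₀, -, -, -⟩ := S.exists_orth_three hA 0 0 0
  obtain ⟨x₀, hx₀, hux₀⟩ := S.exists_ne hu₀ hu₀0
  set y₀ := (polar Q u₀ x₀)⁻¹ • x₀ with hy₀
  have hy₀A : y₀ ∈ A := A.smul_mem _ hx₀
  have huy : polar Q u₀ y₀ = 1 := by
    rw [hy₀, polar_smul_right, smul_eq_mul, inv_mul_cancel₀ hux₀]
  clear_value y₀
  have hval : ∀ s : F, ∃ a ∈ A, Q a = s := fun s => ⟨y₀ + (s - Q y₀) • u₀,
    A.add_mem hy₀A (A.smul_mem _ hu₀), by
      rw [Classical.Quad.Q_comb1, hQu₀, polar_comm Q y₀ u₀, huy]; ring⟩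
  set v₀ := y₀ + (-(Q y₀)) • u₀ with hv₀
  have hv₀A : v₀ ∈ A := A.add_mem hy₀A (A.smul_mem _ hu₀)
  have hQv₀ : Q v₀ = 0 := by rw [hv₀, Classical.Quad.Q_comb1, hQu₀, polar_comm Q y₀ u₀, huy]; ring
  have huv₀ : polar Q u₀ v₀ = 1 := by
    rw [hv₀, polar_add_right, polar_smul_right, Classical.Quad.polar_singular_self hQu₀, huy]; simp
  have hv₀0 : v₀ ≠ 0 := fun h => one_ne_zero (α := F) (by rw [← huv₀, h, polar_zero_right])
  -- some root element with a component outside `A`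
  obtain ⟨u, w, hu, hu0, hQu, hw, hw0, huw⟩ : ∃ u w, u ∈ A ∧ u ≠ 0 ∧ Q u = 0 ∧ w ∈ B ∧ w ≠ 0 ∧
      ∃ h ∈ M, IsSg Q h u w := by
    obtain ⟨u, hu, hu0, hQu, p₁, hp₁, p₂, hp₂, hp, hp₁0, hp₂0⟩ : ∃ u ∈ A, u ≠ 0 ∧ Q u = 0 ∧
        ∃ p₁ ∈ A, ∃ p₂ ∈ B, p₁ + p₂ = (g : Matrix ι ι F) *ᵥ u ∧ p₁ ≠ 0 ∧ p₂ ≠ 0 := by
      by_contra hcon
      push Not at hcon
      have hcase : ∀ u ∈ A, Q u = 0 →
          (g : Matrix ι ι F) *ᵥ u ∈ A ∨ (g : Matrix ι ι F) *ᵥ u ∈ B := by
        intro u hu hQu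
        rcases eq_or_ne u 0 with rfl | hu0
        · rw [mulVec_zero]; exact Or.inl A.zero_mem
        obtain ⟨a, ha, b, hb, hab⟩ := S.split ((g : Matrix ι ι F) *ᵥ u)
        rcases eq_or_ne a 0 with rfl | ha0
        · rw [zero_add] at hab; exact Or.inr (hab ▸ hb)
        · have := hcon u hu hu0 hQu a ha b hb hab ha0
          rw [this, add_zero] at hab
          exact Or.inl (hab ▸ ha)
      have hsplit : ∀ u u' : ι → F, u ∈ A → u' ∈ A → Q u = 0 → Q u' = 0 → polar Q u u' ≠ 0 →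
          (g : Matrix ι ι F) *ᵥ u ∈ A → (g : Matrix ι ι F) *ᵥ u' ∈ A := by
        intro u u' hu hu' hQu hQu' hne h
        refine (hcase u' hu' hQu').resolve_right fun h' => hne ?_
        rw [← omega_polar hgo]
        exact S.orth _ h _ h'
      have hsplit0 : ∀ u u' : ι → F, u ∈ A → u' ∈ A → u ≠ 0 → u' ≠ 0 → Q u = 0 → Q u' = 0 →
          (g : Matrix ι ι F) *ᵥ u ∈ A → (g : Matrix ι ι F) *ᵥ u' ∈ A := by
        intro u u' hu hu' hu0 hu'0 hQu hQu' h
        by_cases hne : polar Q u u' = 0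
        · obtain ⟨x, hx, hux, hu'x⟩ := S.exists_both hu hu' hu0 hu'0
          set x₁ := (polar Q u x)⁻¹ • x with hx₁
          have e1 : polar Q u x₁ = 1 := by rw [hx₁, polar_smul_right, smul_eq_mul, inv_mul_cancel₀ hux]
          have hx₁A : x₁ ∈ A := A.smul_mem _ hx
          clear_value x₁
          set y := x₁ + (-(Q x₁)) • u with hy
          have hyA : y ∈ A := A.add_mem hx₁A (A.smul_mem _ hu)
          have hQy : Q y = 0 := by rw [hy, Classical.Quad.Q_comb1, hQu, polar_comm Q x₁ u, e1]; ring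
          have huy' : polar Q u y ≠ 0 := by
            rw [hy, polar_add_right, polar_smul_right, Classical.Quad.polar_singular_self hQu, e1]
            simp
          have hu'y : polar Q y u' ≠ 0 := by
            rw [polar_comm, hy, polar_add_right, polar_smul_right, polar_comm Q u' u, hne, smul_zero,
              add_zero, hx₁, polar_smul_right, smul_eq_mul]
            exact mul_ne_zero (inv_ne_zero hux) hu'x
          exact hsplit y u' hyA hu' hQy hQu' hu'y (hsplit u y hu hyA hQu hQy huy' h)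
        · exact hsplit u u' hu hu' hQu hQu' hne h
      -- `A` is spanned by its singular vectors
      have hspan : ∀ C : Submodule F (ι → F), (∀ u ∈ A, Q u = 0 → (g : Matrix ι ι F) *ᵥ u ∈ C) →
          ∀ x ∈ A, (g : Matrix ι ι F) *ᵥ x ∈ C := by
        intro C hC x hx
        have hsing : ∀ x ∈ A, polar Q u₀ x = 1 → (g : Matrix ι ι F) *ᵥ x ∈ C := fun x hx h1 => by
          have h := C.add_mem (hC (x + (-(Q x)) • u₀) (A.add_mem hx (A.smul_mem _ hu₀))
            (by rw [Classical.Quad.Q_comb1, hQu₀, polar_comm Q x u₀, h1]; ring))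
            (C.smul_mem (Q x) (hC u₀ hu₀ hQu₀))
          rwa [← mulVec_smul, ← mulVec_add,
            show x + -Q x • u₀ + Q x • u₀ = x by module] at h
        have h1 := hsing (x + (1 - polar Q u₀ x) • v₀) (A.add_mem hx (A.smul_mem _ hv₀A))
          (by rw [polar_add_right, polar_smul_right, huv₀, smul_eq_mul]; ring)
        have h2 := C.smul_mem (1 - polar Q u₀ x) (hC v₀ hv₀A hQv₀)
        have := C.sub_mem h1 h2
        rwa [mulVec_add, mulVec_smul, add_sub_cancel_right] at this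
      rcases hcase u₀ hu₀ hQu₀ with h | h
      · refine hg (hspan A fun u hu hQu => ?_)
        rcases eq_or_ne u 0 with rfl | hu0
        · rw [mulVec_zero]; exact A.zero_mem
        exact hsplit0 u₀ u hu₀ hu hu₀0 hu0 hQu₀ hQu h
      · have hall : ∀ x ∈ A, (g : Matrix ι ι F) *ᵥ x ∈ B := hspan B fun u hu hQu => by
          rcases eq_or_ne u 0 with rfl | hu0
          · rw [mulVec_zero]; exact B.zero_mem
          refine (hcase u hu hQu).resolve_left fun hA' => ?_
          exact gl_mulVec_ne_zero g hu₀0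
            (S.eq_zero (hsplit0 u u₀ hu hu₀ hu0 hu₀0 hQu hQu₀ hA') h)
        exact hswap g hgo hall
    -- a partner of `u`
    obtain ⟨s, hs, hus⟩ := S.exists_ne hu hu0
    obtain ⟨w, hw, hw0, hQw, hwu, hws, -⟩ := S.exists_orth_three hA u s 0
    have hwu0 : ∀ l : F, w - l • u ≠ 0 := fun l h => by
      have h' := sub_eq_zero.1 h
      rw [h', polar_smul_left, smul_eq_mul] at hws
      rw [(mul_eq_zero.1 hws).resolve_right hus, zero_smul] at h'
      exact hw0 h'
    obtain ⟨q₁, hq₁, q₂, hq₂, hq⟩ := S.split ((g : Matrix ι ι F) *ᵥ w)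
    obtain ⟨v', q₁', q₂', hv', hQv', huv', hq₁', hq₂', hq', hgood⟩ :
        ∃ v' q₁' q₂', v' ∈ A ∧ Q v' = 0 ∧ polar Q u v' = 0 ∧ q₁' ∈ A ∧ q₂' ∈ B ∧
          q₁' + q₂' = (g : Matrix ι ι F) *ᵥ v' ∧
          ((q₂' = 0 ∧ q₁' ≠ 0) ∨ ∀ l : F, q₂' ≠ l • p₂) := by
      by_cases hl : ∃ l : F, q₂ = l • p₂
      · obtain ⟨l, hl⟩ := hl
        refine ⟨w - l • u, q₁ - l • p₁, 0, A.sub_mem hw (A.smul_mem _ hu), ?_, ?_,
          A.sub_mem hq₁ (A.smul_mem _ hp₁), B.zero_mem, ?_, Or.inl ⟨rfl, ?_⟩⟩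
        · rw [sub_eq_add_neg, ← neg_smul, Classical.Quad.Q_comb1, hQw, hQu, hwu]; ring
        · rw [polar_sub_right, polar_smul_right, polar_comm Q u w, hwu,
            Classical.Quad.polar_singular_self hQu, smul_zero, sub_zero]
        · rw [mulVec_sub, mulVec_smul, ← hp, ← hq, hl]; module
        · intro h
          refine gl_mulVec_ne_zero g (hwu0 l) ?_
          rw [mulVec_sub, mulVec_smul, ← hp, ← hq, hl]
          rw [sub_eq_zero.1 h]; module
      · push Not at hl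
        exact ⟨w, q₁, q₂, hw, hQw, by rw [polar_comm]; exact hwu, hq₁, hq₂, hq, Or.inr hl⟩
    obtain ⟨τ, hτ, hτx⟩ := hTA u v' hu hv' hQu huv'
    have hτ' : g * τ * g⁻¹ ∈ M := M.mul_mem (M.mul_mem hgM hτ) (M.inv_mem hgM)
    have hτx' := IsSg.conj hgo hτx
    rw [← hp, ← hq'] at hτx'
    set pp := p₁ + p₂ with hpp
    set qq := q₁' + q₂' with hqq
    have hQqq : Q qq = 0 := by rw [hq', omega_iso hgo, hQv']
    set r := if q₂' = 0 then q₁' else p₁ with hr
    have hrA : r ∈ A := by rw [hr]; split_ifs <;> assumption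
    have hr0 : r ≠ 0 := by
      rw [hr]; split_ifs with h
      · rcases hgood with h' | h'
        · exact h'.2
        · exact absurd (by rw [h, zero_smul]) (h' 0)
      · exact hp₁0
    obtain ⟨s', hs', hrs'⟩ := S.exists_ne hrA hr0
    obtain ⟨v, hv, hv0, hQv, hvp, hvq, hvs⟩ := S.exists_orth_three hA p₁ q₁' s'
    obtain ⟨a, ha, hva, hra⟩ : ∃ a ∈ A, polar Q v a = 0 ∧ polar Q r a ≠ 0 := ⟨s', hs', hvs, hrs'⟩
    obtain ⟨η, hη, hηx⟩ := hTA v a hv ha hQv hva
    have hconj := IsSg.conj (hMK hτ') hηx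
    have hvB : ∀ b ∈ B, polar Q v b = 0 := S.orth v hv
    rw [hτx' v, show polar Q v pp = 0 by rw [hpp, polar_add_right, hvp, hvB p₂ hp₂, add_zero],
      show polar Q v qq = 0 by rw [hqq, polar_add_right, hvq, hvB q₂' hq₂', add_zero], zero_smul,
      add_zero, mul_zero, sub_zero, neg_zero, zero_smul, add_zero, hτx' a, hQqq, zero_mul, sub_zero]
      at hconj
    have hmem : (g * τ * g⁻¹) * η * (g * τ * g⁻¹)⁻¹ ∈ M :=
      M.mul_mem (M.mul_mem hτ' hη) (M.inv_mem hτ')
    set a' := a + polar Q a pp • q₁' + (-polar Q a qq) • p₁ with ha'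
    have ha'A : a' ∈ A := A.add_mem (A.add_mem ha (A.smul_mem _ hq₁')) (A.smul_mem _ hp₁)
    set b := polar Q a pp • q₂' + (-polar Q a qq) • p₂ with hbdef
    have hbB : b ∈ B := B.add_mem (B.smul_mem _ hq₂') (B.smul_mem _ hp₂)
    have hab : a + polar Q a pp • qq + (-polar Q a qq) • pp = a' + b := by
      rw [ha', hbdef, hpp, hqq]; module
    rw [hab] at hconj
    have hva' : polar Q v a' = 0 := by
      rw [ha', polar_add_right, polar_add_right, polar_smul_right, polar_smul_right, hva, hvq, hvp]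
      simp
    obtain ⟨θ, hθ, hθx⟩ := hTA v (-a') hv (A.neg_mem ha'A) hQv (by rw [polar_neg_right, hva', neg_zero])
    have hprod := IsSg.mul hQv (by rw [polar_neg_right, hva', neg_zero])
      (by rw [polar_add_right, hva', hvB b hbB, add_zero]) hθx hconj
    rw [neg_add_cancel_left] at hprod
    refine ⟨v, b, hv, hv0, hQv, hbB, fun hb => ?_, _, M.mul_mem hθ hmem, hprod⟩
    have hap : ∀ x ∈ B, polar Q a x = 0 := S.orth a ha
    have e1 : polar Q a pp = polar Q a p₁ := by rw [hpp, polar_add_right, hap p₂ hp₂, add_zero]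
    have e2 : polar Q a qq = polar Q a q₁' := by rw [hqq, polar_add_right, hap q₂' hq₂', add_zero]
    rw [hbdef, e1, e2] at hb
    by_cases h : q₂' = 0
    · rw [hr, if_pos h] at hra
      rw [h, smul_zero, zero_add, neg_smul, neg_eq_zero, smul_eq_zero, polar_comm] at hb
      exact hb.elim hra hp₂0
    · rw [hr, if_neg h] at hra
      rcases hgood with h' | h'
      · exact h h'.1
      refine h' (polar Q a q₁' / polar Q a p₁) ?_
      rw [polar_comm] at hra
      rw [div_eq_inv_mul, mul_smul, eq_inv_smul_iff₀ hra]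
      rw [neg_smul, ← sub_eq_add_neg, sub_eq_zero] at hb
      exact hb
  -- the same elements for every singular point of `A`
  let B₀ : Submodule F (ι → F) :=
    { carrier := {b | b ∈ B ∧ ∀ u ∈ A, u ≠ 0 → Q u = 0 → ∃ h ∈ M, IsSg Q h u b}
      zero_mem' := ⟨B.zero_mem, fun u _ _ _ => ⟨1, M.one_mem, fun x => by simp⟩⟩
      add_mem' := fun {b b'} hb hb' => ⟨B.add_mem hb.1 hb'.1, fun u hu hu0 hQu => by
        obtain ⟨h, hh, hhx⟩ := hb.2 u hu hu0 hQu
        obtain ⟨h', hh', hhx'⟩ := hb'.2 u hu hu0 hQu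
        exact ⟨h * h', M.mul_mem hh hh', IsSg.mul hQu (S.orth u hu b hb.1) (S.orth u hu b' hb'.1) hhx hhx'⟩⟩
      smul_mem' := fun t b hb => ⟨B.smul_mem t hb.1, fun u hu hu0 hQu => by
        rcases eq_or_ne t 0 with rfl | ht
        · exact ⟨1, M.one_mem, fun x => by simp⟩
        obtain ⟨h, hh, hhx⟩ := hb.2 (t • u) (A.smul_mem t hu) (smul_ne_zero ht hu0)
          (by rw [QuadraticMap.map_smul, hQu, smul_zero])
        exact ⟨h, hh, IsSg.smul t hhx⟩⟩ }
  have hB₀mem : ∀ b ∈ B, ∀ u ∈ A, u ≠ 0 → Q u = 0 → (∃ h ∈ M, IsSg Q h u b) → b ∈ B₀ := by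
    intro b hb u hu hu0 hQu ⟨h, hh, hhx⟩
    refine ⟨hb, fun u' hu' hu'0 hQu' => ?_⟩
    obtain ⟨k, hk, hkA, hkB, hku⟩ := S.exists_move P hA hu hu' hu0 hu'0 hQu hQu'
    have hkM := hH k hk hkA
    have := IsSg.conj hk hhx
    rw [hku, hkB b hb] at this
    exact ⟨_, M.mul_mem (M.mul_mem hkM hh) (M.inv_mem hkM), this⟩
  have hwB₀ : w ∈ B₀ := hB₀mem w hw u hu hu0 hQu huw
  have hinv : ∀ b ∈ B, Q b ≠ 0 → ∀ x ∈ B₀, x - (polar Q x b / Q b) • b ∈ B₀ := by
    intro b hb hQb x hx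
    obtain ⟨a, ha, hQa⟩ := hval (Q b)
    have hQ' := isNondegenerateQuadraticForm S.nd
    have hQa0 : Q a ≠ 0 := by rw [hQa]; exact hQb
    have hab : polar Q a b = 0 := S.orth a ha b hb
    set k := Om.rf hQ' hQa0 * Om.rf hQ' hQb with hkdef
    have hko : k ∈ omegaGL ⇑Q := rf_pair_mem S.nd h7 hQ' hQa0 hQb hQa hab
    have hkA : ∀ y ∈ A, (k : Matrix ι ι F) *ᵥ y ∈ A := fun y hy => by
      rw [hkdef, gl_mulVec_mul, Om.rf_fix hQ' hQb (S.orth y hy b hb), Om.rf_mulVec]
      exact A.sub_mem hy (A.smul_mem _ ha)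
    have hkM := hH k hko hkA
    obtain ⟨h, hh, hhx⟩ := hx.2 u₀ hu₀ hu₀0 hQu₀
    have hkx : (k : Matrix ι ι F) *ᵥ x = x - (polar Q x b / Q b) • b := by
      rw [hkdef, gl_mulVec_mul, Om.rf_mulVec hQ' hQb x, Om.rf_fix hQ' hQa0]
      rw [polar_sub_left, polar_smul_left, polar_comm Q x a, S.orth a ha x hx.1, polar_comm Q b a,
        hab, smul_zero, sub_zero]
    have h' := IsSg.conj hko hhx
    rw [hkx] at h'
    exact hB₀mem _ (B.sub_mem hx.1 (B.smul_mem _ hb)) _ (hkA _ hu₀) (gl_mulVec_ne_zero _ hu₀0)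
      (by rw [omega_iso hko, hQu₀]) ⟨_, M.mul_mem (M.mul_mem hkM hh) (M.inv_mem hkM), h'⟩
  have hsg : ∀ u' ∈ B, ∀ w' ∈ B, Q u' = 0 → polar Q u' w' = 0 → ∀ x ∈ B₀,
      x + polar Q x u' • w' + (-(polar Q x w') - Q w' * polar Q x u') • u' ∈ B₀ := by
    intro u' hu' w' hw' hQu' huw' x hx
    obtain ⟨k, hko, hkx⟩ := exists_sg S.nd P hQu' huw'
    have hfix : ∀ y ∈ A, (k : Matrix ι ι F) *ᵥ y = y := fun y hy => by
      rw [hkx y, S.orth y hy u' hu', S.orth y hy w' hw']; simp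
    have hkM := hH k hko fun y hy => by rw [hfix y hy]; exact hy
    obtain ⟨h, hh, hhx⟩ := hx.2 u₀ hu₀ hu₀0 hQu₀
    have h' := IsSg.conj hko hhx
    rw [hfix u₀ hu₀, hkx x] at h'
    exact hB₀mem _ (B.add_mem (B.add_mem hx.1 (B.smul_mem _ hw')) (B.smul_mem _ hu')) u₀ hu₀ hu₀0
      hQu₀ ⟨_, M.mul_mem (M.mul_mem hkM hh) (M.inv_mem hkM), h'⟩
  have hB₀B : B₀ = B := by
    by_contra hne
    exact hex (S.invariant_cases (B₀ := B₀) (fun b hb => hb.1)
      (fun h => hw0 ((Submodule.mem_bot F).1 (h ▸ hwB₀))) hne hinv hsg)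
  have hSS : ∀ v ∈ A, v ≠ 0 → Q v = 0 → v ∈ SS Q M := by
    refine fun v hv hv0 hQv => ⟨hQv, fun z hz => ?_⟩
    obtain ⟨a, ha, b, hb, rfl⟩ := S.split z
    rw [polar_add_right, S.orth v hv b hb, add_zero] at hz
    obtain ⟨h, hh, hhx⟩ := hTA v a hv ha hQv hz
    obtain ⟨h', hh', hhx'⟩ := ((show b ∈ B₀ by rw [hB₀B]; exact hb) : b ∈ B ∧ _).2 v hv hv0 hQv
    exact ⟨h * h', M.mul_mem hh hh', IsSg.mul hQv hz (S.orth v hv b hb) hhx hhx'⟩
  exact omega_le_of_pair S.nd P hMK (hSS u₀ hu₀ hu₀0 hQu₀) (hSS v₀ hv₀A hv₀0 hQv₀)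
    (by rw [huv₀]; exact one_ne_zero)


end split

/-- Stabilisers of non-degenerate subspaces. -/
theorem nondegenerate_stabilizer_maximal [Fintype F] (hnd : NDPolar Q) (P : Frame Q)
    (hn13 : 13 ≤ Fintype.card ι) {W : Submodule F (ι → F)} (hW0 : W ≠ ⊥) (hW1 : W ≠ ⊤)
    (hW : IsNondegenerateOn (polar Q) W)
    (hswap : 2 * Module.finrank F W = Fintype.card ι → ∀ g ∈ omegaGL ⇑Q,
      ¬ ∀ x ∈ W, ∀ w ∈ W, polar Q ((g : Matrix ι ι F) *ᵥ x) w = 0)
    (hex : ¬ (Fintype.card F ≤ 3 ∧ ∃ U : Submodule F (ι → F), Module.finrank F U = 2 ∧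
      IsNondegenerateOn (polar Q) U ∧ IsPlusTypeOn (⇑Q) U ∧
      (U = W ∨ (AreOrthogonalFor (polar Q) U W ∧
        Module.finrank F U + Module.finrank F W = Fintype.card ι)))) :
    IsMaximalIn (omegaGL ⇑Q) (subspaceStabilizer W ⊓ omegaGL ⇑Q) := by
  classical
  let W' : Submodule F (ι → F) :=
    { carrier := {y | ∀ w ∈ W, polar Q y w = 0}
      add_mem' := fun {a a'} ha ha' w hw => by rw [polar_add_left, ha w hw, ha' w hw, add_zero]
      zero_mem' := fun w _ => polar_zero_left Q w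
      smul_mem' := fun t a ha w hw => by rw [polar_smul_left, ha w hw, smul_zero] }
  have S : IsSplit Q W W' :=
    { nd := hnd
      orth := fun a ha b hb => by rw [polar_comm]; exact hb a ha
      split := fun x => by
        obtain ⟨w, hw, h⟩ := Om.exists_proj (isNondegenerateQuadraticForm hnd) hW x
        exact ⟨w, hw, x - w, h, add_sub_cancel _ _⟩ }
  have hsum : Module.finrank F W + Module.finrank F W' = Fintype.card ι := by
    rw [← Submodule.finrank_sup_add_finrank_inf_eq]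
    have h1 : W ⊔ W' = ⊤ := eq_top_iff.2 fun x _ => by
      obtain ⟨a, ha, b, hb, h⟩ := S.split x
      exact Submodule.mem_sup.2 ⟨a, ha, b, hb, h⟩
    have h0 : W ⊓ W' = ⊥ := eq_bot_iff.2 fun x hx =>
      (Submodule.mem_bot F).2 (S.eq_zero hx.1 hx.2)
    rw [h1, h0, finrank_top, finrank_bot, add_zero, Module.finrank_fintype_fun_eq_card]
  have hdim : ∀ {X Y : Submodule F (ι → F)} (g : GL ι F),
      (∀ x ∈ X, (g : Matrix ι ι F) *ᵥ x ∈ Y) → Module.finrank F X ≤ Module.finrank F Y := by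
    intro X Y g h
    have hle : X.map (Matrix.mulVecLin (g : Matrix ι ι F)) ≤ Y := by
      rintro _ ⟨x, hx, rfl⟩
      exact h x hx
    exact (Submodule.equivMapOfInjective _ (gl_mulVec_injective g) X).finrank_eq.le.trans
      (Submodule.finrank_mono hle)
  have map_other : ∀ {A B : Submodule F (ι → F)}, IsSplit Q A B → ∀ g ∈ omegaGL ⇑Q,
      (∀ x ∈ A, (g : Matrix ι ι F) *ᵥ x ∈ A) → ∀ x ∈ B, (g : Matrix ι ι F) *ᵥ x ∈ B := by
    intro A B T g hg hA x hx
    obtain ⟨a, ha, b, hb, hab⟩ := T.split ((g : Matrix ι ι F) *ᵥ x)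
    suffices a = 0 by rw [← hab, this, zero_add]; exact hb
    by_contra h
    obtain ⟨y, hy, hne⟩ := T.exists_ne ha h
    obtain ⟨y', hy', rfl⟩ := CfsgLib.ClassicalMax.exists_preimage_mem hA hy
    refine hne ?_
    have h1 : polar Q ((g : Matrix ι ι F) *ᵥ x) ((g : Matrix ι ι F) *ᵥ y') = 0 := by
      rw [omega_polar hg, polar_comm, T.orth y' hy' x hx]
    rw [← hab, polar_add_left, polar_comm Q b, T.orth _ hy b hb, add_zero] at h1
    exact h1
  refine CfsgLib.ClassicalMax.isMaximalIn_of inf_le_right ?_ ?_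
  · obtain ⟨g, hg, hg'⟩ := SetLike.not_le_iff_exists.1 (Asch.omega_not_le_subspace hnd P hW0 hW1)
    exact ⟨g, hg, fun h => hg' h.1⟩
  intro M hHM hMK g hgM hgH
  have hgW : ¬ ∀ x ∈ W, (g : Matrix ι ι F) *ᵥ x ∈ W := fun h =>
    hgH ⟨mem_subspaceStabilizer_of_forall h, hMK hgM⟩
  by_cases hbig : Module.finrank F W' ≤ Module.finrank F W
  · refine S.omega_le P (by omega) (by omega) ?_ ?_ hMK
      (fun h hh hA => hHM ⟨mem_subspaceStabilizer_of_forall hA, hh⟩) hgM hgW
    · intro k hk h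
      have h1 := hdim k h
      exact hswap (by omega) k hk fun x hx w hw => h x hx w hw
    · rintro ⟨hq, hd, hp⟩
      refine hex ⟨hq, W', hd, fun w hw hw0 => ?_, hp, Or.inr ⟨fun a ha b hb => ha b hb, by omega⟩⟩
      obtain ⟨x, hx, hne⟩ := S.symm.exists_ne hw hw0
      exact ⟨⟨x, hx, by rwa [polar_comm]⟩, ⟨x, hx, hne⟩⟩
  · refine S.symm.omega_le P (by omega) (by omega) ?_ ?_ hMK
      (fun h hh hA => hHM ⟨mem_subspaceStabilizer_of_forall (map_other S.symm h hh hA), hh⟩) hgM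
      fun h => hgW (map_other S.symm g (hMK hgM) h)
    · intro k hk h
      have h1 := hdim k h
      omega
    · rintro ⟨hq, hd, hp⟩
      exact hex ⟨hq, W, hd, hW, hp, Or.inl rfl⟩

end CfsgLib.ClassicalMax.OmN
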