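/-
Vectors with prescribed value and product in non-degenerate blocks; products of two reflections.
-/
import Cfsg.Agent.Lib.ClassicalMax.OrthNondegEven
set_option autoImplicit false

namespace CfsgLib.ClassicalMax.OmD

open Matrix Cfsg.Geo QuadraticMap Module
open CfsgLib.Classical.Quad (NDPolar polar_self' polar_singular_self Q_comb1)

variable {ι : Type} [Fintype ι] [DecidableEq ι] {F : Type*} [Field F]
  {Q : QuadraticForm F (ι → F)}

section rr

/-- The reflection in a vector, trivial for singular vectors. -/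
noncomputable def rr (hQ : IsNondegenerateQuadraticForm ⇑Q) (x : ι → F) : GL ι F := by
  classical
  exact if h : Q x ≠ 0 then Om.rf hQ h else 1

variable (hQ : IsNondegenerateQuadraticForm ⇑Q)

theorem rr_of {x : ι → F} (hx : Q x ≠ 0) : rr hQ x = Om.rf hQ hx := by
  rw [rr, dif_pos hx]

theorem rr_mulVec {x : ι → F} (hx : Q x ≠ 0) (v : ι → F) :
    (rr hQ x : Matrix ι ι F) *ᵥ v = v - (polar Q v x / Q x) • x := by
  rw [rr_of hQ hx, Om.rf_mulVec]

theorem rr_fix {x v : ι → F} (h : polar Q v x = 0) : (rr hQ x : Matrix ι ι F) *ᵥ v = v := by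
  by_cases hx : Q x ≠ 0
  · rw [rr_of hQ hx, Om.rf_fix hQ hx h]
  · rw [rr, dif_neg hx, Units.val_one, one_mulVec]

theorem rr_mul_self (x : ι → F) : rr hQ x * rr hQ x = 1 := by
  by_cases hx : Q x ≠ 0
  · rw [rr_of hQ hx, Om.rf_mul_self]
  · rw [rr, dif_neg hx, one_mul]

theorem rr_inv (x : ι → F) : (rr hQ x)⁻¹ = rr hQ x := inv_eq_of_mul_eq_one_left (rr_mul_self hQ x)

theorem rr_iso (x : ι → F) : rr hQ x ∈ Cfsg.isometryGroup F ⇑Q := by
  by_cases hx : Q x ≠ 0
  · rw [rr_of hQ hx]; exact Om.rf_mem hQ hx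
  · rw [rr, dif_neg hx]; exact one_mem _

theorem rr_conj {g : GL ι F} (hg : g ∈ Cfsg.isometryGroup F ⇑Q) {x : ι → F} (hx : Q x ≠ 0) :
    g * rr hQ x * g⁻¹ = rr hQ ((g : Matrix ι ι F) *ᵥ x) := by
  rw [rr_of hQ hx, rr_of hQ (show Q ((g : Matrix ι ι F) *ᵥ x) ≠ 0 by rwa [Om.iso_Q hQ hg])]
  exact Om.rf_conj hQ hg hx _ rfl

theorem rr_smul {c : F} (hc : c ≠ 0) {x : ι → F} (hx : Q x ≠ 0) :
    rr hQ (c • x) = rr hQ x := by
  have hcx : Q (c • x) ≠ 0 := by
    rw [QuadraticMap.map_smul, smul_eq_mul]
    exact mul_ne_zero (mul_ne_zero hc hc) hx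
  refine gl_ext_mulVec fun v => ?_
  rw [rr_mulVec hQ hcx, rr_mulVec hQ hx, QuadraticMap.map_smul, polar_smul_right, smul_eq_mul,
    smul_eq_mul, smul_smul]
  congr 2
  field_simp

variable [Fintype F]

/-- Two reflections with values in one square class give an element of `Ω`. -/
theorem pair_mem (hnd : NDPolar Q) (h7 : 7 ≤ Fintype.card ι) {a b : ι → F} (ha : Q a ≠ 0)
    (hb : Q b ≠ 0) (hsq : IsSquare (Q a * Q b)) : rr hQ a * rr hQ b ∈ omegaGL ⇑Q := by
  have hreg : OrthCrit.Regular F ι := Or.inr (by omega)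
  have key : ∀ {r : ι → F} (hr : Q r ≠ 0),
      ((OrthSpinor.reflection (Q := Q) hr : ↥(Cfsg.isometryGroup F ⇑Q)) : GL ι F) = rr hQ r := by
    intro r hr
    refine gl_ext_mulVec fun x => ?_
    change OrthSpinor.act Q (OrthSpinor.reflection hr) x = _
    rw [← OrthCrit.toOrth_apply, OrthCrit.toOrth_reflection, Classical.Quad.refl_apply,
      rr_mulVec hQ hr, neg_smul, ← sub_eq_add_neg]
  refine ⟨OrthSpinor.reflection ha * OrthSpinor.reflection hb,
    OrthCrit.mem_Omega hnd hreg (by omega) ?_ fun h2 => ?_, ?_⟩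
  · rw [OrthCrit.parity_mul hnd hreg, OrthCrit.parity_reflection hnd ha,
      OrthCrit.parity_reflection hnd hb]
    decide
  · rw [map_mul]
    by_cases h1 : IsSquare (Q a)
    · have h1' : IsSquare (Q b) := by
        have := hsq.div h1
        rwa [mul_div_cancel_left₀ _ ha] at this
      rw [OrthSpinor.theta_reflection_of_square h2 one_ne_zero ha (by rwa [one_mul]),
        OrthSpinor.theta_reflection_of_square h2 one_ne_zero hb (by rwa [one_mul])]
      exact Int.units_mul_self _
    · have h1' : ¬ IsSquare (Q b) := fun h => h1 (by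
        have := hsq.div h
        rwa [mul_div_assoc, div_self hb, mul_one] at this)
      rw [OrthSpinor.theta_reflection_of_nonsquare h2 one_ne_zero ha (by rwa [one_mul]),
        OrthSpinor.theta_reflection_of_nonsquare h2 one_ne_zero hb (by rwa [one_mul])]
      exact Int.units_mul_self _
  · change ((OrthSpinor.reflection ha * OrthSpinor.reflection hb :
      ↥(Cfsg.isometryGroup F ⇑Q)) : GL ι F) = _
    rw [Subgroup.coe_mul, key ha, key hb]

end rr

omit [Fintype ι] [DecidableEq ι] in
theorem binary_value [Fintype F] (h2 : (2 : F) ≠ 0) {a b γ : F} (ha : a ≠ 0) (hb : b ≠ 0)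
    (hγ : γ ≠ 0) : ∃ s t : F, s * s * a + t * t * b = γ := by
  obtain ⟨s, t, hst⟩ := FormsDisc.binary_represents_one h2 (a := a / γ) (b := b / γ)
    (div_ne_zero ha hγ) (div_ne_zero hb hγ)
  refine ⟨s, t, ?_⟩
  field_simp at hst
  linear_combination hst

section block

/-- The part of `S` orthogonal to `x`. -/
noncomputable def perp (Q : QuadraticForm F (ι → F)) (S : Submodule F (ι → F)) (x : ι → F) :
    Submodule F (ι → F) :=
  S ⊓ LinearMap.ker ((polarBilin Q).flip x)

theorem mem_perp {S : Submodule F (ι → F)} {x v : ι → F} :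
    v ∈ perp Q S x ↔ v ∈ S ∧ polar Q v x = 0 := Iff.rfl

theorem finrank_perp (S : Submodule F (ι → F)) (x : ι → F) :
    finrank F S ≤ finrank F ↥(perp Q S x) + 1 :=
  OrthCrit.finrank_le_inf_ker_add_one S _

theorem exists_ne_zero_mem {S : Submodule F (ι → F)} (h : 0 < finrank F S) :
    ∃ v ∈ S, v ≠ 0 :=
  Submodule.exists_mem_ne_zero_of_ne_bot fun e => by rw [e, finrank_bot] at h; omega

variable {S : Submodule F (ι → F)} (hS : IsNondegenerateOn (polar ⇑Q) S)

include hS

theorem eq_zero_of_orth {v : ι → F} (hv : v ∈ S) (h : ∀ y ∈ S, polar Q v y = 0) : v = 0 := by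
  by_contra h0
  obtain ⟨-, y, hy, hne⟩ := hS v hv h0
  exact hne (h y hy)

/-- A block realises every functional by a product. -/
theorem exists_dual (φ : (ι → F) →ₗ[F] F) : ∃ w ∈ S, ∀ x ∈ S, polar Q x w = φ x := by
  let L : S →ₗ[F] Module.Dual F S := ((polarBilin Q).comp S.subtype).compl₂ S.subtype
  have hinj : Function.Injective L := by
    rw [injective_iff_map_eq_zero]
    exact fun w hw => Subtype.ext
      (eq_zero_of_orth hS w.2 fun y hy => LinearMap.congr_fun hw ⟨y, hy⟩)
  obtain ⟨w, hw⟩ := (LinearMap.injective_iff_surjective_of_finrank_eq_finrank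
    Subspace.dual_finrank_eq.symm).1 hinj (φ.comp S.subtype)
  exact ⟨w, w.2, fun x hx => (polar_comm Q x w).trans (LinearMap.congr_fun hw ⟨x, hx⟩)⟩

/-- Products with independent vectors of a block are arbitrary. -/
theorem exists_in_polar {m : ℕ} {v : Fin m → ι → F} (hv : ∀ i, v i ∈ S)
    (hli : LinearIndependent F v) (c : Fin m → F) :
    ∃ y ∈ S, ∀ i, polar Q (v i) y = c i := by
  obtain ⟨φ, hφ⟩ := LinearMap.exists_extend ((Module.Basis.span hli).constr F c)
  obtain ⟨y, hy, h⟩ := exists_dual hS φ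
  refine ⟨y, hy, fun i => ?_⟩
  rw [h _ (hv i)]
  have := LinearMap.congr_fun hφ (Module.Basis.span hli i)
  rw [LinearMap.comp_apply, Module.Basis.constr_basis, Module.Basis.span_apply] at this
  simpa using this

theorem exists_in_polar_one {x : ι → F} (hx : x ∈ S) (hx0 : x ≠ 0) (a : F) :
    ∃ y ∈ S, polar Q x y = a := by
  obtain ⟨y, hy, h⟩ := exists_in_polar hS (v := ![x]) (by simpa using hx)
    (LinearIndependent.of_subsingleton 0 (by simpa using hx0)) ![a]
  exact ⟨y, hy, by simpa using h 0⟩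

theorem exists_in_polar_two {x x' : ι → F} (hx : x ∈ S) (hx' : x' ∈ S)
    (hli : LinearIndependent F ![x, x']) (a a' : F) :
    ∃ y ∈ S, polar Q x y = a ∧ polar Q x' y = a' := by
  obtain ⟨y, hy, h⟩ := exists_in_polar hS (v := ![x, x']) (Fin.forall_fin_two.2 ⟨hx, hx'⟩) hli ![a, a']
  exact ⟨y, hy, by simpa using h 0, by simpa using h 1⟩

theorem two_mul_iso_le {W : Submodule F (ι → F)} (hW : W ≤ S)
    (hiso : ∀ a ∈ W, ∀ b ∈ W, polar Q a b = 0) : 2 * finrank F W ≤ finrank F S := by
  let L : S →ₗ[F] Module.Dual F W := ((polarBilin Q).comp S.subtype).compl₂ W.subtype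
  have hsurj : Function.Surjective L := by
    intro φ
    obtain ⟨g, hg⟩ := LinearMap.exists_extend φ
    obtain ⟨w, hw, h⟩ := exists_dual hS g
    refine ⟨⟨w, hw⟩, LinearMap.ext fun y => ?_⟩
    rw [← hg]
    exact (polar_comm Q w y).trans (h _ (hW y.2))
  have hle : W.comap S.subtype ≤ LinearMap.ker L := fun x hx =>
    LinearMap.mem_ker.2 (LinearMap.ext fun y => hiso _ hx _ y.2)
  have h1 := LinearMap.finrank_range_add_finrank_ker L
  have h2 := Submodule.finrank_mono hle
  rw [LinearMap.range_eq_top.2 hsurj, finrank_top, Subspace.dual_finrank_eq] at h1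
  rw [(Submodule.comapSubtypeEquivOfLe hW).finrank_eq] at h2
  omega

theorem exists_nonsing {W : Submodule F (ι → F)} (hW : W ≤ S)
    (hd : finrank F S < 2 * finrank F W) : ∃ w ∈ W, Q w ≠ 0 := by
  by_contra h
  push Not at h
  have := two_mul_iso_le hS hW fun a ha b hb => OmE.ts_polar h ha hb
  omega

variable [Fintype F]

/-- Value and product with one vector may be prescribed. -/
theorem exists_value_polar (h3 : 3 ≤ finrank F S) (h4 : (2 : F) = 0 → 4 ≤ finrank F S)
    {x : ι → F} (hx : x ∈ S) (hx0 : x ≠ 0) (c β : F) (h : Q x ≠ 0 ∨ β ≠ 0) :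
    ∃ y ∈ S, Q y = c ∧ polar Q x y = β := by
  by_cases hQx : Q x = 0
  · have hβ : β ≠ 0 := h.resolve_left (not_not.2 hQx)
    obtain ⟨y, hy, hxy⟩ := exists_in_polar_one hS hx hx0 β
    refine ⟨y + ((c - Q y) / β) • x, S.add_mem hy (S.smul_mem _ hx), ?_, ?_⟩
    · rw [Q_comb1, hQx, polar_comm Q y x, hxy]; field_simp; ring
    · rw [polar_add_right, polar_smul_right, hxy, polar_singular_self hQx, smul_zero, add_zero]
  have hP := finrank_perp (Q := Q) S x
  by_cases hs : ∃ s ∈ perp Q S x, s ≠ 0 ∧ Q s = 0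
  · obtain ⟨s, ⟨hsS, hsx⟩, hs0, hQs⟩ := hs
    have hxs : polar Q x s = 0 := by rw [polar_comm]; exact hsx
    have hli : LinearIndependent F ![x, s] := (LinearIndependent.pair_iff' hx0).2 fun e he => by
      rw [← he, QuadraticMap.map_smul, smul_eq_mul] at hQs
      rcases mul_eq_zero.1 hQs with h' | h'
      · rw [mul_self_eq_zero.1 h', zero_smul] at he; exact hs0 he.symm
      · exact hQx h'
    obtain ⟨y, hy, hxy, hsy⟩ := exists_in_polar_two hS hx hsS hli β 1
    refine ⟨y + (c - Q y) • s, S.add_mem hy (S.smul_mem _ hsS), ?_, ?_⟩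
    · rw [Q_comb1, hQs, polar_comm Q y s, hsy]; ring
    · rw [polar_add_right, polar_smul_right, hxy, hxs, smul_zero, add_zero]
  push Not at hs
  by_cases h2 : (2 : F) = 0
  · obtain ⟨s, hs', hs0, hQs⟩ := OmN.exists_singular_in (Q := Q) (S := perp Q S x)
      (by have := h4 h2; omega)
    exact absurd hQs (hs s hs' hs0)
  obtain ⟨z, hz, hz0⟩ := exists_ne_zero_mem (S := perp Q S x) (by omega)
  obtain ⟨w, hw, hw0⟩ := exists_ne_zero_mem (S := perp Q (perp Q S x) z)
    (by have := finrank_perp (Q := Q) (perp Q S x) z; omega)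
  have hzx : polar Q z x = 0 := hz.2
  have hwx : polar Q w x = 0 := hw.1.2
  have hwz : polar Q w z = 0 := hw.2
  set a := β / (2 * Q x) with ha
  have h2x : 2 * Q x ≠ 0 := mul_ne_zero h2 hQx
  have hax : a * (2 * Q x) = β := by rw [ha, div_mul_cancel₀ _ h2x]
  clear_value a
  have hpol : ∀ s t : F, polar Q x (a • x + s • z + t • w) = β := fun s t => by
    rw [polar_add_right, polar_add_right, polar_smul_right, polar_smul_right, polar_smul_right,
      polar_self', polar_comm Q x z, polar_comm Q x w, hzx, hwx]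
    simp only [smul_eq_mul]; linear_combination hax
  have hval : ∀ s t : F, Q (a • x + s • z + t • w) = a * a * Q x + s * s * Q z + t * t * Q w :=
    fun s t => by
      rw [QuadraticMap.map_add (⇑Q), QuadraticMap.map_add (⇑Q), QuadraticMap.map_smul,
        QuadraticMap.map_smul, QuadraticMap.map_smul]
      simp [polar_add_left, polar_smul_left, polar_smul_right, polar_comm Q x z, polar_comm Q x w,
        polar_comm Q z w, hzx, hwx, hwz]
  have hmem : ∀ s t : F, a • x + s • z + t • w ∈ S := fun s t =>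
    S.add_mem (S.add_mem (S.smul_mem _ hx) (S.smul_mem _ hz.1)) (S.smul_mem _ hw.1.1)
  by_cases hg : c - a * a * Q x = 0
  · exact ⟨_, hmem 0 0, by rw [hval]; linear_combination -hg, hpol 0 0⟩
  obtain ⟨s, t, hst⟩ := binary_value h2 (hs z hz hz0) (hs w hw.1 hw0) hg
  refine ⟨_, hmem s t, ?_, hpol s t⟩
  rw [hval]
  linear_combination hst

theorem exists_value (h3 : 3 ≤ finrank F S) (h4 : (2 : F) = 0 → 4 ≤ finrank F S) (c : F) :
    ∃ y ∈ S, y ≠ 0 ∧ Q y = c := by
  obtain ⟨x, hx, hx0⟩ := exists_ne_zero_mem (S := S) (by omega)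
  obtain ⟨y, hy, hQy, hxy⟩ := exists_value_polar hS h3 h4 hx hx0 c 1 (Or.inr one_ne_zero)
  exact ⟨y, hy, fun h => one_ne_zero (α := F) (by rw [← hxy, h, polar_zero_right]), hQy⟩

omit hS in
theorem exists_ne_three (h5 : 5 ≤ Fintype.card F) (a b : F) :
    ∃ u : F, u ≠ 0 ∧ u ≠ a ∧ u ≠ b := by
  classical
  obtain ⟨u, hu⟩ : ∃ u, u ∉ ({0, a, b} : Finset F) := by
    by_contra h
    push Not at h
    have h1 := Finset.card_le_card (s := Finset.univ) fun u _ => h u
    have h2 : ({0, a, b} : Finset F).card ≤ 3 := Finset.card_le_three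
    rw [Finset.card_univ] at h1
    omega
  simp only [Finset.mem_insert, Finset.mem_singleton, not_or] at hu
  exact ⟨u, hu⟩

/-- Two perpendicular vectors of one value have a common partner of the same value. -/
theorem exists_connect (h3 : 3 ≤ finrank F S) (h4 : (2 : F) = 0 → 4 ≤ finrank F S)
    (hk3 : finrank F S = 3 → 5 ≤ Fintype.card F)
    (hk4 : finrank F S = 4 → Fintype.card F = 2 → ¬ IsPlusTypeOn ⇑Q S)
    {x x' : ι → F} (hx : x ∈ S) (hx' : x' ∈ S) {c : F} (hc : c ≠ 0) (hQx : Q x = c)
    (hQx' : Q x' = c) (hxx' : polar Q x x' = 0) (hli : LinearIndependent F ![x, x']) :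
    ∃ z ∈ S, Q z = c ∧ polar Q x z ≠ 0 ∧ polar Q x' z ≠ 0 := by
  classical
  have hx0 : x ≠ 0 := fun h => hc (by rw [← hQx, h, map_zero Q])
  have hT := finrank_perp (Q := Q) S x
  have hT' := finrank_perp (Q := Q) (perp Q S x) x'
  by_cases h2 : (2 : F) = 0
  · have hxx : polar Q x x = 0 := by rw [polar_self', h2, zero_mul]
    have hxx2 : polar Q x' x' = 0 := by rw [polar_self', h2, zero_mul]
    have hQe : Q (x + x') = 0 := by
      rw [QuadraticMap.map_add (⇑Q), hQx, hQx', hxx', add_zero, ← two_mul, h2, zero_mul]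
    by_cases hq : ∃ b : F, b ≠ 0 ∧ b ≠ 1
    · obtain ⟨b, hb0, hb1⟩ := hq
      obtain ⟨z, hz, hxz, hx'z⟩ := exists_in_polar_two hS hx hx' hli 1 b
      have hne : polar Q z (x + x') ≠ 0 := by
        rw [polar_add_right, polar_comm Q z x, polar_comm Q z x', hxz, hx'z]
        intro h; exact hb1 (by linear_combination h - h2)
      refine ⟨z + ((c - Q z) / polar Q z (x + x')) • (x + x'),
        S.add_mem hz (S.smul_mem _ (S.add_mem hx hx')), ?_, ?_, ?_⟩
      · rw [Q_comb1, hQe]; field_simp; ring
      · rw [polar_add_right, polar_smul_right, polar_add_right Q x x, hxx, hxx', hxz]; simp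
      · rw [polar_add_right, polar_smul_right, polar_add_right Q x' x, hxx2, polar_comm Q x' x,
          hxx', hx'z]; simpa using hb0
    push Not at hq
    have hbool : ∀ b : F, b = 0 ∨ b = 1 := fun b => or_iff_not_imp_left.2 (hq b)
    obtain ⟨z, hz, hxz, hx'z⟩ := exists_in_polar_two hS hx hx' hli 1 1
    have hc1 : c = 1 := (hbool c).resolve_left hc
    by_cases hw : ∃ w ∈ perp Q (perp Q S x) x', Q (z + w) ≠ 0
    · obtain ⟨w, ⟨⟨hwS, hwx⟩, hwx'⟩, hQw⟩ := hw
      refine ⟨z + w, S.add_mem hz hwS, by rw [hc1]; exact (hbool _).resolve_left hQw, ?_, ?_⟩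
      · rw [polar_add_right, hxz, show polar Q x w = 0 by rw [polar_comm]; exact hwx]; simp
      · rw [polar_add_right, hx'z, show polar Q x' w = 0 by rw [polar_comm]; exact hwx']; simp
    push Not at hw
    exfalso
    have hz0 : Q z = 0 := by simpa using hw 0 (Submodule.zero_mem _)
    have hiso : ∀ a ∈ perp Q (perp Q S x) x', ∀ b ∈ perp Q (perp Q S x) x', polar Q a b = 0 := by
      intro a ha b hb
      have e1 := hw a ha
      have e2 := hw b hb
      have e3 := hw (a + b) (Submodule.add_mem _ ha hb)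
      rw [QuadraticMap.map_add (⇑Q), hz0] at e1 e2
      rw [QuadraticMap.map_add (⇑Q), hz0, QuadraticMap.map_add (⇑Q) a b, polar_add_right] at e3
      linear_combination e3 - e1 - e2
    have hle : 2 * finrank F ↥(perp Q (perp Q S x) x') ≤ finrank F S :=
      two_mul_iso_le hS (inf_le_left.trans inf_le_left) hiso
    have hd4 : finrank F S = 4 := by have := h4 h2; omega
    have hcard : Fintype.card F = 2 := by
      refine le_antisymm ?_ Fintype.one_lt_card
      have h1 := Finset.card_le_card (s := Finset.univ) (t := ({0, 1} : Finset F))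
        fun s _ => by rcases hbool s with h | h <;> simp [h]
      rw [Finset.card_univ] at h1
      exact h1.trans Finset.card_le_two
    refine hk4 hd4 hcard ⟨Submodule.span F (Set.range ![x + x', z]), ?_, ?_, ?_⟩
    · exact Submodule.span_le.2 (Set.range_subset_iff.2 (Fin.forall_fin_two.2 ⟨S.add_mem hx hx', hz⟩))
    · intro v hv
      obtain ⟨f, rfl⟩ := Submodule.mem_span_range_iff_exists_fun F |>.1 hv
      simp only [Fin.sum_univ_two, Matrix.cons_val_zero, Matrix.cons_val_one]
      rw [QuadraticMap.map_add (⇑Q), QuadraticMap.map_smul, QuadraticMap.map_smul, hQe, hz0,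
        polar_smul_left, polar_smul_right, polar_add_left, hxz, hx'z, ← two_mul, h2]
      simp
    · rw [finrank_span_eq_card ?_, hd4, Fintype.card_fin]
      refine (LinearIndependent.pair_iff' fun h : x + x' = 0 => ?_).2 fun e he => ?_
      · have := (LinearIndependent.pair_iff.1 hli 1 1 (by simpa using h)).1
        exact one_ne_zero this
      · rw [← he, polar_smul_right, polar_add_right, hxx, hxx'] at hxz
        simp at hxz
  have hQx'0 : Q x' ≠ 0 := by rw [hQx']; exact hc
  have hx'x : polar Q x' x = 0 := by rw [polar_comm]; exact hxx'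
  have h2c : (2 : F) * c ≠ 0 := mul_ne_zero h2 hc
  have hTQ : ∀ y ∈ perp Q (perp Q S x) x', (∀ y' ∈ perp Q (perp Q S x) x', polar Q y y' = 0) →
      y = 0 := by
    intro y hy h
    refine eq_zero_of_orth hS hy.1.1 fun s hs => ?_
    set s' := s + (-(polar Q s x / (2 * c))) • x + (-(polar Q s x' / (2 * c))) • x' with hs'
    have hm : s' ∈ perp Q (perp Q S x) x' := by
      refine ⟨⟨S.add_mem (S.add_mem hs (S.smul_mem _ hx)) (S.smul_mem _ hx'), ?_⟩, ?_⟩ <;>
        (show polar Q s' _ = 0
         simp only [hs', polar_add_left, polar_smul_left, polar_self', hQx, hQx', hxx', hx'x,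
           smul_eq_mul]
         field_simp
         ring)
    have := h s' hm
    rw [hs', polar_add_right, polar_add_right, polar_smul_right, polar_smul_right,
      show polar Q y x = 0 from hy.1.2, show polar Q y x' = 0 from hy.2] at this
    simpa using this
  obtain ⟨w, hwT, hQw⟩ : ∃ w ∈ perp Q (perp Q S x) x', Q w ≠ 0 := by
    by_contra h
    push Not at h
    obtain ⟨y, hy, hy0⟩ := exists_ne_zero_mem (S := perp Q (perp Q S x) x') (by omega)
    exact hy0 (hTQ y hy fun y' hy' => OmE.ts_polar h hy hy')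
  obtain ⟨⟨hwS, hwx⟩, hwx'⟩ := hwT
  have hwx : polar Q w x = 0 := hwx
  have hwx' : polar Q w x' = 0 := hwx'
  have hxw : polar Q x w = 0 := by rw [polar_comm]; exact hwx
  have hx'w : polar Q x' w = 0 := by rw [polar_comm]; exact hwx'
  have hmem : ∀ a s t : F, a • x + s • x' + t • w ∈ S := fun a s t =>
    S.add_mem (S.add_mem (S.smul_mem _ hx) (S.smul_mem _ hx')) (S.smul_mem _ hwS)
  have hval : ∀ a s t : F, Q (a • x + s • x' + t • w) = a * a * c + s * s * c + t * t * Q w :=
    fun a s t => by
      rw [QuadraticMap.map_add (⇑Q), QuadraticMap.map_add (⇑Q), QuadraticMap.map_smul,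
        QuadraticMap.map_smul, QuadraticMap.map_smul]
      simp [polar_add_left, polar_smul_left, polar_smul_right, hxx', hxw, hx'w, hQx, hQx']
  have hpx : ∀ a s t : F, polar Q x (a • x + s • x' + t • w) = a * (2 * c) := fun a s t => by
    simp [polar_add_right, polar_smul_right, polar_self', hQx, hxx', hxw]
  have hpx' : ∀ a s t : F, polar Q x' (a • x + s • x' + t • w) = s * (2 * c) := fun a s t => by
    simp [polar_add_right, polar_smul_right, polar_self', hQx', hx'x, hx'w]
  by_cases h5 : 5 ≤ Fintype.card F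
  · obtain ⟨a, ha0, ha1, ha1'⟩ := exists_ne_three h5 (1 : F) (-1)
    have hg : 1 - a * a ≠ 0 := fun h => by
      rcases mul_self_eq_one_iff.1 (sub_eq_zero.1 h).symm with h | h
      · exact ha1 h
      · exact ha1' h
    obtain ⟨s, t, hst'⟩ := binary_value h2 hc hQw (mul_ne_zero hc hg)
    have ha2 : a * (2 * c) ≠ 0 := mul_ne_zero ha0 h2c
    by_cases hs : s = 0
    swap
    · refine ⟨_, hmem a s t, by rw [hval]; linear_combination hst', ?_, ?_⟩
      · rw [hpx]; exact ha2
      · rw [hpx']; exact mul_ne_zero hs h2c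
    rw [hs, zero_mul, zero_mul, zero_add] at hst'
    set γ := c * (1 - a * a) with hγ
    have hγ0 : γ ≠ 0 := mul_ne_zero hc hg
    have ht : t ≠ 0 := fun h => hγ0 (by rw [← hst', h, zero_mul, zero_mul])
    obtain ⟨l, hl0, hl⟩ : ∃ l : F, l ≠ 0 ∧ c + l * l * γ ≠ 0 := by
      by_cases h1 : c + γ = 0
      · refine ⟨a, ha0, fun h => hg ?_⟩
        have : (a * a - 1) * γ = 0 := by linear_combination h - h1
        rw [← neg_eq_zero, neg_sub]
        exact (mul_eq_zero.1 this).resolve_right hγ0
      · exact ⟨1, one_ne_zero, by simpa using h1⟩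
    set v := t • w with hv
    set r := x' + l • v with hr
    have hQv : Q v = γ := by rw [hv, QuadraticMap.map_smul, smul_eq_mul, hst']
    have hvx' : polar Q v x' = 0 := by rw [hv, polar_smul_left, hwx', smul_zero]
    have hxv : polar Q x v = 0 := by rw [hv, polar_smul_right, hxw, smul_zero]
    have hQr : Q r = c + l * l * γ := by
      rw [hr, Q_comb1, hQx', hQv, polar_comm Q x' v, hvx']; ring
    have hvr : polar Q v r = l * (2 * γ) := by
      rw [hr, polar_add_right, polar_smul_right, polar_self', hQv, hvx', smul_eq_mul, zero_add]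
    have hxr : polar Q x r = 0 := by rw [hr, polar_add_right, polar_smul_right, hxx', hxv]; simp
    have hQr0 : Q r ≠ 0 := by rw [hQr]; exact hl
    refine ⟨a • x + (v + (-(polar Q v r / Q r)) • r),
      S.add_mem (S.smul_mem _ hx) (S.add_mem (S.smul_mem _ hwS)
        (S.smul_mem _ (S.add_mem hx' (S.smul_mem _ (S.smul_mem _ hwS))))), ?_, ?_, ?_⟩
    · rw [QuadraticMap.map_add (⇑Q), Q_comb1, QuadraticMap.map_smul, hQx, hQv]
      simp only [polar_smul_left, polar_add_right, polar_smul_right, hxv, hxr, smul_eq_mul]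
      rw [hγ]
      field_simp
      ring
    · simp only [polar_add_right, polar_smul_right, polar_self', hQx, hxv, hxr, smul_eq_mul]
      simpa using ha2
    · have e : polar Q x' r = 2 * c := by
        rw [hr, polar_add_right, polar_smul_right, polar_self', hQx', polar_comm Q x' v, hvx']
        simp
      simp only [polar_add_right, polar_smul_right, hx'x, polar_comm Q x' v, hvx', e, hvr,
        smul_eq_mul]
      rw [mul_zero, zero_add, zero_add, neg_mul, neg_ne_zero]
      exact mul_ne_zero (div_ne_zero (mul_ne_zero hl0 (mul_ne_zero h2 hγ0)) hQr0) h2c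
  · have hk : 4 ≤ finrank F S := by
      by_contra hk; exact h5 (hk3 (by omega))
    obtain ⟨w', hw', hw'0⟩ := exists_ne_zero_mem (S := perp Q (perp Q (perp Q S x) x') w)
      (by have := finrank_perp (Q := Q) (perp Q (perp Q S x) x') w; omega)
    obtain ⟨⟨⟨hw'S, hw'x⟩, hw'x'⟩, hw'w⟩ := hw'
    have hw'x : polar Q w' x = 0 := hw'x
    have hw'x' : polar Q w' x' = 0 := hw'x'
    have hw'w : polar Q w' w = 0 := hw'w
    have fin : ∀ y ∈ S, Q y = -c → polar Q y x = 0 → polar Q y x' = 0 →
        ∃ z ∈ S, Q z = c ∧ polar Q x z ≠ 0 ∧ polar Q x' z ≠ 0 := by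
      intro y hy hQy hyx hyx'
      refine ⟨x + x' + y, S.add_mem (S.add_mem hx hx') hy, ?_, ?_, ?_⟩
      · rw [QuadraticMap.map_add (⇑Q), QuadraticMap.map_add (⇑Q) x x', polar_add_left, hQx, hQx',
          hQy, hxx', polar_comm Q x y, polar_comm Q x' y, hyx, hyx']
        ring
      · rw [polar_add_right, polar_add_right, polar_self', hQx, hxx', polar_comm Q x y, hyx]
        simpa using h2c
      · rw [polar_add_right, polar_add_right, polar_self', hQx', hx'x, polar_comm Q x' y, hyx']
        simpa using h2c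
    by_cases hQw' : Q w' = 0
    · obtain ⟨y, hy, hy'⟩ := exists_in_polar hS (v := ![x, x', w'])
        (fun i => by fin_cases i <;> assumption)
        (by
          refine Fintype.linearIndependent_iff.2 fun f hf => ?_
          simp only [Fin.sum_univ_three, Matrix.cons_val_zero, Matrix.cons_val_one,
            Matrix.cons_val_two, Matrix.tail_cons, Matrix.head_cons] at hf
          have e0 := congrArg (fun z => polar Q z x) hf
          have e1 := congrArg (fun z => polar Q z x') hf
          simp [polar_add_left, polar_smul_left, polar_self', hQx, hQx', hxx', hx'x, hw'x, hw'x',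
            h2, hc] at e0 e1
          rw [e0, e1, zero_smul, zero_smul, zero_add, zero_add] at hf
          have e2 := (smul_eq_zero.1 hf).resolve_right hw'0
          intro i; fin_cases i <;> assumption)
        ![0, 0, 1]
      have a0 : polar Q x y = 0 := by simpa using hy' 0
      have a1 : polar Q x' y = 0 := by simpa using hy' 1
      have a2 : polar Q w' y = 1 := by simpa using hy' 2
      refine fin (y + (-c - Q y) • w') (S.add_mem hy (S.smul_mem _ hw'S)) ?_ ?_ ?_
      · rw [Q_comb1, hQw', polar_comm Q y w', a2]; ring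
      · rw [polar_add_left, polar_smul_left, polar_comm Q y x, a0, hw'x]; simp
      · rw [polar_add_left, polar_smul_left, polar_comm Q y x', a1, hw'x']; simp
    · obtain ⟨s, t, hst⟩ := binary_value h2 hQw hQw' (neg_ne_zero.2 hc)
      refine fin (s • w + t • w') (S.add_mem (S.smul_mem _ hwS) (S.smul_mem _ hw'S)) ?_ ?_ ?_
      · rw [QuadraticMap.map_add (⇑Q), QuadraticMap.map_smul, QuadraticMap.map_smul,
          polar_smul_left, polar_smul_right, polar_comm Q w w', hw'w]
        simp only [smul_eq_mul, mul_zero, add_zero]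
        linear_combination hst
      · simp [polar_add_left, polar_smul_left, hwx, hw'x]
      · simp [polar_add_left, polar_smul_left, hwx', hw'x']

end block

end CfsgLib.ClassicalMax.OmD
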