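/-
Components of orthogonal decompositions; when a product of two reflections permutes the members.
-/
import Cfsg.Agent.Lib.ClassicalMax.OrthDecompTools
import Cfsg.Agent.Lib.ClassicalMax.SympDecomp
set_option autoImplicit false

namespace CfsgLib.ClassicalMax.OmD

open Matrix Cfsg.Geo QuadraticMap Module
open CfsgLib.Classical.Quad (NDPolar polar_self' polar_singular_self Q_comb1)

variable {ι : Type} [Fintype ι] [DecidableEq ι] {F : Type*} [Field F]
  {Q : QuadraticForm F (ι → F)} {t k : ℕ} {D : Fin t → Submodule F (ι → F)}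

/-- An orthogonal decomposition of a non-degenerate space. -/
structure Dec (Q : QuadraticForm F (ι → F)) (k : ℕ) (D : Fin t → Submodule F (ι → F)) : Prop where
  nd : NDPolar Q
  dec : IsOrthogonalMDecomposition ⇑Q k D

/-- A vector lying in one member. -/
def InBlock (D : Fin t → Submodule F (ι → F)) (v : ι → F) : Prop := ∃ j, v ∈ D j

namespace Dec

variable (h : Dec Q k D)

theorem qform (h : Dec Q k D) : IsNondegenerateQuadraticForm ⇑Q :=
  OmS.isNondegenerateQuadraticForm h.nd

theorem block (h : Dec Q k D) (i : Fin t) : IsNondegenerateOn (polar ⇑Q) (D i) :=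
  h.dec.decomp.nondegenerate i

theorem dim (h : Dec Q k D) (i : Fin t) : finrank F (D i) = k := h.dec.decomp.decomp.finrank_eq i

theorem orth (h : Dec Q k D) {i j : Fin t} (hij : i ≠ j) {a b : ι → F} (ha : a ∈ D i)
    (hb : b ∈ D j) : polar Q a b = 0 :=
  h.dec.decomp.orthogonal i j hij a ha b hb

theorem eq_index (h : Dec Q k D) {i j : Fin t} {v : ι → F} (hi : v ∈ D i) (hj : v ∈ D j)
    (hv : v ≠ 0) : i = j := by
  by_contra hne
  exact hv (Submodule.disjoint_def.1 (h.dec.decomp.decomp.indep.pairwiseDisjoint hne) v hi hj)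

theorem comps (h : Dec Q k D) (x : ι → F) :
    ∃ a : Fin t → (ι → F), (∀ i, a i ∈ D i) ∧ ∑ i, a i = x :=
  exists_components h.dec.decomp.decomp x

theorem comps_unique (h : Dec Q k D) {a b : Fin t → (ι → F)} (ha : ∀ i, a i ∈ D i)
    (hb : ∀ i, b i ∈ D i) (e : ∑ i, a i = ∑ i, b i) : a = b :=
  components_unique h.qform.polar_bilinear h.dec.decomp ha hb e

/-- The projection to a member. -/
noncomputable def π (h : Dec Q k D) (i : Fin t) : (ι → F) →ₗ[F] (ι → F) where
  toFun x := Classical.choose (h.comps x) i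
  map_add' x y := congrFun (h.comps_unique (Classical.choose_spec (h.comps (x + y))).1
    (fun i => (D i).add_mem ((Classical.choose_spec (h.comps x)).1 i)
      ((Classical.choose_spec (h.comps y)).1 i))
    (by rw [Finset.sum_add_distrib, (Classical.choose_spec (h.comps (x + y))).2,
      (Classical.choose_spec (h.comps x)).2, (Classical.choose_spec (h.comps y)).2])) i
  map_smul' c x := congrFun (h.comps_unique (Classical.choose_spec (h.comps (c • x))).1
    (fun i => (D i).smul_mem c ((Classical.choose_spec (h.comps x)).1 i))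
    (by rw [← Finset.smul_sum, (Classical.choose_spec (h.comps (c • x))).2,
      (Classical.choose_spec (h.comps x)).2])) i

theorem π_mem (x : ι → F) (i : Fin t) : h.π i x ∈ D i := (Classical.choose_spec (h.comps x)).1 i

theorem π_sum (x : ι → F) : ∑ i, h.π i x = x := (Classical.choose_spec (h.comps x)).2

theorem π_of_mem {i : Fin t} {v : ι → F} (hv : v ∈ D i) (j : Fin t) :
    h.π j v = if j = i then v else 0 := by
  classical
  exact congrFun (h.comps_unique (fun j => h.π_mem v j)
    (fun j => show (if j = i then v else 0) ∈ D j by split_ifs with e; exacts [e ▸ hv, zero_mem _])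
    (by rw [h.π_sum, Finset.sum_ite_eq', if_pos (Finset.mem_univ i)])) j

theorem π_self {i : Fin t} {v : ι → F} (hv : v ∈ D i) : h.π i v = v := by
  rw [h.π_of_mem hv, if_pos rfl]

theorem π_other {i j : Fin t} (hij : j ≠ i) {v : ι → F} (hv : v ∈ D i) : h.π j v = 0 := by
  rw [h.π_of_mem hv, if_neg hij]

theorem polar_π (x : ι → F) {j : Fin t} {z : ι → F} (hz : z ∈ D j) :
    polar Q x z = polar Q (h.π j x) z := by
  rw [polar_comm Q x z, polar_comm Q (h.π j x) z]
  conv_lhs => rw [← h.π_sum x]
  exact form_sum_component h.qform.polar_bilinear h.dec.decomp (h.π_mem x) hz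

theorem polar_sum (x y : ι → F) : polar Q x y = ∑ i, polar Q (h.π i x) (h.π i y) := by
  conv_lhs => rw [← h.π_sum x, ← h.π_sum y]
  exact form_sum_sum h.qform.polar_bilinear h.dec.decomp (h.π_mem x) (h.π_mem y)

theorem Q_sum (x : ι → F) : Q x = ∑ i, Q (h.π i x) := by
  classical
  suffices ∀ s : Finset (Fin t), Q (∑ i ∈ s, h.π i x) = ∑ i ∈ s, Q (h.π i x) by
    conv_lhs => rw [← h.π_sum x]
    exact this _
  intro s
  induction s using Finset.induction_on with
  | empty => simp [map_zero Q]
  | @insert j s hj ih =>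
    rw [Finset.sum_insert hj, Finset.sum_insert hj, QuadraticMap.map_add (⇑Q), ih]
    have : polar Q (h.π j x) (∑ i ∈ s, h.π i x) = 0 := by
      rw [← polarBilin_apply_apply, map_sum]
      exact Finset.sum_eq_zero fun i hi =>
        h.orth (fun e : j = i => hj (e ▸ hi)) (h.π_mem x j) (h.π_mem x i)
    rw [this, add_zero]

theorem mem_of_π {x : ι → F} {j : Fin t} (hx : ∀ i, i ≠ j → h.π i x = 0) : x ∈ D j := by
  rw [← h.π_sum x, Finset.sum_eq_single j (fun i _ hij => hx i hij)
    (fun hn => absurd (Finset.mem_univ j) hn)]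
  exact h.π_mem x j

theorem mem_of_orth (h : Dec Q k D) {x : ι → F} {j : Fin t} (hx : ∀ i, i ≠ j → ∀ y ∈ D i, polar Q x y = 0) :
    x ∈ D j :=
  h.mem_of_π fun i hi => eq_zero_of_orth (h.block i) (h.π_mem x i) fun y hy => by
    rw [← h.polar_π x hy, hx i hi y hy]

include h in
theorem t_pos (x : ι → F) (hx : ¬ InBlock D x) : ∃ i j, i ≠ j ∧ h.π i x ≠ 0 ∧ h.π j x ≠ 0 := by
  obtain ⟨i, hi⟩ : ∃ i, h.π i x ≠ 0 := by
    by_contra hc
    push Not at hc
    exact hx ⟨⟨0, by have := h.dec.decomp.decomp.two_le; omega⟩, h.mem_of_π fun i _ => hc i⟩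
  by_contra hc
  push Not at hc
  exact hx ⟨i, h.mem_of_π fun j hj => hc i j (Ne.symm hj) hi⟩

include h in
theorem not_inBlock {x : ι → F} {i j : Fin t} (hij : i ≠ j) (hi : h.π i x ≠ 0)
    (hj : h.π j x ≠ 0) : ¬ InBlock D x := by
  rintro ⟨l, hl⟩
  by_cases e : i = l
  · exact hj (h.π_other (e ▸ hij.symm) hl)
  · exact hi (h.π_other e hl)

include h

theorem mem_stab {g : GL ι F} (hg : ∀ i, ∀ v ∈ D i, (g : Matrix ι ι F) *ᵥ v ∈ D i) :
    g ∈ decompositionStabilizer D := by
  refine ⟨1, fun i => Submodule.eq_of_le_of_finrank_eq ?_ ?_⟩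
  · rintro _ ⟨v, hv, rfl⟩
    rw [Matrix.toLin'_apply, Equiv.Perm.one_apply]
    exact hg i v hv
  · rw [← (Submodule.equivMapOfInjective _ (fun x y e => gl_mulVec_injective g (by simpa using e))
      (D i)).finrank_eq, Equiv.Perm.one_apply]

theorem rr_fixes {i : Fin t} {x : ι → F} (hx : x ∈ D i) {j : Fin t} {v : ι → F} (hv : v ∈ D j) :
    (rr h.qform x : Matrix ι ι F) *ᵥ v ∈ D j := by
  by_cases hQx : Q x = 0
  · rw [rr, dif_neg (not_not.2 hQx), Units.val_one, one_mulVec]; exact hv
  by_cases e : j = i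
  · rw [rr_mulVec _ hQx]
    exact (D j).sub_mem hv ((D j).smul_mem _ (e ▸ hx))
  · rw [rr_fix _ (h.orth e hv hx)]; exact hv

theorem pair_stab {i l : Fin t} {x y : ι → F} (hx : x ∈ D i) (hy : y ∈ D l) :
    rr h.qform x * rr h.qform y ∈ decompositionStabilizer D :=
  h.mem_stab fun _ v hv => by rw [gl_mulVec_mul]; exact h.rr_fixes hx (h.rr_fixes hy hv)

variable [Fintype F]

/-- An isometry keeping the vectors of one value inside the members permutes the members. -/
theorem mem_stab_of_value (h3 : 3 ≤ k) (h4 : (2 : F) = 0 → 4 ≤ k)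
    (hk3 : k = 3 → 5 ≤ Fintype.card F)
    (hk4 : k = 4 → Fintype.card F = 2 → ∀ i, ¬ IsPlusTypeOn ⇑Q (D i))
    {m : GL ι F} (hm : m ∈ Cfsg.isometryGroup F ⇑Q) {c : F} (hc : c ≠ 0)
    (hblk : ∀ i, ∀ x ∈ D i, Q x = c → InBlock D ((m : Matrix ι ι F) *ᵥ x)) :
    m ∈ decompositionStabilizer D := by
  classical
  have d3 : ∀ i, 3 ≤ finrank F (D i) := fun i => by rw [h.dim]; exact h3
  have d4 : ∀ i, (2 : F) = 0 → 4 ≤ finrank F (D i) := fun i e => by rw [h.dim]; exact h4 e
  have hpol : ∀ a b, polar Q ((m : Matrix ι ι F) *ᵥ a) ((m : Matrix ι ι F) *ᵥ b) = polar Q a b :=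
    fun a b => Om.iso_polar h.qform hm a b
  have hval0 : ∀ x, Q x = c → x ≠ 0 := fun x hx e => hc (by rw [← hx, e, map_zero Q])
  choose x₀ hx₀ hx₀0 hQx₀ using fun i => exists_value (h.block i) (d3 i) (d4 i) c
  choose σ hσ using fun i => hblk i _ (hx₀ i) (hQx₀ i)
  have hmap : ∀ i, ∀ v ∈ D i, (m : Matrix ι ι F) *ᵥ v ∈ D (σ i) := by
    intro i
    have hnonorth : ∀ x y : ι → F, x ∈ D i → y ∈ D i → Q y = c → polar Q x y ≠ 0 → ∀ j,
        (m : Matrix ι ι F) *ᵥ x ∈ D j → (m : Matrix ι ι F) *ᵥ y ∈ D j := by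
      intro x y _ hy hQy hne j hj
      obtain ⟨l, hl⟩ := hblk i y hy hQy
      by_cases e : j = l
      · exact e ▸ hl
      · exact absurd (h.orth e hj hl) (by rwa [hpol])
    have hall : ∀ y ∈ D i, Q y = c → (m : Matrix ι ι F) *ᵥ y ∈ D (σ i) := by
      intro y hy hQy
      by_cases hne : polar Q (x₀ i) y = 0
      swap
      · exact hnonorth _ y (hx₀ i) hy hQy hne _ (hσ i)
      by_cases hli : LinearIndependent F ![x₀ i, y]
      · obtain ⟨z, hz, hQz, hxz, hyz⟩ := exists_connect (h.block i) (d3 i) (d4 i)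
          (fun e => hk3 (by rw [← e, h.dim])) (fun e f => hk4 (by rw [← e, h.dim]) f i)
          (hx₀ i) hy hc (hQx₀ i) hQy hne hli
        exact hnonorth z y hz hy hQy (by rwa [polar_comm]) _
          (hnonorth _ z (hx₀ i) hz hQz hxz _ (hσ i))
      · rw [LinearIndependent.pair_iff' (hx₀0 i)] at hli
        push Not at hli
        obtain ⟨e, he⟩ := hli
        rw [← he, mulVec_smul]
        exact (D (σ i)).smul_mem _ (hσ i)
    intro v hv
    by_contra hvn
    set C := D i ⊓ (D (σ i)).comap (Matrix.mulVecLin (m : Matrix ι ι F)) with hC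
    obtain ⟨φ, hφv, hφC⟩ := Submodule.exists_dual_map_eq_bot_of_notMem
      (p := C) (x := v) (fun hvC => hvn hvC.2) inferInstance
    obtain ⟨w, hw, hwφ⟩ := exists_dual (h.block i) φ
    have hw0 : w ≠ 0 := fun e => hφv (by rw [← hwφ v hv, e, polar_zero_right])
    obtain ⟨y, hy, hQy, hwy⟩ := exists_value_polar (h.block i) (d3 i) (d4 i) hw hw0 c 1
      (Or.inr one_ne_zero)
    have h1 : polar Q y w = 0 := by
      rw [hwφ y hy]
      exact (Submodule.mem_bot F).1 (hφC ▸ Submodule.mem_map_of_mem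
        (show y ∈ C from ⟨hy, hall y hy hQy⟩))
    rw [polar_comm, h1] at hwy
    exact zero_ne_one hwy
  have hinj : Function.Injective σ := by
    intro i j e
    by_contra hne
    have hle : ∀ l, (D l).map (Matrix.mulVecLin (m : Matrix ι ι F)) = D (σ l) := fun l =>
      Submodule.eq_of_le_of_finrank_eq (by rintro _ ⟨v, hv, rfl⟩; exact hmap l v hv)
        (by rw [← (Submodule.equivMapOfInjective _ (gl_mulVec_injective m) (D l)).finrank_eq,
          h.dim, h.dim])
    have hij : D i = D j := Submodule.map_injective_of_injective (gl_mulVec_injective m)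
      (by rw [hle, hle, e])
    exact hne (h.eq_index (hx₀ i) (hij ▸ hx₀ i) (hx₀0 i))
  refine ⟨Equiv.ofBijective σ hinj.bijective_of_finite, fun i =>
    Submodule.eq_of_le_of_finrank_eq ?_ ?_⟩
  · rintro _ ⟨v, hv, rfl⟩
    rw [Matrix.toLin'_apply, Equiv.ofBijective_apply]
    exact hmap i v hv
  · rw [← (Submodule.equivMapOfInjective _ (fun x y e => gl_mulVec_injective m (by simpa using e))
      (D i)).finrank_eq, h.dim, h.dim]

omit [Fintype F]

/-- If a product of two reflections permutes the members, the components stay in the plane. -/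
theorem pair_comps (h3 : 3 ≤ k) {a d : ι → F} (ha : Q a ≠ 0) (hd : Q d ≠ 0)
    (hli : LinearIndependent F ![a, d])
    (hb : rr h.qform a * rr h.qform d ∈ decompositionStabilizer D) :
    (∀ i, ∀ v ∈ D i, ((rr h.qform a * rr h.qform d : GL ι F) : Matrix ι ι F) *ᵥ v ∈ D i) ∧
      ∀ i, h.π i a ∈ Submodule.span F {a, d} := by
  classical
  set b := rr h.qform a * rr h.qform d with hbdef
  obtain ⟨σ, hσ⟩ := hb
  have hmap : ∀ i, ∀ v ∈ D i, (b : Matrix ι ι F) *ᵥ v ∈ D (σ i) := fun i v hv => by
    rw [← hσ i]; exact ⟨v, hv, Matrix.toLin'_apply _ _⟩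
  set U := Submodule.span F ({a, d} : Set (ι → F)) with hU
  have haU : a ∈ U := Submodule.subset_span (by simp)
  have hdU : d ∈ U := Submodule.subset_span (by simp)
  have hbv : ∀ v, (b : Matrix ι ι F) *ᵥ v - v =
      (-(polar Q v a / Q a) + polar Q v d / Q d * (polar Q d a / Q a)) • a
        + (-(polar Q v d / Q d)) • d := fun v => by
    rw [hbdef, gl_mulVec_mul, rr_mulVec _ hd, rr_mulVec _ ha, polar_sub_left, polar_smul_left,
      smul_eq_mul, sub_div, mul_div_assoc]
    module
  have hbvU : ∀ v, (b : Matrix ι ι F) *ᵥ v - v ∈ U := fun v => by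
    rw [hbv]; exact U.add_mem (U.smul_mem _ haU) (U.smul_mem _ hdU)
  have hU2 : finrank F U ≤ 2 := by
    have := finrank_range_le_card (R := F) (![a, d])
    rw [Matrix.range_cons_cons_empty, Fintype.card_fin] at this
    exact this
  have hfix : ∀ i, σ i = i := by
    intro i
    by_contra hne
    let L : D i →ₗ[F] U :=
      ((Matrix.mulVecLin (b : Matrix ι ι F) - LinearMap.id).comp (D i).subtype).codRestrict U
        fun v => hbvU v
    have hL : Function.Injective L := by
      rw [injective_iff_map_eq_zero]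
      intro v hv
      have e : (b : Matrix ι ι F) *ᵥ (v : ι → F) = v := sub_eq_zero.1 (congrArg Subtype.val hv)
      by_contra hv0
      have := hmap i v v.2
      rw [e] at this
      exact hne (h.eq_index v.2 this (fun e => hv0 (Subtype.ext e))).symm
    have := LinearMap.finrank_le_finrank_of_injective hL
    rw [h.dim] at this
    omega
  have hblk : ∀ i, ∀ v ∈ D i, (b : Matrix ι ι F) *ᵥ v ∈ D i := fun i v hv => by
    have := hmap i v hv
    rwa [hfix i] at this
  refine ⟨hblk, fun i => ?_⟩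
  obtain ⟨φ, hφa, hφd⟩ : ∃ φ : (ι → F) →ₗ[F] F, φ a = 1 ∧ φ d = 0 := by
    obtain ⟨φ, hφ⟩ := LinearMap.exists_extend ((Module.Basis.span hli).constr F (![1, 0] : Fin 2 → F))
    refine ⟨φ, ?_, ?_⟩
    · have := LinearMap.congr_fun hφ (Module.Basis.span hli 0)
      rw [LinearMap.comp_apply, Module.Basis.constr_basis, Module.Basis.span_apply] at this
      simpa using this
    · have := LinearMap.congr_fun hφ (Module.Basis.span hli 1)
      rw [LinearMap.comp_apply, Module.Basis.constr_basis, Module.Basis.span_apply] at this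
      simpa using this
  obtain ⟨w, hw⟩ := Classical.Quad.exists_polar h.nd φ
  have hbw : (b : Matrix ι ι F) *ᵥ w - w = (-(Q a)⁻¹) • a := by
    rw [hbv, hw, hw, hφa, hφd]
    simp
  have hπ : h.π i ((b : Matrix ι ι F) *ᵥ w) = (b : Matrix ι ι F) *ᵥ h.π i w := by
    conv_lhs => rw [← h.π_sum w, mulVec_sum, map_sum]
    rw [Finset.sum_eq_single i]
    · exact h.π_self (hblk i _ (h.π_mem w i))
    · exact fun j _ hji => h.π_other (Ne.symm hji) (hblk j _ (h.π_mem w j))
    · exact fun hn => absurd (Finset.mem_univ i) hn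
  have hmem := hbvU (h.π i w)
  rw [← hπ, ← map_sub, hbw, map_smul] at hmem
  exact (U.smul_mem_iff (neg_ne_zero.2 (inv_ne_zero ha))).1 hmem

/-- A vector with three components. -/
theorem pair_notMem_three (h3 : 3 ≤ k) {a d : ι → F} (ha : Q a ≠ 0) (hd : Q d ≠ 0)
    (hli : LinearIndependent F ![a, d]) {i j l : Fin t} (hij : i ≠ j) (hil : i ≠ l) (hjl : j ≠ l)
    (hi : h.π i a ≠ 0) (hj : h.π j a ≠ 0) (hl : h.π l a ≠ 0) :
    rr h.qform a * rr h.qform d ∉ decompositionStabilizer D := by
  classical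
  intro hb
  obtain ⟨-, hU⟩ := h.pair_comps h3 ha hd hli hb
  have hind : LinearIndependent F ![h.π i a, h.π j a, h.π l a] := by
    refine Fintype.linearIndependent_iff.2 fun f hf => ?_
    simp only [Fin.sum_univ_three, Matrix.cons_val_zero, Matrix.cons_val_one,
      Matrix.cons_val_two, Matrix.tail_cons, Matrix.head_cons] at hf
    have e0 := congrArg (h.π i) hf
    have e1 := congrArg (h.π j) hf
    have e2 := congrArg (h.π l) hf
    simp [map_add, map_smul, h.π_self (h.π_mem a _), h.π_other hij (h.π_mem a j),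
      h.π_other hij.symm (h.π_mem a i), h.π_other hil (h.π_mem a l),
      h.π_other hil.symm (h.π_mem a i), h.π_other hjl (h.π_mem a l),
      h.π_other hjl.symm (h.π_mem a j), hi, hj, hl] at e0 e1 e2
    intro z; fin_cases z <;> assumption
  have hle : Submodule.span F (Set.range ![h.π i a, h.π j a, h.π l a]) ≤ Submodule.span F {a, d} :=
    Submodule.span_le.2 (Set.range_subset_iff.2 fun z => by fin_cases z <;> exact hU _)
  have h1 := Submodule.finrank_mono hle
  rw [finrank_span_eq_card hind, Fintype.card_fin] at h1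
  have := finrank_range_le_card (R := F) (![a, d])
  rw [Matrix.range_cons_cons_empty, Fintype.card_fin] at this
  have h2 : finrank F ↥(Submodule.span F ({a, d} : Set (ι → F))) ≤ 2 := this
  omega

/-- A vector with two components, not orthogonal to the other one. -/
theorem pair_notMem (h3 : 3 ≤ k) {a d : ι → F} (ha : Q a ≠ 0) (hd : Q d ≠ 0)
    (hli : LinearIndependent F ![a, d]) (hab : ¬ InBlock D a) (hne : polar Q a d ≠ 0) :
    rr h.qform a * rr h.qform d ∉ decompositionStabilizer D := by
  classical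
  intro hb
  obtain ⟨i, j, hij, hi, hj⟩ := h.t_pos a hab
  obtain ⟨hblk, hU⟩ := h.pair_comps h3 ha hd hli hb
  set b := rr h.qform a * rr h.qform d with hbdef
  set p := h.π i a
  set p' := h.π j a
  have hpi : p ∈ D i := h.π_mem a i
  have hp'j : p' ∈ D j := h.π_mem a j
  have hpp : LinearIndependent F ![p, p'] := (LinearIndependent.pair_iff' hi).2 fun e he =>
    hj (by
      have := congrArg (h.π j) he
      rwa [map_smul, h.π_other hij.symm hpi, smul_zero, h.π_self hp'j, eq_comm] at this)
  have hspan : Submodule.span F (Set.range ![p, p']) = Submodule.span F {a, d} := by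
    refine Submodule.eq_of_le_of_finrank_le
      (Submodule.span_le.2 (Set.range_subset_iff.2 (Fin.forall_fin_two.2 ⟨hU i, hU j⟩))) ?_
    have := finrank_range_le_card (R := F) (![a, d])
    rw [Matrix.range_cons_cons_empty] at this
    rw [finrank_span_eq_card hpp]
    exact this
  have hin : ∀ v ∈ Submodule.span F ({a, d} : Set (ι → F)), ∃ r s : F, v = r • p + s • p' := by
    intro v hv
    rw [← hspan, Submodule.mem_span_range_iff_exists_fun] at hv
    obtain ⟨f, rfl⟩ := hv
    exact ⟨f 0, f 1, by simp [Fin.sum_univ_two]⟩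
  have hbU : ∀ v ∈ Submodule.span F ({a, d} : Set (ι → F)),
      (b : Matrix ι ι F) *ᵥ v ∈ Submodule.span F ({a, d} : Set (ι → F)) := by
    intro v hv
    rw [hbdef, gl_mulVec_mul, rr_mulVec _ hd, rr_mulVec _ ha]
    exact Submodule.sub_mem _ (Submodule.sub_mem _ hv
      (Submodule.smul_mem _ _ (Submodule.subset_span (by simp))))
      (Submodule.smul_mem _ _ (Submodule.subset_span (by simp)))
  have haS : a ∈ Submodule.span F ({a, d} : Set (ι → F)) := Submodule.subset_span (by simp)
  have hdS : d ∈ Submodule.span F ({a, d} : Set (ι → F)) := Submodule.subset_span (by simp)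
  -- the two lines are preserved with eigenvalues ±1
  have key : ∀ (u : ι → F) (i j : Fin t), i ≠ j → u ∈ D i →
      u ∈ Submodule.span F ({a, d} : Set (ι → F)) →
      ∀ u', u' ∈ D j → (∀ v ∈ Submodule.span F ({a, d} : Set (ι → F)), ∃ r s : F, v = r • u + s • u') →
      (b : Matrix ι ι F) *ᵥ ((b : Matrix ι ι F) *ᵥ u) = u := by
    intro u i j hij' hu huS u' hu' hin'
    obtain ⟨r, s, hrs⟩ := hin' _ (hbU u huS)
    have e := congrArg (h.π i) hrs
    rw [h.π_self (hblk i u hu), map_add, map_smul, map_smul, h.π_self hu, h.π_other hij' hu',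
      smul_zero, add_zero] at e
    by_cases hQu : Q u = 0
    · have huu : ∀ v ∈ Submodule.span F ({a, d} : Set (ι → F)), polar Q u v = 0 := fun v hv => by
        obtain ⟨r, s, rfl⟩ := hin' v hv
        rw [polar_add_right, polar_smul_right, polar_smul_right, polar_singular_self hQu,
          h.orth hij' hu hu', smul_zero, smul_zero, add_zero]
      have hf : (b : Matrix ι ι F) *ᵥ u = u := by
        rw [hbdef, gl_mulVec_mul, rr_fix _ (huu d hdS), rr_fix _ (huu a haS)]
      rw [hf, hf]
    · have hr : r * r = 1 := by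
        have h1 : Q ((b : Matrix ι ι F) *ᵥ u) = Q u := by
          rw [hbdef, gl_mulVec_mul]
          exact (Om.iso_Q h.qform (rr_iso _ a) _).trans (Om.iso_Q h.qform (rr_iso _ d) _)
        rw [e, QuadraticMap.map_smul, smul_eq_mul] at h1
        exact mul_right_cancel₀ hQu (by rw [h1, one_mul])
      rw [e, mulVec_smul, e, smul_smul, hr, one_smul]
  have kp := key p i j hij hpi (hU i) p' hp'j hin
  have kp' := key p' j i hij.symm hp'j (hU j) p hpi fun v hv => by
    obtain ⟨r, s, e⟩ := hin v hv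
    exact ⟨s, r, e.trans (add_comm _ _)⟩
  obtain ⟨r, s, hdrs⟩ := hin d hdS
  have hbb : (b : Matrix ι ι F) *ᵥ ((b : Matrix ι ι F) *ᵥ d) = d := by
    rw [hdrs, mulVec_add, mulVec_smul, mulVec_smul, mulVec_add, mulVec_smul, mulVec_smul, kp, kp']
  set β := polar Q a d with hβ
  have hbd : (b : Matrix ι ι F) *ᵥ d = -d + (β / Q a) • a := by
    have e1 : d - (2 * Q d / Q d) • d = -d := by rw [mul_div_assoc, div_self hd, mul_one]; module
    rw [hbdef, gl_mulVec_mul, rr_mulVec _ hd, polar_self', e1, rr_mulVec _ ha, polar_neg_left,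
      polar_comm Q d a, ← hβ, neg_div, neg_smul, sub_neg_eq_add]
  have hba : (b : Matrix ι ι F) *ᵥ a = (-1 + β * β / (Q a * Q d)) • a + (-(β / Q d)) • d := by
    rw [hbdef, gl_mulVec_mul, rr_mulVec _ hd, rr_mulVec _ ha, polar_sub_left, polar_smul_left,
      polar_self', polar_comm Q d a, ← hβ, smul_eq_mul]
    match_scalars
    · field_simp; ring
    · ring
  rw [hbd, mulVec_add, mulVec_neg, mulVec_smul, hbd, hba] at hbb
  have e2 : (β / Q a * (-1 + β * β / (Q a * Q d)) - β / Q a) • a
      + (-(β / Q a * (β / Q d))) • d = 0 := by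
    rw [← sub_eq_zero.2 hbb]; module
  have e3 := (LinearIndependent.pair_iff.1 hli _ _ e2).2
  rw [neg_eq_zero, mul_eq_zero, div_eq_zero_iff, div_eq_zero_iff] at e3
  exact hne (e3.elim (fun e => e.resolve_right ha) fun e => e.resolve_right hd)

end Dec

end CfsgLib.ClassicalMax.OmD
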