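/-
Maximality of stabilisers of orthogonal decompositions into members of dimension at least three.
-/
import Cfsg.Agent.Lib.ClassicalMax.OrthDecompBlocks
import Cfsg.Agent.Lib.ClassicalMax.Frames
set_option autoImplicit false

namespace CfsgLib.ClassicalMax.OmD

open Matrix Cfsg.Geo QuadraticMap Module
open CfsgLib.Classical.Quad (NDPolar Frame polar_self' polar_singular_self Q_comb1)
open CfsgLib.ClassicalMax.OmS (SS IsSg exists_sg omega_le_of_pair omega_iso omega_polar SS_mulVec)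

variable {ι : Type} [Fintype ι] [DecidableEq ι] {F : Type*} [Field F] [Fintype F]
  {Q : QuadraticForm F (ι → F)} {t k : ℕ} {D : Fin t → Submodule F (ι → F)}

/-- The decompositions whose stabilisers are treated here. -/
structure Good (Q : QuadraticForm F (ι → F)) (k : ℕ) (D : Fin t → Submodule F (ι → F)) : Prop
    extends Dec Q k D where
  three : 3 ≤ k
  card : 7 ≤ Fintype.card ι
  k3 : k = 3 → (2 : F) ≠ 0 ∧ 5 ≤ Fintype.card F ∧ 3 ≤ t
  k4 : k = 4 → Fintype.card F = 2 → ∀ i, ¬ IsPlusTypeOn ⇑Q (D i)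

namespace Good

variable (G : Good Q k D)
include G

theorem d3 (i : Fin t) : 3 ≤ finrank F (D i) := by rw [G.toDec.dim]; exact G.three

theorem d4 (i : Fin t) (h2 : (2 : F) = 0) : 4 ≤ finrank F (D i) := by
  rw [G.toDec.dim]
  rcases G.three.eq_or_lt with h | h
  · exact absurd h2 (G.k3 h.symm).1
  · omega

theorem vp {i : Fin t} {x : ι → F} (hx : x ∈ D i) (hx0 : x ≠ 0) (c β : F) (h : Q x ≠ 0 ∨ β ≠ 0) :
    ∃ y ∈ D i, Q y = c ∧ polar Q x y = β :=
  exists_value_polar (G.toDec.block i) (G.d3 i) (G.d4 i) hx hx0 c β h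

theorem value (i : Fin t) (c : F) : ∃ y ∈ D i, y ≠ 0 ∧ Q y = c :=
  exists_value (G.toDec.block i) (G.d3 i) (G.d4 i) c

theorem mem_stab_of_value {m : GL ι F} (hm : m ∈ omegaGL ⇑Q) {c : F} (hc : c ≠ 0)
    (h : ∀ i, ∀ x ∈ D i, Q x = c → InBlock D ((m : Matrix ι ι F) *ᵥ x)) :
    m ∈ decompositionStabilizer D :=
  G.toDec.mem_stab_of_value G.three
    (fun h2 => by have := G.d4 (⟨0, by have := G.dec.decomp.decomp.two_le; omega⟩ : Fin t) h2
                  rwa [G.toDec.dim] at this)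
    (fun e => (G.k3 e).2.1) G.k4 (Om.omega_le hm) hc h

/-- Another vector of the same value, not orthogonal. -/
theorem exists_partner {i : Fin t} {x : ι → F} (hx : x ∈ D i) (hQx : Q x ≠ 0) :
    ∃ y ∈ D i, Q y = Q x ∧ polar Q x y ≠ 0 ∧ LinearIndependent F ![x, y] := by
  have hx0 : x ≠ 0 := fun e => hQx (by rw [e, map_zero Q])
  by_cases h2 : (2 : F) = 0
  · obtain ⟨y, hy, hQy, hxy⟩ := G.vp hx hx0 (Q x) 1 (Or.inl hQx)
    refine ⟨y, hy, hQy, by rw [hxy]; exact one_ne_zero, (LinearIndependent.pair_iff' hx0).2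
      fun e he => ?_⟩
    rw [← he, polar_smul_right, polar_self', h2, zero_mul, smul_zero] at hxy
    exact zero_ne_one hxy
  have h2x : 2 * Q x ≠ 0 := mul_ne_zero h2 hQx
  by_cases hk : k = 3
  · obtain ⟨β, hβ0, hβ1, hβ2⟩ := exists_ne_three (G.k3 hk).2.1 (2 * Q x) (-(2 * Q x))
    obtain ⟨y, hy, hQy, hxy⟩ := G.vp hx hx0 (Q x) β (Or.inl hQx)
    refine ⟨y, hy, hQy, by rw [hxy]; exact hβ0, (LinearIndependent.pair_iff' hx0).2 fun e he => ?_⟩
    have he2 : e * e = 1 := by
      have := hQy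
      rw [← he, QuadraticMap.map_smul, smul_eq_mul] at this
      exact mul_right_cancel₀ hQx (by rw [this, one_mul])
    rw [← he, polar_smul_right, polar_self', smul_eq_mul] at hxy
    rcases mul_self_eq_one_iff.1 he2 with h | h <;> rw [h] at hxy
    · exact hβ1 (by rw [← hxy, one_mul])
    · exact hβ2 (by rw [← hxy, neg_one_mul])
  · have hd : 3 ≤ finrank F ↥(perp Q (D i) x) := by
      have := finrank_perp (Q := Q) (D i) x
      rw [G.toDec.dim] at this
      have := G.three; omega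
    obtain ⟨s, hs, hs0, hQs⟩ := OmN.exists_singular_in (Q := Q) hd
    have hxs : polar Q x s = 0 := by rw [polar_comm]; exact hs.2
    refine ⟨x + s, (D i).add_mem hx hs.1, ?_, ?_, (LinearIndependent.pair_iff' hx0).2 fun e he => ?_⟩
    · rw [QuadraticMap.map_add (⇑Q), hQs, hxs]; ring
    · rw [polar_add_right, hxs, add_zero, polar_self']; exact h2x
    · have : s = (e - 1) • x := by rw [sub_smul, one_smul, he, add_sub_cancel_left]
      rw [this, polar_smul_right, polar_self', smul_eq_mul, mul_eq_zero] at hxs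
      rw [hxs.resolve_right h2x, zero_smul] at this
      exact hs0 this

/-- A conjugated pair of reflections outside the stabiliser and a vector it fixes. -/
theorem exists_special {g : GL ι F} (hg : g ∈ omegaGL ⇑Q) (hgs : g ∉ decompositionStabilizer D) :
    ∃ (i l : Fin t) (x y s : ι → F), x ∈ D i ∧ y ∈ D i ∧ s ∈ D l ∧ Q x ≠ 0 ∧ Q y ≠ 0 ∧
      IsSquare (Q x * Q y) ∧ Q s ≠ 0 ∧
      polar Q s ((g : Matrix ι ι F) *ᵥ x) = 0 ∧ polar Q s ((g : Matrix ι ι F) *ᵥ y) = 0 ∧
      rr G.toDec.qform ((g : Matrix ι ι F) *ᵥ x) * rr G.toDec.qform ((g : Matrix ι ι F) *ᵥ y)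
        ∉ decompositionStabilizer D := by
  classical
  have hD := G.toDec
  have hgood : ∃ i, ∃ x ∈ D i, Q x = 1 ∧ ¬ InBlock D ((g : Matrix ι ι F) *ᵥ x) := by
    by_contra hc
    push Not at hc
    exact hgs (G.mem_stab_of_value hg one_ne_zero hc)
  have hli : ∀ x y : ι → F, LinearIndependent F ![x, y] →
      LinearIndependent F ![(g : Matrix ι ι F) *ᵥ x, (g : Matrix ι ι F) *ᵥ y] := fun x y hxy =>
    LinearIndependent.pair_iff.2 fun a b e => LinearIndependent.pair_iff.1 hxy a b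
      (gl_mulVec_injective g (by simpa [mulVec_add, mulVec_smul] using e))
  have simple : ∀ i x, x ∈ D i → Q x = 1 → ¬ InBlock D ((g : Matrix ι ι F) *ᵥ x) →
      (∀ y, y ∈ D i → ∃ l, ∃ s ∈ D l, Q s ≠ 0 ∧ polar Q s ((g : Matrix ι ι F) *ᵥ x) = 0 ∧
        polar Q s ((g : Matrix ι ι F) *ᵥ y) = 0) →
      ∃ (i l : Fin t) (x y s : ι → F), x ∈ D i ∧ y ∈ D i ∧ s ∈ D l ∧ Q x ≠ 0 ∧ Q y ≠ 0 ∧
        IsSquare (Q x * Q y) ∧ Q s ≠ 0 ∧
        polar Q s ((g : Matrix ι ι F) *ᵥ x) = 0 ∧ polar Q s ((g : Matrix ι ι F) *ᵥ y) = 0 ∧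
        rr G.toDec.qform ((g : Matrix ι ι F) *ᵥ x) * rr G.toDec.qform ((g : Matrix ι ι F) *ᵥ y)
          ∉ decompositionStabilizer D := by
    intro i x hx hQx hnb hW
    obtain ⟨y, hy, hQy, hxy, hxyli⟩ := G.exists_partner hx (by rw [hQx]; exact one_ne_zero)
    obtain ⟨l, s, hs, hQs, hsx, hsy⟩ := hW y hy
    refine ⟨i, l, x, y, s, hx, hy, hs, by rw [hQx]; exact one_ne_zero,
      by rw [hQy, hQx]; exact one_ne_zero, ⟨1, by rw [hQy, hQx]⟩, hQs, hsx, hsy, ?_⟩
    refine hD.pair_notMem G.three (by rw [omega_iso hg, hQx]; exact one_ne_zero)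
      (by rw [omega_iso hg, hQy, hQx]; exact one_ne_zero) (hli x y hxyli) hnb ?_
    rw [omega_polar hg]; exact hxy
  obtain ⟨i, x, hx, hQx, hnb⟩ := hgood
  set gx := (g : Matrix ι ι F) *ᵥ x with hgx
  by_cases hk5 : 5 ≤ k
  · refine simple i x hx hQx hnb fun y _ => ⟨i, ?_⟩
    obtain ⟨s, hs, hQs⟩ := exists_nonsing (hD.block i)
      (W := perp Q (perp Q (D i) gx) ((g : Matrix ι ι F) *ᵥ y)) (inf_le_left.trans inf_le_left)
      (by
        have := finrank_perp (Q := Q) (D i) gx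
        have := finrank_perp (Q := Q) (perp Q (D i) gx) ((g : Matrix ι ι F) *ᵥ y)
        rw [hD.dim] at *
        omega)
    exact ⟨s, hs.1.1, hQs, hs.1.2, hs.2⟩
  by_cases hk4 : k = 4
  · refine simple i x hx hQx hnb fun y _ => ?_
    by_contra hc
    push Not at hc
    have hzero : ∀ l, Q (hD.π l gx) = 0 := by
      intro l
      set W := perp Q (perp Q (D l) gx) ((g : Matrix ι ι F) *ᵥ y) with hWdef
      have hWle : W ≤ D l := inf_le_left.trans inf_le_left
      have hWts : ∀ w ∈ W, Q w = 0 := fun w hw => by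
        by_contra hne
        exact hc l w hw.1.1 hne hw.1.2 hw.2
      have hWd : 2 ≤ finrank F W := by
        have := finrank_perp (Q := Q) (D l) gx
        have := finrank_perp (Q := Q) (perp Q (D l) gx) ((g : Matrix ι ι F) *ᵥ y)
        rw [hD.dim, hk4] at *
        rw [← hWdef] at *
        omega
      set W' := W ⊔ Submodule.span F {hD.π l gx} with hW'
      have hW'le : W' ≤ D l := sup_le hWle ((Submodule.span_singleton_le_iff_mem _ _).2 (hD.π_mem gx l))
      have hπW : hD.π l gx ∈ W := by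
        by_contra hn
        let P : Submodule F (ι → F) := W' ⊓ LinearMap.ker ((polarBilin Q).flip (hD.π l gx))
        have hW0 : ∀ a ∈ W, ∀ b ∈ W', polar Q a b = 0 := by
          intro a ha b hb
          obtain ⟨b₁, hb₁, b₂, hb₂, rfl⟩ := Submodule.mem_sup.1 hb
          obtain ⟨e, rfl⟩ := Submodule.mem_span_singleton.1 hb₂
          rw [polar_add_right, OmE.ts_polar hWts ha hb₁, polar_smul_right, polar_comm Q a,
            ← hD.polar_π gx (hWle ha), polar_comm Q gx, show polar Q a gx = 0 from ha.1.2]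
          simp
        let L : D l →ₗ[F] Module.Dual F W := ((polarBilin Q).comp (D l).subtype).compl₂ W.subtype
        have hle : W'.comap (D l).subtype ≤ LinearMap.ker L := fun v hv =>
          LinearMap.mem_ker.2 (LinearMap.ext fun a => (polar_comm Q _ _).trans (hW0 _ a.2 _ hv))
        have hsurj : Function.Surjective L := by
          intro φ
          obtain ⟨f, hf⟩ := LinearMap.exists_extend φ
          obtain ⟨w, hw, hwf⟩ := exists_dual (hD.block l) f
          refine ⟨⟨w, hw⟩, LinearMap.ext fun a => ?_⟩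
          rw [← hf]
          exact (polar_comm Q w a).trans (hwf _ (hWle a.2))
        have h1 := LinearMap.finrank_range_add_finrank_ker L
        have h2 := Submodule.finrank_mono hle
        rw [LinearMap.range_eq_top.2 hsurj, finrank_top, Subspace.dual_finrank_eq, hD.dim, hk4] at h1
        rw [(Submodule.comapSubtypeEquivOfLe hW'le).finrank_eq, hW',
          OrthGeom.finrank_sup_span hn] at h2
        omega
      exact hWts _ hπW
    have h1 : Q gx = 0 := by rw [hD.Q_sum gx]; exact Finset.sum_eq_zero fun l _ => hzero l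
    rw [hgx, omega_iso hg, hQx] at h1
    exact one_ne_zero h1
  have hk3 : k = 3 := by have := G.three; omega
  obtain ⟨h2, h5, ht⟩ := G.k3 hk3
  by_cases hA : ∃ (i : Fin t) (x : ι → F) (l : Fin t), x ∈ D i ∧ Q x = 1 ∧
      ¬ InBlock D ((g : Matrix ι ι F) *ᵥ x) ∧ hD.π l ((g : Matrix ι ι F) *ᵥ x) = 0
  · obtain ⟨i, x, l, hx, hQx, hnb, hl⟩ := hA
    refine simple i x hx hQx hnb fun y _ => ⟨l, ?_⟩
    obtain ⟨s, hs, hQs⟩ := exists_nonsing (hD.block l)
      (W := perp Q (D l) ((g : Matrix ι ι F) *ᵥ y)) inf_le_left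
      (by
        have := finrank_perp (Q := Q) (D l) ((g : Matrix ι ι F) *ᵥ y)
        rw [hD.dim, hk3] at *
        omega)
    exact ⟨s, hs.1, hQs, by rw [polar_comm, hD.polar_π _ hs.1, hl, polar_zero_left], hs.2⟩
  push Not at hA
  obtain ⟨l, hl⟩ : ∃ l, Q (hD.π l gx) ≠ 0 := by
    by_contra hc
    push Not at hc
    have h1 : Q gx = 0 := by rw [hD.Q_sum gx]; exact Finset.sum_eq_zero fun l _ => hc l
    rw [hgx, omega_iso hg, hQx] at h1
    exact one_ne_zero h1
  set a := hD.π l gx with ha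
  set A := Q a with hA'
  have h2A : 2 * A ≠ 0 := mul_ne_zero h2 hl
  let φ : (ι → F) →ₗ[F] (ι → F) := (hD.π l).comp (Matrix.mulVecLin (g : Matrix ι ι F))
  let ψ : (ι → F) →ₗ[F] (ι → F) := φ - (((2 * A)⁻¹ • (polarBilin Q a)).comp φ).smulRight a
  have hψ : ∀ w, ψ w = φ w - ((2 * A)⁻¹ * polar Q a (φ w)) • a := fun w => rfl
  have hψa : ∀ w, polar Q a (ψ w) = 0 := fun w => by
    rw [hψ, polar_sub_right, polar_smul_right, polar_self', ← hA', smul_eq_mul]
    field_simp
    ring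
  have hψmem : ∀ w, ψ w ∈ D l := fun w => by
    rw [hψ]; exact (D l).sub_mem (hD.π_mem _ l) ((D l).smul_mem _ (hD.π_mem gx l))
  have hx0 : x ≠ 0 := fun e => one_ne_zero (α := F) (by rw [← hQx, e, map_zero Q])
  set P := perp Q (D i) x with hPdef
  have hPd : 2 ≤ finrank F P := by
    have := finrank_perp (Q := Q) (D i) x
    rw [hD.dim, hk3, ← hPdef] at this
    omega
  obtain ⟨w, hw, hw0, hψw⟩ : ∃ w ∈ P, w ≠ 0 ∧ (ψ w = 0 ∨ Q (ψ w) ≠ 0) := by
    by_contra hc
    push Not at hc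
    have hinj : Function.Injective (ψ.domRestrict P) := by
      rw [injective_iff_map_eq_zero]
      intro v hv
      by_contra hv0
      exact (hc v v.2 (fun e => hv0 (Subtype.ext e))).1 hv
    have h1 : finrank F (P.map ψ) = finrank F P := by
      rw [← LinearMap.range_domRestrict, LinearMap.finrank_range_of_inj hinj]
    obtain ⟨v, hv, hQv⟩ := exists_nonsing (hD.block l) (W := P.map ψ)
      (by rintro _ ⟨v, -, rfl⟩; exact hψmem v) (by rw [hD.dim, hk3]; omega)
    obtain ⟨v', hv', rfl⟩ := hv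
    rcases eq_or_ne v' 0 with rfl | hne
    · exact hQv (by rw [map_zero, map_zero Q])
    · exact hQv (hc v' hv' hne).2
  have hwx : polar Q x w = 0 := by rw [polar_comm]; exact hw.2
  obtain ⟨α, hα⟩ : ∃ α : F, α * α + Q w ≠ 0 ∧ IsSquare (α * α + Q w) := by
    by_cases hQw : Q w = 0
    · exact ⟨1, by rw [hQw]; simp, by rw [hQw]; simp⟩
    obtain ⟨u, hu0, hu⟩ : ∃ u : F, u ≠ 0 ∧ u * u + Q w ≠ 0 := by
      obtain ⟨u, hu0, hu1, hu2⟩ := exists_ne_three h5 (1 : F) (-1)
      by_cases h1 : 1 + Q w = 0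
      · refine ⟨u, hu0, fun e => ?_⟩
        rcases mul_self_eq_one_iff.1 (by linear_combination e - h1 : u * u = 1) with h | h
        · exact hu1 h
        · exact hu2 h
      · exact ⟨1, one_ne_zero, by simpa using h1⟩
    refine ⟨(Q w / u - u) / 2, ?_⟩
    have e : (Q w / u - u) / 2 * ((Q w / u - u) / 2) + Q w
        = (u + Q w / u) / 2 * ((u + Q w / u) / 2) := by field_simp; ring
    rw [e]
    refine ⟨mul_self_ne_zero.2 (div_ne_zero (fun h => hu ?_) h2), _, rfl⟩
    field_simp at h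
    linear_combination h
  set y := α • x + w with hy
  have hyD : y ∈ D i := (D i).add_mem ((D i).smul_mem _ hx) hw.1
  have hQy : Q y = α * α + Q w := by
    rw [hy, QuadraticMap.map_add (⇑Q), QuadraticMap.map_smul, polar_smul_left, hQx, hwx]
    simp
  have hxyli : LinearIndependent F ![x, y] := (LinearIndependent.pair_iff' hx0).2 fun e he => by
    have hwe : w = (e - α) • x := by rw [sub_smul, he, hy, add_sub_cancel_left]
    rw [hwe, polar_smul_right, polar_self', hQx, mul_one, smul_eq_mul] at hwx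
    rw [(mul_eq_zero.1 hwx).resolve_right h2, zero_smul] at hwe
    exact hw0 hwe
  have hφy : φ y = α • a + φ w := by rw [hy, map_add, map_smul]; rfl
  -- a fixed vector in the member `l`
  obtain ⟨s, hs, hQs, hsa, hsw⟩ : ∃ s ∈ D l, Q s ≠ 0 ∧ polar Q s a = 0 ∧ polar Q s (ψ w) = 0 := by
    rcases hψw with h0 | h0
    · obtain ⟨s, hs, hQs⟩ := exists_nonsing (hD.block l) (W := perp Q (D l) a) inf_le_left
        (by
          have := finrank_perp (Q := Q) (D l) a
          rw [hD.dim, hk3] at *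
          omega)
      exact ⟨s, hs.1, hQs, hs.2, by rw [h0, polar_zero_right]⟩
    · obtain ⟨s, hs, hs0⟩ := exists_ne_zero_mem (S := perp Q (perp Q (D l) a) (ψ w)) (by
        have := finrank_perp (Q := Q) (D l) a
        have := finrank_perp (Q := Q) (perp Q (D l) a) (ψ w)
        rw [hD.dim, hk3] at *
        omega)
      refine ⟨s, hs.1.1, fun hQs => ?_, hs.1.2, hs.2⟩
      have hsa : polar Q s a = 0 := hs.1.2
      have hsw : polar Q s (ψ w) = 0 := hs.2
      have hli3 : LinearIndependent F ![a, ψ w, s] := by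
        refine Fintype.linearIndependent_iff.2 fun f hf => ?_
        simp only [Fin.sum_univ_three, Matrix.cons_val_zero, Matrix.cons_val_one,
          Matrix.cons_val_two, Matrix.tail_cons, Matrix.head_cons] at hf
        have e0 := congrArg (fun z => polar Q z a) hf
        have e1 := congrArg (fun z => polar Q z (ψ w)) hf
        simp [polar_add_left, polar_smul_left, polar_self', ← hA', hsa, hsw, hψa, h2, hl, h0,
          polar_comm Q (ψ w) a] at e0 e1
        rw [e0, e1, zero_smul, zero_smul, zero_add, zero_add] at hf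
        have e2 := (smul_eq_zero.1 hf).resolve_right hs0
        intro z; fin_cases z <;> assumption
      have hspan : Submodule.span F (Set.range ![a, ψ w, s]) = D l :=
        Submodule.eq_of_le_of_finrank_le (Submodule.span_le.2 (Set.range_subset_iff.2 fun z => by
          fin_cases z
          · exact hD.π_mem gx l
          · exact hψmem w
          · exact hs.1.1)) (by rw [finrank_span_eq_card hli3, hD.dim, hk3, Fintype.card_fin])
      refine hs0 (eq_zero_of_orth (hD.block l) hs.1.1 fun z hz => ?_)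
      rw [← hspan, Submodule.mem_span_range_iff_exists_fun] at hz
      obtain ⟨f, rfl⟩ := hz
      simp [Fin.sum_univ_three, polar_add_right, polar_smul_right, hsa, hsw,
        polar_singular_self hQs]
  refine ⟨i, l, x, y, s, hx, hyD, hs, by rw [hQx]; exact one_ne_zero, by rw [hQy]; exact hα.1,
    by rw [hQx, hQy, one_mul]; exact hα.2, hQs, ?_, ?_, ?_⟩
  · rw [polar_comm, hD.polar_π gx hs, polar_comm]; exact hsa
  · have e : φ w = ψ w + ((2 * A)⁻¹ * polar Q a (φ w)) • a := by rw [hψ, sub_add_cancel]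
    rw [polar_comm, hD.polar_π _ hs, polar_comm]
    change polar Q s (φ y) = 0
    rw [hφy, e, polar_add_right, polar_add_right, polar_smul_right, polar_smul_right, hsa, hsw]
    simp
  · obtain ⟨p, q, r, hpq, hpr, hqr⟩ : ∃ p q r : Fin t, p ≠ q ∧ p ≠ r ∧ q ≠ r :=
      ⟨⟨0, by omega⟩, ⟨1, by omega⟩, ⟨2, by omega⟩, by simp, by simp, by simp⟩
    refine hD.pair_notMem_three G.three (by rw [omega_iso hg, hQx]; exact one_ne_zero)
      (by rw [omega_iso hg, hQy]; exact hα.1) (hli x y hxyli) hpq hpr hqr ?_ ?_ ?_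
    all_goals exact hA i x _ hx hQx hnb

/-- The vectors whose reflection, times that in `s`, lies in `M`. -/
def XS (_ : Good Q k D) (M : Subgroup (GL ι F)) (s : ι → F) : Set (ι → F) :=
  {v | Q v ≠ 0 ∧ IsSquare (Q s * Q v) ∧ rr G.toDec.qform s * rr G.toDec.qform v ∈ M}

variable {M : Subgroup (GL ι F)} (hHM : decompositionStabilizer D ⊓ omegaGL ⇑Q ≤ M)
  (hMK : M ≤ omegaGL ⇑Q)

theorem pairH {i l : Fin t} {x y : ι → F} (hx : x ∈ D i) (hy : y ∈ D l) (hQx : Q x ≠ 0)
    (hQy : Q y ≠ 0) (hsq : IsSquare (Q x * Q y)) :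
    rr G.toDec.qform x * rr G.toDec.qform y ∈ decompositionStabilizer D ⊓ omegaGL ⇑Q :=
  ⟨G.toDec.pair_stab hx hy, pair_mem _ G.toDec.nd G.card hQx hQy hsq⟩

include hHM in
theorem X_block {l j : Fin t} {s v : ι → F} (hs : s ∈ D l) (hQs : Q s ≠ 0) (hv : v ∈ D j)
    (hQv : Q v ≠ 0) (hsq : IsSquare (Q s * Q v)) : v ∈ G.XS G M s :=
  ⟨hQv, hsq, hHM (G.pairH hs hv hQs hQv hsq)⟩

theorem X_smul {s v : ι → F} (hv : v ∈ G.XS G M s) {e : F} (he : e ≠ 0) : e • v ∈ G.XS G M s := by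
  refine ⟨?_, ?_, ?_⟩
  · rw [QuadraticMap.map_smul, smul_eq_mul]; exact mul_ne_zero (mul_ne_zero he he) hv.1
  · rw [QuadraticMap.map_smul, smul_eq_mul, mul_left_comm]
    exact (IsSquare.mul_self e).mul hv.2.1
  · rw [rr_smul _ he hv.1]; exact hv.2.2

theorem X_prod {s v w : ι → F} (hv : v ∈ G.XS G M s) (hw : w ∈ G.XS G M s) :
    rr G.toDec.qform v * rr G.toDec.qform w ∈ M := by
  have h := M.mul_mem (M.inv_mem hv.2.2) hw.2.2
  rwa [_root_.mul_inv_rev, rr_inv, rr_inv, mul_assoc, ← mul_assoc (rr _ s), rr_mul_self, one_mul] at h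

theorem X_rr {s a y : ι → F} (ha : a ∈ G.XS G M s) (hy : y ∈ G.XS G M s) :
    (rr G.toDec.qform a : Matrix ι ι F) *ᵥ y ∈ G.XS G M s := by
  have hQ : Q ((rr G.toDec.qform a : Matrix ι ι F) *ᵥ y) = Q y :=
    Om.iso_Q G.toDec.qform (rr_iso _ a) y
  refine ⟨by rw [hQ]; exact hy.1, by rw [hQ]; exact hy.2.1, ?_⟩
  rw [← rr_conj _ (rr_iso _ a) hy.1, rr_inv, ← mul_assoc, ← mul_assoc,
    mul_assoc (rr _ s * rr _ a)]
  exact M.mul_mem ha.2.2 (G.X_prod hy ha)

include hMK in
theorem X_map {s z v : ι → F} {m : GL ι F} (hm : m ∈ M) (hz : z ∈ G.XS G M s)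
    (hmz : (m : Matrix ι ι F) *ᵥ z ∈ G.XS G M s) (hv : v ∈ G.XS G M s) :
    (m : Matrix ι ι F) *ᵥ v ∈ G.XS G M s := by
  have hmo := hMK hm
  refine ⟨by rw [omega_iso hmo]; exact hv.1, by rw [omega_iso hmo]; exact hv.2.1, ?_⟩
  have h := M.mul_mem (M.mul_mem hm (G.X_prod hz hv)) (M.inv_mem hm)
  have h' := M.mul_mem hmz.2.2 h
  rw [← conj_mul, rr_conj _ (Om.omega_le hmo) hz.1, rr_conj _ (Om.omega_le hmo) hv.1,
    mul_assoc, ← mul_assoc (rr _ _) (rr _ _) (rr _ _), rr_mul_self, one_mul] at h'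
  exact h'

include hHM hMK in
theorem X_stab {l : Fin t} {s v : ι → F} (hs : s ∈ D l) (hQs : Q s ≠ 0) {m : GL ι F}
    (hm : m ∈ decompositionStabilizer D ⊓ omegaGL ⇑Q) (hv : v ∈ G.XS G M s) :
    (m : Matrix ι ι F) *ᵥ v ∈ G.XS G M s := by
  obtain ⟨j, hj⟩ := Frames.exists_block_image hm.1 l
  refine G.X_map hMK (hHM hm) (G.X_block hHM hs hQs hs hQs (IsSquare.mul_self _))
    (G.X_block hHM hs hQs (hj s hs) ?_ ?_) hv
  · rw [omega_iso hm.2]; exact hQs
  · rw [omega_iso hm.2]; exact IsSquare.mul_self _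

include hHM hMK in
theorem exists_mixed {g : GL ι F} (hgM : g ∈ M) (hg : g ∉ decompositionStabilizer D) :
    ∃ (l : Fin t) (s x : ι → F), s ∈ D l ∧ Q s ≠ 0 ∧ x ∈ G.XS G M s ∧ Q x = Q s ∧
      ¬ InBlock D x := by
  obtain ⟨i, l, a, b, s, ha, hb, hs, hQa, hQb, hsq, hQs, hsa, hsb, hnot⟩ :=
    G.exists_special (hMK hgM) hg
  set m := rr G.toDec.qform ((g : Matrix ι ι F) *ᵥ a) * rr G.toDec.qform ((g : Matrix ι ι F) *ᵥ b)
    with hm
  have hmM : m ∈ M := by
    have h := M.mul_mem (M.mul_mem hgM (hHM (G.pairH ha hb hQa hQb hsq))) (M.inv_mem hgM)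
    rwa [← conj_mul, rr_conj _ (Om.omega_le (hMK hgM)) hQa,
      rr_conj _ (Om.omega_le (hMK hgM)) hQb] at h
  have hms : (m : Matrix ι ι F) *ᵥ s = s := by
    rw [hm, gl_mulVec_mul, rr_fix _ hsb, rr_fix _ hsa]
  have hsX := G.X_block hHM hs hQs hs hQs (IsSquare.mul_self _)
  by_contra hc
  push Not at hc
  refine hnot (G.mem_stab_of_value (hMK hmM) hQs fun j x hx hQx => ?_)
  exact hc l s _ hs hQs (G.X_map hMK hmM hsX (by rw [hms]; exact hsX)
    (G.X_block hHM hs hQs hx (by rw [hQx]; exact hQs) (by rw [hQx]; exact IsSquare.mul_self _)))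
    (by rw [omega_iso (hMK hmM), hQx])

/-- A Siegel element acting inside one member. -/
theorem exists_sg_block (P : Frame Q) {i : Fin t} {u w : ι → F} (hu : u ∈ D i) (hw : w ∈ D i)
    (hQu : Q u = 0) (huw : polar Q u w = 0) :
    ∃ h ∈ decompositionStabilizer D ⊓ omegaGL ⇑Q, IsSg Q h u w := by
  obtain ⟨h, hh, hhx⟩ := exists_sg G.toDec.nd P hQu huw
  refine ⟨h, ⟨G.toDec.mem_stab fun j v hv => ?_, hh⟩, hhx⟩
  rw [hhx v]
  by_cases e : j = i
  · subst e
    exact (D j).add_mem ((D j).add_mem hv ((D j).smul_mem _ hw)) ((D j).smul_mem _ hu)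
  · rw [G.toDec.orth e hv hu, G.toDec.orth e hv hw]
    simpa using hv

variable {l : Fin t} {s : ι → F} (hs : s ∈ D l) (hQs : Q s ≠ 0)

include hHM hMK hs hQs in
/-- A singular vector of one member plus a vector of another. -/
theorem exists_point_of (P : Frame Q) {x : ι → F} (hx : x ∈ G.XS G M s) (hQx : Q x = Q s)
    {i j : Fin t} (hij : i ≠ j) (hi : Q (G.toDec.π i x) ≠ 0) (hj : G.toDec.π j x ≠ 0)
    {u : ι → F} (hu : u ∈ D i) (hu0 : u ≠ 0) (hQu : Q u = 0)
    (hxu : polar Q (G.toDec.π i x) u = 0) :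
    ∃ r ∈ D j, Q r = Q s ∧ u + r ∈ G.XS G M s := by
  have hD := G.toDec
  set xi := hD.π i x
  have hxi0 : xi ≠ 0 := fun e => hi (by rw [e, map_zero Q])
  have hli : LinearIndependent F ![xi, u] := (LinearIndependent.pair_iff' hxi0).2 fun e he => by
    rw [← he, QuadraticMap.map_smul, smul_eq_mul, mul_eq_zero] at hQu
    rw [mul_self_eq_zero.1 (hQu.resolve_right hi), zero_smul] at he
    exact hu0 he.symm
  obtain ⟨w, hw, hxw, huw⟩ := exists_in_polar_two (hD.block i) (hD.π_mem x i) hu hli (-1) 0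
  obtain ⟨h, hh, hhx⟩ := G.exists_sg_block P hu hw hQu huw
  have hxu' : polar Q x u = 0 := by rw [hD.polar_π x hu]; exact hxu
  have hxw' : polar Q x w = -1 := by rw [hD.polar_π x hw]; exact hxw
  have e1 : (h : Matrix ι ι F) *ᵥ x = x + u := by rw [hhx x, hxu', hxw']; simp
  have hX1 := G.X_stab hHM hMK hs hQs hh hx
  rw [e1] at hX1
  obtain ⟨r, hr, hQr, hxr⟩ := G.vp (hD.π_mem x j) hj (Q s) (Q s) (Or.inr hQs)
  have hrX : r ∈ G.XS G M s :=
    G.X_block hHM hs hQs hr (by rw [hQr]; exact hQs) (by rw [hQr]; exact IsSquare.mul_self _)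
  have hxr' : polar Q x r = Q s := by rw [hD.polar_π x hr]; exact hxr
  have hX2 := G.X_rr hrX hX1
  have e2 : (rr hD.qform r : Matrix ι ι F) *ᵥ (x + u) = x + u - r := by
    rw [rr_mulVec _ (by rw [hQr]; exact hQs), polar_add_left, hxr', hD.orth hij hu hr, add_zero, hQr,
      div_self hQs, one_smul]
  rw [e2] at hX2
  have hX3 := G.X_rr hx hX2
  have e3 : (rr hD.qform x : Matrix ι ι F) *ᵥ (x + u - r) = u + -r := by
    rw [rr_mulVec _ hx.1, polar_sub_left, polar_add_left, polar_self', polar_comm Q u x, hxu',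
      polar_comm Q r x, hxr', hQx, show 2 * Q s + 0 - Q s = Q s by ring, div_self hQs]
    module
  rw [e3] at hX3
  exact ⟨-r, (D j).neg_mem hr, by rw [QuadraticMap.map_neg, hQr], hX3⟩

omit hs hQs in
/-- Vectors of one value in one member have alike perpendiculars. -/
theorem sing_perp_transfer (h2 : (2 : F) ≠ 0) {i : Fin t} {a d u : ι → F} (ha : a ∈ D i)
    (hd : d ∈ D i) (hu : u ∈ D i) (hu0 : u ≠ 0) (hQu : Q u = 0) (hau : polar Q a u = 0)
    (hQa : Q a ≠ 0) (heq : Q d = Q a) :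
    ∃ v ∈ D i, v ≠ 0 ∧ Q v = 0 ∧ polar Q d v = 0 := by
  have fin : ∀ r : ι → F, r ∈ D i → Q r ≠ 0 → (∃ e : F, e ≠ 0 ∧
      (rr G.toDec.qform r : Matrix ι ι F) *ᵥ a = e • d) →
      ∃ v ∈ D i, v ≠ 0 ∧ Q v = 0 ∧ polar Q d v = 0 := by
    rintro r hr hQr ⟨e, he, hmap⟩
    refine ⟨_, G.toDec.rr_fixes hr hu, gl_mulVec_ne_zero _ hu0,
      (Om.iso_Q G.toDec.qform (rr_iso _ r) u).trans hQu, ?_⟩
    have h := Om.iso_polar G.toDec.qform (rr_iso G.toDec.qform r) a u
    rw [hmap, polar_smul_left, hau, smul_eq_mul] at h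
    exact (mul_eq_zero.1 h).resolve_left he
  by_cases hm : Q (d - a) = 0
  · have hQdma : polar Q d a = 2 * Q a := by
      rw [Om.Q_sub G.toDec.qform, heq] at hm; linear_combination -hm
    have hQdpa : Q (d + a) = 4 * Q a := by
      rw [QuadraticMap.map_add (⇑Q), heq, hQdma]; ring
    have h4 : Q (d + a) ≠ 0 := by
      rw [hQdpa, show (4 : F) = 2 * 2 by norm_num]; exact mul_ne_zero (mul_ne_zero h2 h2) hQa
    refine fin (d + a) ((D i).add_mem hd ha) h4 ⟨-1, neg_ne_zero.2 one_ne_zero, ?_⟩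
    rw [rr_mulVec _ h4, polar_add_right, polar_self', polar_comm Q a d, hQdma, hQdpa,
      show 2 * Q a + 2 * Q a = 4 * Q a by ring, div_self (by rwa [← hQdpa])]
    module
  · refine fin (d - a) ((D i).sub_mem hd ha) hm ⟨1, one_ne_zero, ?_⟩
    have e : polar Q a (d - a) = -Q (d - a) := by
      rw [polar_sub_right, polar_self', Om.Q_sub G.toDec.qform, heq, polar_comm Q a d]; ring
    rw [rr_mulVec _ hm, e, neg_div, div_self hm]
    module

include hHM hMK hs hQs in
theorem exists_point (P : Frame Q) {x : ι → F} (hx : x ∈ G.XS G M s) (hQx : Q x = Q s)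
    (hnb : ¬ InBlock D x) :
    ∃ (i j : Fin t) (u r : ι → F), i ≠ j ∧ u ∈ D i ∧ u ≠ 0 ∧ Q u = 0 ∧ r ∈ D j ∧ Q r = Q s ∧
      u + r ∈ G.XS G M s := by
  classical
  have hD := G.toDec
  obtain ⟨i, hi⟩ : ∃ i, Q (hD.π i x) ≠ 0 := by
    by_contra hc
    push Not at hc
    exact hQs (by rw [← hQx, hD.Q_sum x]; exact Finset.sum_eq_zero fun l _ => hc l)
  obtain ⟨j₀, hij₀, hj₀⟩ : ∃ j, i ≠ j ∧ hD.π j x ≠ 0 := by
    obtain ⟨p, q, hpq, hp, hq⟩ := hD.t_pos x hnb
    by_cases e : i = p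
    · exact ⟨q, e ▸ hpq, hq⟩
    · exact ⟨p, e, hp⟩
  set xi := hD.π i x with hxi
  by_cases hsp : ∃ u ∈ D i, u ≠ 0 ∧ Q u = 0 ∧ polar Q xi u = 0
  · obtain ⟨u, hu, hu0, hQu, hxu⟩ := hsp
    obtain ⟨r, hr, hQr, hX⟩ := G.exists_point_of hHM hMK hs hQs P hx hQx hij₀ hi hj₀ hu hu0 hQu hxu
    exact ⟨i, j₀, u, r, hij₀, hu, hu0, hQu, hr, hQr, hX⟩
  have hk : k = 3 := by
    by_contra hk
    obtain ⟨u, hu, hu0, hQu⟩ := OmN.exists_singular_in (Q := Q) (S := perp Q (D i) xi) (by
      have := finrank_perp (Q := Q) (D i) xi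
      rw [hD.dim] at this
      have := G.three
      omega)
    exact hsp ⟨u, hu.1, hu0, hQu, by rw [polar_comm]; exact hu.2⟩
  obtain ⟨h2, h5, -⟩ := G.k3 hk
  obtain ⟨u₀, hu₀, hu₀0, hQu₀⟩ := OmN.exists_singular_in (Q := Q) (S := D i) (G.d3 i)
  obtain ⟨a₀, ha₀, hQa₀⟩ := exists_nonsing (hD.block i) (W := perp Q (D i) u₀) inf_le_left (by
    have := finrank_perp (Q := Q) (D i) u₀
    rw [hD.dim, hk] at *
    omega)
  set c := Q s with hc
  have hxi0 : xi ≠ 0 := fun e => hi (by rw [e, map_zero Q])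
  have hmove : ∀ e : F, e ≠ 0 → ∀ d, d ∈ D i → Q d = e * e * Q a₀ → polar Q xi d = -Q d →
      ∃ m ∈ decompositionStabilizer D ⊓ omegaGL ⇑Q, (m : Matrix ι ι F) *ᵥ x = x + d := by
    intro e he d hd hQd hxd
    have hQd0 : Q d ≠ 0 := by rw [hQd]; exact mul_ne_zero (mul_ne_zero he he) hQa₀
    have hQxd : Q (xi + d) = Q xi := by rw [QuadraticMap.map_add (⇑Q), hxd]; ring
    obtain ⟨p, hp, hQp, hxp⟩ := G.vp ((D i).add_mem (hD.π_mem x i) hd)
      (fun h => hi (by rw [← hQxd, h, map_zero Q])) (Q d) 0 (Or.inl (by rwa [hQxd]))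
    refine ⟨rr hD.qform p * rr hD.qform d, G.pairH hp hd (by rwa [hQp]) hQd0
      (by rw [hQp]; exact IsSquare.mul_self _), ?_⟩
    have e1 : (rr hD.qform d : Matrix ι ι F) *ᵥ x = x + d := by
      rw [rr_mulVec _ hQd0, hD.polar_π x hd, ← hxi, hxd, neg_div, div_self hQd0]
      module
    rw [gl_mulVec_mul, e1, rr_fix]
    rw [polar_add_left, hD.polar_π x hp, ← hxi, ← polar_add_left]
    exact hxp
  -- a vector of two components
  obtain ⟨j, d, d', hij, hd, hd', hQd0, hd'0, hz, hsum, e, he, hQd⟩ :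
      ∃ (j : Fin t) (d d' : ι → F), i ≠ j ∧ d ∈ D i ∧ d' ∈ D j ∧ Q d ≠ 0 ∧ d' ≠ 0 ∧
        d + d' ∈ G.XS G M s ∧ Q (d + d') = c ∧ ∃ e : F, e ≠ 0 ∧ Q d = e * e * Q a₀ := by
    have conclude : ∀ (j : Fin t) (d d' : ι → F), i ≠ j → d ∈ D i → d' ∈ D j → Q d ≠ 0 →
        Q d' ≠ 0 → Q d + Q d' = c → polar Q xi d = -Q d → polar Q (hD.π j x) d' = -Q d' →
        x + d + d' ∈ G.XS G M s → (∃ e : F, e ≠ 0 ∧ Q d = e * e * Q a₀) →
        ∃ (j : Fin t) (d d' : ι → F), i ≠ j ∧ d ∈ D i ∧ d' ∈ D j ∧ Q d ≠ 0 ∧ d' ≠ 0 ∧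
          d + d' ∈ G.XS G M s ∧ Q (d + d') = c ∧ ∃ e : F, e ≠ 0 ∧ Q d = e * e * Q a₀ := by
      intro j d d' hij hd hd' hQd hQd' hsum hxd hxd' hX he
      refine ⟨j, d, d', hij, hd, hd', hQd, fun h => hQd' (by rw [h, map_zero Q]), ?_, ?_, he⟩
      · have h := G.X_rr hx hX
        have e1 : (rr hD.qform x : Matrix ι ι F) *ᵥ (x + d + d') = d + d' := by
          rw [rr_mulVec _ hx.1, polar_add_left, polar_add_left, polar_self', polar_comm Q d x,
            hD.polar_π x hd, ← hxi, hxd, polar_comm Q d' x, hD.polar_π x hd', hxd', hQx,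
            show 2 * c + -Q d + -Q d' = c by linear_combination -hsum, div_self hQs]
          module
        rwa [e1] at h
      · rw [QuadraticMap.map_add (⇑Q), hD.orth hij hd hd', hsum, add_zero]
    by_cases hns : ∃ j, i ≠ j ∧ Q (hD.π j x) ≠ 0
    · obtain ⟨j, hij, hj⟩ := hns
      obtain ⟨e, he, hne⟩ : ∃ e : F, e ≠ 0 ∧ e * e * Q a₀ ≠ c := by
        by_cases h : Q a₀ = c
        · obtain ⟨u, hu0, hu1, hu2⟩ := exists_ne_three h5 (1 : F) (-1)
          refine ⟨u, hu0, fun hh => ?_⟩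
          rw [h] at hh
          rcases mul_self_eq_one_iff.1 (mul_right_cancel₀ hQs (by rw [hh, one_mul] : u * u * c = 1 * c))
            with h' | h'
          · exact hu1 h'
          · exact hu2 h'
        · exact ⟨1, one_ne_zero, by simpa using h⟩
      obtain ⟨d, hd, hQd, hxd⟩ := G.vp (hD.π_mem x i) hxi0 (e * e * Q a₀) (-(e * e * Q a₀))
        (Or.inl hi)
      obtain ⟨m, hm, hmx⟩ := hmove e he d hd hQd (by rw [← hQd] at hxd; exact hxd)
      set γ := c - e * e * Q a₀ with hγ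
      have hγ0 : γ ≠ 0 := sub_ne_zero.2 (Ne.symm hne)
      have hj0 : hD.π j x ≠ 0 := fun h => hj (by rw [h, map_zero Q])
      obtain ⟨d', hd', hQd', hxd'⟩ := G.vp (hD.π_mem x j) hj0 γ (-γ) (Or.inl hj)
      have hQxd : Q (hD.π j x + d') = Q (hD.π j x) := by
        rw [QuadraticMap.map_add (⇑Q), hxd', hQd']; ring
      obtain ⟨p, hp, hQp, hxp⟩ := G.vp ((D j).add_mem (hD.π_mem x j) hd')
        (fun h => hj (by rw [← hQxd, h, map_zero Q])) γ 0 (Or.inl (by rwa [hQxd]))
      have hm' := G.pairH hp hd' (by rwa [hQp]) (by rwa [hQd'])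
        (by rw [hQp, hQd']; exact IsSquare.mul_self _)
      have hX := G.X_stab hHM hMK hs hQs hm' (G.X_stab hHM hMK hs hQs hm hx)
      have e2 : ((rr hD.qform p * rr hD.qform d' : GL ι F) : Matrix ι ι F) *ᵥ (x + d)
          = x + d + d' := by
        have e3 : polar Q (x + d) d' = -γ := by
          rw [polar_add_left, hD.polar_π x hd', hxd', hD.orth hij hd hd', add_zero]
        rw [gl_mulVec_mul, rr_mulVec hD.qform (x := d') (by rw [hQd']; exact hγ0), e3, hQd', neg_div, div_self hγ0,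
          neg_smul, one_smul, sub_neg_eq_add, rr_fix]
        rw [add_right_comm, polar_add_left, polar_add_left, hD.polar_π x hp, ← polar_add_left,
          hxp, hD.orth hij hd hp, add_zero]
      rw [hmx, e2] at hX
      exact conclude j d d' hij hd hd' (by rw [hQd]; exact mul_ne_zero (mul_ne_zero he he) hQa₀)
        (by rw [hQd']; exact hγ0) (by rw [hQd, hQd', hγ]; ring) (by rw [hQd]; exact hxd)
        (by rw [hQd']; exact hxd') hX ⟨e, he, hQd⟩
    · push Not at hns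
      have hxc : Q xi = c := by
        rw [← hQx, hD.Q_sum x, Finset.sum_eq_single i (fun l _ hl => hns l (Ne.symm hl))
          (fun hn => absurd (Finset.mem_univ i) hn)]
      set δ := Q a₀ / c with hδ
      have hδn : ¬ IsSquare δ := by
        rintro ⟨e, he⟩
        have he0 : e ≠ 0 := fun h => div_ne_zero hQa₀ hQs (by rw [← hδ, he, h, mul_zero])
        have heq : Q (e⁻¹ • a₀) = c := by
          rw [QuadraticMap.map_smul, smul_eq_mul, show Q a₀ = δ * c from (div_mul_cancel₀ _ hQs).symm,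
            he]
          field_simp
        obtain ⟨v, hv, hv0, hQv, hxv⟩ := G.sing_perp_transfer h2 ((D i).smul_mem e⁻¹ ha₀.1)
          (hD.π_mem x i) hu₀ hu₀0 hQu₀
          (by rw [polar_smul_left, show polar Q a₀ u₀ = 0 from ha₀.2, smul_zero])
          (by rw [heq]; exact hQs) (by rw [heq, hxc])
        exact hsp ⟨v, hv, hv0, hQv, hxv⟩
      obtain ⟨u, hu0, hu⟩ : ∃ u : F, u ≠ 0 ∧ 1 + δ * (u * u) ≠ 0 := by
        obtain ⟨u, hu0, hu1, hu2⟩ := exists_ne_three h5 (1 : F) (-1)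
        by_cases h1 : 1 + δ = 0
        · refine ⟨u, hu0, fun h => ?_⟩
          have : (u * u - 1) * δ = 0 := by linear_combination h - h1
          rcases mul_self_eq_one_iff.1 (sub_eq_zero.1 ((mul_eq_zero.1 this).resolve_right
            (div_ne_zero hQa₀ hQs))) with h' | h'
          · exact hu1 h'
          · exact hu2 h'
        · exact ⟨1, one_ne_zero, by simpa using h1⟩
      have hu' : 1 - δ * (u * u) ≠ 0 := fun h => hδn ⟨u⁻¹, by
        field_simp; linear_combination -h⟩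
      set e := 2 * u / (1 + δ * (u * u)) with hedef
      set f := (1 - δ * (u * u)) / (1 + δ * (u * u)) with hfdef
      have he0 : e ≠ 0 := div_ne_zero (mul_ne_zero h2 hu0) hu
      have hf0 : f ≠ 0 := div_ne_zero hu' hu
      have hef : δ * (e * e) + f * f = 1 := by
        have key : ∀ dd uu : F, 1 + dd * (uu * uu) ≠ 0 →
            dd * (2 * uu / (1 + dd * (uu * uu)) * (2 * uu / (1 + dd * (uu * uu))))
              + (1 - dd * (uu * uu)) / (1 + dd * (uu * uu))
                * ((1 - dd * (uu * uu)) / (1 + dd * (uu * uu))) = 1 := by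
          intro dd uu h
          rw [div_mul_div_comm, div_mul_div_comm, mul_div_assoc', ← add_div,
            div_eq_one_iff_eq (mul_ne_zero h h)]
          ring
        rw [hedef, hfdef]
        exact key δ u hu
      obtain ⟨d, hd, hQd, hxd⟩ := G.vp (hD.π_mem x i) hxi0 (e * e * Q a₀) (-(e * e * Q a₀))
        (Or.inl hi)
      obtain ⟨m, hm, hmx⟩ := hmove e he0 d hd hQd (by rw [← hQd] at hxd; exact hxd)
      have hff : f * f * c ≠ 0 := mul_ne_zero (mul_ne_zero hf0 hf0) hQs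
      obtain ⟨d', hd', hQd', hxd'⟩ := G.vp (hD.π_mem x j₀) hj₀ (f * f * c) (-(f * f * c))
        (Or.inr (neg_ne_zero.2 hff))
      have hd'X := G.X_block hHM hs hQs hd' (by rw [hQd']; exact hff)
        (by rw [hQd', ← hc]; exact ⟨f * c, by ring⟩)
      have hX := G.X_rr hd'X (G.X_stab hHM hMK hs hQs hm hx)
      have e2 : (rr hD.qform d' : Matrix ι ι F) *ᵥ (x + d) = x + d + d' := by
        have e3 : polar Q (x + d) d' = -(f * f * c) := by
          rw [polar_add_left, hD.polar_π x hd', hxd', hD.orth hij₀ hd hd', add_zero]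
        rw [rr_mulVec _ (by rw [hQd']; exact hff), e3, hQd', neg_div, div_self hff, neg_smul,
          one_smul, sub_neg_eq_add]
      rw [hmx, e2] at hX
      refine conclude j₀ d d' hij₀ hd hd' (by rw [hQd]; exact mul_ne_zero (mul_ne_zero he0 he0) hQa₀)
        (by rw [hQd']; exact hff) ?_ (by rw [hQd]; exact hxd) (by rw [hQd']; exact hxd') hX
        ⟨e, he0, hQd⟩
      rw [hQd, hQd', show Q a₀ = δ * c from (div_mul_cancel₀ _ hQs).symm]
      linear_combination c * hef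
  obtain ⟨v, hv, hv0, hQv, hdv⟩ := G.sing_perp_transfer h2 ((D i).smul_mem e ha₀.1) hd hu₀ hu₀0 hQu₀
    (by rw [polar_smul_left, show polar Q a₀ u₀ = 0 from ha₀.2, smul_zero])
    (by rw [QuadraticMap.map_smul, smul_eq_mul, ← hQd]; exact hQd0)
    (by rw [QuadraticMap.map_smul, smul_eq_mul, hQd])
  have hπi : hD.π i (d + d') = d := by
    rw [map_add, hD.π_self hd, hD.π_other hij hd', add_zero]
  have hπj : hD.π j (d + d') = d' := by
    rw [map_add, hD.π_other hij.symm hd, hD.π_self hd', zero_add]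
  obtain ⟨r, hr, hQr, hX⟩ := G.exists_point_of hHM hMK hs hQs P hz hsum hij (by rw [hπi]; exact hQd0)
    (by rw [hπj]; exact hd'0) hv hv0 hQv (by rw [hπi]; exact hdv)
  exact ⟨i, j, v, r, hij, hv, hv0, hQv, hr, hQr, hX⟩

end Good

end CfsgLib.ClassicalMax.OmD
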