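/-
Maximality of stabilisers of orthogonal decompositions: root groups and conclusion.
-/
import Cfsg.Agent.Lib.ClassicalMax.OrthDecomp
set_option autoImplicit false

namespace CfsgLib.ClassicalMax.OmD

open Matrix Cfsg.Geo QuadraticMap Module
open CfsgLib.Classical.Quad (NDPolar Frame polar_self' polar_singular_self Q_comb1)
open CfsgLib.ClassicalMax.OmS (SS IsSg exists_sg omega_le_of_pair omega_iso omega_polar SS_mulVec)

variable {ι : Type} [Fintype ι] [DecidableEq ι] {F : Type*} [Field F]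
  {Q : QuadraticForm F (ι → F)} {t k : ℕ} {D : Fin t → Submodule F (ι → F)}

/-- Exchanging two members by an isometry fixing the others. -/
theorem Dec.exists_exchange (h : Dec Q k D) {j l : Fin t} (hjl : j ≠ l) :
    ∃ g : GL ι F, g ∈ Cfsg.isometryGroup F ⇑Q ∧ (∀ v ∈ D j, (g : Matrix ι ι F) *ᵥ v ∈ D l) ∧
      (∀ v ∈ D l, (g : Matrix ι ι F) *ᵥ v ∈ D j) ∧
      ∀ i, i ≠ j → i ≠ l → ∀ v ∈ D i, (g : Matrix ι ι F) *ᵥ v = v := by
  obtain ⟨e, he⟩ := h.dec.isometric j l
  have he' : ∀ b : D l, Q (e.symm b : ι → F) = Q (b : ι → F) := fun b => by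
    rw [← he, LinearEquiv.apply_symm_apply]
  let A : (ι → F) →ₗ[F] D j := (h.π j).codRestrict (D j) fun v => h.π_mem v j
  let B : (ι → F) →ₗ[F] D l := (h.π l).codRestrict (D l) fun v => h.π_mem v l
  let L : (ι → F) →ₗ[F] (ι → F) := LinearMap.id - h.π j - h.π l
    + (D l).subtype.comp (e.toLinearMap.comp A) + (D j).subtype.comp (e.symm.toLinearMap.comp B)
  have hL : ∀ v, L v = v - h.π j v - h.π l v + (e (A v) : ι → F) + (e.symm (B v) : ι → F) :=
    fun v => rfl
  have hQadd : ∀ r a b : ι → F, (∀ z ∈ D j, polar Q r z = 0) → (∀ z ∈ D l, polar Q r z = 0) →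
      a ∈ D l → b ∈ D j → Q (r + a + b) = Q r + Q a + Q b := by
    intro r a b hj hl ha hb
    rw [QuadraticMap.map_add (⇑Q), QuadraticMap.map_add (⇑Q) r a, polar_add_left, hj b hb, hl a ha,
      h.orth (Ne.symm hjl) ha hb]
    ring
  have hrest : ∀ v, (∀ z ∈ D j, polar Q (v - h.π j v - h.π l v) z = 0) ∧
      ∀ z ∈ D l, polar Q (v - h.π j v - h.π l v) z = 0 := fun v =>
    ⟨fun z hz => by
      rw [polar_sub_left, polar_sub_left, h.polar_π v hz, h.orth hjl.symm (h.π_mem v l) hz]; ring,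
     fun z hz => by
      rw [polar_sub_left, polar_sub_left, h.polar_π v hz, h.orth hjl (h.π_mem v j) hz]; ring⟩
  have hLQ : ∀ v, Q (L v) = Q v := by
    intro v
    rw [hL, hQadd _ _ _ (hrest v).1 (hrest v).2 (e (A v)).2 (e.symm (B v)).2, he, he']
    conv_rhs => rw [show v = v - h.π j v - h.π l v + h.π l v + h.π j v by abel]
    rw [hQadd _ _ _ (hrest v).1 (hrest v).2 (h.π_mem v l) (h.π_mem v j)]
    simp only [A, B, LinearMap.codRestrict_apply]
    ring
  have hLinj : Function.Injective L := by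
    rw [injective_iff_map_eq_zero]
    intro v hv
    refine h.nd v fun w => ?_
    have : polar Q (L v) (L w) = polar Q v w := by
      simp only [polar, ← map_add, hLQ]
    rw [← this, hv, polar_zero_left]
  have hdet : IsUnit (LinearMap.toMatrix' L) := by
    rw [← Matrix.mulVec_injective_iff_isUnit]
    intro x y e
    simp only [LinearMap.toMatrix'_mulVec] at e
    exact hLinj e
  obtain ⟨g, hg⟩ := hdet
  have hgv : ∀ x, (g : Matrix ι ι F) *ᵥ x = L x := fun x => by
    rw [hg, LinearMap.toMatrix'_mulVec]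
  refine ⟨g, fun x _ => ?_, fun v hv => ?_, fun v hv => ?_, fun i hij hil v hv => ?_⟩
  · change Q ((g : Matrix ι ι F) *ᵥ x) = Q x
    rw [hgv, hLQ]
  · rw [hgv, hL, h.π_self hv, h.π_other hjl.symm hv, show B v = 0 from Subtype.ext (h.π_other hjl.symm hv)]
    simp
  · rw [hgv, hL, h.π_self hv, h.π_other hjl hv, show A v = 0 from Subtype.ext (h.π_other hjl hv)]
    simp
  · rw [hgv, hL, h.π_other hij.symm hv, h.π_other hil.symm hv,
      show A v = 0 from Subtype.ext (h.π_other hij.symm hv),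
      show B v = 0 from Subtype.ext (h.π_other hil.symm hv)]
    simp

/-- The isometries fixing everything orthogonal to one member. -/
def fixOrth (Q : QuadraticForm F (ι → F)) (S : Submodule F (ι → F)) :
    Subgroup ↥(Cfsg.isometryGroup F ⇑Q) where
  carrier := {g | ∀ v, (∀ y ∈ S, polar Q v y = 0) → ((g : GL ι F) : Matrix ι ι F) *ᵥ v = v}
  one_mem' v _ := by simp
  mul_mem' {a b} ha hb v hv := by
    rw [Subgroup.coe_mul, gl_mulVec_mul, hb v hv, ha v hv]
  inv_mem' {a} ha v hv := by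
    conv_lhs => rw [← ha v hv]
    rw [Subgroup.coe_inv, gl_inv_mulVec_mulVec]

namespace Good

variable [Fintype F] (G : Good Q k D) {M : Subgroup (GL ι F)}
  (hHM : decompositionStabilizer D ⊓ omegaGL ⇑Q ≤ M) (hMK : M ≤ omegaGL ⇑Q)

include G

/-- An element of the stabiliser exchanging two members and fixing a third pointwise. -/
theorem exists_exchange_mem {i j l : Fin t} (hij : i ≠ j) (hil : i ≠ l) (hjl : j ≠ l) :
    ∃ m ∈ decompositionStabilizer D ⊓ omegaGL ⇑Q,
      (∀ v ∈ D j, (m : Matrix ι ι F) *ᵥ v ∈ D l) ∧ ∀ v ∈ D i, (m : Matrix ι ι F) *ᵥ v = v := by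
  classical
  have hD := G.toDec
  obtain ⟨g, hgi, hgj, hgl, hgo⟩ := hD.exists_exchange hjl
  have hreg : OrthCrit.Regular F ι := Or.inr (by have := G.card; omega)
  have hn : 2 ≤ Fintype.card ι := by have := G.card; omega
  obtain ⟨a, ha, -, hQa⟩ := G.value l 1
  have hQa0 : Q a ≠ 0 := by rw [hQa]; exact one_ne_zero
  have hrefl : ∀ {r : ι → F} (hr : Q r ≠ 0), r ∈ D l →
      OrthSpinor.reflection (Q := Q) hr ∈ fixOrth Q (D l) := by
    intro r hr hrl v hv
    change OrthSpinor.act Q (OrthSpinor.reflection hr) v = v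
    rw [← OrthCrit.toOrth_apply, OrthCrit.toOrth_reflection,
      Classical.Quad.refl_fix (hv r hrl)]
  obtain ⟨x, hx, hgx⟩ := OrthCrit.exists_mul_mem_Omega hD.nd hreg hn (fixOrth Q (D l)) ⟨g, hgi⟩
    ⟨_, hrefl hQa0 ha, OrthCrit.parity_reflection hD.nd hQa0⟩ fun h2 => by
      obtain ⟨ν, hν⟩ := FiniteField.exists_nonsquare (F := F) fun hc => h2 (by
        haveI := ringChar.of_eq hc; exact CharTwo.two_eq_zero)
      have hν0 : ν ≠ 0 := fun e => hν (e ▸ IsSquare.zero)
      obtain ⟨b, hb, -, hQb⟩ := G.value l ν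
      have hQb0 : Q b ≠ 0 := by rw [hQb]; exact hν0
      refine ⟨_, mul_mem (hrefl hQa0 ha) (hrefl hQb0 hb), ?_,
        OrthCrit.theta_pair h2 hQa0 hQb0 (by rw [hQa, hQb, one_mul]; exact hν)⟩
      rw [OrthCrit.parity_mul hD.nd hreg, OrthCrit.parity_reflection hD.nd hQa0,
        OrthCrit.parity_reflection hD.nd hQb0]
      decide
  have hxfix : ∀ p, p ≠ l → ∀ v ∈ D p, ((x : GL ι F) : Matrix ι ι F) *ᵥ v = v := fun p hp v hv =>
    hx v fun y hy => hD.orth hp hv hy
  have hxl : ∀ v ∈ D l, ((x : GL ι F) : Matrix ι ι F) *ᵥ v ∈ D l := fun v hv =>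
    hD.mem_of_orth fun p hp y hy => by
      rw [← hxfix p hp y hy, Om.iso_polar hD.qform x.2]
      exact hD.orth (Ne.symm hp) hv hy
  have hxs : (x : GL ι F) ∈ decompositionStabilizer D := hD.mem_stab fun p v hv => by
    by_cases e : p = l
    · subst e; exact hxl v hv
    · rw [hxfix p e v hv]; exact hv
  have hgs : g ∈ decompositionStabilizer D := by
    refine ⟨Equiv.swap j l, fun p => Submodule.eq_of_le_of_finrank_eq ?_ ?_⟩
    · rintro _ ⟨v, hv, rfl⟩
      rw [Matrix.toLin'_apply]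
      rcases eq_or_ne p j with rfl | hpj
      · rw [Equiv.swap_apply_left]; exact hgj v hv
      rcases eq_or_ne p l with rfl | hpl
      · rw [Equiv.swap_apply_right]; exact hgl v hv
      · rw [Equiv.swap_apply_of_ne_of_ne hpj hpl, hgo p hpj hpl v hv]; exact hv
    · rw [← (Submodule.equivMapOfInjective _ (fun x y e => gl_mulVec_injective g (by simpa using e))
        (D p)).finrank_eq, hD.dim, hD.dim]
  refine ⟨g * (x : GL ι F), ⟨mul_mem hgs hxs, ⟨_, hgx, rfl⟩⟩, fun v hv => ?_, fun v hv => ?_⟩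
  · rw [gl_mulVec_mul, hxfix j hjl v hv]; exact hgj v hv
  · rw [gl_mulVec_mul, hxfix i hil v hv, hgo i hij hil v hv]

variable {l₀ : Fin t} {s : ι → F} (hs : s ∈ D l₀) (hQs : Q s ≠ 0)

include hHM hMK hs hQs in
/-- The whole root group of the singular vector is in `M`. -/
theorem mem_SS (P : Frame Q) {i j : Fin t} (hij : i ≠ j) {u r : ι → F} (hu : u ∈ D i) (hu0 : u ≠ 0)
    (hQu : Q u = 0) (hr : r ∈ D j) (hQr : Q r = Q s) (hX : u + r ∈ G.XS G M s) : u ∈ SS Q M := by
  classical
  have hD := G.toDec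
  let Wt : (ι → F) → Prop := fun w => polar Q u w = 0 ∧ ∃ h ∈ M, IsSg Q h u w
  have hadd : ∀ {a b}, Wt a → Wt b → Wt (a + b) := by
    rintro a b ⟨ha, h, hh, hhx⟩ ⟨hb, h', hh', hhx'⟩
    exact ⟨by rw [polar_add_right, ha, hb, add_zero], h * h', M.mul_mem hh hh',
      IsSg.mul hQu ha hb hhx hhx'⟩
  have hneg : ∀ {a}, Wt a → Wt (-a) := by
    rintro a ⟨ha, h, hh, hhx⟩
    have ha' : polar Q u (-a) = 0 := by rw [polar_neg_right, ha, neg_zero]
    obtain ⟨h', -, hhx'⟩ := exists_sg hD.nd P hQu ha'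
    have h1 := IsSg.mul hQu ha ha' hhx hhx'
    have e : h * h' = 1 := gl_ext_mulVec fun v => by rw [h1 v, Units.val_one, one_mulVec]; simp
    refine ⟨ha', h', ?_, hhx'⟩
    rw [eq_inv_of_mul_eq_one_right e]
    exact M.inv_mem hh
  have hsub : ∀ {a b}, Wt a → Wt b → Wt (a - b) := fun ha hb => by
    rw [sub_eq_add_neg]; exact hadd ha (hneg hb)
  have hzero : Wt 0 := ⟨polar_zero_right _ _, 1, M.one_mem, fun x => by simp⟩
  have hconj : ∀ {m : GL ι F}, m ∈ decompositionStabilizer D ⊓ omegaGL ⇑Q →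
      (m : Matrix ι ι F) *ᵥ u = u → ∀ {w}, Wt w → Wt ((m : Matrix ι ι F) *ᵥ w) := by
    rintro m hm hmu w ⟨hw, h, hh, hhx⟩
    have h1 := IsSg.conj hm.2 hhx
    rw [hmu] at h1
    exact ⟨by rw [← hmu, omega_polar hm.2]; exact hw, _,
      M.mul_mem (M.mul_mem (hHM hm) hh) (M.inv_mem (hHM hm)), h1⟩
  have hQr0 : Q r ≠ 0 := by rw [hQr]; exact hQs
  have hur : polar Q u r = 0 := hD.orth hij hu hr
  have hrX : r ∈ G.XS G M s := G.X_block hHM hs hQs hr hQr0 (by rw [hQr]; exact IsSquare.mul_self _)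
  have hstart : Wt ((Q r)⁻¹ • r) := by
    refine ⟨by rw [polar_smul_right, hur, smul_zero], _, G.X_prod hrX hX, fun v => ?_⟩
    have hQur : Q (u + r) = Q r := by rw [QuadraticMap.map_add (⇑Q), hQu, hur]; ring
    rw [gl_mulVec_mul, rr_mulVec _ hX.1, rr_mulVec _ hQr0, hQur, QuadraticMap.map_smul,
      polar_sub_left, polar_smul_left, polar_smul_right, polar_add_left Q u r, polar_self', hur,
      polar_add_right]
    simp only [smul_eq_mul]
    match_scalars <;> field_simp <;> ring
  have hblockI : ∀ w ∈ D i, polar Q u w = 0 → Wt w := fun w hw huw => by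
    obtain ⟨h, hh, hhx⟩ := G.exists_sg_block P hu hw hQu huw
    exact ⟨huw, h, hHM hh, hhx⟩
  have hblock : ∀ l, l ≠ i → ∀ w ∈ D l, Wt w := by
    intro l hli
    obtain ⟨w, hw, hQw, hwW⟩ : ∃ w ∈ D l, Q w ≠ 0 ∧ Wt w := by
      by_cases e : j = l
      · subst e
        exact ⟨_, (D j).smul_mem _ hr, by
          rw [QuadraticMap.map_smul, smul_eq_mul]
          exact mul_ne_zero (mul_ne_zero (inv_ne_zero hQr0) (inv_ne_zero hQr0)) hQr0, hstart⟩
      · obtain ⟨m, hm, hmj, hmi⟩ := G.exists_exchange_mem hij (Ne.symm hli) e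
        refine ⟨_, hmj _ ((D j).smul_mem _ hr), ?_, hconj hm (hmi u hu) hstart⟩
        rw [omega_iso hm.2, QuadraticMap.map_smul, smul_eq_mul]
        exact mul_ne_zero (mul_ne_zero (inv_ne_zero hQr0) (inv_ne_zero hQr0)) hQr0
    have hw0 : w ≠ 0 := fun e => hQw (by rw [e, map_zero Q])
    have hrefl : ∀ a, Wt a → a ∈ D l → Q a = Q w → ∀ y ∈ D l, Q y ≠ 0 →
        Wt ((rr hD.qform y : Matrix ι ι F) *ᵥ a) := by
      intro a haW ha hQa y hy hQy
      obtain ⟨p, hp, hQp, hap⟩ := G.vp ha (fun e => hQw (by rw [← hQa, e, map_zero Q])) (Q y) 0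
        (Or.inl (by rwa [hQa]))
      have hm := G.pairH hy hp hQy (by rwa [hQp]) (by rw [hQp]; exact IsSquare.mul_self _)
      have h := hconj hm (by
        rw [gl_mulVec_mul, rr_fix _ (hD.orth (Ne.symm hli) hu hp), rr_fix _ (hD.orth (Ne.symm hli) hu hy)])
        haW
      rwa [gl_mulVec_mul, rr_fix _ hap] at h
    have hdiff : ∀ a, Wt a → a ∈ D l → Q a = Q w → ∀ y ∈ D l, Q y = Q w → Q (a - y) ≠ 0 → Wt y := by
      intro a haW ha hQa y hy hQy hne
      have h := hrefl a haW ha hQa (a - y) ((D l).sub_mem ha hy) hne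
      have e : polar Q a (a - y) = Q (a - y) := by
        rw [polar_sub_right, polar_self', Om.Q_sub hD.qform, hQy, hQa]; ring
      rwa [rr_mulVec _ hne, e, div_self hne, one_smul, sub_sub_cancel] at h
    have hsame : ∀ y ∈ D l, Q y = Q w → Wt y := by
      intro y hy hQy
      by_cases hne : Q (w - y) = 0
      swap
      · exact hdiff w hwW hw rfl y hy hQy hne
      have hp : polar Q w y = 2 * Q w := by
        rw [Om.Q_sub hD.qform, hQy] at hne; linear_combination -hne
      by_cases h2 : (2 : F) = 0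
      · rw [h2, zero_mul] at hp
        by_cases hli' : LinearIndependent F ![w, y]
        · obtain ⟨z, hz, hQz, hwz, hyz⟩ := exists_connect (hD.block l) (G.d3 l) (G.d4 l)
            (fun e => absurd h2 (G.k3 (by rw [← e, hD.dim])).1)
            (fun e f => G.k4 (by rw [← e, hD.dim]) f l) hw hy hQw rfl hQy hp hli'
          have hzW : Wt z := hdiff w hwW hw rfl z hz hQz (by
            rw [Om.Q_sub hD.qform, hQz, ← two_mul, h2, zero_mul, zero_sub]; exact neg_ne_zero.2 hwz)
          exact hdiff z hzW hz hQz y hy hQy (by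
            rw [Om.Q_sub hD.qform, hQz, hQy, ← two_mul, h2, zero_mul, zero_sub, polar_comm]
            exact neg_ne_zero.2 hyz)
        · rw [LinearIndependent.pair_iff' hw0] at hli'
          push Not at hli'
          obtain ⟨e, he⟩ := hli'
          have he2 : e * e = 1 := mul_right_cancel₀ hQw (by
            rw [one_mul, ← smul_eq_mul, ← QuadraticMap.map_smul, he, hQy])
          have he1 : e = 1 := by
            haveI := OrthCrit.charP_two_of h2
            rcases mul_self_eq_one_iff.1 he2 with h | h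
            · exact h
            · rw [h, CharTwo.neg_eq]
          rw [← he, he1, one_smul]; exact hwW
      · have hne' : Q (w - -y) ≠ 0 := by
          rw [sub_neg_eq_add, QuadraticMap.map_add (⇑Q), hQy, hp,
            show Q w + Q w + 2 * Q w = 2 * (2 * Q w) by ring]
          exact mul_ne_zero h2 (mul_ne_zero h2 hQw)
        have h := hneg (hdiff w hwW hw rfl (-y) ((D l).neg_mem hy)
          (by rw [QuadraticMap.map_neg, hQy]) hne')
        rwa [neg_neg] at h
    have hline : ∀ y ∈ D l, Q y ≠ 0 → ∀ c : F, Wt (c • y) := by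
      intro y hy hQy c
      obtain ⟨a, ha, hQa, hya⟩ := G.vp hy (fun e => hQy (by rw [e, map_zero Q])) (Q w) (c * Q y)
        (Or.inl hQy)
      have haW := hsame a ha hQa
      have h := hsub haW (hrefl a haW ha hQa y hy hQy)
      rwa [rr_mulVec _ hQy, polar_comm Q a y, hya, mul_div_assoc, div_self hQy, mul_one,
        sub_sub_cancel] at h
    intro v hv
    by_cases hQv : Q v = 0
    · obtain ⟨y, hy, hQy⟩ := exists_nonsing (hD.block l) (W := perp Q (D l) v) inf_le_left (by
        have := finrank_perp (Q := Q) (D l) v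
        rw [hD.dim] at *
        have := G.three
        omega)
      have hyv : polar Q y v = 0 := hy.2
      have h1 := hline (v - y) ((D l).sub_mem hv hy.1)
        (by rw [Om.Q_sub hD.qform, hQv, polar_comm Q v y, hyv]; simpa using hQy) 1
      have h2 := hline y hy.1 hQy 1
      have := hadd h1 h2
      rwa [one_smul, one_smul, sub_add_cancel] at this
    · simpa using hline v hv hQv 1
  refine ⟨hQu, fun w hw => ?_⟩
  have hall : ∀ p, Wt (hD.π p w) := fun p => by
    by_cases e : p = i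
    · subst e
      exact hblockI _ (hD.π_mem w p) (by rw [polar_comm, ← hD.polar_π w hu, polar_comm, hw])
    · exact hblock p e _ (hD.π_mem w p)
  have hsum : Wt (∑ p, hD.π p w) :=
    Finset.sum_induction _ Wt (fun a b ha hb => hadd ha hb) hzero fun p _ => hall p
  rw [hD.π_sum] at hsum
  exact hsum.2

omit hs hQs in
include hHM hMK in
theorem omega_le (P : Frame Q) {g : GL ι F} (hgM : g ∈ M) (hg : g ∉ decompositionStabilizer D) :
    omegaGL ⇑Q ≤ M := by
  have hD := G.toDec
  obtain ⟨l, s, x, hs, hQs, hx, hQx, hnb⟩ := G.exists_mixed hHM hMK hgM hg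
  obtain ⟨i, j, u, r, hij, hu, hu0, hQu, hr, hQr, hX⟩ :=
    G.exists_point hHM hMK hs hQs P hx hQx hnb
  have hSS := G.mem_SS hHM hMK hs hQs P hij hu hu0 hQu hr hQr hX
  obtain ⟨y, hy, huy⟩ := exists_in_polar_one (hD.block i) hu hu0 1
  set v := y + (-(Q y)) • u with hv
  have hvD : v ∈ D i := (D i).add_mem hy ((D i).smul_mem _ hu)
  have hQv : Q v = 0 := by rw [hv, Q_comb1, hQu, polar_comm Q y u, huy]; ring
  have huv : polar Q u v = 1 := by
    rw [hv, polar_add_right, polar_smul_right, huy, polar_singular_self hQu]; simp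
  set W := perp Q (perp Q (D i) u) v with hW
  obtain ⟨w, hw, hQw⟩ : ∃ w ∈ W, Q w ≠ 0 := by
    by_contra hc
    push Not at hc
    obtain ⟨w, hw, hw0⟩ := exists_ne_zero_mem (S := W) (by
      have := finrank_perp (Q := Q) (D i) u
      have := finrank_perp (Q := Q) (perp Q (D i) u) v
      rw [hD.dim, ← hW] at *
      have := G.three
      omega)
    refine hw0 (eq_zero_of_orth (hD.block i) hw.1.1 fun z hz => ?_)
    have hwu : polar Q w u = 0 := hw.1.2
    have hwv : polar Q w v = 0 := hw.2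
    set z' := z + (-(polar Q z v)) • u + (-(polar Q z u)) • v with hz'
    have hz'W : z' ∈ W := by
      refine ⟨⟨(D i).add_mem ((D i).add_mem hz ((D i).smul_mem _ hu)) ((D i).smul_mem _ hvD), ?_⟩, ?_⟩
      · change polar Q z' u = 0
        rw [hz', polar_add_left, polar_add_left, polar_smul_left, polar_smul_left,
          polar_singular_self hQu, polar_comm Q v u, huv]
        simp
      · change polar Q z' v = 0
        rw [hz', polar_add_left, polar_add_left, polar_smul_left, polar_smul_left,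
          polar_singular_self hQv, huv]
        simp
    have h0 := OmE.ts_polar hc hw hz'W
    rw [hz', polar_add_right, polar_add_right, polar_smul_right, polar_smul_right, hwu, hwv] at h0
    simpa using h0
  have huw : polar Q u w = 0 := by rw [polar_comm]; exact hw.1.2
  have hvw : polar Q v w = 0 := by rw [polar_comm]; exact hw.2
  obtain ⟨h, hh, hhx⟩ := G.exists_sg_block P hvD hw.1.1 hQv hvw
  refine omega_le_of_pair hD.nd P hMK hSS (SS_mulVec (hHM hh) hh.2 hSS) ?_
  rw [hhx u, huv, huw, polar_add_right, polar_add_right, polar_smul_right, polar_smul_right,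
    polar_singular_self hQu, huw, huv]
  simpa using hQw

omit hs hQs in
theorem maximal :
    IsMaximalIn (omegaGL ⇑Q) (decompositionStabilizer D ⊓ omegaGL ⇑Q) := by
  have hD := G.toDec
  obtain ⟨⟨P⟩, -⟩ := OmE.exists_frame hD.nd G.card
  have ht := hD.dec.decomp.decomp.two_le
  refine CfsgLib.ClassicalMax.isMaximalIn_of inf_le_right ?_
    fun M hHM hMK g hgM hgH => G.omega_le hHM hMK P hgM fun h => hgH ⟨h, hMK hgM⟩
  set a : Fin t := ⟨0, by omega⟩ with ha
  set b : Fin t := ⟨1, by omega⟩ with hb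
  have hab : a ≠ b := by simp [ha, hb]
  obtain ⟨r, hr, -, hQr⟩ := G.value a 1
  obtain ⟨u, hu, hu0, hQu⟩ := OmN.exists_singular_in (Q := Q) (S := D b) (G.d3 b)
  obtain ⟨v, hv, huv⟩ := exists_in_polar_one (hD.block b) hu hu0 1
  obtain ⟨h, hh, hhx⟩ := exists_sg hD.nd P hQu (hD.orth hab.symm hu hr)
  refine ⟨h, hh, fun hH => ?_⟩
  obtain ⟨j, hj⟩ := Frames.exists_block_image hH.1 b
  have h1 := hj v hv
  have e : (h : Matrix ι ι F) *ᵥ v = r + (v - u) := by
    rw [hhx v, polar_comm Q v u, huv, hD.orth hab.symm hv hr, hQr]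
    module
  rw [e] at h1
  refine hD.not_inBlock hab ?_ ?_ ⟨j, h1⟩
  · rw [map_add, hD.π_self hr, hD.π_other hab ((D b).sub_mem hv hu), add_zero]
    exact fun e => one_ne_zero (α := F) (by rw [← hQr, e, map_zero Q])
  · rw [map_add, hD.π_other hab.symm hr, hD.π_self ((D b).sub_mem hv hu), zero_add, sub_ne_zero]
    intro e
    rw [e, polar_singular_self hQu] at huv
    exact zero_ne_one huv

end Good

end CfsgLib.ClassicalMax.OmD
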