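/-
Maximality of stabilisers of orthogonal decompositions into blocks of odd dimension at least three.

From an element `g` outside the stabiliser one gets a root element `x` at `p = g u`. Conjugating
elements of the stabiliser by `x` and comparing with root elements inside a block gives a root
element at a singular point of a block with a component outside that block; this spreads.
-/
import Cfsg.Agent.Lib.ClassicalMax.OrthBlocks
import Cfsg.Agent.Lib.ClassicalMax.Frames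
set_option autoImplicit false

namespace CfsgLib.ClassicalMax.OrthBlk

open Matrix Cfsg.Geo QuadraticMap
open scoped commutatorElement
open CfsgLib.Classical.Quad (NDPolar Frame Q_comb1 polar_singular_self polar_self')
open CfsgLib.ClassicalMax.OmS

variable {ι : Type} [Fintype ι] [DecidableEq ι] {F : Type*} [Field F]
  {Q : QuadraticForm F (ι → F)} {t k : ℕ} {D : Fin t → Submodule F (ι → F)}
  {M : Subgroup (GL ι F)}

/-- The root element of the pair lies in `M`. -/
def InW (Q : QuadraticForm F (ι → F)) (M : Subgroup (GL ι F)) (u z : ι → F) : Prop :=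
  polar Q u z = 0 ∧ ∃ h ∈ M, IsSg Q h u z

/-- Some singular point of a block has a root element in `M` leaving that block. -/
def Good (Q : QuadraticForm F (ι → F)) (M : Subgroup (GL ι F))
    (D : Fin t → Submodule F (ι → F)) : Prop :=
  ∃ i v z, v ∈ D i ∧ v ≠ 0 ∧ Q v = 0 ∧ z ∉ D i ∧ InW Q M v z

/-- The subgroup contains the stabiliser and lies in `Ω`. -/
structure Ctx (Q : QuadraticForm F (ι → F)) (k : ℕ) (D : Fin t → Submodule F (ι → F))
    (M : Subgroup (GL ι F)) : Prop where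
  blocks : Blocks Q k D
  frame : Nonempty (Frame Q)
  le_omega : M ≤ omegaGL ⇑Q
  stab_le : decompositionStabilizer D ⊓ omegaGL ⇑Q ≤ M

/-- The functionals given by `p` and `w` on the block `i` are independent. -/
def Indep (Q : QuadraticForm F (ι → F)) (D : Fin t → Submodule F (ι → F)) (p w : ι → F)
    (i : Fin t) : Prop :=
  ∀ s s' : F, (∀ d ∈ D i, s * polar Q d p + s' * polar Q d w = 0) → s = 0 ∧ s' = 0

lemma InW.zero (u : ι → F) : InW Q M u 0 :=
  ⟨polar_zero_right _ _, 1, M.one_mem, fun x => by simp [polar_zero_right]⟩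

lemma InW.add {u z z' : ι → F} (hu : Q u = 0) (hz : InW Q M u z) (hz' : InW Q M u z') :
    InW Q M u (z + z') := by
  obtain ⟨h0, h, hh, hhx⟩ := hz
  obtain ⟨h0', h', hh', hhx'⟩ := hz'
  exact ⟨by rw [polar_add_right, h0, h0', add_zero], h * h', M.mul_mem hh hh',
    IsSg.mul hu h0 h0' hhx hhx'⟩

namespace Ctx

variable [Fintype F] (C : Ctx Q k D M)

include C

lemma inW_neg {u z : ι → F} (hu : Q u = 0) (hz : InW Q M u z) : InW Q M u (-z) := by
  obtain ⟨P⟩ := C.frame
  obtain ⟨h0, h, hh, hhx⟩ := hz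
  have h0' : polar Q u (-z) = 0 := by rw [polar_neg_right, h0, neg_zero]
  obtain ⟨h', hh', hhx'⟩ := exists_sg C.blocks.nd P hu h0'
  have h1 : h * h' = 1 := gl_ext_mulVec fun x => by
    rw [IsSg.mul hu h0 h0' hhx hhx' x, add_neg_cancel]
    simp [polar_zero_right]
  refine ⟨h0', h', ?_, hhx'⟩
  rw [eq_inv_of_mul_eq_one_right h1]
  exact M.inv_mem hh

lemma inW_conj {h : GL ι F} (hh : h ∈ M) {u z : ι → F} (hz : InW Q M u z) :
    InW Q M ((h : Matrix ι ι F) *ᵥ u) ((h : Matrix ι ι F) *ᵥ z) := by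
  obtain ⟨h0, a, ha, hax⟩ := hz
  exact ⟨by rw [omega_polar (C.le_omega hh), h0], h * a * h⁻¹,
    M.mul_mem (M.mul_mem hh ha) (M.inv_mem hh), IsSg.conj (C.le_omega hh) hax⟩

lemma sg_mem {i : Fin t} {u z : ι → F} (hu : u ∈ D i) (hz : z ∈ D i) (hQu : Q u = 0)
    (h : polar Q u z = 0) : InW Q M u z := by
  obtain ⟨P⟩ := C.frame
  obtain ⟨a, ha, hax⟩ := exists_sg C.blocks.nd P hQu h
  refine ⟨h, a, C.stab_le ⟨C.blocks.mem_stab_of_le 1 fun j x hx => ?_, ha⟩, hax⟩
  rw [Equiv.Perm.one_apply, hax x]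
  by_cases hji : j = i
  · subst hji
    exact (D j).add_mem ((D j).add_mem hx ((D j).smul_mem _ hz)) ((D j).smul_mem _ hu)
  · rw [C.blocks.orth hji hx hu, C.blocks.orth hji hx hz]
    simpa using hx

lemma refl_pair_mem {i j : Fin t} (hij : i ≠ j) {a b : ι → F} (ha : a ∈ D i) (hb : b ∈ D j)
    (hQa : Q a ≠ 0) (hQb : Q b ≠ 0) (h : Q a = Q b) :
    Om.rf (isNondegenerateQuadraticForm C.blocks.nd) hQa
      * Om.rf (isNondegenerateQuadraticForm C.blocks.nd) hQb ∈ M := by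
  refine C.stab_le ⟨mul_mem (C.blocks.rf_stab ha hQa) (C.blocks.rf_stab hb hQb), ?_⟩
  refine Om.rf_mul_rf_mem _ hQa hQb h ?_
  rw [Om.Q_sub (isNondegenerateQuadraticForm C.blocks.nd), h, C.blocks.orth hij ha hb, sub_zero,
    ← two_mul]
  exact mul_ne_zero C.blocks.two hQb

lemma refl_comm_mem {i : Fin t} {a b : ι → F} (ha : a ∈ D i) (hb : b ∈ D i) (hQa : Q a ≠ 0)
    (hQb : Q b ≠ 0) :
    Om.rf (isNondegenerateQuadraticForm C.blocks.nd) hQa
      * Om.rf (isNondegenerateQuadraticForm C.blocks.nd) hQb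
      * Om.rf (isNondegenerateQuadraticForm C.blocks.nd) hQa
      * Om.rf (isNondegenerateQuadraticForm C.blocks.nd) hQb ∈ M := by
  have hQ := isNondegenerateQuadraticForm C.blocks.nd
  refine C.stab_le ⟨mul_mem (mul_mem (mul_mem (C.blocks.rf_stab ha hQa) (C.blocks.rf_stab hb hQb))
    (C.blocks.rf_stab ha hQa)) (C.blocks.rf_stab hb hQb), ?_⟩
  refine ⟨⁅(⟨Om.rf hQ hQa, Om.rf_mem hQ hQa⟩ : Cfsg.isometryGroup F ⇑Q),
    (⟨Om.rf hQ hQb, Om.rf_mem hQ hQb⟩ : Cfsg.isometryGroup F ⇑Q)⁆,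
    Subgroup.commutator_mem_commutator (Subgroup.mem_top _) (Subgroup.mem_top _), ?_⟩
  rw [commutatorElement_def]
  change Om.rf hQ hQa * Om.rf hQ hQb * (Om.rf hQ hQa)⁻¹ * (Om.rf hQ hQb)⁻¹ = _
  rw [inv_eq_of_mul_eq_one_left (Om.rf_mul_self hQ hQa),
    inv_eq_of_mul_eq_one_left (Om.rf_mul_self hQ hQb)]

/-! ### From the root element `x` to a root element at a block -/

variable {x : GL ι F} {p w : ι → F}

/-- A singular vector of a block fixed by `x`. -/
lemma good_perp (hxM : x ∈ M) (hx : IsSg Q x p w) {l : Fin t} {v a : ι → F} (hv : v ∈ D l)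
    (ha : a ∈ D l) (hv0 : v ≠ 0) (hQv : Q v = 0) (hvp : polar Q v p = 0) (hvw : polar Q v w = 0)
    (hva : polar Q v a = 0) (hxa : (x : Matrix ι ι F) *ᵥ a ∉ D l) : Good Q M D := by
  refine ⟨l, v, _, hv, hv0, hQv, hxa, ?_⟩
  have := C.inW_conj hxM (C.sg_mem hv ha hQv hva)
  rwa [show (x : Matrix ι ι F) *ᵥ v = v by rw [hx v, hvp, hvw]; simp] at this

/-- A pair of reflections fixing a singular vector after conjugation by `x`. -/
lemma good_refl (hxM : x ∈ M) (hx : IsSg Q x p w) {r l : Fin t} (hrl : r ≠ l) {a c v e : ι → F}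
    (ha : a ∈ D r) (hc : c ∈ D l) (hQc : Q c ≠ 0) (hac : Q a = Q c) (hcp : polar Q c p = 0)
    (hcw : polar Q c w = 0) (hxa : (x : Matrix ι ι F) *ᵥ a ∉ D r) (hv : v ∈ D r) (hv0 : v ≠ 0)
    (hQv : Q v = 0) (hxv : polar Q ((x : Matrix ι ι F) *ᵥ a) v = 0) (he : e ∈ D r)
    (hve : polar Q v e = 0) (hxe : polar Q ((x : Matrix ι ι F) *ᵥ a) e ≠ 0) : Good Q M D := by
  have hQ := isNondegenerateQuadraticForm C.blocks.nd
  have hQa : Q a ≠ 0 := hac ▸ hQc
  have hxo := C.le_omega hxM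
  have hxc : (x : Matrix ι ι F) *ᵥ c = c := by rw [hx c, hcp, hcw]; simp
  set A := (x : Matrix ι ι F) *ᵥ a with hA
  have hQA : Q A ≠ 0 := by rw [hA, omega_iso hxo]; exact hQa
  have hk : Om.rf hQ hQA * Om.rf hQ hQc ∈ M := by
    have := M.mul_mem (M.mul_mem hxM (C.refl_pair_mem hrl ha hc hQa hQc hac)) (M.inv_mem hxM)
    rwa [show x * (Om.rf hQ hQa * Om.rf hQ hQc) * x⁻¹
        = (x * Om.rf hQ hQa * x⁻¹) * (x * Om.rf hQ hQc * x⁻¹) by group,
      Om.rf_conj hQ (Om.omega_le hxo) hQa hQA hA.symm,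
      Om.rf_conj hQ (Om.omega_le hxo) hQc hQc hxc] at this
  have hkv : ((Om.rf hQ hQA * Om.rf hQ hQc : GL ι F) : Matrix ι ι F) *ᵥ v = v := by
    rw [gl_mulVec_mul, Om.rf_fix hQ hQc (C.blocks.orth hrl hv hc),
      Om.rf_fix hQ hQA (by rw [polar_comm]; exact hxv)]
  have hke : ((Om.rf hQ hQA * Om.rf hQ hQc : GL ι F) : Matrix ι ι F) *ᵥ e
      = e - (polar Q e A / Q A) • A := by
    rw [gl_mulVec_mul, Om.rf_fix hQ hQc (C.blocks.orth hrl he hc), Om.rf_mulVec]
  have hW := C.inW_conj hk (C.sg_mem hv he hQv hve)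
  rw [hkv, hke] at hW
  refine ⟨r, v, _, hv, hv0, hQv, fun h => hxa ?_, hW⟩
  have h' := (D r).sub_mem he h
  rw [sub_sub_cancel] at h'
  exact (Submodule.smul_mem_iff (D r)
    (div_ne_zero (by rwa [polar_comm]) hQA)).1 h'

/-- `x` moves a block on which `p` or `w` is non-zero. -/
lemma exists_moved (hx : IsSg Q x p w) (hp : ∀ i, p ∉ D i) (hQw : Q w ≠ 0) (hQp : Q p = 0)
    (hpw : polar Q p w = 0) {r : Fin t}
    (hr : ∃ d ∈ D r, polar Q d p ≠ 0 ∨ polar Q d w ≠ 0) :
    ∃ a ∈ D r, (x : Matrix ι ι F) *ᵥ a ∉ D r := by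
  by_contra hcon
  push Not at hcon
  have hv : ∀ d ∈ D r,
      polar Q d p • w + (-(polar Q d w) - Q w * polar Q d p) • p ∈ D r := fun d hd => by
    have := (D r).sub_mem (hcon d hd) hd
    rwa [hx d, add_assoc, add_sub_cancel_left] at this
  by_cases hall : ∀ d ∈ D r, polar Q d p = 0
  · obtain ⟨d, hd, hd'⟩ := hr
    have := hv d hd
    rw [hall d hd, zero_smul, zero_add, mul_zero, sub_zero] at this
    exact hp r ((Submodule.smul_mem_iff (D r)
      (neg_ne_zero.2 (hd'.resolve_left fun h => h (hall d hd)))).1 this)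
  push Not at hall
  obtain ⟨d₀, hd₀, hα⟩ := hall
  set lam := (-(polar Q d₀ w) - Q w * polar Q d₀ p) / polar Q d₀ p with hlam
  have hw' : w + lam • p ∈ D r := by
    refine (Submodule.smul_mem_iff (D r) hα).1 ?_
    rw [smul_add, smul_smul, hlam, mul_div_cancel₀ _ hα]
    exact hv d₀ hd₀
  have hcoef : ∀ d ∈ D r, polar Q d p * lam - (-(polar Q d w) - Q w * polar Q d p) = 0 := by
    intro d hd
    by_contra hne
    refine hp r ((Submodule.smul_mem_iff (D r) hne).1 ?_)
    rw [show (polar Q d p * lam - (-(polar Q d w) - Q w * polar Q d p)) • p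
      = polar Q d p • (w + lam • p)
        - (polar Q d p • w + (-(polar Q d w) - Q w * polar Q d p) • p) by module]
    exact (D r).sub_mem ((D r).smul_mem _ hw') (hv d hd)
  have := hcoef _ hw'
  rw [polar_add_left, polar_smul_left, polar_add_left, polar_smul_left, polar_singular_self hQp,
    polar_self', polar_comm Q w p, hpw] at this
  simp only [smul_eq_mul, mul_zero, add_zero, zero_mul, sub_zero, zero_sub, neg_neg] at this
  exact mul_ne_zero C.blocks.two hQw this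

/-- A subspace condition as a functional. -/
lemma exists_moved_fun (r : Fin t) (hr : ∃ a ∈ D r, (x : Matrix ι ι F) *ᵥ a ∉ D r) :
    ∃ ψ : (ι → F) →ₗ[F] F, (∃ a ∈ D r, ψ a ≠ 0) ∧
      ∀ a, ψ a ≠ 0 → (x : Matrix ι ι F) *ᵥ a ∉ D r := by
  obtain ⟨a, ha, hxa⟩ := hr
  obtain ⟨ψ, hψa, hψ⟩ := Submodule.exists_dual_map_eq_bot_of_notMem
    (p := (D r).comap (Matrix.toLin' (x : Matrix ι ι F))) (x := a)
    (by simpa [Submodule.mem_comap] using hxa) inferInstance
  refine ⟨ψ, ⟨a, ha, hψa⟩, fun b hb h => hb ?_⟩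
  exact (Submodule.mem_bot F).1 (hψ ▸ Submodule.mem_map_of_mem
    (f := ψ) (by simpa [Submodule.mem_comap] using h))

omit C in
lemma indep_pair_rep (B : Blocks Q k D) {l : Fin t} {e₁ e₂ : ι → F} (h1 : e₁ ∈ D l)
    (h2 : e₂ ∈ D l) (hQ1 : Q e₁ ≠ 0) (hQ2 : Q e₂ ≠ 0) (h : polar Q e₁ e₂ = 0)
    (h1p : polar Q e₁ p = 0) (h1w : polar Q e₁ w = 0) (h2p : polar Q e₂ p = 0)
    (h2w : polar Q e₂ w = 0) (s : F) :
    ∃ c ∈ D l, Q c = s ∧ polar Q c p = 0 ∧ polar Q c w = 0 := by
  obtain ⟨a, b, hab⟩ := Blocks.exists_rep B.two hQ1 hQ2 h s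
  refine ⟨_, (D l).add_mem ((D l).smul_mem a h1) ((D l).smul_mem b h2), hab, ?_, ?_⟩
  · rw [polar_add_left, polar_smul_left, polar_smul_left, h1p, h2p]; simp
  · rw [polar_add_left, polar_smul_left, polar_smul_left, h1w, h2w]; simp

omit C in
lemma exists_orth_pair (B : Blocks Q k D) (l : Fin t) :
    ∃ e₁ ∈ D l, ∃ e₂ ∈ D l, Q e₁ ≠ 0 ∧ Q e₂ ≠ 0 ∧ polar Q e₁ e₂ = 0 := by
  obtain ⟨u, hu, hu0, hQu⟩ := B.exists_singular l
  obtain ⟨v, hv, hQv, huv⟩ := B.exists_sg_partner hu hu0 hQu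
  refine ⟨u + (1 : F) • v, (D l).add_mem hu ((D l).smul_mem _ hv), u + (-1 : F) • v,
    (D l).add_mem hu ((D l).smul_mem _ hv), ?_, ?_, ?_⟩
  · rw [Q_comb1, hQu, hQv, huv]; simp
  · rw [Q_comb1, hQu, hQv, huv]; simp
  · simp [polar_add_left, polar_add_right, polar_smul_left, polar_smul_right,
      polar_singular_self hQu, polar_singular_self hQv, huv, polar_comm Q v u]

/-- Blocks of dimension at least five. -/
lemma good_five (hk : 5 ≤ k) (hxM : x ∈ M) (hx : IsSg Q x p w) (hp : ∀ i, p ∉ D i)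
    (hQw : Q w ≠ 0) (hQp : Q p = 0) (hpw : polar Q p w = 0) {r l : Fin t} (hrl : r ≠ l)
    (hr : ∃ d ∈ D r, polar Q d p ≠ 0) : Good Q M D := by
  classical
  by_cases huniv : ∀ s : F, ∃ c ∈ D l, Q c = s ∧ polar Q c p = 0 ∧ polar Q c w = 0
  · obtain ⟨ψ, hψ, hψC⟩ := C.exists_moved_fun r (C.exists_moved hx hp hQw hQp hpw
      (hr.imp fun d hd => ⟨hd.1, Or.inl hd.2⟩))
    obtain ⟨d₀, hd₀, hd₀0, hd₀p, hd₀w⟩ := C.blocks.exists_perp_pair r p w
    obtain ⟨b₀, hb₀, hdb⟩ := C.blocks.exists_ne hd₀ hd₀0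
    have hxd₀ : (x : Matrix ι ι F) *ᵥ d₀ = d₀ := by rw [hx d₀, hd₀p, hd₀w]; simp
    have hxo := C.le_omega hxM
    obtain ⟨a, ha, hQa, hψa, hda⟩ := C.blocks.exists_avoid ψ (polL Q d₀) hψ
      ⟨b₀, hb₀, by rw [polL_apply, polar_comm]; exact hdb⟩
    rw [polL_apply] at hda
    set A := (x : Matrix ι ι F) *ᵥ a with hA
    have hAd : polar Q A d₀ ≠ 0 := by
      rw [hA]; conv => lhs; arg 3; rw [← hxd₀]
      rwa [omega_polar hxo]
    have h1 := OrthCrit.finrank_le_inf_ker_add_one (D r) (polL Q A)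
    rw [C.blocks.finrank] at h1
    obtain ⟨v₁, hv₁, hv₁0, hQv₁⟩ := exists_singular_of_three (Q := Q) C.blocks.two
      (S := D r ⊓ LinearMap.ker (polL Q A)) (by omega)
    obtain ⟨z₁, -, hz₁⟩ := C.blocks.exists_ne hv₁.1 hv₁0
    have h3 := OrthCrit.finrank_le_inf_ker_add_one (D r ⊓ LinearMap.ker (polL Q A)) (polL Q z₁)
    obtain ⟨v₂, hv₂, hv₂0, hQv₂⟩ := exists_singular_of_three (Q := Q) C.blocks.two
      (S := D r ⊓ LinearMap.ker (polL Q A) ⊓ LinearMap.ker (polL Q z₁)) (by omega)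
    obtain ⟨c, hc, hQc, hcp, hcw⟩ := huniv (Q a)
    obtain ⟨v, hv, hv0, hQv, e, he, hve, hAe⟩ : ∃ v ∈ D r ⊓ LinearMap.ker (polL Q A), v ≠ 0 ∧
        Q v = 0 ∧ ∃ e ∈ D r, polar Q v e = 0 ∧ polar Q A e ≠ 0 := by
      by_contra hcon
      push Not at hcon
      obtain ⟨A', hA', hA'x⟩ := C.blocks.exists_proj r A
      have hline : ∀ v ∈ D r ⊓ LinearMap.ker (polL Q A), v ≠ 0 → Q v = 0 → ∃ s : F, A' = s • v :=
        fun v hv hv0 hQv => C.blocks.mem_line hv.1 hv0 hA' fun d hd hdv => by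
          rw [← hA'x d hd]; exact hcon v hv hv0 hQv d hd (by rwa [polar_comm])
      obtain ⟨s₁, e₁⟩ := hline v₁ hv₁ hv₁0 hQv₁
      obtain ⟨s₂, e₂⟩ := hline v₂ hv₂.1 hv₂0 hQv₂
      have e3 := congrArg (fun z => polar Q z z₁) (e₁.symm.trans e₂)
      have hv₂z : polar Q v₂ z₁ = 0 := LinearMap.mem_ker.1 hv₂.2
      simp only [polar_smul_left, hv₂z, smul_zero, smul_eq_mul, mul_zero] at e3
      refine hAd ?_
      rw [hA'x d₀ hd₀, e₁, (mul_eq_zero.1 e3).resolve_right hz₁, zero_smul, polar_zero_left]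
    exact C.good_refl hxM hx hrl ha hc (hQc ▸ hQa) hQc.symm hcp hcw (hψC a hψa) hv.1 hv0 hQv
      (by rw [polar_comm]; exact (polar_comm Q v A).trans (LinearMap.mem_ker.1 hv.2 |> fun h => by
        rw [polL_apply] at h; rwa [polar_comm] at h))
      he hve hAe
  -- a totally singular plane orthogonal to `p` and `w`
  have hnp : ∀ e₁ ∈ D l, ∀ e₂ ∈ D l, Q e₁ ≠ 0 → Q e₂ ≠ 0 → polar Q e₁ e₂ = 0 →
      polar Q e₁ p = 0 → polar Q e₁ w = 0 → polar Q e₂ p = 0 → polar Q e₂ w = 0 → False :=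
    fun e₁ h1 e₂ h2 a1 a2 a3 a4 a5 a6 a7 =>
      huniv (indep_pair_rep C.blocks h1 h2 a1 a2 a3 a4 a5 a6 a7)
  have hdep : ∃ d ∈ D l, polar Q d p ≠ 0 ∨ polar Q d w ≠ 0 := by
    by_contra hc
    push Not at hc
    obtain ⟨e₁, h1, e₂, h2, a1, a2, a3⟩ := exists_orth_pair C.blocks l
    exact hnp e₁ h1 e₂ h2 a1 a2 a3 (hc e₁ h1).1 (hc e₁ h1).2 (hc e₂ h2).1 (hc e₂ h2).2
  set U := D l ⊓ LinearMap.ker (polL Q p) ⊓ LinearMap.ker (polL Q w) with hU
  have hUd : 3 ≤ Module.finrank F U := by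
    have h1 := OrthCrit.finrank_le_inf_ker_add_one (D l) (polL Q p)
    have h2 := OrthCrit.finrank_le_inf_ker_add_one (D l ⊓ LinearMap.ker (polL Q p)) (polL Q w)
    rw [C.blocks.finrank] at h1
    rw [← hU] at h2
    omega
  obtain ⟨T, hTU, hTd, hTs⟩ : ∃ T, T ≤ U ∧ 2 ≤ Module.finrank F T ∧ ∀ y ∈ T, Q y = 0 := by
    by_cases hex : ∃ e ∈ U, Q e ≠ 0
    · obtain ⟨e, he, hQe⟩ := hex
      have h1 := OrthCrit.finrank_le_inf_ker_add_one U (polL Q e)
      refine ⟨U ⊓ LinearMap.ker (polL Q e), inf_le_left, by omega, fun y hy => ?_⟩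
      by_contra hQy
      exact hnp e he.1.1 y hy.1.1.1 hQe hQy (by rw [polar_comm]; exact LinearMap.mem_ker.1 hy.2)
        (LinearMap.mem_ker.1 he.1.2) (LinearMap.mem_ker.1 he.2)
        (LinearMap.mem_ker.1 hy.1.1.2) (LinearMap.mem_ker.1 hy.1.2)
    · push Not at hex
      exact ⟨U, le_rfl, by omega, hex⟩
  obtain ⟨v₁, hv₁, hv₁0⟩ := Submodule.exists_mem_ne_zero_of_ne_bot (p := T) fun h => by
    rw [h, finrank_bot] at hTd; omega
  obtain ⟨v₂, hv₂, hv₂n⟩ : ∃ v₂ ∈ T, v₂ ∉ Submodule.span F {v₁} := by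
    by_contra hc
    push Not at hc
    have := Submodule.finrank_mono (hc : T ≤ _)
    rw [finrank_span_singleton hv₁0] at this
    omega
  have hv₂0 : v₂ ≠ 0 := fun h => hv₂n (h ▸ zero_mem _)
  obtain ⟨a₀, ha₀, hxa₀⟩ := C.exists_moved hx hp hQw hQp hpw hdep
  obtain ⟨b, hb, hbv1, hbv2⟩ : ∃ b ∈ D l, polar Q b v₁ = 0 ∧ polar Q b v₂ ≠ 0 := by
    by_contra hc
    push Not at hc
    obtain ⟨s, hs⟩ := C.blocks.mem_line (hTU hv₁).1.1 hv₁0 (hTU hv₂).1.1
      fun d hd hd1 => by rw [polar_comm]; exact hc d hd hd1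
    exact hv₂n (hs ▸ Submodule.smul_mem _ _ (Submodule.mem_span_singleton_self _))
  have hfin : ∀ v ∈ T, v ≠ 0 → (∃ a ∈ D l, polar Q v a = 0 ∧ (x : Matrix ι ι F) *ᵥ a ∉ D l) →
      Good Q M D := fun v hv hv0 ⟨a, ha, hva, hxa⟩ =>
    C.good_perp hxM hx (hTU hv).1.1 ha hv0 (hTs v hv) (LinearMap.mem_ker.1 (hTU hv).1.2)
      (LinearMap.mem_ker.1 (hTU hv).2) hva hxa
  set a₁ := a₀ - (polar Q a₀ v₂ / polar Q b v₂) • b with ha₁
  have ha₁D : a₁ ∈ D l := (D l).sub_mem ha₀ ((D l).smul_mem _ hb)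
  by_cases hxb : (x : Matrix ι ι F) *ᵥ b ∈ D l
  · refine hfin v₂ hv₂ hv₂0 ⟨a₁, ha₁D, ?_, fun h => hxa₀ ?_⟩
    · rw [polar_comm, ha₁, polar_sub_left, polar_smul_left, smul_eq_mul,
        div_mul_cancel₀ _ hbv2, sub_self]
    · have := (D l).add_mem h ((D l).smul_mem (polar Q a₀ v₂ / polar Q b v₂) hxb)
      rwa [← mulVec_smul, ← mulVec_add, ha₁, sub_add_cancel] at this
  · exact hfin v₁ hv₁ hv₁0 ⟨b, hb, by rwa [polar_comm], hxb⟩

/-! ### Blocks of dimension three -/

omit C in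
lemma exists_scalar (h5 : 5 ≤ Fintype.card F) : ∃ s : F, s ≠ 0 ∧ s * s ≠ 1 := by
  classical
  by_contra hcon
  push Not at hcon
  have h := Finset.card_le_card (s := (Finset.univ : Finset F)) (t := {0, 1, -1}) fun s _ => by
    by_cases hs : s = 0
    · simp [hs]
    · rcases mul_self_eq_one_iff.1 (hcon s hs) with h | h <;> simp [h]
  rw [Finset.card_univ] at h
  have := h.trans Finset.card_le_three
  omega

omit C in
lemma eq_zero_of_triple (B : Blocks Q k D) (hk : k = 3) {l : Fin t} {a b c y : ι → F}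
    (ha : a ∈ D l) (hb : b ∈ D l) (hc : c ∈ D l) (hli : LinearIndependent F ![a, b, c])
    (hy : y ∈ D l) (h1 : polar Q y a = 0) (h2 : polar Q y b = 0) (h3 : polar Q y c = 0) :
    y = 0 := by
  have hsp : Submodule.span F (Set.range ![a, b, c]) = D l := by
    refine Submodule.eq_of_le_of_finrank_eq (Submodule.span_le.2 ?_) ?_
    · rintro _ ⟨i, rfl⟩
      fin_cases i <;> assumption
    · rw [finrank_span_eq_card hli, B.finrank, hk, Fintype.card_fin]
  refine B.eq_zero_of_orth hy fun z hz => ?_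
  have hle : Submodule.span F (Set.range ![a, b, c]) ≤ LinearMap.ker (polarBilin Q y) := by
    refine Submodule.span_le.2 ?_
    rintro _ ⟨i, rfl⟩
    fin_cases i <;> assumption
  exact hle (hsp.symm ▸ hz)

omit C in
/-- A plane of a three-dimensional block has an anisotropic vector. -/
lemma exists_aniso (B : Blocks Q k D) (hk : k = 3) {l : Fin t} {P : Submodule F (ι → F)}
    (hP : P ≤ D l) (hd : 2 ≤ Module.finrank F P) : ∃ b ∈ P, Q b ≠ 0 := by
  by_contra hcon
  push Not at hcon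
  obtain ⟨u, hu, hu0⟩ := Submodule.exists_mem_ne_zero_of_ne_bot (p := P) fun h => by
    rw [h, finrank_bot] at hd; omega
  obtain ⟨v, hv, hvn⟩ : ∃ v ∈ P, v ∉ Submodule.span F {u} := by
    by_contra hc
    push Not at hc
    have := Submodule.finrank_mono (hc : P ≤ _)
    rw [finrank_span_singleton hu0] at this
    omega
  have hpp : ∀ y ∈ P, ∀ z ∈ P, polar Q y z = 0 := fun y hy z hz => by
    rw [polar, hcon _ (P.add_mem hy hz), hcon y hy, hcon z hz]; ring
  obtain ⟨z, hz, huz⟩ := B.exists_ne (hP hu) hu0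
  set v' := v - (polar Q v z / polar Q u z) • u with hv'
  have hv'P : v' ∈ P := P.sub_mem hv (P.smul_mem _ hu)
  have hv'z : polar Q v' z = 0 := by
    rw [hv', polar_sub_left, polar_smul_left, smul_eq_mul, div_mul_cancel₀ _ huz, sub_self]
  have hv'0 : v' ≠ 0 := fun h => hvn (by
    rw [hv', sub_eq_zero] at h
    rw [h]; exact Submodule.smul_mem _ _ (Submodule.mem_span_singleton_self _))
  have hli : LinearIndependent F ![u, z, v'] := by
    refine Fintype.linearIndependent_iff.2 fun g hg => ?_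
    simp only [Fin.sum_univ_three, Matrix.cons_val_zero, Matrix.cons_val_one, Matrix.cons_val_two,
      Matrix.tail_cons, Matrix.head_cons] at hg
    have h1 := congrArg (fun y => polar Q y u) hg
    simp only [polar_add_left, polar_smul_left, hpp u hu u hu, hpp v' hv'P u hu, smul_eq_mul,
      mul_zero, add_zero, zero_add, polar_zero_left] at h1
    have g1 : g 1 = 0 := (mul_eq_zero.1 h1).resolve_right (by rwa [polar_comm])
    rw [g1, zero_smul, add_zero] at hg
    have h2 := congrArg (fun y => polar Q y z) hg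
    simp only [polar_add_left, polar_smul_left, hv'z, smul_eq_mul, mul_zero, add_zero,
      polar_zero_left] at h2
    have g0 : g 0 = 0 := (mul_eq_zero.1 h2).resolve_right huz
    rw [g0, zero_smul, zero_add, smul_eq_zero] at hg
    have g2 : g 2 = 0 := hg.resolve_right hv'0
    intro i
    fin_cases i <;> assumption
  exact hv'0 (eq_zero_of_triple B hk (hP hu) hz (hP hv'P) hli (hP hv'P) (hpp _ hv'P _ hu) hv'z
    (hpp _ hv'P _ hv'P))

/-- For a suitable multiple of `w` the map induced by `x` on the block is injective. -/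
lemma exists_inj (h5 : 5 ≤ Fintype.card F) (p w : ι → F) (r : Fin t) :
    ∃ τ : F, τ ≠ 0 ∧ ∀ x : GL ι F, IsSg Q x p (τ • w) →
      ∀ d ∈ D r, (∀ b ∈ D r, polar Q ((x : Matrix ι ι F) *ᵥ d) b = 0) → d = 0 := by
  obtain ⟨pr, hpr, hprx⟩ := C.blocks.exists_proj r p
  obtain ⟨wr, hwr, hwrx⟩ := C.blocks.exists_proj r w
  set K := polar Q p pr * polar Q w wr - polar Q p wr * polar Q p wr - Q w * polar Q p pr with hK
  obtain ⟨τ, hτ0, hτ⟩ : ∃ τ : F, τ ≠ 0 ∧ 1 + τ * τ * K ≠ 0 := by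
    by_cases h : 1 + K = 0
    · obtain ⟨s, hs, hs'⟩ := exists_scalar h5
      refine ⟨s, hs, fun e => hs' ?_⟩
      linear_combination (s * s) * h - e
    · exact ⟨1, one_ne_zero, by simpa using h⟩
  refine ⟨τ, hτ0, fun x hx d hd hall => ?_⟩
  have hBsym : polar Q w pr = polar Q p wr := by
    rw [hwrx pr hpr, polar_comm, ← hprx wr hwr]
  have hpd : ∀ y, polar Q pr y = polar Q y pr := fun y => polar_comm Q pr y
  have e1 := hall pr hpr
  have e2 := hall wr hwr
  rw [hx d] at e1 e2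
  simp only [polar_add_left, polar_smul_left, polar_smul_right, smul_eq_mul, QuadraticMap.map_smul,
    hBsym] at e1 e2
  have a1 : polar Q d pr = polar Q d p := by
    rw [polar_comm, ← hprx d hd, polar_comm]
  have a2 : polar Q d wr = polar Q d w := by
    rw [polar_comm, ← hwrx d hd, polar_comm]
  rw [a1] at e1
  rw [a2] at e2
  set α := polar Q d p with hα
  set β := polar Q d w with hβ
  set γ := τ * β + τ * τ * Q w * α with hγ
  set A := polar Q p pr with hA
  set Bv := polar Q p wr with hBv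
  set Cv := polar Q w wr with hCv
  have f1 : α * (1 + τ * Bv) - γ * A = 0 := by rw [hγ]; linear_combination e1
  have f2 : α * (τ * τ * (Cv - Q w)) + γ * (1 - τ * Bv) = 0 := by
    rw [hγ]; linear_combination τ * e2
  have hα0 : α = 0 := by
    refine (mul_eq_zero.1 (show (1 + τ * τ * K) * α = 0 by
      rw [hK]; linear_combination (1 - τ * Bv) * f1 + A * f2)).resolve_left hτ
  have hγ0 : γ = 0 := by
    refine (mul_eq_zero.1 (show (1 + τ * τ * K) * γ = 0 by
      rw [hK]; linear_combination (1 + τ * Bv) * f2 - (τ * τ * (Cv - Q w)) * f1)).resolve_left hτ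
  have hβ0 : β = 0 := by
    rw [hγ, hα0, mul_zero, add_zero] at hγ0
    exact (mul_eq_zero.1 hγ0).resolve_left hτ0
  refine C.blocks.eq_zero_of_orth hd fun b hb => ?_
  have := hall b hb
  rwa [hx d, ← hα, hα0, zero_smul, add_zero, polar_smul_right, smul_eq_mul, ← hβ, hβ0, mul_zero,
    mul_zero, sub_zero, neg_zero, zero_smul, add_zero] at this

/-- Two blocks on which `p` and `w` are independent. -/
lemma good_rot (hk : k = 3) (h5 : 5 ≤ Fintype.card F) (hxM : x ∈ M) (hx : IsSg Q x p w)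
    {r l : Fin t} (hrl : r ≠ l) (hJr : Indep Q D p w r) (hJl : Indep Q D p w l)
    (hinj : ∀ d ∈ D l, (∀ b ∈ D l, polar Q ((x : Matrix ι ι F) *ᵥ d) b = 0) → d = 0) :
    Good Q M D := by
  classical
  have hQ := isNondegenerateQuadraticForm C.blocks.nd
  have hxo := C.le_omega hxM
  obtain ⟨pr, hpr, hprx⟩ := C.blocks.exists_proj r p
  obtain ⟨wr, hwr, hwrx⟩ := C.blocks.exists_proj r w
  obtain ⟨v, hv, hQv, hvS⟩ : ∃ v ∈ D r, Q v = 0 ∧ v ∉ Submodule.span F {pr, wr} := by
    by_contra hc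
    push Not at hc
    have hle : D r ≤ Submodule.span F {pr, wr} := fun y hy =>
      C.blocks.mem_of_singular _ (fun u hu hQu => hc u hu hQu) hy
    have h := Submodule.finrank_mono hle
    have h2 := finrank_span_finset_le_card (R := F) ({pr, wr} : Finset (ι → F))
    rw [Finset.coe_pair] at h2
    rw [C.blocks.finrank] at h
    have := h2.trans Finset.card_le_two
    have := h.trans this
    omega
  have hv0 : v ≠ 0 := fun h => hvS (h ▸ zero_mem _)
  obtain ⟨e, he, hve, hnp⟩ : ∃ e ∈ D r, polar Q v e = 0 ∧ ∀ s : F,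
      ¬ (polar Q w e = s * polar Q w v ∧ polar Q p e = s * polar Q p v) := by
    by_contra hc
    push Not at hc
    obtain ⟨s, hs⟩ := C.blocks.mem_line hv hv0
      ((D r).sub_mem ((D r).smul_mem (polar Q w v) hpr) ((D r).smul_mem (polar Q p v) hwr))
      fun d hd hdv => by
        obtain ⟨c, hc1, hc2⟩ := hc d hd (by rwa [polar_comm])
        rw [polar_sub_left, polar_smul_left, polar_smul_left, ← hprx d hd, ← hwrx d hd, hc1, hc2,
          smul_eq_mul, smul_eq_mul]
        ring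
    by_cases hs0 : s = 0
    · rw [hs0, zero_smul, sub_eq_zero] at hs
      obtain ⟨hw0, hp0⟩ := hJr (polar Q w v) (-polar Q p v) fun d hd => by
        have := congrArg (fun y => polar Q y d) hs
        simp only [polar_smul_left, smul_eq_mul, ← hprx d hd, ← hwrx d hd] at this
        rw [polar_comm Q d p, polar_comm Q d w]
        linear_combination this
      rw [neg_eq_zero] at hp0
      have hz : ∀ d ∈ D r, polar Q d v = 0 → polar Q pr d = 0 ∧ polar Q wr d = 0 := fun d hd hdv => by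
        obtain ⟨c, hc1, hc2⟩ := hc d hd (by rwa [polar_comm])
        rw [← hprx d hd, ← hwrx d hd, hc1, hc2, hw0, hp0]
        simp
      obtain ⟨a, ha⟩ := C.blocks.mem_line hv hv0 hpr fun d hd h => (hz d hd h).1
      obtain ⟨b, hb⟩ := C.blocks.mem_line hv hv0 hwr fun d hd h => (hz d hd h).2
      obtain ⟨hb0, ha0⟩ := hJr b (-a) fun d hd => by
        rw [polar_comm Q d p, polar_comm Q d w, hprx d hd, hwrx d hd, ha, hb, polar_smul_left,
          polar_smul_left, smul_eq_mul, smul_eq_mul]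
        ring
      rw [neg_eq_zero] at ha0
      exact one_ne_zero (α := F) (hJr 1 0 fun d hd => by
        rw [polar_comm Q d p, hprx d hd, ha, ha0, zero_smul, polar_zero_left]; ring).1
    · refine hvS (Submodule.mem_span_pair.2 ⟨s⁻¹ * polar Q w v, -(s⁻¹ * polar Q p v), ?_⟩)
      have := congrArg (fun y => s⁻¹ • y) hs
      simp only [smul_sub, smul_smul, inv_mul_cancel₀ hs0, one_smul] at this
      linear_combination (norm := module) this
  let φ : (ι → F) → (ι → F) →ₗ[F] F := fun y =>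
    (polL Q y).comp (Matrix.toLin' (x : Matrix ι ι F))
  have hφ : ∀ y a, φ y a = polar Q ((x : Matrix ι ι F) *ᵥ a) y := fun y a => by
    simp [φ, polL_apply]
  set P := D l ⊓ LinearMap.ker (φ v) with hP
  have hPd : 2 ≤ Module.finrank F P := by
    have := OrthCrit.finrank_le_inf_ker_add_one (D l) (φ v)
    rw [C.blocks.finrank, hk] at this
    rw [hP]; omega
  have hne : ∃ a ∈ P, φ e a ≠ 0 := by
    by_contra hc
    push Not at hc
    obtain ⟨s, hs⟩ : ∃ s : F, ∀ a ∈ D l, φ e a = s * φ v a := by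
      by_cases h0 : ∀ a ∈ D l, φ v a = 0
      · exact ⟨0, fun a ha => by rw [zero_mul]; exact hc a ⟨ha, h0 a ha⟩⟩
      push Not at h0
      obtain ⟨a₀, ha₀, hne₀⟩ := h0
      refine ⟨φ e a₀ / φ v a₀, fun a ha => ?_⟩
      have := hc (a - (φ v a / φ v a₀) • a₀) ⟨(D l).sub_mem ha ((D l).smul_mem _ ha₀), by
        rw [SetLike.mem_coe, LinearMap.mem_ker, map_sub, map_smul, smul_eq_mul,
          div_mul_cancel₀ _ hne₀, sub_self]⟩
      rw [map_sub, map_smul, smul_eq_mul, sub_eq_zero] at this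
      rw [this]; ring
    obtain ⟨h1, h2⟩ := hJl ((polar Q w e - s * polar Q w v) - Q w * (polar Q p e - s * polar Q p v))
      (-(polar Q p e - s * polar Q p v)) fun a ha => by
        have := hs a ha
        rw [hφ, hφ, hx a] at this
        simp only [polar_add_left, polar_smul_left, smul_eq_mul, C.blocks.orth (Ne.symm hrl) ha he,
          C.blocks.orth (Ne.symm hrl) ha hv] at this
        linear_combination this
    rw [neg_eq_zero, sub_eq_zero] at h2
    refine hnp s ⟨?_, h2⟩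
    rw [h2, sub_self, mul_zero, sub_zero, sub_eq_zero] at h1
    exact h1
  obtain ⟨a, haP, hQa, hea, -⟩ := Blocks.exists_avoid_five h5 P
    (exists_aniso C.blocks hk inf_le_left hPd) (φ e) (φ e) hne hne
  obtain ⟨n, hn, hn0⟩ := Submodule.exists_mem_ne_zero_of_ne_bot
    (p := P ⊓ LinearMap.ker (polL Q a)) fun h => by
      have := OrthCrit.finrank_le_inf_ker_add_one P (polL Q a)
      rw [h, finrank_bot] at this; omega
  have hna : polar Q n a = 0 := LinearMap.mem_ker.1 hn.2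
  obtain ⟨s, hs0, hQb⟩ : ∃ s : F, s ≠ 0 ∧ Q (a + s • n) ≠ 0 := by
    by_cases h : Q (a + (1 : F) • n) = 0
    · obtain ⟨s, hs, hs'⟩ := exists_scalar h5
      refine ⟨s, hs, fun h' => hs' ?_⟩
      rw [Q_comb1, polar_comm Q a n, hna] at h h'
      have : (s * s - 1) * Q n = 0 := by linear_combination h' - h
      refine sub_eq_zero.1 ((mul_eq_zero.1 this).resolve_right fun e0 => hQa ?_)
      linear_combination h - e0
    · exact ⟨1, one_ne_zero, h⟩
  set b := a + s • n with hb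
  have hbP : b ∈ P := P.add_mem haP (P.smul_mem _ hn.1)
  have hab : polar Q a b ≠ 0 := by
    rw [hb, polar_add_right, polar_smul_right, polar_comm Q a n, hna, smul_zero, add_zero,
      polar_self']
    exact mul_ne_zero C.blocks.two hQa
  have hli : ∀ c₁ c₂ : F, c₁ • a + c₂ • b = 0 → c₁ = 0 ∧ c₂ = 0 := by
    intro c₁ c₂ h
    have h1 := congrArg (fun y => polar Q y a) h
    simp only [hb, polar_add_left, polar_smul_left, hna, smul_eq_mul, mul_zero, add_zero,
      polar_zero_left, polar_self'] at h1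
    have h12 : c₁ + c₂ = 0 := (mul_eq_zero.1 (show (c₁ + c₂) * (2 * Q a) = 0 by
      linear_combination h1)).resolve_right (mul_ne_zero C.blocks.two hQa)
    rw [eq_neg_of_add_eq_zero_left h12, hb] at h
    have h2 : (c₂ * s) • n = 0 := by rw [← h]; module
    rw [smul_eq_zero, mul_eq_zero] at h2
    have hc₂ : c₂ = 0 := (h2.resolve_right hn0).resolve_right hs0
    exact ⟨by rwa [hc₂, add_zero] at h12, hc₂⟩
  clear_value b
  set A := (x : Matrix ι ι F) *ᵥ a with hA
  set Bx := (x : Matrix ι ι F) *ᵥ b with hBx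
  have hQA : Q A ≠ 0 := by rw [hA, omega_iso hxo]; exact hQa
  have hQB : Q Bx ≠ 0 := by rw [hBx, omega_iso hxo]; exact hQb
  have hAB : polar Q A Bx ≠ 0 := by rw [hA, hBx, omega_polar hxo]; exact hab
  have hAv : polar Q v A = 0 := by rw [polar_comm, hA, ← hφ]; exact LinearMap.mem_ker.1 haP.2
  have hBv : polar Q v Bx = 0 := by rw [polar_comm, hBx, ← hφ]; exact LinearMap.mem_ker.1 hbP.2
  have heA : polar Q e A ≠ 0 := by rw [polar_comm, hA, ← hφ]; exact hea
  set RA := Om.rf hQ hQA with hRA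
  set RB := Om.rf hQ hQB with hRB
  have hk' : RA * RB * RA * RB ∈ M := by
    have := M.mul_mem (M.mul_mem hxM (C.refl_comm_mem haP.1 hbP.1 hQa hQb)) (M.inv_mem hxM)
    rwa [show x * (Om.rf hQ hQa * Om.rf hQ hQb * Om.rf hQ hQa * Om.rf hQ hQb) * x⁻¹
        = (x * Om.rf hQ hQa * x⁻¹) * (x * Om.rf hQ hQb * x⁻¹) * (x * Om.rf hQ hQa * x⁻¹)
          * (x * Om.rf hQ hQb * x⁻¹) by group,
      Om.rf_conj hQ (Om.omega_le hxo) hQa hQA hA.symm,
      Om.rf_conj hQ (Om.omega_le hxo) hQb hQB hBx.symm] at this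
  have hRAc : ∀ c₁ c₂ : F, ∃ c₁' c₂' : F,
      (RA : Matrix ι ι F) *ᵥ (e + c₁ • A + c₂ • Bx) = e + c₁' • A + c₂' • Bx := fun c₁ c₂ => by
    refine ⟨c₁ - polar Q (e + c₁ • A + c₂ • Bx) A / Q A, c₂, ?_⟩
    rw [hRA, Om.rf_mulVec]; module
  have hRBc : ∀ c₁ c₂ : F, ∃ c₁' c₂' : F,
      (RB : Matrix ι ι F) *ᵥ (e + c₁ • A + c₂ • Bx) = e + c₁' • A + c₂' • Bx := fun c₁ c₂ => by
    refine ⟨c₁, c₂ - polar Q (e + c₁ • A + c₂ • Bx) Bx / Q Bx, ?_⟩
    rw [hRB, Om.rf_mulVec]; module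
  obtain ⟨c₁, c₂, hce⟩ : ∃ c₁ c₂ : F,
      ((RA * RB * RA * RB : GL ι F) : Matrix ι ι F) *ᵥ e = e + c₁ • A + c₂ • Bx := by
    have h0 : e = e + (0 : F) • A + (0 : F) • Bx := by module
    obtain ⟨p1, q1, h1⟩ := hRBc 0 0
    obtain ⟨p2, q2, h2⟩ := hRAc p1 q1
    obtain ⟨p3, q3, h3⟩ := hRBc p2 q2
    obtain ⟨p4, q4, h4⟩ := hRAc p3 q3
    refine ⟨p4, q4, ?_⟩
    simp only [gl_mulVec_mul]
    conv_lhs => rw [h0]
    rw [h1, h2, h3, h4]
  have hW := C.inW_conj hk' (C.sg_mem hv he hQv hve)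
  have hkv : ((RA * RB * RA * RB : GL ι F) : Matrix ι ι F) *ᵥ v = v := by
    simp only [gl_mulVec_mul, hRA, hRB, Om.rf_fix hQ hQB hBv, Om.rf_fix hQ hQA hAv]
  rw [hkv, hce] at hW
  refine ⟨r, v, _, hv, hv0, hQv, fun h => ?_, hW⟩
  have hsum : c₁ • A + c₂ • Bx ∈ D r := by
    have := (D r).sub_mem h he
    rwa [add_assoc, add_sub_cancel_left] at this
  have hzero := hinj (c₁ • a + c₂ • b) ((D l).add_mem ((D l).smul_mem _ haP.1) ((D l).smul_mem _ hbP.1))
    fun y hy => by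
      rw [mulVec_add, mulVec_smul, mulVec_smul, ← hA, ← hBx]
      exact C.blocks.orth hrl hsum hy
  obtain ⟨hc₁, hc₂⟩ := hli _ _ hzero
  rw [hc₁, hc₂, zero_smul, zero_smul, add_zero, add_zero] at hce
  -- the two orders of the reflections agree on `e`
  have hAA : RA * RA = 1 := Om.rf_mul_self hQ hQA
  have hBB : RB * RB = 1 := Om.rf_mul_self hQ hQB
  have hcomm : (RA : Matrix ι ι F) *ᵥ ((RB : Matrix ι ι F) *ᵥ e)
      = (RB : Matrix ι ι F) *ᵥ ((RA : Matrix ι ι F) *ᵥ e) := by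
    have h := congrArg (fun y => (RB : Matrix ι ι F) *ᵥ ((RA : Matrix ι ι F) *ᵥ y)) hce
    simp only [← gl_mulVec_mul] at h ⊢
    rwa [show RB * (RA * (RA * RB * RA * RB)) = RA * RB by
      calc RB * (RA * (RA * RB * RA * RB)) = RB * (RA * RA) * RB * (RA * RB) := by group
        _ = RA * RB := by rw [hAA, mul_one, hBB, one_mul]] at h
  simp only [hRA, hRB, Om.rf_mulVec, polar_sub_left, polar_smul_left, smul_eq_mul,
    polar_comm Q Bx A] at hcomm
  have key : (polar Q e Bx / Q Bx * (polar Q A Bx / Q A)) • A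
      - (polar Q e A / Q A * (polar Q A Bx / Q Bx)) • Bx = 0 := by
    linear_combination (norm := module) hcomm
  rw [hA, hBx, ← mulVec_smul, ← mulVec_smul, ← mulVec_sub] at key
  have key' : (polar Q e Bx / Q Bx * (polar Q A Bx / Q A)) • a
      + (-(polar Q e A / Q A * (polar Q A Bx / Q Bx))) • b = 0 := by
    rw [neg_smul, ← sub_eq_add_neg]
    exact gl_mulVec_injective x (key.trans (mulVec_zero _).symm)
  exact (mul_ne_zero (div_ne_zero heA hQA) (div_ne_zero hAB hQB))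
    (neg_eq_zero.1 (hli _ _ key').2)

/-- A block with plenty of vectors orthogonal to `p` and `w`. -/
lemma good_free (hk : k = 3) (h5 : 5 ≤ Fintype.card F) (hxM : x ∈ M) (hx : IsSg Q x p w)
    {r l : Fin t} (hrl : r ≠ l) (hmov : ∃ a ∈ D r, (x : Matrix ι ι F) *ᵥ a ∉ D r)
    (hinj : ∀ d ∈ D r, (∀ b ∈ D r, polar Q ((x : Matrix ι ι F) *ᵥ d) b = 0) → d = 0)
    (huniv : ∀ s : F, ∃ c ∈ D l, Q c = s ∧ polar Q c p = 0 ∧ polar Q c w = 0) :
    Good Q M D := by
  classical
  obtain ⟨ψ, hψ, hψC⟩ := C.exists_moved_fun r hmov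
  have hsurj : ∀ y : ι → F, ∃ a ∈ D r, ∀ z ∈ D r,
      polar Q ((x : Matrix ι ι F) *ᵥ a) z = polar Q y z := by
    let L : D r →ₗ[F] Module.Dual F (D r) :=
      LinearMap.mk₂ F (fun a z => polar Q ((x : Matrix ι ι F) *ᵥ (a : ι → F)) (z : ι → F))
        (fun _ _ _ => by rw [Submodule.coe_add, mulVec_add, polar_add_left])
        (fun _ _ _ => by rw [Submodule.coe_smul, mulVec_smul, polar_smul_left])
        (fun _ _ _ => by rw [Submodule.coe_add, polar_add_right])
        (fun _ _ _ => by rw [Submodule.coe_smul, polar_smul_right])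
    have hi : Function.Injective L := by
      rw [injective_iff_map_eq_zero]
      exact fun a ha => Subtype.ext (hinj a a.2 fun b hb => LinearMap.congr_fun ha ⟨b, hb⟩)
    have hs : Function.Surjective L :=
      (LinearMap.injective_iff_surjective_of_finrank_eq_finrank Subspace.dual_finrank_eq.symm).1 hi
    intro y
    obtain ⟨a, ha⟩ := hs ((polarBilin Q y).comp (D r).subtype)
    exact ⟨a, a.2, fun z hz => LinearMap.congr_fun ha ⟨z, hz⟩⟩
  obtain ⟨u, hu, hu0, hQu⟩ := C.blocks.exists_singular r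
  obtain ⟨u', hu', hQu', huu'⟩ := C.blocks.exists_sg_partner hu hu0 hQu
  let φ : (ι → F) → (ι → F) →ₗ[F] F := fun y =>
    (polL Q y).comp (Matrix.toLin' (x : Matrix ι ι F))
  have hφ : ∀ y a, φ y a = polar Q ((x : Matrix ι ι F) *ᵥ a) y := fun y a => by
    simp [φ, polL_apply]
  obtain ⟨v, hv, hv0, hQv, hvC⟩ : ∃ v ∈ D r, v ≠ 0 ∧ Q v = 0 ∧
      ∃ a ∈ D r ⊓ LinearMap.ker (φ v), ψ a ≠ 0 := by
    by_contra hc
    push Not at hc
    have hu'0 : u' ≠ 0 := fun h => by rw [h, polar_zero_right] at huu'; exact zero_ne_one huu'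
    obtain ⟨b, hb, hbx⟩ := hsurj u
    have hb1 : φ u b = 0 := by rw [hφ, hbx u hu, polar_singular_self hQu]
    have hb2 : φ u' b = 1 := by rw [hφ, hbx u' hu', huu']
    obtain ⟨a, ha, hψa⟩ := hψ
    refine hψa ?_
    have h1 := hc u' hu' hu'0 hQu' (a - φ u' a • b) ⟨(D r).sub_mem ha ((D r).smul_mem _ hb), by
      rw [SetLike.mem_coe, LinearMap.mem_ker, map_sub, map_smul, hb2, smul_eq_mul, mul_one,
        sub_self]⟩
    have h2 := hc u hu hu0 hQu b ⟨hb, hb1⟩
    rwa [map_sub, map_smul, h2, smul_zero, sub_zero] at h1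
  obtain ⟨e, he, hve, hQe⟩ := C.blocks.exists_aniso_perp hv hv0 hQv
  set P := D r ⊓ LinearMap.ker (φ v) with hP
  have hPd : 2 ≤ Module.finrank F P := by
    have := OrthCrit.finrank_le_inf_ker_add_one (D r) (φ v)
    rw [C.blocks.finrank, hk] at this
    rw [hP]; omega
  have hne : ∃ a ∈ P, φ e a ≠ 0 := by
    by_contra hc
    push Not at hc
    obtain ⟨b₀, hb₀, hb₀x⟩ := hsurj e
    -- a preimage detecting `v`
    obtain ⟨z, hz, hvz⟩ := C.blocks.exists_ne hv hv0
    obtain ⟨a₀, ha₀, ha₀x⟩ := hsurj z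
    have hne₀ : φ v a₀ ≠ 0 := by rw [hφ, ha₀x v hv, polar_comm]; exact hvz
    set s := φ e a₀ / φ v a₀
    have hall : ∀ a ∈ D r, φ e a = s * φ v a := fun a ha => by
      have := hc (a - (φ v a / φ v a₀) • a₀) ⟨(D r).sub_mem ha ((D r).smul_mem _ ha₀), by
        rw [SetLike.mem_coe, LinearMap.mem_ker, map_sub, map_smul, smul_eq_mul,
          div_mul_cancel₀ _ hne₀, sub_self]⟩
      rw [map_sub, map_smul, smul_eq_mul, sub_eq_zero] at this
      rw [this]; ring
    have := hall b₀ hb₀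
    rw [hφ, hφ, hb₀x e he, hb₀x v hv, polar_self', polar_comm Q e v, hve, mul_zero] at this
    exact mul_ne_zero C.blocks.two hQe this
  obtain ⟨a, haP, hQa, hea, hψa⟩ := Blocks.exists_avoid_five h5 P
    (exists_aniso C.blocks hk inf_le_left hPd) (φ e) ψ hne hvC
  obtain ⟨c, hc, hQc, hcp, hcw⟩ := huniv (Q a)
  exact C.good_refl hxM hx hrl haP.1 hc (hQc ▸ hQa) hQc.symm hcp hcw (hψC a hψa) hv hv0 hQv
    (by rw [← hφ]; exact LinearMap.mem_ker.1 haP.2) he hve (by rwa [← hφ])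

omit x in
/-- A block in which `p` and `w` are multiples of one singular vector. -/
lemma good_line (h5 : 5 ≤ Fintype.card F) (hW : InW Q M p w) (hp : ∀ i, p ∉ D i) (hQp : Q p = 0)
    (hQw : Q w ≠ 0) {l : Fin t} {n : ι → F} {l₁ l₂ : F} (hn : n ∈ D l) (hn0 : n ≠ 0)
    (hQn : Q n = 0) (h1 : ∀ d ∈ D l, polar Q p d = l₁ * polar Q n d)
    (h2 : ∀ d ∈ D l, polar Q w d = l₂ * polar Q n d) (hne : l₁ ≠ 0 ∨ l₂ ≠ 0) :
    Good Q M D := by
  have hQ := isNondegenerateQuadraticForm C.blocks.nd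
  obtain ⟨n', hn', hQn', hnn'⟩ := C.blocks.exists_sg_partner hn hn0 hQn
  obtain ⟨s, hs0, hs1⟩ := exists_scalar h5
  have hQa : Q (n + (1 : F) • n') ≠ 0 := by rw [Q_comb1, hQn, hQn', hnn']; simp
  have hQb : Q (n + s • n') ≠ 0 := by rw [Q_comb1, hQn, hQn', hnn']; simpa using hs0
  have haD : n + (1 : F) • n' ∈ D l := (D l).add_mem hn ((D l).smul_mem _ hn')
  have hbD : n + s • n' ∈ D l := (D l).add_mem hn ((D l).smul_mem _ hn')
  have hh := C.refl_comm_mem haD hbD hQa hQb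
  set h := Om.rf hQ hQa * Om.rf hQ hQb * Om.rf hQ hQa * Om.rf hQ hQb with hdef
  have hhn : (h : Matrix ι ι F) *ᵥ n = (s * s) • n := by
    have e1 : (Om.rf hQ hQb : Matrix ι ι F) *ᵥ n = (-s) • n' := by
      rw [Om.rf_mulVec, Q_comb1, hQn, hQn', hnn', polar_add_right, polar_smul_right, hnn',
        polar_singular_self hQn]
      simp only [smul_eq_mul, mul_zero, mul_one, zero_add, div_self hs0]
      module
    have e2 : (Om.rf hQ hQa : Matrix ι ι F) *ᵥ n' = (-1 : F) • n := by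
      rw [Om.rf_mulVec, Q_comb1, hQn, hQn', hnn', polar_add_right, polar_smul_right,
        polar_comm Q n' n, hnn', polar_singular_self hQn']
      simp only [smul_eq_mul, mul_zero, mul_one, zero_add, add_zero, div_one]
      module
    simp only [hdef, gl_mulVec_mul, e1, mulVec_smul, e2, smul_smul]
    ring_nf
  have hhfix : ∀ y, (∀ d ∈ D l, polar Q y d = 0) → (h : Matrix ι ι F) *ᵥ y = y := fun y hy => by
    simp only [hdef, gl_mulVec_mul, Om.rf_fix hQ hQb (hy _ hbD), Om.rf_fix hQ hQa (hy _ haD)]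
  have hμ : s * s - 1 ≠ 0 := sub_ne_zero.2 hs1
  have hact : ∀ (y : ι → F) (c : F), (∀ d ∈ D l, polar Q y d = c * polar Q n d) →
      (h : Matrix ι ι F) *ᵥ y = y + (c * (s * s - 1)) • n := fun y c hy => by
    have e := hhfix (y - c • n) fun d hd => by
      rw [polar_sub_left, polar_smul_left, smul_eq_mul, hy d hd, sub_self]
    rw [mulVec_sub, mulVec_smul, hhn, sub_eq_iff_eq_add] at e
    rw [e]; module
  -- `Sg(p, c n)` suffices
  have hfin : ∀ c : F, c ≠ 0 → InW Q M p (c • n) → Good Q M D := by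
    intro c hc hcn
    obtain ⟨hpc, a, ha, hax⟩ := hcn
    refine ⟨l, c • n, -p, (D l).smul_mem _ hn, smul_ne_zero hc hn0,
      by rw [QuadraticMap.map_smul, hQn, smul_zero], fun h => hp l (by simpa using (D l).neg_mem h),
      by rw [polar_neg_right, polar_comm, hpc, neg_zero], a, ha, fun y => ?_⟩
    rw [hax y]
    simp only [polar_neg_right, QuadraticMap.map_neg, QuadraticMap.map_smul, hQn, hQp, smul_zero,
      zero_mul, sub_zero, neg_neg]
    module
  by_cases hl1 : l₁ = 0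
  · have hl2 := hne.resolve_left (fun e => e hl1)
    have := InW.add hQp (C.inW_conj hh hW |> fun h' => by
      rw [hact p l₁ h1, hact w l₂ h2, hl1, zero_mul, zero_smul, add_zero] at h'; exact h')
      (C.inW_neg hQp hW)
    refine hfin (l₂ * (s * s - 1)) (mul_ne_zero hl2 hμ) ?_
    rwa [add_right_comm, add_neg_cancel, zero_add] at this
  -- remove the component of `w`
  set w' := w + (-(l₂ / l₁)) • p with hw'
  obtain ⟨hpw, x₁, hx₁, hx₁x⟩ := hW
  have hQw' : Q w' = Q w := by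
    rw [hw', Q_comb1, hQp, polar_comm Q w p, hpw]; ring
  have hpw' : polar Q p w' = 0 := by
    rw [hw', polar_add_right, polar_smul_right, hpw, polar_singular_self hQp, smul_zero, add_zero]
  have hx₁' : IsSg Q x₁ p w' := fun y => by
    rw [hx₁x y, hQw', hw', polar_add_right, polar_smul_right, smul_eq_mul]
    module
  have hw'n : ∀ d ∈ D l, polar Q w' d = 0 := fun d hd => by
    rw [hw', polar_add_left, polar_smul_left, h1 d hd, h2 d hd, smul_eq_mul]
    field_simp
    ring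
  set c := l₁ * (s * s - 1) with hcdef
  obtain ⟨hpw2, x₂, hx₂, hx₂x⟩ := C.inW_conj hh (show InW Q M p w' from ⟨hpw', x₁, hx₁, hx₁'⟩)
  rw [hact p l₁ h1, hhfix w' hw'n] at hx₂x hpw2
  rw [← hcdef] at hx₂x hpw2
  have hnp : polar Q n p = 0 := by
    rw [polar_comm, h1 n hn, polar_singular_self hQn, mul_zero]
  have hnw : polar Q w' n = 0 := hw'n n hn
  obtain ⟨P⟩ := C.frame
  have hs2 : (2 * Q w' * c) ≠ 0 :=
    mul_ne_zero (mul_ne_zero C.blocks.two (hQw' ▸ hQw)) (mul_ne_zero hl1 hμ)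
  have hp2 : polar Q p ((2 * Q w' * c) • n) = 0 := by
    rw [polar_smul_right, polar_comm, hnp, smul_zero]
  obtain ⟨T, hT, hTx⟩ := exists_sg C.blocks.nd P hQp hp2
  refine hfin _ hs2 ⟨hp2, T, ?_, hTx⟩
  have : T * (x₂ * x₁) = x₁ * x₂ := gl_ext_mulVec fun y => by
    rw [gl_mulVec_mul T, gl_mulVec_mul x₂, gl_mulVec_mul x₁, hTx, hx₂x, hx₁', hx₁', hx₂x]
    simp only [polar_add_left, polar_smul_left, polar_add_right, polar_smul_right, smul_eq_mul,
      QuadraticMap.map_smul, hQn, polar_singular_self hQp, polar_singular_self hQn, hnp,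
      polar_comm Q p n, hpw', polar_comm Q w' p, hnw, polar_comm Q n w', polar_self']
    module
  rw [eq_mul_inv_of_mul_eq this]
  exact M.mul_mem (M.mul_mem hx₁ hx₂) (M.inv_mem (M.mul_mem hx₂ hx₁))

omit x in
/-- Some singular point of a block has a root element leaving the block. -/
lemma good_of_elem (hex : 5 ≤ k ∨ (k = 3 ∧ 5 ≤ Fintype.card F))
    (hW : ∀ τ : F, InW Q M p (τ • w)) (hp : ∀ i, p ∉ D i) (hQp : Q p = 0) (hQw : Q w ≠ 0) :
    Good Q M D := by
  classical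
  have hpw : polar Q p w = 0 := by simpa using (hW 1).1
  have hpne : ∀ l, ∃ r, r ≠ l ∧ ∃ d ∈ D r, polar Q d p ≠ 0 := by
    intro l
    by_contra hc
    push Not at hc
    exact hp l (C.blocks.mem_of_orth fun j hj y hy => by rw [polar_comm]; exact hc j hj y hy)
  rcases hex with hk | ⟨hk, h5⟩
  · obtain ⟨r, -, hr⟩ := hpne ⟨0, by have := C.blocks.three_le; omega⟩
    obtain ⟨l, hl, -⟩ := C.blocks.exists_third r r
    obtain ⟨-, x, hx, hxx⟩ := hW 1
    rw [one_smul] at hxx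
    exact C.good_five hk hx hxx hp hQw hQp hpw (Ne.symm hl) hr
  have hscale : ∀ (τ : F) (i : Fin t), τ ≠ 0 → Indep Q D p w i → Indep Q D p (τ • w) i :=
    fun τ i hτ hJ s s' hd => by
      obtain ⟨a, b⟩ := hJ s (s' * τ) fun d hd' => by
        have := hd d hd'
        rw [polar_smul_right, smul_eq_mul] at this
        linear_combination this
      exact ⟨a, (mul_eq_zero.1 b).resolve_right hτ⟩
  by_cases hJJ : ∃ r l, r ≠ l ∧ Indep Q D p w r ∧ Indep Q D p w l
  · obtain ⟨r, l, hrl, hr, hl⟩ := hJJ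
    obtain ⟨τ, hτ, hinj⟩ := C.exists_inj h5 p w l
    obtain ⟨-, x, hx, hxx⟩ := hW τ
    exact C.good_rot hk h5 hx hxx hrl (hscale τ r hτ hr) (hscale τ l hτ hl) (hinj x hxx)
  push Not at hJJ
  obtain ⟨l, hl⟩ : ∃ l, ¬ Indep Q D p w l := by
    by_contra hc
    push Not at hc
    obtain ⟨j, hj, -⟩ := C.blocks.exists_third ⟨0, by have := C.blocks.three_le; omega⟩
      ⟨0, by have := C.blocks.three_le; omega⟩
    exact hJJ j _ hj (hc _) (hc _)
  obtain ⟨n, hn, l₁, l₂, h1, h2, hne⟩ : ∃ n ∈ D l, ∃ l₁ l₂ : F,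
      (∀ d ∈ D l, polar Q p d = l₁ * polar Q n d) ∧ (∀ d ∈ D l, polar Q w d = l₂ * polar Q n d) ∧
      (n = 0 ∨ l₁ ≠ 0 ∨ l₂ ≠ 0) := by
    rw [Indep] at hl
    push Not at hl
    obtain ⟨s, s', hss, hnz⟩ := hl
    obtain ⟨pr, hpr, hprx⟩ := C.blocks.exists_proj l p
    obtain ⟨wr, hwr, hwrx⟩ := C.blocks.exists_proj l w
    by_cases hs' : s' = 0
    · have hs : s ≠ 0 := fun h => hnz h hs'
      refine ⟨wr, hwr, 0, 1, fun d hd => ?_, fun d hd => by rw [one_mul, hwrx d hd],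
        Or.inr (Or.inr one_ne_zero)⟩
      have := hss d hd
      rw [hs', zero_mul, add_zero, mul_eq_zero] at this
      rw [zero_mul, polar_comm]
      exact this.resolve_left hs
    · refine ⟨pr, hpr, 1, -(s / s'), fun d hd => by rw [one_mul, hprx d hd], fun d hd => ?_,
        Or.inr (Or.inl one_ne_zero)⟩
      rw [← hprx d hd, polar_comm Q w d, polar_comm Q p d]
      field_simp
      linear_combination hss d hd
  by_cases huniv : ∀ s : F, ∃ c ∈ D l, Q c = s ∧ polar Q c p = 0 ∧ polar Q c w = 0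
  · obtain ⟨r, hrl, hr⟩ := hpne l
    obtain ⟨τ, hτ, hinj⟩ := C.exists_inj h5 p w r
    obtain ⟨hpτ, x, hx, hxx⟩ := hW τ
    refine C.good_free hk h5 hx hxx hrl (C.exists_moved hxx hp ?_ hQp hpτ
      (hr.imp fun d hd => ⟨hd.1, Or.inl hd.2⟩)) (hinj x hxx) fun s => ?_
    · rw [QuadraticMap.map_smul, smul_eq_mul]; exact mul_ne_zero (mul_ne_zero hτ hτ) hQw
    · obtain ⟨c, hc, hQc, hcp, hcw⟩ := huniv s
      exact ⟨c, hc, hQc, hcp, by rw [polar_smul_right, hcw, smul_zero]⟩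
  have horth : ∀ e ∈ D l, polar Q e n = 0 → polar Q e p = 0 ∧ polar Q e w = 0 := fun e he h => by
    rw [polar_comm Q e p, polar_comm Q e w, h1 e he, h2 e he, polar_comm Q n e, h]
    simp
  have hn0 : n ≠ 0 := by
    intro h0
    apply huniv
    obtain ⟨e₁, a1, e₂, a2, q1, q2, q3⟩ := exists_orth_pair C.blocks l
    exact indep_pair_rep C.blocks a1 a2 q1 q2 q3 (horth e₁ a1 (by rw [h0, polar_zero_right])).1
      (horth e₁ a1 (by rw [h0, polar_zero_right])).2 (horth e₂ a2 (by rw [h0, polar_zero_right])).1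
      (horth e₂ a2 (by rw [h0, polar_zero_right])).2
  have hQn : Q n = 0 := by
    by_contra hQn
    apply huniv
    have hT : 2 ≤ Module.finrank F ↥(D l ⊓ LinearMap.ker (polL Q n)) := by
      have := OrthCrit.finrank_le_inf_ker_add_one (D l) (polL Q n)
      rw [C.blocks.finrank, hk] at this; omega
    obtain ⟨e₁, he₁, hQ1⟩ := exists_aniso C.blocks hk inf_le_left hT
    obtain ⟨e₂, he₂, he₂0⟩ := Submodule.exists_mem_ne_zero_of_ne_bot
      (p := D l ⊓ LinearMap.ker (polL Q n) ⊓ LinearMap.ker (polL Q e₁)) fun h => by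
        have := OrthCrit.finrank_le_inf_ker_add_one (D l ⊓ LinearMap.ker (polL Q n)) (polL Q e₁)
        rw [h, finrank_bot] at this; omega
    have a1 : polar Q e₁ n = 0 := LinearMap.mem_ker.1 he₁.2
    have a2 : polar Q e₂ n = 0 := LinearMap.mem_ker.1 he₂.1.2
    have a3 : polar Q e₂ e₁ = 0 := LinearMap.mem_ker.1 he₂.2
    have hQ2 : Q e₂ ≠ 0 := by
      intro h0
      refine he₂0 (eq_zero_of_triple C.blocks hk hn he₁.1 he₂.1.1 ?_ he₂.1.1 a2 a3
        (polar_singular_self h0))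
      refine Fintype.linearIndependent_iff.2 fun g hg => ?_
      simp only [Fin.sum_univ_three, Matrix.cons_val_zero, Matrix.cons_val_one, Matrix.cons_val_two,
        Matrix.tail_cons, Matrix.head_cons] at hg
      have q1 := congrArg (fun y => polar Q y n) hg
      simp only [polar_add_left, polar_smul_left, a1, a2, smul_eq_mul, mul_zero, add_zero,
        polar_zero_left, polar_self'] at q1
      have g0 : g 0 = 0 := (mul_eq_zero.1 q1).resolve_right (mul_ne_zero C.blocks.two hQn)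
      rw [g0, zero_smul, zero_add] at hg
      have q2 := congrArg (fun y => polar Q y e₁) hg
      simp only [polar_add_left, polar_smul_left, a3, smul_eq_mul, mul_zero, add_zero,
        polar_zero_left, polar_self'] at q2
      have g1 : g 1 = 0 := (mul_eq_zero.1 q2).resolve_right (mul_ne_zero C.blocks.two hQ1)
      rw [g1, zero_smul, zero_add, smul_eq_zero] at hg
      have g2 : g 2 = 0 := hg.resolve_right he₂0
      intro i
      fin_cases i <;> assumption
    exact indep_pair_rep C.blocks he₁.1 he₂.1.1 hQ1 hQ2 (by rw [polar_comm]; exact a3)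
      (horth e₁ he₁.1 a1).1 (horth e₁ he₁.1 a1).2 (horth e₂ he₂.1.1 a2).1 (horth e₂ he₂.1.1 a2).2
  exact C.good_line h5 (by simpa using hW 1) hp hQp hQw hn hn0 hQn h1 h2 (hne.resolve_left hn0)

/-! ### Spreading -/

omit x p w in
/-- One root element between two blocks gives all of them. -/
lemma edge_of {i j : Fin t} (hij : i ≠ j) {u y : ι → F} (hu : u ∈ D i) (hu0 : u ≠ 0)
    (hQu : Q u = 0) (hy : y ∈ D j) (hy0 : y ≠ 0) (hW : InW Q M u y) :
    ∀ u' ∈ D i, Q u' = 0 → ∀ b ∈ D j, InW Q M u' b := by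
  classical
  have hQ := isNondegenerateQuadraticForm C.blocks.nd
  obtain ⟨l, hli, hlj⟩ := C.blocks.exists_third i j
  have hstep : ∀ u ∈ D i, ∀ u' ∈ D i, Q u = 0 → Q u' = 0 → polar Q u u' ≠ 0 → ∀ b ∈ D j,
      InW Q M u b → InW Q M u' b := by
    intro u hu u' hu' hQu hQu' hne b hb hW
    set a := u - u' with ha
    have hQa : Q a = -polar Q u u' := by
      rw [ha, Om.Q_sub hQ, hQu, hQu']; ring
    have hQa0 : Q a ≠ 0 := by rw [hQa]; exact neg_ne_zero.2 hne
    obtain ⟨c, hc, hQc⟩ := C.blocks.exists_value l (Q a)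
    have haD : a ∈ D i := (D i).sub_mem hu hu'
    have hk := C.refl_pair_mem (Ne.symm hli) haD hc hQa0 (hQc ▸ hQa0) hQc.symm
    have := C.inW_conj hk hW
    rw [gl_mulVec_mul, gl_mulVec_mul, Om.rf_fix hQ _ (C.blocks.orth (Ne.symm hli) hu hc),
      Om.rf_fix hQ (hQc ▸ hQa0) (C.blocks.orth (Ne.symm hlj) hb hc),
      Om.rf_fix hQ hQa0 (C.blocks.orth (Ne.symm hij) hb haD), Om.rf_mulVec,
      show polar Q u a = Q a by
        rw [ha, polar_sub_right, polar_singular_self hQu, ← ha, hQa, zero_sub],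
      div_self hQa0, one_smul, ha, sub_sub_cancel] at this
    exact this
  have hzero : ∀ b ∈ D j, InW Q M 0 b := fun b _ =>
    ⟨polar_zero_left _ _, 1, M.one_mem, fun z => by simp [polar_zero_right]⟩
  have hall : ∀ u ∈ D i, u ≠ 0 → Q u = 0 → ∀ b ∈ D j, InW Q M u b →
      ∀ u' ∈ D i, Q u' = 0 → InW Q M u' b := by
    intro u hu hu0 hQu b hb hW u' hu' hQu'
    by_cases hu'0 : u' = 0
    · rw [hu'0]; exact hzero b hb
    by_cases hne : polar Q u u' = 0
    · obtain ⟨z, hz, hQz, huz⟩ := C.blocks.exists_sg_partner hu hu0 hQu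
      by_cases hzu : polar Q z u' = 0
      · obtain ⟨z', hz', hz1, hz2⟩ := C.blocks.exists_both hu hu' hu0 hu'0
        set z₁ := (polar Q u z')⁻¹ • z' with hz₁
        have f1 : polar Q u z₁ = 1 := by
          rw [hz₁, polar_smul_right, smul_eq_mul, inv_mul_cancel₀ hz1]
        have f2 : polar Q u' z₁ ≠ 0 := by
          rw [hz₁, polar_smul_right, smul_eq_mul]; exact mul_ne_zero (inv_ne_zero hz1) hz2
        have hz₁D : z₁ ∈ D i := (D i).smul_mem _ hz'
        clear_value z₁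
        set m := z₁ + (-(Q z₁)) • u with hm
        have hmD : m ∈ D i := (D i).add_mem hz₁D ((D i).smul_mem _ hu)
        have hQm : Q m = 0 := by rw [hm, Q_comb1, hQu, polar_comm Q z₁ u, f1]; ring
        refine hstep m hmD u' hu' hQm hQu' ?_ b hb (hstep u hu m hmD hQu hQm ?_ b hb hW)
        · rw [hm, polar_add_left, polar_smul_left, hne, smul_zero, add_zero, polar_comm]
          exact f2
        · rw [hm, polar_add_right, polar_smul_right, polar_singular_self hQu, f1]; simp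
      · exact hstep z hz u' hu' hQz hQu' hzu b hb
          (hstep u hu z hz hQu hQz (by rw [huz]; exact one_ne_zero) b hb hW)
    · exact hstep u hu u' hu' hQu hQu' hne b hb hW
  let B : Submodule F (ι → F) :=
    { carrier := {b | b ∈ D j ∧ ∀ u' ∈ D i, Q u' = 0 → InW Q M u' b}
      zero_mem' := ⟨(D j).zero_mem, fun u' _ _ => InW.zero u'⟩
      add_mem' := fun {b b'} hb hb' => ⟨(D j).add_mem hb.1 hb'.1, fun u' hu' hQu' =>
        InW.add hQu' (hb.2 u' hu' hQu') (hb'.2 u' hu' hQu')⟩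
      smul_mem' := fun c b hb => ⟨(D j).smul_mem c hb.1, fun u' hu' hQu' => by
        by_cases hc : c = 0
        · rw [hc, zero_smul]; exact InW.zero u'
        obtain ⟨-, a, ha, hax⟩ := hb.2 (c • u') ((D i).smul_mem _ hu')
          (by rw [QuadraticMap.map_smul, hQu', smul_zero])
        exact ⟨C.blocks.orth hij hu' ((D j).smul_mem _ hb.1), a, ha, IsSg.smul c hax⟩⟩ }
  have hyB : y ∈ B := ⟨hy, hall u hu hu0 hQu y hy hW⟩
  have hinv : ∀ b ∈ B, ∀ d ∈ D j, Q d ≠ 0 → polar Q b d ≠ 0 → d ∈ B := by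
    intro b hb d hd hQd hbd
    obtain ⟨a, ha, hQa⟩ := C.blocks.exists_value i (Q d)
    have hQa0 : Q a ≠ 0 := hQa ▸ hQd
    have hk := C.refl_pair_mem hij ha hd hQa0 hQd hQa
    obtain ⟨v, hv, hv0, hQv⟩ := C.blocks.exists_singular i
    have := C.inW_conj hk (hb.2 v hv hQv)
    rw [gl_mulVec_mul, gl_mulVec_mul, Om.rf_fix hQ hQd (C.blocks.orth hij hv hd),
      Om.rf_mulVec hQ hQd b, mulVec_sub, mulVec_smul,
      Om.rf_fix hQ hQa0 (C.blocks.orth (Ne.symm hij) hb.1 ha),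
      Om.rf_fix hQ hQa0 (C.blocks.orth (Ne.symm hij) hd ha)] at this
    have hmem : b - (polar Q b d / Q d) • d ∈ B := ⟨(D j).sub_mem hb.1 ((D j).smul_mem _ hd),
      hall _ (by rw [Om.rf_mulVec]; exact (D i).sub_mem hv ((D i).smul_mem _ ha))
        (gl_mulVec_ne_zero _ hv0) (by rw [Om.iso_Q hQ (Om.rf_mem hQ hQa0), hQv]) _
        ((D j).sub_mem hb.1 ((D j).smul_mem _ hd)) this⟩
    have h' := B.sub_mem hb hmem
    rw [sub_sub_cancel] at h'
    exact (Submodule.smul_mem_iff B (div_ne_zero hbd hQd)).1 h'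
  suffices hBD : ∀ d ∈ D j, d ∈ B from fun u' hu' hQu' b hb => (hBD b hb).2 u' hu' hQu'
  let B' : Submodule F (ι → F) :=
    { carrier := {c | c ∈ D j ∧ ∀ b ∈ B, polar Q b c = 0}
      zero_mem' := ⟨(D j).zero_mem, fun b _ => polar_zero_right _ _⟩
      add_mem' := fun {c c'} hc hc' => ⟨(D j).add_mem hc.1 hc'.1, fun b hb => by
        rw [polar_add_right, hc.2 b hb, hc'.2 b hb, add_zero]⟩
      smul_mem' := fun s c hc => ⟨(D j).smul_mem s hc.1, fun b hb => by
        rw [polar_smul_right, hc.2 b hb, smul_zero]⟩ }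
  have hor : ∀ d ∈ D j, Q d ≠ 0 → d ∈ B ∨ d ∈ B' := fun d hd hQd => by
    by_cases hd' : ∀ b ∈ B, polar Q b d = 0
    · exact Or.inr ⟨hd, hd'⟩
    · push Not at hd'
      obtain ⟨b, hb, hne⟩ := hd'
      exact Or.inl (hinv b hb d hd hQd hne)
  obtain ⟨b₀, hb₀, hQb₀⟩ := C.blocks.exists_value j 1
  have hsum : D j ≤ B ⊔ B' := by
    have hin : ∀ d ∈ D j, Q d ≠ 0 → d ∈ B ⊔ B' := fun d hd hQd => (hor d hd hQd).elim
      (fun h => Submodule.mem_sup_left h) fun h => Submodule.mem_sup_right h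
    intro d hd
    have hb₀' := hin b₀ hb₀ (by rw [hQb₀]; exact one_ne_zero)
    by_cases hQd : Q d ≠ 0
    · exact hin d hd hQd
    rw [not_not] at hQd
    by_cases h1 : Q (d + (1 : F) • b₀) ≠ 0
    · have := Submodule.sub_mem _ (hin _ ((D j).add_mem hd ((D j).smul_mem _ hb₀)) h1) hb₀'
      rwa [one_smul, add_sub_cancel_right] at this
    · rw [not_not] at h1
      have h2 : Q (d + (-1 : F) • b₀) ≠ 0 := fun h2 => C.blocks.two (by
        rw [Q_comb1, hQd, hQb₀] at h1 h2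
        linear_combination h1 + h2)
      have := Submodule.add_mem _ (hin _ ((D j).add_mem hd ((D j).smul_mem _ hb₀)) h2) hb₀'
      rwa [neg_one_smul, neg_add_cancel_right] at this
  have hdisj : ∀ c ∈ B, c ∈ B' → c = 0 := fun c hcB hcB' => by
    refine C.blocks.eq_zero_of_orth hcB'.1 fun d hd => ?_
    obtain ⟨b, hb, c', hc', rfl⟩ := Submodule.mem_sup.1 (hsum hd)
    rw [polar_add_right, hc'.2 c hcB, add_zero, polar_comm]
    exact hcB'.2 b hb
  have hvals : ∀ b ∈ B, b ≠ 0 → ∀ c ∈ B', c ≠ 0 → Q c = -Q b := by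
    intro b hb hb0 c hc hc0
    by_contra hne
    have hbc : Q (b + c) ≠ 0 := fun e => hne (by
      rw [QuadraticMap.map_add Q, hc.2 b hb, add_zero] at e
      exact eq_neg_of_add_eq_zero_right e)
    rcases hor _ ((D j).add_mem hb.1 hc.1) hbc with h | h
    · have hcB := B.sub_mem h hb
      rw [add_sub_cancel_left] at hcB
      exact hc0 (hdisj c hcB hc)
    · have hbB' := B'.sub_mem h hc
      rw [add_sub_cancel_right] at hbB'
      exact hb0 (hdisj b hb hbB')
  suffices hB' : B' = ⊥ by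
    intro d hd
    have := hsum hd
    rwa [hB', sup_bot_eq] at this
  by_contra hne
  obtain ⟨c, hc, hc0⟩ := Submodule.exists_mem_ne_zero_of_ne_bot hne
  have hconst : ∀ (S : Submodule F (ι → F)) (q : F), (∀ z ∈ S, z ≠ 0 → Q z = q) →
      2 ≤ Module.finrank F S → q = 0 := by
    intro S q hS hd
    obtain ⟨z, hz, hz0⟩ := Submodule.exists_mem_ne_zero_of_ne_bot (p := S) fun h => by
      rw [h, finrank_bot] at hd; omega
    obtain ⟨z', hz', hzn⟩ : ∃ z' ∈ S, z' ∉ Submodule.span F {z} := by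
      by_contra hc
      push Not at hc
      have := Submodule.finrank_mono (hc : S ≤ _)
      rw [finrank_span_singleton hz0] at this
      omega
    have n1 : ∀ s : F, z' + s • z ≠ 0 := fun s h => hzn (Submodule.mem_span_singleton.2
      ⟨-s, by rw [neg_smul]; exact (eq_neg_of_add_eq_zero_left h).symm⟩)
    have e1 := hS _ (S.add_mem hz' (S.smul_mem (1 : F) hz)) (n1 1)
    have e2 := hS _ (S.add_mem hz' (S.smul_mem (-1 : F) hz)) (n1 (-1))
    have e0 := hS z' hz' (fun h => n1 0 (by rw [h, zero_smul, add_zero]))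
    rw [Q_comb1, hS z hz hz0, e0] at e1 e2
    exact (mul_eq_zero.1 (show (2 : F) * q = 0 by linear_combination e1 + e2)).resolve_left
      C.blocks.two
  have hdim : 3 ≤ Module.finrank F B + Module.finrank F B' := by
    have h1 := Submodule.finrank_mono hsum
    have h2 := Submodule.finrank_add_le_finrank_add_finrank B B'
    rw [C.blocks.finrank] at h1
    have := C.blocks.dim_three
    omega
  have hq : Q y = 0 := by
    rcases Nat.lt_or_ge (Module.finrank F B) 2 with hB | hB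
    · have h0 := hconst B' (-Q y) (fun z hz hz0 => hvals y hyB hy0 z hz hz0) (by omega)
      exact neg_eq_zero.1 h0
    · have h0 := hconst B (-Q c) (fun z hz hz0 => by rw [hvals z hz hz0 c hc hc0, neg_neg]) hB
      rw [hvals y hyB hy0 c hc hc0, neg_neg] at h0
      exact h0
  obtain ⟨d, hd, hQd⟩ := C.blocks.exists_value j 1
  obtain ⟨b, hb, c', hc', rfl⟩ := Submodule.mem_sup.1 (hsum hd)
  have hQc : Q c = 0 := by rw [hvals y hyB hy0 c hc hc0, hq, neg_zero]
  have hQb : Q b = 0 := by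
    by_cases hb0 : b = 0
    · rw [hb0, QuadraticMap.map_zero]
    · have := hvals b hb hb0 c hc hc0
      rw [hQc] at this
      exact neg_eq_zero.1 this.symm
  have hQc' : Q c' = 0 := by
    by_cases hc0' : c' = 0
    · rw [hc0', QuadraticMap.map_zero]
    · rw [hvals y hyB hy0 c' hc' hc0', hq, neg_zero]
  rw [QuadraticMap.map_add Q, hQb, hQc', hc'.2 b hb] at hQd
  simp at hQd

omit x p w in
/-- A good pair gives everything. -/
theorem omega_le_of_good (hG : Good Q M D) : omegaGL ⇑Q ≤ M := by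
  classical
  obtain ⟨P⟩ := C.frame
  obtain ⟨i, v, z, hv, hv0, hQv, hz, hW⟩ := hG
  obtain ⟨j, hji, d, hd, hzd⟩ : ∃ j, j ≠ i ∧ ∃ d ∈ D j, polar Q z d ≠ 0 := by
    by_contra hc
    push Not at hc
    exact hz (C.blocks.mem_of_orth hc)
  obtain ⟨v', hv', hQv', hzv'⟩ : ∃ v' ∈ D j, Q v' = 0 ∧ polar Q z v' ≠ 0 := by
    by_contra hc
    push Not at hc
    exact hzd (C.blocks.mem_of_singular (LinearMap.ker (polarBilin Q z))
      (fun u hu hQu => hc u hu hQu) hd)
  have hv'0 : v' ≠ 0 := fun h => hzv' (by rw [h, polar_zero_right])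
  obtain ⟨e, he, hv'e, hQe⟩ := C.blocks.exists_aniso_perp hv' hv'0 hQv'
  obtain ⟨-, h, hh, hhx⟩ := C.sg_mem hv' he hQv' hv'e
  have hhv : (h : Matrix ι ι F) *ᵥ v = v := by
    rw [hhx v, C.blocks.orth (Ne.symm hji) hv hv', C.blocks.orth (Ne.symm hji) hv he]; simp
  have hW' := InW.add hQv (C.inW_conj hh hW |> fun h' => by rw [hhv] at h'; exact h')
    (C.inW_neg hQv hW)
  rw [hhx z] at hW'
  set y := polar Q z v' • e + (-(polar Q z e) - Q e * polar Q z v') • v' with hy
  rw [show z + polar Q z v' • e + (-(polar Q z e) - Q e * polar Q z v') • v' + -z = y by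
    rw [hy]; abel] at hW'
  have hyD : y ∈ D j := (D j).add_mem ((D j).smul_mem _ he) ((D j).smul_mem _ hv')
  have hy0 : y ≠ 0 := fun h0 => by
    have := congrArg (fun u => polar Q u e) h0
    simp only [hy, polar_add_left, polar_smul_left, hv'e, polar_self', smul_eq_mul, mul_zero,
      add_zero, polar_zero_left] at this
    exact mul_ne_zero hzv' (mul_ne_zero C.blocks.two hQe) this
  have E1 := C.edge_of (Ne.symm hji) hv hv0 hQv hyD hy0 hW'
  -- the reversed edge
  have hsymm : ∀ {a b : Fin t}, a ≠ b → (∀ u ∈ D a, Q u = 0 → ∀ c ∈ D b, InW Q M u c) →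
      ∀ u ∈ D b, Q u = 0 → ∀ c ∈ D a, InW Q M u c := by
    intro a b hab hE
    obtain ⟨u₁, hu₁, hu₁0, hQu₁⟩ := C.blocks.exists_singular a
    obtain ⟨u₂, hu₂, hu₂0, hQu₂⟩ := C.blocks.exists_singular b
    obtain ⟨-, r, hr, hrx⟩ := hE u₁ hu₁ hQu₁ u₂ hu₂
    refine C.edge_of hab.symm hu₂ hu₂0 hQu₂ ((D a).neg_mem hu₁) (neg_ne_zero.2 hu₁0)
      ⟨by rw [polar_neg_right, C.blocks.orth hab.symm hu₂ hu₁, neg_zero], r, hr, fun x => ?_⟩
    rw [hrx x]
    simp only [polar_neg_right, QuadraticMap.map_neg, hQu₁, hQu₂, zero_mul, sub_zero, neg_neg]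
    module
  have hmove : ∀ {a b a' b' : Fin t} (c : GL ι F), c ∈ M →
      (∀ x ∈ D a, (c : Matrix ι ι F) *ᵥ x ∈ D a') → (∀ x ∈ D b, (c : Matrix ι ι F) *ᵥ x ∈ D b') →
      (∀ u ∈ D a, Q u = 0 → ∀ y ∈ D b, InW Q M u y) →
      ∀ u ∈ D a', Q u = 0 → ∀ y ∈ D b', InW Q M u y := by
    intro a b a' b' c hc ha hb hE u hu hQu y hy
    have hpre : ∀ {a a' : Fin t}, (∀ x ∈ D a, (c : Matrix ι ι F) *ᵥ x ∈ D a') →
        ∀ u ∈ D a', ∃ u₀ ∈ D a, (c : Matrix ι ι F) *ᵥ u₀ = u := by
      intro a a' ha u hu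
      have he : (D a).map (Matrix.toLin' (c : Matrix ι ι F)) = D a' := by
        refine Submodule.eq_of_le_of_finrank_eq ?_ ?_
        · rintro _ ⟨x, hx, rfl⟩
          rw [Matrix.toLin'_apply]; exact ha x hx
        · rw [← (Submodule.equivMapOfInjective _ (fun x y e => gl_mulVec_injective c
            (by simpa using e)) (D a)).finrank_eq, C.blocks.finrank, C.blocks.finrank]
      obtain ⟨u₀, hu₀, rfl⟩ := (he ▸ hu : u ∈ (D a).map (Matrix.toLin' (c : Matrix ι ι F)))
      exact ⟨u₀, hu₀, (Matrix.toLin'_apply _ _).symm⟩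
    obtain ⟨u₀, hu₀, rfl⟩ := hpre ha u hu
    obtain ⟨y₀, hy₀, rfl⟩ := hpre hb y hy
    rw [omega_iso (C.le_omega hc)] at hQu
    exact C.inW_conj hc (hE u₀ hu₀ hQu y₀ hy₀)
  have hedge : ∀ l, l ≠ i → ∀ u ∈ D i, Q u = 0 → ∀ c ∈ D l, InW Q M u c := by
    intro l hl
    by_cases hlj : l = j
    · subst hlj; exact E1
    obtain ⟨c, hcO, hcS, hc1, hc2⟩ := C.blocks.exists_cycle hji (Ne.symm hl) (Ne.symm hlj)
    exact hmove c (C.stab_le ⟨hcS, hcO⟩) hc1 hc2 (hsymm (Ne.symm hji) E1)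
  have hSS : ∀ u ∈ D i, Q u = 0 → u ∈ SS Q M := by
    intro u hu hQu
    refine ⟨hQu, fun z hzu => ?_⟩
    choose π hπ hπx using fun l => C.blocks.exists_proj l z
    let W : AddSubgroup (ι → F) :=
      { carrier := {y | InW Q M u y}
        zero_mem' := InW.zero u
        add_mem' := fun h h' => InW.add hQu h h'
        neg_mem' := fun h => C.inW_neg hQu h }
    have hmem : ∑ l, π l ∈ W := W.sum_mem fun l _ => by
      by_cases hli : l = i
      · subst hli
        exact C.sg_mem hu (hπ l) hQu (by rw [polar_comm, ← hπx l u hu, polar_comm, hzu])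
      · exact hedge l hli u hu hQu _ (hπ l)
    have hsum : z - ∑ l, π l = 0 := C.blocks.eq_zero_of_all fun l y hy => by
      rw [polar_sub_left, show polar Q (∑ m, π m) y = ∑ m, polar Q (π m) y from
        map_sum (polL Q y) π Finset.univ,
        Finset.sum_eq_single l (fun m _ hm => C.blocks.orth hm (hπ m) hy)
          (fun h => absurd (Finset.mem_univ l) h), hπx l y hy, sub_self]
    rw [← sub_eq_zero.1 hsum] at hmem
    exact hmem.2
  obtain ⟨u, hu, hu0, hQu⟩ := C.blocks.exists_singular i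
  obtain ⟨u', hu', hQu', huu'⟩ := C.blocks.exists_sg_partner hu hu0 hQu
  exact omega_le_of_pair C.blocks.nd P C.le_omega (hSS u hu hQu) (hSS u' hu' hQu')
    (by rw [huu']; exact one_ne_zero)

end Ctx

theorem decomposition_maximal [Fintype F] (B : Blocks Q k D) (P : Frame Q)
    (hex : 5 ≤ k ∨ (k = 3 ∧ 5 ≤ Fintype.card F)) :
    IsMaximalIn (omegaGL ⇑Q) (decompositionStabilizer D ⊓ omegaGL ⇑Q) := by
  classical
  refine isMaximalIn_of inf_le_right ?_ ?_
  · set i : Fin t := ⟨0, by have := B.three_le; omega⟩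
    obtain ⟨l, hl, -⟩ := B.exists_third i i
    obtain ⟨u, hu, hu0, hQu⟩ := B.exists_singular i
    obtain ⟨b, hb, hQb⟩ := B.exists_value l 1
    obtain ⟨h, hh, hhx⟩ := exists_sg B.nd P hQu (B.orth (Ne.symm hl) hu hb)
    refine ⟨h, hh, fun hmem => ?_⟩
    obtain ⟨v, hv, -, huv⟩ := B.exists_sg_partner hu hu0 hQu
    obtain ⟨m, hm⟩ := Frames.exists_block_image hmem.1 i
    have hmem' := hm v hv
    rw [hhx v, polar_comm Q v u, huv, B.orth (Ne.symm hl) hv hb, hQb] at hmem'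
    by_cases hmi : m = i
    · subst hmi
      have := B.orth (Ne.symm hl) hmem' hb
      simp [polar_add_left, polar_smul_left, B.orth (Ne.symm hl) hv hb,
        B.orth (Ne.symm hl) hu hb, polar_self', hQb, B.two] at this
    · have := B.orth hmi hmem' hu
      simp [polar_add_left, polar_smul_left, polar_singular_self hQu, polar_comm Q v u, huv,
        B.orth hl hb hu] at this
  intro M hHM hMK g hgM hgH
  have C : Ctx Q k D M := ⟨B, ⟨P⟩, hMK, hHM⟩
  have hgo := hMK hgM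
  obtain ⟨i, u, hu, hu0, hQu, hgu⟩ : ∃ i u, u ∈ D i ∧ u ≠ 0 ∧ Q u = 0 ∧
      ∀ j, (g : Matrix ι ι F) *ᵥ u ∉ D j := by
    by_contra hcon
    push Not at hcon
    have hblock : ∀ i, ∃ j, ∀ y ∈ D i, (g : Matrix ι ι F) *ᵥ y ∈ D j := by
      intro i
      obtain ⟨u₀, hu₀, hu₀0, hQu₀⟩ := B.exists_singular i
      obtain ⟨j, hj⟩ := hcon i u₀ hu₀ hu₀0 hQu₀
      refine ⟨j, fun y hy => ?_⟩
      have hstep : ∀ u u', u ∈ D i → u' ∈ D i → Q u = 0 → Q u' = 0 → polar Q u u' ≠ 0 →
          (g : Matrix ι ι F) *ᵥ u ∈ D j → (g : Matrix ι ι F) *ᵥ u' ∈ D j := by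
        intro u u' hu hu' hQu hQu' hne h
        obtain ⟨j', hj'⟩ := hcon i u' hu' (fun e => hne (by rw [e, polar_zero_right])) hQu'
        by_cases e : j = j'
        · exact e ▸ hj'
        exact absurd (by rw [← omega_polar hgo]; exact B.orth e h hj') hne
      refine B.mem_of_singular ((D j).comap (Matrix.toLin' (g : Matrix ι ι F)))
        (fun u' hu' hQu' => ?_) hy |> fun h => by simpa [Submodule.mem_comap] using h
      rw [Submodule.mem_comap, Matrix.toLin'_apply]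
      by_cases hu'0 : u' = 0
      · rw [hu'0, mulVec_zero]; exact zero_mem _
      by_cases hne : polar Q u₀ u' = 0
      · obtain ⟨z', hz', hz1, hz2⟩ := B.exists_both hu₀ hu' hu₀0 hu'0
        set z₁ := (polar Q u₀ z')⁻¹ • z' with hz₁
        have f1 : polar Q u₀ z₁ = 1 := by
          rw [hz₁, polar_smul_right, smul_eq_mul, inv_mul_cancel₀ hz1]
        have f2 : polar Q u' z₁ ≠ 0 := by
          rw [hz₁, polar_smul_right, smul_eq_mul]; exact mul_ne_zero (inv_ne_zero hz1) hz2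
        have hz₁D : z₁ ∈ D i := (D i).smul_mem _ hz'
        clear_value z₁
        set m := z₁ + (-(Q z₁)) • u₀ with hm
        have hmD : m ∈ D i := (D i).add_mem hz₁D ((D i).smul_mem _ hu₀)
        have hQm : Q m = 0 := by rw [hm, Q_comb1, hQu₀, polar_comm Q z₁ u₀, f1]; ring
        refine hstep m u' hmD hu' hQm hQu' ?_ (hstep u₀ m hu₀ hmD hQu₀ hQm ?_ hj)
        · rw [hm, polar_add_left, polar_smul_left, hne, smul_zero, add_zero, polar_comm]
          exact f2
        · rw [hm, polar_add_right, polar_smul_right, polar_singular_self hQu₀, f1]; simp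
      · exact hstep u₀ u' hu₀ hu' hQu₀ hQu' hne hj
    choose σ hσ using hblock
    have hinj : Function.Injective σ := by
      intro a b e
      by_contra hab
      have hmap : ∀ c, (D c).map (Matrix.toLin' (g : Matrix ι ι F)) = D (σ c) := fun c => by
        refine Submodule.eq_of_le_of_finrank_eq ?_ ?_
        · rintro _ ⟨y, hy, rfl⟩
          rw [Matrix.toLin'_apply]; exact hσ c y hy
        · rw [← (Submodule.equivMapOfInjective _ (fun x y e => gl_mulVec_injective g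
            (by simpa using e)) (D c)).finrank_eq, B.finrank, B.finrank]
      have h1 : D a = D b := Submodule.map_injective_of_injective
        (fun x y e => gl_mulVec_injective g (by simpa using e))
        ((hmap a).trans ((congrArg D e).trans (hmap b).symm))
      obtain ⟨y, hy, hy0⟩ := B.ne_bot a
      exact hy0 (B.disjoint hab hy (h1 ▸ hy))
    exact hgH ⟨B.mem_stab_of_le (Equiv.ofBijective σ (Finite.injective_iff_bijective.1 hinj)) hσ,
      hgo⟩
  obtain ⟨e, he, hue, hQe⟩ := B.exists_aniso_perp hu hu0 hQu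
  refine C.omega_le_of_good (C.good_of_elem (p := (g : Matrix ι ι F) *ᵥ u)
    (w := (g : Matrix ι ι F) *ᵥ e) hex (fun τ => ?_) hgu (by rw [omega_iso hgo, hQu])
    (by rwa [omega_iso hgo]))
  have := C.inW_conj hgM (C.sg_mem hu ((D i).smul_mem τ he) hQu
    (by rw [polar_smul_right, hue, smul_zero]))
  rwa [mulVec_smul] at this

end CfsgLib.ClassicalMax.OrthBlk
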