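/-
Over three elements an orthogonal decomposition into three-spaces refines to a frame.
-/
import Cfsg.Agent.Lib.ClassicalMax.OmegaTools
import Cfsg.Agent.Lib.ClassicalMax.OrthThree
import Cfsg.Agent.Lib.ClassicalMax.UnitFrame
set_option autoImplicit false

namespace CfsgLib.ClassicalMax.Om

open Matrix Cfsg.Geo QuadraticMap

variable {ι : Type} [Fintype ι] [DecidableEq ι] {F : Type*} [Field F] {Q : (ι → F) → F}

theorem blocks_not_maximal [Fintype F] (hq : Fintype.card F = 3)
    (hQ : IsNondegenerateQuadraticForm Q) (hn : 13 ≤ Fintype.card ι) {t : ℕ}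
    {D : Fin t → Submodule F (ι → F)} (hD : IsOrthogonalMDecomposition Q 3 D) :
    ∃ K : Subgroup (GL ι F), decompositionStabilizer D ⊓ omegaGL Q < K ∧ K < omegaGL Q := by
  classical
  have h3 := OrthThree.three_eq_zero hq
  have h2 := OrthThree.two_ne_zero' hq
  have ht := Unit.Frame.card_blocks hD.decomp.decomp
  obtain ⟨d, u₀, hu₀⟩ := OrthThree.exists_triple hq hQ.polar_bilinear (polar_comm' Q)
    (hD.decomp.decomp.finrank_eq (⟨0, by omega⟩ : Fin t)) (hD.decomp.nondegenerate _)
  have htr : ∀ i, ∃ u, OrthThree.IsTriple (polar Q) (D i) d u := by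
    intro i
    obtain ⟨e, he⟩ := hD.isometric ⟨0, by omega⟩ i
    refine ⟨fun k => (e ⟨u₀ k, hu₀.mem k⟩ : ι → F), OrthThree.isTriple_of hq hQ.polar_bilinear
      (hD.decomp.decomp.finrank_eq i) hu₀.d_ne (fun k => (e _).2) fun k l => ?_⟩
    rw [← hu₀.form k l, polar, polar, ← Submodule.coe_add, ← map_add, he, he, he]
    rfl
  choose v hv using htr
  let e : Fin t × Fin 3 → ι → F := fun s => v s.1 s.2
  have hli : LinearIndependent F e :=
    Frames.linearIndependent_blocks hD.decomp.decomp.indep (v := e) (fun i b => (hv i).mem b)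
      fun i => (hv i).li
  have hee : ∀ s s', polar Q (e s) (e s') = if s = s' then d else 0 := by
    rintro ⟨i, b⟩ ⟨j, c⟩
    rcases eq_or_ne i j with rfl | hij
    · simp only [e, (hv i).form, Prod.mk.injEq, true_and]
    · rw [if_neg (fun h => hij (congrArg Prod.fst h))]
      exact hD.decomp.orthogonal i j hij _ ((hv i).mem b) _ ((hv j).mem c)
  have hQe : ∀ s, Q (e s) = -d := fun s => by
    have h := polar_self hQ (e s)
    rw [hee, if_pos rfl] at h
    linear_combination h + Q (e s) * h3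
  have hd := hu₀.d_ne
  have hxx : ∀ s, polar Q (e s) (e s) = d := fun s => by rw [hee, if_pos rfl]
  have hxy : ∀ s s', s ≠ s' → polar Q (e s) (e s') = 0 := fun s s' h => by rw [hee, if_neg h]
  let j : Fin 5 → Fin t := Fin.castLE (by omega)
  have hj : Function.Injective j := Fin.castLE_injective _
  let k : Fin 5 → Fin t × Fin 3 := fun i => (j i, 0)
  have hk : ∀ a b, a ≠ b → k a ≠ k b := fun a b h e' => h (hj (congrArg Prod.fst e'))
  refine ⟨decompositionStabilizer (Frames.lines e) ⊓ omegaGL Q, lt_of_le_of_ne ?_ ?_,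
    lt_of_le_of_ne inf_le_right ?_⟩
  · intro g hg
    refine ⟨Frames.mem_lines_stab hli fun s => ?_, hg.2⟩
    obtain ⟨i, hi⟩ := Frames.exists_block_image hg.1 s.1
    obtain ⟨b, c, hc⟩ := (hv i).line _ (hi _ ((hv s.1).mem s.2))
      ((iso_polar hQ (omega_le hg.2) _ _).trans (hxx s))
    exact ⟨(i, b), c, hc⟩
  · intro heq
    set p : Fin t × Fin 3 := (j 0, 1) with hp
    have hp1 : ∀ i, p ≠ k i := fun i h => by
      have := congrArg Prod.snd h; simp [p, k] at this
    set a := e (k 0) - e (k 1) with ha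
    set b := e p - e (k 2) with hb
    have hQa : Q a = d := by
      rw [ha, Q_sub hQ, hQe, hQe, hxy _ _ (hk _ _ (by decide))]; linear_combination -d * h3
    have hQb : Q b = d := by
      rw [hb, Q_sub hQ, hQe, hQe, hxy _ _ (hp1 2)]; linear_combination -d * h3
    have hab : polar Q a b = 0 := by
      rw [ha, hb, sub_left hQ, sub_right hQ, sub_right hQ, hxy _ _ (hp1 0).symm,
        hxy _ _ (hk 0 2 (by decide)), hxy _ _ (hp1 1).symm, hxy _ _ (hk 1 2 (by decide))]
      ring
    have ha0 : Q a ≠ 0 := by rw [hQa]; exact hd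
    have hb0 : Q b ≠ 0 := by rw [hQb]; exact hd
    have hsw : ∀ (x y : Fin t × Fin 3) (_ : x ≠ y) (hr : Q (e x - e y) ≠ 0),
        Q (e x - e y) = d → ∀ s, (rf hQ hr : Matrix ι ι F) *ᵥ e s = e (Equiv.swap x y s) := by
      intro x y hxy' hr hval s
      rw [rf_mulVec, hval, sub_right hQ]
      rcases eq_or_ne s x with rfl | hsx
      · rw [hxx, hxy _ _ hxy', sub_zero, div_self hd, one_smul, sub_sub_cancel,
          Equiv.swap_apply_left]
      rcases eq_or_ne s y with rfl | hsy
      · rw [hxx, hxy _ _ hsx, zero_sub, neg_div, div_self hd, neg_smul, one_smul, sub_neg_eq_add,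
          add_sub_cancel, Equiv.swap_apply_right]
      · rw [hxy _ _ hsx, hxy _ _ hsy, sub_zero, zero_div, zero_smul, sub_zero,
          Equiv.swap_apply_of_ne_of_ne hsx hsy]
    have hmove : ∀ s, ((rf hQ ha0 * rf hQ hb0 : GL ι F) : Matrix ι ι F) *ᵥ e s =
        e (Equiv.swap (k 0) (k 1) (Equiv.swap p (k 2) s)) := fun s => by
      rw [gl_mulVec_mul, hsw p (k 2) (hp1 2) hb0 hQb, hsw (k 0) (k 1) (hk _ _ (by decide)) ha0 hQa]
    have hmem : (rf hQ ha0 * rf hQ hb0 : GL ι F) ∈
        decompositionStabilizer (Frames.lines e) ⊓ omegaGL Q := by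
      refine ⟨Frames.mem_lines_stab hli fun s => ⟨_, 1, by rw [hmove, one_smul]⟩,
        rf_mul_rf_mem hQ ha0 hb0 (hQa.trans hQb.symm) ?_⟩
      rw [Q_sub hQ, hQa, hQb, hab, sub_zero, ← two_mul]
      exact mul_ne_zero h2 hd
    rw [← heq] at hmem
    refine Frames.not_mem_stab hD.decomp.decomp.indep (i := j 0) (a := j 1) (b := j 2)
      (x := e (k 0)) (y := e p) ((hv _).mem _) ((hv _).mem _)
      (fun h => absurd (hj h) (by decide)) ?_ ?_ (hli.ne_zero _) (hli.ne_zero _) hmem.1
    · rw [hmove, Equiv.swap_apply_of_ne_of_ne (hp1 0).symm (hk 0 2 (by decide)),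
        Equiv.swap_apply_left]
      exact (hv _).mem _
    · rw [hmove, Equiv.swap_apply_left,
        Equiv.swap_apply_of_ne_of_ne (hk 2 0 (by decide)) (hk 2 1 (by decide))]
      exact (hv _).mem _
  · intro heq
    set a := e (k 0) + e (k 1) + e (k 2) + e (k 3) with ha
    have hQa : Q a = -d := by
      simp only [ha, Q_add hQ, add_left hQ, hQe, hxy _ _ (hk 0 1 (by decide)),
        hxy _ _ (hk 0 2 (by decide)), hxy _ _ (hk 1 2 (by decide)),
        hxy _ _ (hk 0 3 (by decide)), hxy _ _ (hk 1 3 (by decide)), hxy _ _ (hk 2 3 (by decide))]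
      linear_combination -d * h3
    have ha0 : Q a ≠ 0 := by rw [hQa]; exact neg_ne_zero.2 hd
    have hb0 : Q (e (k 4)) ≠ 0 := by rw [hQe]; exact neg_ne_zero.2 hd
    have hab : polar Q a (e (k 4)) = 0 := by
      rw [ha, add_left hQ, add_left hQ, add_left hQ, hxy _ _ (hk 0 4 (by decide)),
        hxy _ _ (hk 1 4 (by decide)), hxy _ _ (hk 2 4 (by decide)), hxy _ _ (hk 3 4 (by decide))]
      ring
    have hmem : (rf hQ ha0 * rf hQ hb0 : GL ι F) ∈
        decompositionStabilizer (Frames.lines e) ⊓ omegaGL Q := by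
      rw [heq]
      refine rf_mul_rf_mem hQ ha0 hb0 (hQa.trans (hQe _).symm) ?_
      rw [Q_sub hQ, hQa, hQe, hab, sub_zero, ← neg_add, ← two_mul]
      exact neg_ne_zero.2 (mul_ne_zero h2 hd)
    obtain ⟨s, c, hc⟩ := Frames.exists_of_mem_lines_stab hmem.1 (k 0)
    rw [gl_mulVec_mul, rf_fix hQ hb0 (hxy _ _ (hk 0 4 (by decide))), rf_mulVec, hQa,
      show polar Q (e (k 0)) a = d by
        rw [ha, add_right hQ, add_right hQ, add_right hQ, hxx, hxy _ _ (hk 0 1 (by decide)),
          hxy _ _ (hk 0 2 (by decide)), hxy _ _ (hk 0 3 (by decide))]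
        ring,
      div_neg, div_self hd, neg_smul, one_smul, sub_neg_eq_add] at hc
    have e1 := congrArg (fun x => polar Q x (e (k 1))) hc
    have e2 := congrArg (fun x => polar Q x (e (k 2))) hc
    simp only [smul_left hQ, add_left hQ, ha, hxy _ _ (hk 0 1 (by decide)), hxx,
      hxy _ _ (hk 2 1 (by decide)), hxy _ _ (hk 3 1 (by decide)), hxy _ _ (hk 0 2 (by decide)),
      hxy _ _ (hk 1 2 (by decide)), hxy _ _ (hk 3 2 (by decide)), zero_add, add_zero] at e1 e2
    rcases eq_or_ne s (k 1) with rfl | hs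
    · rw [hxy _ _ (hk 1 2 (by decide)), mul_zero] at e2; exact hd e2
    · rw [hxy _ _ hs, mul_zero] at e1; exact hd e1

end CfsgLib.ClassicalMax.Om
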