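/-
Two perpendicular isometric halves of even dimension give a form of plus type.
-/
import Cfsg.Agent.Lib.ClassicalMax.OrthEven
import Cfsg.Agent.Lib.Classical.Quad.Model
set_option autoImplicit false

namespace CfsgLib.ClassicalMax.OmN

open Matrix Cfsg.Geo QuadraticMap Module
open CfsgLib.Classical.Quad (NDPolar binForm binMul IsAniso)

variable {ι : Type} [Fintype ι] [DecidableEq ι] {F : Type*} [Field F] [Fintype F]
  {Q : QuadraticForm F (ι → F)}

/-- A linear map reversing the sign of an anisotropic binary form. -/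
theorem exists_anti {a b : F} (hab : IsAniso a b) :
    ∃ ψ : (Fin 2 → F) →ₗ[F] Fin 2 → F,
      Function.Injective ψ ∧ ∀ z, binForm a b (ψ z) = -binForm a b z := by
  obtain ⟨w, hw⟩ := Classical.Quad.exists_binForm_eq hab (-1 : F)
  have h : ∀ z, binForm a b (binMul a b w z) = -binForm a b z := fun z => by
    rw [Classical.Quad.binForm_binMul, hw]; ring
  refine ⟨binMul a b w, (injective_iff_map_eq_zero _).2 fun z hz => ?_, h⟩
  refine Classical.Quad.binForm_eq_zero hab ?_
  rw [← neg_eq_zero, ← h, hz, map_zero (binForm a b)]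

theorem exists_half (hnd : NDPolar Q) {W : Submodule F (ι → F)}
    (hW : IsNondegenerateOn (polar ⇑Q) W) {k : ℕ} (hk : finrank F W = k) (hke : Even k)
    {g : GL ι F} (hg : ∀ x, Q ((g : Matrix ι ι F) *ᵥ x) = Q x)
    (horth : ∀ x ∈ W, ∀ w ∈ W, polar Q ((g : Matrix ι ι F) *ᵥ x) w = 0) :
    ∃ U : Submodule F (ι → F), (∀ u ∈ U, Q u = 0) ∧ finrank F U = k := by
  classical
  let Q' : QuadraticForm F W := Q.comp W.subtype
  have hnd' : NDPolar Q' := by
    intro x hx
    by_contra h
    obtain ⟨-, y, hy, hne⟩ := hW _ x.2 (fun h0 => h (Subtype.ext h0))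
    exact hne (hx ⟨y, hy⟩)
  obtain ⟨m, r, e, f, R, hn, hr, hfam, hR, hani, hRo, hRnd⟩ :=
    FormsDisc.exists_decomp (finrank F W) Q' hnd' rfl
  -- coordinates on the anisotropic part, with a sign-reversing map
  obtain ⟨ρ, ψ, hρ, hψ, hρQ, hρo⟩ : ∃ (ρ : (Fin r → F) →ₗ[F] W) (ψ : (Fin r → F) →ₗ[F] Fin r → F),
      Function.Injective ρ ∧ Function.Injective ψ ∧
      (∀ z, Q' (ρ (ψ z)) = -Q' (ρ z)) ∧
      (∀ z i, polar Q' (e i) (ρ z) = 0 ∧ polar Q' (f i) (ρ z) = 0) := by
    haveI : Module.Free F R := Module.Free.of_divisionRing F R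
    obtain ⟨B⟩ : Nonempty (Basis (Fin r) F R) := ⟨Module.finBasisOfFinrankEq F R hR⟩
    let ρ : (Fin r → F) →ₗ[F] W := R.subtype.comp B.equivFun.symm.toLinearMap
    have hρ : Function.Injective ρ := R.injective_subtype.comp B.equivFun.symm.injective
    have hρR : ∀ z, ρ z ∈ R := fun z => (B.equivFun.symm z).2
    obtain ⟨s, hs⟩ := hke
    rcases (show r = 0 ∨ r = 2 by omega) with rfl | rfl
    · exact ⟨ρ, LinearMap.id, hρ, fun _ _ h => h, fun z => by
        rw [LinearMap.id_apply, Subsingleton.elim z 0, map_zero, map_zero, neg_zero],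
        fun z i => hRo _ (hρR z) i⟩
    set p := ρ (Pi.single 0 1) with hp
    set q := ρ (Pi.single 1 1) with hq
    have hdec : ∀ z, ρ z = z 0 • p + z 1 • q := fun z => by
      rw [hp, hq, ← map_smul, ← map_smul, ← map_add]
      congr 1
      funext i; fin_cases i <;> simp
    have hα : Q' p ≠ 0 := fun h => by
      have h0 := hani p (hρR _) h
      rw [hp, ← map_zero ρ] at h0
      simpa using congrFun (hρ h0) 0
    clear_value p q
    have hQρ : ∀ z, Q' (ρ z) = Q' p * binForm (polar Q' p q / Q' p) (Q' q / Q' p) z := fun z => by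
      rw [hdec, QuadraticMap.map_add (⇑Q'), QuadraticMap.map_smul, QuadraticMap.map_smul,
        polar_smul_left, polar_smul_right, Classical.Quad.binForm_apply]
      simp only [smul_eq_mul]
      field_simp
      ring
    have hab : IsAniso (polar Q' p q / Q' p) (Q' q / Q' p) := fun z₁ z₂ h => by
      have h1 : Q' (ρ ![z₁, z₂]) = 0 := by
        rw [hQρ, Classical.Quad.binForm_apply]
        simp only [Matrix.cons_val_zero, Matrix.cons_val_one]
        rw [h, mul_zero]
      have h2 := hani _ (hρR _) h1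
      rw [← map_zero ρ] at h2
      exact ⟨congrFun (hρ h2) 0, congrFun (hρ h2) 1⟩
    obtain ⟨ψ, hψ, hψQ⟩ := exists_anti hab
    exact ⟨ρ, ψ, hρ, hψ, fun z => by rw [hQρ, hQρ, hψQ]; ring, fun z i => hRo _ (hρR z) i⟩
  let E : (Fin m → F) →ₗ[F] W := Fintype.linearCombination F e
  have hE : ∀ c, E c = ∑ i, c i • e i := fun c => rfl
  have hEe : ∀ c i, polar Q' (e i) (E c) = 0 := fun c i => by
    rw [hE]
    change polarBilin Q' (e i) (∑ i, c i • e i) = 0
    simp [map_sum, (hfam.iso _ _).1]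
  have hEf : ∀ c i, polar Q' (f i) (E c) = c i := fun c i => by
    rw [hE]
    change polarBilin Q' (f i) (∑ i, c i • e i) = c i
    simp [map_sum, polar_comm Q' (f i), hfam.pair]
  have hEE : ∀ c c', polar Q' (E c) (E c') = 0 := fun c c' => by
    rw [hE c]
    change polarBilin Q' (∑ i, c i • e i) (E c') = 0
    simp [map_sum, LinearMap.sum_apply, hEe]
  have hQE : ∀ c, Q' (E c) = 0 := fun c => by
    rw [hE]
    have : ∀ (S : Finset (Fin m)), Q' (∑ i ∈ S, c i • e i) = 0 := by
      intro S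
      induction S using Finset.induction_on with
      | empty => simp
      | insert i S hi ih =>
        rw [Finset.sum_insert hi, QuadraticMap.map_add (⇑Q'), ih, QuadraticMap.map_smul,
          (hfam.sing i).1]
        change c i * c i * 0 + 0 + polarBilin Q' (c i • e i) (∑ j ∈ S, c j • e j) = 0
        simp [map_sum, (hfam.iso _ _).1]
    exact this _
  have hEρ : ∀ c z, polar Q' (E c) (ρ z) = 0 := fun c z => by
    rw [hE]
    change polarBilin Q' (∑ i, c i • e i) (ρ z) = 0
    simp [map_sum, LinearMap.sum_apply, (hρo _ _).1]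
  have hzero : ∀ c z, E c + ρ z = 0 → c = 0 ∧ z = 0 := fun c z h => by
    have hc : c = 0 := funext fun i => by
      have := congrArg (fun x => polarBilin Q' (f i) x) h
      simpa [hEf, (hρo _ _).2] using this
    subst hc
    rw [map_zero, zero_add, ← map_zero ρ] at h
    exact ⟨rfl, hρ h⟩
  let G : (ι → F) →ₗ[F] ι → F := Matrix.mulVecLin (g : Matrix ι ι F)
  let α : ((Fin m → F) × (Fin m → F)) × (Fin r → F) →ₗ[F] ι → F :=
    W.subtype.comp ((E.comp ((LinearMap.fst F _ _).comp (LinearMap.fst F _ _))) +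
      ρ.comp (LinearMap.snd F _ _))
  let β : ((Fin m → F) × (Fin m → F)) × (Fin r → F) →ₗ[F] ι → F :=
    W.subtype.comp ((E.comp ((LinearMap.snd F _ _).comp (LinearMap.fst F _ _))) +
      ρ.comp (ψ.comp (LinearMap.snd F _ _)))
  have hinj : Function.Injective (α + G.comp β) := by
    rw [injective_iff_map_eq_zero]
    intro x hx
    have hx' : α x + (g : Matrix ι ι F) *ᵥ β x = 0 := hx
    have hα : α x = 0 := by
      by_contra h0
      have hαW : α x ∈ W := (E x.1.1 + ρ x.2).2
      have hβW : β x ∈ W := (E x.1.2 + ρ (ψ x.2)).2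
      obtain ⟨-, y, hy, hne⟩ := hW _ hαW h0
      apply hne
      rw [eq_neg_of_add_eq_zero_left hx', polar_neg_left,
        horth _ hβW y hy, neg_zero]
    rw [hα, zero_add] at hx'
    have hβ : β x = 0 := gl_mulVec_injective g (hx'.trans (mulVec_zero _).symm)
    obtain ⟨h1, h2⟩ := hzero _ _ (Subtype.ext hα : E x.1.1 + ρ x.2 = 0)
    obtain ⟨h3, -⟩ := hzero _ _ (Subtype.ext hβ : E x.1.2 + ρ (ψ x.2) = 0)
    exact Prod.ext (Prod.ext h1 h3) h2
  refine ⟨LinearMap.range (α + G.comp β), ?_, ?_⟩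
  · rintro _ ⟨x, rfl⟩
    change Q (α x + (g : Matrix ι ι F) *ᵥ β x) = 0
    have hαW : α x ∈ W := (E x.1.1 + ρ x.2).2
    have hβW : β x ∈ W := (E x.1.2 + ρ (ψ x.2)).2
    rw [QuadraticMap.map_add (⇑Q), hg, polar_comm Q,
      horth (β x) hβW (α x) hαW, add_zero]
    change Q' (E x.1.1 + ρ x.2) + Q' (E x.1.2 + ρ (ψ x.2)) = 0
    rw [QuadraticMap.map_add (⇑Q'), QuadraticMap.map_add (⇑Q'), hQE, hQE, hEρ, hEρ, hρQ]
    ring
  · rw [LinearMap.finrank_range_of_inj hinj, finrank_prod, finrank_prod, finrank_fin_fun,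
      finrank_fin_fun]
    omega

end CfsgLib.ClassicalMax.OmN
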