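/-
Overgroups of the signed even monomial group inside an orthogonal group of coordinate vectors: if
every element fixing a coordinate line is monomial, all elements are monomial (dimension at least nine).

The proof compares the conjugates of a double transposition with the sign changes at two coordinates:
the dihedral group they generate has a central involution, which is monomial and forces the plane of
the conjugate to contain two independent sparse vectors.
-/
import Cfsg.Agent.Lib.ClassicalMax.MonBase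
set_option autoImplicit false
set_option linter.unusedSectionVars false

namespace CfsgLib.ClassicalMax.OmL

open Matrix Module
open CfsgLib.ClassicalMax.MonG

variable {ι : Type} [Fintype ι] [DecidableEq ι] {F : Type*} [Field F]

/-- A coordinate vector. -/
abbrev E (x : ι) : ι → F := Pi.single x 1

/-- The action on vectors. -/
abbrev act (g : GL ι F) (v : ι → F) : ι → F := (g : Matrix ι ι F) *ᵥ v

/-- The change of sign at two coordinates. -/
noncomputable def sgn (i j : ι) : GL ι F := mon 1 (dfun i (-1) j (-1))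

lemma sgn_apply {i j : ι} (h : i ≠ j) (v : ι → F) (k : ι) :
    act (sgn i j) v k = if k = i ∨ k = j then -v k else v k := by
  rw [act, sgn, dg_mulVec]
  by_cases h1 : k = i
  · subst h1; simp [dfun, h]
  by_cases h2 : k = j
  · subst h2; simp [dfun]
  simp [dfun, h1, h2]

lemma sgn_mul_self {i j : ι} (h : i ≠ j) : sgn (F := F) i j * sgn i j = 1 := by
  refine gl_ext_mulVec fun x => funext fun k => ?_
  rw [gl_mulVec_mul, Units.val_one, one_mulVec]
  change act (sgn i j) (act (sgn i j) x) k = x k
  rw [sgn_apply h, sgn_apply h]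
  split_ifs <;> simp

lemma det_sgn {i j : ι} (h : i ≠ j) : Matrix.det ((sgn i j : GL ι F) : Matrix ι ι F) = 1 := by
  rw [sgn, det_mon, prod_dfun h]
  simp

lemma sgn_dot {i j : ι} (h : i ≠ j) (v w : ι → F) :
    act (sgn i j) v ⬝ᵥ w = v ⬝ᵥ w - 2 * (v i * w i + v j * w j) := by
  have e : act (sgn i j) v = v - Pi.single i (2 * v i) - Pi.single j (2 * v j) := by
    funext k
    rw [sgn_apply h]
    by_cases h1 : k = i
    · subst h1; simp [h]; ring
    by_cases h2 : k = j
    · subst h2; simp [h1]; ring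
    simp [h1, h2]
  rw [e, sub_dotProduct, sub_dotProduct, single_dotProduct, single_dotProduct]
  ring

/-- Preserving the dot product and containing the sign changes at pairs and the even permutations. -/
structure Hyp (G : Subgroup (GL ι F)) : Prop where
  dot : ∀ g ∈ G, ∀ x y : ι → F, act g x ⬝ᵥ act g y = x ⬝ᵥ y
  sgn : ∀ i j : ι, i ≠ j → OmL.sgn i j ∈ G
  alt : ∀ σ : Equiv.Perm ι, Equiv.Perm.sign σ = 1 → mon σ 1 ∈ G

/-- Elements fixing a coordinate line are monomial. -/
def FixedMon (G : Subgroup (GL ι F)) : Prop :=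
  ∀ g ∈ G, ∀ (a : ι) (t : F), act g (E a) = t • E a → Mon g

/-- The negated vectors. -/
def Mn (z : GL ι F) : Submodule F (ι → F) :=
  LinearMap.ker (Matrix.mulVecLin (z : Matrix ι ι F) + LinearMap.id)

lemma mem_Mn {z : GL ι F} {v : ι → F} : v ∈ Mn z ↔ act z v = -v := by
  simp [Mn, act, eq_neg_iff_add_eq_zero]

lemma exists_fresh (n : ℕ) (S : Finset ι) (hS : S.card ≤ n) (hn : n < Fintype.card ι) :
    ∃ k, k ∉ S := by
  by_contra h
  push Not at h
  have := Finset.card_le_card (fun x (_ : x ∈ (Finset.univ : Finset ι)) => h x)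
  rw [Finset.card_univ] at this
  omega

lemma exists_four (hn : 4 ≤ Fintype.card ι) : ∃ f : Fin 4 → ι, Function.Injective f := by
  obtain ⟨f⟩ := Function.Embedding.nonempty_of_card_le (α := Fin 4) (β := ι) (by simpa using hn)
  exact ⟨f, f.injective⟩

lemma norm_E (a : ι) : (E a : ι → F) ⬝ᵥ E a = 1 := by simp [E]

lemma sign_cycle {a b c : ι} (hab : a ≠ b) (hbc : b ≠ c) :
    Equiv.Perm.sign (Equiv.swap a b * Equiv.swap b c) = 1 := by
  rw [Equiv.Perm.sign_mul, Equiv.Perm.sign_swap hab, Equiv.Perm.sign_swap hbc]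
  simp

lemma Mon_of_cols {g : GL ι F} (h : ∀ b, ∃ a, ∀ y, y ≠ a → act g (E b) y = 0) : Mon g :=
  fun b => by
    obtain ⟨a, ha⟩ := h b
    exact ⟨a, fun y hy => by simpa [act, E, col_eq] using ha y hy⟩

variable {G : Subgroup (GL ι F)} (hG : Hyp G)

include hG

lemma colnorm {g : GL ι F} (hg : g ∈ G) (a : ι) : act g (E a) ⬝ᵥ act g (E a) = 1 := by
  rw [hG.dot g hg, norm_E]

lemma colorth {g : GL ι F} (hg : g ∈ G) {a b : ι} (h : a ≠ b) :
    act g (E a) ⬝ᵥ act g (E b) = 0 := by
  rw [hG.dot g hg, E, E, single_dotProduct, one_mul, Pi.single_eq_of_ne h]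

lemma mon_data {σ : Equiv.Perm ι} {d : ι → Fˣ} (hz : mon σ d ∈ G) (x : ι) :
    (d x : F) * (d x : F) = 1 := by
  have h := colnorm hG hz x
  rw [act, E, mon_mulVec_single, mul_one, single_dotProduct, Pi.single_eq_same] at h
  exact h

lemma mon_inv_data {σ : Equiv.Perm ι} {d : ι → Fˣ} (hsq : mon σ d * mon σ d = (1 : GL ι F)) (x : ι) :
    σ (σ x) = x ∧ (d (σ x) : F) * (d x : F) = 1 := by
  have h : act (mon σ d) (act (mon σ d) (E x)) = E x := by
    rw [act, act, ← gl_mulVec_mul, hsq, Units.val_one, one_mulVec]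
  simp only [act, E, mon_mulVec_single, mul_one] at h
  have h1 := congrFun h (σ (σ x))
  rw [Pi.single_eq_same] at h1
  have h2 : σ (σ x) = x := by
    by_contra hne
    rw [Pi.single_eq_of_ne hne] at h1
    exact mul_ne_zero (d (σ x)).ne_zero (d x).ne_zero h1
  exact ⟨h2, by rw [h1, h2, Pi.single_eq_same]⟩

lemma Mn_coord {σ : Equiv.Perm ι} {d : ι → Fˣ} {v : ι → F} (hv : v ∈ Mn (mon σ d)) (x : ι) :
    v (σ x) = -((d x : F) * v x) := by
  have h := congrFun (mem_Mn.1 hv) (σ x)
  rw [act, mon_mulVec, Equiv.symm_apply_apply, Pi.neg_apply] at h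
  rw [h, neg_neg]

/-- The negated part of a coordinate vector. -/
lemma fvec_mem {z : GL ι F} (hsq : z * z = 1) (v : ι → F) : v - act z v ∈ Mn z := by
  rw [mem_Mn, act, mulVec_sub, ← gl_mulVec_mul, hsq, Units.val_one, one_mulVec, neg_sub]

/-- An isometric involution fixes the vectors orthogonal to its negated space. -/
lemma fix_of_orth (h2 : (2 : F) ≠ 0) {u : GL ι F} (hu : u ∈ G) (hsq : u * u = 1) {v : ι → F}
    (hv : ∀ p ∈ Mn u, v ⬝ᵥ p = 0) : act u v = v := by
  have key : ∀ w, (v - act u v) ⬝ᵥ w = 0 := fun w => by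
    have h1 := hv _ (fvec_mem hG hsq w)
    rw [dotProduct_sub] at h1
    have h2' : act u v ⬝ᵥ w = v ⬝ᵥ act u w := by
      conv_rhs => rw [← hG.dot u hu]
      rw [act, act, act, ← gl_mulVec_mul, hsq, Units.val_one, one_mulVec]
    rw [sub_dotProduct, h2']
    exact h1
  exact (sub_eq_zero.1 (dotProduct_eq_zero _ key)).symm

lemma fix_coord (h2 : (2 : F) ≠ 0) {u : GL ι F} (hu : u ∈ G) (hsq : u * u = 1) {k : ι}
    (hk : ∀ p ∈ Mn u, p k = 0) : act u (E k) = E k :=
  fix_of_orth hG h2 hu hsq fun p hp => by simp [E, hk p hp]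

/-- Independent negated vectors from distinct orbits. -/
lemma card_le_finrank (h2 : (2 : F) ≠ 0) {σ : Equiv.Perm ι} {d : ι → Fˣ} (hz : mon σ d ∈ G)
    (hsq : mon σ d * mon σ d = (1 : GL ι F)) (R : Finset ι)
    (hmv : ∀ x ∈ R, act (mon σ d) (E x) ≠ E x) (hR : ∀ x ∈ R, ∀ y ∈ R, σ x = y → x = y) :
    R.card ≤ finrank F (Mn (mon σ d)) := by
  classical
  let f : R → Mn (mon σ d) := fun x => ⟨E x.1 - act (mon σ d) (E x.1), fvec_mem hG hsq _⟩
  have hval : ∀ (x y : R), (f x : ι → F) y.1 = if x = y then (f y : ι → F) y.1 else 0 := by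
    intro x y
    by_cases h : x = y
    · subst h; simp
    rw [if_neg h]
    simp only [f, act, E, mon_mulVec_single, Pi.sub_apply]
    rw [Pi.single_eq_of_ne (fun e => h (Subtype.ext e.symm)),
      Pi.single_eq_of_ne (fun e => h (Subtype.ext (hR _ x.2 _ y.2 e.symm))), sub_zero]
  have hne : ∀ y : R, (f y : ι → F) y.1 ≠ 0 := by
    intro y
    simp only [f, act, E, mon_mulVec_single, Pi.sub_apply, Pi.single_eq_same, mul_one]
    by_cases hy : σ y.1 = y.1
    · rw [hy, Pi.single_eq_same]
      intro e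
      apply hmv _ y.2
      rw [act, E, mon_mulVec_single, hy, mul_one, ← sub_eq_zero.1 e]
    · rw [Pi.single_eq_of_ne (Ne.symm hy), sub_zero]
      exact one_ne_zero
  have hli : LinearIndependent F f := by
    rw [Fintype.linearIndependent_iff]
    intro c hc y
    have h := congrFun (congrArg Subtype.val hc) y.1
    rw [Submodule.coe_sum, Finset.sum_apply, Finset.sum_eq_single y
      (fun x _ hx => by rw [Submodule.coe_smul, Pi.smul_apply, hval, if_neg hx, smul_zero])
      (by simp)] at h
    simpa [hne y] using h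
  simpa using hli.fintype_card_le_finrank

/-- The negated space of a monomial involution lives on few coordinates. -/
lemma moved_bound (h2 : (2 : F) ≠ 0) {z : GL ι F} (hz : z ∈ G) (hzm : Mon z) (hsq : z * z = 1) :
    ∃ S : Finset ι, S.card ≤ 2 * finrank F (Mn z) ∧ ∀ v ∈ Mn z, ∀ k ∉ S, v k = 0 := by
  classical
  obtain ⟨σ, d, rfl⟩ := exists_mon_of_Mon hzm
  let e := Fintype.equivFin ι
  let R := Finset.univ.filter fun x => act (mon σ d) (E x) ≠ E x ∧ e x ≤ e (σ x)
  have hR : R.card ≤ finrank F (Mn (mon σ d)) := by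
    refine card_le_finrank hG h2 hz hsq R (fun x hx => (Finset.mem_filter.1 hx).2.1) ?_
    intro x hx y hy hxy
    have h1 := (Finset.mem_filter.1 hx).2.2
    have h3 := (Finset.mem_filter.1 hy).2.2
    subst hxy
    rw [(mon_inv_data hG hsq x).1] at h3
    exact e.injective (le_antisymm h1 h3)
  refine ⟨R ∪ R.image σ, ?_, fun v hv k hk => ?_⟩
  · refine (Finset.card_union_le _ _).trans ?_
    have := Finset.card_image_le (s := R) (f := σ)
    omega
  have hd2 := mon_inv_data hG hsq k
  by_cases hfix : act (mon σ d) (E k) = E k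
  · simp only [act, E, mon_mulVec_single, mul_one] at hfix
    have h1 := congrFun hfix (σ k)
    rw [Pi.single_eq_same] at h1
    have hσ : σ k = k := by
      by_contra hne
      rw [Pi.single_eq_of_ne hne] at h1
      exact (d k).ne_zero h1
    rw [hσ, Pi.single_eq_same] at h1
    have h3 := Mn_coord hG hv k
    rw [hσ, h1, one_mul] at h3
    have h4 : (2 : F) * v k = 0 := by linear_combination h3
    exact (mul_eq_zero.1 h4).resolve_left h2
  exfalso
  apply hk
  rcases le_total (e k) (e (σ k)) with h | h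
  · exact Finset.mem_union_left _ (Finset.mem_filter.2 ⟨Finset.mem_univ _, hfix, h⟩)
  · refine Finset.mem_union_right _ (Finset.mem_image.2 ⟨σ k, Finset.mem_filter.2
      ⟨Finset.mem_univ _, fun e' => hfix ?_, by rw [hd2.1]; exact h⟩, hd2.1⟩)
    have h5 : act (mon σ d) (act (mon σ d) (E k)) = E k := by
      rw [act, act, ← gl_mulVec_mul, hsq, Units.val_one, one_mulVec]
    have h6 : act (mon σ d) (E k) = (d k : F) • E (σ k) := by
      rw [act, E, mon_mulVec_single, mul_one, E, ← Pi.single_smul, smul_eq_mul, mul_one]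
    rw [h6, act, mulVec_smul] at h5
    change (d k : F) • act (mon σ d) (E (σ k)) = E k at h5
    rw [e'] at h5
    rw [h6]
    exact h5

/-- Two disjointly supported negated vectors of a negated plane: one orbit each. -/
lemma plane_supp (h2 : (2 : F) ≠ 0) {z : GL ι F} (hz : z ∈ G) (hzm : Mon z) (hsq : z * z = 1)
    (hd : finrank F (Mn z) ≤ 2) {b b0 : ι → F} (hb : b ∈ Mn z) (hb0 : b0 ∈ Mn z) (h0 : b0 ≠ 0)
    (hdis : ∀ k, b k = 0 ∨ b0 k = 0) (hn : 2 ≤ Fintype.card ι) :
    ∃ x y, x ≠ y ∧ ∀ k, k ≠ x → k ≠ y → b k = 0 := by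
  classical
  obtain ⟨σ, d, rfl⟩ := exists_mon_of_Mon hzm
  obtain ⟨l, hl⟩ : ∃ l, b0 l ≠ 0 := by
    by_contra h
    push Not at h
    exact h0 (funext h)
  by_cases hb0' : ∀ k, b k = 0
  · obtain ⟨x, y, hxy⟩ := Fintype.exists_pair_of_one_lt_card (α := ι) (by omega)
    exact ⟨x, y, hxy, fun k _ _ => hb0' k⟩
  push Not at hb0'
  obtain ⟨x, hx⟩ := hb0'
  have hzero : ∀ {v : ι → F}, v ∈ Mn (mon σ d) → ∀ k, v (σ k) = 0 ↔ v k = 0 := fun hv k => by
    rw [Mn_coord hG hv k, neg_eq_zero, mul_eq_zero, or_iff_right (d k).ne_zero]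
  have key : ∀ k, k ≠ x → k ≠ σ x → b k = 0 := by
    intro k hkx hkσ
    by_contra hk
    have hmv : ∀ {v : ι → F}, v ∈ Mn (mon σ d) → ∀ t, v t ≠ 0 → act (mon σ d) (E t) ≠ E t := by
      intro v hv t ht e
      have h3 := hG.dot _ hz (E t) v
      rw [e, mem_Mn.1 hv] at h3
      simp only [E, single_dotProduct, Pi.neg_apply, one_mul] at h3
      exact ht ((mul_eq_zero.1 (show (2 : F) * v t = 0 by linear_combination -h3)).resolve_left h2)
    have hbl : b l = 0 := (hdis l).resolve_right hl
    have hxl : x ≠ l := fun e => hx (e ▸ hbl)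
    have hkl : k ≠ l := fun e => hk (e ▸ hbl)
    have := card_le_finrank hG h2 hz hsq {x, k, l} (fun t ht => by
        simp only [Finset.mem_insert, Finset.mem_singleton] at ht
        rcases ht with rfl | rfl | rfl
        · exact hmv hb _ hx
        · exact hmv hb _ hk
        · exact hmv hb0 _ hl) (fun s hs t ht hst => by
        simp only [Finset.mem_insert, Finset.mem_singleton] at hs ht
        have hi := fun w => (mon_inv_data hG hsq w).1
        rcases hs with rfl | rfl | rfl <;> rcases ht with rfl | rfl | rfl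
        · rfl
        · exact absurd hst.symm hkσ
        · exact absurd (hbl) (by rw [← hst]; exact mt (hzero hb _).1 hx)
        · exact absurd (by rw [← hst, hi]) (Ne.symm hkσ).symm
        · rfl
        · exact absurd (hbl) (by rw [← hst]; exact mt (hzero hb _).1 hk)
        · exact absurd ((hzero hb _).2 hbl) (by rw [hst]; exact hx)
        · exact absurd ((hzero hb _).2 hbl) (by rw [hst]; exact hk)
        · rfl)
    have h3 : ({x, k, l} : Finset ι).card = 3 := by
      rw [Finset.card_insert_of_notMem (by simp [hkx.symm, hxl]), Finset.card_pair hkl]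
    omega
  by_cases hσ : σ x = x
  · obtain ⟨y, hy⟩ := exists_fresh 1 {x} (by simp) (by omega)
    exact ⟨x, y, fun e => hy (by simp [e]), fun k h1 _ => key k h1 (by rw [hσ]; exact h1)⟩
  · exact ⟨x, σ x, Ne.symm hσ, key⟩

omit hG in
/-- The negated space of an involution of determinant one has even dimension. -/
lemma even_finrank_Mn (h2 : (2 : F) ≠ 0) {z : GL ι F} (hsq : z * z = 1)
    (hdet : Matrix.det (z : Matrix ι ι F) = 1) : Even (finrank F (Mn z)) := by
  classical
  set L : (ι → F) →ₗ[F] (ι → F) := Matrix.mulVecLin (z : Matrix ι ι F) with hL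
  let P : Submodule F (ι → F) := LinearMap.ker (L - LinearMap.id)
  have hLL : ∀ v, L (L v) = v := fun v => by
    simp only [hL, mulVecLin_apply]
    rw [← gl_mulVec_mul, hsq, Units.val_one, one_mulVec]
  have hc : IsCompl P (Mn z) := by
    refine ⟨Submodule.disjoint_def.2 fun v h1 h3 => ?_, codisjoint_iff.2 ?_⟩
    · have e1 : L v = v := sub_eq_zero.1 (LinearMap.mem_ker.1 h1)
      have e2 : L v = -v := mem_Mn.1 h3
      have e3 : v = -v := e1.symm.trans e2
      funext k
      have := congrFun e3 k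
      simp only [Pi.neg_apply] at this
      exact (mul_eq_zero.1 (show (2 : F) * v k = 0 by linear_combination this)).resolve_left h2
    · refine eq_top_iff.2 fun v _ => ?_
      refine Submodule.mem_sup.2 ⟨(2 : F)⁻¹ • (v + L v), ?_, (2 : F)⁻¹ • (v - L v), ?_, ?_⟩
      · rw [LinearMap.mem_ker, LinearMap.sub_apply, LinearMap.id_apply, map_smul, map_add, hLL,
          add_comm (L v) v, sub_self]
      · rw [mem_Mn]
        change L _ = _
        rw [map_smul, map_sub, hLL, ← smul_neg, neg_sub]
      · rw [← smul_add, show v + L v + (v - L v) = (2 : F) • v by rw [two_smul]; abel,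
          smul_smul, inv_mul_cancel₀ h2, one_smul]
  let φ := Submodule.prodEquivOfIsCompl P (Mn z) hc
  have hconj : L = (φ.toLinearMap.comp ((LinearMap.id : P →ₗ[F] P).prodMap
      (-(LinearMap.id : Mn z →ₗ[F] Mn z)))).comp φ.symm.toLinearMap := by
    refine LinearMap.ext fun v => ?_
    obtain ⟨⟨p, m⟩, rfl⟩ := φ.surjective v
    simp only [LinearMap.comp_apply, LinearEquiv.coe_coe, LinearEquiv.symm_apply_apply,
      LinearMap.prodMap_apply, LinearMap.id_apply, LinearMap.neg_apply]
    simp only [φ, Submodule.coe_prodEquivOfIsCompl', map_add, Submodule.coe_neg]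
    have e1 : L p = p := sub_eq_zero.1 (LinearMap.mem_ker.1 p.2)
    have e2 : L m = -(m : ι → F) := mem_Mn.1 m.2
    rw [e1, e2]
  have h3 : LinearMap.det L = (-1) ^ finrank F (Mn z) := by
    rw [hconj, LinearMap.comp_assoc, LinearMap.det_conj, LinearMap.det_prodMap, LinearMap.det_id,
      one_mul, ← neg_one_smul F (LinearMap.id : Mn z →ₗ[F] Mn z), LinearMap.det_smul,
      LinearMap.det_id, mul_one]
  have h4 : LinearMap.det L = 1 := by
    rw [hL, ← Matrix.toLin'_apply', LinearMap.det_toLin', hdet]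
  rw [h4] at h3
  by_contra hodd
  rw [Nat.not_even_iff_odd] at hodd
  rw [hodd.neg_one_pow] at h3
  exact h2 (by linear_combination h3)

variable [Fintype F] (h2 : (2 : F) ≠ 0) (hn : 9 ≤ Fintype.card ι) (hF : FixedMon G)

include h2 hn hF

lemma mon_of_col {g : GL ι F} (hg : g ∈ G) {j a : ι} {t : F} (h : act g (E j) = t • E a) :
    Mon g := by
  by_cases hja : j = a
  · exact hF g hg a t (hja ▸ h)
  obtain ⟨c, hc⟩ := exists_fresh 2 {j, a} Finset.card_le_two (by omega)
  simp only [Finset.mem_insert, Finset.mem_singleton, not_or] at hc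
  have hs := sign_cycle (a := j) (b := a) (c := c) hja (fun e => hc.2 e.symm)
  set σ := (Equiv.swap j a * Equiv.swap a c)⁻¹ with hσdef
  have hσs : Equiv.Perm.sign σ = 1 := by rw [hσdef, Equiv.Perm.sign_inv, hs]
  have hσ : σ a = j := by
    rw [hσdef, Equiv.Perm.inv_eq_iff_eq, Equiv.Perm.mul_apply,
      Equiv.swap_apply_of_ne_of_ne hja (fun e => hc.1 e.symm), Equiv.swap_apply_left]
  have hm := hG.alt σ hσs
  have h' : act (mon σ 1 * g) (E j) = t • E j := by
    rw [act, gl_mulVec_mul]
    change act (mon σ 1) (act g (E j)) = _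
    rw [h, act, mulVec_smul, E, mon_mulVec_single, hσ]
    simp [E]
  have := Mon_mul (Mon_inv (mon_Mon σ (1 : ι → Fˣ))) (hF _ (G.mul_mem hm hg) j t h')
  rwa [← mul_assoc, inv_mul_cancel, one_mul] at this

/-- A column vanishing at five coordinates forces a monomial element. -/
lemma mon_of_zeros {g : GL ι F} (hg : g ∈ G) (j : ι) {O : Finset ι} (hO : 5 ≤ O.card)
    (hz : ∀ o ∈ O, act g (E j) o = 0) : Mon g := by
  classical
  set v := act g (E j) with hv
  obtain ⟨a, ha⟩ := Finset.card_pos.1 (by omega : 0 < O.card)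
  obtain ⟨k, hk⟩ : ∃ k, act g (E k) a ≠ 0 := by
    by_contra h
    push Not at h
    have := congrFun (gl_mulVec_inv_mulVec g (E a : ι → F)) a
    rw [mulVec, dotProduct, Finset.sum_eq_zero fun b _ => by
      have := h b
      rw [act, E, col_eq] at this
      rw [show (g : Matrix ι ι F) a b = 0 from this, zero_mul]] at this
    simp [E] at this
  set u := act g (E k) with hu
  have hu1 : u ⬝ᵥ u = 1 := colnorm hG hg k
  -- elements fixing `v` permute the columns
  have key : ∀ h ∈ G, act h v = v → act h u ⬝ᵥ u = 0 ∨ act h u = u ∨ act h u = -u := by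
    intro h hh hfix
    have hm : Mon (g⁻¹ * h * g) := hF _ (G.mul_mem (G.mul_mem (G.inv_mem hg) hh) hg) j 1 (by
      rw [act, gl_mulVec_mul, gl_mulVec_mul]
      change act g⁻¹ (act h v) = _
      rw [hfix, hv, act, act, gl_inv_mulVec_mulVec, one_smul])
    obtain ⟨σ, d, e⟩ := exists_mon_of_Mon hm
    have hd := mon_data hG (e ▸ (G.mul_mem (G.mul_mem (G.inv_mem hg) hh) hg)) k
    have e2 : h * g = g * mon σ d := by rw [← e]; group
    have e3 : act h u = (d k : F) • act g (E (σ k)) := by
      rw [hu, act, act, ← gl_mulVec_mul, e2, gl_mulVec_mul, E, mon_mulVec_single, act, E,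
        ← mulVec_smul, ← Pi.single_smul, smul_eq_mul]
    by_cases hσ : σ k = k
    · rw [hσ] at e3
      rcases mul_self_eq_one_iff.1 hd with h1 | h1
      · exact Or.inr (Or.inl (by rw [e3, h1, one_smul]))
      · exact Or.inr (Or.inr (by rw [e3, h1, neg_one_smul]))
    · exact Or.inl (by rw [e3, smul_dotProduct, colorth hG hg hσ, smul_zero])
  have pair : ∀ b ∈ O, ∀ c ∈ O, b ≠ c → u b ≠ 0 →
      2 * (u b * u b + u c * u c) = 1 ∨ ∀ l, l ≠ b → l ≠ c → u l = 0 := by
    intro b hb c hc hbc hub
    rcases key _ (hG.sgn b c hbc) (funext fun l => by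
      rw [sgn_apply hbc]
      split_ifs with hl
      · rcases hl with rfl | rfl
        · rw [hz _ hb, neg_zero]
        · rw [hz _ hc, neg_zero]
      · rfl) with h | h | h
    · left
      rw [sgn_dot hbc, hu1] at h
      linear_combination -h
    · exfalso
      have := congrFun h b
      rw [sgn_apply hbc, if_pos (Or.inl rfl)] at this
      exact hub ((mul_eq_zero.1 (show (2 : F) * u b = 0 by linear_combination -this)).resolve_left h2)
    · right
      intro l h1 h3
      have := congrFun h l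
      rw [sgn_apply hbc, if_neg (by simp [h1, h3]), Pi.neg_apply] at this
      exact (mul_eq_zero.1 (show (2 : F) * u l = 0 by linear_combination this)).resolve_left h2
  have hcyc : ∀ b ∈ O, ∀ c ∈ O, ∀ e ∈ O, b ≠ c → c ≠ e → b ≠ e → u c = 0 → u e = 0 → u b ≠ 0 →
      act (mon (Equiv.swap b c * Equiv.swap c e) 1) u ⬝ᵥ u = 0 := by
    intro b hb c hc e he hbc hce hbe huc hue hub
    set σ := Equiv.swap b c * Equiv.swap c e with hσ
    have hσb : σ b = c := by
      rw [hσ, Equiv.Perm.mul_apply, Equiv.swap_apply_of_ne_of_ne hbc hbe, Equiv.swap_apply_left]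
    have hfix : act (mon σ 1) v = v := funext fun l => by
      rw [act, mon_mulVec, Pi.one_apply, Units.val_one, one_mul]
      obtain ⟨l, rfl⟩ := σ.surjective l
      rw [Equiv.symm_apply_apply]
      by_cases h1 : l = b
      · subst h1; rw [hσb, hz _ hc, hz _ hb]
      by_cases h3 : l = c
      · subst h3
        rw [hz _ hc, hσ, Equiv.Perm.mul_apply, Equiv.swap_apply_left,
          Equiv.swap_apply_of_ne_of_ne hbe.symm hce.symm, hz _ he]
      by_cases h4 : l = e
      · subst h4
        rw [hz _ he, hσ, Equiv.Perm.mul_apply, Equiv.swap_apply_right, Equiv.swap_apply_right,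
          hz _ hb]
      rw [hσ, Equiv.Perm.mul_apply, Equiv.swap_apply_of_ne_of_ne h3 h4,
        Equiv.swap_apply_of_ne_of_ne h1 h3]
    have hval : act (mon σ 1) u c = u b := by
      rw [act, mon_mulVec, Pi.one_apply, Units.val_one, one_mul]
      rw [show σ.symm c = b by rw [Equiv.symm_apply_eq, hσb]]
    rcases key _ (hG.alt σ (sign_cycle hbc hce)) hfix with h | h | h
    · exact h
    · exact absurd (by rw [← hval, h, huc]) hub
    · exact absurd (by rw [← hval, h, Pi.neg_apply, huc, neg_zero]) hub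
  have hdot : ∀ b c e : ι, b ≠ c → c ≠ e → b ≠ e → u c = 0 → u e = 0 →
      act (mon (Equiv.swap b c * Equiv.swap c e) 1) u ⬝ᵥ u = 1 - u b * u b := by
    intro b c e hbc hce hbe huc hue
    have : act (mon (Equiv.swap b c * Equiv.swap c e) 1) u =
        u - Pi.single b (u b) + Pi.single c (u b) := by
      funext l
      set σ := Equiv.swap b c * Equiv.swap c e with hσ
      obtain ⟨l, rfl⟩ := σ.surjective l
      rw [act, mon_mulVec, Equiv.symm_apply_apply, Pi.one_apply, Units.val_one, one_mul]
      by_cases h1 : l = b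
      · subst h1
        rw [hσ, Equiv.Perm.mul_apply, Equiv.swap_apply_of_ne_of_ne hbc hbe, Equiv.swap_apply_left]
        simp [hbc.symm, huc]
      by_cases h3 : l = c
      · subst h3
        rw [hσ, Equiv.Perm.mul_apply, Equiv.swap_apply_left,
          Equiv.swap_apply_of_ne_of_ne hbe.symm hce.symm]
        simp [huc, hue, hbe.symm, hce.symm]
      by_cases h4 : l = e
      · subst h4
        rw [hσ, Equiv.Perm.mul_apply, Equiv.swap_apply_right, Equiv.swap_apply_right]
        simp [hue, hbc]
      rw [hσ, Equiv.Perm.mul_apply, Equiv.swap_apply_of_ne_of_ne h3 h4,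
        Equiv.swap_apply_of_ne_of_ne h1 h3]
      simp [h1, h3]
    rw [this, add_dotProduct, sub_dotProduct, single_dotProduct, single_dotProduct, hu1, huc]
    ring
  by_cases hsup : ∃ b ∈ O, b ≠ a ∧ ∀ l, l ≠ a → l ≠ b → u l = 0
  · obtain ⟨b, hb, hba, hl⟩ := hsup
    by_cases hub : u b = 0
    · exact mon_of_col hG h2 hn hF hg (j := k) (a := a) (t := u a) (funext fun l => by
        by_cases h1 : l = a
        · subst h1; simp [E, hu]
        · by_cases h3 : l = b
          · subst h3; simp [E, h1, ← hu, hub]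
          · simp [E, h1, ← hu, hl l h1 h3])
    exfalso
    obtain ⟨c, hc⟩ : ∃ c, c ∈ (O.erase a).erase b := Finset.card_pos.1 (by
      rw [Finset.card_erase_of_mem (by simp [hb, hba]), Finset.card_erase_of_mem ha]; omega)
    obtain ⟨e, he⟩ : ∃ e, e ∈ ((O.erase a).erase b).erase c := Finset.card_pos.1 (by
      rw [Finset.card_erase_of_mem hc, Finset.card_erase_of_mem (by simp [hb, hba]),
        Finset.card_erase_of_mem ha]; omega)
    simp only [Finset.mem_erase] at hc he
    have h1 : 2 * (u a * u a + u c * u c) = 1 :=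
      (pair a ha c hc.2.2 (Ne.symm hc.2.1) hk).resolve_right fun h => hub (h b hba hc.1.symm)
    rw [hl c hc.2.1 hc.1] at h1
    have h3 := hcyc b hb c hc.2.2 e he.2.2.2 hc.1.symm he.1.symm he.2.1.symm (hl c hc.2.1 hc.1)
      (hl e he.2.2.1 he.2.1) hub
    rw [hdot b c e hc.1.symm he.1.symm he.2.1.symm (hl c hc.2.1 hc.1) (hl e he.2.2.1 he.2.1)] at h3
    have h4 : u ⬝ᵥ u = u a * u a + u b * u b := by
      rw [dotProduct, Fintype.sum_eq_add a b hba.symm fun l hl' => by rw [hl l hl'.1 hl'.2, zero_mul]]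
    rw [hu1] at h4
    exact one_ne_zero (α := F) (by linear_combination (-1 : F) * h1 + (-2 : F) * h4 + (2 : F) * h3)
  · exfalso
    push Not at hsup
    have hall : ∀ b ∈ O, b ≠ a → 2 * (u a * u a + u b * u b) = 1 := fun b hb hba =>
      (pair a ha b hb (Ne.symm hba) hk).resolve_right fun h => by
        obtain ⟨l, h1, h3, h4⟩ := hsup b hb hba
        exact h4 (h l h1 h3)
    obtain ⟨b, hb⟩ : ∃ b, b ∈ O.erase a :=
      Finset.card_pos.1 (by rw [Finset.card_erase_of_mem ha]; omega)
    obtain ⟨c, hc⟩ : ∃ c, c ∈ (O.erase a).erase b := Finset.card_pos.1 (by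
      rw [Finset.card_erase_of_mem hb, Finset.card_erase_of_mem ha]; omega)
    obtain ⟨e, he⟩ : ∃ e, e ∈ ((O.erase a).erase b).erase c := Finset.card_pos.1 (by
      rw [Finset.card_erase_of_mem hc, Finset.card_erase_of_mem hb,
        Finset.card_erase_of_mem ha]; omega)
    obtain ⟨w, hw⟩ : ∃ w, w ∈ (((O.erase a).erase b).erase c).erase e := Finset.card_pos.1 (by
      rw [Finset.card_erase_of_mem he, Finset.card_erase_of_mem hc, Finset.card_erase_of_mem hb,
        Finset.card_erase_of_mem ha]; omega)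
    simp only [Finset.mem_erase] at hb hc he hw
    have eb := hall b hb.2 hb.1
    have ec := hall c hc.2.2 hc.2.1
    have ee := hall e he.2.2.2 he.2.2.1
    have ew := hall w hw.2.2.2.2 hw.2.2.2.1
    by_cases hub : u b = 0
    · have huc : u c = 0 := mul_self_eq_zero.1 ((mul_eq_zero.1
        (show (2 : F) * (u c * u c) = 0 by linear_combination ec - eb + (2 * u b) * hub)).resolve_left h2)
      have h3 := hcyc a ha b hb.2 c hc.2.2 hb.1.symm hc.1.symm hc.2.1.symm hub huc hk
      rw [hdot a b c hb.1.symm hc.1.symm hc.2.1.symm hub huc] at h3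
      rw [hub] at eb
      exact one_ne_zero (α := F) (by linear_combination eb + (2 : F) * h3)
    · have h4 : 2 * (u b * u b + u c * u c) = 1 :=
        (pair b hb.2 c hc.2.2 hc.1.symm hub).resolve_right fun h =>
          hk (h a hb.1.symm hc.2.1.symm)
      have q : ∀ t : F, 2 * (u a * u a + t * t) = 1 → 4 * (t * t) = 1 := fun t ht => by
        linear_combination (2 : F) * ht - eb - ec + h4
      have qa : 4 * (u a * u a) = 1 := by linear_combination eb + ec - h4
      have qb := q _ eb
      have qc := q _ ec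
      have qe := q _ ee
      have hwn : u w ≠ 0 := fun h0 => one_ne_zero (α := F) (by
        have := q _ ew; rw [h0] at this; linear_combination -this)
      have hab : a ≠ b := hb.1.symm
      have hce : c ≠ e := he.1.symm
      have hfix : act (sgn a b * sgn c e) v = v := funext fun l => by
        rw [act, gl_mulVec_mul]
        change act (sgn a b) (act (sgn c e) v) l = v l
        rw [sgn_apply hab, sgn_apply hce]
        have hz' : l = a ∨ l = b ∨ l = c ∨ l = e → v l = 0 := by
          rintro (rfl | rfl | rfl | rfl)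
          exacts [hz _ ha, hz _ hb.2, hz _ hc.2.2, hz _ he.2.2.2]
        split_ifs with h1 h3
        · rw [neg_neg]
        · rw [hz' (by tauto), neg_zero]
        · rw [hz' (by tauto), neg_zero]
        · rfl
      rcases key _ (G.mul_mem (hG.sgn a b hab) (hG.sgn c e hce)) hfix with h | h | h
      · have e1 : act (sgn a b * sgn c e) u ⬝ᵥ u = -1 := by
          rw [act, gl_mulVec_mul]
          change act (sgn a b) (act (sgn c e) u) ⬝ᵥ u = -1
          rw [sgn_dot hab, sgn_dot hce, hu1, sgn_apply hce, sgn_apply hce,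
            if_neg (by simp [hc.2.1.symm, he.2.2.1.symm]),
            if_neg (by simp [hc.1.symm, he.2.1.symm])]
          have h8 : (2 : F) * (2 * (u c * u c + u e * u e) + 2 * (u a * u a + u b * u b)) = 2 * 2 := by
            linear_combination qa + qb + qc + qe
          have h9 := mul_left_cancel₀ h2 h8
          linear_combination -h9
        rw [e1] at h
        exact one_ne_zero (α := F) (neg_eq_zero.1 h)
      · have := congrFun h a
        rw [act, gl_mulVec_mul] at this
        change act (sgn a b) (act (sgn c e) u) a = u a at this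
        rw [sgn_apply hab, if_pos (Or.inl rfl), sgn_apply hce,
          if_neg (by simp [hc.2.1.symm, he.2.2.1.symm])] at this
        exact hk ((mul_eq_zero.1 (show (2 : F) * u a = 0 by linear_combination -this)).resolve_left h2)
      · have := congrFun h w
        rw [act, gl_mulVec_mul] at this
        change act (sgn a b) (act (sgn c e) u) w = (-u) w at this
        rw [sgn_apply hab, if_neg (by simp [hw.2.2.2.1, hw.2.2.1]), sgn_apply hce,
          if_neg (by simp [hw.2.1, hw.1]), Pi.neg_apply] at this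
        exact hwn ((mul_eq_zero.1 (show (2 : F) * u w = 0 by linear_combination this)).resolve_left h2)

/-- A column in the negated space of a small monomial involution. -/
lemma mon_of_mem {g z : GL ι F} (hg : g ∈ G) (hz : z ∈ G) (hzm : Mon z) (hsq : z * z = 1)
    (hd : finrank F (Mn z) ≤ 2) {j : ι} (hj : act g (E j) ∈ Mn z) : Mon g := by
  obtain ⟨S, hS, hSv⟩ := moved_bound hG h2 hz hzm hsq
  refine mon_of_zeros hG h2 hn hF hg j (O := Sᶜ) ?_ fun o ho => hSv _ hj o (Finset.mem_compl.1 ho)
  rw [Finset.card_compl]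
  omega

omit hG h2 hn hF in
lemma Mn_sgn {a b : ι} (hab : a ≠ b) (h2 : (2 : F) ≠ 0) {v : ι → F} :
    v ∈ Mn (sgn a b) ↔ ∀ k, k ≠ a → k ≠ b → v k = 0 := by
  rw [mem_Mn]
  constructor
  · intro h k h1 h3
    have := congrFun h k
    rw [sgn_apply hab, if_neg (by simp [h1, h3]), Pi.neg_apply] at this
    exact (mul_eq_zero.1 (show (2 : F) * v k = 0 by linear_combination this)).resolve_left h2
  · intro h
    funext k
    rw [sgn_apply hab, Pi.neg_apply]
    split_ifs with hk
    · rfl
    · push Not at hk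
      rw [h k hk.1 hk.2, neg_zero]

omit hG hn hF in
lemma finrank_Mn_sgn {a b : ι} (hab : a ≠ b) : finrank F (Mn (sgn (F := F) a b)) ≤ 2 := by
  classical
  have hle : Mn (sgn (F := F) a b) ≤ Submodule.span F (Set.range ![E a, E b]) := fun v hv => by
    have e : v = v a • E a + v b • E b := by
      funext k
      by_cases h1 : k = a
      · subst h1; simp [E, hab]
      by_cases h3 : k = b
      · subst h3; simp [E, h1]
      simp [E, h1, h3, (Mn_sgn hab h2).1 hv k h1 h3]
    rw [e]
    exact add_mem (Submodule.smul_mem _ _ (Submodule.subset_span ⟨0, rfl⟩))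
      (Submodule.smul_mem _ _ (Submodule.subset_span ⟨1, rfl⟩))
  exact (Submodule.finrank_mono hle).trans ((finrank_range_le_card _).trans (by simp))

omit hG h2 hn hF in
lemma finrank_Mn_conj (g z : GL ι F) : finrank F (Mn (g * z * g⁻¹)) = finrank F (Mn z) := by
  let e : (ι → F) ≃ₗ[F] (ι → F) := LinearEquiv.ofBijective (Matrix.mulVecLin (g : Matrix ι ι F))
    ⟨gl_mulVec_injective g, fun y => ⟨_, gl_mulVec_inv_mulVec g y⟩⟩
  have he : (Mn z).map e.toLinearMap = Mn (g * z * g⁻¹) := by
    ext v
    constructor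
    · rintro ⟨w, hw, rfl⟩
      rw [mem_Mn, act, gl_mulVec_mul, gl_mulVec_mul]
      change (g : Matrix ι ι F) *ᵥ ((z : Matrix ι ι F) *ᵥ _) = _
      rw [show ((g⁻¹ : GL ι F) : Matrix ι ι F) *ᵥ (e.toLinearMap w) = w from gl_inv_mulVec_mulVec g w,
        show (z : Matrix ι ι F) *ᵥ w = -w from mem_Mn.1 hw, mulVec_neg]
      rfl
    · intro hv
      refine ⟨((g⁻¹ : GL ι F) : Matrix ι ι F) *ᵥ v, ?_, gl_mulVec_inv_mulVec g v⟩
      have h := mem_Mn.1 hv
      rw [act, gl_mulVec_mul, gl_mulVec_mul] at h
      refine mem_Mn.2 (gl_mulVec_injective g ?_)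
      simp only [act, mulVec_neg, gl_mulVec_inv_mulVec]
      exact h
  rw [← he]
  exact e.finrank_map_eq _

/-- Elements commuting with a sign change are monomial. -/
lemma mon_of_comm {c : GL ι F} (hc : c ∈ G) {a b : ι} (hab : a ≠ b)
    (hcs : c * sgn a b = sgn a b * c) : Mon c := by
  obtain ⟨k, hk⟩ := exists_fresh 2 {a, b} Finset.card_le_two (by omega)
  obtain ⟨l, hl⟩ := exists_fresh 3 {a, b, k} Finset.card_le_three (by omega)
  simp only [Finset.mem_insert, Finset.mem_singleton, not_or] at hk hl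
  have hkl : k ≠ l := fun e => hl.2.2 e.symm
  set w := act c⁻¹ (E a) with hw
  have hwa : act (sgn a b) w = -w := by
    refine gl_mulVec_injective c ?_
    simp only [act, mulVec_neg]
    rw [← gl_mulVec_mul, hcs, gl_mulVec_mul, hw, act, gl_mulVec_inv_mulVec]
    funext i
    rw [show ((sgn a b : GL ι F) : Matrix ι ι F) *ᵥ E a = act (sgn a b) (E a) from rfl,
      sgn_apply hab, Pi.neg_apply]
    by_cases hi : i = a
    · simp [hi]
    · simp [E, hi]
  have hw0 := (Mn_sgn hab h2).1 (mem_Mn.2 hwa)
  set y := c * sgn k l * c⁻¹ with hy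
  have hym : y ∈ G := G.mul_mem (G.mul_mem hc (hG.sgn k l hkl)) (G.inv_mem hc)
  have hysq : y * y = 1 := by
    rw [hy]; rw [show c * sgn k l * c⁻¹ * (c * sgn k l * c⁻¹) = c * (sgn k l * sgn k l) * c⁻¹ by group,
      sgn_mul_self hkl]; group
  have hya : act y (E a) = (1 : F) • E a := by
    rw [one_smul, hy, act, gl_mulVec_mul, gl_mulVec_mul]
    change act c (act (sgn k l) w) = _
    rw [show act (sgn k l) w = w from funext fun i => by
      rw [sgn_apply hkl]
      split_ifs with h
      · rcases h with rfl | rfl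
        · rw [hw0 _ hk.1 hk.2, neg_zero]
        · rw [hw0 _ hl.1 hl.2.1, neg_zero]
      · rfl]
    exact gl_mulVec_inv_mulVec c _
  refine mon_of_mem hG h2 hn hF hc hym (hF y hym a 1 hya) hysq
    (by rw [hy, finrank_Mn_conj]; exact finrank_Mn_sgn h2 hkl) (j := k) ?_
  rw [mem_Mn, hy, act, gl_mulVec_mul, gl_mulVec_mul, act, gl_inv_mulVec_mulVec]
  have e : act (sgn k l) (E k : ι → F) = -E k := by
    funext i
    rw [sgn_apply hkl, Pi.neg_apply]
    by_cases hi : i = k
    · simp [hi]
    · simp [E, hi]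
  change act c (act (sgn k l) (E k)) = _
  rw [e, act, mulVec_neg]

/-- The central involution of the dihedral group of `u` and a sign change. -/
lemma exists_centre {u : GL ι F} (hu : u ∈ G) (husq : u * u = 1)
    (hudet : Matrix.det (u : Matrix ι ι F) = 1) (hud : finrank F (Mn u) ≤ 2) (hum : ¬ Mon u)
    (hno : ∀ h ∈ G, ∀ a b : ι, a ≠ b → h * u * h⁻¹ ≠ sgn a b) {a c : ι} (hac : a ≠ c) :
    ∃ z ∈ G, Mon z ∧ z * z = 1 ∧ finrank F (Mn z) ≤ 2 ∧
      (∃ b ∈ Mn u, b ∈ Mn z ∧ b ≠ 0) ∧ (∃ b ∈ Mn (sgn a c), b ∈ Mn z ∧ b ≠ 0) ∧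
      ∀ p ∈ Mn u, p ∈ Mn (sgn a c) → act z p = p := by
  classical
  set s : GL ι F := sgn a c with hsdef
  have hs : s ∈ G := hG.sgn a c hac
  have hssq : s * s = 1 := sgn_mul_self hac
  have hsi : s⁻¹ = s := inv_eq_of_mul_eq_one_left hssq
  have hui : u⁻¹ = u := inv_eq_of_mul_eq_one_left husq
  set t := u * s with ht
  have htG : t ∈ G := G.mul_mem hu hs
  have hts : s * t * s⁻¹ = t⁻¹ := by
    rw [ht, _root_.mul_inv_rev, hsi, hui]
    rw [show s * (u * s) * s = s * u * (s * s) by group, hssq, mul_one]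
  have htu : u = t * s := by rw [ht, mul_assoc, hssq, mul_one]
  have hpow : ∀ j : ℕ, s * t ^ j = (t ^ j)⁻¹ * s := fun j => by
    rw [← inv_pow, ← hts, conj_pow]; group
  haveI : Finite (GL ι F) := inferInstance
  have hm0 : 0 < orderOf t := orderOf_pos t
  rcases Nat.even_or_odd (orderOf t) with ⟨k, hk⟩ | ⟨k, hk⟩
  swap
  · exfalso
    have e : u = t ^ (k + 1) * s * (t ^ (k + 1))⁻¹ := by
      have h1 : s * (t ^ (k + 1))⁻¹ = t ^ (k + 1) * s := by
        have := congrArg (fun x => t ^ (k + 1) * x * (t ^ (k + 1))⁻¹) (hpow (k + 1))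
        simp only [← mul_assoc, mul_inv_cancel, one_mul] at this
        rw [← this]; group
      rw [mul_assoc, h1, ← mul_assoc, ← pow_add, show k + 1 + (k + 1) = orderOf t + 1 by omega,
        pow_succ, pow_orderOf_eq_one, one_mul]
      exact htu
    refine hno (t ^ (k + 1))⁻¹ (G.inv_mem (G.pow_mem htG _)) a c hac ?_
    rw [e, inv_inv]
    group
    exact hsdef
  set z := t ^ k with hz
  have hzG : z ∈ G := G.pow_mem htG k
  have hzsq : z * z = 1 := by rw [hz, ← pow_add, ← hk, pow_orderOf_eq_one]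
  have hzi : z⁻¹ = z := inv_eq_of_mul_eq_one_left hzsq
  have hzs : z * s = s * z := by rw [hz, hpow, ← hz, hzi]
  have hzu : z * u = u * z := by
    calc z * u = z * t * s := by rw [mul_assoc z t s, ← htu]
      _ = t * z * s := by rw [show z * t = t * z from (Commute.pow_self t k).eq]
      _ = t * (z * s) := mul_assoc _ _ _
      _ = t * (s * z) := by rw [hzs]
      _ = u * z := by rw [← mul_assoc, ← htu]
  have hz1 : z ≠ 1 := fun e => by
    have := orderOf_dvd_of_pow_eq_one (hz ▸ e)
    have := Nat.le_of_dvd (by omega) this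
    omega
  have hzdet : Matrix.det (z : Matrix ι ι F) = 1 := by
    rw [hz, ht, Units.val_pow_eq_pow_val, Units.val_mul, Matrix.det_pow, Matrix.det_mul, hudet,
      hsdef, det_sgn hac, mul_one, one_pow]
  have hzm : Mon z := mon_of_comm hG h2 hn hF hzG hac hzs
  set W := Mn u ⊔ Mn s with hW
  have htW : ∀ (j : ℕ) (x : ι → F), act (t ^ j) x - x ∈ W := by
    intro j
    induction j with
    | zero => intro x; simp [act]
    | succ j ih =>
      intro x
      have e1 : act u (act s x) - act s x ∈ Mn u := by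
        have := (Mn u).neg_mem (fvec_mem hG husq (act s x)); rwa [neg_sub] at this
      have e2 : act s x - x ∈ Mn s := by
        have := (Mn s).neg_mem (fvec_mem hG hssq x); rwa [neg_sub] at this
      have e3 := ih (act t x)
      rw [act, act, ← gl_mulVec_mul, ← pow_succ] at e3
      change act (t ^ (j + 1)) x - x ∈ W
      rw [show act (t ^ (j + 1)) x - x = (act (t ^ (j + 1)) x - act t x) +
        ((act u (act s x) - act s x) + (act s x - x)) by
          rw [show act t x = act u (act s x) from by rw [act, ht, gl_mulVec_mul]]; abel]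
      exact add_mem e3 (add_mem (Submodule.mem_sup_left e1) (Submodule.mem_sup_right e2))
  have hMnW : Mn z ≤ W := fun v hv => by
    have h1 := htW k v
    rw [← hz, mem_Mn.1 hv] at h1
    have h3 := W.smul_mem (-(2 : F)⁻¹) h1
    have e : -(2 : F)⁻¹ • (-v - v) = v := by
      funext i
      simp only [Pi.smul_apply, Pi.sub_apply, Pi.neg_apply, smul_eq_mul]
      field_simp
      ring
    rwa [e] at h3
  have hsd : finrank F (Mn s) ≤ 2 := finrank_Mn_sgn h2 hac
  have hW4 : finrank F W ≤ 4 := (Submodule.finrank_add_le_finrank_add_finrank _ _).trans (by omega)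
  have hz0 : finrank F (Mn z) ≠ 0 := fun e => hz1 (gl_ext_mulVec fun x => by
    have := fvec_mem hG hzsq x
    rw [Submodule.finrank_eq_zero.1 e, Submodule.mem_bot, sub_eq_zero] at this
    rw [Units.val_one, one_mulVec]
    exact this.symm)
  have heven := even_finrank_Mn h2 hzsq hzdet
  have hle4 := (Submodule.finrank_mono hMnW).trans hW4
  obtain ⟨S, hS, hSv⟩ := moved_bound hG h2 hzG hzm hzsq
  -- the negated space of `u` is not negated by `z`
  have hsub : ¬ Mn u ≤ Mn z := fun h => by
    obtain ⟨i, hi⟩ := exists_fresh 8 S (by omega) (by omega)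
    exact hum (hF u hu i 1 (by
      rw [one_smul]; exact fix_coord hG h2 hu husq fun p hp => hSv p (h hp) i hi))
  have hd : finrank F (Mn z) = 2 := by
    by_contra h
    obtain ⟨r, hr⟩ := heven
    have e4 : finrank F (Mn z) = 4 := by omega
    refine hsub (le_sup_left.trans (?_ : W ≤ Mn z))
    rw [Submodule.eq_of_le_of_finrank_le hMnW (by omega)]
  -- `u` and `s` preserve the negated space
  have hpres : ∀ {x : GL ι F}, z * x = x * z → ∀ v ∈ Mn z, act x v ∈ Mn z := fun hx v hv => by
    rw [mem_Mn, act, act, ← gl_mulVec_mul, hx, gl_mulVec_mul]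
    change act _ (act z v) = _
    rw [mem_Mn.1 hv, act, mulVec_neg]
  have hodd : ∀ (x : GL ι F), (∀ v ∈ Mn z, act t v = act x v) → (x * x = 1) →
      (∀ v ∈ Mn z, act x v ∈ Mn z) → ∀ v ∈ Mn z, act x v = -v := by
    intro x hx hxsq hxp v hv
    have key : ∀ j : ℕ, act (t ^ j) v = act (x ^ j) v ∧ act (x ^ j) v ∈ Mn z := by
      intro j
      induction j with
      | zero => simp [act, hv]
      | succ j ih =>
        have e : act (t ^ (j + 1)) v = act (x ^ (j + 1)) v := by
          rw [act, pow_succ', gl_mulVec_mul]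
          change act t (act (t ^ j) v) = _
          rw [ih.1, hx _ ih.2, pow_succ' x]
          exact (gl_mulVec_mul x (x ^ j) v).symm
        refine ⟨e, ?_⟩
        rw [act, pow_succ', gl_mulVec_mul]
        exact hxp _ ih.2
    have h1 := (key k).1
    rw [← hz, mem_Mn.1 hv] at h1
    rcases Nat.even_or_odd k with ⟨r, hr⟩ | ⟨r, hr⟩
    · rw [hr, ← two_mul, pow_mul, pow_two, hxsq, one_pow] at h1
      simp only [act, Units.val_one, one_mulVec] at h1
      funext i
      have h3 := congrFun h1 i
      simp only [Pi.neg_apply] at h3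
      have h4 : v i = 0 :=
        (mul_eq_zero.1 (show (2 : F) * v i = 0 by linear_combination -h3)).resolve_left h2
      have hv0 : v = 0 := funext fun i => by
        have h3 := congrFun h1 i
        simp only [Pi.neg_apply] at h3
        exact (mul_eq_zero.1 (show (2 : F) * v i = 0 by linear_combination -h3)).resolve_left h2
      simp [hv0, act]
    · rw [hr, pow_succ, pow_mul, pow_two, hxsq, one_pow, one_mul] at h1
      exact h1.symm
  refine ⟨z, hzG, hzm, hzsq, hd.le, ?_, ?_, ?_⟩
  · by_contra hcon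
    push Not at hcon
    have hfix : ∀ v ∈ Mn z, act u v = v := fun v hv => by
      have h1 := hcon _ (fvec_mem hG husq v) ((Mn z).sub_mem hv (hpres hzu v hv))
      exact (sub_eq_zero.1 h1).symm
    have hx : ∀ v ∈ Mn z, act t v = act s v := fun v hv => by
      rw [act, ht, gl_mulVec_mul]
      exact hfix _ (hpres hzs v hv)
    have hle : Mn z ≤ Mn s := fun v hv => mem_Mn.2 (hodd s hx hssq (hpres hzs) v hv)
    have heq : Mn z = Mn s := Submodule.eq_of_le_of_finrank_le hle (by omega)
    refine hum (hF u hu a 1 ?_)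
    rw [one_smul]
    exact hfix _ (heq ▸ (Mn_sgn hac h2).2 fun i hi _ => by simp [E, hi])
  · by_contra hcon
    push Not at hcon
    have hfix : ∀ v ∈ Mn z, act s v = v := fun v hv => by
      have h1 := hcon _ (fvec_mem hG hssq v) ((Mn z).sub_mem hv (hpres hzs v hv))
      exact (sub_eq_zero.1 h1).symm
    have hx : ∀ v ∈ Mn z, act t v = act u v := fun v hv => by
      rw [act, ht, gl_mulVec_mul]
      change act u (act s v) = _
      rw [hfix v hv]
    have hle : Mn z ≤ Mn u := fun v hv => mem_Mn.2 (hodd u hx husq (hpres hzu) v hv)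
    exact hsub (Submodule.eq_of_le_of_finrank_le hle (by omega)).ge
  · intro p hp hp'
    have h1 : ∀ j : ℕ, act (t ^ j) p = p := fun j => by
      induction j with
      | zero => simp [act]
      | succ j ih =>
        rw [act, pow_succ, gl_mulVec_mul]
        change act (t ^ j) (act t p) = p
        rw [show act t p = p from by
          rw [act, ht, gl_mulVec_mul]
          change act u (act s p) = p
          rw [mem_Mn.1 hp', act, mulVec_neg]
          change -act u p = p
          rw [mem_Mn.1 hp, neg_neg], ih]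
    exact h1 k

/-- An involution with negated plane and not conjugate to a sign change is monomial. -/
lemma mon_of_plane {u : GL ι F} (hu : u ∈ G) (husq : u * u = 1)
    (hudet : Matrix.det (u : Matrix ι ι F) = 1) (hud : finrank F (Mn u) ≤ 2)
    (hno : ∀ h ∈ G, ∀ a b : ι, a ≠ b → h * u * h⁻¹ ≠ sgn a b) : Mon u := by
  classical
  by_contra hum
  obtain ⟨a, c, hac⟩ := Fintype.exists_pair_of_one_lt_card (α := ι) (by omega)
  obtain ⟨z, hzG, hzm, hzsq, hzd, ⟨b, hbu, hbz, hb0⟩, -, -⟩ :=
    exists_centre hG h2 hn hF hu husq hudet hud hum hno hac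
  obtain ⟨S, hS, hSv⟩ := moved_bound hG h2 hzG hzm hzsq
  have hbS : ∀ k ∉ S, b k = 0 := fun k hk => hSv b hbz k hk
  -- any other sparse vector of the plane is a multiple of `b`
  have uniq : ∀ v ∈ Mn u, ∀ T : Finset ι, T.card ≤ 4 → (∀ k ∉ T, v k = 0) → ∃ r : F, v = r • b := by
    intro v hv T hT hvT
    by_contra hcon
    push Not at hcon
    have hli : LinearIndependent F ![b, v] :=
      (LinearIndependent.pair_iff' hb0).2 fun r e => hcon r e.symm
    have hspan : Submodule.span F (Set.range ![b, v]) = Mn u := by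
      refine Submodule.eq_of_le_of_finrank_le (Submodule.span_le.2 (Set.range_subset_iff.2 ?_)) ?_
      · intro i; fin_cases i
        · exact hbu
        · exact hv
      · rw [finrank_span_eq_card hli]
        simpa using hud
    obtain ⟨i, hi⟩ := exists_fresh 8 (S ∪ T) ((Finset.card_union_le _ _).trans (by omega)) (by omega)
    simp only [Finset.mem_union, not_or] at hi
    refine hum (hF u hu i 1 ?_)
    rw [one_smul]
    refine fix_coord hG h2 hu husq fun p hp => ?_
    rw [← hspan] at hp
    obtain ⟨cf, rfl⟩ := (Submodule.mem_span_range_iff_exists_fun F).1 hp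
    simp [Fin.sum_univ_two, hbS i hi.1, hvT i hi.2]
  -- two coordinates outside the support of `b`
  obtain ⟨a1, ha1⟩ := exists_fresh 4 S (by omega) (by omega)
  obtain ⟨c1, hc1⟩ := exists_fresh 5 (insert a1 S) ((Finset.card_insert_le _ _).trans (by omega))
    (by omega)
  simp only [Finset.mem_insert, not_or] at hc1
  obtain ⟨z1, hz1G, hz1m, hz1sq, hz1d, ⟨b1, hb1u, hb1z, hb10⟩, ⟨b0, hb0s, hb0z, hb00⟩, -⟩ :=
    exists_centre hG h2 hn hF hu husq hudet hud hum hno (a := a1) (c := c1) (Ne.symm hc1.1)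
  obtain ⟨S1, hS1, hS1v⟩ := moved_bound hG h2 hz1G hz1m hz1sq
  obtain ⟨r, hr⟩ := uniq b1 hb1u S1 (by omega) fun k hk => hS1v b1 hb1z k hk
  have hb1 : b ∈ Mn z1 := by
    have hr0 : r ≠ 0 := fun e => hb10 (by rw [hr, e, zero_smul])
    have := (Mn z1).smul_mem r⁻¹ hb1z
    rwa [hr, smul_smul, inv_mul_cancel₀ hr0, one_smul] at this
  have hb0' := (Mn_sgn (Ne.symm hc1.1) h2).1 hb0s
  obtain ⟨x, y, hxy, hxy0⟩ := plane_supp hG h2 hz1G hz1m hz1sq hz1d hb1 hb0z hb00 (fun k => by
    by_cases hk : k ∈ S
    · exact Or.inr (hb0' k (fun e => ha1 (e ▸ hk)) (fun e => hc1.2 (e ▸ hk)))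
    · exact Or.inl (hbS k hk)) (by omega)
  obtain ⟨z2, hz2G, hz2m, hz2sq, hz2d, ⟨b2, hb2u, hb2z, hb20⟩, -, hfix⟩ :=
    exists_centre hG h2 hn hF hu husq hudet hud hum hno (a := x) (c := y) hxy
  have hbfix := hfix b hbu ((Mn_sgn hxy h2).2 hxy0)
  obtain ⟨S2, hS2, hS2v⟩ := moved_bound hG h2 hz2G hz2m hz2sq
  obtain ⟨r2, hr2⟩ := uniq b2 hb2u S2 (by omega) fun k hk => hS2v b2 hb2z k hk
  have h3 := mem_Mn.1 hb2z
  rw [hr2, act, mulVec_smul] at h3
  change r2 • act z2 b = _ at h3
  rw [hbfix] at h3
  refine hb20 (funext fun i => ?_)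
  have h4 := congrFun h3 i
  simp only [Pi.smul_apply, Pi.neg_apply, smul_eq_mul] at h4
  rw [hr2, Pi.smul_apply, smul_eq_mul, Pi.zero_apply]
  exact (mul_eq_zero.1 (show (2 : F) * (r2 * b i) = 0 by linear_combination h4)).resolve_left h2

/-- If elements fixing a coordinate line are monomial, all elements are. -/
theorem all_mon : ∀ g ∈ G, Mon g := by
  classical
  intro g hg
  obtain ⟨f, hf⟩ := exists_four (ι := ι) (by omega)
  have hne : ∀ i j : Fin 4, i ≠ j → f i ≠ f j := fun i j h e => h (hf e)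
  set π := Equiv.swap (f 0) (f 1) * Equiv.swap (f 2) (f 3) with hπ
  have hπs : Equiv.Perm.sign π = 1 := by
    rw [hπ, Equiv.Perm.sign_mul, Equiv.Perm.sign_swap (hne 0 1 (by decide)),
      Equiv.Perm.sign_swap (hne 2 3 (by decide))]
    simp
  have hπ0 : π (f 0) = f 1 := by
    rw [hπ, Equiv.Perm.mul_apply, Equiv.swap_apply_of_ne_of_ne (hne 0 2 (by decide))
      (hne 0 3 (by decide)), Equiv.swap_apply_left]
  have hπ1 : π (f 1) = f 0 := by
    rw [hπ, Equiv.Perm.mul_apply, Equiv.swap_apply_of_ne_of_ne (hne 1 2 (by decide))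
      (hne 1 3 (by decide)), Equiv.swap_apply_right]
  have hππ : π * π = 1 := by
    rw [hπ, (Equiv.Perm.Disjoint.commute (?_ : (Equiv.swap (f 0) (f 1)).Disjoint
      (Equiv.swap (f 2) (f 3)))).symm.mul_mul_mul_comm, Equiv.swap_mul_self, Equiv.swap_mul_self, one_mul]
    intro x
    by_cases h : x = f 0 ∨ x = f 1
    · right
      rcases h with rfl | rfl
      · exact Equiv.swap_apply_of_ne_of_ne (hne 0 2 (by decide)) (hne 0 3 (by decide))
      · exact Equiv.swap_apply_of_ne_of_ne (hne 1 2 (by decide)) (hne 1 3 (by decide))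
    · push Not at h
      exact Or.inl (Equiv.swap_apply_of_ne_of_ne h.1 h.2)
  set T1 : GL ι F := mon π 1 with hT1
  set S : GL ι F := sgn (f 0) (f 1) with hS
  set T2 : GL ι F := T1 * S with hT2
  have hT1G : T1 ∈ G := hG.alt π hπs
  have hSG : S ∈ G := hG.sgn _ _ (hne 0 1 (by decide))
  have hT1sq : T1 * T1 = 1 := gl_ext_mulVec fun v => funext fun i => by
    obtain ⟨j, rfl⟩ := π.surjective i
    rw [gl_mulVec_mul, Units.val_one, one_mulVec, hT1, mon_mulVec, mon_mulVec, Equiv.symm_apply_apply]
    simp only [Pi.one_apply, Units.val_one, one_mul]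
    congr 1
    rw [Equiv.symm_apply_eq, ← Equiv.Perm.mul_apply, hππ, Equiv.Perm.one_apply]
  have hT1det : Matrix.det (T1 : Matrix ι ι F) = 1 := by
    rw [hT1, det_mon, hπs]; simp
  -- both involutions
  have gen : ∀ (T : GL ι F) (r : F), T ∈ G → T * T = 1 → Matrix.det (T : Matrix ι ι F) = 1 →
      (∀ v i, act T v i = (if i = f 0 ∨ i = f 1 then r * v (π i) else v (π i))) →
      r ≠ 0 → Mon (g * T * g⁻¹) := by
    intro T r hT hTsq hTdet hTv hr
    have hπo : ∀ i, i ≠ f 0 → i ≠ f 1 → i ≠ f 2 → i ≠ f 3 → π i = i := fun i h0 h1 h3 h4 => by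
      rw [hπ, Equiv.Perm.mul_apply, Equiv.swap_apply_of_ne_of_ne h3 h4,
        Equiv.swap_apply_of_ne_of_ne h0 h1]
    have hMn : ∀ v ∈ Mn T, v = v (f 1) • (E (f 1) - r • E (f 0)) + v (f 2) • (E (f 2) - E (f 3)) := by
      intro v hv
      have h := fun i => congrFun (mem_Mn.1 hv) i
      simp only [hTv, Pi.neg_apply] at h
      funext i
      by_cases h0 : i = f 0
      · subst h0
        have := h (f 0)
        rw [if_pos (Or.inl rfl), hπ0] at this
        simp [E, hne 0 1 (by decide), hne 0 2 (by decide), hne 0 3 (by decide)]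
        linear_combination this
      by_cases h1 : i = f 1
      · subst h1
        simp [E, h0, hne 1 2 (by decide), hne 1 3 (by decide)]
      by_cases h3 : i = f 2
      · subst h3
        simp [E, h0, h1, hne 2 3 (by decide)]
      by_cases h4 : i = f 3
      · subst h4
        have := h (f 3)
        rw [if_neg (by simp [h0, h1]), hπ, Equiv.Perm.mul_apply, Equiv.swap_apply_right,
          Equiv.swap_apply_of_ne_of_ne (hne 2 0 (by decide)) (hne 2 1 (by decide))] at this
        simp [E, h0, h1, h3]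
        linear_combination this
      have := h i
      rw [if_neg (by simp [h0, h1]), hπo i h0 h1 h3 h4] at this
      simp [E, h0, h1, h3, h4]
      exact (mul_eq_zero.1 (show (2 : F) * v i = 0 by linear_combination this)).resolve_left h2
    have hTd : finrank F (Mn T) ≤ 2 := by
      have hle : Mn T ≤ Submodule.span F
          (Set.range ![E (f 1) - r • E (f 0), E (f 2) - E (f 3)]) := fun v hv => by
        rw [hMn v hv]
        exact add_mem (Submodule.smul_mem _ _ (Submodule.subset_span ⟨0, rfl⟩))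
          (Submodule.smul_mem _ _ (Submodule.subset_span ⟨1, rfl⟩))
      exact (Submodule.finrank_mono hle).trans ((finrank_range_le_card _).trans (by simp))
    refine mon_of_plane hG h2 hn hF (G.mul_mem (G.mul_mem hg hT) (G.inv_mem hg))
      (by rw [show g * T * g⁻¹ * (g * T * g⁻¹) = g * (T * T) * g⁻¹ by group, hTsq]; group)
      (by rw [Units.val_mul, Units.val_mul, Matrix.det_units_conj, hTdet])
      (by rw [finrank_Mn_conj]; exact hTd) ?_
    intro h hh a b hab e
    set k := (h * g)⁻¹ with hk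
    have hkG : k ∈ G := G.inv_mem (G.mul_mem hh hg)
    have hTk : T = k * sgn a b * k⁻¹ := by rw [← e, hk]; group
    have hka : act k (E a) ∈ Mn T := by
      rw [hTk, mem_Mn, act, gl_mulVec_mul, gl_mulVec_mul, act, gl_inv_mulVec_mulVec]
      change act k (act (sgn a b) (E a)) = _
      rw [show act (sgn a b) (E a) = -E a from mem_Mn.1 ((Mn_sgn hab h2).2 fun i hi _ => by
        simp [E, hi]), act, mulVec_neg]
    have hkm : Mon k := by
      refine mon_of_zeros hG h2 hn hF hkG a (O := ({f 0, f 1, f 2, f 3} : Finset ι)ᶜ) ?_ ?_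
      · have := Finset.card_le_four (a := f 0) (b := f 1) (c := f 2) (d := f 3)
        rw [Finset.card_compl]
        omega
      · intro i hi
        simp only [Finset.mem_compl, Finset.mem_insert, Finset.mem_singleton, not_or] at hi
        rw [hMn _ hka]
        simp [E, hi]
    obtain ⟨σ, d, hkd⟩ := exists_mon_of_Mon hkm
    have h5 : act T (E (f 1)) (f 0) = r := by
      rw [hTv, if_pos (Or.inl rfl), hπ0]; simp [E]
    obtain ⟨y, hy⟩ := σ.surjective (f 1)
    have h6 : act T (E (f 1)) (f 0) = 0 := by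
      rw [hTk, hkd]
      have e1 : ((mon σ d)⁻¹ : GL ι F).1 *ᵥ (E (f 1) : ι → F) = Pi.single y ((d y : F))⁻¹ := by
        refine gl_mulVec_injective (mon σ d) ?_
        simp only [gl_mulVec_inv_mulVec, mon_mulVec_single, hy]
        rw [mul_inv_cancel₀ (d y).ne_zero]
      rw [act, gl_mulVec_mul, gl_mulVec_mul, e1]
      unfold OmL.sgn
      rw [mon_mulVec_single, Equiv.Perm.one_apply, mon_mulVec_single, hy,
        Pi.single_eq_of_ne (hne 0 1 (by decide))]
    exact hr (h5.symm.trans h6)
  have hm1 : Mon (g * T1 * g⁻¹) := gen T1 1 hT1G hT1sq hT1det (fun v i => by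
    rw [act, hT1, mon_mulVec]
    simp only [Pi.one_apply, Units.val_one, one_mul, ite_self]
    congr 1
    rw [Equiv.symm_apply_eq, ← Equiv.Perm.mul_apply, hππ, Equiv.Perm.one_apply]) one_ne_zero
  have hT2v : ∀ v i, act T2 v i = if i = f 0 ∨ i = f 1 then (-1 : F) * v (π i) else v (π i) := by
    intro v i
    rw [hT2, act, gl_mulVec_mul, hT1, mon_mulVec]
    simp only [Pi.one_apply, Units.val_one, one_mul]
    rw [show π.symm i = π i by rw [Equiv.symm_apply_eq, ← Equiv.Perm.mul_apply, hππ, Equiv.Perm.one_apply]]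
    change act S v (π i) = _
    rw [hS, sgn_apply (hne 0 1 (by decide))]
    have hiff : (π i = f 0 ∨ π i = f 1) ↔ (i = f 0 ∨ i = f 1) := by
      rw [show (π i = f 0) ↔ (i = f 1) from by rw [← hπ1, π.apply_eq_iff_eq],
        show (π i = f 1) ↔ (i = f 0) from by rw [← hπ0, π.apply_eq_iff_eq], or_comm]
    by_cases h : i = f 0 ∨ i = f 1
    · rw [if_pos h, if_pos (hiff.2 h)]; ring
    · rw [if_neg h, if_neg (mt hiff.1 h)]
  have hT2sq : T2 * T2 = 1 := gl_ext_mulVec fun v => funext fun i => by
    rw [gl_mulVec_mul, Units.val_one, one_mulVec]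
    change act T2 (act T2 v) i = v i
    rw [hT2v, hT2v]
    have hi : π (π i) = i := by rw [← Equiv.Perm.mul_apply, hππ, Equiv.Perm.one_apply]
    have hiff : (π i = f 0 ∨ π i = f 1) ↔ (i = f 0 ∨ i = f 1) := by
      rw [show (π i = f 0) ↔ (i = f 1) from by rw [← hπ1, π.apply_eq_iff_eq],
        show (π i = f 1) ↔ (i = f 0) from by rw [← hπ0, π.apply_eq_iff_eq], or_comm]
    rw [hi]
    by_cases h : i = f 0 ∨ i = f 1
    · rw [if_pos h, if_pos (hiff.2 h)]; ring
    · rw [if_neg h, if_neg (mt hiff.1 h)]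
  have hm2 : Mon (g * T2 * g⁻¹) := gen T2 (-1) (G.mul_mem hT1G hSG) hT2sq (by
    rw [hT2, Units.val_mul, Matrix.det_mul, hT1det, hS, det_sgn (hne 0 1 (by decide)), mul_one])
    hT2v (neg_ne_zero.2 one_ne_zero)
  have hmS : Mon (g * S * g⁻¹) := by
    have := Mon_mul hm1 hm2
    rwa [show g * T1 * g⁻¹ * (g * T2 * g⁻¹) = g * (T1 * T1) * S * g⁻¹ by rw [hT2]; group, hT1sq,
      mul_one] at this
  have h01 := hne 0 1 (by decide)
  refine mon_of_mem hG h2 hn hF hg (z := g * S * g⁻¹) (G.mul_mem (G.mul_mem hg hSG) (G.inv_mem hg))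
    hmS (by rw [show g * S * g⁻¹ * (g * S * g⁻¹) = g * (S * S) * g⁻¹ by group,
      hS, sgn_mul_self h01]; group)
    (by rw [finrank_Mn_conj, hS]; exact finrank_Mn_sgn h2 h01) (j := f 0) ?_
  rw [mem_Mn, act, gl_mulVec_mul, gl_mulVec_mul, act, gl_inv_mulVec_mulVec]
  change act g (act S (E (f 0))) = _
  rw [hS, show act (sgn (f 0) (f 1)) (E (f 0)) = -E (f 0) from mem_Mn.1 ((Mn_sgn h01 h2).2
    fun i hi _ => by simp [E, hi]), act, mulVec_neg]

end CfsgLib.ClassicalMax.OmL
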