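/-
Overgroups of the monomial group in an orthogonal group in dimension at least nine: a non-monomial
element may be taken to fix one coordinate line and to send a coordinate vector to a vector with three
zeros which spans no coordinate line.
-/
import Cfsg.Agent.Lib.ClassicalMax.OrthMonCore
set_option autoImplicit false
set_option linter.unusedSectionVars false

namespace CfsgLib.ClassicalMax.OmL

open Matrix Module
open CfsgLib.ClassicalMax.MonG

variable {ι : Type} [Fintype ι] [DecidableEq ι] {F : Type*} [Field F]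

/-- Fixing every coordinate line of a set. -/
def FixesLines (A : Finset ι) (g : GL ι F) : Prop := ∀ y ∈ A, ∃ t : F, act g (E y) = t • E y

/-- No element fixing a coordinate line sends a coordinate vector off all coordinate lines into three
coordinate hyperplanes. -/
def NoSparse (G : Subgroup (GL ι F)) : Prop :=
  ∀ g ∈ G, ∀ (a : ι) (t : F), act g (E a) = t • E a → ∀ (j : ι) (O : Finset ι), 3 ≤ O.card →
    (∀ o ∈ O, act g (E j) o = 0) → ∃ q, ∀ y, y ≠ q → act g (E j) y = 0

lemma act_mul' (g h : GL ι F) (v : ι → F) : act (g * h) v = act g (act h v) := gl_mulVec_mul g h v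

lemma FixesLines.mul {A : Finset ι} {g h : GL ι F} (hg : FixesLines A g) (hh : FixesLines A h) :
    FixesLines A (g * h) := fun y hy => by
  obtain ⟨t, ht⟩ := hg y hy
  obtain ⟨r, hr⟩ := hh y hy
  exact ⟨r * t, by rw [act_mul', hr, act, mulVec_smul, ← act, ht, smul_smul]⟩

lemma FixesLines.pow {A : Finset ι} {g : GL ι F} (hg : FixesLines A g) :
    ∀ n : ℕ, FixesLines A (g ^ n)
  | 0 => fun y _ => ⟨1, by rw [act, pow_zero, Units.val_one, one_mulVec, one_smul]⟩
  | n + 1 => by rw [pow_succ]; exact (hg.pow n).mul hg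

lemma FixesLines.inv {A : Finset ι} {g : GL ι F} (hg : FixesLines A g) : FixesLines A g⁻¹ :=
  fun y hy => by
    obtain ⟨t, ht⟩ := hg y hy
    have ht0 : t ≠ 0 := fun e => gl_mulVec_ne_zero g (x := E y)
      (fun e' => by simpa [E] using congrFun e' y) (by rw [← act, ht, e, zero_smul])
    refine ⟨t⁻¹, gl_mulVec_injective g ?_⟩
    simp only [act, gl_mulVec_inv_mulVec, mulVec_smul]
    rw [← act, ht, smul_smul, inv_mul_cancel₀ ht0, one_smul]

section Group

variable {G : Subgroup (GL ι F)} (hG : Hyp G)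
include hG

/-- The negated space of a monomial involution lives on few coordinates, fewer with negated
coordinate vectors. -/
lemma moved_bound_neg (h2 : (2 : F) ≠ 0) {z : GL ι F} (hz : z ∈ G) (hzm : Mon z) (hsq : z * z = 1)
    (P : Finset ι) (hP : ∀ x ∈ P, act z (E x) = -E x) :
    ∃ S : Finset ι, S.card + P.card ≤ 2 * finrank F (Mn z) ∧ ∀ v ∈ Mn z, ∀ k ∉ S, v k = 0 := by
  classical
  obtain ⟨σ, d, rfl⟩ := exists_mon_of_Mon hzm
  let e := Fintype.equivFin ι
  let R := Finset.univ.filter fun x => act (mon σ d) (E x) ≠ E x ∧ e x ≤ e (σ x)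
  have hR : R.card ≤ finrank F (Mn (mon σ d)) := by
    refine card_le_finrank hG h2 hz hsq R (fun x hx => (Finset.mem_filter.1 hx).2.1) ?_
    intro x hx y hy hxy
    have h1 := (Finset.mem_filter.1 hx).2.2
    have h3 := (Finset.mem_filter.1 hy).2.2
    subst hxy
    rw [(mon_inv_data hG hsq x).1] at h3
    exact e.injective (le_antisymm h1 h3)
  have hPσ : ∀ x ∈ P, σ x = x ∧ x ∈ R := fun x hx => by
    have h1 := hP x hx
    rw [act, E, mon_mulVec_single] at h1
    have hσ : σ x = x := by
      by_contra hne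
      have h4 := congrFun h1 (σ x)
      simp [Pi.single_eq_of_ne hne, (d x).ne_zero] at h4
    refine ⟨hσ, Finset.mem_filter.2 ⟨Finset.mem_univ _, fun e' => ?_, by rw [hσ]⟩⟩
    have h4 := congrFun ((hP x hx).symm.trans e') x
    simp only [E, Pi.neg_apply, Pi.single_eq_same] at h4
    exact h2 (by linear_combination -h4)
  refine ⟨R ∪ (R \ P).image σ, ?_, fun v hv k hk => ?_⟩
  · have hPR : P ⊆ R := fun x hx => (hPσ x hx).2
    have := Finset.card_image_le (s := R \ P) (f := σ)
    have := Finset.card_union_le R ((R \ P).image σ)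
    rw [Finset.card_sdiff_of_subset hPR] at *
    have := Finset.card_le_card hPR
    omega
  have hd2 := mon_inv_data hG hsq k
  by_cases hfix : act (mon σ d) (E k) = E k
  · simp only [act, E, mon_mulVec_single, mul_one] at hfix
    have h1 := congrFun hfix (σ k)
    rw [Pi.single_eq_same] at h1
    have hσ : σ k = k := by
      by_contra hne
      rw [Pi.single_eq_of_ne hne] at h1
      exact (d k).ne_zero h1
    rw [hσ, Pi.single_eq_same] at h1
    have h3 := Mn_coord hG hv k
    rw [hσ, h1, one_mul] at h3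
    have h4 : (2 : F) * v k = 0 := by linear_combination h3
    exact (mul_eq_zero.1 h4).resolve_left h2
  exfalso
  apply hk
  rcases le_total (e k) (e (σ k)) with h | h
  · exact Finset.mem_union_left _ (Finset.mem_filter.2 ⟨Finset.mem_univ _, hfix, h⟩)
  · have hσR : σ k ∈ R := Finset.mem_filter.2
      ⟨Finset.mem_univ _, fun e' => hfix ?_, by rw [hd2.1]; exact h⟩
    · by_cases hkP : σ k ∈ P
      · refine Finset.mem_union_left _ ?_
        rwa [← show σ k = k from (hPσ _ hkP).1.symm.trans hd2.1]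
      · exact Finset.mem_union_right _
          (Finset.mem_image.2 ⟨σ k, Finset.mem_sdiff.2 ⟨hσR, hkP⟩, hd2.1⟩)
    have h5 : act (mon σ d) (act (mon σ d) (E k)) = E k := by
      rw [act, act, ← gl_mulVec_mul, hsq, Units.val_one, one_mulVec]
    have h6 : act (mon σ d) (E k) = (d k : F) • E (σ k) := by
      rw [act, E, mon_mulVec_single, mul_one, E, ← Pi.single_smul, smul_eq_mul, mul_one]
    rw [h6, act, mulVec_smul] at h5
    change (d k : F) • act (mon σ d) (E (σ k)) = E k at h5
    rw [e'] at h5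
    rw [h6]
    exact h5

variable [Fintype F] (h2 : (2 : F) ≠ 0) (hn : 9 ≤ Fintype.card ι)
include h2 hn

/-- The central involution of the dihedral group of an involution `u` fixing the lines in `A` and a
sign change, when it is known to be monomial. -/
lemma exists_centre' {u : GL ι F} (hu : u ∈ G) (husq : u * u = 1)
    (hudet : Matrix.det (u : Matrix ι ι F) = 1) (hud : finrank F (Mn u) ≤ 2) {a c : ι} (hac : a ≠ c)
    {A : Finset ι} (hA : A.card ≤ 2) (hcA : c ∉ A) (hum : ∀ i ∉ A, act u (E i) ≠ E i)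
    (hno : ∀ j : ℕ, ((u * sgn a c) ^ j)⁻¹ * u * (u * sgn a c) ^ j ≠ sgn a c)
    (hzmon : ∀ j : ℕ, (u * sgn a c) ^ j * sgn a c = sgn a c * (u * sgn a c) ^ j →
      Mon ((u * sgn a c) ^ j)) :
    ∃ z, (∃ j : ℕ, z = (u * sgn a c) ^ j) ∧ z ∈ G ∧ Mon z ∧ z * z = 1 ∧ z * u = u * z ∧
      finrank F (Mn z) ≤ 2 ∧ (∃ b ∈ Mn u, b ∈ Mn z ∧ b ≠ 0) ∧
      (∃ b ∈ Mn (sgn a c), b ∈ Mn z ∧ b ≠ 0) := by
  classical
  set s : GL ι F := sgn a c with hsdef
  have hs : s ∈ G := hG.sgn a c hac
  have hssq : s * s = 1 := sgn_mul_self hac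
  have hsi : s⁻¹ = s := inv_eq_of_mul_eq_one_left hssq
  have hui : u⁻¹ = u := inv_eq_of_mul_eq_one_left husq
  set t := u * s with ht
  have htG : t ∈ G := G.mul_mem hu hs
  have hts : s * t * s⁻¹ = t⁻¹ := by
    rw [ht, _root_.mul_inv_rev, hsi, hui]
    rw [show s * (u * s) * s = s * u * (s * s) by group, hssq, mul_one]
  have htu : u = t * s := by rw [ht, mul_assoc, hssq, mul_one]
  have hpow : ∀ j : ℕ, s * t ^ j = (t ^ j)⁻¹ * s := fun j => by
    rw [← inv_pow, ← hts, conj_pow]; group
  haveI : Finite (GL ι F) := inferInstance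
  have hm0 : 0 < orderOf t := orderOf_pos t
  rcases Nat.even_or_odd (orderOf t) with ⟨k, hk⟩ | ⟨k, hk⟩
  swap
  · exfalso
    have e : u = t ^ (k + 1) * s * (t ^ (k + 1))⁻¹ := by
      have h1 : s * (t ^ (k + 1))⁻¹ = t ^ (k + 1) * s := by
        have := congrArg (fun x => t ^ (k + 1) * x * (t ^ (k + 1))⁻¹) (hpow (k + 1))
        simp only [← mul_assoc, mul_inv_cancel, one_mul] at this
        rw [← this]; group
      rw [mul_assoc, h1, ← mul_assoc, ← pow_add, show k + 1 + (k + 1) = orderOf t + 1 by omega,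
        pow_succ, pow_orderOf_eq_one, one_mul]
      exact htu
    refine hno (k + 1) ?_
    rw [e]
    group
  set z := t ^ k with hz
  have hzG : z ∈ G := G.pow_mem htG k
  have hzsq : z * z = 1 := by rw [hz, ← pow_add, ← hk, pow_orderOf_eq_one]
  have hzi : z⁻¹ = z := inv_eq_of_mul_eq_one_left hzsq
  have hzs : z * s = s * z := by rw [hz, hpow, ← hz, hzi]
  have hzu : z * u = u * z := by
    calc z * u = z * t * s := by rw [mul_assoc z t s, ← htu]
      _ = t * z * s := by rw [show z * t = t * z from (Commute.pow_self t k).eq]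
      _ = t * (z * s) := mul_assoc _ _ _
      _ = t * (s * z) := by rw [hzs]
      _ = u * z := by rw [← mul_assoc, ← htu]
  have hz1 : z ≠ 1 := fun e => by
    have := orderOf_dvd_of_pow_eq_one (hz ▸ e)
    have := Nat.le_of_dvd (by omega) this
    omega
  have hzdet : Matrix.det (z : Matrix ι ι F) = 1 := by
    rw [hz, ht, Units.val_pow_eq_pow_val, Units.val_mul, Matrix.det_pow, Matrix.det_mul, hudet,
      hsdef, det_sgn hac, mul_one, one_pow]
  have hzm : Mon z := hzmon k hzs
  set W := Mn u ⊔ Mn s with hW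
  have htW : ∀ (j : ℕ) (x : ι → F), act (t ^ j) x - x ∈ W := by
    intro j
    induction j with
    | zero => intro x; simp [act]
    | succ j ih =>
      intro x
      have e1 : act u (act s x) - act s x ∈ Mn u := by
        have := (Mn u).neg_mem (fvec_mem hG husq (act s x)); rwa [neg_sub] at this
      have e2 : act s x - x ∈ Mn s := by
        have := (Mn s).neg_mem (fvec_mem hG hssq x); rwa [neg_sub] at this
      have e3 := ih (act t x)
      rw [act, act, ← gl_mulVec_mul, ← pow_succ] at e3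
      change act (t ^ (j + 1)) x - x ∈ W
      rw [show act (t ^ (j + 1)) x - x = (act (t ^ (j + 1)) x - act t x) +
        ((act u (act s x) - act s x) + (act s x - x)) by
          rw [show act t x = act u (act s x) from by rw [act, ht, gl_mulVec_mul]]; abel]
      exact add_mem e3 (add_mem (Submodule.mem_sup_left e1) (Submodule.mem_sup_right e2))
  have hMnW : Mn z ≤ W := fun v hv => by
    have h1 := htW k v
    rw [← hz, mem_Mn.1 hv] at h1
    have h3 := W.smul_mem (-(2 : F)⁻¹) h1
    have e : -(2 : F)⁻¹ • (-v - v) = v := by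
      funext i
      simp only [Pi.smul_apply, Pi.sub_apply, Pi.neg_apply, smul_eq_mul]
      field_simp
      ring
    rwa [e] at h3
  have hsd : finrank F (Mn s) ≤ 2 := finrank_Mn_sgn h2 hac
  have hW4 : finrank F W ≤ 4 := (Submodule.finrank_add_le_finrank_add_finrank _ _).trans (by omega)
  have hz0 : finrank F (Mn z) ≠ 0 := fun e => hz1 (gl_ext_mulVec fun x => by
    have := fvec_mem hG hzsq x
    rw [Submodule.finrank_eq_zero.1 e, Submodule.mem_bot, sub_eq_zero] at this
    rw [Units.val_one, one_mulVec]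
    exact this.symm)
  have heven := even_finrank_Mn h2 hzsq hzdet
  have hle4 := (Submodule.finrank_mono hMnW).trans hW4
  -- the negated space of `u` is not negated by `z`
  have hne : ∀ (P : Finset ι), (∀ x ∈ P, act z (E x) = -E x) → Mn u ≤ Mn z →
      2 * finrank F (Mn z) + A.card < Fintype.card ι + P.card → False := by
    intro P hP h hlt
    obtain ⟨S, hS, hSv⟩ := moved_bound_neg hG h2 hzG hzm hzsq P hP
    obtain ⟨i, hi⟩ := exists_fresh (S.card + A.card) (S ∪ A) (Finset.card_union_le _ _) (by omega)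
    simp only [Finset.mem_union, not_or] at hi
    exact hum i hi.2 (fix_coord hG h2 hu husq fun p hp => hSv p (h hp) i hi.1)
  have hd : finrank F (Mn z) = 2 := by
    by_contra h
    obtain ⟨r, hr⟩ := heven
    have e4 : finrank F (Mn z) = 4 := by omega
    have hWe : Mn z = W := Submodule.eq_of_le_of_finrank_le hMnW (by omega)
    refine hne {a, c} (fun x hx => ?_) (hWe ▸ le_sup_left) (by rw [Finset.card_pair hac]; omega)
    refine mem_Mn.1 (hWe ▸ Submodule.mem_sup_right ((Mn_sgn hac h2).2 fun i hi hi' => ?_))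
    simp only [Finset.mem_insert, Finset.mem_singleton] at hx
    rcases hx with rfl | rfl <;> simp [E, hi, hi']
  have hsub : ¬ Mn u ≤ Mn z := fun h => hne ∅ (by simp) h (by rw [hd, Finset.card_empty]; omega)
  -- `u` and `s` preserve the negated space
  have hpres : ∀ {x : GL ι F}, z * x = x * z → ∀ v ∈ Mn z, act x v ∈ Mn z := fun hx v hv => by
    rw [mem_Mn, act, act, ← gl_mulVec_mul, hx, gl_mulVec_mul]
    change act _ (act z v) = _
    rw [mem_Mn.1 hv, act, mulVec_neg]
  have hodd : ∀ (x : GL ι F), (∀ v ∈ Mn z, act t v = act x v) → (x * x = 1) →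
      (∀ v ∈ Mn z, act x v ∈ Mn z) → ∀ v ∈ Mn z, act x v = -v := by
    intro x hx hxsq hxp v hv
    have key : ∀ j : ℕ, act (t ^ j) v = act (x ^ j) v ∧ act (x ^ j) v ∈ Mn z := by
      intro j
      induction j with
      | zero => simp [act, hv]
      | succ j ih =>
        have e : act (t ^ (j + 1)) v = act (x ^ (j + 1)) v := by
          rw [act, pow_succ', gl_mulVec_mul]
          change act t (act (t ^ j) v) = _
          rw [ih.1, hx _ ih.2, pow_succ' x]
          exact (gl_mulVec_mul x (x ^ j) v).symm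
        refine ⟨e, ?_⟩
        rw [act, pow_succ', gl_mulVec_mul]
        exact hxp _ ih.2
    have h1 := (key k).1
    rw [← hz, mem_Mn.1 hv] at h1
    rcases Nat.even_or_odd k with ⟨r, hr⟩ | ⟨r, hr⟩
    · rw [hr, ← two_mul, pow_mul, pow_two, hxsq, one_pow] at h1
      simp only [act, Units.val_one, one_mulVec] at h1
      funext i
      have h3 := congrFun h1 i
      simp only [Pi.neg_apply] at h3
      have h4 : v i = 0 :=
        (mul_eq_zero.1 (show (2 : F) * v i = 0 by linear_combination -h3)).resolve_left h2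
      have hv0 : v = 0 := funext fun i => by
        have h3 := congrFun h1 i
        simp only [Pi.neg_apply] at h3
        exact (mul_eq_zero.1 (show (2 : F) * v i = 0 by linear_combination -h3)).resolve_left h2
      simp [hv0, act]
    · rw [hr, pow_succ, pow_mul, pow_two, hxsq, one_pow, one_mul] at h1
      exact h1.symm
  refine ⟨z, ⟨k, hz⟩, hzG, hzm, hzsq, hzu, hd.le, ?_, ?_⟩
  · by_contra hcon
    push Not at hcon
    have hfix : ∀ v ∈ Mn z, act u v = v := fun v hv => by
      have h1 := hcon _ (fvec_mem hG husq v) ((Mn z).sub_mem hv (hpres hzu v hv))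
      exact (sub_eq_zero.1 h1).symm
    have hx : ∀ v ∈ Mn z, act t v = act s v := fun v hv => by
      rw [act, ht, gl_mulVec_mul]
      exact hfix _ (hpres hzs v hv)
    have hle : Mn z ≤ Mn s := fun v hv => mem_Mn.2 (hodd s hx hssq (hpres hzs) v hv)
    have heq : Mn z = Mn s := Submodule.eq_of_le_of_finrank_le hle (by omega)
    exact hum c hcA (hfix _ (heq ▸ (Mn_sgn hac h2).2 fun i _ hi => by simp [E, hi]))
  · by_contra hcon
    push Not at hcon
    have hfix : ∀ v ∈ Mn z, act s v = v := fun v hv => by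
      have h1 := hcon _ (fvec_mem hG hssq v) ((Mn z).sub_mem hv (hpres hzs v hv))
      exact (sub_eq_zero.1 h1).symm
    have hx : ∀ v ∈ Mn z, act t v = act u v := fun v hv => by
      rw [act, ht, gl_mulVec_mul]
      change act u (act s v) = _
      rw [hfix v hv]
    have hle : Mn z ≤ Mn u := fun v hv => mem_Mn.2 (hodd u hx husq (hpres hzu) v hv)
    exact hsub (Submodule.eq_of_le_of_finrank_le hle (by omega)).ge

omit h2 hn in
lemma fix_eigen {g : GL ι F} (hg : g ∈ G) {y : ι} {t : F} (h : act g (E y) = t • E y) :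
    t * t = 1 := by
  have := colnorm hG hg y
  rw [h] at this
  simpa [E] using this

omit h2 hn in
lemma zero_at {g : GL ι F} (hg : g ∈ G) {y k : ι} {t : F} (h : act g (E y) = t • E y) (hk : k ≠ y) :
    act g (E k) y = 0 := by
  have := colorth hG hg hk
  rw [h, dotProduct_smul, dotProduct_single, mul_one, smul_eq_mul] at this
  exact (mul_eq_zero.1 this).resolve_left fun e => by
    have := fix_eigen hG hg h
    rw [e] at this; simp at this

section Step

variable {A : Finset ι} (hA : A.Nonempty) (hA2 : A.card ≤ 2) (hN : NoSparse G)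
  (hnext : ∀ g ∈ G, FixesLines A g → ∀ c ∉ A, ∀ t : F, act g (E c) = t • E c → Mon g)
include hA hA2 hN hnext

lemma mon_of_sparse {g : GL ι F} (hg : g ∈ G) (hgA : FixesLines A g) {j : ι} (hj : j ∉ A)
    {O : Finset ι} (hO : 3 ≤ O.card) (hz : ∀ o ∈ O, act g (E j) o = 0) : Mon g := by
  obtain ⟨p, hp⟩ := hA
  obtain ⟨t, ht⟩ := hgA p hp
  obtain ⟨q, hq⟩ := hN g hg p t ht j O hO hz
  set s := act g (E j) q with hs
  have hcol : act g (E j) = s • E q := funext fun y => by
    by_cases hy : y = q
    · subst hy; simp [E, hs]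
    · rw [hq y hy]; simp [E, hy]
  have hs1 : s * s = 1 := by
    have := colnorm hG hg j
    rw [hcol] at this
    simpa [E] using this
  by_cases hqj : q = j
  · subst hqj; exact hnext g hg hgA _ hj s hcol
  have hqA : q ∉ A := fun hqA => by
    obtain ⟨r, hr⟩ := hgA q hqA
    have := zero_at hG hg hr (Ne.symm hqj)
    rw [hcol] at this
    simp [E] at this
    rw [this] at hs1; simp at hs1
  obtain ⟨c, hc⟩ := exists_fresh 4 (A ∪ {j, q}) ((Finset.card_union_le _ _).trans (by
    have := Finset.card_le_two (a := j) (b := q); omega)) (by omega)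
  simp only [Finset.mem_union, Finset.mem_insert, Finset.mem_singleton, not_or] at hc
  obtain ⟨σ, hσdef⟩ : ∃ σ, σ = (Equiv.swap j q * Equiv.swap q c)⁻¹ := ⟨_, rfl⟩
  have hσs : Equiv.Perm.sign σ = 1 := by
    rw [hσdef, Equiv.Perm.sign_inv, sign_cycle (Ne.symm hqj) (Ne.symm hc.2.2)]
  have hσq : σ q = j := by
    rw [hσdef, Equiv.Perm.inv_eq_iff_eq, Equiv.Perm.mul_apply,
      Equiv.swap_apply_of_ne_of_ne (Ne.symm hqj) (Ne.symm hc.2.1), Equiv.swap_apply_left]
  have hfixσ : FixesLines A (mon σ (1 : ι → Fˣ)) := fun y hy => ⟨1, by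
    have hy1 : y ≠ j := fun e => hj (e ▸ hy)
    have hy2 : y ≠ q := fun e => hqA (e ▸ hy)
    have hy3 : y ≠ c := fun e => hc.1 (e ▸ hy)
    have : σ y = y := by
      rw [hσdef, Equiv.Perm.inv_eq_iff_eq, Equiv.Perm.mul_apply,
        Equiv.swap_apply_of_ne_of_ne hy2 hy3, Equiv.swap_apply_of_ne_of_ne hy1 hy2]
    rw [act, E, mon_mulVec_single, this]; simp [E]⟩
  have hm := hG.alt σ hσs
  have h' : act (mon σ 1 * g) (E j) = s • E j := by
    rw [act_mul', hcol, act, mulVec_smul, E, mon_mulVec_single, hσq]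
    simp [E]
  have := Mon_mul (Mon_inv (mon_Mon σ (1 : ι → Fˣ)))
    (hnext _ (G.mul_mem hm hg) (hfixσ.mul hgA) j hj s h')
  rwa [← mul_assoc, inv_mul_cancel, one_mul] at this

lemma mon_of_plane' {u : GL ι F} (hu : u ∈ G) (husq : u * u = 1)
    (hudet : Matrix.det (u : Matrix ι ι F) = 1) (hud : finrank F (Mn u) ≤ 2)
    (huA : ∀ y ∈ A, act u (E y) = E y)
    (hno : ∀ h ∈ G, FixesLines A h → ∀ a b : ι, a ≠ b → h * u * h⁻¹ ≠ sgn a b) : Mon u := by
  classical
  by_contra hm
  have hufix : FixesLines A u := fun y hy => ⟨1, by rw [one_smul]; exact huA y hy⟩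
  have hum : ∀ i ∉ A, act u (E i) ≠ E i := fun i hi e =>
    hm (hnext u hu hufix i hi 1 (by rw [one_smul]; exact e))
  obtain ⟨p, hp⟩ := hA
  have hzero : ∀ b ∈ Mn u, ∀ y ∈ A, b y = 0 := fun b hb y hy => by
    have := hG.dot u hu b (E y)
    rw [mem_Mn.1 hb, huA y hy, dotProduct_single, dotProduct_single, Pi.neg_apply, mul_one,
      mul_one] at this
    exact (mul_eq_zero.1 (show (2 : F) * b y = 0 by linear_combination -this)).resolve_left h2
  -- sparse negated vectors
  have sparse : ∀ c ∉ A, ∃ z ∈ G, z * u = u * z ∧ finrank F (Mn z) ≤ 2 ∧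
      (∃ t : F, t * t = 1 ∧ act z (E c) = t • E c) ∧
      ∃ b ∈ Mn u, b ∈ Mn z ∧ b ≠ 0 ∧ ∃ x y : ι, ∀ k, k ≠ x → k ≠ y → k ≠ c → b k = 0 := by
    intro c hc
    have hpc : p ≠ c := fun e => hc (e ▸ hp)
    set s : GL ι F := sgn p c with hs
    have hsA : FixesLines A s := fun y _ => ⟨if y = p ∨ y = c then -1 else 1, funext fun k => by
      rw [hs, sgn_apply hpc, Pi.smul_apply, smul_eq_mul]
      by_cases hk : k = y
      · subst hk; split_ifs <;> simp [E]
      · simp [E, hk]⟩
    have htA : ∀ j : ℕ, FixesLines A ((u * s) ^ j) := (hufix.mul hsA).pow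
    have htG : ∀ j : ℕ, (u * s) ^ j ∈ G := fun j => G.pow_mem (G.mul_mem hu (hG.sgn p c hpc)) j
    have hcol : ∀ j : ℕ, (u * s) ^ j * s = s * (u * s) ^ j →
        ∃ t : F, act ((u * s) ^ j) (E c) = t • E c := fun j hj => by
      set z := (u * s) ^ j with hz
      obtain ⟨r, hr⟩ := htA j p hp
      have h1 : act z (E c) ∈ Mn s := by
        rw [mem_Mn, ← act_mul', ← hj, act_mul', hs,
          show act (sgn p c) (E c : ι → F) = -E c from funext fun k => by
            rw [sgn_apply hpc, Pi.neg_apply]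
            by_cases hk : k = c
            · simp [hk]
            · simp [E, hk], act, mulVec_neg]
      refine ⟨act z (E c) c, funext fun k => ?_⟩
      by_cases hkc : k = c
      · subst hkc; simp [E]
      by_cases hkp : k = p
      · subst hkp; rw [zero_at hG (htG j) hr hpc.symm]; simp [E, hkc]
      · rw [(Mn_sgn hpc h2).1 h1 k hkp hkc]; simp [E, hkc]
    obtain ⟨z, ⟨j, hzj⟩, hzG, hzm, hzsq, hzu, hzd, ⟨b, hbu, hbz, hb0⟩, ⟨b0, hb0s, hb0z, hb00⟩⟩ :=
      exists_centre' hG h2 hn hu husq hudet hud hpc hA2 hc hum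
        (fun j e => hno _ (G.inv_mem (htG j)) (htA j).inv p c hpc (by rw [inv_inv]; exact e))
        (fun j hj => (hcol j hj).elim fun t ht => hnext _ (htG j) (htA j) c hc t ht)
    have hzs : z * s = s * z := by
      have hui : u⁻¹ = u := inv_eq_of_mul_eq_one_left husq
      have e1 : z * (u * s) = (u * s) * z := by rw [hzj]; exact (Commute.pow_self (u * s) j).eq
      have e2 : u * (z * s) = u * (s * z) := by
        rw [← mul_assoc, ← hzu, mul_assoc, e1, mul_assoc]
      exact mul_left_cancel e2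
    obtain ⟨tc, htc⟩ := hcol j (hzj ▸ hzs)
    rw [← hzj] at htc
    obtain ⟨tp, htp⟩ := htA j p hp
    rw [← hzj] at htp
    have hw : ∀ {w : ι → F} {y : ι} {t : F}, w ∈ Mn z → act z (E y) = t • E y → (t + 1) * w y = 0 :=
      fun {w y t} hw ht => by
      have := hG.dot z hzG w (E y)
      rw [mem_Mn.1 hw, ht, dotProduct_smul, dotProduct_single, dotProduct_single, Pi.neg_apply,
        mul_one, mul_one, smul_eq_mul] at this
      linear_combination -this
    have hneg : ∀ {y : ι} {t : F}, act z (E y) = t • E y → t = -1 → (E y : ι → F) ∈ Mn z :=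
      fun ht e => by rw [mem_Mn, ht, e, neg_one_smul]
    have hn2 : 2 ≤ Fintype.card ι := by omega
    refine ⟨z, hzG, hzu, hzd, ⟨tc, fix_eigen hG hzG htc, htc⟩, b, hbu, hbz, hb0, ?_⟩
    rcases mul_self_eq_one_iff.1 (fix_eigen hG hzG htc) with e | e
    · have hbc : b c = 0 := (mul_eq_zero.1 (hw hbz htc)).resolve_left (by
        rw [e]; norm_num; exact h2)
      have hb0c : b0 c = 0 := (mul_eq_zero.1 (hw hb0z htc)).resolve_left (by
        rw [e]; norm_num; exact h2)
      have hb0p : b0 p ≠ 0 := fun e' => hb00 (funext fun k => by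
        by_cases hkp : k = p
        · rw [hkp, e']; rfl
        by_cases hkc : k = c
        · rw [hkc, hb0c]; rfl
        · exact (Mn_sgn hpc h2).1 hb0s k hkp hkc)
      have hEp := hneg htp (eq_neg_of_add_eq_zero_left ((mul_eq_zero.1 (hw hb0z htp)).resolve_right hb0p))
      obtain ⟨x, y, -, hxy⟩ := plane_supp hG h2 hzG hzm hzsq hzd hbz hEp (by simp [E])
        (fun k => by
          by_cases hkp : k = p
          · exact Or.inl (hkp ▸ hzero b hbu p hp)
          · exact Or.inr (by simp [E, hkp])) hn2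
      exact ⟨x, y, fun k h1 h3 _ => hxy k h1 h3⟩
    · have hEc := hneg htc e
      obtain ⟨x, y, -, hxy⟩ := plane_supp hG h2 hzG hzm hzsq hzd (b := b - b c • E c)
        ((Mn z).sub_mem hbz ((Mn z).smul_mem _ hEc)) hEc (by simp [E])
        (fun k => by
          by_cases hkc : k = c
          · subst hkc; exact Or.inl (by simp [E])
          · exact Or.inr (by simp [E, hkc])) hn2
      exact ⟨x, y, fun k h1 h3 h4 => by simpa [E, h4] using hxy k h1 h3⟩
  -- sparse vectors are proportional
  have uniq : ∀ v w : ι → F, v ∈ Mn u → w ∈ Mn u → v ≠ 0 → ∀ S T : Finset ι, S.card ≤ 3 →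
      T.card ≤ 3 → (∀ k ∉ S, v k = 0) → (∀ k ∉ T, w k = 0) → ∃ r : F, w = r • v := by
    intro v w hv hw hv0 S T hS hT hvS hwT
    by_contra hcon
    push Not at hcon
    have hli : LinearIndependent F ![v, w] :=
      (LinearIndependent.pair_iff' hv0).2 fun r e => hcon r e.symm
    have hspan : Submodule.span F (Set.range ![v, w]) = Mn u := by
      refine Submodule.eq_of_le_of_finrank_le (Submodule.span_le.2 (Set.range_subset_iff.2 ?_)) ?_
      · intro i; fin_cases i
        · exact hv
        · exact hw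
      · rw [finrank_span_eq_card hli]
        simpa using hud
    obtain ⟨i, hi⟩ := exists_fresh 8 (S ∪ T ∪ A) ((Finset.card_union_le _ _).trans
      ((Nat.add_le_add_right (Finset.card_union_le _ _) _).trans (by omega))) (by omega)
    simp only [Finset.mem_union, not_or] at hi
    refine hum i hi.2 (fix_coord hG h2 hu husq fun q hq => ?_)
    rw [← hspan] at hq
    obtain ⟨cf, rfl⟩ := (Submodule.mem_span_range_iff_exists_fun F).1 hq
    simp [Fin.sum_univ_two, hvS i hi.1.1, hwT i hi.1.2]
  obtain ⟨c0, hc0⟩ := exists_fresh 2 A hA2 (by omega)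
  obtain ⟨z0, -, -, -, -, b, hbu, -, hb0, x0, y0, hsup0⟩ := sparse c0 hc0
  obtain ⟨c1, hc1⟩ := exists_fresh 5 (({x0, y0, c0} : Finset ι) ∪ A) ((Finset.card_union_le _ _).trans
    (by have := Finset.card_le_three (a := x0) (b := y0) (c := c0); omega)) (by omega)
  simp only [Finset.mem_union, Finset.mem_insert, Finset.mem_singleton, not_or] at hc1
  obtain ⟨z1, -, -, -, -, b1, hb1u, -, hb10, x1, y1, hsup1⟩ := sparse c1 hc1.2
  have supp : ∀ (v : ι → F) (x y w : ι), (∀ k, k ≠ x → k ≠ y → k ≠ w → v k = 0) →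
      ∀ k ∉ ({x, y, w} : Finset ι), v k = 0 := fun v x y w h k hk => by
    simp only [Finset.mem_insert, Finset.mem_singleton, not_or] at hk
    exact h k hk.1 hk.2.1 hk.2.2
  obtain ⟨r, hr⟩ := uniq b b1 hbu hb1u hb0 _ _ Finset.card_le_three Finset.card_le_three
    (supp _ _ _ _ hsup0) (supp _ _ _ _ hsup1)
  have hr0 : r ≠ 0 := fun e => hb10 (by rw [hr, e, zero_smul])
  have hb2 : ∀ k, k ≠ x1 → k ≠ y1 → b k = 0 := fun k h1 h3 => by
    by_cases hk : k = c1
    · subst hk; exact hsup0 _ hc1.1.1 hc1.1.2.1 hc1.1.2.2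
    have := hsup1 k h1 h3 hk
    rw [hr] at this
    exact (mul_eq_zero.1 this).resolve_left hr0
  obtain ⟨x, hx⟩ : ∃ x, b x ≠ 0 := by
    by_contra h
    push Not at h
    exact hb0 (funext h)
  have hxA : x ∉ A := fun h => hx (hzero b hbu x h)
  obtain ⟨y, hy⟩ : ∃ y, ∀ k, k ≠ x → k ≠ y → b k = 0 := by
    by_cases h : x = x1
    · exact ⟨y1, fun k h1 h3 => hb2 k (h ▸ h1) h3⟩
    · refine ⟨x1, fun k h1 h3 => hb2 k h3 fun e => hx ?_⟩
      exact hb2 x h (e ▸ h1).symm
  obtain ⟨z, hzG, hzu, hzd, ⟨t, ht, htx⟩, b2, hb2u, hb2z, hb20, x2, y2, hsup2⟩ := sparse x hxA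
  obtain ⟨r2, hr2⟩ := uniq b b2 hbu hb2u hb0 {x, y} _ (Finset.card_le_two.trans (by omega))
    Finset.card_le_three (fun k hk => by
      simp only [Finset.mem_insert, Finset.mem_singleton, not_or] at hk
      exact hy k hk.1 hk.2) (supp _ _ _ _ hsup2)
  have hr20 : r2 ≠ 0 := fun e => hb20 (by rw [hr2, e, zero_smul])
  have hbz : b ∈ Mn z := by
    have := (Mn z).smul_mem r2⁻¹ hb2z
    rwa [hr2, smul_smul, inv_mul_cancel₀ hr20, one_smul] at this
  have hby : b y ≠ 0 ∧ y ≠ x := by
    by_contra hcon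
    have hsingle : b = b x • E x := funext fun k => by
      by_cases hk : k = x
      · subst hk; simp [E]
      have : b k = 0 := by
        by_cases hky : k = y
        · subst hky
          by_contra hne
          exact hcon ⟨hne, hk⟩
        · exact hy k hk hky
      simp [E, hk, this]
    refine hm (hnext u hu hufix x hxA (-1) ?_)
    have hEx : (E x : ι → F) ∈ Mn u := by
      have := (Mn u).smul_mem (b x)⁻¹ hbu
      rw [hsingle, smul_smul] at this
      simpa [E, hx] using this
    rw [mem_Mn.1 hEx, neg_one_smul]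
  have htm : t = -1 := by
    have h1 := hG.dot z hzG b (E x)
    rw [mem_Mn.1 hbz, htx, dotProduct_smul, dotProduct_single, dotProduct_single, Pi.neg_apply,
      mul_one, mul_one, smul_eq_mul] at h1
    exact eq_neg_of_add_eq_zero_left ((mul_eq_zero.1
      (show (t + 1) * b x = 0 by linear_combination -h1)).resolve_right hx)
  have hEx : (E x : ι → F) ∈ Mn z := by rw [mem_Mn, htx, htm, neg_one_smul]
  have hEy : (E y : ι → F) ∈ Mn z := by
    have h1 := (Mn z).smul_mem (b y)⁻¹ ((Mn z).sub_mem hbz ((Mn z).smul_mem (b x) hEx))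
    convert h1 using 1
    funext k
    by_cases hky : k = y
    · subst hky; simp [E, hby.2, hby.1]
    by_cases hkx : k = x
    · subst hkx; simp [E, hky]
    simp [E, hky, hkx, hy k hkx hky]
  have hle : Submodule.span F (Set.range ![(E x : ι → F), E y]) = Mn z := by
    refine Submodule.eq_of_le_of_finrank_le (Submodule.span_le.2 (Set.range_subset_iff.2 ?_)) ?_
    · intro i; fin_cases i
      · exact hEx
      · exact hEy
    · rw [finrank_span_eq_card]
      · simpa using hzd
      · refine (LinearIndependent.pair_iff' (by simp [E])).2 fun r e => ?_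
        have := congrFun e y
        simp [E, hby.2] at this
  have hux : act u (E x) ∈ Mn z := by
    rw [mem_Mn, ← act_mul', hzu, act_mul', mem_Mn.1 hEx, act, mulVec_neg]
  refine hm (mon_of_sparse hG h2 hn ⟨p, hp⟩ hA2 hN hnext hu hufix hxA (O := ({x, y} : Finset ι)ᶜ) ?_ ?_)
  · rw [Finset.card_compl]
    have := Finset.card_le_two (a := x) (b := y)
    omega
  · intro o ho
    simp only [Finset.mem_compl, Finset.mem_insert, Finset.mem_singleton, not_or] at ho
    rw [← hle] at hux
    obtain ⟨cf, hcf⟩ := (Submodule.mem_span_range_iff_exists_fun F).1 hux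
    rw [← hcf]
    simp [Fin.sum_univ_two, E, ho.1, ho.2]

/-- Elements fixing the lines of `A` are monomial if those fixing one more line are. -/
theorem mon_step : ∀ g ∈ G, FixesLines A g → Mon g := by
  classical
  intro g hg hgA
  obtain ⟨f0, hf0⟩ := exists_four (ι := {x : ι // x ∉ A}) (by
    rw [Fintype.card_subtype_compl, Fintype.card_coe]; omega)
  obtain ⟨f, hfdef⟩ : ∃ f : Fin 4 → ι, f = fun i => (f0 i : ι) := ⟨_, rfl⟩
  have hf : Function.Injective f := by rw [hfdef]; exact Subtype.val_injective.comp hf0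
  have hfA : ∀ i, f i ∉ A := fun i => by rw [hfdef]; exact (f0 i).2
  have hne : ∀ i j : Fin 4, i ≠ j → f i ≠ f j := fun i j h e => h (hf e)
  set π := Equiv.swap (f 0) (f 1) * Equiv.swap (f 2) (f 3) with hπ
  have hπs : Equiv.Perm.sign π = 1 := by
    rw [hπ, Equiv.Perm.sign_mul, Equiv.Perm.sign_swap (hne 0 1 (by decide)),
      Equiv.Perm.sign_swap (hne 2 3 (by decide))]
    simp
  have hπ0 : π (f 0) = f 1 := by
    rw [hπ, Equiv.Perm.mul_apply, Equiv.swap_apply_of_ne_of_ne (hne 0 2 (by decide))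
      (hne 0 3 (by decide)), Equiv.swap_apply_left]
  have hπ1 : π (f 1) = f 0 := by
    rw [hπ, Equiv.Perm.mul_apply, Equiv.swap_apply_of_ne_of_ne (hne 1 2 (by decide))
      (hne 1 3 (by decide)), Equiv.swap_apply_right]
  have hππ : π * π = 1 := by
    rw [hπ, (Equiv.Perm.Disjoint.commute (?_ : (Equiv.swap (f 0) (f 1)).Disjoint
      (Equiv.swap (f 2) (f 3)))).symm.mul_mul_mul_comm, Equiv.swap_mul_self, Equiv.swap_mul_self, one_mul]
    intro x
    by_cases h : x = f 0 ∨ x = f 1
    · right
      rcases h with rfl | rfl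
      · exact Equiv.swap_apply_of_ne_of_ne (hne 0 2 (by decide)) (hne 0 3 (by decide))
      · exact Equiv.swap_apply_of_ne_of_ne (hne 1 2 (by decide)) (hne 1 3 (by decide))
    · push Not at h
      exact Or.inl (Equiv.swap_apply_of_ne_of_ne h.1 h.2)
  set T1 : GL ι F := mon π 1 with hT1
  set S : GL ι F := sgn (f 0) (f 1) with hS
  set T2 : GL ι F := T1 * S with hT2
  have hT1G : T1 ∈ G := hG.alt π hπs
  have hSG : S ∈ G := hG.sgn _ _ (hne 0 1 (by decide))
  have hT1sq : T1 * T1 = 1 := gl_ext_mulVec fun v => funext fun i => by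
    obtain ⟨j, rfl⟩ := π.surjective i
    rw [gl_mulVec_mul, Units.val_one, one_mulVec, hT1, mon_mulVec, mon_mulVec, Equiv.symm_apply_apply]
    simp only [Pi.one_apply, Units.val_one, one_mul]
    congr 1
    rw [Equiv.symm_apply_eq, ← Equiv.Perm.mul_apply, hππ, Equiv.Perm.one_apply]
  have hT1det : Matrix.det (T1 : Matrix ι ι F) = 1 := by
    rw [hT1, det_mon, hπs]; simp
  -- both involutions
  have gen : ∀ (T : GL ι F) (r : F), T ∈ G → T * T = 1 → Matrix.det (T : Matrix ι ι F) = 1 →
      (∀ v i, act T v i = (if i = f 0 ∨ i = f 1 then r * v (π i) else v (π i))) →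
      r ≠ 0 → Mon (g * T * g⁻¹) := by
    intro T r hT hTsq hTdet hTv hr
    have hπo : ∀ i, i ≠ f 0 → i ≠ f 1 → i ≠ f 2 → i ≠ f 3 → π i = i := fun i h0 h1 h3 h4 => by
      rw [hπ, Equiv.Perm.mul_apply, Equiv.swap_apply_of_ne_of_ne h3 h4,
        Equiv.swap_apply_of_ne_of_ne h0 h1]
    have hMn : ∀ v ∈ Mn T, v = v (f 1) • (E (f 1) - r • E (f 0)) + v (f 2) • (E (f 2) - E (f 3)) := by
      intro v hv
      have h := fun i => congrFun (mem_Mn.1 hv) i
      simp only [hTv, Pi.neg_apply] at h
      funext i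
      by_cases h0 : i = f 0
      · subst h0
        have := h (f 0)
        rw [if_pos (Or.inl rfl), hπ0] at this
        simp [E, hne 0 1 (by decide), hne 0 2 (by decide), hne 0 3 (by decide)]
        linear_combination this
      by_cases h1 : i = f 1
      · subst h1
        simp [E, h0, hne 1 2 (by decide), hne 1 3 (by decide)]
      by_cases h3 : i = f 2
      · subst h3
        simp [E, h0, h1, hne 2 3 (by decide)]
      by_cases h4 : i = f 3
      · subst h4
        have := h (f 3)
        rw [if_neg (by simp [h0, h1]), hπ, Equiv.Perm.mul_apply, Equiv.swap_apply_right,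
          Equiv.swap_apply_of_ne_of_ne (hne 2 0 (by decide)) (hne 2 1 (by decide))] at this
        simp [E, h0, h1, h3]
        linear_combination this
      have := h i
      rw [if_neg (by simp [h0, h1]), hπo i h0 h1 h3 h4] at this
      simp [E, h0, h1, h3, h4]
      exact (mul_eq_zero.1 (show (2 : F) * v i = 0 by linear_combination this)).resolve_left h2
    have hTd : finrank F (Mn T) ≤ 2 := by
      have hle : Mn T ≤ Submodule.span F
          (Set.range ![E (f 1) - r • E (f 0), E (f 2) - E (f 3)]) := fun v hv => by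
        rw [hMn v hv]
        exact add_mem (Submodule.smul_mem _ _ (Submodule.subset_span ⟨0, rfl⟩))
          (Submodule.smul_mem _ _ (Submodule.subset_span ⟨1, rfl⟩))
      exact (Submodule.finrank_mono hle).trans ((finrank_range_le_card _).trans (by simp))
    have hTA : ∀ y ∈ A, act T (E y) = E y := fun y hy => funext fun i => by
      have hyf : ∀ k, y ≠ f k := fun k e => hfA k (e ▸ hy)
      have hπy : π y = y := hπo y (hyf 0) (hyf 1) (hyf 2) (hyf 3)
      have hπi : π i = y ↔ i = y := by conv_lhs => rw [← hπy, π.apply_eq_iff_eq]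
      rw [hTv]
      by_cases hiy : i = y
      · subst hiy
        rw [if_neg (by simp [hyf 0, hyf 1]), hπy]
      · have h1 : π i ≠ y := mt hπi.1 hiy
        split_ifs <;> simp [E, h1, hiy]
    refine mon_of_plane' hG h2 hn hA hA2 hN hnext (G.mul_mem (G.mul_mem hg hT) (G.inv_mem hg))
      (by rw [show g * T * g⁻¹ * (g * T * g⁻¹) = g * (T * T) * g⁻¹ by group, hTsq]; group)
      (by rw [Units.val_mul, Units.val_mul, Matrix.det_units_conj, hTdet])
      (by rw [finrank_Mn_conj]; exact hTd) (fun y hy => ?_) ?_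
    · obtain ⟨c, hc⟩ := hgA y hy
      have hcc := fix_eigen hG hg hc
      have hgi : act g⁻¹ (E y) = c • E y := gl_mulVec_injective g (by
        simp only [act, gl_mulVec_inv_mulVec, mulVec_smul]
        rw [← act, hc, smul_smul, hcc, one_smul])
      rw [act_mul', act_mul', hgi]
      simp only [act, mulVec_smul]
      rw [← act, ← act, hTA y hy, hc, smul_smul, hcc, one_smul]
    intro h hh hhA a b hab e
    set k := (h * g)⁻¹ with hk
    have hkG : k ∈ G := G.inv_mem (G.mul_mem hh hg)
    have hTk : T = k * sgn a b * k⁻¹ := by rw [← e, hk]; group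
    have hka : act k (E a) ∈ Mn T := by
      rw [hTk, mem_Mn, act, gl_mulVec_mul, gl_mulVec_mul, act, gl_inv_mulVec_mulVec]
      change act k (act (sgn a b) (E a)) = _
      rw [show act (sgn a b) (E a) = -E a from mem_Mn.1 ((Mn_sgn hab h2).2 fun i hi _ => by
        simp [E, hi]), act, mulVec_neg]
    have hkm : Mon k := by
      have haA : a ∉ A := fun haA => by
        obtain ⟨c, hc⟩ := (hhA.mul hgA).inv a haA
        have hka' := hMn _ hka
        rw [← hk] at hc
        rw [hc] at hka'
        have e1 := congrFun hka' a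
        simp [E, fun i => show a ≠ f i from fun e' => hfA i (e' ▸ haA)] at e1
        rw [e1] at hc
        have := fix_eigen hG hkG hc
        simp at this
      refine mon_of_sparse hG h2 hn hA hA2 hN hnext hkG (hk ▸ (hhA.mul hgA).inv) haA
        (O := ({f 0, f 1, f 2, f 3} : Finset ι)ᶜ) ?_ ?_
      · have := Finset.card_le_four (a := f 0) (b := f 1) (c := f 2) (d := f 3)
        rw [Finset.card_compl]
        omega
      · intro i hi
        simp only [Finset.mem_compl, Finset.mem_insert, Finset.mem_singleton, not_or] at hi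
        rw [hMn _ hka]
        simp [E, hi]
    obtain ⟨σ, d, hkd⟩ := exists_mon_of_Mon hkm
    have h5 : act T (E (f 1)) (f 0) = r := by
      rw [hTv, if_pos (Or.inl rfl), hπ0]; simp [E]
    obtain ⟨y, hy⟩ := σ.surjective (f 1)
    have h6 : act T (E (f 1)) (f 0) = 0 := by
      rw [hTk, hkd]
      have e1 : ((mon σ d)⁻¹ : GL ι F).1 *ᵥ (E (f 1) : ι → F) = Pi.single y ((d y : F))⁻¹ := by
        refine gl_mulVec_injective (mon σ d) ?_
        simp only [gl_mulVec_inv_mulVec, mon_mulVec_single, hy]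
        rw [mul_inv_cancel₀ (d y).ne_zero]
      rw [act, gl_mulVec_mul, gl_mulVec_mul, e1]
      unfold OmL.sgn
      rw [mon_mulVec_single, Equiv.Perm.one_apply, mon_mulVec_single, hy,
        Pi.single_eq_of_ne (hne 0 1 (by decide))]
    exact hr (h5.symm.trans h6)
  have hm1 : Mon (g * T1 * g⁻¹) := gen T1 1 hT1G hT1sq hT1det (fun v i => by
    rw [act, hT1, mon_mulVec]
    simp only [Pi.one_apply, Units.val_one, one_mul, ite_self]
    congr 1
    rw [Equiv.symm_apply_eq, ← Equiv.Perm.mul_apply, hππ, Equiv.Perm.one_apply]) one_ne_zero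
  have hT2v : ∀ v i, act T2 v i = if i = f 0 ∨ i = f 1 then (-1 : F) * v (π i) else v (π i) := by
    intro v i
    rw [hT2, act, gl_mulVec_mul, hT1, mon_mulVec]
    simp only [Pi.one_apply, Units.val_one, one_mul]
    rw [show π.symm i = π i by rw [Equiv.symm_apply_eq, ← Equiv.Perm.mul_apply, hππ, Equiv.Perm.one_apply]]
    change act S v (π i) = _
    rw [hS, sgn_apply (hne 0 1 (by decide))]
    have hiff : (π i = f 0 ∨ π i = f 1) ↔ (i = f 0 ∨ i = f 1) := by
      rw [show (π i = f 0) ↔ (i = f 1) from by rw [← hπ1, π.apply_eq_iff_eq],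
        show (π i = f 1) ↔ (i = f 0) from by rw [← hπ0, π.apply_eq_iff_eq], or_comm]
    by_cases h : i = f 0 ∨ i = f 1
    · rw [if_pos h, if_pos (hiff.2 h)]; ring
    · rw [if_neg h, if_neg (mt hiff.1 h)]
  have hT2sq : T2 * T2 = 1 := gl_ext_mulVec fun v => funext fun i => by
    rw [gl_mulVec_mul, Units.val_one, one_mulVec]
    change act T2 (act T2 v) i = v i
    rw [hT2v, hT2v]
    have hi : π (π i) = i := by rw [← Equiv.Perm.mul_apply, hππ, Equiv.Perm.one_apply]
    have hiff : (π i = f 0 ∨ π i = f 1) ↔ (i = f 0 ∨ i = f 1) := by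
      rw [show (π i = f 0) ↔ (i = f 1) from by rw [← hπ1, π.apply_eq_iff_eq],
        show (π i = f 1) ↔ (i = f 0) from by rw [← hπ0, π.apply_eq_iff_eq], or_comm]
    rw [hi]
    by_cases h : i = f 0 ∨ i = f 1
    · rw [if_pos h, if_pos (hiff.2 h)]; ring
    · rw [if_neg h, if_neg (mt hiff.1 h)]
  have hm2 : Mon (g * T2 * g⁻¹) := gen T2 (-1) (G.mul_mem hT1G hSG) hT2sq (by
    rw [hT2, Units.val_mul, Matrix.det_mul, hT1det, hS, det_sgn (hne 0 1 (by decide)), mul_one])
    hT2v (neg_ne_zero.2 one_ne_zero)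
  have hmS : Mon (g * S * g⁻¹) := by
    have := Mon_mul hm1 hm2
    rwa [show g * T1 * g⁻¹ * (g * T2 * g⁻¹) = g * (T1 * T1) * S * g⁻¹ by rw [hT2]; group, hT1sq,
      mul_one] at this
  have h01 := hne 0 1 (by decide)
  obtain ⟨S', hS', hS'v⟩ := moved_bound hG h2 (G.mul_mem (G.mul_mem hg hSG) (G.inv_mem hg))
    hmS (by rw [show g * S * g⁻¹ * (g * S * g⁻¹) = g * (S * S) * g⁻¹ by group,
      hS, sgn_mul_self h01]; group)
  have hS'4 : S'.card ≤ 4 := hS'.trans (by
    rw [finrank_Mn_conj, hS]; have := finrank_Mn_sgn (F := F) h2 h01; omega)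
  refine mon_of_sparse hG h2 hn hA hA2 hN hnext hg hgA (hfA 0) (O := S'ᶜ) (by
    rw [Finset.card_compl]; omega) fun o ho => hS'v _ ?_ o (Finset.mem_compl.1 ho)
  rw [mem_Mn, act, gl_mulVec_mul, gl_mulVec_mul, act, gl_inv_mulVec_mulVec]
  change act g (act S (E (f 0))) = _
  rw [hS, show act (sgn (f 0) (f 1)) (E (f 0)) = -E (f 0) from mem_Mn.1 ((Mn_sgn h01 h2).2
    fun i hi _ => by simp [E, hi]), act, mulVec_neg]

end Step

end Group

/-- A non-monomial element gives one fixing a coordinate line with a sparse column off the lines. -/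
theorem exists_col [Fintype F] {G : Subgroup (GL ι F)} (hG : Hyp G) (h2 : (2 : F) ≠ 0)
    (hn : 9 ≤ Fintype.card ι) (h : ∃ g ∈ G, ¬ Mon g) :
    ∃ g ∈ G, ∃ (a : ι) (t : F) (j : ι) (O : Finset ι), act g (E a) = t • E a ∧ 3 ≤ O.card ∧
      (∀ o ∈ O, act g (E j) o = 0) ∧ ∀ q, ∃ y, y ≠ q ∧ act g (E j) y ≠ 0 := by
  classical
  by_contra hcon
  push Not at hcon
  have hN : NoSparse G := fun g hg a t ht j O hO hz => hcon g hg a t j O ht hO hz
  have h3 : ∀ (a b c : ι), a ≠ b → a ≠ c → b ≠ c → ∀ g ∈ G, FixesLines {a, b, c} g → Mon g := by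
    intro a b c hab hac hbc g hg hgA
    refine Mon_of_cols fun j => ?_
    by_cases hj : j ∈ ({a, b, c} : Finset ι)
    · obtain ⟨t, ht⟩ := hgA j hj
      exact ⟨j, fun y hy => by rw [ht]; simp [E, hy]⟩
    obtain ⟨t, ht⟩ := hgA a (by simp)
    refine hN g hg a t ht j {a, b, c} (le_of_eq ?_) fun o ho => ?_
    · rw [Finset.card_insert_of_notMem (by simp [hab, hac]), Finset.card_pair hbc]
    · obtain ⟨s, hs⟩ := hgA o ho
      exact zero_at hG hg hs fun e => hj (e ▸ ho)
  have h4 : ∀ (a b : ι), a ≠ b → ∀ g ∈ G, FixesLines {a, b} g → Mon g := fun a b hab =>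
    mon_step hG h2 hn (Finset.insert_nonempty _ _) Finset.card_le_two hN fun g hg hgA c hc t ht => by
      simp only [Finset.mem_insert, Finset.mem_singleton, not_or] at hc
      refine h3 a b c hab (Ne.symm hc.1) (Ne.symm hc.2) g hg fun y hy => ?_
      simp only [Finset.mem_insert, Finset.mem_singleton] at hy
      rcases hy with rfl | rfl | rfl
      exacts [hgA y (by simp), hgA y (by simp), ⟨t, ht⟩]
  have h5 : FixedMon G := fun g hg a t ht =>
    mon_step hG h2 hn (A := {a}) (Finset.singleton_nonempty _) (by simp) hN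
      (fun g' hg' hgA c hc s hs => by
        simp only [Finset.mem_singleton] at hc
        refine h4 a c (Ne.symm hc) g' hg' fun y hy => ?_
        simp only [Finset.mem_insert, Finset.mem_singleton] at hy
        rcases hy with rfl | rfl
        exacts [hgA y (by simp), ⟨s, hs⟩])
      g hg fun y hy => by rw [Finset.mem_singleton.1 hy]; exact ⟨t, ht⟩
  obtain ⟨g, hg, hgm⟩ := h
  exact hgm (all_mon hG h2 hn h5 g hg)

end CfsgLib.ClassicalMax.OmL
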