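/-
Overgroups of the monomial group in `Ω` of a sum of squares over a prime field: a non-monomial element
gives a Siegel element with few moved coordinates, and then everything.
-/
import Cfsg.Agent.Lib.ClassicalMax.OrthMonCol
import Cfsg.Agent.Lib.ClassicalMax.OrthMonAxes
import Cfsg.Agent.Lib.ClassicalMax.OrthDecompTools
import Cfsg.Agent.Lib.ClassicalMax.OrthRoot
import Cfsg.Agent.Lib.ClassicalMax.MonMax
set_option autoImplicit false
set_option linter.unusedSectionVars false

namespace CfsgLib.ClassicalMax.OmL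

open Matrix Cfsg.Geo Module
open CfsgLib.ClassicalMax.MonG
open CfsgLib.ClassicalMax.OmD (rr rr_mulVec rr_mul_self rr_conj rr_smul pair_mem binary_value)
open CfsgLib.ClassicalMax.OmS (IsSg SS omega_le_of_pair omega_polar)
open CfsgLib.Classical.Quad (NDPolar Frame)

variable {ι : Type} [Fintype ι] [DecidableEq ι] {F : Type*} [Field F]

/-- The sum of squares. -/
noncomputable def Q0 : QuadraticForm F (ι → F) := QuadraticMap.weightedSumSquares F (1 : ι → F)

lemma Q0_apply (x : ι → F) : (Q0 : QuadraticForm F (ι → F)) x = x ⬝ᵥ x := by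
  simp [Q0, QuadraticMap.weightedSumSquares_apply, dotProduct]

lemma polar_Q0 (x y : ι → F) : QuadraticMap.polar (⇑(Q0 : QuadraticForm F (ι → F))) x y = 2 * (x ⬝ᵥ y) := by
  simp only [QuadraticMap.polar, Q0_apply, add_dotProduct, dotProduct_add, dotProduct_comm y x]
  ring

lemma Q0_E (a : ι) : (Q0 : QuadraticForm F (ι → F)) (E a) = 1 := by rw [Q0_apply, norm_E]

lemma sgn_fix {i j : ι} (hij : i ≠ j) {v : ι → F} (hi : v i = 0) (hj : v j = 0) :
    act (sgn i j) v = v := funext fun k => by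
  rw [sgn_apply hij]
  split_ifs with h
  · rcases h with rfl | rfl
    · rw [hi, neg_zero]
    · rw [hj, neg_zero]
  · rfl

lemma sgn_E_neg {i j : ι} (hij : i ≠ j) {l : ι} (h : l = i ∨ l = j) :
    act (sgn i j) (E l : ι → F) = -E l := funext fun k => by
  rw [sgn_apply hij, Pi.neg_apply]
  split_ifs with hk
  · rfl
  · rw [E, Pi.single_eq_of_ne (fun e => hk (by rw [e]; exact h)), neg_zero]

lemma perm_apply (σ : Equiv.Perm ι) (v : ι → F) (k : ι) : act (mon σ 1) v k = v (σ.symm k) := by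
  rw [act, mon_mulVec]; simp

lemma perm_E (σ : Equiv.Perm ι) (l : ι) : act (mon σ 1) (E l : ι → F) = E (σ l) := by
  rw [act, E, mon_mulVec_single]; simp [E]

lemma cycle_fix {a b c : ι} {v : ι → F} (ha : v a = 0) (hb : v b = 0) (hc : v c = 0) :
    act (mon (Equiv.swap a b * Equiv.swap b c) 1) v = v := funext fun k => by
  rw [perm_apply]
  obtain ⟨l, rfl⟩ := (Equiv.swap a b * Equiv.swap b c).surjective k
  rw [Equiv.symm_apply_apply, Equiv.Perm.mul_apply]
  by_cases h1 : l = b
  · subst h1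
    rw [Equiv.swap_apply_left]
    by_cases h : c = a
    · rw [h, Equiv.swap_apply_left]
    by_cases h' : c = l
    · rw [h', Equiv.swap_apply_right, ha, hb]
    · rw [Equiv.swap_apply_of_ne_of_ne h h', hb, hc]
  by_cases h2 : l = c
  · subst h2; rw [Equiv.swap_apply_right, Equiv.swap_apply_right, ha, hc]
  rw [Equiv.swap_apply_of_ne_of_ne h1 h2]
  by_cases h3 : l = a
  · subst h3; rw [Equiv.swap_apply_left, hb, ha]
  · rw [Equiv.swap_apply_of_ne_of_ne h3 h1]

/-- The standing hypotheses. -/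
structure Setup (M : Subgroup (GL ι F)) : Prop where
  nd : IsNondegenerateQuadraticForm ⇑(Q0 : QuadraticForm F (ι → F))
  ndp : NDPolar (Q0 : QuadraticForm F (ι → F))
  le : M ≤ omegaGL ⇑(Q0 : QuadraticForm F (ι → F))
  mon_mem : ∀ g ∈ omegaGL ⇑(Q0 : QuadraticForm F (ι → F)), Mon g → g ∈ M
  prime : ∀ x : F, ∃ k : ℕ, x = (k : F)
  two : (2 : F) ≠ 0
  big : 7 ≤ Fintype.card ι

variable [Fintype F] {M : Subgroup (GL ι F)} (S : Setup M)

include S

/-- The reflection in a vector. -/
lemma rr_act {x : ι → F} (hx : x ⬝ᵥ x ≠ 0) (v : ι → F) :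
    act (rr S.nd x) v = v - (2 * (v ⬝ᵥ x) / (x ⬝ᵥ x)) • x := by
  rw [act, rr_mulVec S.nd (by rwa [Q0_apply]), polar_Q0, Q0_apply]

lemma rr_act_unit {x : ι → F} (hx : x ⬝ᵥ x = 1) (v : ι → F) :
    act (rr S.nd x) v = v - (2 * (v ⬝ᵥ x)) • x := by
  rw [rr_act S (by rw [hx]; exact one_ne_zero), hx, div_one]

lemma M_dot {g : GL ι F} (hg : g ∈ M) (x y : ι → F) : act g x ⬝ᵥ act g y = x ⬝ᵥ y := by
  have h := omega_polar (Q := (Q0 : QuadraticForm F (ι → F))) (S.le hg) x y
  rw [polar_Q0, polar_Q0] at h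
  exact mul_left_cancel₀ S.two h

lemma pair_omega {a b : ι → F} (ha : a ⬝ᵥ a ≠ 0) (hb : b ⬝ᵥ b ≠ 0)
    (hsq : IsSquare ((a ⬝ᵥ a) * (b ⬝ᵥ b))) :
    rr S.nd a * rr S.nd b ∈ omegaGL ⇑(Q0 : QuadraticForm F (ι → F)) :=
  pair_mem S.nd S.ndp (by have := S.big; omega) (by rwa [Q0_apply]) (by rwa [Q0_apply])
    (by rwa [Q0_apply, Q0_apply])

lemma rr_Mon_E (a : ι) : Mon (rr S.nd (E a : ι → F)) := Mon_of_cols fun b => ⟨b, fun y hy => by
  rw [rr_act_unit S (norm_E a)]
  by_cases hba : b = a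
  · subst hba; simp [E, hy]
  · simp [E, hy, Pi.single_eq_of_ne hba, Ne.symm hba]⟩

lemma rr_swap {a b : ι} (hab : a ≠ b) :
    rr S.nd (E a - E b : ι → F) = mon (Equiv.swap a b) 1 := by
  refine gl_ext_mulVec fun v => funext fun k => ?_
  have hn : (E a - E b : ι → F) ⬝ᵥ (E a - E b) = 2 := by
    simp [E, dotProduct_sub, hab, hab.symm]; ring
  change act (rr S.nd _) v k = act (mon _ 1) v k
  rw [rr_act S (by rw [hn]; exact S.two), hn, perm_apply, Equiv.symm_swap]
  have : 2 * (v ⬝ᵥ (E a - E b)) / 2 = v a - v b := by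
    rw [mul_div_assoc, mul_comm, div_mul_cancel₀ _ S.two]
    simp [E, dotProduct_sub]
  rw [this]
  by_cases h1 : k = a
  · subst h1; simp [E, hab]
  by_cases h2 : k = b
  · subst h2; simp [E, h1]
  simp [E, h1, h2, Equiv.swap_apply_of_ne_of_ne h1 h2]

lemma sgn_eq {i j : ι} (hij : i ≠ j) : rr S.nd (E i : ι → F) * rr S.nd (E j) = sgn i j := by
  refine gl_ext_mulVec fun v => funext fun k => ?_
  rw [gl_mulVec_mul]
  change act (rr S.nd (E i)) (act (rr S.nd (E j)) v) k = act (sgn i j) v k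
  rw [rr_act_unit S (norm_E i), rr_act_unit S (norm_E j), sgn_apply hij]
  by_cases h1 : k = i
  · subst h1; simp [E, hij]; ring
  by_cases h2 : k = j
  · subst h2; simp [E, h1]; ring
  simp [E, h1, h2]

lemma sgn_mem {i j : ι} (hij : i ≠ j) : sgn i j ∈ M := by
  refine S.mon_mem _ ?_ (mon_Mon _ _)
  rw [← sgn_eq S hij]
  refine pair_omega S (by rw [norm_E]; exact one_ne_zero) (by rw [norm_E]; exact one_ne_zero) ?_
  rw [norm_E, norm_E, one_mul]
  exact IsSquare.one

lemma alt_mem {σ : Equiv.Perm ι} (hσ : Equiv.Perm.sign σ = 1) : mon σ 1 ∈ M := by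
  refine S.mon_mem _ ?_ (mon_Mon _ _)
  have hmul : ∀ s t : Equiv.Perm ι, (mon (s * t) 1 : GL ι F) = mon s 1 * mon t 1 := fun s t =>
    gl_ext_mulVec fun v => funext fun k => by
      obtain ⟨l, rfl⟩ := (s * t).surjective k
      rw [gl_mulVec_mul, mon_mulVec, Equiv.symm_apply_apply, Equiv.Perm.mul_apply, mon_mulVec,
        Equiv.symm_apply_apply, mon_mulVec, Equiv.symm_apply_apply]
      simp
  have hone : (mon (1 : Equiv.Perm ι) 1 : GL ι F) = 1 := gl_ext_mulVec fun v => funext fun k => by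
    rw [mon_mulVec, Units.val_one, one_mulVec]; simp [Equiv.Perm.one_def]
  have hswap2 : ∀ a b : ι, a ≠ b → ∀ c e : ι, c ≠ e →
      (mon (Equiv.swap a b) 1 * mon (Equiv.swap c e) 1 : GL ι F) ∈ omegaGL ⇑(Q0 : QuadraticForm F (ι → F)) := by
    intro a b hab c e hce
    have n2 : ∀ {x y : ι}, x ≠ y → (E x - E y : ι → F) ⬝ᵥ (E x - E y) = 2 := fun h => by
      simp [E, dotProduct_sub, h, h.symm]; ring
    rw [← rr_swap S hab, ← rr_swap S hce]
    exact pair_omega S (by rw [n2 hab]; exact S.two) (by rw [n2 hce]; exact S.two)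
      (by rw [n2 hab, n2 hce]; exact ⟨2, rfl⟩)
  obtain ⟨a0, b0, hab0⟩ := Fintype.exists_pair_of_one_lt_card (α := ι) (by have := S.big; omega)
  have key : ∀ σ : Equiv.Perm ι,
      (Equiv.Perm.sign σ = 1 → (mon σ 1 : GL ι F) ∈ omegaGL ⇑(Q0 : QuadraticForm F (ι → F))) ∧
      (Equiv.Perm.sign σ = -1 → ∀ a b : ι, a ≠ b →
        (mon (Equiv.swap a b) 1 * mon σ 1 : GL ι F) ∈ omegaGL ⇑(Q0 : QuadraticForm F (ι → F))) := by
    intro σ
    induction σ using Equiv.Perm.swap_induction_on with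
    | one =>
      refine ⟨fun _ => by rw [hone]; exact one_mem _, fun h => ?_⟩
      rw [map_one] at h
      exact absurd h (by decide)
    | swap_mul f x y hxy ih =>
      refine ⟨fun h => ?_, fun h a b hab => ?_⟩
      · rw [Equiv.Perm.sign_mul, Equiv.Perm.sign_swap hxy] at h
        rcases Int.units_eq_one_or (Equiv.Perm.sign f) with e | e
        · rw [e] at h; exact absurd h (by decide)
        · rw [hmul]; exact ih.2 e x y hxy
      · rw [Equiv.Perm.sign_mul, Equiv.Perm.sign_swap hxy] at h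
        rcases Int.units_eq_one_or (Equiv.Perm.sign f) with e | e
        · rw [hmul, ← mul_assoc]
          exact mul_mem (hswap2 a b hab x y hxy) (ih.1 e)
        · rw [e] at h; exact absurd h (by decide)
  exact (key σ).1 hσ

lemma hyp : Hyp M := ⟨fun g hg => M_dot S hg, fun _ _ h => sgn_mem S h, fun _ h => alt_mem S h⟩

lemma cycle_mem {a b c : ι} (hab : a ≠ b) (hbc : b ≠ c) :
    mon (Equiv.swap a b * Equiv.swap b c) 1 ∈ M := alt_mem S (sign_cycle hab hbc)

/-! ### Root groups -/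

omit S in
/-- The directions of the Siegel elements at `u` lying in `M`. -/
def RG (M : Subgroup (GL ι F)) (u : ι → F) : Set (ι → F) :=
  {x | u ⬝ᵥ x = 0 ∧ ∃ h ∈ M, IsSg (Q0 : QuadraticForm F (ι → F)) h u x}

omit S in
lemma IsSg_act {h : GL ι F} {u x : ι → F} (hh : IsSg (Q0 : QuadraticForm F (ι → F)) h u x)
    (v : ι → F) :
    act h v = v + (2 * (v ⬝ᵥ u)) • x + (-(2 * (v ⬝ᵥ x)) - (x ⬝ᵥ x) * (2 * (v ⬝ᵥ u))) • u := by
  rw [act, hh v, polar_Q0, polar_Q0, Q0_apply]

omit S in
lemma isSg_of_act {h : GL ι F} {u x : ι → F} (hh : ∀ v, act h v =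
    v + (2 * (v ⬝ᵥ u)) • x + (-(2 * (v ⬝ᵥ x)) - (x ⬝ᵥ x) * (2 * (v ⬝ᵥ u))) • u) :
    IsSg (Q0 : QuadraticForm F (ι → F)) h u x := fun v => by
  have := hh v
  rw [act] at this
  rw [this, polar_Q0, polar_Q0, Q0_apply]

omit S in
lemma RG_zero (u : ι → F) : (0 : ι → F) ∈ RG M u :=
  ⟨dotProduct_zero u, 1, one_mem M, isSg_of_act fun v => by simp [act]⟩

omit S in
lemma RG_self {u : ι → F} (hu : u ⬝ᵥ u = 0) (c : F) : c • u ∈ RG M u :=
  ⟨by rw [dotProduct_smul, hu, smul_zero], 1, one_mem M, isSg_of_act fun v => by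
    simp only [act, Units.val_one, one_mulVec, dotProduct_smul, smul_dotProduct, hu, smul_eq_mul,
      mul_zero]
    module⟩

omit S in
lemma RG_add {u : ι → F} (hu : u ⬝ᵥ u = 0) {x y : ι → F} (hx : x ∈ RG M u) (hy : y ∈ RG M u) :
    x + y ∈ RG M u := by
  obtain ⟨hxu, g, hg, hgx⟩ := hx
  obtain ⟨hyu, h, hh, hhy⟩ := hy
  refine ⟨by rw [dotProduct_add, hxu, hyu, add_zero], g * h, M.mul_mem hg hh, isSg_of_act fun v => ?_⟩
  rw [act, gl_mulVec_mul]
  change act g (act h v) = _
  rw [IsSg_act hhy, IsSg_act hgx]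
  simp only [add_dotProduct, dotProduct_add, smul_dotProduct, smul_eq_mul, dotProduct_comm u x, hu]
  have e1 : x ⬝ᵥ u = 0 := by rw [dotProduct_comm, hxu]
  have e2 : y ⬝ᵥ u = 0 := by rw [dotProduct_comm, hyu]
  have e3 : u ⬝ᵥ x = 0 := hxu
  rw [e1, e2, dotProduct_comm y x]
  match_scalars <;> ring

lemma RG_smul {u : ι → F} (hu : u ⬝ᵥ u = 0) {x : ι → F} (hx : x ∈ RG M u) (c : F) :
    c • x ∈ RG M u := by
  obtain ⟨k, rfl⟩ := S.prime c
  induction k with
  | zero => rw [Nat.cast_zero, zero_smul]; exact RG_zero u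
  | succ k ih => rw [Nat.cast_succ, add_smul, one_smul]; exact RG_add hu ih hx

lemma RG_conj {g : GL ι F} (hg : g ∈ M) {u x : ι → F} (hx : x ∈ RG M u) :
    act g x ∈ RG M (act g u) := by
  obtain ⟨hxu, h, hh, hhx⟩ := hx
  refine ⟨by rw [M_dot S hg, hxu], g * h * g⁻¹, M.mul_mem (M.mul_mem hg hh) (M.inv_mem hg),
    isSg_of_act fun v => ?_⟩
  obtain ⟨w, rfl⟩ : ∃ w, act g w = v := ⟨_, gl_mulVec_inv_mulVec g v⟩
  rw [act, gl_mulVec_mul, gl_mulVec_mul, act, gl_inv_mulVec_mulVec]
  change act g (act h w) = _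
  rw [IsSg_act hhx, M_dot S hg, M_dot S hg, M_dot S hg]
  simp only [act, mulVec_add, mulVec_smul]

lemma RG_smul_base {u x : ι → F} {c : F} (hc : c ≠ 0) (hx : x ∈ RG M u) :
    c⁻¹ • x ∈ RG M (c • u) := by
  obtain ⟨hxu, h, hh, hhx⟩ := hx
  refine ⟨by rw [smul_dotProduct, dotProduct_smul, hxu, smul_zero, smul_zero], h, hh,
    isSg_of_act fun v => ?_⟩
  rw [IsSg_act hhx]
  simp only [dotProduct_smul, smul_dotProduct, smul_eq_mul]
  match_scalars
  · rfl
  · field_simp
  · field_simp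

/-! ### From one short root element to everything -/

/-- A singular vector with a coordinate direction and four coordinates outside its support. -/
lemma omega_of_coord {r : ι → F} (hr0 : r ⬝ᵥ r = 0) (hrne : r ≠ 0) {i z z' z'' : ι}
    (hd : i ≠ z ∧ i ≠ z' ∧ i ≠ z'' ∧ z ≠ z' ∧ z ≠ z'' ∧ z' ≠ z'')
    (hzero : r i = 0 ∧ r z = 0 ∧ r z' = 0 ∧ r z'' = 0) (hE : (E i : ι → F) ∈ RG M r) :
    omegaGL ⇑(Q0 : QuadraticForm F (ι → F)) ≤ M := by
  obtain ⟨hiz, hiz', hiz'', hzz', hzz'', hz'z''⟩ := hd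
  obtain ⟨h0i, h0z, h0z', h0z''⟩ := hzero
  have h2 := S.two
  -- move the direction
  have move : ∀ b c : ι, i ≠ b → b ≠ c → i ≠ c → r b = 0 → r c = 0 → (E b : ι → F) ∈ RG M r := by
    intro b c hib hbc hic hb hc
    have := RG_conj S (cycle_mem S hib hbc) hE
    rw [cycle_fix h0i hb hc, perm_E, Equiv.Perm.mul_apply,
      Equiv.swap_apply_of_ne_of_ne hib hic, Equiv.swap_apply_left] at this
    exact this
  have hz1 := move z z' hiz hzz' hiz' h0z h0z'
  have hz2 := move z' z'' hiz' hz'z'' hiz'' h0z' h0z''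
  have hz3 := move z'' z hiz'' hzz''.symm hiz h0z'' h0z
  obtain ⟨j, hj⟩ : ∃ j, r j ≠ 0 := by
    by_contra h
    push Not at h
    exact hrne (funext h)
  have hjz : j ≠ z := fun e => hj (e ▸ h0z)
  have hji : j ≠ i := fun e => hj (e ▸ h0i)
  have hjz' : j ≠ z' := fun e => hj (e ▸ h0z')
  have hjz'' : j ≠ z'' := fun e => hj (e ▸ h0z'')
  set s : GL ι F := sgn j z with hs
  set r' := act s r with hr'
  have hsM : s ∈ M := sgn_mem S hjz
  have hr'0 : r' ⬝ᵥ r' = 0 := by rw [hr', M_dot S hsM, hr0]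
  have hr'z : ∀ l, l ≠ j → r' l = r l := by
    intro l hl
    rw [hr', hs, sgn_apply hjz]
    split_ifs with h
    · rcases h with rfl | rfl
      · exact absurd rfl hl
      · rw [h0z, neg_zero]
    · rfl
  have hE' : ∀ l : ι, l ≠ j → l ≠ z → (E l : ι → F) ∈ RG M r → (E l : ι → F) ∈ RG M r' := by
    intro l hlj hlz h
    have := RG_conj S hsM h
    rwa [show act s (E l) = E l from sgn_fix hjz (by simp [E, hlj.symm]) (by simp [E, hlz.symm])] at this
  have hz1' : (E z : ι → F) ∈ RG M r' := by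
    have := RG_smul S hr'0 (RG_conj S hsM hz1) (-1)
    rwa [show act s (E z) = -E z from sgn_E_neg hjz (Or.inr rfl), neg_one_smul, neg_neg] at this
  have hz2' := hE' z' hjz'.symm hzz'.symm hz2
  have hz3' := hE' z'' hjz''.symm hzz''.symm hz3
  have hc : r' ⬝ᵥ r = -(2 * (r j * r j)) := by
    rw [hr', hs, sgn_dot hjz, hr0, h0z]; ring
  -- a singular vector on three coordinates
  obtain ⟨a, b, hab⟩ := binary_value S.two (one_ne_zero (α := F)) one_ne_zero
    (neg_ne_zero.2 (one_ne_zero (α := F)))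
  set x0 : ι → F := E z + a • E z' + b • E z'' with hx0
  set y0 : ι → F := b • E z' - a • E z'' with hy0
  have hab' : a * a + b * b = -1 := by linear_combination hab
  have hx00 : x0 ⬝ᵥ x0 = 0 := by
    simp [x0, E, hzz', hzz'.symm, hzz'', hzz''.symm, hz'z'', hz'z''.symm]
    linear_combination hab'
  have hxy : x0 ⬝ᵥ y0 = 0 := by
    simp [x0, y0, E, hzz', hzz'.symm, hzz'', hzz''.symm, hz'z'', hz'z''.symm]
    ring
  have hx0r : r ⬝ᵥ x0 = 0 := by simp [x0, E, h0z, h0z', h0z'']
  have hx0r' : r' ⬝ᵥ x0 = 0 := by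
    simp [x0, E, hr'z z hjz.symm, hr'z z' hjz'.symm, hr'z z'' hjz''.symm, h0z, h0z', h0z'']
  have hy0r : r ⬝ᵥ y0 = 0 := by simp [y0, E, h0z', h0z'']
  have hy0r' : r' ⬝ᵥ y0 = 0 := by
    simp [y0, E, hr'z z' hjz'.symm, hr'z z'' hjz''.symm, h0z', h0z'']
  have hxz : x0 ⬝ᵥ E z = 1 := by simp [x0, E, hzz', hzz'']
  have hyz : y0 ⬝ᵥ E z = 0 := by simp [y0, E, hzz', hzz'']
  have hcne : (2 : F) * (r' ⬝ᵥ r) ≠ 0 := by
    rw [hc]; exact mul_ne_zero h2 (neg_ne_zero.2 (mul_ne_zero h2 (mul_ne_zero hj hj)))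
  have hX : x0 ∈ RG M r :=
    RG_add hr0 (RG_add hr0 hz1 (RG_smul S hr0 hz2 a)) (RG_smul S hr0 hz3 b)
  obtain ⟨-, h, hhM, hh⟩ := RG_smul S hr0 hX (2 * (r' ⬝ᵥ r))⁻¹
  obtain ⟨-, k, hkM, hk⟩ := RG_smul S hr'0 hz1' (2 : F)⁻¹
  have hhr' : act h r' = r' + x0 := by
    rw [IsSg_act hh]
    simp only [dotProduct_smul, smul_dotProduct, hx0r', hx00, smul_eq_mul, mul_zero, zero_mul,
      neg_zero, sub_zero, zero_smul, add_zero, smul_smul]
    rw [mul_inv_cancel₀ hcne, one_smul]
  have hkx : act k (r' + x0) = x0 := by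
    rw [IsSg_act hk]
    have e1 : r' ⬝ᵥ E z = 0 := by simp [E, hr'z z hjz.symm, h0z]
    have e2 : x0 ⬝ᵥ r' = 0 := by rw [dotProduct_comm, hx0r']
    simp only [add_dotProduct, dotProduct_smul, hr'0, e1, e2, hxz, smul_eq_mul, mul_one, zero_add,
      mul_zero, zero_smul, add_zero, sub_zero, mul_inv_cancel₀ h2]
    module
  set g := k * h with hg
  have hgM : g ∈ M := M.mul_mem hkM hhM
  have hgr : act g r' = x0 := by
    rw [hg, act, gl_mulVec_mul]
    change act k (act h r') = x0
    rw [hhr', hkx]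
  have hgfix : ∀ v : ι → F, v ⬝ᵥ r = 0 → v ⬝ᵥ r' = 0 → v ⬝ᵥ x0 = 0 → v ⬝ᵥ E z = 0 → act g v = v := by
    intro v e1 e2 e3 e4
    rw [hg, act, gl_mulVec_mul]
    change act k (act h v) = v
    rw [IsSg_act hh, dotProduct_smul, dotProduct_smul, e1, e3]
    simp only [smul_zero, mul_zero, zero_smul, add_zero, neg_zero, sub_zero]
    rw [IsSg_act hk, dotProduct_smul, dotProduct_smul, e2, e4]
    simp
  have hi' : (E i : ι → F) ∈ RG M x0 := by
    have := RG_conj S hgM (hE' i hji.symm hiz hE)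
    rwa [hgr, hgfix] at this
    · simp [E, h0i]
    · simp [E, hr'z i hji.symm, h0i]
    · simp [x0, E, hiz, hiz', hiz'']
    · simp [E, hiz]
  have hy' : y0 ∈ RG M x0 := by
    have := RG_conj S hgM (RG_add hr'0 (RG_smul S hr'0 hz2' b) (RG_smul S hr'0 hz3' (-a)))
    rw [show b • E z' + (-a) • E z'' = y0 by rw [hy0, neg_smul, ← sub_eq_add_neg], hgr, hgfix] at this
    · exact this
    · rw [dotProduct_comm, hy0r]
    · rw [dotProduct_comm, hy0r']
    · rw [dotProduct_comm, hxy]
    · exact hyz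
  have hx0val : ∀ l, l ≠ z → l ≠ z' → l ≠ z'' → x0 l = 0 := fun l h1 h3 h4 => by
    simp [x0, E, h1, h3, h4]
  have hall : ∀ l, l ≠ z → l ≠ z' → l ≠ z'' → (E l : ι → F) ∈ RG M x0 := by
    intro l h1 h3 h4
    by_cases hli : l = i
    · rw [hli]; exact hi'
    obtain ⟨l', hl'⟩ := exists_fresh 5 {i, l, z, z', z''} Finset.card_le_five
      (by have := S.big; omega)
    simp only [Finset.mem_insert, Finset.mem_singleton, not_or] at hl'
    have := RG_conj S (cycle_mem S (Ne.symm hli) (Ne.symm hl'.2.1)) hi'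
    rwa [cycle_fix (hx0val _ hiz hiz' hiz'') (hx0val _ h1 h3 h4)
      (hx0val _ hl'.2.2.1 hl'.2.2.2.1 hl'.2.2.2.2), perm_E, Equiv.Perm.mul_apply,
      Equiv.swap_apply_of_ne_of_ne (Ne.symm hli) (Ne.symm hl'.1), Equiv.swap_apply_left] at this
  have hSS : x0 ∈ SS (Q0 : QuadraticForm F (ι → F)) M := by
    refine ⟨by rw [Q0_apply, hx00], fun w hw => ?_⟩
    rw [polar_Q0, mul_eq_zero, or_iff_right h2] at hw
    have hmem : w ∈ RG M x0 := by
      classical
      have hsum : ∀ T : Finset ι, z ∉ T → z' ∉ T → z'' ∉ T → (∑ l ∈ T, w l • (E l : ι → F)) ∈ RG M x0 := by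
        intro T
        induction T using Finset.induction_on with
        | empty => intros; rw [Finset.sum_empty]; exact RG_zero x0
        | @insert l T hl ih =>
          intro a1 a2 a3
          simp only [Finset.mem_insert, not_or] at a1 a2 a3
          rw [Finset.sum_insert hl]
          exact RG_add hx00 (RG_smul S hx00 (hall l (Ne.symm a1.1) (Ne.symm a2.1) (Ne.symm a3.1)) _)
            (ih a1.2 a2.2 a3.2)
      set p := w z' - a * w z with hp
      set q := w z'' - b * w z with hq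
      have hpq : a * p + b * q = 0 := by
        have e : x0 ⬝ᵥ w = w z + a * w z' + b * w z'' := by simp [x0, E]
        rw [e] at hw
        rw [hp, hq]
        linear_combination hw - (w z) * hab'
      obtain ⟨β, hβ1, hβ2⟩ : ∃ β : F, p = β * b ∧ q = -(β * a) := by
        by_cases hb : b = 0
        · have ha : a ≠ 0 := fun e => one_ne_zero (α := F) (by rw [e, hb] at hab'; linear_combination hab')
          refine ⟨-q / a, ?_, by field_simp⟩
          rw [hb, zero_mul, add_zero] at hpq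
          rw [hb, mul_zero]
          exact (mul_eq_zero.1 hpq).resolve_left ha
        · exact ⟨p / b, by field_simp, by field_simp; linear_combination hpq⟩
      have hw' : w = ∑ l ∈ ((Finset.univ.erase z).erase z').erase z'', w l • (E l : ι → F)
          + (w z • x0 + β • y0) := by
        funext k
        rw [Pi.add_apply, Finset.sum_apply]
        simp only [Pi.smul_apply, E, Pi.single_apply, smul_eq_mul, mul_ite, mul_one, mul_zero,
          Finset.sum_ite_eq]
        by_cases k1 : k = z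
        · subst k1
          simp [x0, y0, E, hzz', hzz'']
        by_cases k2 : k = z'
        · subst k2
          simp [x0, y0, E, hzz'.symm, hz'z'']
          rw [← hβ1, hp]; ring
        by_cases k3 : k = z''
        · subst k3
          simp [x0, y0, E, hzz''.symm, hz'z''.symm]
          linear_combination (hβ2.trans (neg_mul_eq_mul_neg β a)) - hq + (0 : F)
        simp [x0, y0, E, k1, k2, k3]
      rw [hw']
      exact RG_add hx00 (hsum _ (by simp) (by simp) (by simp))
        (RG_add hx00 (RG_self hx00 _) (RG_smul S hx00 hy' β))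
    obtain ⟨-, h', hh', hh''⟩ := hmem
    exact ⟨h', hh', hh''⟩
  have hSS' := OmS.SS_mulVec (sgn_mem S (Ne.symm hiz)) (S.le (sgn_mem S (Ne.symm hiz))) hSS
  refine omega_le_of_pair S.ndp (OmE.exists_frame S.ndp (by have := S.big; omega)).1.some S.le hSS hSS' ?_
  rw [polar_Q0, dotProduct_comm]
  change (2 : F) * (act (sgn z i) x0 ⬝ᵥ x0) ≠ 0
  rw [sgn_dot (Ne.symm hiz), hx00, hx0val i hiz hiz' hiz'',
    show x0 z = 1 by simp [x0, E, hzz', hzz'']]
  simp [h2]

/-- A reflection product with a unipotent. -/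
lemma siegel_of_pair {p w : ι → F} (hp : p ⬝ᵥ p = 1) (hw : w ⬝ᵥ w = 0) (hpw : w ⬝ᵥ p = 0)
    (h : rr S.nd (p + w) * rr S.nd p ∈ M) : -p ∈ RG M w := by
  refine ⟨by rw [dotProduct_neg, hpw, neg_zero], _, h, isSg_of_act fun v => ?_⟩
  have hq : (p + w) ⬝ᵥ (p + w) = 1 := by
    simp only [add_dotProduct, dotProduct_add, hp, hw, hpw, dotProduct_comm p w]; ring
  rw [act, gl_mulVec_mul]
  change act (rr S.nd (p + w)) (act (rr S.nd p) v) = _
  rw [rr_act_unit S hq, rr_act_unit S hp]
  simp only [sub_dotProduct, smul_dotProduct, dotProduct_add, dotProduct_neg, neg_dotProduct, hp, hw,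
    dotProduct_comm p w, hpw, smul_eq_mul]
  match_scalars <;> ring

/-! ### The orbit of a vector under two opposite root groups -/

omit [Fintype ι] [DecidableEq ι] S in
/-- Coefficient factors fill the multiplicative group. -/
lemma factor_closed (h2 : (2 : F) ≠ 0) (h3 : (3 : F) ≠ 0) {k : F} (hk : k ≠ 0) (P : F → Prop)
    (hbase : ∀ s r : F, 1 - k * (s * s) ≠ 0 → 1 - k * (r * r) ≠ 0 →
      P ((1 - k * (r * r)) / (1 - k * (s * s))))
    (hmul : ∀ x y, P x → P y → P (x * y)) : ∀ y : F, y ≠ 0 → P y := by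
  have h1 : P 1 := by
    have := hbase 0 0 (by simp) (by simp)
    simpa using this
  -- a solution avoiding the degenerate points
  have step : ∀ y m : F, y ≠ 0 → y ≠ 1 → m ≠ 0 → m ≠ 1 → y ≠ m → y ≠ m * m → P y := by
    intro y m hy hy1 hm0 hm1 hym hym2
    obtain ⟨s, r, hsr⟩ := binary_value h2 (mul_ne_zero hy hk) (neg_ne_zero.2 hk) (sub_ne_zero.2 hy1)
    by_cases hs : 1 - k * (s * s) = 0
    · -- move along the conic
      have hs0 : s ≠ 0 := fun e => by rw [e] at hs; simp at hs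
      have hrr : r * r = s * s := by
        have e : k * (r * r) = k * (s * s) := by linear_combination -hsr - y * hs + hs
        exact mul_left_cancel₀ hk e
      set u := 2 * s * (m - y) / (y - m * m) with hu
      have hd : y - m * m ≠ 0 := sub_ne_zero.2 hym2
      have hu0 : u ≠ 0 := div_ne_zero (mul_ne_zero (mul_ne_zero h2 hs0) (sub_ne_zero.2 (Ne.symm hym))) hd
      have hu' : u * (y - m * m) = 2 * s * (m - y) := by rw [hu, div_mul_cancel₀ _ hd]
      have hconic : y * k * ((s + u) * (s + u)) - k * ((s + m * u) * (s + m * u)) = y - 1 := by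
        linear_combination k * u * hu' - (y - 1) * hs
      have hs' : 1 - k * ((s + u) * (s + u)) ≠ 0 := by
        intro e
        have e1 : k * (u * (2 * s + u)) = 0 := by linear_combination hs - e
        rcases mul_eq_zero.1 ((mul_eq_zero.1 e1).resolve_left hk) with e2 | e2
        · exact hu0 e2
        have e3 : 2 * s * (m * (m - 1)) = 0 := by linear_combination hu' - (y - m * m) * e2
        rcases mul_eq_zero.1 e3 with e4 | e4
        · exact mul_ne_zero h2 hs0 e4
        rcases mul_eq_zero.1 e4 with e5 | e5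
        · exact hm0 e5
        · exact hm1 (sub_eq_zero.1 e5)
      have hr' : 1 - k * ((s + m * u) * (s + m * u)) = y * (1 - k * ((s + u) * (s + u))) := by
        linear_combination hconic
      have := hbase (s + u) (s + m * u) hs' (by rw [hr']; exact mul_ne_zero hy hs')
      rwa [hr', mul_div_assoc, div_self hs', mul_one] at this
    · have hr' : 1 - k * (r * r) = y * (1 - k * (s * s)) := by linear_combination hsr
      have := hbase s r hs (by rw [hr']; exact mul_ne_zero hy hs)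
      rwa [hr', mul_div_assoc, div_self hs, mul_one] at this
  have hn1 : (-1 : F) ≠ 0 := neg_ne_zero.2 one_ne_zero
  have hn11 : (-1 : F) ≠ 1 := fun e => h2 (by linear_combination -e)
  have h21 : (2 : F) ≠ 1 := fun e => one_ne_zero (α := F) (by linear_combination e)
  have htwo : P 2 := step 2 (-1) h2 h21 hn1 hn11 (fun e => h3 (by linear_combination e))
    (fun e => one_ne_zero (α := F) (by linear_combination e))
  intro y hy
  by_cases hy1 : y = 1
  · rw [hy1]; exact h1
  by_cases hy2 : y = 2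
  · rw [hy2]; exact htwo
  by_cases hy4 : y = 2 * 2
  · rw [hy4]; exact hmul _ _ htwo htwo
  exact step y 2 hy hy1 h2 h21 hy2 hy4

/-- Transitivity on vectors of equal norm in the span of two opposite root groups. -/
lemma orbit {n n' s : ι → F} (hn : n ⬝ᵥ n = 0) (hn' : n' ⬝ᵥ n' = 0) (hnn : n ⬝ᵥ n' = 1)
    (hsn : n ⬝ᵥ s = 0) (hsn' : n' ⬝ᵥ s = 0) (hσ : s ⬝ᵥ s ≠ 0)
    (hX : s ∈ RG M n) (hY : s ∈ RG M n') (h3 : (3 : F) ≠ 0) {C : F} (hC : C ≠ 0)
    {α β γ α' β' γ' : F} (hq : 2 * α * β + γ * γ * (s ⬝ᵥ s) = C)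
    (hq' : 2 * α' * β' + γ' * γ' * (s ⬝ᵥ s) = C) :
    ∃ g ∈ M, act g (α • n + β • n' + γ • s) = α' • n + β' • n' + γ' • s ∧
      ∀ v, v ⬝ᵥ n = 0 → v ⬝ᵥ n' = 0 → v ⬝ᵥ s = 0 → act g v = v := by
  have h2 := S.two
  set σ := s ⬝ᵥ s with hσdef
  let P : F → F → F → F → F → F → Prop := fun a b c a' b' c' =>
    ∃ g ∈ M, act g (a • n + b • n' + c • s) = a' • n + b' • n' + c' • s ∧
      ∀ v, v ⬝ᵥ n = 0 → v ⬝ᵥ n' = 0 → v ⬝ᵥ s = 0 → act g v = v
  have Ptrans : ∀ {a b c a' b' c' a'' b'' c''}, P a b c a' b' c' → P a' b' c' a'' b'' c'' →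
      P a b c a'' b'' c'' := by
    rintro a b c a' b' c' a'' b'' c'' ⟨g, hg, e, f⟩ ⟨k, hk, e', f'⟩
    refine ⟨k * g, M.mul_mem hk hg, ?_, fun v u1 u2 u3 => ?_⟩
    · rw [act, gl_mulVec_mul]
      change act k (act g _) = _
      rw [e, e']
    · rw [act, gl_mulVec_mul]
      change act k (act g v) = v
      rw [f v u1 u2 u3, f' v u1 u2 u3]
  have Psymm : ∀ {a b c a' b' c'}, P a b c a' b' c' → P a' b' c' a b c := by
    rintro a b c a' b' c' ⟨g, hg, e, f⟩
    refine ⟨g⁻¹, M.inv_mem hg, ?_, fun v u1 u2 u3 => ?_⟩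
    · rw [← e, act, act, gl_inv_mulVec_mulVec]
    · nth_rw 1 [← f v u1 u2 u3]; rw [act, act, gl_inv_mulVec_mulVec]
  have hn'n : n' ⬝ᵥ n = 1 := by rw [dotProduct_comm, hnn]
  have hsn0 : s ⬝ᵥ n = 0 := by rw [dotProduct_comm, hsn]
  have hsn0' : s ⬝ᵥ n' = 0 := by rw [dotProduct_comm, hsn']
  have PX : ∀ a b c t : F, P a b c (a - 2 * c * t * σ - 2 * σ * t * t * b) b (c + 2 * b * t) := by
    intro a b c t
    obtain ⟨-, g, hg, hgs⟩ := RG_smul S hn hX t
    refine ⟨g, hg, ?_, fun v u1 u2 u3 => ?_⟩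
    · rw [IsSg_act hgs]
      simp only [add_dotProduct, smul_dotProduct, dotProduct_smul, hn, hn'n, hsn0, hsn, hsn',
        ← hσdef, smul_eq_mul]
      match_scalars <;> ring
    · rw [IsSg_act hgs, dotProduct_smul, u1, u3]; simp
  have PY : ∀ a b c t : F, P a b c a (b - 2 * c * t * σ - 2 * σ * t * t * a) (c + 2 * a * t) := by
    intro a b c t
    obtain ⟨-, g, hg, hgs⟩ := RG_smul S hn' hY t
    refine ⟨g, hg, ?_, fun v u1 u2 u3 => ?_⟩
    · rw [IsSg_act hgs]
      simp only [add_dotProduct, smul_dotProduct, dotProduct_smul, hn', hnn, hsn0', hsn, hsn',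
        ← hσdef, smul_eq_mul]
      match_scalars <;> ring
    · rw [IsSg_act hgs, dotProduct_smul, u2, u3]; simp
  have kill : ∀ a b c : F, 2 * a * b + c * c * σ = C → b ≠ 0 → P a b c (C / (2 * b)) b 0 := by
    intro a b c e hb
    have h := PX a b c (-c / (2 * b))
    have e1 : c + 2 * b * (-c / (2 * b)) = 0 := by field_simp; ring
    have e2 : a - 2 * c * (-c / (2 * b)) * σ - 2 * σ * (-c / (2 * b)) * (-c / (2 * b)) * b = C / (2 * b) := by
      rw [← e]; field_simp; ring
    rwa [e1, e2] at h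
  have reach : ∀ a b c : F, 2 * a * b + c * c * σ = C → ∃ b', b' ≠ 0 ∧ P a b c (C / (2 * b')) b' 0 := by
    intro a b c e
    by_cases hb : b = 0
    · obtain ⟨t, ht⟩ : ∃ t : F, b - 2 * c * t * σ - 2 * σ * t * t * a ≠ 0 := by
        by_contra h
        push Not at h
        have e1 := h 1
        have e2 := h (-1)
        have e3 : (2 : F) * 2 * σ * c = 0 := by linear_combination e2 - e1
        have hc0 : c = 0 := (mul_eq_zero.1 e3).resolve_left (mul_ne_zero (mul_ne_zero h2 h2) hσ)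
        rw [hb, hc0] at e
        exact hC (by linear_combination -e)
      have h := PY a b c t
      refine ⟨_, ht, Ptrans h (kill _ _ _ ?_ ht)⟩
      rw [← e]; ring
    · exact ⟨b, hb, kill a b c e hb⟩
  have rel : ∀ lam : F, lam ≠ 0 → ∀ b : F, b ≠ 0 →
      P (C / (2 * b)) b 0 (C / (2 * (lam * b))) (lam * b) 0 := by
    refine factor_closed h2 h3 (k := σ * C) (mul_ne_zero hσ hC) _ (fun u v hu hv b hb => ?_)
      (fun x y hx hy b hb => ?_)
    · have stp : ∀ (b t : F), b ≠ 0 → 1 - σ * C * (t * t) ≠ 0 →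
          P (C / (2 * b)) b 0 (C / (2 * ((1 - σ * C * (t * t)) * b))) ((1 - σ * C * (t * t)) * b) 0 := by
        intro b t hb ht
        have h := PY (C / (2 * b)) b 0 (b * t)
        have e1 : b - 2 * 0 * (b * t) * σ - 2 * σ * (b * t) * (b * t) * (C / (2 * b))
            = (1 - σ * C * (t * t)) * b := by field_simp; ring
        rw [e1] at h
        refine Ptrans h (kill _ _ _ ?_ (mul_ne_zero ht hb))
        field_simp
        ring
      have h1 := stp b v hb hv
      have hb' : b / (1 - σ * C * (u * u)) ≠ 0 := div_ne_zero hb hu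
      have h1' := stp (b / (1 - σ * C * (u * u))) u hb' hu
      have e : (1 - σ * C * (u * u)) * (b / (1 - σ * C * (u * u))) = b := mul_div_cancel₀ b hu
      rw [e] at h1'
      have h2' := stp (b / (1 - σ * C * (u * u))) v hb' hv
      have e' : (1 - σ * C * (v * v)) * (b / (1 - σ * C * (u * u)))
          = (1 - σ * C * (v * v)) / (1 - σ * C * (u * u)) * b := by field_simp
      rw [e'] at h2'
      exact Ptrans (Psymm h1') h2'
    · by_cases hy0 : y = 0
      · have := hy b hb
        rw [hy0, zero_mul] at this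
        rw [hy0, mul_zero, zero_mul]; exact this
      · have := Ptrans (hy b hb) (hx (y * b) (mul_ne_zero hy0 hb))
        rw [show x * y * b = x * (y * b) from mul_assoc x y b]
        exact this
  obtain ⟨b1, hb1, p1⟩ := reach α β γ hq
  obtain ⟨b2, hb2, p2⟩ := reach α' β' γ' hq'
  have h := rel (b2 / b1) (div_ne_zero hb2 hb1) b1 hb1
  rw [div_mul_cancel₀ _ hb1] at h
  exact Ptrans p1 (Ptrans h (Psymm p2))

/-! ### The three-dimensional configuration -/

set_option maxHeartbeats 1000000 in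
/-- A vector with three zeros one of whose coordinates is not a square root of a half. -/
lemma omega_of_vector {b : ι → F} (hb : b ⬝ᵥ b = 1) {z0 : ι} (hz0 : b z0 = 0)
    (hB : rr S.nd b * rr S.nd (E z0) ∈ M) {Z : Finset ι} (hZ : 3 ≤ Z.card)
    (hbZ : ∀ z ∈ Z, b z = 0) {i : ι} (hi : b i ≠ 0) (hhalf : 2 * (b i * b i) ≠ 1)
    (hne : b ≠ b i • E i) : omegaGL ⇑(Q0 : QuadraticForm F (ι → F)) ≤ M := by
  classical
  have h2 := S.two
  have hBz : ∀ z, rr S.nd b * rr S.nd (E z) ∈ M := fun z => by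
    by_cases h : z = z0
    · rw [h]; exact hB
    · have := M.mul_mem hB (sgn_mem S (Ne.symm h))
      rwa [← sgn_eq S (Ne.symm h), mul_assoc, ← mul_assoc (rr S.nd (E z0)), rr_mul_self,
        one_mul] at this
  obtain ⟨a, ha⟩ := Finset.card_pos.1 (by omega : 0 < Z.card)
  obtain ⟨z, hz⟩ : ∃ z, z ∈ Z.erase a :=
    Finset.card_pos.1 (by rw [Finset.card_erase_of_mem ha]; omega)
  obtain ⟨z', hz'⟩ : ∃ z', z' ∈ (Z.erase a).erase z :=
    Finset.card_pos.1 (by rw [Finset.card_erase_of_mem hz, Finset.card_erase_of_mem ha]; omega)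
  simp only [Finset.mem_erase] at hz hz'
  have hza := hbZ a ha
  have hzz := hbZ z hz.2
  have hzz' := hbZ z' hz'.2.2
  have haz : a ≠ z := hz.1.symm
  have haz' : a ≠ z' := hz'.2.1.symm
  have hzz'n : z ≠ z' := hz'.1.symm
  obtain ⟨c, hcz'⟩ : ∃ c, c = z' := ⟨_, rfl⟩
  obtain ⟨d, hdz⟩ : ∃ d, d = z := ⟨_, rfl⟩
  have hzc : b c = 0 := by rw [hcz']; exact hzz'
  have hzd : b d = 0 := by rw [hdz]; exact hzz
  have hac : a ≠ c := by rw [hcz']; exact haz'
  have had : a ≠ d := by rw [hdz]; exact haz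
  have hcd : c ≠ d := by rw [hcz', hdz]; exact hzz'n.symm
  have hi' : ∀ {l}, b l = 0 → i ≠ l := fun h e => hi (e ▸ h)
  set x := b i with hx
  set w : ι → F := b - x • E i with hw
  have hwi : w i = 0 := by simp [w, E, x]
  have hw0 : ∀ l, l ≠ i → b l = 0 → w l = 0 := fun l h1 h3 => by simp [w, E, h1, h3]
  have hwne : w ≠ 0 := fun e => hne (sub_eq_zero.1 (hw ▸ e))
  have hiw : E i ⬝ᵥ w = 0 := by simp [E, hwi]
  have hbw : b = x • E i + w := by rw [hw]; abel
  set ω := w ⬝ᵥ w with hω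
  have hxω : x * x + ω = 1 := by
    have e : b ⬝ᵥ b = x * x + ω := by
      conv_lhs => rw [hbw]
      simp [add_dotProduct, dotProduct_add, E, hwi, hω]
    rw [← e, hb]
  by_cases hx1 : x * x = 1
  · -- a transvection at once
    have hw00 : w ⬝ᵥ w = 0 := by linear_combination hxω - hx1
    have hpp : (x • E i : ι → F) ⬝ᵥ (x • E i) = 1 := by simp [E, hx1]
    have hmem := M.mul_mem (hBz a) (sgn_mem S (hi' hza).symm)
    rw [← sgn_eq S (hi' hza).symm, mul_assoc, ← mul_assoc (rr S.nd (E a)), rr_mul_self, one_mul] at hmem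
    have hx0 : x ≠ 0 := hi
    rw [← rr_smul S.nd (x := E i) hx0 (by rw [Q0_E]; exact one_ne_zero), hbw] at hmem
    have hsg := siegel_of_pair S hpp hw00 (by simp [E, hwi]) hmem
    have hEi := RG_smul S hw00 hsg (-x⁻¹)
    rw [neg_smul, smul_neg, neg_neg, smul_smul, inv_mul_cancel₀ hx0, one_smul] at hEi
    exact omega_of_coord S hw00 hwne ⟨hi' hzz, hi' hzz', hi' hza, hzz'n, haz.symm, haz'.symm⟩
      ⟨hwi, hw0 z (hi' hzz).symm hzz, hw0 z' (hi' hzz').symm hzz', hw0 a (hi' hza).symm hza⟩ hEi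
  have hω0 : ω ≠ 0 := fun e => hx1 (by linear_combination hxω - e)
  have h3 : (3 : F) ≠ 0 := by
    intro e3
    obtain ⟨k, hk⟩ := S.prime x
    have e : ∀ k : ℕ, (k : F) = 0 ∨ (k : F) = 1 ∨ (k : F) = 2 := by
      intro k
      induction k with
      | zero => simp
      | succ k ih =>
        rw [Nat.cast_succ]
        rcases ih with h | h | h <;> rw [h]
        · simp
        · exact Or.inr (Or.inr (by norm_num))
        · exact Or.inl (by linear_combination e3)
    rcases e k with h | h | h <;> rw [← hk] at h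
    · exact hi h
    · exact hx1 (by rw [h, one_mul])
    · exact hx1 (by rw [h]; linear_combination e3)
  have hwa := hw0 a (hi' hza).symm hza
  have hwz := hw0 z (hi' hzz).symm hzz
  have hwz' := hw0 z' (hi' hzz').symm hzz'
  have hwc := hw0 c (hi' hzc).symm hzc
  have hwd := hw0 d (hi' hzd).symm hzd
  have hia := hi' hza
  have hic := hi' hzc
  have hid := hi' hzd
  -- the embedding of three-space
  let emb : (Fin 3 → F) → (ι → F) := fun X => X 0 • E i + X 1 • E a + X 2 • w
  have emb_lin : ∀ (X Y : Fin 3 → F) (t : F), emb (X + t • Y) = emb X + t • emb Y := fun X Y t => by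
    simp only [emb, Pi.add_apply, Pi.smul_apply, smul_eq_mul]; module
  have emb_smul : ∀ (t : F) (X : Fin 3 → F), emb (t • X) = t • emb X := fun t X => by
    simp only [emb, Pi.smul_apply, smul_eq_mul]; module
  have emb_dot : ∀ X Y, emb X ⬝ᵥ emb Y = bl ω X Y := fun X Y => by
    simp [emb, bl, add_dotProduct, dotProduct_add, E, hia, hia.symm, hwi, hwa, ← hω]
    ring
  have emb_perp : ∀ (v : ι → F) X, v ⬝ᵥ E i = 0 → v ⬝ᵥ E a = 0 → v ⬝ᵥ w = 0 → v ⬝ᵥ emb X = 0 :=
    fun v X e1 e2 e3 => by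
      simp only [emb, dotProduct_add, dotProduct_smul, e1, e2, e3, smul_zero, add_zero]
  -- the group of rotations
  let Wit : GL (Fin 3) F → GL ι F → F → Prop := fun h g ε =>
    g ∈ M ∧ ε * ε = 1 ∧ (∀ X, act g (emb X) = ε • emb ((h : Matrix (Fin 3) (Fin 3) F) *ᵥ X)) ∧
    (∀ v : ι → F, v ⬝ᵥ E i = 0 → v ⬝ᵥ E a = 0 → v ⬝ᵥ w = 0 → v c = 0 → v d = 0 → act g v = v) ∧
    ∃ s t : F, s * s = 1 ∧ t * t = 1 ∧ ((act g (E c) = s • E c ∧ act g (E d) = t • E d) ∨
      (act g (E c) = s • E d ∧ act g (E d) = t • E c))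
  let Rs : Set (GL (Fin 3) F) := {h | (∀ X Y : Fin 3 → F, bl ω ((h : Matrix (Fin 3) (Fin 3) F) *ᵥ X)
      ((h : Matrix (Fin 3) (Fin 3) F) *ᵥ Y) = bl ω X Y) ∧
    Matrix.det (h : Matrix (Fin 3) (Fin 3) F) = 1 ∧ ∃ g ε, Wit h g ε}
  have Rone : (1 : GL (Fin 3) F) ∈ Rs := ⟨fun X Y => by simp, by simp,
    1, 1, one_mem M, one_mul 1, fun X => by simp [act], fun v _ _ _ _ _ => by simp [act],
    1, 1, one_mul 1, one_mul 1, Or.inl ⟨by rw [act, Units.val_one, one_mulVec, one_smul],
      by rw [act, Units.val_one, one_mulVec, one_smul]⟩⟩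
  have Rmul : ∀ h k, h ∈ Rs → k ∈ Rs → h * k ∈ Rs := by
    rintro h k ⟨h1, h1', g, ε, hgM, hε, hge, hgf, s, t, hs, ht, hgcd⟩
      ⟨k1, k1', g', ε', hgM', hε', hge', hgf', s', t', hs', ht', hgcd'⟩
    refine ⟨fun X Y => by rw [gl_mulVec_mul, gl_mulVec_mul, h1, k1],
      by rw [Units.val_mul, Matrix.det_mul, h1', k1', one_mul],
      g * g', ε * ε', M.mul_mem hgM hgM', by linear_combination (ε' * ε') * hε + hε',
      fun X => ?_, fun v e1 e2 e3 e4 e5 => ?_, ?_⟩
    · rw [act, gl_mulVec_mul]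
      change act g (act g' (emb X)) = _
      rw [hge', act, mulVec_smul]
      change ε' • act g (emb _) = _
      rw [hge, smul_smul, gl_mulVec_mul, mul_comm ε' ε]
    · rw [act, gl_mulVec_mul]
      change act g (act g' v) = v
      rw [hgf' v e1 e2 e3 e4 e5, hgf v e1 e2 e3 e4 e5]
    · have comp : ∀ {p q r : ι} {u u' : F}, act g' (E p) = u' • E q → act g (E q) = u • E r →
          act (g * g') (E p) = (u' * u) • E r := fun {p q r u u'} e e' => by
        rw [act, gl_mulVec_mul]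
        change act g (act g' (E p)) = _
        rw [e, act, mulVec_smul]
        change u' • act g (E q) = _
        rw [e', smul_smul]
      rcases hgcd' with ⟨ec', ed'⟩ | ⟨ec', ed'⟩ <;> rcases hgcd with ⟨ec, ed⟩ | ⟨ec, ed⟩
      · exact ⟨s' * s, t' * t, by linear_combination (s * s) * hs' + hs, by linear_combination (t * t) * ht' + ht,
          Or.inl ⟨comp ec' ec, comp ed' ed⟩⟩
      · exact ⟨s' * s, t' * t, by linear_combination (s * s) * hs' + hs, by linear_combination (t * t) * ht' + ht,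
          Or.inr ⟨comp ec' ec, comp ed' ed⟩⟩
      · exact ⟨s' * t, t' * s, by linear_combination (t * t) * hs' + ht, by linear_combination (s * s) * ht' + hs,
          Or.inr ⟨comp ec' ed, comp ed' ec⟩⟩
      · exact ⟨s' * t, t' * s, by linear_combination (t * t) * hs' + ht, by linear_combination (s * s) * ht' + hs,
          Or.inl ⟨comp ec' ed, comp ed' ec⟩⟩
  let R : Subgroup (GL (Fin 3) F) :=
    { carrier := Rs
      mul_mem' := fun {h k} hh hk => Rmul h k hh hk
      one_mem' := Rone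
      inv_mem' := fun {h} hh => by
        haveI : Finite (GL (Fin 3) F) := inferInstance
        have hp : ∀ n : ℕ, h ^ n ∈ Rs := fun n => by
          induction n with
          | zero => rw [pow_zero]; exact Rone
          | succ n ih => rw [pow_succ]; exact Rmul _ _ ih hh
        have e : h⁻¹ = h ^ (orderOf h - 1) := inv_eq_of_mul_eq_one_left (by
          rw [← pow_succ, Nat.sub_add_cancel (orderOf_pos h), pow_orderOf_eq_one])
        rw [e]; exact hp _ }
  -- the distinguished elements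
  let j : GL (Fin 3) F := Matrix.GeneralLinearGroup.mkOfDetNeZero !![0, -1, 0; 1, 0, 0; 0, 0, 1]
    (by simp [Matrix.det_fin_three])
  let f : GL (Fin 3) F := Matrix.GeneralLinearGroup.mkOfDetNeZero !![1, 0, 0; 0, -1, 0; 0, 0, -1]
    (by simp [Matrix.det_fin_three])
  let fbM : Matrix (Fin 3) (Fin 3) F :=
    !![2 * x * x - 1, 0, 2 * x * ω; 0, -1, 0; 2 * x, 0, 2 * ω - 1]
  have hfbdet : fbM.det = 1 := by
    simp [fbM, Matrix.det_fin_three]
    linear_combination (2 : F) * hxω
  let fb : GL (Fin 3) F := Matrix.GeneralLinearGroup.mkOfDetNeZero fbM (by rw [hfbdet]; exact one_ne_zero)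
  have jv : ∀ X : Fin 3 → F, (j : Matrix (Fin 3) (Fin 3) F) *ᵥ X = ![-X 1, X 0, X 2] := fun X => by
    change !![0, -1, 0; 1, 0, 0; 0, 0, (1 : F)] *ᵥ X = _
    funext k; fin_cases k <;> simp [mulVec, dotProduct, Fin.sum_univ_three]
  have fv : ∀ X : Fin 3 → F, (f : Matrix (Fin 3) (Fin 3) F) *ᵥ X = ![X 0, -X 1, -X 2] := fun X => by
    change !![1, 0, 0; 0, -1, 0; 0, 0, (-1 : F)] *ᵥ X = _
    funext k; fin_cases k <;> simp [mulVec, dotProduct, Fin.sum_univ_three]
  have fbv : ∀ X : Fin 3 → F, (fb : Matrix (Fin 3) (Fin 3) F) *ᵥ X =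
      ![(2 * x * x - 1) * X 0 + 2 * x * ω * X 2, -X 1, 2 * x * X 0 + (2 * ω - 1) * X 2] := fun X => by
    change fbM *ᵥ X = _
    funext k; fin_cases k <;> simp [fbM, mulVec, dotProduct, Fin.sum_univ_three]
  have nE : ∀ l : ι, (E l : ι → F) ⬝ᵥ E l ≠ 0 := fun l => by rw [norm_E]; exact one_ne_zero
  have dE : ∀ {p q : ι}, p ≠ q → (E p : ι → F) ⬝ᵥ E q = 0 := fun h => by simp [E, h]
  have hmonC : rr S.nd (E i) * rr S.nd (E c) ∈ M := by rw [sgn_eq S hic]; exact sgn_mem S hic
  have wit_f : Wit f (rr S.nd (E i) * rr S.nd (E c)) (-1) := by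
    refine ⟨hmonC, by ring, fun X => ?_, fun v e1 e2 e3 e4 e5 => ?_, -1, 1, by ring, one_mul 1,
      Or.inl ⟨?_, ?_⟩⟩
    · rw [sgn_eq S hic, fv]
      funext l
      rw [sgn_apply hic]
      by_cases l1 : l = i
      · subst l1; simp [emb, E, hia, hwi]
      by_cases l2 : l = c
      · subst l2; simp [emb, E, hic.symm, hac.symm, hwc]
      simp [emb, E, l1, l2]
      ring
    · rw [sgn_eq S hic]
      exact sgn_fix hic (by simpa [E] using e1) e4
    · rw [sgn_eq S hic, neg_one_smul]; exact sgn_E_neg hic (Or.inr rfl)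
    · rw [sgn_eq S hic, one_smul]; exact sgn_fix hic (by simp [E, hid]) (by simp [E, hcd.symm])
  have hfR : f ∈ R := ⟨fun X Y => by rw [fv, fv]; simp [bl],
    by change Matrix.det !![1, 0, 0; 0, -1, 0; 0, 0, (-1 : F)] = 1; simp [Matrix.det_fin_three],
    _, _, wit_f⟩
  set gj : GL ι F := mon (Equiv.swap i a * Equiv.swap c d) 1 * sgn a c with hgj
  have hgjsign : Equiv.Perm.sign (Equiv.swap i a * Equiv.swap c d) = 1 := by
    rw [Equiv.Perm.sign_mul, Equiv.Perm.sign_swap hia, Equiv.Perm.sign_swap hcd]; simp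
  have hgjv : ∀ (v : ι → F) l, act gj v l = if l = i then -v a else if l = a then v i
      else if l = c then v d else if l = d then -v c else v l := by
    intro v l
    rw [hgj, act, gl_mulVec_mul]
    change act (mon _ 1) (act (sgn a c) v) l = _
    rw [perm_apply]
    have hsy : (Equiv.swap i a * Equiv.swap c d).symm l
        = Equiv.swap c d (Equiv.swap i a l) := by
      rw [Equiv.symm_apply_eq, Equiv.Perm.mul_apply, Equiv.swap_apply_self, Equiv.swap_apply_self]
    rw [hsy, sgn_apply hac]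
    by_cases l1 : l = i
    · subst l1
      rw [Equiv.swap_apply_left, Equiv.swap_apply_of_ne_of_ne hac had]
      simp
    by_cases l2 : l = a
    · subst l2
      rw [Equiv.swap_apply_right, Equiv.swap_apply_of_ne_of_ne hic hid]
      simp [l1, hia, hic]
    rw [Equiv.swap_apply_of_ne_of_ne l1 l2, if_neg l1, if_neg l2]
    by_cases l3 : l = c
    · subst l3
      rw [Equiv.swap_apply_left, if_neg (by simp [had.symm, hcd.symm]), if_pos rfl]
    by_cases l4 : l = d
    · subst l4
      rw [Equiv.swap_apply_right, if_pos (Or.inr rfl), if_neg l3, if_pos rfl]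
    rw [Equiv.swap_apply_of_ne_of_ne l3 l4, if_neg (by simp [l2, l3]), if_neg l3, if_neg l4]
  have wit_j : Wit j gj 1 := by
    refine ⟨M.mul_mem (alt_mem S hgjsign) (sgn_mem S hac), one_mul 1, fun X => ?_,
      fun v e1 e2 e3 e4 e5 => funext fun l => ?_, -1, 1, by ring, one_mul 1, Or.inr ⟨?_, ?_⟩⟩
    · rw [one_smul, jv]
      funext l
      rw [hgjv]
      by_cases l1 : l = i
      · subst l1; simp [emb, E, hia, hia.symm, hwi, hwa]
      by_cases l2 : l = a
      · subst l2; simp [emb, E, hia, l1, hwi, hwa]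
      by_cases l3 : l = c
      · subst l3; simp [emb, E, l1, l2, hid.symm, had.symm, hwc, hwd]
      by_cases l4 : l = d
      · subst l4; simp [emb, E, l1, l2, l3, hic.symm, hac.symm, hwc, hwd]
      simp [emb, E, l1, l2, l3, l4]
    · rw [hgjv]
      have ei : v i = 0 := by simpa [E] using e1
      have ea : v a = 0 := by simpa [E] using e2
      split_ifs with l1 l2 l3 l4
      · rw [l1, ei, ea, neg_zero]
      · rw [l2, ei, ea]
      · rw [l3, e4, e5]
      · rw [l4, e4, e5, neg_zero]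
      · rfl
    · funext l
      rw [hgjv]
      split_ifs with l1 l2 l3 l4
      · subst l1; simp [E, hac, hid]
      · subst l2; simp [E, hic, had]
      · subst l3; simp [E, hcd, hcd.symm]
      · subst l4; simp [E]
      · simp [E, l3, l4]
    · funext l
      rw [hgjv, one_smul]
      split_ifs with l1 l2 l3 l4
      · subst l1; simp [E, had, hic]
      · subst l2; simp [E, hid, hac]
      · subst l3; simp [E]
      · subst l4; simp [E, hcd, hcd.symm]
      · simp [E, l3, l4]
  have hjR : j ∈ R := ⟨fun X Y => by rw [jv, jv]; simp [bl]; ring,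
    by change Matrix.det !![0, -1, 0; 1, 0, 0; 0, 0, (1 : F)] = 1; simp [Matrix.det_fin_three],
    _, _, wit_j⟩
  have hfbR : fb ∈ R := by
    refine ⟨fun X Y => ?_, hfbdet, rr S.nd b * rr S.nd (E c), -1, hBz c, by ring, fun X => ?_,
      fun v e1 e2 e3 e4 e5 => ?_, -1, 1, by ring, one_mul 1, Or.inl ⟨?_, ?_⟩⟩
    · rw [fbv, fbv]; simp [bl]
      linear_combination 4 * ((x * X 0 + ω * X 2) * (x * Y 0 + ω * Y 2)) * hxω
    · rw [act, gl_mulVec_mul]
      change act (rr S.nd b) (act (rr S.nd (E c)) (emb X)) = _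
      have e : emb X ⬝ᵥ E c = 0 := by simp [emb, E, hic, hac, hic.symm, hac.symm, hwc]
      rw [rr_act_unit S (norm_E c), e, mul_zero, zero_smul, sub_zero, rr_act_unit S hb, fbv]
      have e' : emb X ⬝ᵥ b = x * X 0 + ω * X 2 := by
        rw [hbw]
        simp [emb, add_dotProduct, dotProduct_add, E, hia, hia.symm, hwi, hwa, ← hω]
        ring
      rw [e']
      simp only [emb, hbw, Matrix.cons_val_zero, Matrix.cons_val_one, Matrix.cons_val,
        smul_add, smul_smul]
      match_scalars <;> ring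
    · rw [act, gl_mulVec_mul]
      change act (rr S.nd b) (act (rr S.nd (E c)) v) = _
      rw [rr_act_unit S (norm_E c), show v ⬝ᵥ E c = 0 by simp [E, e4], mul_zero, zero_smul, sub_zero,
        rr_act_unit S hb, show v ⬝ᵥ b = 0 by rw [hbw, dotProduct_add, dotProduct_smul, e1, e3]; simp,
        mul_zero, zero_smul, sub_zero]
    · rw [act, gl_mulVec_mul]
      change act (rr S.nd b) (act (rr S.nd (E c)) (E c)) = _
      rw [rr_act_unit S (norm_E c), norm_E, rr_act_unit S hb]
      have : (E c - (2 * 1 : F) • E c : ι → F) ⬝ᵥ b = 0 := by simp [E, hzc]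
      rw [this]; module
    · rw [act, gl_mulVec_mul]
      change act (rr S.nd b) (act (rr S.nd (E c)) (E d)) = _
      rw [rr_act_unit S (norm_E c), dE hcd.symm, mul_zero, zero_smul, sub_zero, rr_act_unit S hb,
        show (E d : ι → F) ⬝ᵥ b = 0 by simp [E, hzd], mul_zero, zero_smul, sub_zero, one_smul]
  -- a rotation without anisotropic axis
  obtain ⟨h, hhR, hh1, hiso⟩ : ∃ h ∈ R, h ≠ 1 ∧ ∀ v, (h : Matrix (Fin 3) (Fin 3) F) *ᵥ v = v →
      bl ω v v = 0 := by
    by_contra hcon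
    push Not at hcon
    rcases axes ω hω0 h2 R (fun g hg => hg.1) (fun g hg => hg.2.1) hcon hjR hfR jv fv fb hfbR with e | ⟨e, -⟩
    · rw [fbv] at e; simp at e
      exact hhalf (by linear_combination (2 : F) * hxω - e)
    · rw [fbv] at e; simp at e
      rcases e with e | e
      · rcases e with e | e
        · exact h2 e
        · exact hi e
      · exact hω0 e
  obtain ⟨hh, hhdet, g, ε, hgM, hε, hgemb, hgperp, sc, td, hsc, htd, hgcd⟩ := hhR
  -- the fixed singular vector
  obtain ⟨N, hN0, hhN⟩ : ∃ N : Fin 3 → F, N ≠ 0 ∧ (h : Matrix (Fin 3) (Fin 3) F) *ᵥ N = N := by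
    set A : Matrix (Fin 3) (Fin 3) F := (h : Matrix (Fin 3) (Fin 3) F) with hA
    set D : Matrix (Fin 3) (Fin 3) F := Matrix.diagonal ![1, 1, ω] with hD
    have e1 : Aᵀ * D * A = D := by
      ext p q
      have := hh (Pi.single p 1) (Pi.single q 1)
      rw [mulVec_single_one, mulVec_single_one] at this
      simp only [Matrix.mul_apply, Fin.sum_univ_three, hD, Matrix.diagonal, Matrix.transpose_apply,
        Matrix.of_apply]
      simp [bl] at this
      fin_cases p <;> fin_cases q <;> simp [Pi.single_apply] at this ⊢ <;> linear_combination this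
    have e2 : Aᵀ * D * (A - 1) = -((A - 1)ᵀ * D) := by
      rw [mul_sub, e1, mul_one, transpose_sub, transpose_one, sub_mul, one_mul, neg_sub]
    have hDd : D.det ≠ 0 := by simp [hD, Fin.prod_univ_three, hω0]
    have e3 := congrArg Matrix.det e2
    rw [Matrix.det_mul, Matrix.det_mul, Matrix.det_transpose, hA, hhdet, Matrix.det_neg,
      Matrix.det_mul, Matrix.det_transpose, ← hA, Fintype.card_fin] at e3
    have e4 : 2 * (D.det * (A - 1).det) = 0 := by linear_combination e3
    obtain ⟨N, hN0, hN⟩ := Matrix.exists_mulVec_eq_zero_iff.2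
      ((mul_eq_zero.1 ((mul_eq_zero.1 e4).resolve_left h2)).resolve_left hDd)
    exact ⟨N, hN0, by rw [sub_mulVec, one_mulVec, sub_eq_zero] at hN; exact hN⟩
  have hNN : bl ω N N = 0 := hiso N hhN
  -- decomposition in a hyperbolic basis
  have line3 : ∀ {A B : Fin 3 → F}, LinearIndependent F ![A, B] → ∀ {P Q : Fin 3 → F},
      bl ω A P = 0 → bl ω B P = 0 → bl ω A Q = 0 → bl ω B Q = 0 → P ≠ 0 → ∃ t : F, Q = t • P := by
    intro A B hAB P Q a1 a2 a3 a4 hP
    rw [bl_eq_dot] at a1 a2 a3 a4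
    set A' : Fin 3 → F := ![A 0, A 1, ω * A 2]
    set B' : Fin 3 → F := ![B 0, B 1, ω * B 2]
    have hli : LinearIndependent F ![A', B'] := by
      rw [LinearIndependent.pair_iff] at hAB ⊢
      intro s t e
      refine hAB s t (funext fun k => ?_)
      have := congrFun e k
      fin_cases k
      · simpa [A', B'] using this
      · simpa [A', B'] using this
      · simp [A', B'] at this ⊢
        exact mul_left_cancel₀ hω0 (by linear_combination this)
    set C : Fin 3 → F := crossProduct A' B' with hC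
    have hC0 : C ≠ 0 := crossProduct_ne_zero_iff_linearIndependent.2 hli
    have hline : ∀ Z, A' ⬝ᵥ Z = 0 → B' ⬝ᵥ Z = 0 → ∃ t : F, Z = t • C := by
      intro Z h1 h4
      have h0 : crossProduct C Z = 0 := by
        simp [dotProduct, Fin.sum_univ_three] at h1 h4
        funext k
        rw [hC, cross_apply, cross_apply]
        fin_cases k <;> simp
        · linear_combination (B' 0) * h1 - (A' 0) * h4
        · linear_combination (B' 1) * h1 - (A' 1) * h4
        · linear_combination (B' 2) * h1 - (A' 2) * h4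
      have hdep : ¬ LinearIndependent F ![C, Z] := fun h => crossProduct_ne_zero_iff_linearIndependent.2 h h0
      rw [LinearIndependent.pair_iff' hC0] at hdep
      push Not at hdep
      obtain ⟨t, ht⟩ := hdep
      exact ⟨t, ht.symm⟩
    obtain ⟨t, ht⟩ := hline P a1 a2
    obtain ⟨u, hu⟩ := hline Q a3 a4
    have ht0 : t ≠ 0 := fun e => hP (by rw [ht, e, zero_smul])
    exact ⟨u / t, by rw [hu, ht, smul_smul, div_mul_cancel₀ _ ht0]⟩
  have bl_comm : ∀ X Y, bl ω X Y = bl ω Y X := fun X Y => by simp only [bl]; ring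
  have bl_add : ∀ X Y Z, bl ω Z (X + Y) = bl ω Z X + bl ω Z Y := fun X Y Z => by
    simp only [bl, Pi.add_apply]; ring
  have bl_smul : ∀ (t : F) X Z, bl ω Z (t • X) = t * bl ω Z X := fun t X Z => by
    simp only [bl, Pi.smul_apply, smul_eq_mul]; ring
  have complete : ∀ N' : Fin 3 → F, bl ω N' N' = 0 → bl ω N N' = 1 → ∃ P : Fin 3 → F,
      bl ω N P = 0 ∧ bl ω N' P = 0 ∧ bl ω P P ≠ 0 ∧
      ∀ X, X = bl ω X N' • N + bl ω X N • N' + (bl ω X P / bl ω P P) • P := by
    intro N' hN'N' hNN'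
    have hli : LinearIndependent F ![N, N'] := by
      rw [LinearIndependent.pair_iff' hN0]
      intro t e
      rw [← e, bl_smul, hNN, mul_zero] at hNN'
      exact zero_ne_one hNN'
    set A' : Fin 3 → F := ![N 0, N 1, ω * N 2]
    set B' : Fin 3 → F := ![N' 0, N' 1, ω * N' 2]
    set P : Fin 3 → F := crossProduct A' B' with hP
    have hNP : bl ω N P = 0 := by rw [bl_eq_dot]; exact dot_self_cross A' B'
    have hN'P : bl ω N' P = 0 := by rw [bl_eq_dot]; exact dot_cross_self A' B'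
    have hP0 : P ≠ 0 := by
      refine crossProduct_ne_zero_iff_linearIndependent.2 ?_
      rw [LinearIndependent.pair_iff] at hli ⊢
      intro s t e
      refine hli s t (funext fun k => ?_)
      have := congrFun e k
      fin_cases k
      · simpa [A', B'] using this
      · simpa [A', B'] using this
      · simp [A', B'] at this ⊢
        exact mul_left_cancel₀ hω0 (by linear_combination this)
    have hPP : bl ω P P ≠ 0 := by
      intro e
      have hliNP : LinearIndependent F ![N, P] := by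
        rw [LinearIndependent.pair_iff' hN0]
        intro t et
        rw [← et, bl_smul, bl_comm N' N, hNN', mul_one] at hN'P
        exact hP0 (by rw [← et, hN'P, zero_smul])
      obtain ⟨t, ht⟩ := line3 hliNP (P := N) (Q := P) hNN (by rw [bl_comm]; exact hNP) hNP e hN0
      rw [ht, bl_smul, bl_comm N' N, hNN', mul_one] at hN'P
      exact hP0 (by rw [ht, hN'P, zero_smul])
    refine ⟨P, hNP, hN'P, hPP, fun X => ?_⟩
    set Y := bl ω X N' • N + bl ω X N • N' + (bl ω X P / bl ω P P) • P with hY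
    have dot : ∀ Z, bl ω Z (X - Y) = bl ω Z X - (bl ω X N' * bl ω Z N + bl ω X N * bl ω Z N'
        + bl ω X P / bl ω P P * bl ω Z P) := fun Z => by
      simp only [hY, bl, Pi.sub_apply, Pi.add_apply, Pi.smul_apply, smul_eq_mul]; ring
    have d1 : bl ω N (X - Y) = 0 := by rw [dot, hNN, hNN', hNP, bl_comm N X]; ring
    have d2 : bl ω N' (X - Y) = 0 := by
      rw [dot, hN'N', bl_comm N' N, hNN', hN'P, bl_comm N' X]; ring
    have d3 : bl ω P (X - Y) = 0 := by
      rw [dot, bl_comm P N, hNP, bl_comm P N', hN'P, bl_comm P X]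
      field_simp
      ring
    have hliNP : LinearIndependent F ![N, P] := by
      rw [LinearIndependent.pair_iff' hN0]
      intro t et
      rw [← et, bl_smul, bl_comm N' N, hNN', mul_one] at hN'P
      exact hP0 (by rw [← et, hN'P, zero_smul])
    obtain ⟨t, ht⟩ := line3 hliNP (P := N) (Q := X - Y) hNN (by rw [bl_comm]; exact hNP) d1 d3 hN0
    rw [ht, bl_smul, bl_comm N' N, hNN', mul_one] at d2
    rw [d2, zero_smul, sub_eq_zero] at ht
    exact ht
  obtain ⟨N1, hN1, hNN1⟩ : ∃ N1 : Fin 3 → F, bl ω N1 N1 = 0 ∧ bl ω N N1 = 1 := by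
    obtain ⟨k, hk⟩ : ∃ k : Fin 3, bl ω N (Pi.single k 1) ≠ 0 := by
      by_contra hc'
      push Not at hc'
      refine hN0 (funext fun k => ?_)
      have := hc' k
      fin_cases k <;> simp [bl] at this ⊢ <;> first | exact this | exact this.resolve_left hω0
    set Y : Fin 3 → F := (bl ω N (Pi.single k 1))⁻¹ • Pi.single k 1 with hY
    have hNY : bl ω N Y = 1 := by rw [hY, bl_smul, inv_mul_cancel₀ hk]
    have hyy : bl ω (Y + (-(bl ω Y Y) / 2) • N) (Y + (-(bl ω Y Y) / 2) • N)
        = bl ω Y Y + 2 * (-(bl ω Y Y) / 2) * bl ω N Y + (-(bl ω Y Y) / 2) ^ 2 * bl ω N N := by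
      simp only [bl, Pi.add_apply, Pi.smul_apply, smul_eq_mul]; ring
    refine ⟨Y + (-(bl ω Y Y) / 2) • N, ?_, by rw [bl_add, hNY, bl_smul, hNN]; ring⟩
    rw [hyy, hNY, hNN]
    field_simp
    ring
  obtain ⟨P, hNP, hN1P, hPP, hdec⟩ := complete N1 hN1 hNN1
  -- the Siegel form of the rotation
  set A : Matrix (Fin 3) (Fin 3) F := (h : Matrix (Fin 3) (Fin 3) F) with hA
  set σ := bl ω P P with hσdef
  have hAlin : ∀ X, A *ᵥ X = bl ω X N1 • N + bl ω X N • (A *ᵥ N1) + (bl ω X P / σ) • (A *ᵥ P) :=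
    fun X => by
      conv_lhs => rw [hdec X]
      rw [mulVec_add, mulVec_add, mulVec_smul, mulVec_smul, mulVec_smul, hhN]
  set al := bl ω (A *ᵥ P) N1 with hal
  set be := bl ω (A *ᵥ P) P / σ with hbe
  set pp := bl ω (A *ᵥ N1) N1 with hpp'
  set qq := bl ω (A *ᵥ N1) P / σ with hqq
  have hAP : A *ᵥ P = al • N + be • P := by
    conv_lhs => rw [hdec (A *ᵥ P)]
    have : bl ω (A *ᵥ P) N = 0 := by
      rw [← hhN, hh, bl_comm, hNP]
    rw [this, zero_smul, add_zero]
  have hAN1 : A *ᵥ N1 = pp • N + N1 + qq • P := by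
    conv_lhs => rw [hdec (A *ᵥ N1)]
    have : bl ω (A *ᵥ N1) N = 1 := by
      rw [← hhN, hh, bl_comm, hNN1]
    rw [this, one_smul]
  have hbe2 : be * be = 1 := by
    have e := hh P P
    rw [hAP] at e
    have e' : bl ω (al • N + be • P) (al • N + be • P) = al * al * bl ω N N + 2 * al * be * bl ω N P + be * be * σ := by
      simp only [hσdef, bl, Pi.add_apply, Pi.smul_apply, smul_eq_mul]; ring
    rw [e', hNN, hNP] at e
    exact mul_right_cancel₀ hPP (by linear_combination e)
  have hbe1 : be = 1 := by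
    set T : Matrix (Fin 3) (Fin 3) F := Matrix.of fun p k => (![N, P, N1] k) p with hT
    have e : A * T = T * !![1, al, pp; 0, be, qq; 0, 0, 1] := by
      have ec : ∀ k, A *ᵥ (![N, P, N1] k) = T *ᵥ (fun l => !![1, al, pp; 0, be, qq; 0, 0, 1] l k) := by
        intro k
        fin_cases k
        · refine hhN.trans (funext fun p => ?_)
          simp [T, mulVec, dotProduct, Fin.sum_univ_three]
        · refine hAP.trans (funext fun p => ?_)
          simp [T, mulVec, dotProduct, Fin.sum_univ_three]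
          ring
        · refine hAN1.trans (funext fun p => ?_)
          simp [T, mulVec, dotProduct, Fin.sum_univ_three]
          ring
      ext p k
      exact congrFun (ec k) p
    have hTd : T.det ≠ 0 := by
      intro e0
      obtain ⟨v, hv0, hv⟩ := Matrix.exists_mulVec_eq_zero_iff.2 e0
      have ev : v 0 • N + v 1 • P + v 2 • N1 = 0 := by
        rw [← hv]; funext p
        simp [T, mulVec, dotProduct, Fin.sum_univ_three]; ring
      have d : ∀ Z, v 0 * bl ω Z N + v 1 * bl ω Z P + v 2 * bl ω Z N1 = 0 := fun Z => by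
        have e5 := congrArg (bl ω Z) ev
        rw [bl_add, bl_add, bl_smul, bl_smul, bl_smul] at e5
        simpa [bl] using e5
      have v2 : v 2 = 0 := by have := d N; rw [hNN, hNP, hNN1] at this; linear_combination this
      have v0 : v 0 = 0 := by
        have := d N1
        rw [bl_comm N1 N, hNN1, hN1P, hN1] at this
        linear_combination this
      have v1 : v 1 = 0 := by
        have := d P
        rw [v0, v2] at this
        have e' : v 1 * bl ω P P = 0 := by linear_combination this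
        exact (mul_eq_zero.1 e').resolve_right hPP
      exact hv0 (funext fun k => by fin_cases k <;> simp [v0, v1, v2])
    have e' := congrArg Matrix.det e
    rw [Matrix.det_mul, Matrix.det_mul, hA, hhdet, one_mul] at e'
    have e'' : (!![1, al, pp; 0, be, qq; 0, 0, 1] : Matrix (Fin 3) (Fin 3) F).det = be := by
      simp [Matrix.det_fin_three]
    rw [e''] at e'
    exact mul_left_cancel₀ hTd (by linear_combination -e')
  have hal' : al + qq * σ = 0 := by
    have e := hh P N1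
    rw [hAP, hAN1, hbe1] at e
    have e' : bl ω (al • N + (1 : F) • P) (pp • N + N1 + qq • P) = al * pp * bl ω N N + al * bl ω N N1
        + al * qq * bl ω N P + pp * bl ω N P + bl ω N1 P + qq * σ := by
      simp only [hσdef, bl, Pi.add_apply, Pi.smul_apply, smul_eq_mul]; ring
    rw [e', hNN, hNN1, hNP, hN1P, bl_comm P N1, hN1P] at e
    linear_combination e
  have hpp : 2 * pp + qq * qq * σ = 0 := by
    have e := hh N1 N1
    rw [hAN1] at e
    have e' : bl ω (pp • N + N1 + qq • P) (pp • N + N1 + qq • P) = pp * pp * bl ω N N + bl ω N1 N1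
        + qq * qq * σ + 2 * pp * bl ω N N1 + 2 * pp * qq * bl ω N P + 2 * qq * bl ω N1 P := by
      simp only [hσdef, bl, Pi.add_apply, Pi.smul_apply, smul_eq_mul]; ring
    rw [e', hNN, hN1, hNN1, hNP, hN1P] at e
    linear_combination e
  have hq0 : qq ≠ 0 := fun e => by
    have a0 : al = 0 := by rw [e] at hal'; linear_combination hal'
    have p0 : pp = 0 := by
      rw [e] at hpp
      exact (mul_eq_zero.1 (show (2 : F) * pp = 0 by linear_combination hpp)).resolve_left h2
    refine hh1 (gl_ext_mulVec fun X => ?_)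
    change A *ᵥ X = _
    rw [Units.val_one, one_mulVec, hAlin, hAP, hAN1, a0, p0, e, hbe1]
    simp only [zero_smul, zero_add, add_zero, one_smul]
    exact (hdec X).symm
  have hsg : ∀ X, A *ᵥ X = X + (bl ω X N * qq) • P
      + (-(bl ω X P * qq) - qq * qq * σ * bl ω X N / 2) • N := by
    intro X
    rw [hAlin, hAP, hAN1, hbe1]
    conv_rhs => arg 1; arg 1; rw [hdec X]
    have ea : al = -(qq * σ) := by linear_combination hal'
    have ep : pp = -(qq * qq * σ) / 2 := by field_simp; linear_combination hpp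
    rw [ea, ep]
    match_scalars <;> field_simp <;> ring
  -- the fourth power lives on the three-space
  have pow4 : ∀ X, A *ᵥ (A *ᵥ (A *ᵥ (A *ᵥ X))) = X + (bl ω X N * (4 * qq)) • P
      + (-(bl ω X P * (4 * qq)) - 4 * qq * (4 * qq) * σ * bl ω X N / 2) • N := by
    have two : ∀ (u : F), (∀ X, ∀ Y, Y = X + (bl ω X N * u) • P
        + (-(bl ω X P * u) - u * u * σ * bl ω X N / 2) • N → bl ω Y N = bl ω X N ∧
          bl ω Y P = bl ω X P + bl ω X N * u * σ) := by
      intro u X Y hY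
      constructor
      · rw [bl_comm Y N, hY, bl_add, bl_add, bl_smul, bl_smul, hNP, hNN, bl_comm N X]; ring
      · rw [bl_comm Y P, hY, bl_add, bl_add, bl_smul, bl_smul, bl_comm P N, hNP, ← hσdef,
          bl_comm P X]; ring
    intro X
    obtain ⟨a1, b1⟩ := two qq X _ (hsg X)
    rw [hsg X] at a1 b1 ⊢
    set X1 := X + (bl ω X N * qq) • P + (-(bl ω X P * qq) - qq * qq * σ * bl ω X N / 2) • N with hX1
    obtain ⟨a2, b2⟩ := two qq X1 _ (hsg X1)
    rw [hsg X1] at a2 b2 ⊢
    set X2 := X1 + (bl ω X1 N * qq) • P + (-(bl ω X1 P * qq) - qq * qq * σ * bl ω X1 N / 2) • N with hX2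
    obtain ⟨a3, b3⟩ := two qq X2 _ (hsg X2)
    rw [hsg X2] at a3 b3 ⊢
    set X3 := X2 + (bl ω X2 N * qq) • P + (-(bl ω X2 P * qq) - qq * qq * σ * bl ω X2 N / 2) • N with hX3
    rw [hsg X3, a3, b3, hX3, a2, b2, hX2, a1, b1, hX1]
    match_scalars <;> field_simp <;> ring
  set g4 := g * g * (g * g) with hg4
  have hg4M : g4 ∈ M := M.mul_mem (M.mul_mem hgM hgM) (M.mul_mem hgM hgM)
  have hg4act : ∀ v, act g4 v = act g (act g (act g (act g v))) := fun v => by
    simp only [hg4, act, gl_mulVec_mul]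
  have hgemb2 : ∀ X, act g (act g (emb X)) = emb (A *ᵥ (A *ᵥ X)) := fun X => by
    rw [hgemb, act, mulVec_smul]
    change ε • act g (emb _) = _
    rw [hgemb, smul_smul, hε, one_smul]
  have hg4emb : ∀ X, act g4 (emb X) = emb (A *ᵥ (A *ᵥ (A *ᵥ (A *ᵥ X)))) := fun X => by
    rw [hg4act, hgemb2, hgemb2]
  have hlin : ∀ (u : F) (v : ι → F), act g (u • v) = u • act g v := fun u v => by
    rw [act, mulVec_smul]
  have hg4cd : act g4 (E c) = E c ∧ act g4 (E d) = E d := by
    rcases hgcd with ⟨ec, ed⟩ | ⟨ec, ed⟩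
    · refine ⟨?_, ?_⟩
      · rw [hg4act, ec, hlin, ec, smul_smul, hsc, one_smul, ec, hlin, ec, smul_smul, hsc, one_smul]
      · rw [hg4act, ed, hlin, ed, smul_smul, htd, one_smul, ed, hlin, ed, smul_smul, htd, one_smul]
    · refine ⟨?_, ?_⟩
      · rw [hg4act, ec, hlin, ed, smul_smul, hlin, ec, smul_smul, hlin, ed, smul_smul]
        rw [show sc * td * sc * td = (sc * sc) * (td * td) by ring, hsc, htd, one_mul, one_smul]
      · rw [hg4act, ed, hlin, ec, smul_smul, hlin, ed, smul_smul, hlin, ec, smul_smul]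
        rw [show td * sc * td * sc = (sc * sc) * (td * td) by ring, hsc, htd, one_mul, one_smul]
  have hg4perp : ∀ v : ι → F, v ⬝ᵥ E i = 0 → v ⬝ᵥ E a = 0 → v ⬝ᵥ w = 0 → act g4 v = v := by
    intro v e1 e2 e3
    set v0 := v - v c • E c - v d • E d with hv0
    have hv : v = v0 + v c • E c + v d • E d := by rw [hv0]; abel
    have hf0 : act g4 v0 = v0 := by
      have h0 : act g v0 = v0 := hgperp v0
        (by simp only [hv0, sub_dotProduct, smul_dotProduct, e1, dE hic.symm, dE hid.symm]; simp)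
        (by simp only [hv0, sub_dotProduct, smul_dotProduct, e2, dE hac.symm, dE had.symm]; simp)
        (by simp only [hv0, sub_dotProduct, smul_dotProduct, e3]; simp [E, hwc, hwd])
        (by simp [hv0, E, hcd]) (by simp [hv0, E, hcd.symm])
      rw [hg4act, h0, h0, h0, h0]
    conv_lhs => rw [hv]
    rw [act, mulVec_add, mulVec_add, mulVec_smul, mulVec_smul]
    change act g4 v0 + v c • act g4 (E c) + v d • act g4 (E d) = v
    rw [hf0, hg4cd.1, hg4cd.2, ← hv]
  have split : ∀ v : ι → F, ∃ X : Fin 3 → F, ∃ v1 : ι → F, v = emb X + v1 ∧ v1 ⬝ᵥ E i = 0 ∧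
      v1 ⬝ᵥ E a = 0 ∧ v1 ⬝ᵥ w = 0 := fun v => by
    refine ⟨![v i, v a, (v ⬝ᵥ w) / ω], v - emb ![v i, v a, (v ⬝ᵥ w) / ω], by abel, ?_, ?_, ?_⟩
    · simp [emb, E, hia, hwi]
    · simp [emb, E, hia.symm, hwa]
    · simp [emb, sub_dotProduct, E, hwi, hwa, ← hω]
      field_simp
      ring
  have hT : (2 * qq) • emb P ∈ RG M (emb N) := by
    refine ⟨by rw [dotProduct_smul, emb_dot, hNP, smul_zero], g4, hg4M, isSg_of_act fun v => ?_⟩
    obtain ⟨X, v1, rfl, e1, e2, e3⟩ := split v
    rw [act, mulVec_add]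
    change act g4 (emb X) + act g4 v1 = _
    rw [hg4perp v1 e1 e2 e3, hg4emb, pow4]
    have p1 := emb_perp v1 N e1 e2 e3
    have p2 := emb_perp v1 P e1 e2 e3
    simp only [add_dotProduct, dotProduct_smul, smul_dotProduct, emb_dot, p1, p2, emb_lin,
      smul_eq_mul, add_zero, mul_zero, ← hσdef]
    match_scalars <;> field_simp <;> ring
  have hPmem : emb P ∈ RG M (emb N) := by
    have := RG_smul S (by rw [emb_dot, hNN]) hT (2 * qq)⁻¹
    rwa [smul_smul, inv_mul_cancel₀ (mul_ne_zero h2 hq0), one_smul] at this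
  -- an opposite singular point
  obtain ⟨k0, gk, εk, hk0, hkw, hne'⟩ : ∃ (k0 : GL (Fin 3) F) (gk : GL ι F) (εk : F),
      k0 ∈ R ∧ Wit k0 gk εk ∧ bl ω N ((k0 : Matrix (Fin 3) (Fin 3) F) *ᵥ N) ≠ 0 := by
    by_contra hcon'
    push Not at hcon'
    have ef := hcon' f _ _ hfR wit_f
    have ej := hcon' j _ _ hjR wit_j
    rw [fv] at ef
    rw [jv] at ej
    simp [bl] at ef ej
    have hNN' : N 0 * N 0 + N 1 * N 1 + ω * (N 2 * N 2) = 0 := by simpa [bl] using hNN
    have e2' : ω * (N 2 * N 2) = 0 := by linear_combination ej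
    have n2 : N 2 = 0 := mul_self_eq_zero.1 ((mul_eq_zero.1 e2').resolve_left hω0)
    rw [n2] at ef hNN'
    have e0 : (2 : F) * (N 0 * N 0) = 0 := by linear_combination ef + hNN'
    have n0 : N 0 = 0 := mul_self_eq_zero.1 ((mul_eq_zero.1 e0).resolve_left h2)
    rw [n0] at hNN'
    have n1 : N 1 = 0 := mul_self_eq_zero.1 (by linear_combination hNN')
    exact hN0 (funext fun l => by fin_cases l <;> simp [n0, n1, n2])
  obtain ⟨hkM, hεk, hkemb, -, -⟩ := hkw
  set K : Matrix (Fin 3) (Fin 3) F := (k0 : Matrix (Fin 3) (Fin 3) F) with hK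
  set e0 := bl ω N (K *ᵥ N) with he0
  set N' := e0⁻¹ • (K *ᵥ N) with hN'
  have hKN : bl ω (K *ᵥ N) (K *ᵥ N) = 0 := by rw [hk0.1, hNN]
  have hN'N' : bl ω N' N' = 0 := by rw [hN', bl_smul, bl_comm, bl_smul, hKN, mul_zero, mul_zero]
  have hNN' : bl ω N N' = 1 := by rw [hN', bl_smul, ← he0, inv_mul_cancel₀ hne']
  obtain ⟨s3, hs1, hs2, hs3, hdec'⟩ := complete N' hN'N' hNN'
  -- the root groups contain all of the plane orthogonal to their points
  have hs3mem : emb s3 ∈ RG M (emb N) := by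
    have e := hdec s3
    rw [bl_comm s3 N, hs1, zero_smul, add_zero] at e
    rw [e, emb_lin, emb_smul]
    exact RG_add (by rw [emb_dot, hNN]) (RG_self (by rw [emb_dot, hNN]) _)
      (RG_smul S (by rw [emb_dot, hNN]) hPmem _)
  have hs3mem' : emb s3 ∈ RG M (emb N') := by
    have hεk0 : εk ≠ 0 := fun e => by rw [e] at hεk; simp at hεk
    have h1 := RG_conj S hkM hPmem
    rw [hkemb, hkemb] at h1
    have h3' := RG_smul_base S (inv_ne_zero (mul_ne_zero hεk0 hne')) h1
    rw [inv_inv, smul_smul, smul_smul] at h3'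
    have eb : ((εk * e0)⁻¹ * εk) • emb (K *ᵥ N) = emb N' := by
      rw [hN', emb_smul]; congr 1; field_simp
    rw [eb] at h3'
    have hKP' : emb (K *ᵥ P) ∈ RG M (emb N') := by
      have := RG_smul S (by rw [emb_dot, hN'N']) h3' (εk * e0 * εk)⁻¹
      rwa [smul_smul, inv_mul_cancel₀ (mul_ne_zero (mul_ne_zero hεk0 hne') hεk0), one_smul] at this
    obtain ⟨X, hX⟩ : ∃ X, K *ᵥ X = s3 := ⟨_, gl_mulVec_inv_mulVec k0 s3⟩
    have hXN : bl ω X N = 0 := by
      rw [← hk0.1 X N, ← hK, hX, bl_comm]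
      have : K *ᵥ N = e0 • N' := by rw [hN', smul_smul, mul_inv_cancel₀ hne', one_smul]
      rw [this, bl_comm, bl_smul, bl_comm, hs2, mul_zero]
    have e := hdec X
    rw [hXN, zero_smul, add_zero] at e
    have e' : emb s3 = (bl ω X N1 * e0) • emb N' + (bl ω X P / σ) • emb (K *ᵥ P) := by
      rw [← hX]
      conv_lhs => rw [e]
      rw [mulVec_add, mulVec_smul, mulVec_smul,
        show K *ᵥ N = e0 • N' by rw [hN', smul_smul, mul_inv_cancel₀ hne', one_smul],
        emb_lin, smul_smul, emb_smul]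
    rw [e']
    exact RG_add (by rw [emb_dot, hN'N']) (RG_self (by rw [emb_dot, hN'N']) _)
      (RG_smul S (by rw [emb_dot, hN'N']) hKP' _)
  -- transitivity inside the three-space
  have trans : ∀ X Y : Fin 3 → F, bl ω X X = bl ω Y Y → bl ω X X ≠ 0 → ∃ gg ∈ M,
      act gg (emb X) = emb Y ∧
        ∀ v : ι → F, v ⬝ᵥ E i = 0 → v ⬝ᵥ E a = 0 → v ⬝ᵥ w = 0 → act gg v = v := by
    intro X Y hXY hX0
    have nrm : ∀ X : Fin 3 → F, 2 * bl ω X N' * bl ω X N + bl ω X s3 / bl ω s3 s3 * (bl ω X s3 / bl ω s3 s3)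
        * (emb s3 ⬝ᵥ emb s3) = bl ω X X := by
      intro X
      rw [emb_dot]
      have e := congrArg (bl ω X) (hdec' X)
      have e5 : ∀ A B C : F, bl ω X (A • N + B • N' + C • s3)
          = A * bl ω X N + B * bl ω X N' + C * bl ω X s3 := fun A B C => by
        simp only [bl, Pi.add_apply, Pi.smul_apply, smul_eq_mul]; ring
      rw [e5] at e
      rw [e]
      field_simp
      ring
    have eX : ∀ X : Fin 3 → F, bl ω X N' • emb N + bl ω X N • emb N' + (bl ω X s3 / bl ω s3 s3) • emb s3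
        = emb X := fun X => by
      conv_rhs => rw [hdec' X]
      simp only [emb, Pi.add_apply, Pi.smul_apply, smul_eq_mul]
      module
    obtain ⟨gg, hggM, hgg, hggfix⟩ := orbit S (n := emb N) (n' := emb N') (s := emb s3)
      (by rw [emb_dot, hNN]) (by rw [emb_dot, hN'N']) (by rw [emb_dot, hNN']) (by rw [emb_dot, hs1])
      (by rw [emb_dot, hs2]) (by rw [emb_dot]; exact hs3) hs3mem hs3mem' h3 hX0 (nrm X)
      ((nrm Y).trans hXY.symm)
    refine ⟨gg, hggM, ?_, fun v e1 e2 e3 => hggfix v (emb_perp v N e1 e2 e3) (emb_perp v N' e1 e2 e3)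
      (emb_perp v s3 e1 e2 e3)⟩
    rw [eX, eX] at hgg
    exact hgg
  -- two steps to a vector with a unit coordinate
  obtain ⟨yi, yw, hyy⟩ := binary_value h2 (one_ne_zero (α := F)) hω0 (show (-3 : F) ≠ 0 from neg_ne_zero.2 h3)
  obtain ⟨yt, ys, hts⟩ := binary_value h2 (one_ne_zero (α := F)) hω0
    (show (-(2 * 2) : F) ≠ 0 from neg_ne_zero.2 (mul_ne_zero h2 h2))
  obtain ⟨g1, hg1M, hg1a, hg1f⟩ := trans ![0, 1, 0] ![yi, 2, yw]
    (by simp [bl]; linear_combination -hyy) (by simp [bl])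
  obtain ⟨g2, hg2M, hg2a, hg2f⟩ := trans ![yi, 0, yw] ![1, yt, ys]
    (by simp [bl]; linear_combination hyy - hts)
    (by simp [bl]; intro e; exact h3 (by linear_combination hyy - e))
  set κ : GL ι F := mon (Equiv.swap a z * Equiv.swap z z') 1 with hκ
  have hκM : κ ∈ M := cycle_mem S haz hzz'n
  have κfix : ∀ l, l ≠ a → l ≠ z → l ≠ z' → act κ (E l : ι → F) = E l := fun l h1 h4 h5 => by
    rw [hκ, perm_E, Equiv.Perm.mul_apply, Equiv.swap_apply_of_ne_of_ne h4 h5,
      Equiv.swap_apply_of_ne_of_ne h1 h4]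
  have κa : act κ (E a : ι → F) = E z := by
    rw [hκ, perm_E, Equiv.Perm.mul_apply, Equiv.swap_apply_of_ne_of_ne haz haz', Equiv.swap_apply_left]
  have κz' : act κ (E z' : ι → F) = E a := by
    rw [hκ, perm_E, Equiv.Perm.mul_apply, Equiv.swap_apply_right, Equiv.swap_apply_right]
  have κw : act κ w = w := cycle_fix hwa hwz hwz'
  have κi : act κ (E i : ι → F) = E i := κfix i hia (hi' hzz) (hi' hzz')
  set g3 := κ * g2 * κ⁻¹ * g1 with hg3
  have hg3M : g3 ∈ M := M.mul_mem (M.mul_mem (M.mul_mem hκM hg2M) (M.inv_mem hκM)) hg1M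
  set r : ι → F := (2 : F) • E a + yt • E z + ys • w with hr
  have κinv : ∀ v u, act κ u = v → act κ⁻¹ v = u := fun v u e => by
    rw [← e, act, act, gl_inv_mulVec_mulVec]
  have h3act : ∀ v, act g3 v = act κ (act g2 (act κ⁻¹ (act g1 v))) := fun v => by
    simp only [hg3, act, gl_mulVec_mul]
  have hg3a : act g3 (E a) = E i + r := by
    have e1 : emb ![0, 1, 0] = E a := by simp [emb]
    rw [h3act, ← e1, hg1a]
    have e2 : act κ⁻¹ (emb ![yi, 2, yw]) = emb ![yi, 0, yw] + (2 : F) • E z' := by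
      refine κinv _ _ ?_
      rw [act, mulVec_add, mulVec_smul]
      change act κ (emb ![yi, 0, yw]) + (2 : F) • act κ (E z') = _
      rw [κz']
      simp only [emb, act, mulVec_add, mulVec_smul, Matrix.cons_val_zero, Matrix.cons_val_one,
        Matrix.cons_val, zero_smul, add_zero]
      change yi • act κ (E i) + yw • act κ w + (2 : F) • E a = _
      rw [κi, κw]
      abel
    rw [e2]
    simp only [act, mulVec_add, mulVec_smul]
    change act κ (act g2 (emb ![yi, 0, yw])) + (2 : F) • act κ (act g2 (E z')) = _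
    rw [hg2a, hg2f (E z') (dE (hi' hzz').symm) (dE haz'.symm) (by simp [E, hwz']), κz']
    simp only [emb, act, mulVec_add, mulVec_smul, Matrix.cons_val_zero, Matrix.cons_val_one,
      Matrix.cons_val, one_smul]
    change act κ (E i) + yt • act κ (E a) + ys • act κ w + (2 : F) • E a = _
    rw [κi, κa, κw, hr]
    abel
  have hg3c : act g3 (E c) = E c := by
    rw [hcz', h3act, hg1f (E z') (dE (hi' hzz').symm) (dE haz'.symm) (by simp [E, hwz'])]
    have e : act κ⁻¹ (E z' : ι → F) = E z := κinv _ _ (by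
      rw [hκ, perm_E, Equiv.Perm.mul_apply, Equiv.swap_apply_left,
        Equiv.swap_apply_of_ne_of_ne haz'.symm hzz'n.symm])
    rw [e, hg2f (E z) (dE (hi' hzz).symm) (dE haz.symm) (by simp [E, hwz]), hκ, perm_E,
      Equiv.Perm.mul_apply, Equiv.swap_apply_left,
      Equiv.swap_apply_of_ne_of_ne haz'.symm hzz'n.symm]
  have hrr : r ⬝ᵥ r = 0 := by
    simp [hr, add_dotProduct, dotProduct_add, E, haz, haz.symm, hwa, hwz, ← hω]
    linear_combination hts
  have hri : r i = 0 := by simp [hr, E, hia, hi' hzz, hwi]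
  have hrz : ∀ l, l ≠ a → l ≠ z → w l = 0 → r l = 0 := fun l h1 h4 h5 => by
    simp [hr, E, h1, h4, h5]
  have hrne : r ≠ 0 := fun e => h2 (by
    have := congrFun e a
    simpa [hr, E, haz, hwa] using this)
  have hmem : rr S.nd (E i + r) * rr S.nd (E i) ∈ M := by
    have hac' : rr S.nd (E a) * rr S.nd (E c) ∈ M := by rw [sgn_eq S hac]; exact sgn_mem S hac
    have h1 := M.mul_mem (M.mul_mem hg3M hac') (M.inv_mem hg3M)
    have hiso3 : g3 ∈ Cfsg.isometryGroup F ⇑(Q0 : QuadraticForm F (ι → F)) := Om.omega_le (S.le hg3M)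
    rw [show g3 * (rr S.nd (E a) * rr S.nd (E c)) * g3⁻¹ =
      (g3 * rr S.nd (E a) * g3⁻¹) * (g3 * rr S.nd (E c) * g3⁻¹) by group,
      rr_conj S.nd hiso3 (by rw [Q0_E]; exact one_ne_zero),
      rr_conj S.nd hiso3 (by rw [Q0_E]; exact one_ne_zero)] at h1
    change rr S.nd (act g3 (E a)) * rr S.nd (act g3 (E c)) ∈ M at h1
    rw [hg3a, hg3c] at h1
    have := M.mul_mem h1 (sgn_mem S hic.symm)
    rwa [← sgn_eq S hic.symm, mul_assoc, ← mul_assoc (rr S.nd (E c)), rr_mul_self, one_mul] at this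
  have hsgm := RG_smul S hrr (siegel_of_pair S (norm_E i) hrr (by simp [E, hri]) hmem) (-1)
  rw [neg_one_smul, neg_neg] at hsgm
  -- shrink the support to three coordinates
  have hiz : i ≠ z := hi' hzz
  have hiz' : i ≠ z' := hi' hzz'
  set μ : GL ι F := mon (Equiv.swap i z * Equiv.swap a z') 1 with hμ
  have hμM : μ ∈ M := alt_mem S (by
    rw [Equiv.Perm.sign_mul, Equiv.Perm.sign_swap hiz, Equiv.Perm.sign_swap haz']; simp)
  have μi : act μ (E i : ι → F) = E z := by
    rw [hμ, perm_E, Equiv.Perm.mul_apply, Equiv.swap_apply_of_ne_of_ne hia hiz',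
      Equiv.swap_apply_left]
  have μz : act μ (E z : ι → F) = E i := by
    rw [hμ, perm_E, Equiv.Perm.mul_apply, Equiv.swap_apply_of_ne_of_ne haz.symm hzz'n,
      Equiv.swap_apply_right]
  have μa : act μ (E a : ι → F) = E z' := by
    rw [hμ, perm_E, Equiv.Perm.mul_apply, Equiv.swap_apply_left,
      Equiv.swap_apply_of_ne_of_ne hiz'.symm hzz'n.symm]
  have μz' : act μ (E z' : ι → F) = E a := by
    rw [hμ, perm_E, Equiv.Perm.mul_apply, Equiv.swap_apply_right,
      Equiv.swap_apply_of_ne_of_ne hia.symm haz]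
  have μw : act μ w = w := funext fun l => by
    rw [hμ, perm_apply, ← Equiv.Perm.inv_def, _root_.mul_inv_rev, Equiv.swap_inv, Equiv.swap_inv,
      Equiv.Perm.mul_apply]
    by_cases l1 : l = i
    · subst l1; rw [Equiv.swap_apply_left, Equiv.swap_apply_of_ne_of_ne haz.symm hzz'n, hwi, hwz]
    by_cases l2 : l = z
    · subst l2; rw [Equiv.swap_apply_right, Equiv.swap_apply_of_ne_of_ne hia hiz', hwi, hwz]
    rw [Equiv.swap_apply_of_ne_of_ne l1 l2]
    by_cases l3 : l = a
    · subst l3; rw [Equiv.swap_apply_left, hwa, hwz']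
    by_cases l4 : l = z'
    · subst l4; rw [Equiv.swap_apply_right, hwa, hwz']
    rw [Equiv.swap_apply_of_ne_of_ne l3 l4]
  have μinv : ∀ v u, act μ u = v → act μ⁻¹ v = u := fun v u e => by
    rw [← e, act, act, gl_inv_mulVec_mulVec]
  obtain ⟨t, t', htt'⟩ := binary_value h2 (one_ne_zero (α := F)) one_ne_zero
    (show (-(2 * 2) : F) ≠ 0 from neg_ne_zero.2 (mul_ne_zero h2 h2))
  obtain ⟨g5, hg5M, hg5a, hg5f⟩ := trans ![yt, 0, ys] ![t, t', 0]
    (by simp [bl]; linear_combination hts - htt')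
    (by simp [bl]; intro e; exact mul_ne_zero h2 h2 (by linear_combination hts - e))
  set g4' := μ * g5 * μ⁻¹ with hg4'
  have hg4'M : g4' ∈ M := M.mul_mem (M.mul_mem hμM hg5M) (M.inv_mem hμM)
  have h4act : ∀ v, act g4' v = act μ (act g5 (act μ⁻¹ v)) := fun v => by
    simp only [hg4', act, gl_mulVec_mul]
  have hr4i : act g4' (E i : ι → F) = E i := by
    rw [h4act, μinv _ _ μz, hg5f (E z) (dE hiz.symm) (dE haz.symm) (by simp [E, hwz]), μz]
  have hr4a : act g4' (E a : ι → F) = E a := by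
    rw [h4act, μinv _ _ μz', hg5f (E z') (dE hiz'.symm) (dE haz'.symm) (by simp [E, hwz']), μz']
  set r2 : ι → F := (2 : F) • E a + t • E z + t' • E z' with hr2
  have hr4r : act g4' r = r2 := by
    have e0 : act μ⁻¹ (yt • E z + ys • w) = emb ![yt, 0, ys] := μinv _ _ (by
      simp only [emb, Matrix.cons_val_zero, Matrix.cons_val_one, Matrix.cons_val, zero_smul, add_zero,
        act, mulVec_add, mulVec_smul]
      change yt • act μ (E i) + ys • act μ w = _
      rw [μi, μw])
    have e1 : act g4' (yt • E z + ys • w) = t • E z + t' • E z' := by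
      rw [h4act, e0, hg5a]
      simp only [emb, Matrix.cons_val_zero, Matrix.cons_val_one, Matrix.cons_val, zero_smul, add_zero,
        act, mulVec_add, mulVec_smul]
      change t • act μ (E i) + t' • act μ (E a) = _
      rw [μi, μa]
    rw [hr, hr2, add_assoc, add_assoc]
    conv_lhs => rw [act, mulVec_add, mulVec_smul]
    change (2 : F) • act g4' (E a) + act g4' (yt • E z + ys • w) = _
    rw [hr4a, e1]
  have hr2E : (E i : ι → F) ∈ RG M r2 := by
    have := RG_conj S hg4'M hsgm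
    rwa [hr4i, hr4r] at this
  obtain ⟨p, hp⟩ := exists_fresh 4 {i, a, z, z'} Finset.card_le_four (by have := S.big; omega)
  obtain ⟨q, hq⟩ := exists_fresh 5 {i, a, z, z', p} Finset.card_le_five (by have := S.big; omega)
  obtain ⟨o, ho⟩ := exists_fresh 6 {i, a, z, z', p, q} Finset.card_le_six (by have := S.big; omega)
  simp only [Finset.mem_insert, Finset.mem_singleton, not_or] at hp hq ho
  have hz0' : ∀ l, l ≠ a → l ≠ z → l ≠ z' → r2 l = 0 := fun l h1 h3 h4 => by
    simp [hr2, E, h1, h3, h4]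
  refine omega_of_coord S (by rw [← hr4r, M_dot S hg4'M, hrr]) (fun e => h2 ?_)
    ⟨Ne.symm hp.1, Ne.symm hq.1, Ne.symm ho.1, Ne.symm hq.2.2.2.2, Ne.symm ho.2.2.2.2.1,
      Ne.symm ho.2.2.2.2.2⟩
    ⟨hz0' i hia hiz hiz', hz0' p hp.2.1 hp.2.2.1 hp.2.2.2, hz0' q hq.2.1 hq.2.2.1 hq.2.2.2.1,
      hz0' o ho.2.1 ho.2.2.1 ho.2.2.2.1⟩ hr2E
  have := congrFun e a
  simpa [hr2, E, haz, haz'] using this

/-- An overgroup with a non-monomial element is everything. -/
theorem omega_of_not_mon (h9 : 9 ≤ Fintype.card ι) {g : GL ι F} (hg : g ∈ M) (hgm : ¬ Mon g) :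
    omegaGL ⇑(Q0 : QuadraticForm F (ι → F)) ≤ M := by
  classical
  have h2 := S.two
  obtain ⟨g', hg', c, t, j, O, hte, hO, hOz, hjm⟩ :=
    exists_col (hyp S) h2 h9 ⟨g, hg, hgm⟩
  set v := act g' (E j) with hv
  have hvn : v ⬝ᵥ v = 1 := colnorm (hyp S) hg' j
  have htt : t * t = 1 := by
    have := colnorm (hyp S) hg' c
    rw [hte] at this
    simpa [E] using this
  have hjc : j ≠ c := fun e => by
    obtain ⟨y, hy, hy'⟩ := hjm c
    subst e
    exact hy' (by rw [hv, hte]; simp [E, hy])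
  have hvc : v c = 0 := by
    have := colorth (hyp S) hg' hjc
    rw [← hv, hte, dotProduct_smul, dotProduct_single, mul_one, smul_eq_mul] at this
    exact (mul_eq_zero.1 this).resolve_left (fun e' => by rw [e'] at htt; simp at htt)
  set Z := insert c O with hZdef
  have hcZ : c ∈ Z := Finset.mem_insert_self _ _
  have hZ : 3 ≤ Z.card := hO.trans (Finset.card_le_card (Finset.subset_insert _ _))
  have hvZ : ∀ z ∈ Z, v z = 0 := fun z hz => by
    rcases Finset.mem_insert.1 hz with rfl | hz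
    exacts [hvc, hOz z hz]
  obtain ⟨c', hc'Z⟩ : ∃ c', c' ∈ Z.erase c :=
    Finset.card_pos.1 (by rw [Finset.card_erase_of_mem hcZ]; omega)
  simp only [Finset.mem_erase] at hc'Z
  have hiso : g' ∈ Cfsg.isometryGroup F ⇑(Q0 : QuadraticForm F (ι → F)) := Om.omega_le (S.le hg')
  -- products with the reflection at the fixed coordinate
  have conjP : ∀ (u : ι → F), u ⬝ᵥ u ≠ 0 → rr S.nd u * rr S.nd (E c) ∈ M →
      rr S.nd (act g' u) * rr S.nd (E c) ∈ M := by
    intro u hu h
    have h1 := M.mul_mem (M.mul_mem hg' h) (M.inv_mem hg')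
    rw [show g' * (rr S.nd u * rr S.nd (E c)) * g'⁻¹ =
      (g' * rr S.nd u * g'⁻¹) * (g' * rr S.nd (E c) * g'⁻¹) by group,
      rr_conj S.nd hiso (by rw [Q0_apply]; exact hu),
      rr_conj S.nd hiso (by rw [Q0_E]; exact one_ne_zero)] at h1
    change rr S.nd (act g' u) * rr S.nd (act g' (E c)) ∈ M at h1
    rwa [hte, rr_smul S.nd (fun e' => by rw [e'] at htt; simp at htt)
      (by rw [Q0_E]; exact one_ne_zero)] at h1
  have hBv : rr S.nd v * rr S.nd (E c) ∈ M :=
    conjP (E j) (by rw [norm_E]; exact one_ne_zero) (by rw [sgn_eq S hjc]; exact sgn_mem S hjc)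
  by_contra hcon
  have hvne : ∀ p, v ≠ v p • E p := fun p e => by
    obtain ⟨y, hy, hy'⟩ := hjm p
    apply hy'
    rw [e]
    simp [E, hy]
  have hhalf : ∀ p, v p ≠ 0 → 2 * (v p * v p) = 1 := fun p hp => by
    by_contra hh
    exact hcon (omega_of_vector S hvn (hvZ c hcZ) hBv (by omega) hvZ hp hh (hvne p))
  obtain ⟨i, -, hi⟩ := hjm j
  obtain ⟨i', hii', hi'⟩ := hjm i
  set p : ι → F := v i • E i + v i' • E i' with hp
  set w := v - p with hw
  have hpn : p ⬝ᵥ p = 1 := by
    have e : p ⬝ᵥ p = v i * v i + v i' * v i' := by simp [p, E, hii', hii'.symm]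
    have e1 := hhalf i hi
    have e2 := hhalf i' hi'
    rw [e]
    exact mul_left_cancel₀ h2 (by linear_combination e1 + e2)
  have hwi : w i = 0 := by simp [w, p, E, hii'.symm]
  have hwi' : w i' = 0 := by simp [w, p, E, hii']
  have hwp : w ⬝ᵥ p = 0 := by simp [p, dotProduct_add, E, hwi, hwi']
  have hwZ : ∀ z ∈ Z, w z = 0 ∧ z ≠ i ∧ z ≠ i' := fun z hz => by
    have h1 : z ≠ i := fun e => hi (e ▸ hvZ z hz)
    have h3 : z ≠ i' := fun e => hi' (e ▸ hvZ z hz)
    exact ⟨by simp [w, p, E, h1, h3, hvZ z hz], h1, h3⟩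
  have hvpw : v = p + w := by rw [hw]; abel
  have hww : w ⬝ᵥ w = 0 := by
    have e : (p + w) ⬝ᵥ (p + w) = p ⬝ᵥ p + 2 * (w ⬝ᵥ p) + w ⬝ᵥ w := by
      simp only [add_dotProduct, dotProduct_add, dotProduct_comm p w]; ring
    rw [← hvpw, hvn, hpn, hwp] at e
    linear_combination -e
  by_cases hw0 : w = 0
  · -- the second configuration
    have hvp : v = p := by rw [hvpw, hw0, add_zero]
    set u : ι → F := E j - t • E c with hu
    have hun : u ⬝ᵥ u = 2 := by
      simp [u, E, hjc, hjc.symm]; linear_combination htt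
    have hxx := hhalf i hi
    have hx0 : v i ≠ 0 := hi
    have hu_mon : Mon (rr S.nd u) := by
      have hu' : ∀ e, act (rr S.nd u) (E e) = E e - ((E e : ι → F) ⬝ᵥ u) • u := fun e => by
        rw [rr_act S (by rw [hun]; exact h2), hun, mul_div_assoc, mul_comm, div_mul_cancel₀ _ h2]
      refine Mon_of_cols fun e => ⟨if e = j then c else if e = c then j else e, fun y hy => ?_⟩
      rw [hu']
      split_ifs at hy with h1 h3
      · subst h1
        by_cases hye : y = e
        · subst hye; simp [u, E, hjc]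
        · simp [u, E, hye, hy, hjc, hjc.symm]
      · subst h3
        by_cases hye : y = e
        · subst hye; simp [u, E, hjc.symm, h1]; linear_combination -htt
        · simp [u, E, hye, hy, hjc, hjc.symm]
      · simp [u, E, hy, h1, h3, Ne.symm h1, Ne.symm h3]
    have hmemu : rr S.nd u * rr S.nd (E c) ∈ M := by
      refine S.mon_mem _ (pair_omega S (by rw [hun]; exact h2) (by rw [norm_E]; exact one_ne_zero) ?_)
        (Mon_mul hu_mon (rr_Mon_E S c))
      rw [hun, norm_E, mul_one]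
      exact ⟨(v i)⁻¹, by field_simp; linear_combination hxx⟩
    have hb1 := M.mul_mem (conjP u (by rw [hun]; exact h2) hmemu) (sgn_mem S (Ne.symm hc'Z.1))
    rw [← sgn_eq S (Ne.symm hc'Z.1), mul_assoc, ← mul_assoc (rr S.nd (E c)), rr_mul_self,
      one_mul] at hb1
    have eu : act g' u = v - E c := by
      rw [hu, act, mulVec_sub, mulVec_smul]
      change v - t • act g' (E c) = _
      rw [hte, smul_smul, htt, one_smul]
    rw [eu] at hb1
    set b : ι → F := v i • (v - E c) with hb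
    have hqn : (v - E c) ⬝ᵥ (v - E c) = 2 := by
      simp [sub_dotProduct, dotProduct_sub, hvn, E, hvZ c hcZ]; ring
    rw [← rr_smul S.nd hx0 (x := v - E c) (by rw [Q0_apply, hqn]; exact h2), ← hb] at hb1
    obtain ⟨-, hci, hci'⟩ := hwZ c hcZ
    have hbsupp : ∀ l, l ≠ i → l ≠ i' → l ≠ c → b l = 0 := fun l h1 h3 h4 => by
      simp [b, E, h4]; rw [hvp]; simp [p, E, h1, h3]
    have hbn : b ⬝ᵥ b = 1 := by
      simp only [hb, smul_dotProduct, dotProduct_smul, hqn, smul_eq_mul]
      linear_combination hxx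
    have hbi : b i = v i * v i := by simp [b, E, hci.symm]
    refine hcon (omega_of_vector S hbn (z0 := c')
      (hbsupp c' (hwZ c' hc'Z.2).2.1 (hwZ c' hc'Z.2).2.2 hc'Z.1) hb1
      (Z := ({i, i', c} : Finset ι)ᶜ) ?_ ?_ (i := i) ?_ ?_ ?_)
    · have := Finset.card_le_three (a := i) (b := i') (c := c)
      have := S.big
      rw [Finset.card_compl]; omega
    · intro l hl
      simp only [Finset.mem_compl, Finset.mem_insert, Finset.mem_singleton, not_or] at hl
      exact hbsupp l hl.1 hl.2.1 hl.2.2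
    · rw [hbi]; exact mul_ne_zero hx0 hx0
    · rw [hbi]
      intro e
      have e' : (2 : F) * (2 * (v i * v i * (v i * v i))) = 1 := by
        linear_combination (2 * (v i * v i) + 1) * hxx
      rw [e] at e'
      exact one_ne_zero (α := F) (by linear_combination e')
    · intro e
      have h4 := congrFun e c
      simp [b, E, hci, hvZ c hcZ] at h4
      exact hi h4
  · -- a transvection
    refine hw0 ?_
    exfalso
    apply hcon
    have hpmon : Mon (rr S.nd p) := by
      refine Mon_of_cols fun e => ⟨if e = i then i' else if e = i' then i else e, fun y hy => ?_⟩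
      rw [rr_act_unit S hpn]
      have e1 := hhalf i hi
      have e2 := hhalf i' hi'
      split_ifs at hy with h1 h3
      · subst h1
        by_cases hye : y = e
        · subst hye; simp [p, E, hii'.symm]; linear_combination -e1
        · simp [p, E, hye, hy, hii', hii'.symm]
      · subst h3
        by_cases hye : y = e
        · subst hye; simp [p, E, h1]; linear_combination -e2
        · simp [p, E, hye, hy, hii', hii'.symm]
      · simp [p, E, hy, h1, h3, Ne.symm h1, Ne.symm h3]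
    have hpc : rr S.nd p * rr S.nd (E c) ∈ M := S.mon_mem _
      (pair_omega S (by rw [hpn]; exact one_ne_zero) (by rw [norm_E]; exact one_ne_zero)
        (by rw [hpn, norm_E, one_mul]; exact IsSquare.one)) (Mon_mul hpmon (rr_Mon_E S c))
    have hvp' : rr S.nd (p + w) * rr S.nd p ∈ M := by
      have := M.mul_mem hBv (M.inv_mem hpc)
      rw [_root_.mul_inv_rev, OmD.rr_inv, OmD.rr_inv, mul_assoc, ← mul_assoc (rr S.nd (E c)),
        rr_mul_self, one_mul, hvpw] at this
      exact this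
    have hsg := RG_smul S hww (siegel_of_pair S hpn hww hwp hvp') (-1)
    rw [neg_one_smul, neg_neg] at hsg
    obtain ⟨hwc, hci, hci'⟩ := hwZ c hcZ
    have h2nd := RG_conj S (sgn_mem S (Ne.symm hci)) hsg
    rw [sgn_fix (Ne.symm hci) hwi hwc] at h2nd
    have hsum := RG_smul S hww (RG_add hww hsg h2nd) (2 * v i')⁻¹
    have e : (2 * v i')⁻¹ • (p + act (sgn i c) p) = E i' := by
      funext l
      rw [Pi.smul_apply, Pi.add_apply, sgn_apply (Ne.symm hci)]
      by_cases h1 : l = i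
      · subst h1; simp [p, E, hii'.symm]
      by_cases h3 : l = i'
      · subst h3; simp [p, E, h1, hci'.symm]; field_simp; ring
      by_cases h4 : l = c
      · subst h4; simp [p, E, h1, h3]
      simp [p, E, h1, h3, h4]
    rw [e] at hsum
    obtain ⟨hwc', -, hci''⟩ := hwZ c' hc'Z.2
    obtain ⟨z, hz⟩ : ∃ z, z ∈ (Z.erase c).erase c' := Finset.card_pos.1 (by
      rw [Finset.card_erase_of_mem (by simp [hc'Z.1, hc'Z.2]), Finset.card_erase_of_mem hcZ]; omega)
    simp only [Finset.mem_erase] at hz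
    obtain ⟨hwz, -, hzi'⟩ := hwZ z hz.2.2
    exact omega_of_coord S hww hw0
      ⟨hci'.symm, hci''.symm, hzi'.symm, hc'Z.1.symm, hz.2.1.symm, hz.1.symm⟩
      ⟨hwi', hwc, hwc', hwz⟩ hsum

end CfsgLib.ClassicalMax.OmL
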