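/-
Overgroups of the monomial group in `Ω` of a sum of seven squares over a prime field: dihedral groups
of pairs of reflections lead from a non-monomial element to a vector with three zero coordinates.
-/
import Cfsg.Agent.Lib.ClassicalMax.OrthMonEscape
set_option autoImplicit false
set_option linter.unusedSectionVars false

namespace CfsgLib.ClassicalMax.OmL

open Matrix Cfsg.Geo Module
open CfsgLib.ClassicalMax.MonG
open CfsgLib.ClassicalMax.OmD (rr rr_mul_self)

variable {ι : Type} [Fintype ι] [DecidableEq ι] {F : Type*} [Field F]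

/-- The coordinates where a vector is non-zero. -/
noncomputable def supp (v : ι → F) : Finset ι := by classical exact Finset.univ.filter fun l => v l ≠ 0

lemma mem_supp {v : ι → F} {l : ι} : l ∈ supp v ↔ v l ≠ 0 := by classical simp [supp]

lemma dot_supp (v w : ι → F) : v ⬝ᵥ w = ∑ l ∈ supp v, v l * w l := by
  rw [dotProduct]
  refine (Finset.sum_subset (Finset.subset_univ _) fun l _ hl => ?_).symm
  rw [not_not.1 (mt mem_supp.2 hl), zero_mul]

lemma zero_of_notMem {v : ι → F} {l : ι} (h : l ∉ supp v) : v l = 0 := not_not.1 (mt mem_supp.2 h)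

/-- The negative of the reflection in the unit vector lies in the group. -/
def Rf (M : Subgroup (GL ι F)) (b : ι → F) : Prop :=
  b ⬝ᵥ b = 1 ∧ ∃ m ∈ M, ∀ x, act m x = (2 * (x ⬝ᵥ b)) • b - x

variable [Fintype F] {M : Subgroup (GL ι F)} (S : Setup M)

include S

lemma Rf_neg {b : ι → F} (h : Rf M b) : Rf M (-b) := by
  obtain ⟨hb, m, hm, hmx⟩ := h
  refine ⟨by rw [neg_dotProduct, dotProduct_neg, neg_neg, hb], m, hm, fun x => ?_⟩
  rw [hmx, dotProduct_neg]
  module

lemma Rf_conj {g : GL ι F} (hg : g ∈ M) {b : ι → F} (h : Rf M b) : Rf M (act g b) := by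
  obtain ⟨hb, m, hm, hmx⟩ := h
  refine ⟨by rw [M_dot S hg, hb], g * m * g⁻¹, M.mul_mem (M.mul_mem hg hm) (M.inv_mem hg), fun x => ?_⟩
  have e : x ⬝ᵥ act g b = act g⁻¹ x ⬝ᵥ b := by
    conv_lhs => rw [show x = act g (act g⁻¹ x) from (gl_mulVec_inv_mulVec g x).symm]
    rw [M_dot S hg]
  rw [e, act, gl_mulVec_mul, gl_mulVec_mul]
  change act g (act m (act g⁻¹ x)) = _
  rw [hmx, act, mulVec_sub, mulVec_smul]
  change _ - act g (act g⁻¹ x) = _
  rw [act, act, gl_mulVec_inv_mulVec]

/-- The image of one vector under the element of another. -/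
lemma Rf_refl {v w : ι → F} (hv : Rf M v) (hw : Rf M w) : Rf M ((2 * (v ⬝ᵥ w)) • w - v) := by
  obtain ⟨-, m, hm, hmx⟩ := hw
  have := Rf_conj S hm hv
  rwa [hmx] at this

lemma act_mul (g h : GL ι F) (x : ι → F) : act (g * h) x = act g (act h x) := gl_mulVec_mul g h x

/-- Coordinate vectors. -/
lemma Rf_E (h7 : Fintype.card ι = 7) (a : ι) : Rf M (E a) := by
  obtain ⟨e⟩ := (Fintype.card_eq.1 (by simp [h7]) : Nonempty (Fin 7 ≃ ι))
  obtain ⟨e, rfl⟩ : ∃ e : Fin 7 ≃ ι, e 0 = a :=
    ⟨(Equiv.swap 0 (e.symm a)).trans e, by simp⟩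
  have hne : ∀ i j : Fin 7, i ≠ j → e i ≠ e j := fun i j h he => h (e.injective he)
  refine ⟨norm_E _, sgn (e 1) (e 2) * (sgn (e 3) (e 4) * sgn (e 5) (e 6)),
    M.mul_mem (sgn_mem S (hne 1 2 (by decide))) (M.mul_mem (sgn_mem S (hne 3 4 (by decide)))
      (sgn_mem S (hne 5 6 (by decide)))), fun x => funext fun l => ?_⟩
  obtain ⟨i, rfl⟩ := e.surjective l
  rw [act_mul S, act_mul S, sgn_apply (hne 1 2 (by decide)), sgn_apply (hne 3 4 (by decide)),
    sgn_apply (hne 5 6 (by decide))]
  simp only [e.apply_eq_iff_eq, Pi.sub_apply, Pi.smul_apply, smul_eq_mul, dotProduct_single, mul_one,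
    Pi.single_apply]
  fin_cases i <;> simp [E] <;> ring

/-- Unit vectors with monomial reflection. -/
lemma Rf_of_mon (h7 : Fintype.card ι = 7) {b : ι → F} (hb : b ⬝ᵥ b = 1) (hm : Mon (rr S.nd b)) :
    Rf M b := by
  obtain ⟨a⟩ : Nonempty ι := Fintype.card_pos_iff.1 (by omega)
  obtain ⟨-, m, hmM, hmx⟩ := Rf_E S h7 a
  refine ⟨hb, m * (rr S.nd (E a) * rr S.nd b), M.mul_mem hmM (S.mon_mem _
    (pair_omega S (by rw [norm_E]; exact one_ne_zero) (by rw [hb]; exact one_ne_zero)
      (by rw [norm_E, hb, one_mul]; exact IsSquare.one)) (Mon_mul (rr_Mon_E S a) hm)), fun x => ?_⟩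
  rw [act_mul S, act_mul S, hmx]
  have e : ∀ y : ι → F, (2 * (act (rr S.nd (E a)) y ⬝ᵥ E a)) • E a - act (rr S.nd (E a)) y = -y := by
    intro y
    rw [rr_act_unit S (norm_E a), sub_dotProduct, smul_dotProduct, norm_E, smul_eq_mul, mul_one]
    module
  rw [e, rr_act_unit S hb, neg_sub]

lemma rr_pair {b z : ι → F} (hb : Rf M b) (hz : Rf M z) : rr S.nd b * rr S.nd z ∈ M := by
  obtain ⟨hb1, m, hm, hmx⟩ := hb
  obtain ⟨hz1, m', hm', hmx'⟩ := hz
  rw [show rr S.nd b * rr S.nd z = m * m' from gl_ext_mulVec fun x => ?_]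
  · exact M.mul_mem hm hm'
  change act _ x = act _ x
  rw [act_mul S, act_mul S, rr_act_unit S hb1, rr_act_unit S hz1, hmx, hmx']
  simp only [sub_dotProduct, smul_dotProduct, smul_eq_mul]
  module

/-- A vector of the set with three or four non-zero coordinates. -/
lemma omega_of_small (h7 : Fintype.card ι = 7) {b : ι → F} (hb : Rf M b) (h3 : 3 ≤ (supp b).card)
    (h4 : (supp b).card ≤ 4) : omegaGL ⇑(Q0 : QuadraticForm F (ι → F)) ≤ M := by
  classical
  have h2 := S.two
  obtain ⟨i, hi, hhalf⟩ : ∃ i ∈ supp b, 2 * (b i * b i) ≠ 1 := by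
    by_contra h
    push Not at h
    have h1 : ∑ l ∈ supp b, 2 * (b l * b l) = ∑ l ∈ supp b, (1 : F) := Finset.sum_congr rfl h
    rw [← Finset.mul_sum, ← dot_supp, hb.1, Finset.sum_const, nsmul_one] at h1
    rcases (show (supp b).card = 3 ∨ (supp b).card = 4 by omega) with e | e <;> rw [e] at h1
    · exact one_ne_zero (α := F) (by linear_combination -h1)
    · exact h2 (by linear_combination -h1)
  obtain ⟨z0, hz0⟩ : ∃ z0, z0 ∈ (supp b)ᶜ := Finset.card_pos.1 (by rw [Finset.card_compl]; omega)
  refine omega_of_vector S hb.1 (zero_of_notMem (Finset.mem_compl.1 hz0))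
    (rr_pair S hb (Rf_E S h7 z0)) (Z := (supp b)ᶜ) (by rw [Finset.card_compl]; omega)
    (fun z hz => zero_of_notMem (Finset.mem_compl.1 hz)) (mem_supp.1 hi) hhalf fun e => ?_
  have : supp b ⊆ {i} := fun l hl => Finset.mem_singleton.2 (by
    by_contra hli
    exact mem_supp.1 hl (by rw [e]; simp [E, hli]))
  have := Finset.card_le_card this
  simp at this
  omega

/-- A vector of the set with two non-zero coordinates of different squares. -/
lemma omega_of_two (h7 : Fintype.card ι = 7) {b : ι → F} (hb : Rf M b) {a c : ι}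
    (hsq : b a * b a ≠ b c * b c) (ha : b a ≠ 0) (hc : b c ≠ 0)
    (hs : ∀ l, l ≠ a → l ≠ c → b l = 0) : omegaGL ⇑(Q0 : QuadraticForm F (ι → F)) ≤ M := by
  classical
  have hac : a ≠ c := fun e => hsq (by rw [e])
  obtain ⟨z0, hz0⟩ := exists_fresh 2 {a, c} Finset.card_le_two (by omega)
  simp only [Finset.mem_insert, Finset.mem_singleton, not_or] at hz0
  have hn : b a * b a + b c * b c = 1 := by
    rw [← hb.1, dotProduct, Fintype.sum_eq_add a c hac fun l hl => by rw [hs l hl.1 hl.2, zero_mul]]
  refine omega_of_vector S hb.1 (hs z0 hz0.1 hz0.2) (rr_pair S hb (Rf_E S h7 z0))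
    (Z := ({a, c} : Finset ι)ᶜ) ?_ (fun z hz => ?_) ha (fun e => hsq ?_) fun e => hc ?_
  · rw [Finset.card_compl, Finset.card_pair hac]; omega
  · simp only [Finset.mem_compl, Finset.mem_insert, Finset.mem_singleton, not_or] at hz
    exact hs z hz.1 hz.2
  · linear_combination e - hn
  · rw [e]; simp [E, hac.symm]

omit S in
/-- Flipping signs outside four coordinates. -/
lemma flip_apply {a b c d : ι} (hab : a ≠ b) (hcd : c ≠ d) (hac : a ≠ c) (had : a ≠ d) (hbc : b ≠ c)
    (hbd : b ≠ d) (v : ι → F) (l : ι) : act (sgn a b * sgn c d) v l =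
      if l ∈ ({a, b, c, d} : Finset ι) then -v l else v l := by
  rw [act, gl_mulVec_mul]
  change act (sgn a b) (act (sgn c d) v) l = _
  rw [sgn_apply hab, sgn_apply hcd]
  simp only [Finset.mem_insert, Finset.mem_singleton]
  by_cases h1 : l = a
  · subst h1; simp [hac, had]
  by_cases h2 : l = b
  · subst h2; simp [hbc, hbd]
  simp [h1, h2]

/-- The vector with signs changed outside the set. -/
lemma Rf_flip (h7 : Fintype.card ι = 7) {T : Finset ι} (hT : 3 ≤ T.card) (hT4 : T.card ≤ 4)
    {v : ι → F} (hv : Rf M v) : Rf M (fun l => if l ∈ T then v l else -v l) := by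
  classical
  have key : ∀ U : Finset ι, U.card = 4 → Rf M (fun l => if l ∈ U then -v l else v l) := by
    intro U hU
    obtain ⟨a, ha⟩ := Finset.card_pos.1 (by omega : 0 < U.card)
    obtain ⟨b, c, d, hbc, hbd, hcd, he⟩ :=
      Finset.card_eq_three.1 (show (U.erase a).card = 3 by rw [Finset.card_erase_of_mem ha]; omega)
    have hU' : U = {a, b, c, d} := by rw [← Finset.insert_erase ha, he]
    have hna : ∀ x ∈ ({b, c, d} : Finset ι), a ≠ x := fun x hx e =>
      Finset.notMem_erase a U (by rw [he]; exact e ▸ hx)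
    have hab := hna b (by simp)
    have hac := hna c (by simp)
    have had := hna d (by simp)
    have := Rf_conj S (M.mul_mem (sgn_mem S hab) (sgn_mem S hcd)) hv
    convert this using 1
    funext l
    rw [flip_apply hab hcd hac had hbc hbd, hU']
  rcases (show T.card = 3 ∨ T.card = 4 by omega) with e | e
  · convert key Tᶜ (by rw [Finset.card_compl]; omega) using 1
    funext l
    by_cases h : l ∈ T <;> simp [h]
  · convert Rf_neg S (key T e) using 1
    funext l
    by_cases h : l ∈ T <;> simp [h]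

/-- Splitting the support into two parts which are both anisotropic. -/
lemma omega_of_split (h7 : Fintype.card ι = 7) {v : ι → F} (hv : Rf M v) {T : Finset ι}
    (hT : T ⊆ supp v) (hT3 : 3 ≤ T.card) (hT4 : T.card ≤ 4)
    (hS : ((supp v \ T).card = 3 ∨ (supp v \ T).card = 4) ∨
      ∃ a c, v a * v a ≠ v c * v c ∧ a ∈ supp v \ T ∧ c ∈ supp v \ T ∧
        (supp v \ T).card = 2)
    (hq0 : ∑ l ∈ T, v l * v l ≠ 0) (hq1 : ∑ l ∈ T, v l * v l ≠ 1) :
    omegaGL ⇑(Q0 : QuadraticForm F (ι → F)) ≤ M := by
  classical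
  have h2 := S.two
  set q := ∑ l ∈ T, v l * v l with hq
  set P : ι → F := fun l => if l ∈ T then v l else 0 with hP
  set Q : ι → F := fun l => if l ∈ T then 0 else v l with hQ
  set w : ι → F := fun l => if l ∈ T then v l else -v l with hw
  have hvw : v + w = (2 : F) • P ∧ v - w = (2 : F) • Q := by
    constructor <;> funext l <;> by_cases h : l ∈ T <;> simp [hP, hQ, hw, h] <;> ring
  have hwR : Rf M w := Rf_flip S h7 hT3 hT4 hv
  have hPP : P ⬝ᵥ P = q := by
    rw [hq, dotProduct, ← Finset.sum_subset (Finset.subset_univ T) fun l _ hl => by simp [hP, hl]]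
    exact Finset.sum_congr rfl fun l hl => by simp [hP, hl]
  have hPQ : P ⬝ᵥ Q = 0 := by
    rw [dotProduct]; exact Finset.sum_eq_zero fun l _ => by by_cases h : l ∈ T <;> simp [hP, hQ, h]
  have hvPQ : v = P + Q := by funext l; by_cases h : l ∈ T <;> simp [hP, hQ, h]
  have hQQ : Q ⬝ᵥ Q = 1 - q := by
    have := hv.1
    rw [hvPQ, add_dotProduct, dotProduct_add, dotProduct_add, hPP, hPQ, dotProduct_comm Q P, hPQ] at this
    linear_combination this
  set c := v ⬝ᵥ w with hc
  have hwPQ : w = P - Q := by funext l; by_cases h : l ∈ T <;> simp [hP, hQ, hw, h]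
  have hc' : c = 2 * q - 1 := by
    rw [hc, hwPQ, hvPQ, add_dotProduct, dotProduct_sub, dotProduct_sub, hPP, hPQ, dotProduct_comm Q P,
      hPQ, hQQ]
    ring
  obtain ⟨hv1, mv, hmv, hmvx⟩ := hv
  obtain ⟨hw1, mw, hmw, hmwx⟩ := hwR
  set t := mv * mw with ht
  have htM : t ∈ M := M.mul_mem hmv hmw
  have inv : ∀ {u : ι → F} {m : GL ι F}, u ⬝ᵥ u = 1 → (∀ x, act m x = (2 * (x ⬝ᵥ u)) • u - x) →
      m * m = 1 := fun hu hm => gl_ext_mulVec fun x => by
    change act (_ * _) x = act (1 : GL ι F) x
    rw [act_mul S, hm, hm, sub_dotProduct, smul_dotProduct, hu]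
    simp only [act, Units.val_one, one_mulVec, smul_eq_mul]
    module
  have hmv2 := inv hv1 hmvx
  have hmw2 := inv hw1 hmwx
  have htperp : ∀ x, x ⬝ᵥ v = 0 → x ⬝ᵥ w = 0 → act t x = x := fun x h1 h3 => by
    rw [ht, act_mul S, hmwx, h3, hmvx]
    simp [h1]
  -- an element negating both
  suffices hz : (∃ z ∈ M, act z v = -v ∧ act z w = -w ∧ ∀ x, x ⬝ᵥ v = 0 → x ⬝ᵥ w = 0 → act z x = x) ∨
      ∃ u, Rf M u ∧ ∃ k : F, k • u = (2 : F) • P ∨ k • u = (2 : F) • Q by
    rcases hz with ⟨z, hzM, hzv, hzw, hzp⟩ | ⟨u, hu, k, hk⟩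
    · have hzP : act z P = -P := by
        refine smul_right_injective _ h2 ?_
        change (2 : F) • act z P = (2 : F) • -P
        rw [smul_neg, ← hvw.1, act, ← mulVec_smul, ← hvw.1, mulVec_add]
        change act z v + act z w = _
        rw [hzv, hzw, neg_add]
      -- a coordinate of the set
      obtain ⟨c0, hc0, hc0'⟩ : ∃ c0 ∈ T, T.card = 4 ∨ 2 * (v c0 * v c0) ≠ q := by
        rcases (show T.card = 3 ∨ T.card = 4 by omega) with e | e
        · by_contra h
          push Not at h
          have h1 : ∑ l ∈ T, 2 * (v l * v l) = ∑ l ∈ T, q := Finset.sum_congr rfl fun l hl => (h l hl).2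
          rw [← Finset.mul_sum, ← hq, Finset.sum_const, e, nsmul_eq_mul] at h1
          exact hq0 (by push_cast at h1; linear_combination -h1)
        · obtain ⟨c0, hc0⟩ := Finset.card_pos.1 (by omega : 0 < T.card)
          exact ⟨c0, hc0, Or.inl e⟩
      set k := v c0 / q with hk
      set r := E c0 - k • P with hr
      have hr0 : r ⬝ᵥ P = 0 := by
        rw [hr, sub_dotProduct, smul_dotProduct, hPP, single_dotProduct, one_mul,
          show P c0 = v c0 by simp [hP, hc0], smul_eq_mul, hk, div_mul_cancel₀ _ hq0, sub_self]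
      have hrQ : r ⬝ᵥ Q = 0 := by
        rw [hr, sub_dotProduct, smul_dotProduct, hPQ, single_dotProduct, one_mul,
          show Q c0 = 0 by simp [hQ, hc0], smul_zero, sub_zero]
      have hrx : act z r = r := hzp r (by rw [hvPQ, dotProduct_add, hr0, hrQ, add_zero])
        (by rw [hwPQ, dotProduct_sub, hr0, hrQ, sub_zero])
      have e : act z (E c0) = E c0 - (2 * k) • P := by
        have e0 : E c0 = r + k • P := by rw [hr, sub_add_cancel]
        conv_lhs => rw [e0]
        rw [act, mulVec_add, mulVec_smul]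
        change act z r + k • act z P = _
        rw [hrx, hzP, e0]
        module
      have hRf := Rf_conj S hzM (Rf_E S h7 c0)
      rw [e] at hRf
      have hk0 : k ≠ 0 := div_ne_zero (mem_supp.1 (hT hc0)) hq0
      have hsub : supp (E c0 - (2 * k) • P) ⊆ T := fun l hl => by
        by_contra hlT
        have : l ≠ c0 := fun e' => hlT (e' ▸ hc0)
        exact mem_supp.1 hl (by simp [E, hP, hlT, this])
      have hsup : T.erase c0 ⊆ supp (E c0 - (2 * k) • P) := fun l hl => by
        rw [Finset.mem_erase] at hl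
        rw [mem_supp]
        simp [E, hP, hl.2, hl.1, h2, hk0, mem_supp.1 (hT hl.2)]
      refine omega_of_small S h7 hRf ?_ ((Finset.card_le_card hsub).trans hT4)
      have h1 := Finset.card_le_card hsup
      rw [Finset.card_erase_of_mem hc0] at h1
      rcases hc0' with e4 | e4
      · omega
      · have : c0 ∈ supp (E c0 - (2 * k) • P) := by
          rw [mem_supp]
          simp only [Pi.sub_apply, Pi.single_eq_same, Pi.smul_apply, smul_eq_mul, hP, hc0, if_true]
          intro e5
          apply e4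
          rw [hk] at e5
          field_simp at e5
          linear_combination -e5
        have := Finset.card_le_card (Finset.insert_subset this hsup)
        rw [Finset.insert_erase hc0] at this
        omega
    · have hu0 : ∀ {X : ι → F}, X ⬝ᵥ X ≠ 0 → k • u = (2 : F) • X → supp u = supp X := by
        intro X hX e
        have hk0 : k ≠ 0 := fun e' => hX (by
          rw [e', zero_smul] at e
          rw [(smul_eq_zero.1 e.symm).resolve_left h2, zero_dotProduct])
        ext l
        have := congrFun e l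
        simp only [Pi.smul_apply, smul_eq_mul] at this
        rw [mem_supp, mem_supp]
        constructor <;> intro h h'
        · rw [h', mul_zero] at this; exact h ((mul_eq_zero.1 this).resolve_left hk0)
        · rw [h', mul_zero] at this; exact h ((mul_eq_zero.1 this.symm).resolve_left h2)
      rcases hk with hk | hk
      · have e : supp u = T := by
          rw [hu0 (by rw [hPP]; exact hq0) hk]
          ext l
          rw [mem_supp]
          by_cases h : l ∈ T
          · simp [hP, h, mem_supp.1 (hT h)]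
          · simp [hP, h]
        exact omega_of_small S h7 hu (by rw [e]; omega) (by rw [e]; omega)
      · have hne : Q ⬝ᵥ Q ≠ 0 := by rw [hQQ, sub_ne_zero]; exact Ne.symm hq1
        have e : supp u = supp v \ T := by
          rw [hu0 hne hk]
          ext l
          rw [Finset.mem_sdiff, mem_supp, mem_supp]
          by_cases h : l ∈ T <;> simp [hQ, h]
        rcases hS with hS | ⟨a, b, hab, ha, hb, hcd⟩
        · exact omega_of_small S h7 hu (by rw [e]; omega) (by rw [e]; omega)
        · rw [Finset.mem_sdiff] at ha hb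
          have hk0 : k ≠ 0 := fun e' => hne (by
            rw [e', zero_smul] at hk
            rw [(smul_eq_zero.1 hk.symm).resolve_left h2, zero_dotProduct])
          have ea := congrFun hk a
          have eb := congrFun hk b
          simp only [Pi.smul_apply, smul_eq_mul, hQ, if_neg ha.2, if_neg hb.2] at ea eb
          have hST : supp v \ T = {a, b} := by
            refine (Finset.eq_of_subset_of_card_le ?_ ?_).symm
            · simp [Finset.insert_subset_iff, Finset.mem_sdiff, ha, hb]
            · rw [Finset.card_pair (fun e' => hab (by rw [e']))]; omega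
          refine omega_of_two S h7 hu (a := a) (c := b) (fun e' => hab ?_)
            (mem_supp.1 (by rw [e, Finset.mem_sdiff]; exact ha))
            (mem_supp.1 (by rw [e, Finset.mem_sdiff]; exact hb))
            fun l h1 h3 => zero_of_notMem (by rw [e, hST]; simp [h1, h3])
          refine mul_left_cancel₀ (mul_ne_zero h2 h2) ?_
          linear_combination (k ^ 2) * e' - (k * u a + 2 * v a) * ea + (k * u b + 2 * v b) * eb
  by_cases hc0 : c = 0
  · refine Or.inl ⟨t, htM, ?_, ?_, htperp⟩
    · rw [ht, act_mul S, hmwx, ← hc, hc0, mul_zero, zero_smul, zero_sub, hmvx, neg_dotProduct, hv1]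
      module
    · rw [ht, act_mul S, hmwx, hw1, hmvx, sub_dotProduct, smul_dotProduct, dotProduct_comm w v, ← hc,
        hc0]
      simp only [mul_zero, zero_mul, smul_zero, sub_zero, zero_smul, zero_sub]
      module
  have hpow : ∀ j : ℕ, mv * t ^ j * mv = (t ^ j)⁻¹ := fun j => by
    induction j with
    | zero => simp [hmv2]
    | succ j ih =>
      rw [pow_succ', _root_.mul_inv_rev, ← ih]
      calc mv * (t * t ^ j) * mv = mv * t * (mv * mv) * t ^ j * mv := by rw [hmv2]; group
        _ = (mv * t * mv) * (mv * t ^ j * mv) := by group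
        _ = mv * t ^ j * mv * t⁻¹ := by
          have e1 : mv * t * mv = t⁻¹ := by
            rw [ht, show mv * (mv * mw) * mv = (mv * mv) * mw * mv by group, hmv2, one_mul,
              _root_.mul_inv_rev, inv_eq_of_mul_eq_one_left hmv2, inv_eq_of_mul_eq_one_left hmw2]
          rw [e1, ih, ← _root_.mul_inv_rev, ← _root_.mul_inv_rev, ← pow_succ, ← pow_succ']
  haveI : Finite (GL ι F) := inferInstance
  rcases Nat.even_or_odd (orderOf t) with ⟨j, hj⟩ | ⟨j, hj⟩
  · -- central involution
    set z := t ^ j with hz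
    have hzM : z ∈ M := M.pow_mem htM j
    have hzz : z * z = 1 := by rw [hz, ← pow_add, ← hj, pow_orderOf_eq_one]
    have hzi : z⁻¹ = z := inv_eq_of_mul_eq_one_left hzz
    have hzv : mv * z = z * mv := by
      have e := congrArg (· * mv) (hpow j)
      rw [mul_assoc, hmv2, mul_one, ← hz, hzi] at e
      exact e
    have hzt : z * t = t * z := (Commute.pow_self t j).eq
    have hzw : mw * z = z * mw := by
      have e : mw = mv * t := by rw [ht, ← mul_assoc, hmv2, one_mul]
      rw [e, mul_assoc, ← hzt, ← mul_assoc, hzv, mul_assoc]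
    have hz1 : z ≠ 1 := fun e => by
      have := Nat.le_of_dvd (Nat.pos_of_ne_zero fun e0 => ?_) (orderOf_dvd_of_pow_eq_one (hz ▸ e))
      · have := orderOf_pos t
        omega
      · subst e0
        have := orderOf_pos t
        omega
    have hperp : ∀ x, x ⬝ᵥ v = 0 → x ⬝ᵥ w = 0 → act z x = x := by
      intro x h1 h3
      have : ∀ i : ℕ, act (t ^ i) x = x := fun i => by
        induction i with
        | zero => simp [act]
        | succ i ih => rw [pow_succ', act_mul S, ih, htperp x h1 h3]
      exact this j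
    have line : ∀ {u : ι → F} {m : GL ι F}, u ⬝ᵥ u = 1 → (∀ x, act m x = (2 * (x ⬝ᵥ u)) • u - x) →
        m * z = z * m → act z u = u ∨ act z u = -u := by
      intro u m hu hm hcomm
      have h1 : act m (act z u) = act z u := by
        rw [← act_mul S, hcomm, act_mul S, hm, hu]
        congr 1
        module
      rw [hm] at h1
      set e := act z u ⬝ᵥ u with he
      have h3 : act z u = e • u := by
        refine smul_right_injective _ h2 ?_
        change (2 : F) • act z u = (2 : F) • (e • u)
        rw [smul_smul, two_smul]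
        conv_lhs => arg 1; rw [← h1]
        abel
      have h4 := M_dot S hzM u u
      rw [h3, smul_dotProduct, dotProduct_smul, hu, smul_eq_mul, smul_eq_mul, mul_one] at h4
      rcases mul_self_eq_one_iff.1 h4 with h | h
      · exact Or.inl (by rw [h3, h, one_smul])
      · exact Or.inr (by rw [h3, h, neg_one_smul])
    have hd := M_dot S hzM v w
    rcases line hv1 hmvx hzv with hv' | hv' <;> rcases line hw1 hmwx hzw with hw' | hw'
    · exfalso
      refine hz1 (gl_ext_mulVec fun x => ?_)
      change act z x = act (1 : GL ι F) x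
      set x' := x - ((x ⬝ᵥ P) / q) • P - ((x ⬝ᵥ Q) / (1 - q)) • Q with hx'
      have hq1' : 1 - q ≠ 0 := sub_ne_zero.2 (Ne.symm hq1)
      have hxP : x' ⬝ᵥ P = 0 := by
        rw [hx', sub_dotProduct, sub_dotProduct, smul_dotProduct, smul_dotProduct, hPP,
          dotProduct_comm Q P, hPQ, smul_eq_mul, div_mul_cancel₀ _ hq0, smul_zero, sub_self, sub_zero]
      have hxQ : x' ⬝ᵥ Q = 0 := by
        rw [hx', sub_dotProduct, sub_dotProduct, smul_dotProduct, smul_dotProduct, hQQ, hPQ,
          smul_eq_mul, smul_eq_mul, mul_zero, sub_zero, div_mul_cancel₀ _ hq1', sub_self]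
      have h5 : act z x' = x' := hperp x' (by rw [hvPQ, dotProduct_add, hxP, hxQ, add_zero])
        (by rw [hwPQ, dotProduct_sub, hxP, hxQ, sub_zero])
      have fixz : ∀ X : ι → F, (2 : F) • X = v + w ∨ (2 : F) • X = v - w → act z X = X := by
        intro X hX
        refine smul_right_injective _ h2 ?_
        change (2 : F) • act z X = (2 : F) • X
        rw [act, ← mulVec_smul]
        rcases hX with hX | hX <;> rw [hX]
        · rw [mulVec_add]; change act z v + act z w = _; rw [hv', hw']
        · rw [mulVec_sub]; change act z v - act z w = _; rw [hv', hw']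
      have ex : x = x' + ((x ⬝ᵥ P) / q) • P + ((x ⬝ᵥ Q) / (1 - q)) • Q := by rw [hx']; abel
      conv_lhs => rw [ex, act, mulVec_add, mulVec_add, mulVec_smul, mulVec_smul]
      change act z x' + _ • act z P + _ • act z Q = _
      rw [h5, fixz P (Or.inl hvw.1.symm), fixz Q (Or.inr hvw.2.symm), ← ex]
      simp [act]
    · rw [hv', hw', dotProduct_neg, ← hc] at hd
      exact absurd (mul_eq_zero.1 (show (2 : F) * c = 0 by linear_combination -hd)) (by simp [h2, hc0])
    · rw [hv', hw', neg_dotProduct, ← hc] at hd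
      exact absurd (mul_eq_zero.1 (show (2 : F) * c = 0 by linear_combination -hd)) (by simp [h2, hc0])
    · exact Or.inl ⟨z, hzM, hv', hw', hperp⟩
  · -- odd order: a bisecting vector
    set i := j * (j + 1) with hi
    set g := t ^ i with hg
    have hgM : g ∈ M := M.pow_mem htM i
    refine Or.inr ⟨act g v, Rf_conj S hgM ⟨hv1, mv, hmv, hmvx⟩, ?_⟩
    obtain ⟨m, hm, hmu⟩ : ∃ m, m = g * mv * g⁻¹ ∧ ∀ x, act m x = (2 * (x ⬝ᵥ act g v)) • act g v - x := by
      refine ⟨_, rfl, fun x => ?_⟩
      have e : x ⬝ᵥ act g v = act g⁻¹ x ⬝ᵥ v := by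
        conv_lhs => rw [show x = act g (act g⁻¹ x) from (gl_mulVec_inv_mulVec g x).symm]
        rw [M_dot S hgM]
      rw [e, act_mul S, act_mul S, hmvx, act, mulVec_sub, mulVec_smul]
      change _ - act g (act g⁻¹ x) = _
      rw [act, act, gl_mulVec_inv_mulVec]
    have hconj : m * mv * m⁻¹ = mw := by
      have e1 : ∀ k : ℕ, mv * t ^ k = (t ^ k)⁻¹ * mv := fun k => by
        rw [← hpow k, mul_assoc, hmv2, mul_one]
      have e2 : g * mv * g⁻¹ = t ^ (i + i) * mv := by
        have : mv * g⁻¹ = g * mv := by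
          have h := congrArg (fun y => g * y * g⁻¹) (e1 i)
          simp only [← hg] at h
          rw [show g * (g⁻¹ * mv) * g⁻¹ = mv * g⁻¹ by group,
            show g * (mv * g) * g⁻¹ = g * mv by group] at h
          exact h.symm
        rw [mul_assoc, this, ← mul_assoc, hg, ← pow_add]
      have e3 : t ^ (4 * i + 1) = 1 := by
        refine orderOf_dvd_iff_pow_eq_one.1 ⟨2 * j + 1, ?_⟩
        rw [hj, hi]; ring
      have e4 : mw = mv * t := by rw [ht, ← mul_assoc, hmv2, one_mul]
      rw [hm, e2, e4, _root_.mul_inv_rev, inv_eq_of_mul_eq_one_left hmv2]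
      calc t ^ (i + i) * mv * mv * (mv * (t ^ (i + i))⁻¹)
          = t ^ (i + i) * (mv * mv) * (mv * (t ^ (i + i))⁻¹) := by group
        _ = t ^ (i + i) * (mv * (t ^ (i + i))⁻¹) := by rw [hmv2, mul_one]
        _ = t ^ (i + i) * (t ^ (i + i) * mv) := by
          congr 1
          rw [← hpow (i + i), ← mul_assoc, ← mul_assoc, hmv2, one_mul]
        _ = t ^ (4 * i) * mv := by rw [← mul_assoc, ← pow_add]; ring_nf
        _ = t⁻¹ * mv := by
          congr 1
          rw [eq_inv_iff_mul_eq_one, ← pow_succ, e3]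
        _ = mv * t := by
          rw [show t⁻¹ = mv * t * mv by simpa using (hpow 1).symm, mul_assoc, hmv2, mul_one]
    set y := act m v with hy
    have h1 : act mw y = y := by
      rw [← hconj, hy, ← act_mul S, show m * mv * m⁻¹ * m = m * mv by group, act_mul S, hmvx, hv1]
      congr 1
      module
    rw [hmwx] at h1
    have hmM : m ∈ M := hm ▸ M.mul_mem (M.mul_mem hgM hmv) (M.inv_mem hgM)
    set e := y ⬝ᵥ w with he
    have h3 : y = e • w := by
      refine smul_right_injective _ h2 ?_
      change (2 : F) • y = (2 : F) • (e • w)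
      rw [smul_smul, two_smul]
      conv_lhs => arg 1; rw [← h1]
      abel
    have h4 : y ⬝ᵥ y = 1 := by rw [hy, M_dot S hmM, hv1]
    rw [h3, smul_dotProduct, dotProduct_smul, hw1, smul_eq_mul, smul_eq_mul, mul_one] at h4
    refine ⟨2 * (v ⬝ᵥ act g v), ?_⟩
    have h5 : (2 * (v ⬝ᵥ act g v)) • act g v = v + y := by rw [hy, hmu]; abel
    rw [h5]
    rcases mul_self_eq_one_iff.1 h4 with h | h
    · left; rw [h3, h, one_smul, hvw.1]
    · right; rw [h3, h, neg_one_smul, ← sub_eq_add_neg, hvw.2]

/-- The case of at least six non-zero coordinates. -/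
lemma omega_of_seven (h7 : Fintype.card ι = 7) (hp3 : (3 : F) ≠ 0) {v : ι → F} (hv : Rf M v)
    (h6 : 6 ≤ (supp v).card) :
    omegaGL ⇑(Q0 : QuadraticForm F (ι → F)) ≤ M := by
  classical
  have h2 := S.two
  have hle : (supp v).card ≤ 7 := h7 ▸ Finset.card_le_univ _
  set x : ι → F := fun l => v l * v l with hx
  have hx0 : ∀ l ∈ supp v, x l ≠ 0 := fun l hl => mul_ne_zero (mem_supp.1 hl) (mem_supp.1 hl)
  have hsum : ∑ l ∈ supp v, x l = 1 := by rw [← hv.1, dot_supp]
  have sum3 : ∀ {a b c : ι}, a ≠ b → a ≠ c → b ≠ c → ∑ l ∈ ({a, b, c} : Finset ι), x l = x a + x b + x c :=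
    fun hab hac hbc => by
      rw [Finset.sum_insert (by simp [hab, hac]), Finset.sum_pair hbc, add_assoc]
  have card3 : ∀ {a b c : ι}, a ≠ b → a ≠ c → b ≠ c → ({a, b, c} : Finset ι).card = 3 :=
    fun hab hac hbc => Finset.card_eq_three.2 ⟨_, _, _, hab, hac, hbc, rfl⟩
  by_cases hex : ∃ a ∈ supp v, ∃ b ∈ supp v, ∃ c ∈ supp v, a ≠ b ∧ a ≠ c ∧ b ≠ c ∧
      x a + x b + x c ≠ 0 ∧ x a + x b + x c ≠ 1
  · obtain ⟨a, ha, b, hb, c, hc, hab, hac, hbc, h0, h1⟩ := hex
    have hT : ({a, b, c} : Finset ι) ⊆ supp v := by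
      simp [Finset.insert_subset_iff, ha, hb, hc]
    refine omega_of_split S h7 hv hT (card3 hab hac hbc).ge (by rw [card3 hab hac hbc]; omega)
      (Or.inl ?_) ?_ ?_
    · rw [Finset.card_sdiff_of_subset hT, card3 hab hac hbc]; omega
    · show ∑ l ∈ ({a, b, c} : Finset ι), x l ≠ 0; rw [sum3 hab hac hbc]; exact h0
    · show ∑ l ∈ ({a, b, c} : Finset ι), x l ≠ 1; rw [sum3 hab hac hbc]; exact h1
  push Not at hex
  have h01 : ∀ {a b c}, a ∈ supp v → b ∈ supp v → c ∈ supp v → a ≠ b → a ≠ c → b ≠ c →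
      x a + x b + x c = 0 ∨ x a + x b + x c = 1 := fun {a b c} ha hb hc hab hac hbc =>
    (em (x a + x b + x c = 0)).imp id (hex a ha b hb c hc hab hac hbc)
  obtain ⟨a, ha, b, hb, hab⟩ : ∃ a ∈ supp v, ∃ b ∈ supp v, x a ≠ x b := by
    by_contra h
    push Not at h
    obtain ⟨a, ha⟩ := Finset.card_pos.1 (by omega : 0 < (supp v).card)
    obtain ⟨b, hb⟩ : ∃ b, b ∈ (supp v).erase a :=
      Finset.card_pos.1 (by rw [Finset.card_erase_of_mem ha]; omega)
    obtain ⟨c, hc⟩ : ∃ c, c ∈ ((supp v).erase a).erase b :=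
      Finset.card_pos.1 (by rw [Finset.card_erase_of_mem hb, Finset.card_erase_of_mem ha]; omega)
    simp only [Finset.mem_erase] at hb hc
    have e := Finset.sum_congr rfl fun l hl => h l hl a ha
    rw [hsum, Finset.sum_const, nsmul_eq_mul] at e
    have h3' := h01 ha hb.2 hc.2.2 hb.1.symm hc.2.1.symm hc.1.symm
    rw [h b hb.2 a ha, h c hc.2.2 a ha] at h3'
    rcases h3' with h3' | h3'
    · exact hx0 a ha ((mul_eq_zero.1 (show (3 : F) * x a = 0 by linear_combination h3')).resolve_left hp3)
    · rcases (show (supp v).card = 6 ∨ (supp v).card = 7 by omega) with e' | e' <;> rw [e'] at e <;>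
        push_cast at e
      · exact one_ne_zero (α := F) (by linear_combination -e - 2 * h3')
      · exact mul_ne_zero h2 h2 (by linear_combination -3 * e - 7 * h3')
  obtain ⟨a, ha, b, hb, hd⟩ : ∃ a ∈ supp v, ∃ b ∈ supp v, x a - x b = 1 := by
    have habne : a ≠ b := fun e => hab (by rw [e])
    have hbe : b ∈ (supp v).erase a := Finset.mem_erase.2 ⟨habne.symm, hb⟩
    obtain ⟨c, hc⟩ : ∃ c, c ∈ ((supp v).erase a).erase b :=
      Finset.card_pos.1 (by rw [Finset.card_erase_of_mem hbe, Finset.card_erase_of_mem ha]; omega)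
    obtain ⟨d, hd⟩ : ∃ d, d ∈ (((supp v).erase a).erase b).erase c :=
      Finset.card_pos.1 (by
        rw [Finset.card_erase_of_mem hc, Finset.card_erase_of_mem hbe, Finset.card_erase_of_mem ha]; omega)
    simp only [Finset.mem_erase] at hc hd
    rcases h01 ha hc.2.2 hd.2.2.2 hc.2.1.symm hd.2.2.1.symm hd.1.symm with h1 | h1 <;>
      rcases h01 hb hc.2.2 hd.2.2.2 hc.1.symm hd.2.1.symm hd.1.symm with h3 | h3
    · exact absurd (by linear_combination h1 - h3) hab
    · exact ⟨b, hb, a, ha, by linear_combination h3 - h1⟩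
    · exact ⟨a, ha, b, hb, by linear_combination h1 - h3⟩
    · exact absurd (by linear_combination h1 - h3) hab
  have hab : x a ≠ x b := fun e => one_ne_zero (α := F) (by rw [e, sub_self] at hd; exact hd.symm)
  have habne : a ≠ b := fun e => hab (by rw [e])
  set O := ((supp v).erase a).erase b with hO
  have hbe : b ∈ (supp v).erase a := Finset.mem_erase.2 ⟨habne.symm, hb⟩
  have hOcard : O.card + 2 = (supp v).card := by
    rw [hO, Finset.card_erase_of_mem hbe, Finset.card_erase_of_mem ha]; omega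
  have hOmem : ∀ {l}, l ∈ O → l ∈ supp v ∧ l ≠ a ∧ l ≠ b := fun {l} hl => by
    simp only [hO, Finset.mem_erase] at hl; exact ⟨hl.2.2, hl.2.1, hl.1⟩
  have hpair : ∀ c ∈ O, ∀ d ∈ O, c ≠ d → x c + x d = -x b := by
    intro c hc d hd' hcd
    obtain ⟨c1, c2, c3⟩ := hOmem hc
    obtain ⟨d1, d2, d3⟩ := hOmem hd'
    rcases h01 hb c1 d1 c3.symm d3.symm hcd with h3 | h3
    · linear_combination h3
    · rcases h01 ha c1 d1 c2.symm d2.symm hcd with h1 | h1
      · exact absurd (by linear_combination h1 - h3 - hd) h2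
      · exact absurd (by linear_combination h1 - h3 - hd) (one_ne_zero (α := F))
  obtain ⟨c, hc⟩ := Finset.card_pos.1 (by omega : 0 < O.card)
  have hOc : ∀ d ∈ O, x d = x c := fun d hd' => by
    by_cases hdc : d = c
    · rw [hdc]
    obtain ⟨e, he⟩ : ∃ e, e ∈ (O.erase c).erase d := Finset.card_pos.1 (by
      rw [Finset.card_erase_of_mem (Finset.mem_erase.2 ⟨hdc, hd'⟩), Finset.card_erase_of_mem hc]; omega)
    simp only [Finset.mem_erase] at he
    linear_combination hpair d hd' e he.2.2 he.1.symm - hpair c hc e he.2.2 he.2.1.symm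
  have h3c : 3 * x c = 1 := by
    obtain ⟨d, hd'⟩ : ∃ d, d ∈ O.erase c :=
      Finset.card_pos.1 (by rw [Finset.card_erase_of_mem hc]; omega)
    obtain ⟨e, he⟩ : ∃ e, e ∈ (O.erase c).erase d := Finset.card_pos.1 (by
      rw [Finset.card_erase_of_mem hd', Finset.card_erase_of_mem hc]; omega)
    simp only [Finset.mem_erase] at hd' he
    have h := h01 (hOmem hc).1 (hOmem hd'.2).1 (hOmem he.2.2).1 hd'.1.symm he.2.1.symm he.1.symm
    rw [hOc d hd'.2, hOc e he.2.2] at h
    rcases h with h | h
    · exact absurd ((mul_eq_zero.1 (show (3 : F) * x c = 0 by linear_combination h)).resolve_left hp3)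
        (hx0 c (hOmem hc).1)
    · linear_combination h
  obtain ⟨d, hd'⟩ : ∃ d, d ∈ O.erase c :=
    Finset.card_pos.1 (by rw [Finset.card_erase_of_mem hc]; omega)
  simp only [Finset.mem_erase] at hd'
  have hb' : 3 * x b = -2 := by
    have := hpair c hc d hd'.2 hd'.1.symm
    rw [hOc d hd'.2] at this
    linear_combination 3 * this - 2 * h3c
  have hfull : x a + x b + (O.card : F) * x c = 1 := by
    rw [← hsum, ← Finset.add_sum_erase _ _ ha, ← Finset.add_sum_erase _ _ hbe, ← hO,
      Finset.sum_congr rfl hOc, Finset.sum_const, nsmul_eq_mul]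
    ring
  have h6' : (supp v).card = 6 := by
    by_contra h
    rw [show O.card = 5 by omega] at hfull
    push_cast at hfull
    exact one_ne_zero (α := F) (by linear_combination 3 * hfull - 3 * hd - 2 * hb' - 5 * h3c)
  refine omega_of_split S h7 hv (T := O) (fun l hl => (hOmem hl).1) (by omega) (by omega)
    (Or.inr ⟨a, b, hab, ?_, ?_, ?_⟩) ?_ ?_
  · simp [Finset.mem_sdiff, hO, ha]
  · simp [Finset.mem_sdiff, hO, hb]
  · rw [Finset.card_sdiff_of_subset (fun l hl => (hOmem hl).1)]; omega
  · show ∑ l ∈ O, x l ≠ 0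
    rw [Finset.sum_congr rfl hOc, Finset.sum_const, show O.card = 4 by omega, nsmul_eq_mul]
    intro e
    push_cast at e
    exact mul_ne_zero h2 h2 (by linear_combination 3 * e - 4 * h3c)
  · show ∑ l ∈ O, x l ≠ 1
    rw [Finset.sum_congr rfl hOc, Finset.sum_const, show O.card = 4 by omega, nsmul_eq_mul]
    intro e
    push_cast at e
    exact one_ne_zero (α := F) (by linear_combination 3 * e - 4 * h3c)

/-- A vector of the set with at least three non-zero coordinates gives everything. -/
lemma omega_of_supp (h7 : Fintype.card ι = 7) {v : ι → F} (hv : Rf M v) (h3 : 3 ≤ (supp v).card) :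
    omegaGL ⇑(Q0 : QuadraticForm F (ι → F)) ≤ M := by
  classical
  have h2 := S.two
  have hle : (supp v).card ≤ 7 := h7 ▸ Finset.card_le_univ _
  by_cases h4 : (supp v).card ≤ 4
  · exact omega_of_small S h7 hv h3 h4
  set x : ι → F := fun l => v l * v l with hx
  have hx0 : ∀ l ∈ supp v, x l ≠ 0 := fun l hl => mul_ne_zero (mem_supp.1 hl) (mem_supp.1 hl)
  have hsum : ∑ l ∈ supp v, x l = 1 := by rw [← hv.1, dot_supp]
  have sum3 : ∀ {a b c : ι}, a ≠ b → a ≠ c → b ≠ c → ∑ l ∈ ({a, b, c} : Finset ι), x l = x a + x b + x c :=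
    fun hab hac hbc => by
      rw [Finset.sum_insert (by simp [hab, hac]), Finset.sum_pair hbc, add_assoc]
  have card3 : ∀ {a b c : ι}, a ≠ b → a ≠ c → b ≠ c → ({a, b, c} : Finset ι).card = 3 :=
    fun hab hac hbc => Finset.card_eq_three.2 ⟨_, _, _, hab, hac, hbc, rfl⟩
  by_cases hp3 : (3 : F) = 0
  · -- characteristic three
    have hone : ∀ l ∈ supp v, x l = 1 := fun l hl => by
      obtain ⟨n, hn⟩ := S.prime (v l)
      have h := mem_supp.1 hl
      have e : (n : F) = ((n % 3 : ℕ) : F) := by
        conv_lhs => rw [← Nat.mod_add_div n 3, Nat.cast_add, Nat.cast_mul, Nat.cast_ofNat, hp3,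
          zero_mul, add_zero]
      change v l * v l = 1
      rw [hn, e] at h ⊢
      rcases (show n % 3 = 0 ∨ n % 3 = 1 ∨ n % 3 = 2 by omega) with r | r | r <;> rw [r] at h ⊢
      · simp at h
      · simp
      · push_cast; linear_combination hp3
    have hk : (((supp v).card : ℕ) : F) = 1 := by
      rw [← hsum, Finset.sum_congr rfl hone, Finset.sum_const, nsmul_one]
    have hk7 : (supp v).card = 7 := by
      rcases (show (supp v).card = 5 ∨ (supp v).card = 6 ∨ (supp v).card = 7 by omega) with e | e | e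
      · rw [e] at hk; push_cast at hk
        exact absurd (show (1 : F) = 0 by linear_combination hk - hp3) one_ne_zero
      · rw [e] at hk; push_cast at hk
        exact absurd (show (1 : F) = 0 by linear_combination -hk + 2 * hp3) one_ne_zero
      · exact e
    obtain ⟨T, hT, hT3⟩ := Finset.exists_subset_card_eq (s := supp v) (n := 3) (by omega)
    have hw := Rf_neg S (Rf_flip S h7 (T := T) (by omega) (by omega) hv)
    have hu := Rf_refl S hv hw
    have hTsum : ∑ l ∈ T, x l = 0 := by
      rw [Finset.sum_congr rfl fun l hl => hone l (hT hl), Finset.sum_const, hT3, nsmul_one]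
      simpa using hp3
    have hvw : v ⬝ᵥ -(fun l => if l ∈ T then v l else -v l) = 1 := by
      have hterm : ∀ l, v l * (-(fun l => if l ∈ T then v l else -v l)) l =
          x l - 2 * (if l ∈ T then x l else 0) := fun l => by
        by_cases h : l ∈ T <;> simp [hx, h] <;> ring
      rw [dot_supp, Finset.sum_congr rfl fun l _ => hterm l, Finset.sum_sub_distrib, hsum,
        ← Finset.mul_sum, Finset.sum_ite_mem, Finset.inter_eq_right.2 hT, hTsum, mul_zero, sub_zero]
    rw [hvw, mul_one] at hu
    set u : ι → F := (2 : F) • -(fun l => if l ∈ T then v l else -v l) - v with hudef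
    have huv : ∀ l, u l = if l ∈ T then 0 else v l := fun l => by
      by_cases h : l ∈ T <;> simp [hudef, h]
      · linear_combination -(v l) * hp3
      · linear_combination (0 : F)
    have hs : supp u = supp v \ T := by
      ext l
      rw [Finset.mem_sdiff, mem_supp, mem_supp, huv]
      by_cases h : l ∈ T <;> simp [h]
    refine omega_of_small S h7 hu ?_ ?_ <;> rw [hs, Finset.card_sdiff_of_subset hT] <;> omega
  by_cases h6 : 6 ≤ (supp v).card
  · exact omega_of_seven S h7 hp3 hv h6
  -- five coordinates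
  have h5 : (supp v).card = 5 := by omega
  obtain ⟨T, hT, hT3, hq⟩ : ∃ T ⊆ supp v, T.card = 3 ∧ ∑ l ∈ T, x l ≠ 0 := by
    by_contra h
    push Not at h
    have key : ∀ {a b c}, a ∈ supp v → b ∈ supp v → c ∈ supp v → a ≠ b → a ≠ c → b ≠ c →
        x a + x b + x c = 0 := fun ha hb hc hab hac hbc => by
      rw [← sum3 hab hac hbc]
      exact h _ (by simp [Finset.insert_subset_iff, ha, hb, hc]) (card3 hab hac hbc)
    obtain ⟨a, ha⟩ := Finset.card_pos.1 (by omega : 0 < (supp v).card)
    obtain ⟨b, hb⟩ : ∃ b, b ∈ (supp v).erase a :=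
      Finset.card_pos.1 (by rw [Finset.card_erase_of_mem ha]; omega)
    obtain ⟨c, hc⟩ : ∃ c, c ∈ ((supp v).erase a).erase b :=
      Finset.card_pos.1 (by rw [Finset.card_erase_of_mem hb, Finset.card_erase_of_mem ha]; omega)
    obtain ⟨d, hd⟩ : ∃ d, d ∈ (((supp v).erase a).erase b).erase c :=
      Finset.card_pos.1 (by rw [Finset.card_erase_of_mem hc, Finset.card_erase_of_mem hb,
        Finset.card_erase_of_mem ha]; omega)
    simp only [Finset.mem_erase] at hb hc hd
    have hab := hb.1.symm
    have hac := hc.2.1.symm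
    have hbc := hc.1.symm
    have had := hd.2.2.1.symm
    have hbd := hd.2.1.symm
    have hcd := hd.1.symm
    have e1 := key ha hb.2 hc.2.2 hab hac hbc
    have e2 := key ha hb.2 hd.2.2.2 hab had hbd
    have e3 := key ha hc.2.2 hd.2.2.2 hac had hcd
    have e4 := key hb.2 hc.2.2 hd.2.2.2 hbc hbd hcd
    exact hx0 a ha ((mul_eq_zero.1 (show (3 : F) * x a = 0 by linear_combination e1 + e2 + e3 - 2 * e4)
      ).resolve_left hp3)
  obtain ⟨d, e, hde, hDE⟩ := Finset.card_eq_two.1
    (show (supp v \ T).card = 2 by rw [Finset.card_sdiff_of_subset hT]; omega)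
  obtain ⟨f, g, hfg, hFG⟩ := Finset.card_eq_two.1
    (show (supp v)ᶜ.card = 2 by rw [Finset.card_compl]; omega)
  have hd : d ∈ supp v \ T := by rw [hDE]; simp
  have he : e ∈ supp v \ T := by rw [hDE]; simp
  have hf : f ∈ (supp v)ᶜ := by rw [hFG]; simp
  have hg : g ∈ (supp v)ᶜ := by rw [hFG]; simp
  rw [Finset.mem_sdiff] at hd he
  rw [Finset.mem_compl] at hf hg
  have hdf : d ≠ f := fun e' => hf (e' ▸ hd.1)
  have hdg : d ≠ g := fun e' => hg (e' ▸ hd.1)
  have hef : e ≠ f := fun e' => hf (e' ▸ he.1)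
  have heg : e ≠ g := fun e' => hg (e' ▸ he.1)
  set σ := Equiv.swap d f * Equiv.swap e g with hσ
  have hσM : mon σ 1 ∈ M := alt_mem S (by
    rw [hσ, Equiv.Perm.sign_mul, Equiv.Perm.sign_swap hdf, Equiv.Perm.sign_swap heg]; simp)
  set w := act (mon σ 1) v with hw
  have hwR : Rf M w := Rf_conj S hσM hv
  have hwv : ∀ l, w l = v (σ⁻¹ l) := fun l => perm_apply σ v l
  have hσi : σ⁻¹ = Equiv.swap e g * Equiv.swap d f := by
    rw [hσ, _root_.mul_inv_rev, Equiv.swap_inv, Equiv.swap_inv]
  have hwT : ∀ l ∈ T, w l = v l := fun l hl => by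
    have h1 : l ≠ d := fun e' => hd.2 (e' ▸ hl)
    have h2' : l ≠ e := fun e' => he.2 (e' ▸ hl)
    have h3' : l ≠ f := fun e' => hf (e' ▸ hT hl)
    have h4' : l ≠ g := fun e' => hg (e' ▸ hT hl)
    rw [hwv, hσi, Equiv.Perm.mul_apply, Equiv.swap_apply_of_ne_of_ne h1 h3',
      Equiv.swap_apply_of_ne_of_ne h2' h4']
  have hwd : w d = 0 := by
    rw [hwv, hσi, Equiv.Perm.mul_apply, Equiv.swap_apply_left,
      Equiv.swap_apply_of_ne_of_ne hef.symm hfg]
    exact zero_of_notMem hf
  have hwe : w e = 0 := by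
    rw [hwv, hσi, Equiv.Perm.mul_apply, Equiv.swap_apply_of_ne_of_ne hde.symm hef, Equiv.swap_apply_left]
    exact zero_of_notMem hg
  have hwf : w f = v d := by
    rw [hwv, hσi, Equiv.Perm.mul_apply, Equiv.swap_apply_right, Equiv.swap_apply_of_ne_of_ne hde hdg]
  have hwg : w g = v e := by
    rw [hwv, hσi, Equiv.Perm.mul_apply, Equiv.swap_apply_of_ne_of_ne hdg.symm hfg.symm,
      Equiv.swap_apply_right]
  have hc : v ⬝ᵥ w = ∑ l ∈ T, x l := by
    rw [dot_supp, ← Finset.sum_sdiff hT, hDE, Finset.sum_pair hde, hwd, hwe, mul_zero, mul_zero,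
      add_zero, zero_add]
    exact Finset.sum_congr rfl fun l hl => by rw [hwT l hl]
  have hu := Rf_refl S hv hwR
  rw [hc] at hu
  set q := ∑ l ∈ T, x l
  set u := (2 * q) • w - v with hu'
  have huT : ∀ l ∈ T, u l = (2 * q - 1) * v l := fun l hl => by
    simp only [hu', Pi.sub_apply, Pi.smul_apply, smul_eq_mul, hwT l hl]; ring
  have hud : u d ≠ 0 := by simp [hu', hwd, mem_supp.1 hd.1]
  have hue : u e ≠ 0 := by simp [hu', hwe, mem_supp.1 he.1]
  have huf : u f ≠ 0 := by simp [hu', hwf, zero_of_notMem hf, h2, hq, mem_supp.1 hd.1]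
  have hug : u g ≠ 0 := by simp [hu', hwg, zero_of_notMem hg, h2, hq, mem_supp.1 he.1]
  by_cases hhalf : 2 * q - 1 = 0
  · have hs : (supp u) ⊆ Tᶜ := fun l hl => Finset.mem_compl.2 fun h =>
      mem_supp.1 hl (by rw [huT l h, hhalf, zero_mul])
    have hs' : ({d, e, f} : Finset ι) ⊆ supp u := by
      simp [Finset.insert_subset_iff, mem_supp, hud, hue, huf]
    have := Finset.card_le_card hs'
    rw [card3 hde hdf hef] at this
    exact omega_of_small S h7 hu this ((Finset.card_le_card hs).trans (by rw [Finset.card_compl]; omega))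
  · have hall : ∀ l, l ∈ supp u := fun l => mem_supp.2 (by
      by_cases hl : l ∈ T
      · rw [huT l hl]; exact mul_ne_zero hhalf (mem_supp.1 (hT hl))
      by_cases hlv : l ∈ supp v
      · have : l ∈ supp v \ T := Finset.mem_sdiff.2 ⟨hlv, hl⟩
        rw [hDE, Finset.mem_insert, Finset.mem_singleton] at this
        rcases this with rfl | rfl <;> assumption
      · have : l ∈ (supp v)ᶜ := Finset.mem_compl.2 hlv
        rw [hFG, Finset.mem_insert, Finset.mem_singleton] at this
        rcases this with rfl | rfl <;> assumption)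
    have hu7 : (supp u).card = 7 := by rw [Finset.eq_univ_iff_forall.2 hall, Finset.card_univ, h7]
    exact omega_of_seven S h7 hp3 hu (by omega)

/-- An overgroup with a non-monomial element is everything. -/
theorem omega_of_not_mon_seven (h7 : Fintype.card ι = 7) {g : GL ι F} (hg : g ∈ M) (hgm : ¬ Mon g) :
    omegaGL ⇑(Q0 : QuadraticForm F (ι → F)) ≤ M := by
  classical
  have h2 := S.two
  by_contra hcon
  have hsmall : ∀ {u : ι → F}, Rf M u → (supp u).card ≤ 2 := fun hu => by
    by_contra h
    exact hcon (omega_of_supp S h7 hu (by omega))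
  have hcol : ∀ j, Rf M (act g (E j)) := fun j => Rf_conj S hg (Rf_E S h7 j)
  obtain ⟨j, hj⟩ : ∃ j, ∀ p, ∃ y, y ≠ p ∧ act g (E j) y ≠ 0 := by
    by_contra h
    push Not at h
    exact hgm (Mon_of_cols h)
  set v := act g (E j) with hv
  obtain ⟨i', -, hi'⟩ := hj j
  obtain ⟨i, hii, hi⟩ := hj i'
  have hsupp : supp v = {i, i'} := by
    refine (Finset.eq_of_subset_of_card_le ?_ ?_).symm
    · simp [Finset.insert_subset_iff, mem_supp, hi, hi']
    · rw [Finset.card_pair hii]; exact hsmall (hcol j)
  have hv0 : ∀ l, l ≠ i → l ≠ i' → v l = 0 := fun l h1 h3 => zero_of_notMem (by rw [hsupp]; simp [h1, h3])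
  have hsq : v i * v i = v i' * v i' := by
    by_contra h
    exact hcon (omega_of_two S h7 (hcol j) h hi hi' hv0)
  have hhalf : 2 * (v i * v i) = 1 := by
    have := (hcol j).1
    rw [← hv, dot_supp, hsupp, Finset.sum_pair hii] at this
    linear_combination this + hsq
  -- some column leaves the pair
  obtain ⟨c, k, hki, hki', hk⟩ : ∃ c k, k ≠ i ∧ k ≠ i' ∧ act g (E c) k ≠ 0 := by
    obtain ⟨k, hk⟩ := exists_fresh 2 {i, i'} Finset.card_le_two (by omega)
    simp only [Finset.mem_insert, Finset.mem_singleton, not_or] at hk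
    by_contra h
    push Not at h
    have := congrFun (gl_mulVec_inv_mulVec g (E k : ι → F)) k
    rw [mulVec, dotProduct, Finset.sum_eq_zero fun b _ => by
      have := h b k hk.1 hk.2
      rw [act, E, col_eq] at this
      rw [show (g : Matrix ι ι F) k b = 0 from this, zero_mul]] at this
    simp [E] at this
  set w := act g (E c) with hw
  have hcj : c ≠ j := fun e => hk (by rw [hw, e, ← hv]; exact hv0 k hki hki')
  have horth : v ⬝ᵥ w = 0 := colorth (hyp S) hg (Ne.symm hcj)
  have hwii : w i = 0 ∧ w i' = 0 := by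
    rw [dot_supp, hsupp, Finset.sum_pair hii] at horth
    have h2w : w i = 0 ∨ w i' = 0 := by
      by_contra h
      push Not at h
      have h1 : ({i, i', k} : Finset ι) ⊆ supp w := by
        simp [Finset.insert_subset_iff, mem_supp, h.1, h.2, hk]
      have h3 := Finset.card_le_card h1
      rw [Finset.card_eq_three.2 ⟨i, i', k, hii, hki.symm, hki'.symm, rfl⟩] at h3
      have := hsmall (hcol c)
      rw [← hw] at this
      omega
    rcases h2w with h | h
    · rw [h, mul_zero, zero_add] at horth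
      exact ⟨h, (mul_eq_zero.1 horth).resolve_left hi'⟩
    · rw [h, mul_zero, add_zero] at horth
      exact ⟨(mul_eq_zero.1 horth).resolve_left hi, h⟩
  set p : ι → F := v i • (E j + E c) with hp
  have hEE : (E j + E c : ι → F) ⬝ᵥ (E j + E c) = 2 := by
    simp [add_dotProduct, dotProduct_add, E, hcj, hcj.symm]; ring
  have hpn : p ⬝ᵥ p = 1 := by
    rw [hp, smul_dotProduct, dotProduct_smul, hEE, smul_eq_mul, smul_eq_mul]
    linear_combination hhalf
  have hpm : Mon (rr S.nd p) := by
    refine Mon_of_cols fun e => ⟨if e = j then c else if e = c then j else e, fun y hy => ?_⟩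
    rw [rr_act_unit S hpn]
    split_ifs at hy with h1 h3
    · subst h1
      by_cases hye : y = e
      · subst hye; simp [p, E, hcj.symm]; linear_combination -hhalf
      · simp [p, E, hye, hy, hcj, hcj.symm]
    · subst h3
      by_cases hye : y = e
      · subst hye; simp [p, E, h1]; linear_combination -hhalf
      · simp [p, E, hye, hy, hcj, hcj.symm]
    · simp [p, E, hy, h1, h3, Ne.symm h1, Ne.symm h3]
  have hb := Rf_conj S hg (Rf_of_mon S h7 hpn hpm)
  have hbe : act g p = v i • (v + w) := by rw [hp, act, mulVec_smul, mulVec_add]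
  rw [hbe] at hb
  have : ({i, i', k} : Finset ι) ⊆ supp (v i • (v + w)) := by
    simp [Finset.insert_subset_iff, mem_supp, hwii.1, hwii.2, hi, hi', hk, hv0 k hki hki']
  have h3 := Finset.card_le_card this
  rw [Finset.card_eq_three.2 ⟨i, i', k, hii, hki.symm, hki'.symm, rfl⟩] at h3
  have := hsmall hb
  omega

end CfsgLib.ClassicalMax.OmL
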