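/-
Stabilisers of orthogonal decompositions into lines are maximal over prime fields.
-/
import Cfsg.Agent.Lib.ClassicalMax.OrthMonSeven
set_option autoImplicit false
set_option linter.unusedSectionVars false

namespace CfsgLib.ClassicalMax.OmL

open Matrix Cfsg.Geo Module
open CfsgLib.ClassicalMax.MonG
open CfsgLib.ClassicalMax.OmD (rr)
open CfsgLib.Classical.Quad (NDPolar)

variable {ι : Type} [Fintype ι] [DecidableEq ι] {F : Type*} [Field F] [Fintype F]

omit [Fintype F] in
lemma Q0_nondeg (h2 : (2 : F) ≠ 0) :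
    IsNondegenerateQuadraticForm ⇑(Q0 : QuadraticForm F (ι → F)) := by
  refine ⟨fun c v => ?_, ⟨fun x y z => ?_, fun c x z => ?_, fun z x y => ?_, fun c z x => ?_⟩,
    fun v hv => ?_⟩
  · rw [Q0_apply, Q0_apply, smul_dotProduct, dotProduct_smul, smul_eq_mul, smul_eq_mul]; ring
  · rw [polar_Q0, polar_Q0, polar_Q0, add_dotProduct, mul_add]
  · rw [polar_Q0, polar_Q0, smul_dotProduct, smul_eq_mul]; ring
  · rw [polar_Q0, polar_Q0, polar_Q0, dotProduct_add, mul_add]
  · rw [polar_Q0, polar_Q0, dotProduct_smul, smul_eq_mul]; ring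
  · obtain ⟨k, hk⟩ : ∃ k, v k ≠ 0 := by
      by_contra h
      push Not at h
      exact hv (funext h)
    exact ⟨⟨E k, by rw [polar_Q0]; simpa [E, h2] using hk⟩,
      ⟨E k, by rw [polar_Q0]; simpa [E, h2] using hk⟩⟩

omit [Fintype F] in
lemma Q0_ndPolar (h2 : (2 : F) ≠ 0) : NDPolar (Q0 : QuadraticForm F (ι → F)) := by
  intro x hx
  funext k
  have h := hx (E k)
  rw [polar_Q0, mul_eq_zero, or_iff_right h2] at h
  simpa [E] using h

omit [Fintype F] in
lemma exists_transport {Q : (ι → F) → F} (hQ : IsNondegenerateQuadraticForm Q) {t : ℕ}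
    {D : Fin t → Submodule F (ι → F)} (hD : IsOrthogonalMDecomposition Q 1 D) (h2 : (2 : F) ≠ 0) :
    ∃ (P : GL ι F) (c : F), c ≠ 0 ∧ (∀ x, Q (act P x) = c * (x ⬝ᵥ x)) ∧
      ∃ ρ : ι ≃ Fin t, ∀ x, D (ρ x) = F ∙ act P (E x) := by
  classical
  have hdec := hD.decomp.decomp
  have ht : 0 < t := by have := hdec.two_le; omega
  let i0 : Fin t := ⟨0, ht⟩
  have spanOf : ∀ i (v : ι → F), v ∈ D i → v ≠ 0 → D i = F ∙ v := fun i v hv hv0 =>
    (Submodule.eq_of_le_of_finrank_le ((Submodule.span_singleton_le_iff_mem _ _).2 hv)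
      (by rw [finrank_span_singleton hv0, hdec.finrank_eq i])).symm
  obtain ⟨v0, hv0, hv00⟩ : ∃ v ∈ D i0, v ≠ 0 := by
    by_contra h
    push Not at h
    have e : D i0 = ⊥ := (Submodule.eq_bot_iff _).2 h
    have := hdec.finrank_eq i0
    rw [e, finrank_bot] at this
    omega
  choose e he using fun i => hD.isometric i0 i
  set v : Fin t → ι → F := fun i => (e i ⟨v0, hv0⟩ : D i) with hv
  have hvD : ∀ i, v i ∈ D i := fun i => (e i ⟨v0, hv0⟩).2
  have hvn : ∀ i, v i ≠ 0 := fun i h => hv00 (congrArg Subtype.val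
    ((e i).map_eq_zero_iff.1 (Subtype.ext h : e i ⟨v0, hv0⟩ = 0)))
  have hvQ : ∀ i, Q (v i) = Q v0 := fun i => he i ⟨v0, hv0⟩
  have horth : ∀ i k, i ≠ k → QuadraticMap.polar Q (v i) (v k) = 0 := fun i k h =>
    hD.decomp.orthogonal i k h _ (hvD i) _ (hvD k)
  have hli : LinearIndependent F v := hdec.indep.linearIndependent D hvD hvn
  have hsp : ⊤ ≤ Submodule.span F (Set.range v) := by
    rw [← hdec.iSup_eq_top]
    refine iSup_le fun i => ?_
    rw [spanOf i (v i) (hvD i) (hvn i), Submodule.span_singleton_le_iff_mem]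
    exact Submodule.subset_span ⟨i, rfl⟩
  have hcard : Fintype.card ι = t := by
    have := Module.finrank_eq_card_basis (Basis.mk hli hsp)
    rw [Module.finrank_fintype_fun_eq_card, Fintype.card_fin] at this
    exact this
  let ρ : ι ≃ Fin t := Fintype.equivFinOfCardEq hcard
  have hc : Q v0 ≠ 0 := by
    intro h0
    have hself : QuadraticMap.polar Q v0 v0 = 0 := by rw [Om.polar_self hQ, h0, mul_zero]
    obtain ⟨-, y, hy⟩ := hQ.nondegenerate v0 hv00
    refine hy ?_
    have hall : ∀ i, QuadraticMap.polar Q v0 (v i) = 0 := fun i => by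
      by_cases hi : i = i0
      · subst hi
        have : v i0 ∈ F ∙ v0 := spanOf i0 v0 hv0 hv00 ▸ hvD i0
        obtain ⟨s, hs⟩ := Submodule.mem_span_singleton.1 this
        rw [← hs, hQ.polar_bilinear.smul_right, hself, mul_zero]
      · exact hD.decomp.orthogonal i0 i (Ne.symm hi) _ hv0 _ (hvD i)
    have key : ∀ z ∈ Submodule.span F (Set.range v), QuadraticMap.polar Q v0 z = 0 := by
      intro z hz
      induction hz using Submodule.span_induction with
      | mem x hx => obtain ⟨i, rfl⟩ := hx; exact hall i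
      | zero => rw [← zero_smul F v0, hQ.polar_bilinear.smul_right, zero_mul]
      | add x y _ _ hx hy => rw [hQ.polar_bilinear.add_right, hx, hy, add_zero]
      | smul a x _ hx => rw [hQ.polar_bilinear.smul_right, hx, mul_zero]
    exact key y (hsp trivial)
  let Pm : Matrix ι ι F := Matrix.of fun a b => v (ρ b) a
  have hP : ∀ x, Pm *ᵥ x = ∑ b, x b • v (ρ b) := fun x => by
    funext a
    simp [Pm, mulVec, dotProduct, Finset.sum_apply, mul_comm]
  have hdet : Pm.det ≠ 0 := by
    intro h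
    obtain ⟨x, hx0, hx⟩ := Matrix.exists_mulVec_eq_zero_iff.2 h
    rw [hP] at hx
    exact hx0 (funext (Fintype.linearIndependent_iff.1 (hli.comp ρ ρ.injective) x hx))
  set P : GL ι F := Matrix.GeneralLinearGroup.mkOfDetNeZero Pm hdet
  have hPE : ∀ x, act P (E x) = v (ρ x) := fun x => by
    change Pm *ᵥ E x = _
    funext a
    simp [E, Pm, mulVec]
  refine ⟨P, Q v0, hc, fun x => ?_, ρ, fun x => by rw [hPE]; exact spanOf _ _ (hvD _) (hvn _)⟩
  change Q (Pm *ᵥ x) = _
  rw [hP]
  have key : ∀ s : Finset ι, Q (∑ b ∈ s, x b • v (ρ b)) = Q v0 * ∑ b ∈ s, x b * x b := by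
    intro s
    induction s using Finset.induction_on with
    | empty =>
      rw [Finset.sum_empty, Finset.sum_empty, mul_zero, ← zero_smul F v0, hQ.smul]
      ring
    | @insert a s ha ih =>
      rw [Finset.sum_insert ha, Finset.sum_insert ha, Om.Q_add hQ, hQ.smul, ih, hvQ]
      have hp : QuadraticMap.polar Q (x a • v (ρ a)) (∑ b ∈ s, x b • v (ρ b)) = 0 := by
        clear ih
        induction s using Finset.induction_on with
        | empty => rw [Finset.sum_empty, ← zero_smul F v0, hQ.polar_bilinear.smul_right, zero_mul]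
        | @insert b s hb ih' =>
          rw [Finset.sum_insert hb, hQ.polar_bilinear.add_right, hQ.polar_bilinear.smul_right,
            hQ.polar_bilinear.smul_left,
            horth _ _ (ρ.injective.ne fun e => ha (by rw [e]; exact Finset.mem_insert_self b s)),
            ih' fun h => ha (Finset.mem_insert_of_mem h)]
          ring
      rw [hp]
      ring
  exact key Finset.univ

/-- The stabiliser of lines is maximal once non-monomial elements generate `Ω`. -/
theorem lines_maximal_of {Q : (ι → F) → F} (hQ : IsNondegenerateQuadraticForm Q)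
    (hprime : (Fintype.card F).Prime) (hodd : Odd (Fintype.card F)) (hn : 7 ≤ Fintype.card ι)
    (hesc : ∀ M₀ : Subgroup (GL ι F), Setup M₀ → ∀ g ∈ M₀, ¬ Mon g →
      omegaGL ⇑(Q0 : QuadraticForm F (ι → F)) ≤ M₀)
    {t : ℕ} {D : Fin t → Submodule F (ι → F)} (hD : IsOrthogonalMDecomposition Q 1 D) :
    IsMaximalIn (omegaGL Q) (decompositionStabilizer D ⊓ omegaGL Q) := by
  classical
  have h2 : (2 : F) ≠ 0 := Ring.two_ne_zero fun h => by
    obtain ⟨k, -, hk⟩ := @FiniteField.card F _ _ 2 ((ringChar.eq_iff).1 h)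
    rw [hk] at hodd
    exact (Nat.not_odd_iff_even.2 (even_two.pow_of_ne_zero k.ne_zero)) hodd
  obtain ⟨P, c, hc, hPQ, ρ, hρ⟩ := exists_transport hQ hD h2
  let φ : GL ι F ≃* GL ι F := MulAut.conj P
  set Q0' : (ι → F) → F := ⇑(Q0 : QuadraticForm F (ι → F)) with hQ0'
  have hiso : Cfsg.isometryGroup F Q = (Cfsg.isometryGroup F Q0').map φ.toMonoidHom := by
    ext g
    rw [Subgroup.mem_map_equiv]
    have hs : φ.symm g = P⁻¹ * g * P := by simp [φ]
    rw [hs]
    constructor
    · intro hg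
      have key : ∀ x : ι → F, Q0' (((P⁻¹ * g * P : GL ι F) : Matrix ι ι F) *ᵥ x) = Q0' x := fun x => by
        refine mul_left_cancel₀ hc ?_
        simp only [hQ0', Q0_apply, ← hPQ, act, gl_mulVec_mul, gl_mulVec_inv_mulVec]
        exact hg (act P x) (act P x)
      exact fun x _ => key x
    · intro hg y _
      obtain ⟨x, rfl⟩ : ∃ x, act P x = y := ⟨_, gl_mulVec_inv_mulVec P y⟩
      have h := hg x x
      change Q0' (((P⁻¹ * g * P : GL ι F) : Matrix ι ι F) *ᵥ x) = Q0' x at h
      simp only [hQ0', Q0_apply, gl_mulVec_mul] at h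
      change Q (act g (act P x)) = Q (act P x)
      rw [hPQ, ← h, ← hPQ]
      simp only [act, gl_mulVec_inv_mulVec]
  have hom : omegaGL Q = (omegaGL Q0').map φ.toMonoidHom := by
    rw [omegaGL, omegaGL, show Cfsg.Omega F Q = commutator _ from rfl,
      show Cfsg.Omega F Q0' = commutator _ from rfl, Subgroup.map_subtype_commutator,
      Subgroup.map_subtype_commutator, hiso, Subgroup.map_commutator]
  have hst : ∀ g, g ∈ decompositionStabilizer D ↔ Mon (P⁻¹ * g * P) := by
    intro g
    have himg : ∀ x, (D (ρ x)).map (Matrix.toLin' (g : Matrix ι ι F)) = F ∙ act g (act P (E x)) := fun x => by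
      rw [hρ x, Submodule.map_span, Set.image_singleton, Matrix.toLin'_apply]
    constructor
    · rintro ⟨σ, hσ⟩
      refine Mon_of_cols fun x => ⟨ρ.symm (σ (ρ x)), fun y hy => ?_⟩
      have h := hσ (ρ x)
      rw [himg, show D (σ (ρ x)) = F ∙ act P (E (ρ.symm (σ (ρ x)))) by rw [← hρ, Equiv.apply_symm_apply]] at h
      obtain ⟨s, hs⟩ := Submodule.mem_span_singleton.1 (h ▸ Submodule.mem_span_singleton_self _ :
        act g (act P (E x)) ∈ F ∙ act P (E (ρ.symm (σ (ρ x)))))
      rw [act, gl_mulVec_mul, gl_mulVec_mul]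
      change act P⁻¹ (act g (act P (E x))) y = 0
      rw [← hs, act, mulVec_smul, act, gl_inv_mulVec_mulVec]
      simp [E, hy]
    · intro hm
      obtain ⟨σ, d, e⟩ := exists_mon_of_Mon hm
      refine ⟨(ρ.symm.trans σ).trans ρ, fun i => ?_⟩
      obtain ⟨x, rfl⟩ := ρ.surjective i
      rw [himg, Equiv.trans_apply, Equiv.trans_apply, Equiv.symm_apply_apply, hρ]
      have e2 : g * P = P * mon σ d := by rw [← e]; group
      have e3 : act g (act P (E x)) = (d x : F) • act P (E (σ x)) := by
        rw [act, act, ← gl_mulVec_mul, e2, gl_mulVec_mul, E, mon_mulVec_single, act, E, ← mulVec_smul,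
          ← Pi.single_smul, smul_eq_mul]
      rw [e3]
      exact Submodule.span_singleton_smul_eq (d x).isUnit _
  have hnd := Q0_nondeg (ι := ι) h2
  have hndp := Q0_ndPolar (ι := ι) h2
  have hmemΩ : ∀ g, g ∈ omegaGL Q ↔ P⁻¹ * g * P ∈ omegaGL Q0' := fun g => by
    rw [hom, Subgroup.mem_map_equiv]
    simp [φ]
  refine ⟨lt_of_le_of_ne inf_le_right fun e => ?_, fun M hM hMK => ?_⟩
  · -- a non-monomial element
    obtain ⟨f, hf⟩ := exists_four (ι := ι) (by omega)
    obtain ⟨d, hd⟩ := exists_fresh 4 (Finset.univ.image f)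
      (Finset.card_image_le.trans (by simp)) (by omega)
    have hd' : ∀ k, f k ≠ d := fun k e => hd (Finset.mem_image.2 ⟨k, Finset.mem_univ _, e⟩)
    have hne : ∀ i j : Fin 4, i ≠ j → f i ≠ f j := fun i j h e => h (hf e)
    set u : ι → F := ∑ k : Fin 4, E (f k) with hu
    have huv : ∀ k : Fin 4, u (f k) = 1 := fun k => by
      simp [u, E, Finset.sum_apply, Pi.single_apply, hf.eq_iff]
    have hun : u ⬝ᵥ u = 4 := by
      rw [show u ⬝ᵥ u = ∑ k : Fin 4, u (f k) by
        conv_lhs => arg 2; rw [hu]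
        rw [dotProduct_sum]; simp [E]]
      simp [huv]
    have h4 : (4 : F) ≠ 0 := by rw [show (4 : F) = 2 * 2 by norm_num]; exact mul_ne_zero h2 h2
    have hsq : IsSquare ((Q0 : QuadraticForm F (ι → F)) u * (Q0 : QuadraticForm F (ι → F)) (E d)) := by
      rw [Q0_apply, Q0_apply, hun, norm_E]; exact ⟨2, by norm_num⟩
    have hw := OmD.pair_mem hnd hndp (by omega) (a := u) (b := E d)
      (by rw [Q0_apply, hun]; exact h4) (by rw [Q0_E]; exact one_ne_zero) hsq
    set g0 : GL ι F := rr hnd u * rr hnd (E d)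
    have hin : P * g0 * P⁻¹ ∈ omegaGL Q := by
      rw [hmemΩ, show P⁻¹ * (P * g0 * P⁻¹) * P = g0 by group]; exact hw
    rw [← e] at hin
    have hm := (hst _).1 hin.1
    rw [show P⁻¹ * (P * g0 * P⁻¹) * P = g0 by group] at hm
    obtain ⟨b, hb⟩ := hm (f 0)
    have hcol : ∀ k : Fin 4, act g0 (E (f 0)) (f k) = (if k = 0 then (1 : F) else 0) - 2⁻¹ := by
      intro k
      rw [act, gl_mulVec_mul, OmD.rr_fix hnd (x := E d) (v := E (f 0))
        (by rw [polar_Q0]; simp [E, hd' 0, (hd' 0).symm])]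
      rw [OmD.rr_mulVec hnd (by rw [Q0_apply, hun]; exact h4), polar_Q0, Q0_apply, hun]
      have e1 : (E (f 0) : ι → F) ⬝ᵥ u = 1 := by simp [E, huv]
      rw [e1, Pi.sub_apply, Pi.smul_apply, huv, smul_eq_mul, mul_one, mul_one,
        show (2 : F) / 4 = 2⁻¹ by field_simp; norm_num]
      simp [E, Pi.single_apply, hf.eq_iff]
    obtain ⟨k, hk, hk'⟩ : ∃ k : Fin 4, k ≠ 0 ∧ f k ≠ b := by
      by_cases h : f 1 = b
      · exact ⟨2, by decide, fun e' => hne 1 2 (by decide) (h.trans e'.symm)⟩
      · exact ⟨1, by decide, h⟩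
    have := hb (f k) hk'
    rw [show (g0 : Matrix ι ι F) (f k) (f 0) = act g0 (E (f 0)) (f k) by simp [act, E, col_eq],
      hcol, if_neg hk] at this
    simp [h2] at this
  · by_cases hex : ∃ g ∈ M, g ∉ decompositionStabilizer D
    · right
      obtain ⟨g, hg, hgn⟩ := hex
      refine le_antisymm hMK fun x hx => ?_
      haveI : Nonempty ι := Fintype.card_pos_iff.1 (by omega)
      let M0 : Subgroup (GL ι F) := M.comap φ.toMonoidHom
      have hval : ∀ y, φ.toMonoidHom y = P * y * P⁻¹ := fun y => rfl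
      have S : Setup M0 := by
        refine ⟨hnd, hndp, fun y hy => ?_, fun y hy hym => hM ?_, fun x => ?_, h2, hn⟩
        · have := (hmemΩ _).1 (hMK hy)
          rwa [hval, show P⁻¹ * (P * y * P⁻¹) * P = y by group] at this
        · rw [hval]
          exact ⟨(hst _).2 (by rwa [show P⁻¹ * (P * y * P⁻¹) * P = y by group]),
            (hmemΩ _).2 (by rwa [show P⁻¹ * (P * y * P⁻¹) * P = y by group])⟩
        · haveI : Fact (Fintype.card F).Prime := ⟨hprime⟩
          obtain ⟨k, hk⟩ := mem_multiples_of_prime_card (g := (1 : F)) (g' := x)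
            (Nat.card_eq_fintype_card) one_ne_zero
          exact ⟨k, by simpa using hk.symm⟩
      have hgM : P⁻¹ * g * P ∈ M0 := by
        change φ.toMonoidHom _ ∈ M
        rw [hval, show P * (P⁻¹ * g * P) * P⁻¹ = g by group]; exact hg
      have hall := hesc M0 S _ hgM (fun h => hgn ((hst g).2 h)) ((hmemΩ x).1 hx)
      change φ.toMonoidHom _ ∈ M at hall
      rwa [hval, show P * (P⁻¹ * x * P) * P⁻¹ = x by group] at hall
    · left
      push Not at hex
      exact le_antisymm (fun g hg => ⟨hex g hg, hMK hg⟩) hM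

/-- The stabiliser in `Ω` of a decomposition into orthogonal isometric lines is maximal. -/
theorem lines_maximal {Q : (ι → F) → F} (hQ : IsNondegenerateQuadraticForm Q)
    (hprime : (Fintype.card F).Prime) (hodd : Odd (Fintype.card F)) (hn : 9 ≤ Fintype.card ι)
    {t : ℕ} {D : Fin t → Submodule F (ι → F)} (hD : IsOrthogonalMDecomposition Q 1 D) :
    IsMaximalIn (omegaGL Q) (decompositionStabilizer D ⊓ omegaGL Q) :=
  lines_maximal_of hQ hprime hodd (by omega) (fun _ S _ hg hgm => omega_of_not_mon S hn hg hgm) hD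

/-- The stabiliser in `Ω₇` of a decomposition into orthogonal isometric lines is maximal. -/
theorem lines_maximal_seven {Q : (ι → F) → F} (hQ : IsNondegenerateQuadraticForm Q)
    (hprime : (Fintype.card F).Prime) (hodd : Odd (Fintype.card F)) (hn : Fintype.card ι = 7)
    {t : ℕ} {D : Fin t → Submodule F (ι → F)} (hD : IsOrthogonalMDecomposition Q 1 D) :
    IsMaximalIn (omegaGL Q) (decompositionStabilizer D ⊓ omegaGL Q) :=
  lines_maximal_of hQ hprime hodd (by omega)
    (fun _ S _ hg hgm => omega_of_not_mon_seven S hn hg hgm) hD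

end CfsgLib.ClassicalMax.OmL
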