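/-
Stabilisers of non-degenerate splittings are maximal, down to small dimensions.
-/
import Cfsg.Agent.Lib.ClassicalMax.OrthNondegEven
import Cfsg.Agent.Lib.LinFix.OrthTyped
set_option autoImplicit false
set_option linter.unusedSectionVars false
set_option maxHeartbeats 400000

namespace CfsgLib.ClassicalMax.OmN

open Matrix Cfsg.Geo QuadraticMap
open CfsgLib.Classical.Quad (NDPolar Orth Frame)
open CfsgLib.ClassicalMax.OmS (SS IsSg exists_sg omega_le_of_pair omega_iso omega_polar SS_mulVec isNondegenerateQuadraticForm)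

variable {ι : Type} [Fintype ι] [DecidableEq ι] {F : Type*} [Field F]
  {Q : QuadraticForm F (ι → F)} {M : Subgroup (GL ι F)} {A B : Submodule F (ι → F)}

/-- Every non-zero vector of `A` is orthogonal to a singular point of `A` other than its own. -/
def SingPerp (Q : QuadraticForm F (ι → F)) (A : Submodule F (ι → F)) : Prop :=
  ∀ x ∈ A, x ≠ 0 → ∃ v ∈ A, v ≠ 0 ∧ Q v = 0 ∧ polar Q v x = 0 ∧ ∀ l : F, x ≠ l • v

/-- In the smallest case over two elements, hyperbolic-plane complements inside `B`. -/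
def TwoFour (Q : QuadraticForm F (ι → F)) (A B : Submodule F (ι → F)) : Prop :=
  Module.finrank F A ≤ 4 → (∀ t : F, t = 0 ∨ t = 1) → ∀ p ∈ B, ∀ z ∈ B, Q p = 1 → Q z = 1 →
    polar Q p z = 1 → ∃ d ∈ B, d ≠ 0 ∧ Q d = 0 ∧ polar Q d p = 0 ∧ polar Q d z = 0

/-- A point not on the line of `v` is seen inside the perpendicular of `v`. -/
lemma IsSplit.exists_sep (S : IsSplit Q A B) {p v : ι → F} (hp : p ∈ A) (hv : v ∈ A) (hv0 : v ≠ 0)
    (h : ∀ l : F, p ≠ l • v) : ∃ a ∈ A, polar Q v a = 0 ∧ polar Q a p ≠ 0 := by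
  by_contra hc
  push Not at hc
  obtain ⟨e₀, he₀, hve₀⟩ := S.exists_ne hv hv0
  set e := (polar Q v e₀)⁻¹ • e₀ with he
  have heA : e ∈ A := A.smul_mem _ he₀
  have hve : polar Q v e = 1 := by
    rw [he, polar_smul_right, smul_eq_mul, inv_mul_cancel₀ hve₀]
  clear_value e
  refine h (polar Q e p) ?_
  by_contra hne
  obtain ⟨y, hy, hy'⟩ := S.exists_ne (A.sub_mem hp (A.smul_mem (polar Q e p) hv))
    (sub_ne_zero.2 hne)
  refine hy' ?_
  have h1 := hc (y - polar Q v y • e) (A.sub_mem hy (A.smul_mem _ heA))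
    (by rw [polar_sub_right, polar_smul_right, hve, smul_eq_mul, mul_one, sub_self])
  rw [polar_sub_left, polar_smul_left, smul_eq_mul] at h1
  rw [polar_sub_left, polar_smul_left, polar_comm Q p y, smul_eq_mul]
  linear_combination h1

omit [Fintype ι] [DecidableEq ι] in
lemma ne_zero_of_new {p z : ι → F} {D C : F} (hD : D ≠ 0) (hl : ∀ l : F, z ≠ l • p) :
    D • z + C • p ≠ 0 := fun h => hl (-(C / D)) (by
  rw [add_eq_zero_iff_eq_neg, ← neg_smul] at h
  rw [← inv_smul_smul₀ hD z, h, smul_smul]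
  congr 1
  ring)

variable [Fintype F] (P : Frame Q)

include P

/-- The elements of `Ω` fixing `B` pointwise move any singular point of `A` to any other. -/
lemma IsSplit.exists_move' (S : IsSplit Q A B) (hs : SingPerp Q A) {u u' : ι → F}
    (hu : u ∈ A) (hu' : u' ∈ A) (hu0 : u ≠ 0) (hu'0 : u' ≠ 0) (hQu : Q u = 0) (hQu' : Q u' = 0) :
    ∃ h : GL ι F, h ∈ omegaGL ⇑Q ∧ (∀ x ∈ A, (h : Matrix ι ι F) *ᵥ x ∈ A) ∧
      (∀ b ∈ B, (h : Matrix ι ι F) *ᵥ b = b) ∧ (h : Matrix ι ι F) *ᵥ u = u' := by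
  have step : ∀ u u' s : ι → F, u ∈ A → u' ∈ A → s ∈ A → Q u = 0 → Q u' = 0 →
      polar Q u u' = 0 → polar Q u s ≠ 0 → polar Q u' s = 0 → u' ≠ 0 →
      ∃ h : GL ι F, h ∈ omegaGL ⇑Q ∧ (∀ x ∈ A, (h : Matrix ι ι F) *ᵥ x ∈ A) ∧
        (∀ b ∈ B, (h : Matrix ι ι F) *ᵥ b = b) ∧ (h : Matrix ι ι F) *ᵥ u = u' := by
    intro u u' s hu hu' hs hQu hQu' huu hus hu's hu'0
    obtain ⟨t, ht, htu⟩ := S.exists_ne hu' hu'0
    -- a vector with product one with both
    set s₁ := (polar Q u s)⁻¹ • s with hs₁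
    set t₁ := (polar Q u' t)⁻¹ • t with ht₁
    set x := t₁ + (1 - polar Q u t₁) • s₁ with hx
    have hxA : x ∈ A := A.add_mem (A.smul_mem _ ht) (A.smul_mem _ (A.smul_mem _ hs))
    have e1 : polar Q u s₁ = 1 := by rw [hs₁, polar_smul_right, smul_eq_mul, inv_mul_cancel₀ hus]
    have e2 : polar Q u' t₁ = 1 := by rw [ht₁, polar_smul_right, smul_eq_mul, inv_mul_cancel₀ htu]
    have e3 : polar Q u' s₁ = 0 := by rw [hs₁, polar_smul_right, hu's, smul_zero]
    clear_value s₁ t₁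
    have hux : polar Q u x = 1 := by
      rw [hx, polar_add_right, polar_smul_right, e1, smul_eq_mul]; ring
    have hu'x : polar Q u' x = 1 := by
      rw [hx, polar_add_right, polar_smul_right, e3, e2, smul_zero, add_zero]
    set z := x + (-(Q x)) • u with hz
    have hzz : Q z = 0 := by rw [hz, Classical.Quad.Q_comb1, hQu, polar_comm Q x u, hux]; ring
    have hzu : polar Q u z = 1 := by
      rw [hz, polar_add_right, polar_smul_right, Classical.Quad.polar_singular_self hQu, hux]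
      simp
    have hzu' : polar Q u' z = 1 := by
      rw [hz, polar_add_right, polar_smul_right, polar_comm Q u' u, huu, hu'x]
      simp
    have hzA : z ∈ A := A.add_mem hxA (A.smul_mem _ hu)
    have hd : polar Q z (u' - u) = 0 := by
      rw [polar_sub_right, polar_comm Q z u', polar_comm Q z u, hzu, hzu', sub_self]
    obtain ⟨h, hh, hhx⟩ := exists_sg S.nd P hzz hd
    refine ⟨h, hh, fun y hy => ?_, fun b hb => ?_, ?_⟩
    · rw [hhx y]
      exact A.add_mem (A.add_mem hy (A.smul_mem _ (A.sub_mem hu' hu))) (A.smul_mem _ hzA)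
    · rw [hhx b, polar_comm Q b z, S.orth z hzA b hb, polar_comm Q b (u' - u),
        S.orth (u' - u) (A.sub_mem hu' hu) b hb]
      simp
    · have hQd : Q (u' - u) = 0 := by
        rw [sub_eq_add_neg, QuadraticMap.map_add Q, QuadraticMap.map_neg, hQu, hQu', polar_neg_right,
          polar_comm Q u' u, huu]
        simp
      rw [hhx u, hzu, hQd, polar_sub_right, huu, Classical.Quad.polar_singular_self hQu]
      module
  have step' : ∀ a b : ι → F, a ∈ A → b ∈ A → Q a = 0 → Q b = 0 → polar Q a b = 0 → b ≠ 0 →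
      (∀ l : F, a ≠ l • b) →
      ∃ h : GL ι F, h ∈ omegaGL ⇑Q ∧ (∀ x ∈ A, (h : Matrix ι ι F) *ᵥ x ∈ A) ∧
        (∀ y ∈ B, (h : Matrix ι ι F) *ᵥ y = y) ∧ (h : Matrix ι ι F) *ᵥ a = b := by
    intro a b ha hb hQa hQb hab hb0 hind
    obtain ⟨s, hs', hbs, has⟩ := S.exists_sep ha hb hb0 hind
    exact step a b s ha hb hs' hQa hQb hab (by rwa [polar_comm]) hbs hb0
  have comb : ∀ a v b : ι → F,
      (∃ h : GL ι F, h ∈ omegaGL ⇑Q ∧ (∀ x ∈ A, (h : Matrix ι ι F) *ᵥ x ∈ A) ∧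
        (∀ y ∈ B, (h : Matrix ι ι F) *ᵥ y = y) ∧ (h : Matrix ι ι F) *ᵥ a = v) →
      (∃ h : GL ι F, h ∈ omegaGL ⇑Q ∧ (∀ x ∈ A, (h : Matrix ι ι F) *ᵥ x ∈ A) ∧
        (∀ y ∈ B, (h : Matrix ι ι F) *ᵥ y = y) ∧ (h : Matrix ι ι F) *ᵥ v = b) →
      ∃ h : GL ι F, h ∈ omegaGL ⇑Q ∧ (∀ x ∈ A, (h : Matrix ι ι F) *ᵥ x ∈ A) ∧
        (∀ y ∈ B, (h : Matrix ι ι F) *ᵥ y = y) ∧ (h : Matrix ι ι F) *ᵥ a = b := by
    rintro a v b ⟨h₁, o₁, a₁, b₁, e₁⟩ ⟨h₂, o₂, a₂, b₂, e₂⟩
    exact ⟨h₂ * h₁, mul_mem o₂ o₁, fun x hx => by rw [gl_mulVec_mul]; exact a₂ _ (a₁ x hx),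
      fun y hy => by rw [gl_mulVec_mul, b₁ y hy, b₂ y hy], by rw [gl_mulVec_mul, e₁, e₂]⟩
  obtain ⟨v, hv, hv0, hQv, hvu, hind⟩ := hs u hu hu0
  by_cases huu : polar Q u u' = 0
  · by_cases hdep : ∃ l : F, u = l • u'
    · obtain ⟨l, rfl⟩ := hdep
      refine comb _ v _ (step' _ v hu hv hQu hQv (by rw [polar_comm]; exact hvu) hv0 hind)
        (step' v u' hv hu' hQv hQu' ?_ hu'0 fun m hm => ?_)
      · have hl : l ≠ 0 := fun h => hu0 (by rw [h, zero_smul])
        rw [polar_smul_right, smul_eq_mul] at hvu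
        exact (mul_eq_zero.1 hvu).resolve_left hl
      · have hm0 : m ≠ 0 := fun h => hv0 (by rw [hm, h, zero_smul])
        exact hind (l * m⁻¹) (by rw [hm, smul_smul, mul_assoc, inv_mul_cancel₀ hm0, mul_one])
    · push Not at hdep
      exact step' u u' hu hu' hQu hQu' huu hu'0 hdep
  · set v' := v + (-(polar Q v u' / polar Q u u')) • u with hv'
    have hv'A : v' ∈ A := A.add_mem hv (A.smul_mem _ hu)
    have hQv' : Q v' = 0 := by rw [hv', Classical.Quad.Q_comb1, hQv, hQu, hvu]; ring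
    have hv'u : polar Q v' u = 0 := by
      rw [hv', polar_add_left, polar_smul_left, hvu, Classical.Quad.polar_singular_self hQu, smul_zero,
        add_zero]
    have hv'u' : polar Q v' u' = 0 := by
      rw [hv', polar_add_left, polar_smul_left, smul_eq_mul, neg_mul, div_mul_cancel₀ _ huu,
        add_neg_cancel]
    have hv'0 : v' ≠ 0 := fun h => by
      rcases eq_or_ne (polar Q v u' / polar Q u u') 0 with h0 | h0
      · rw [hv', h0, neg_zero, zero_smul, add_zero] at h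
        exact hv0 h
      · exact hind (polar Q v u' / polar Q u u')⁻¹ (by
          rw [hv', neg_smul, ← sub_eq_add_neg, sub_eq_zero] at h
          rw [eq_inv_smul_iff₀ h0]; exact h.symm)
    refine comb _ v' _ (step' u v' hu hv'A hQu hQv' (by rw [polar_comm]; exact hv'u) hv'0 fun m hm => ?_)
      (step' v' u' hv'A hu' hQv' hQu' hv'u' hu'0 fun m hm => ?_)
    · refine huu ?_
      rw [hm, polar_smul_left, hv'u', smul_zero]
    · rw [hm, polar_smul_left, smul_eq_mul, polar_comm Q u' u] at hv'u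
      exact hv'0 (by rw [hm, (mul_eq_zero.1 hv'u).resolve_right huu, zero_smul])

/-- One root element at a mixed point gives one at a point of `A` with a component in `B`. -/
lemma IsSplit.cross_of (S : IsSplit Q A B) (hMK : M ≤ omegaGL ⇑Q)
    (hH : ∀ h ∈ omegaGL ⇑Q, (∀ x ∈ A, (h : Matrix ι ι F) *ᵥ x ∈ A) → h ∈ M)
    {p₁ p₂ z₁ z₂ v a : ι → F} (hp₁ : p₁ ∈ A) (hp₂ : p₂ ∈ B) (hz₁ : z₁ ∈ A) (hz₂ : z₂ ∈ B)
    (hv : v ∈ A) (hQv : Q v = 0) (hvp : polar Q v p₁ = 0) (hvz : polar Q v z₁ = 0)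
    (ha : a ∈ A) (hva : polar Q v a = 0)
    {θ : GL ι F} (hθ : θ ∈ M) (hθx : IsSg Q θ (p₁ + p₂) (z₁ + z₂))
    (hb : polar Q a p₁ • z₂ + (-(polar Q a z₁) - Q (z₁ + z₂) * polar Q a p₁) • p₂ ≠ 0) :
    ∃ b ∈ B, b ≠ 0 ∧ ∃ h ∈ M, IsSg Q h v b := by
  have hvB : ∀ y ∈ B, polar Q v y = 0 := S.orth v hv
  have haB : ∀ y ∈ B, polar Q a y = 0 := S.orth a ha
  have hTA : ∀ w ∈ A, polar Q v w = 0 → ∃ h ∈ M, IsSg Q h v w := fun w hw hvw => by
    obtain ⟨h, hh, hhx⟩ := exists_sg S.nd P hQv hvw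
    refine ⟨h, hH h hh fun x hx => ?_, hhx⟩
    rw [hhx x]
    exact A.add_mem (A.add_mem hx (A.smul_mem _ hw)) (A.smul_mem _ hv)
  obtain ⟨η, hη, hηx⟩ := hTA a ha hva
  have hconj := IsSg.conj (hMK hθ) hηx
  have evp : polar Q v (p₁ + p₂) = 0 := by rw [polar_add_right, hvp, hvB p₂ hp₂, add_zero]
  have evz : polar Q v (z₁ + z₂) = 0 := by rw [polar_add_right, hvz, hvB z₂ hz₂, add_zero]
  have eap : polar Q a (p₁ + p₂) = polar Q a p₁ := by rw [polar_add_right, haB p₂ hp₂, add_zero]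
  have eaz : polar Q a (z₁ + z₂) = polar Q a z₁ := by rw [polar_add_right, haB z₂ hz₂, add_zero]
  rw [hθx v, evp, evz, zero_smul, add_zero, mul_zero, sub_zero, neg_zero, zero_smul, add_zero,
    hθx a, eap, eaz] at hconj
  set c := -(polar Q a z₁) - Q (z₁ + z₂) * polar Q a p₁ with hc
  set a' := a + polar Q a p₁ • z₁ + c • p₁ with ha'
  have ha'A : a' ∈ A := A.add_mem (A.add_mem ha (A.smul_mem _ hz₁)) (A.smul_mem _ hp₁)
  set b := polar Q a p₁ • z₂ + c • p₂ with hbdef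
  have hbB : b ∈ B := B.add_mem (B.smul_mem _ hz₂) (B.smul_mem _ hp₂)
  rw [show a + polar Q a p₁ • (z₁ + z₂) + c • (p₁ + p₂) = a' + b by rw [ha', hbdef]; module] at hconj
  have hva' : polar Q v a' = 0 := by
    rw [ha', polar_add_right, polar_add_right, polar_smul_right, polar_smul_right, hva, hvp, hvz]
    simp
  obtain ⟨ν, hν, hνx⟩ := hTA (-a') (A.neg_mem ha'A) (by rw [polar_neg_right, hva', neg_zero])
  have hprod := IsSg.mul hQv (by rw [polar_neg_right, hva', neg_zero])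
    (by rw [polar_add_right, hva', hvB b hbB, add_zero]) hνx hconj
  rw [neg_add_cancel_left] at hprod
  exact ⟨b, hbB, hb, _, M.mul_mem hν (M.mul_mem (M.mul_mem hθ hη) (M.inv_mem hθ)), hprod⟩

/-- A mixed image of a singular point of `A` gives a root element leaving `A`. -/
lemma IsSplit.exists_cross (S : IsSplit Q A B) (h7 : 7 ≤ Fintype.card ι) (h4 : 4 ≤ Module.finrank F A)
    (hs : (2 : F) = 0 → SingPerp Q A) (h24 : TwoFour Q A B) (hMK : M ≤ omegaGL ⇑Q)
    (hH : ∀ h ∈ omegaGL ⇑Q, (∀ x ∈ A, (h : Matrix ι ι F) *ᵥ x ∈ A) → h ∈ M)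
    {g : GL ι F} (hgM : g ∈ M) {u p₁ p₂ : ι → F} (hu : u ∈ A) (hu0 : u ≠ 0) (hQu : Q u = 0)
    (hp₁ : p₁ ∈ A) (hp₂ : p₂ ∈ B) (hp : p₁ + p₂ = (g : Matrix ι ι F) *ᵥ u) (hp₁0 : p₁ ≠ 0)
    (hp₂0 : p₂ ≠ 0)
    (hs₁ : ∃ v ∈ A, v ≠ 0 ∧ Q v = 0 ∧ polar Q v p₁ = 0 ∧ ∀ l : F, p₁ ≠ l • v) :
    ∃ v b, v ∈ A ∧ v ≠ 0 ∧ Q v = 0 ∧ b ∈ B ∧ b ≠ 0 ∧ ∃ h ∈ M, IsSg Q h v b := by
  classical
  have hgo := hMK hgM
  have hQ' := isNondegenerateQuadraticForm S.nd
  obtain ⟨v, hv, hv0, hQv, hvp, hind⟩ := hs₁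
  have hvB : ∀ y ∈ B, polar Q v y = 0 := S.orth v hv
  have hTA : ∀ w x : ι → F, w ∈ A → x ∈ A → Q w = 0 → polar Q w x = 0 → ∃ h ∈ M, IsSg Q h w x := by
    intro w x hw hx hQw hwx
    obtain ⟨h, hh, hhx⟩ := exists_sg S.nd P hQw hwx
    refine ⟨h, hH h hh fun y hy => ?_, hhx⟩
    rw [hhx y]
    exact A.add_mem (A.add_mem hy (A.smul_mem _ hx)) (A.smul_mem _ hw)
  -- root elements at the mixed point
  have hW : ∀ a ∈ A, polar Q u a = 0 →
      ∃ θ ∈ M, IsSg Q θ (p₁ + p₂) ((g : Matrix ι ι F) *ᵥ a) := fun a ha hua => by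
    obtain ⟨τ, hτ, hτx⟩ := hTA u a hu ha hQu hua
    refine ⟨g * τ * g⁻¹, M.mul_mem (M.mul_mem hgM hτ) (M.inv_mem hgM), ?_⟩
    rw [hp]
    exact IsSg.conj hgo hτx
  have hgp : ∀ a, polar Q u a = 0 → polar Q (p₁ + p₂) ((g : Matrix ι ι F) *ᵥ a) = 0 := fun a hua => by
    rw [hp, omega_polar hgo, hua]
  have hQp : Q p₁ + Q p₂ = 0 := by
    have h := omega_iso hgo u
    rw [← hp, hQu, QuadraticMap.map_add Q, S.orth p₁ hp₁ p₂ hp₂, add_zero] at h
    exact h
  -- the kernel used to choose `a`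
  set f : (ι → F) →ₗ[F] F :=
    ((polarBilin Q).flip v).comp (Matrix.mulVecLin (g : Matrix ι ι F)) with hf
  set T := A ⊓ LinearMap.ker ((polarBilin Q).flip u) ⊓ LinearMap.ker f with hT
  have hTd : Module.finrank F A ≤ Module.finrank F T + 2 := by
    have h1 := OrthCrit.finrank_le_inf_ker_add_one A ((polarBilin Q).flip u)
    have h2 := OrthCrit.finrank_le_inf_ker_add_one (A ⊓ LinearMap.ker ((polarBilin Q).flip u)) f
    change Module.finrank F A ≤ Module.finrank F ↥(A ⊓ LinearMap.ker ((polarBilin Q).flip u) ⊓ LinearMap.ker f) + 2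
    omega
  have hTmem : ∀ a ∈ T, a ∈ A ∧ polar Q u a = 0 ∧ polar Q ((g : Matrix ι ι F) *ᵥ a) v = 0 := fun a ha =>
    ⟨ha.1.1, by rw [polar_comm]; exact LinearMap.mem_ker.1 ha.1.2, LinearMap.mem_ker.1 ha.2⟩
  have huT : u ∈ T := ⟨⟨hu, LinearMap.mem_ker.2 (Classical.Quad.polar_singular_self hQu)⟩,
    LinearMap.mem_ker.2 (show polar Q ((g : Matrix ι ι F) *ᵥ u) v = 0 by
      rw [← hp, polar_add_left, polar_comm Q p₁ v, hvp, polar_comm Q p₂ v, hvB p₂ hp₂, add_zero])⟩
  set e := ((g⁻¹ : GL ι F) : Matrix ι ι F) *ᵥ p₁ with he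
  obtain ⟨a, haT, hau, hae⟩ : ∃ a ∈ T, (∀ l : F, a ≠ l • u) ∧
      (5 ≤ Module.finrank F A → ∀ c d : F, a ≠ c • e + d • u) := by
    by_cases h5 : 5 ≤ Module.finrank F A
    · have h2 : Module.finrank F (Submodule.span F ({e, u} : Set (ι → F))) ≤ 2 := by
        refine (finrank_span_le_card _).trans ?_
        rw [Set.toFinset_insert, Set.toFinset_singleton]
        exact Finset.card_le_two
      obtain ⟨a, ha, ha'⟩ := SetLike.not_le_iff_exists.1 fun h : T ≤ Submodule.span F ({e, u} : Set (ι → F)) => by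
        have := Submodule.finrank_mono h
        omega
      refine ⟨a, ha, fun l hl => ha' ?_, fun _ c d hl => ha' (Submodule.mem_span_pair.2 ⟨c, d, hl.symm⟩)⟩
      exact Submodule.mem_span_pair.2 ⟨0, l, by rw [zero_smul, zero_add, hl]⟩
    · obtain ⟨a, ha, ha'⟩ := SetLike.not_le_iff_exists.1 fun h : T ≤ Submodule.span F ({u} : Set (ι → F)) => by
        have := Submodule.finrank_mono h
        rw [finrank_span_singleton hu0] at this
        omega
      exact ⟨a, ha, fun l hl => ha' (Submodule.mem_span_singleton.2 ⟨l, hl.symm⟩), fun h => absurd h h5⟩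
  obtain ⟨z₁, hz₁, z₂, hz₂, hz⟩ := S.split ((g : Matrix ι ι F) *ᵥ a)
  by_cases hl : ∃ l : F, z₂ = l • p₂
  swap
  · -- the component in `B` is new
    push Not at hl
    obtain ⟨a', ha', hva', hap'⟩ := S.exists_sep hp₁ hv hv0 hind
    obtain ⟨hA', hua, hav⟩ := hTmem a haT
    obtain ⟨θ, hθ, hθx⟩ := hW a hA' hua
    rw [← hz] at hθx hav
    have hvz : polar Q v z₁ = 0 := by
      rw [polar_add_left, polar_comm Q z₂ v, hvB z₂ hz₂, add_zero, polar_comm] at hav
      exact hav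
    obtain ⟨b, hb, hb0, hbM⟩ := S.cross_of P hMK hH hp₁ hp₂ hz₁ hz₂ hv hQv hvp hvz ha' hva' hθ hθx
      (ne_zero_of_new hap' hl)
    exact ⟨v, b, hv, hv0, hQv, hb, hb0, hbM⟩
  obtain ⟨l, rfl⟩ := hl
  -- shift so that the image lies in `A`
  have hkey : ∀ a' ∈ T, ∀ z ∈ A, (g : Matrix ι ι F) *ᵥ a' = z → z ≠ 0 →
      (∀ m : F, z + Q z • p₁ ≠ m • v) → ∃ b ∈ B, b ≠ 0 ∧ ∃ h ∈ M, IsSg Q h v b := by
    intro a' ha' z hzA hzg hz0 hne
    obtain ⟨hA', hua, hav⟩ := hTmem a' ha'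
    obtain ⟨θ, hθ, hθx⟩ := hW a' hA' hua
    rw [hzg] at hθx hav
    obtain ⟨w, hw, hvw, hwne⟩ := S.exists_sep (A.add_mem hzA (A.smul_mem _ hp₁)) hv hv0 hne
    refine S.cross_of P hMK hH hp₁ hp₂ hzA B.zero_mem hv hQv hvp (by rw [polar_comm]; exact hav) hw hvw hθ
      (by rwa [add_zero]) ?_
    rw [smul_zero, zero_add, add_zero, smul_ne_zero_iff]
    refine ⟨fun h => hwne ?_, hp₂0⟩
    rw [polar_add_right, polar_smul_right, smul_eq_mul]
    linear_combination -h
  obtain ⟨a₀, rfl⟩ : ∃ a₀, a = a₀ + l • u := ⟨a - l • u, (sub_add_cancel _ _).symm⟩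
  have ha₀T : a₀ ∈ T := by
    have := T.sub_mem haT (T.smul_mem l huT)
    rwa [add_sub_cancel_right] at this
  set z := z₁ - l • p₁ with hzdef
  have hzA : z ∈ A := A.sub_mem hz₁ (A.smul_mem _ hp₁)
  have hga₀ : (g : Matrix ι ι F) *ᵥ a₀ = z := by
    have h : (g : Matrix ι ι F) *ᵥ a₀ + l • (p₁ + p₂) = z₁ + l • p₂ := by
      rw [hp, hz, mulVec_add, mulVec_smul]
    rw [hzdef]
    linear_combination (norm := module) h
  clear_value z
  have hz0 : z ≠ 0 := fun h => by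
    rw [h] at hga₀
    have : a₀ = 0 := gl_mulVec_injective g (by simp only [hga₀, mulVec_zero])
    exact hau l (by rw [this, zero_add])
  obtain ⟨ha₀A, hua₀, hav₀⟩ := hTmem a₀ ha₀T
  rw [hga₀] at hav₀
  have hzp : polar Q z p₁ = 0 := by
    have h := hgp a₀ hua₀
    rw [hga₀, polar_add_left, polar_comm Q p₂ z, S.orth z hzA p₂ hp₂, add_zero, polar_comm] at h
    exact h
  by_cases hne : ∀ m : F, z + Q z • p₁ ≠ m • v
  · obtain ⟨b, hb, hb0, hbM⟩ := hkey a₀ ha₀T z hzA hga₀ hz0 hne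
    exact ⟨v, b, hv, hv0, hQv, hb, hb0, hbM⟩
  push Not at hne
  obtain ⟨m, hm⟩ := hne
  have hcq : Q z + Q z * Q z * Q p₁ = 0 := by
    have h := congrArg Q hm
    rw [Classical.Quad.Q_comb1, hzp, QuadraticMap.map_smul, hQv, smul_zero] at h
    linear_combination h
  obtain ⟨θ, hθ, hθx⟩ := hW a₀ ha₀A hua₀
  rw [hga₀] at hθx
  by_cases hc : Q z = 0
  · -- both vectors are singular: exchange them
    rw [hc, zero_smul, add_zero] at hm
    have hm0 : m ≠ 0 := fun h => hz0 (by rw [hm, h, zero_smul])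
    have hex : IsSg Q θ (m • v) (-(p₁ + p₂)) := fun x => by
      rw [hθx x, hm, polar_neg_right, QuadraticMap.map_neg, QuadraticMap.map_smul, hQv, smul_zero]
      rw [show Q (p₁ + p₂) = 0 by rw [hp, omega_iso hgo, hQu]]
      module
    have h1 := IsSg.smul m hex
    obtain ⟨ν, hν, hνx⟩ := hTA v (m • p₁) hv (A.smul_mem _ hp₁) hQv (by rw [polar_smul_right, hvp, smul_zero])
    have hprod := IsSg.mul hQv (by rw [polar_smul_right, hvp, smul_zero])
      (by rw [polar_smul_right, polar_neg_right, polar_add_right, hvp, hvB p₂ hp₂, add_zero, neg_zero,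
        smul_zero]) hνx h1
    rw [show m • p₁ + m • -(p₁ + p₂) = -(m • p₂) by module] at hprod
    exact ⟨v, -(m • p₂), hv, hv0, hQv, B.neg_mem (B.smul_mem _ hp₂),
      neg_ne_zero.2 (smul_ne_zero hm0 hp₂0), _, M.mul_mem hν hθ, hprod⟩
  set c := Q z with hcdef
  have hcQ : 1 + c * Q p₁ = 0 :=
    (mul_eq_zero.1 (by linear_combination hcq : c * (1 + c * Q p₁) = 0)).resolve_left hc
  by_cases hm0 : m = 0
  swap
  · -- two reflections
    have hzy : z + c • (p₁ + p₂) = m • v + c • p₂ := by rw [← hm]; module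
    have hQb : Q (c • p₂) = c := by
      rw [QuadraticMap.map_smul, smul_eq_mul]
      linear_combination c * c * hQp - c * hcQ
    have hQb0 : Q (c • p₂) ≠ 0 := by rw [hQb]; exact hc
    have hzb : polar Q (c • p₂) z = 0 := by
      rw [polar_smul_left, polar_comm Q p₂ z, S.orth z hzA p₂ hp₂, smul_zero]
    have hk := rf_pair_mem S.nd h7 hQ' hQb0 hc hQb hzb
    set k := Om.rf hQ' hQb0 * Om.rf hQ' hc with hkdef
    have hkM : k ∈ M := hH k hk fun y hy => by
      rw [hkdef, gl_mulVec_mul, Om.rf_mulVec hQ' hc, Om.rf_fix hQ' hQb0]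
      · exact A.sub_mem hy (A.smul_mem _ hzA)
      · exact S.orth _ (A.sub_mem hy (A.smul_mem _ hzA)) _ (B.smul_mem _ hp₂)
    set y := m • v + c • p₂ with hy
    have hQy : Q y = c := by
      rw [hy, QuadraticMap.map_add Q, hQb, QuadraticMap.map_smul, hQv, polar_smul_left, polar_smul_right,
        hvB p₂ hp₂]
      simp
    have hyz : polar Q z y = polar Q z z := by
      rw [← hzy, polar_add_right, polar_smul_right, polar_add_right, hzp, S.orth z hzA p₂ hp₂]
      simp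
    have hθ2 : θ = Om.rf hQ' hc * Om.rf hQ' (show Q y ≠ 0 by rw [hQy]; exact hc) := by
      refine gl_ext_mulVec fun x => ?_
      rw [hθx x, gl_mulVec_mul, Om.rf_mulVec, Om.rf_mulVec, hQy, polar_sub_left, polar_smul_left,
        polar_comm Q y z, hyz, Classical.Quad.polar_self', ← hzy]
      simp only [polar_add_right, polar_smul_right, smul_eq_mul, ← hcdef]
      match_scalars <;> field_simp <;> ring
    have hsq : Om.rf hQ' hc * Om.rf hQ' hc = 1 := by
      refine gl_ext_mulVec fun x => ?_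
      rw [gl_mulVec_mul, Om.rf_mulVec, Om.rf_mulVec, polar_sub_left, polar_smul_left,
        Classical.Quad.polar_self', Units.val_one, one_mulVec, ← hcdef]
      simp only [smul_eq_mul]
      match_scalars <;> field_simp <;> ring
    have hkθ : IsSg Q (k * θ) ((c⁻¹ * m) • v) (c • p₂) := fun x => by
      rw [hkdef, hθ2, mul_assoc, ← mul_assoc (Om.rf hQ' hc), hsq, one_mul, gl_mulVec_mul, Om.rf_mulVec,
        Om.rf_mulVec, hQy, hQb, hy]
      simp only [polar_sub_left, polar_smul_left, polar_add_left, polar_add_right, polar_smul_right,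
        smul_eq_mul, hvB p₂ hp₂]
      rw [Classical.Quad.polar_self', show Q p₂ = c⁻¹ by field_simp; linear_combination c * hQp - hcQ]
      match_scalars <;> field_simp <;> ring
    refine ⟨v, (c⁻¹ * m) • c • p₂, hv, hv0, hQv, B.smul_mem _ (B.smul_mem _ hp₂),
      smul_ne_zero (mul_ne_zero (inv_ne_zero hc) hm0) (smul_ne_zero hc hp₂0), _, M.mul_mem hkM hθ,
      IsSg.smul _ hkθ⟩
  subst hm0
  rw [zero_smul, add_eq_zero_iff_eq_neg, ← neg_smul] at hm
  have h2 : (2 : F) = 0 := by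
    rw [hm, polar_smul_left, Classical.Quad.polar_self', smul_eq_mul] at hzp
    linear_combination hzp + 2 * hcQ
  haveI := OrthCrit.charP_two_of h2
  by_cases hF : ∀ t : F, t = 0 ∨ t = 1
  swap
  · -- another multiple
    push Not at hF
    obtain ⟨t, ht0, ht1⟩ := hF
    obtain ⟨b, hb, hb0, hbM⟩ := hkey (t • a₀) (T.smul_mem t ha₀T) (t • z) (A.smul_mem _ hzA)
      (by rw [mulVec_smul, hga₀]) (smul_ne_zero ht0 hz0) fun n hn => by
        rw [QuadraticMap.map_smul, ← hcdef, hm, smul_smul, ← add_smul, smul_eq_mul] at hn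
        have hco : t * -c + t * t * c ≠ 0 := by
          rw [show t * -c + t * t * c = (t * c) * (t - 1) by ring]
          exact mul_ne_zero (mul_ne_zero ht0 hc) (sub_ne_zero.2 ht1)
        exact hind ((t * -c + t * t * c)⁻¹ * n) (by rw [mul_smul, ← hn, inv_smul_smul₀ hco])
    exact ⟨v, b, hv, hv0, hQv, hb, hb0, hbM⟩
  have h4' : Module.finrank F A ≤ 4 := by
    by_contra h5
    refine hae (by omega) (-c) l (gl_mulVec_injective g ?_)
    simp only [mulVec_add, mulVec_smul, hga₀, hm, he, gl_mulVec_inv_mulVec]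
  have h01 : ∀ t : F, t ≠ 0 → t = 1 := fun t ht => (hF t).resolve_left ht
  have hc1 : c = 1 := h01 c hc
  rw [hc1] at hm hcQ
  rw [CharTwo.neg_eq, one_smul] at hm
  rw [one_mul, CharTwo.add_eq_zero] at hcQ
  have hQp₁ : Q p₁ = 1 := hcQ.symm
  have hQp₂ : Q p₂ = 1 := by
    rw [hQp₁, CharTwo.add_eq_zero] at hQp
    exact hQp.symm
  subst hm
  have hadd : ∀ x : ι → F, x + x = 0 := fun x => funext fun i => CharTwo.add_self_eq_zero (x i)
  have hsub : ∀ x y : ι → F, x - y = x + y := fun x y => funext fun i => CharTwo.sub_eq_add (x i) (y i)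
  -- a second element with a new component
  have hQa₀ : Q a₀ = 1 := by rw [← omega_iso hgo a₀, hga₀, hQp₁]
  obtain ⟨a₁, ha₁, ha₁0, hQa₁, hua₁', hind₁⟩ := hs h2 u hu hu0
  have hua₁ : polar Q u a₁ = 0 := by rw [polar_comm]; exact hua₁'
  have ha₀₁ : polar Q a₁ a₀ ≠ 0 := by
    intro h
    obtain ⟨a', ha', hua', hsep⟩ := S.exists_sep ha₀A hu hu0 fun n hn => hau (n + l) (by
      rw [hn, add_smul])
    obtain ⟨y, hy, huy⟩ := S.exists_ne hu hu0
    set K₁ := A ⊓ LinearMap.ker ((polarBilin Q).flip u)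
    set K₂ := K₁ ⊓ LinearMap.ker ((polarBilin Q).flip a₀)
    have h1 : Module.finrank F K₁ < Module.finrank F A :=
      Submodule.finrank_lt_finrank_of_lt (lt_of_le_not_ge inf_le_left fun hle =>
        huy (by rw [polar_comm]; exact LinearMap.mem_ker.1 (hle hy).2))
    have h2' : Module.finrank F K₂ < Module.finrank F K₁ :=
      Submodule.finrank_lt_finrank_of_lt (lt_of_le_not_ge inf_le_left fun hle =>
        hsep (LinearMap.mem_ker.1 (hle ⟨ha', LinearMap.mem_ker.2 (by rw [polar_comm] at hua'; exact hua')⟩).2))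
    have hspan : Submodule.span F ({u, a₀} : Set (ι → F)) = K₂ := by
      have hli : LinearIndependent F ![u, a₀] := (LinearIndependent.pair_iff' hu0).2 fun t ht =>
        hau (t + l) (by rw [← ht, add_smul])
      refine Submodule.eq_of_le_of_finrank_le (Submodule.span_le.2 ?_) ?_
      · rintro x (rfl | rfl)
        · exact ⟨⟨hu, LinearMap.mem_ker.2 (Classical.Quad.polar_singular_self hQu)⟩,
            LinearMap.mem_ker.2 hua₀⟩
        · exact ⟨⟨ha₀A, LinearMap.mem_ker.2 (by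
            rw [polar_comm] at hua₀; exact hua₀)⟩,
            LinearMap.mem_ker.2 (show polar Q x x = 0 by
              rw [Classical.Quad.polar_self', h2, zero_mul])⟩
      · have := finrank_span_eq_card hli
        rw [Matrix.range_cons_cons_empty, Fintype.card_fin] at this
        omega
    have hmem : a₁ ∈ Submodule.span F ({u, a₀} : Set (ι → F)) := by
      rw [hspan]
      exact ⟨⟨ha₁, LinearMap.mem_ker.2 hua₁'⟩, LinearMap.mem_ker.2 h⟩
    obtain ⟨s, t, hst⟩ := Submodule.mem_span_pair.1 hmem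
    have ht : t = 0 := by
      rw [← hst, QuadraticMap.map_add Q, QuadraticMap.map_smul, QuadraticMap.map_smul, hQu, hQa₀,
        polar_smul_left, polar_smul_right, hua₀] at hQa₁
      simpa using hQa₁
    rw [ht, zero_smul, add_zero] at hst
    rcases eq_or_ne s 0 with rfl | hs0
    · rw [zero_smul] at hst; exact ha₁0 hst.symm
    · exact hind₁ s⁻¹ (by rw [← hst, inv_smul_smul₀ hs0])
  obtain ⟨r₁, hr₁, r₂, hr₂, hr⟩ := S.split ((g : Matrix ι ι F) *ᵥ a₁)
  have hr₁p : polar Q r₁ z = 1 := by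
    refine h01 _ fun h => ha₀₁ ?_
    have h' := omega_polar hgo a₁ a₀
    rw [← hr, hga₀, polar_add_left, h, polar_comm Q r₂ z, S.orth z hzA r₂ hr₂, add_zero] at h'
    exact h'.symm
  have hr₂p : polar Q r₂ p₂ = 1 := by
    have h := hgp a₁ hua₁
    rw [← hr, polar_add_right, polar_add_left, polar_add_left, polar_comm Q z r₁, hr₁p,
      polar_comm Q p₂ r₁, S.orth r₁ hr₁ p₂ hp₂, S.orth z hzA r₂ hr₂, add_zero, zero_add,
      polar_comm, CharTwo.add_eq_zero] at h
    exact h.symm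
  have hnl : ∀ n : F, r₂ ≠ n • p₂ := fun n h => by
    rw [h, polar_smul_left, Classical.Quad.polar_self', h2, zero_mul, smul_zero] at hr₂p
    exact zero_ne_one hr₂p
  obtain ⟨θ₁, hθ₁, hθ₁x⟩ := hW a₁ ha₁ hua₁
  rw [← hr] at hθ₁x
  by_cases hv' : ∃ v' ∈ A, v' ≠ 0 ∧ Q v' = 0 ∧ polar Q v' z = 0 ∧ polar Q v' r₁ = 0
  · obtain ⟨v', hv'A, hv'0, hQv', hv'p, hv'r⟩ := hv'
    have hind' : ∀ n : F, z ≠ n • v' := fun n h => by
      rw [h, QuadraticMap.map_smul, hQv', smul_zero] at hQp₁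
      exact zero_ne_one hQp₁
    obtain ⟨a', ha', hva', hap'⟩ := S.exists_sep hzA hv'A hv'0 hind'
    obtain ⟨b, hb, hb0, hbM⟩ := S.cross_of P hMK hH hzA hp₂ hr₁ hr₂ hv'A hQv' hv'p hv'r ha' hva' hθ₁
      hθ₁x (ne_zero_of_new hap' hnl)
    exact ⟨v', b, hv'A, hv'0, hQv', hb, hb0, hbM⟩
  -- conjugate by two reflections fixing the mixed point
  have hQr₁ : Q r₁ = 1 := by
    refine h01 _ fun h => hv' ?_
    obtain ⟨x, hx, hx0, hQx, hxr, hxind⟩ := hs h2 r₁ hr₁ fun h' => by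
      rw [h', polar_zero_left] at hr₁p; exact zero_ne_one hr₁p
    rcases eq_or_ne (polar Q x z) 0 with h' | h'
    · exact ⟨x, hx, hx0, hQx, h', hxr⟩
    refine ⟨x + r₁, A.add_mem hx hr₁, fun e => hxind 1 ?_, ?_, ?_, ?_⟩
    · rw [one_smul]; exact funext fun i => (CharTwo.add_eq_zero.1 (congrFun e i)).symm
    · rw [QuadraticMap.map_add Q, hQx, h, hxr]; simp
    · rw [polar_add_left, h01 _ h', hr₁p, CharTwo.add_self_eq_zero]
    · rw [polar_add_left, hxr, Classical.Quad.polar_singular_self h, add_zero]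
  have hQr₂ : Q r₂ = 1 := by
    have h := omega_iso hgo a₁
    rw [← hr, QuadraticMap.map_add Q, S.orth r₁ hr₁ r₂ hr₂, hQr₁, hQa₁, add_zero,
      CharTwo.add_eq_zero] at h
    exact h.symm
  obtain ⟨d, hd, hd0, hQd, hdp, hdr⟩ := h24 h4' hF p₂ hp₂ r₂ hr₂ hQp₂ hQr₂
    (by rw [polar_comm]; exact hr₂p)
  set b := p₂ + d with hbdef
  have hbB : b ∈ B := B.add_mem hp₂ hd
  have hQb : Q b = 1 := by
    rw [hbdef, QuadraticMap.map_add Q, hQp₂, hQd, polar_comm Q p₂ d, hdp]; simp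
  have hQb0 : Q b ≠ 0 := by rw [hQb]; exact one_ne_zero
  have hQz0 : Q z ≠ 0 := by rw [hQp₁]; exact one_ne_zero
  have hzb : polar Q z b = 0 := S.orth z hzA b hbB
  have hk := rf_pair_mem S.nd h7 hQ' hQz0 hQb0 (by rw [hQp₁, hQb]) hzb
  set k := Om.rf hQ' hQz0 * Om.rf hQ' hQb0 with hkdef
  have hkM : k ∈ M := hH k hk fun y hy => by
    rw [hkdef, gl_mulVec_mul, Om.rf_fix hQ' hQb0 (S.orth y hy b hbB), Om.rf_mulVec]
    exact A.sub_mem hy (A.smul_mem _ hzA)
  have hkx := IsSg.conj (hMK hkM) hθ₁x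
  have hk1 : (k : Matrix ι ι F) *ᵥ (z + p₂) = z + p₂ := by
    rw [hkdef, gl_mulVec_mul, Om.rf_fix hQ' hQb0, Om.rf_fix hQ' hQz0]
    · rw [polar_add_left, Classical.Quad.polar_self', h2, zero_mul, polar_comm Q p₂ z,
        S.orth z hzA p₂ hp₂, add_zero]
    · rw [polar_add_left, hzb, zero_add, hbdef, polar_add_right, Classical.Quad.polar_self', h2,
        zero_mul, zero_add, polar_comm Q p₂ d, hdp]
  have hk2 : (k : Matrix ι ι F) *ᵥ (r₁ + r₂) = r₁ + r₂ + (z + b) := by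
    have e1 : polar Q (r₁ + r₂) b = 1 := by
      rw [polar_add_left, S.orth r₁ hr₁ b hbB, zero_add, hbdef, polar_add_right, hr₂p, polar_comm Q r₂ d,
        hdr, add_zero]
    have e2 : polar Q (r₁ + r₂ - (1 : F) • b) z = 1 := by
      rw [one_smul, polar_sub_left, polar_add_left, hr₁p, polar_comm Q r₂ z, S.orth z hzA r₂ hr₂,
        polar_comm Q b z, hzb, add_zero, sub_zero]
    rw [hkdef, gl_mulVec_mul, Om.rf_mulVec hQ' hQb0, e1, hQb, div_one, Om.rf_mulVec hQ' hQz0, e2, hQp₁,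
      div_one, one_smul, one_smul, hsub, hsub]
    abel
  rw [hk1, hk2] at hkx
  have hQpp : Q (z + p₂) = 0 := by
    rw [QuadraticMap.map_add Q, hQp₁, hQp₂, S.orth z hzA p₂ hp₂, add_zero, CharTwo.add_self_eq_zero]
  have e1 : polar Q (z + p₂) (r₁ + r₂) = 0 := by
    rw [polar_add_left, polar_add_right, polar_add_right, S.orth z hzA r₂ hr₂, polar_comm Q p₂ r₁,
      S.orth r₁ hr₁ p₂ hp₂, polar_comm Q z r₁, hr₁p, polar_comm Q p₂ r₂, hr₂p, add_zero, zero_add,
      CharTwo.add_self_eq_zero]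
  have e2 : polar Q (z + p₂) (z + b) = 0 := by
    have h' : polar Q p₂ d = 0 := by rw [polar_comm]; exact hdp
    have h'' : polar Q p₂ z = 0 := by rw [polar_comm]; exact S.orth z hzA p₂ hp₂
    simp [hbdef, polar_add_left, polar_add_right, Classical.Quad.polar_self', h2,
      S.orth z hzA p₂ hp₂, S.orth z hzA d hd, h', h'']
  have hd2 := IsSg.mul hQpp e1 (by rw [polar_add_right, e1, e2, add_zero]) hθ₁x hkx
  rw [← add_assoc, hadd, zero_add] at hd2
  -- the product is a root element with component `d`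
  obtain ⟨a', ha', hva', hap'⟩ := S.exists_sep hzA hv hv0 hind
  obtain ⟨θ₀, hθ₀, hθ₀x⟩ := hW u hu (Classical.Quad.polar_singular_self hQu)
  have e3 : polar Q (z + p₂) (z + p₂) = 0 := Classical.Quad.polar_singular_self hQpp
  rw [← hp] at hθ₀x
  have hd3 := IsSg.mul hQpp e2 e3 hd2 hθ₀x
  have hz' : z + b + (z + p₂) = 0 + d := by
    rw [hbdef, show z + (p₂ + d) + (z + p₂) = (z + z) + (p₂ + p₂) + d by abel, hadd, hadd, zero_add]
  rw [hz'] at hd3
  have hMd : θ₁ * (k * θ₁ * k⁻¹) * θ₀ ∈ M :=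
    M.mul_mem (M.mul_mem hθ₁ (M.mul_mem (M.mul_mem hkM hθ₁) (M.inv_mem hkM))) hθ₀
  have hne : polar Q a' z • d + (-(polar Q a' 0) - Q (0 + d) * polar Q a' z) • p₂ ≠ 0 := by
    intro h
    rw [polar_zero_right, neg_zero, zero_sub, zero_add, hQd, zero_mul, neg_zero, zero_smul, add_zero,
      smul_eq_zero] at h
    exact h.elim hap' hd0
  obtain ⟨b', hb', hb'0, hbM⟩ := S.cross_of P hMK hH hzA hp₂ A.zero_mem hd hv hQv hvp
    (polar_zero_right Q v) ha' hva' hMd hd3 hne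
  exact ⟨v, b', hv, hv0, hQv, hb', hb'0, hbM⟩

/-- A subgroup of `Ω` containing the stabiliser of a splitting and an element not preserving it
is everything. -/
theorem IsSplit.omega_le' (S : IsSplit Q A B) (h7 : 7 ≤ Fintype.card ι) (h4 : 4 ≤ Module.finrank F A)
    (hs : SingPerp Q A) (h24 : TwoFour Q A B)
    (hswap : ∀ g ∈ omegaGL ⇑Q, ¬ ∀ x ∈ A, (g : Matrix ι ι F) *ᵥ x ∈ B)
    (hex : ¬ (Fintype.card F ≤ 3 ∧ Module.finrank F B = 2 ∧ IsPlusTypeOn ⇑Q B))
    (hMK : M ≤ omegaGL ⇑Q)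
    (hH : ∀ h ∈ omegaGL ⇑Q, (∀ x ∈ A, (h : Matrix ι ι F) *ᵥ x ∈ A) → h ∈ M)
    {g : GL ι F} (hgM : g ∈ M) (hg : ¬ ∀ x ∈ A, (g : Matrix ι ι F) *ᵥ x ∈ A) :
    omegaGL ⇑Q ≤ M := by
  classical
  have hgo := hMK hgM
  have hTA : ∀ u w : ι → F, u ∈ A → w ∈ A → Q u = 0 → polar Q u w = 0 →
      ∃ h ∈ M, IsSg Q h u w := by
    intro u w hu hw hQu huw
    obtain ⟨h, hh, hhx⟩ := exists_sg S.nd P hQu huw
    refine ⟨h, hH h hh fun x hx => ?_, hhx⟩
    rw [hhx x]
    exact A.add_mem (A.add_mem hx (A.smul_mem _ hw)) (A.smul_mem _ hu)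
  -- a hyperbolic pair in `A`
  obtain ⟨e₀, he₀, he₀0⟩ := Submodule.exists_mem_ne_zero_of_ne_bot (p := A) fun h => by
    rw [h, finrank_bot] at h4; omega
  obtain ⟨u₀, hu₀, hu₀0, hQu₀, -, -⟩ := hs e₀ he₀ he₀0
  obtain ⟨x₀, hx₀, hux₀⟩ := S.exists_ne hu₀ hu₀0
  set y₀ := (polar Q u₀ x₀)⁻¹ • x₀ with hy₀
  have hy₀A : y₀ ∈ A := A.smul_mem _ hx₀
  have huy : polar Q u₀ y₀ = 1 := by
    rw [hy₀, polar_smul_right, smul_eq_mul, inv_mul_cancel₀ hux₀]
  clear_value y₀
  have hval : ∀ s : F, ∃ a ∈ A, Q a = s := fun s => ⟨y₀ + (s - Q y₀) • u₀,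
    A.add_mem hy₀A (A.smul_mem _ hu₀), by
      rw [Classical.Quad.Q_comb1, hQu₀, polar_comm Q y₀ u₀, huy]; ring⟩
  set v₀ := y₀ + (-(Q y₀)) • u₀ with hv₀
  have hv₀A : v₀ ∈ A := A.add_mem hy₀A (A.smul_mem _ hu₀)
  have hQv₀ : Q v₀ = 0 := by rw [hv₀, Classical.Quad.Q_comb1, hQu₀, polar_comm Q y₀ u₀, huy]; ring
  have huv₀ : polar Q u₀ v₀ = 1 := by
    rw [hv₀, polar_add_right, polar_smul_right, Classical.Quad.polar_singular_self hQu₀, huy]; simp
  have hv₀0 : v₀ ≠ 0 := fun h => one_ne_zero (α := F) (by rw [← huv₀, h, polar_zero_right])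
  -- some root element with a component outside `A`
  obtain ⟨u, w, hu, hu0, hQu, hw, hw0, huw⟩ : ∃ u w, u ∈ A ∧ u ≠ 0 ∧ Q u = 0 ∧ w ∈ B ∧ w ≠ 0 ∧
      ∃ h ∈ M, IsSg Q h u w := by
    obtain ⟨u, hu, hu0, hQu, p₁, hp₁, p₂, hp₂, hp, hp₁0, hp₂0⟩ : ∃ u ∈ A, u ≠ 0 ∧ Q u = 0 ∧
        ∃ p₁ ∈ A, ∃ p₂ ∈ B, p₁ + p₂ = (g : Matrix ι ι F) *ᵥ u ∧ p₁ ≠ 0 ∧ p₂ ≠ 0 := by
      by_contra hcon
      push Not at hcon
      have hcase : ∀ u ∈ A, Q u = 0 →
          (g : Matrix ι ι F) *ᵥ u ∈ A ∨ (g : Matrix ι ι F) *ᵥ u ∈ B := by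
        intro u hu hQu
        rcases eq_or_ne u 0 with rfl | hu0
        · rw [mulVec_zero]; exact Or.inl A.zero_mem
        obtain ⟨a, ha, b, hb, hab⟩ := S.split ((g : Matrix ι ι F) *ᵥ u)
        rcases eq_or_ne a 0 with rfl | ha0
        · rw [zero_add] at hab; exact Or.inr (hab ▸ hb)
        · have := hcon u hu hu0 hQu a ha b hb hab ha0
          rw [this, add_zero] at hab
          exact Or.inl (hab ▸ ha)
      have hsplit : ∀ u u' : ι → F, u ∈ A → u' ∈ A → Q u = 0 → Q u' = 0 → polar Q u u' ≠ 0 →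
          (g : Matrix ι ι F) *ᵥ u ∈ A → (g : Matrix ι ι F) *ᵥ u' ∈ A := by
        intro u u' hu hu' hQu hQu' hne h
        refine (hcase u' hu' hQu').resolve_right fun h' => hne ?_
        rw [← omega_polar hgo]
        exact S.orth _ h _ h'
      have hsplit0 : ∀ u u' : ι → F, u ∈ A → u' ∈ A → u ≠ 0 → u' ≠ 0 → Q u = 0 → Q u' = 0 →
          (g : Matrix ι ι F) *ᵥ u ∈ A → (g : Matrix ι ι F) *ᵥ u' ∈ A := by
        intro u u' hu hu' hu0 hu'0 hQu hQu' h
        by_cases hne : polar Q u u' = 0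
        · obtain ⟨x, hx, hux, hu'x⟩ := S.exists_both hu hu' hu0 hu'0
          set x₁ := (polar Q u x)⁻¹ • x with hx₁
          have e1 : polar Q u x₁ = 1 := by rw [hx₁, polar_smul_right, smul_eq_mul, inv_mul_cancel₀ hux]
          have hx₁A : x₁ ∈ A := A.smul_mem _ hx
          clear_value x₁
          set y := x₁ + (-(Q x₁)) • u with hy
          have hyA : y ∈ A := A.add_mem hx₁A (A.smul_mem _ hu)
          have hQy : Q y = 0 := by rw [hy, Classical.Quad.Q_comb1, hQu, polar_comm Q x₁ u, e1]; ring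
          have huy' : polar Q u y ≠ 0 := by
            rw [hy, polar_add_right, polar_smul_right, Classical.Quad.polar_singular_self hQu, e1]
            simp
          have hu'y : polar Q y u' ≠ 0 := by
            rw [polar_comm, hy, polar_add_right, polar_smul_right, polar_comm Q u' u, hne, smul_zero,
              add_zero, hx₁, polar_smul_right, smul_eq_mul]
            exact mul_ne_zero (inv_ne_zero hux) hu'x
          exact hsplit y u' hyA hu' hQy hQu' hu'y (hsplit u y hu hyA hQu hQy huy' h)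
        · exact hsplit u u' hu hu' hQu hQu' hne h
      -- `A` is spanned by its singular vectors
      have hspan : ∀ C : Submodule F (ι → F), (∀ u ∈ A, Q u = 0 → (g : Matrix ι ι F) *ᵥ u ∈ C) →
          ∀ x ∈ A, (g : Matrix ι ι F) *ᵥ x ∈ C := by
        intro C hC x hx
        have hsing : ∀ x ∈ A, polar Q u₀ x = 1 → (g : Matrix ι ι F) *ᵥ x ∈ C := fun x hx h1 => by
          have h := C.add_mem (hC (x + (-(Q x)) • u₀) (A.add_mem hx (A.smul_mem _ hu₀))
            (by rw [Classical.Quad.Q_comb1, hQu₀, polar_comm Q x u₀, h1]; ring))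
            (C.smul_mem (Q x) (hC u₀ hu₀ hQu₀))
          rwa [← mulVec_smul, ← mulVec_add,
            show x + -Q x • u₀ + Q x • u₀ = x by module] at h
        have h1 := hsing (x + (1 - polar Q u₀ x) • v₀) (A.add_mem hx (A.smul_mem _ hv₀A))
          (by rw [polar_add_right, polar_smul_right, huv₀, smul_eq_mul]; ring)
        have h2 := C.smul_mem (1 - polar Q u₀ x) (hC v₀ hv₀A hQv₀)
        have := C.sub_mem h1 h2
        rwa [mulVec_add, mulVec_smul, add_sub_cancel_right] at this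
      rcases hcase u₀ hu₀ hQu₀ with h | h
      · refine hg (hspan A fun u hu hQu => ?_)
        rcases eq_or_ne u 0 with rfl | hu0
        · rw [mulVec_zero]; exact A.zero_mem
        exact hsplit0 u₀ u hu₀ hu hu₀0 hu0 hQu₀ hQu h
      · have hall : ∀ x ∈ A, (g : Matrix ι ι F) *ᵥ x ∈ B := hspan B fun u hu hQu => by
          rcases eq_or_ne u 0 with rfl | hu0
          · rw [mulVec_zero]; exact B.zero_mem
          refine (hcase u hu hQu).resolve_left fun hA' => ?_
          exact gl_mulVec_ne_zero g hu₀0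
            (S.eq_zero (hsplit0 u u₀ hu hu₀ hu0 hu₀0 hQu hQu₀ hA') h)
        exact hswap g hgo hall
    exact S.exists_cross P h7 h4 (fun _ => hs) h24 hMK hH hgM hu hu0 hQu hp₁ hp₂ hp hp₁0 hp₂0
      (hs p₁ hp₁ hp₁0)
  -- the same elements for every singular point of `A`
  let B₀ : Submodule F (ι → F) :=
    { carrier := {b | b ∈ B ∧ ∀ u ∈ A, u ≠ 0 → Q u = 0 → ∃ h ∈ M, IsSg Q h u b}
      zero_mem' := ⟨B.zero_mem, fun u _ _ _ => ⟨1, M.one_mem, fun x => by simp⟩⟩
      add_mem' := fun {b b'} hb hb' => ⟨B.add_mem hb.1 hb'.1, fun u hu hu0 hQu => by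
        obtain ⟨h, hh, hhx⟩ := hb.2 u hu hu0 hQu
        obtain ⟨h', hh', hhx'⟩ := hb'.2 u hu hu0 hQu
        exact ⟨h * h', M.mul_mem hh hh', IsSg.mul hQu (S.orth u hu b hb.1) (S.orth u hu b' hb'.1) hhx hhx'⟩⟩
      smul_mem' := fun t b hb => ⟨B.smul_mem t hb.1, fun u hu hu0 hQu => by
        rcases eq_or_ne t 0 with rfl | ht
        · exact ⟨1, M.one_mem, fun x => by simp⟩
        obtain ⟨h, hh, hhx⟩ := hb.2 (t • u) (A.smul_mem t hu) (smul_ne_zero ht hu0)
          (by rw [QuadraticMap.map_smul, hQu, smul_zero])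
        exact ⟨h, hh, IsSg.smul t hhx⟩⟩ }
  have hB₀mem : ∀ b ∈ B, ∀ u ∈ A, u ≠ 0 → Q u = 0 → (∃ h ∈ M, IsSg Q h u b) → b ∈ B₀ := by
    intro b hb u hu hu0 hQu ⟨h, hh, hhx⟩
    refine ⟨hb, fun u' hu' hu'0 hQu' => ?_⟩
    obtain ⟨k, hk, hkA, hkB, hku⟩ := S.exists_move' P hs hu hu' hu0 hu'0 hQu hQu'
    have hkM := hH k hk hkA
    have := IsSg.conj hk hhx
    rw [hku, hkB b hb] at this
    exact ⟨_, M.mul_mem (M.mul_mem hkM hh) (M.inv_mem hkM), this⟩
  have hwB₀ : w ∈ B₀ := hB₀mem w hw u hu hu0 hQu huw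
  have hinv : ∀ b ∈ B, Q b ≠ 0 → ∀ x ∈ B₀, x - (polar Q x b / Q b) • b ∈ B₀ := by
    intro b hb hQb x hx
    obtain ⟨a, ha, hQa⟩ := hval (Q b)
    have hQ' := isNondegenerateQuadraticForm S.nd
    have hQa0 : Q a ≠ 0 := by rw [hQa]; exact hQb
    have hab : polar Q a b = 0 := S.orth a ha b hb
    set k := Om.rf hQ' hQa0 * Om.rf hQ' hQb with hkdef
    have hko : k ∈ omegaGL ⇑Q := rf_pair_mem S.nd h7 hQ' hQa0 hQb hQa hab
    have hkA : ∀ y ∈ A, (k : Matrix ι ι F) *ᵥ y ∈ A := fun y hy => by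
      rw [hkdef, gl_mulVec_mul, Om.rf_fix hQ' hQb (S.orth y hy b hb), Om.rf_mulVec]
      exact A.sub_mem hy (A.smul_mem _ ha)
    have hkM := hH k hko hkA
    obtain ⟨h, hh, hhx⟩ := hx.2 u₀ hu₀ hu₀0 hQu₀
    have hkx : (k : Matrix ι ι F) *ᵥ x = x - (polar Q x b / Q b) • b := by
      rw [hkdef, gl_mulVec_mul, Om.rf_mulVec hQ' hQb x, Om.rf_fix hQ' hQa0]
      rw [polar_sub_left, polar_smul_left, polar_comm Q x a, S.orth a ha x hx.1, polar_comm Q b a,
        hab, smul_zero, sub_zero]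
    have h' := IsSg.conj hko hhx
    rw [hkx] at h'
    exact hB₀mem _ (B.sub_mem hx.1 (B.smul_mem _ hb)) _ (hkA _ hu₀) (gl_mulVec_ne_zero _ hu₀0)
      (by rw [omega_iso hko, hQu₀]) ⟨_, M.mul_mem (M.mul_mem hkM hh) (M.inv_mem hkM), h'⟩
  have hsg : ∀ u' ∈ B, ∀ w' ∈ B, Q u' = 0 → polar Q u' w' = 0 → ∀ x ∈ B₀,
      x + polar Q x u' • w' + (-(polar Q x w') - Q w' * polar Q x u') • u' ∈ B₀ := by
    intro u' hu' w' hw' hQu' huw' x hx
    obtain ⟨k, hko, hkx⟩ := exists_sg S.nd P hQu' huw'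
    have hfix : ∀ y ∈ A, (k : Matrix ι ι F) *ᵥ y = y := fun y hy => by
      rw [hkx y, S.orth y hy u' hu', S.orth y hy w' hw']; simp
    have hkM := hH k hko fun y hy => by rw [hfix y hy]; exact hy
    obtain ⟨h, hh, hhx⟩ := hx.2 u₀ hu₀ hu₀0 hQu₀
    have h' := IsSg.conj hko hhx
    rw [hfix u₀ hu₀, hkx x] at h'
    exact hB₀mem _ (B.add_mem (B.add_mem hx.1 (B.smul_mem _ hw')) (B.smul_mem _ hu')) u₀ hu₀ hu₀0
      hQu₀ ⟨_, M.mul_mem (M.mul_mem hkM hh) (M.inv_mem hkM), h'⟩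
  have hB₀B : B₀ = B := by
    by_contra hne
    exact hex (S.invariant_cases (B₀ := B₀) (fun b hb => hb.1)
      (fun h => hw0 ((Submodule.mem_bot F).1 (h ▸ hwB₀))) hne hinv hsg)
  have hSS : ∀ v ∈ A, v ≠ 0 → Q v = 0 → v ∈ SS Q M := by
    refine fun v hv hv0 hQv => ⟨hQv, fun z hz => ?_⟩
    obtain ⟨a, ha, b, hb, rfl⟩ := S.split z
    rw [polar_add_right, S.orth v hv b hb, add_zero] at hz
    obtain ⟨h, hh, hhx⟩ := hTA v a hv ha hQv hz
    obtain ⟨h', hh', hhx'⟩ := ((show b ∈ B₀ by rw [hB₀B]; exact hb) : b ∈ B ∧ _).2 v hv hv0 hQv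
    exact ⟨h * h', M.mul_mem hh hh', IsSg.mul hQv hz (S.orth v hv b hb) hhx hhx'⟩
  exact omega_le_of_pair S.nd P hMK (hSS u₀ hu₀ hu₀0 hQu₀) (hSS v₀ hv₀A hv₀0 hQv₀)
    (by rw [huv₀]; exact one_ne_zero)

omit P in
/-- Dimension five suffices. -/
lemma singPerp_of_five {A : Submodule F (ι → F)} (hA : 5 ≤ Module.finrank F A) : SingPerp Q A := by
  intro x _ hx0
  set K := A ⊓ LinearMap.ker ((polarBilin Q).flip x) with hK
  have hKd : Module.finrank F A ≤ Module.finrank F K + 1 := OrthCrit.finrank_le_inf_ker_add_one A _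
  by_cases hxK : x ∈ K
  · -- a complement of the line
    obtain ⟨C, hC⟩ := Submodule.exists_isCompl (Submodule.comap K.subtype (Submodule.span F {x}))
    set S := C.map K.subtype with hS
    have hSd : Module.finrank F S = Module.finrank F C := Submodule.finrank_map_subtype_eq K C
    have hl : Module.finrank F (Submodule.comap K.subtype (Submodule.span F {x})) = 1 := by
      rw [(Submodule.comapSubtypeEquivOfLe ((Submodule.span_singleton_le_iff_mem _ _).2 hxK)).finrank_eq,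
        finrank_span_singleton hx0]
    have hsum := Submodule.finrank_add_eq_of_isCompl hC
    obtain ⟨v, hv, hv0, hQv⟩ := exists_singular_in (Q := Q) (S := S) (by omega)
    obtain ⟨⟨v', hv'K⟩, hv'C, rfl⟩ := hv
    refine ⟨v', hv'K.1, hv0, hQv, LinearMap.mem_ker.1 hv'K.2, fun l hl' => hv0 ?_⟩
    rcases eq_or_ne l 0 with rfl | hl0
    · exact absurd (by rw [hl']; exact zero_smul F _) hx0
    have hmem : (⟨v', hv'K⟩ : K) ∈ Submodule.comap K.subtype (Submodule.span F {x}) :=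
      Submodule.mem_span_singleton.2 ⟨l⁻¹, by rw [hl']; exact inv_smul_smul₀ hl0 _⟩
    have hz := (Submodule.disjoint_def.1 hC.disjoint) _ hmem hv'C
    exact congrArg Subtype.val hz
  · obtain ⟨v, hv, hv0, hQv⟩ := exists_singular_in (Q := Q) (S := K) (by omega)
    exact ⟨v, hv.1, hv0, hQv, LinearMap.mem_ker.1 hv.2, fun l hl => hxK (hl ▸ K.smul_mem l hv)⟩

omit P [Fintype F] in
/-- Four-dimensional spaces of plus type. -/
lemma singPerp_of_plus {A : Submodule F (ι → F)} (hA : Module.finrank F A = 4)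
    (hp : IsPlusTypeOn ⇑Q A) : SingPerp Q A := by
  obtain ⟨U, hUA, hU, hUd⟩ := hp
  have hU2 : Module.finrank F U = 2 := by omega
  intro x hx hx0
  by_cases hxU : x ∈ U
  · obtain ⟨v, hv, hv'⟩ := SetLike.not_le_iff_exists.1 fun h : U ≤ Submodule.span F ({x} : Set (ι → F)) => by
      have := Submodule.finrank_mono h
      rw [finrank_span_singleton hx0] at this
      omega
    refine ⟨v, hUA hv, fun h => hv' (by rw [h]; exact Submodule.zero_mem _), hU v hv, ?_, fun l hl => ?_⟩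
    · rw [polar, hU _ (U.add_mem hv hxU), hU v hv, hU x hxU, sub_zero, sub_zero]
    · rcases eq_or_ne l 0 with rfl | hl0
      · exact hx0 (by rw [hl, zero_smul])
      · exact hv' (Submodule.mem_span_singleton.2 ⟨l⁻¹, by rw [hl, inv_smul_smul₀ hl0]⟩)
  · have h := OrthCrit.finrank_le_inf_ker_add_one U ((polarBilin Q).flip x)
    obtain ⟨v, hv, hv0⟩ := Submodule.exists_mem_ne_zero_of_ne_bot
      (p := U ⊓ LinearMap.ker ((polarBilin Q).flip x)) fun h0 => by rw [h0, finrank_bot] at h; omega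
    exact ⟨v, hUA hv.1, hv0, hU v hv.1, LinearMap.mem_ker.1 hv.2, fun l hl => hxU (hl ▸ U.smul_mem l hv.1)⟩

omit [Fintype F] P in
lemma IsSplit.nd_left (S : IsSplit Q A B) : OrthInv.Nd Q A := fun x hx h => by
  by_contra hx0
  obtain ⟨y, hy, hne⟩ := S.exists_ne hx hx0
  exact hne (h y hy)

omit P in
/-- Two elements: complements of anisotropic planes in elliptic four-spaces. -/
lemma twoFour_of_minus (S : IsSplit Q A B) (hB : Module.finrank F B = 4)
    (hBm : ¬ IsPlusTypeOn ⇑Q B) : TwoFour Q A B := by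
  intro _ hF p hp z hz hQp hQz hpz
  haveI : CharP F 2 := OrthCrit.charP_two_of (by
    rcases hF 2 with h | h
    · exact h
    · exact absurd (by linear_combination h : (1 : F) = 0) one_ne_zero)
  have hpp : ∀ y : ι → F, polar Q y y = 0 := fun y => by
    rw [Classical.Quad.polar_self', CharTwo.two_eq_zero, zero_mul]
  set R := Submodule.span F ({p, z} : Set (ι → F)) with hR
  have hRB : R ≤ B := Submodule.span_le.2 (by rintro y (rfl | rfl) <;> assumption)
  have hzero : ∀ w ∈ R, Q w = 0 → w = 0 := by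
    intro w hw hQw
    obtain ⟨a, b, rfl⟩ := Submodule.mem_span_pair.1 hw
    rw [QuadraticMap.map_add Q, QuadraticMap.map_smul, QuadraticMap.map_smul, hQp, hQz, polar_smul_left,
      polar_smul_right, hpz] at hQw
    rcases hF a with rfl | rfl <;> rcases hF b with rfl | rfl
    · simp
    · simp at hQw
    · simp at hQw
    · simp [CharTwo.add_self_eq_zero] at hQw
  have hRn : OrthInv.Nd Q R := by
    intro w hw h
    obtain ⟨a, b, rfl⟩ := Submodule.mem_span_pair.1 hw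
    have h1 := h p (Submodule.subset_span (by simp))
    have h2 := h z (Submodule.subset_span (by simp))
    rw [polar_add_left, polar_smul_left, polar_smul_left, hpp, polar_comm Q z p, hpz] at h1
    rw [polar_add_left, polar_smul_left, polar_smul_left, hpz, hpp] at h2
    simp only [smul_eq_mul, mul_zero, zero_add, add_zero, mul_one] at h1 h2
    simp [h1, h2]
  have hR2 : Module.finrank F R = 2 := by
    have hli : LinearIndependent F ![p, z] := (LinearIndependent.pair_iff'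
      fun h : p = 0 => one_ne_zero (α := F) (by rw [← hpz, h, polar_zero_left])).2 fun t ht =>
        one_ne_zero (α := F) (by rw [← hpz, ← ht, polar_smul_right, hpp, smul_zero])
    rw [hR, ← Matrix.range_cons_cons_empty, finrank_span_eq_card hli, Fintype.card_fin]
  obtain ⟨D, hDB, hDn, hRD, hd, ho⟩ := OrthInv.exists_perp hRn S.symm.nd_left hRB
  have hiff := OrthInv.plusOn_sup hRn hDn ho (by rw [hR2]; exact even_two)
    (by rw [show Module.finrank F D = 2 by omega]; exact even_two)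
  rw [hRD] at hiff
  have hRm : ¬ OrthInv.PlusOn Q R := by
    rintro ⟨U, hUR, hU, hUd⟩
    obtain ⟨w, hw, hw0⟩ := Submodule.exists_mem_ne_zero_of_ne_bot (p := U) fun h => by
      rw [h, finrank_bot] at hUd; omega
    exact hw0 (hzero w (hUR hw) (hU w hw))
  obtain ⟨U, hUD, hU, hUd⟩ : OrthInv.PlusOn Q D := by
    by_contra hD
    exact hBm (hiff.2 (iff_of_false hRm hD))
  obtain ⟨d, hd', hd0⟩ := Submodule.exists_mem_ne_zero_of_ne_bot (p := U) fun h => by
    rw [h, finrank_bot] at hUd; omega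
  exact ⟨d, hDB (hUD hd'), hd0, hU d hd', by rw [polar_comm]; exact ho p (Submodule.subset_span (by simp)) d (hUD hd'),
    by rw [polar_comm]; exact ho z (Submodule.subset_span (by simp)) d (hUD hd')⟩

omit [Fintype F] P in
lemma twoFour_of_five (hA : 5 ≤ Module.finrank F A) : TwoFour Q A B := fun h => by omega

/-- Non-degenerate stabilisers are maximal from dimension eight on. -/
theorem nondegenerate_stabilizer_maximal_small (hnd : NDPolar Q)
    (h8 : 8 ≤ Fintype.card ι) {W : Submodule F (ι → F)} (hW0 : W ≠ ⊥) (hW1 : W ≠ ⊤)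
    (hW : IsNondegenerateOn (polar Q) W)
    (h44 : Fintype.card ι = 8 → Module.finrank F W = 4 → ¬ IsPlusTypeOn (⇑Q) ⊤)
    (hswap : 2 * Module.finrank F W = Fintype.card ι → ∀ g ∈ omegaGL ⇑Q,
      ¬ ∀ x ∈ W, ∀ w ∈ W, polar Q ((g : Matrix ι ι F) *ᵥ x) w = 0)
    (hex : ¬ (Fintype.card F ≤ 3 ∧ ∃ U : Submodule F (ι → F), Module.finrank F U = 2 ∧
      IsNondegenerateOn (polar Q) U ∧ IsPlusTypeOn (⇑Q) U ∧
      (U = W ∨ (AreOrthogonalFor (polar Q) U W ∧
        Module.finrank F U + Module.finrank F W = Fintype.card ι)))) :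
    IsMaximalIn (omegaGL ⇑Q) (subspaceStabilizer W ⊓ omegaGL ⇑Q) := by
  classical
  let W' : Submodule F (ι → F) :=
    { carrier := {y | ∀ w ∈ W, polar Q y w = 0}
      add_mem' := fun {a a'} ha ha' w hw => by rw [polar_add_left, ha w hw, ha' w hw, add_zero]
      zero_mem' := fun w _ => polar_zero_left Q w
      smul_mem' := fun t a ha w hw => by rw [polar_smul_left, ha w hw, smul_zero] }
  have S : IsSplit Q W W' :=
    { nd := hnd
      orth := fun a ha b hb => by rw [polar_comm]; exact hb a ha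
      split := fun x => by
        obtain ⟨w, hw, h⟩ := Om.exists_proj (isNondegenerateQuadraticForm hnd) hW x
        exact ⟨w, hw, x - w, h, add_sub_cancel _ _⟩ }
  have hsum : Module.finrank F W + Module.finrank F W' = Fintype.card ι := by
    rw [← Submodule.finrank_sup_add_finrank_inf_eq]
    have h1 : W ⊔ W' = ⊤ := eq_top_iff.2 fun x _ => by
      obtain ⟨a, ha, b, hb, h⟩ := S.split x
      exact Submodule.mem_sup.2 ⟨a, ha, b, hb, h⟩
    have h0 : W ⊓ W' = ⊥ := eq_bot_iff.2 fun x hx =>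
      (Submodule.mem_bot F).2 (S.eq_zero hx.1 hx.2)
    rw [h1, h0, finrank_top, finrank_bot, add_zero, Module.finrank_fintype_fun_eq_card]
  have hdim : ∀ {X Y : Submodule F (ι → F)} (g : GL ι F),
      (∀ x ∈ X, (g : Matrix ι ι F) *ᵥ x ∈ Y) → Module.finrank F X ≤ Module.finrank F Y := by
    intro X Y g h
    have hle : X.map (Matrix.mulVecLin (g : Matrix ι ι F)) ≤ Y := by
      rintro _ ⟨x, hx, rfl⟩
      exact h x hx
    exact (Submodule.equivMapOfInjective _ (gl_mulVec_injective g) X).finrank_eq.le.trans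
      (Submodule.finrank_mono hle)
  have map_other : ∀ {A B : Submodule F (ι → F)}, IsSplit Q A B → ∀ g ∈ omegaGL ⇑Q,
      (∀ x ∈ A, (g : Matrix ι ι F) *ᵥ x ∈ A) → ∀ x ∈ B, (g : Matrix ι ι F) *ᵥ x ∈ B := by
    intro A B T g hg hA x hx
    obtain ⟨a, ha, b, hb, hab⟩ := T.split ((g : Matrix ι ι F) *ᵥ x)
    suffices a = 0 by rw [← hab, this, zero_add]; exact hb
    by_contra h
    obtain ⟨y, hy, hne⟩ := T.exists_ne ha h
    obtain ⟨y', hy', rfl⟩ := CfsgLib.ClassicalMax.exists_preimage_mem hA hy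
    refine hne ?_
    have h1 : polar Q ((g : Matrix ι ι F) *ᵥ x) ((g : Matrix ι ι F) *ᵥ y') = 0 := by
      rw [omega_polar hg, polar_comm, T.orth y' hy' x hx]
    rw [← hab, polar_add_left, polar_comm Q b, T.orth _ hy b hb, add_zero] at h1
    exact h1
  refine CfsgLib.ClassicalMax.isMaximalIn_of inf_le_right ?_ ?_
  · obtain ⟨g, hg, hg'⟩ := SetLike.not_le_iff_exists.1 (Asch.omega_not_le_subspace hnd P hW0 hW1)
    exact ⟨g, hg, fun h => hg' h.1⟩
  intro M hHM hMK g hgM hgH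
  have hgW : ¬ ∀ x ∈ W, (g : Matrix ι ι F) *ᵥ x ∈ W := fun h =>
    hgH ⟨mem_subspaceStabilizer_of_forall h, hMK hgM⟩
  have hplus : Module.finrank F W = 4 → Module.finrank F W' = 4 →
      (IsPlusTypeOn (⇑Q) W ↔ ¬ IsPlusTypeOn (⇑Q) W') := by
    intro d1 d2
    have h1 : W ⊔ W' = ⊤ := eq_top_iff.2 fun x _ => by
      obtain ⟨a, ha, b, hb, h⟩ := S.split x
      exact Submodule.mem_sup.2 ⟨a, ha, b, hb, h⟩
    have hiff := OrthInv.plusOn_sup S.nd_left S.symm.nd_left S.orth (by rw [d1]; decide) (by rw [d2]; decide)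
    rw [h1] at hiff
    have := h44 (by omega) d1
    constructor
    · intro hw hw'; exact this (hiff.2 (iff_of_true hw hw'))
    · intro hw'; by_contra hw; exact this (hiff.2 (iff_of_false hw hw'))
  by_cases hbig : Module.finrank F W' < Module.finrank F W ∨
      (Module.finrank F W' = Module.finrank F W ∧ (Module.finrank F W = 4 → IsPlusTypeOn (⇑Q) W))
  · have h4 : 4 ≤ Module.finrank F W := by omega
    have hsp : SingPerp Q W := by
      rcases Nat.lt_or_ge 4 (Module.finrank F W) with h | h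
      · exact singPerp_of_five h
      · exact singPerp_of_plus (by omega) ((hbig.resolve_left (by omega)).2 (by omega))
    have h24 : TwoFour Q W W' := by
      rcases Nat.lt_or_ge 4 (Module.finrank F W) with h | h
      · exact twoFour_of_five h
      · have hb := hbig.resolve_left (by omega)
        exact twoFour_of_minus S (by omega) ((hplus (by omega) (by omega)).1 (hb.2 (by omega)))
    refine S.omega_le' P (by omega) h4 hsp h24 ?_ ?_ hMK
      (fun h hh hA => hHM ⟨mem_subspaceStabilizer_of_forall hA, hh⟩) hgM hgW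
    · intro k hk h
      have h1 := hdim k h
      exact hswap (by omega) k hk fun x hx w hw => h x hx w hw
    · rintro ⟨hq, hd, hp⟩
      refine hex ⟨hq, W', hd, fun w hw hw0 => ?_, hp, Or.inr ⟨fun a ha b hb => ha b hb, by omega⟩⟩
      obtain ⟨x, hx, hne⟩ := S.symm.exists_ne hw hw0
      exact ⟨⟨x, hx, by rwa [polar_comm]⟩, ⟨x, hx, hne⟩⟩
  · have hle : Module.finrank F W ≤ Module.finrank F W' := by
      by_contra h; exact hbig (Or.inl (by omega))
    have h4 : 4 ≤ Module.finrank F W' := by omega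
    have hsmall : Module.finrank F W' = 4 → Module.finrank F W = 4 ∧ ¬ IsPlusTypeOn (⇑Q) W := fun h => by
      have hW4 : Module.finrank F W = 4 := by omega
      exact ⟨hW4, fun hp => hbig (Or.inr ⟨by omega, fun _ => hp⟩)⟩
    have hsp : SingPerp Q W' := by
      rcases Nat.lt_or_ge 4 (Module.finrank F W') with h | h
      · exact singPerp_of_five h
      · obtain ⟨d1, hm⟩ := hsmall (by omega)
        exact singPerp_of_plus (by omega) (by_contra fun hc => hm ((hplus d1 (by omega)).2 hc))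
    have h24 : TwoFour Q W' W := by
      rcases Nat.lt_or_ge 4 (Module.finrank F W') with h | h
      · exact twoFour_of_five h
      · obtain ⟨d1, hm⟩ := hsmall (by omega)
        exact twoFour_of_minus S.symm d1 hm
    refine S.symm.omega_le' P (by omega) h4 hsp h24 ?_ ?_ hMK
      (fun h hh hA => hHM ⟨mem_subspaceStabilizer_of_forall (map_other S.symm h hh hA), hh⟩) hgM
      fun h => hgW (map_other S.symm g (hMK hgM) h)
    · intro k hk h
      have h1 := hdim k h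
      refine hswap (by omega) k hk fun x hx w hw => ?_
      have hmap : W'.map (Matrix.mulVecLin (k : Matrix ι ι F)) = W := by
        refine Submodule.eq_of_le_of_finrank_le ?_ ?_
        · rintro _ ⟨y, hy, rfl⟩; exact h y hy
        · rw [← (Submodule.equivMapOfInjective _ (gl_mulVec_injective k) W').finrank_eq]; omega
      obtain ⟨y, hy, rfl⟩ : ∃ y ∈ W', (k : Matrix ι ι F) *ᵥ y = w := by
        rw [← hmap] at hw; exact hw
      rw [omega_polar hk, polar_comm]
      exact hy x hx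
    · rintro ⟨hq, hd, hp⟩
      exact hex ⟨hq, W, hd, hW, hp, Or.inl rfl⟩

end CfsgLib.ClassicalMax.OmN
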