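/-
Non-degenerate planes: vectors of one value, similitudes, products generating the field.
-/
import Cfsg.Agent.Lib.ClassicalMax.OrthDecompTools
import Cfsg.Agent.Lib.ClassicalMax.OrthPlanes
set_option autoImplicit false

namespace CfsgLib.ClassicalMax.OmD2

open Matrix Cfsg.Geo QuadraticMap Module
open CfsgLib.Classical.Quad (NDPolar polar_self' polar_singular_self Q_comb1)
open CfsgLib.ClassicalMax.OmD (perp mem_perp finrank_perp exists_ne_zero_mem eq_zero_of_orth exists_nonsing binary_value exists_dual exists_ne_three exists_in_polar_one)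

variable {ι : Type} [Fintype ι] [DecidableEq ι] {F : Type*} [Field F]
  {Q : QuadraticForm F (ι → F)}

theorem Q_pair (x z : ι → F) (a b : F) :
    Q (a • x + b • z) = a * a * Q x + b * b * Q z + a * b * polar Q x z := by
  rw [QuadraticMap.map_add (⇑Q), QuadraticMap.map_smul, QuadraticMap.map_smul, polar_smul_left,
    polar_smul_right]
  simp only [smul_eq_mul]
  ring

/-- The vectors of one value in a subspace. -/
noncomputable def values [Fintype F] (Q : QuadraticForm F (ι → F)) (S : Submodule F (ι → F))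
    (c : F) : Finset (ι → F) := by
  classical
  exact Finset.univ.filter fun y => y ∈ S ∧ Q y = c

theorem mem_values [Fintype F] {S : Submodule F (ι → F)} {c : F} {y : ι → F} :
    y ∈ values Q S c ↔ y ∈ S ∧ Q y = c := by
  simp [values]

/-- A plane, non-degenerate for the polar form. -/
structure IsPlane (Q : QuadraticForm F (ι → F)) (S : Submodule F (ι → F)) : Prop where
  nd : IsNondegenerateOn (polar ⇑Q) S
  dim : finrank F S = 2

/-- Planes with a singular vector only for larger fields; three elements excluded. -/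
def Big [Fintype F] (Q : QuadraticForm F (ι → F)) (S : Submodule F (ι → F)) : Prop :=
  Fintype.card F ≠ 3 ∧ ((∃ v ∈ S, v ≠ 0 ∧ Q v = 0) → 7 ≤ Fintype.card F)

variable {S : Submodule F (ι → F)} (hS : IsPlane Q S)

namespace IsPlane

include hS

theorem coords {x z : ι → F} (hx : x ∈ S) (hz : z ∈ S) (hli : LinearIndependent F ![x, z])
    {v : ι → F} (hv : v ∈ S) : ∃ a b : F, v = a • x + b • z :=
  OmP.pair_span hS.dim hx hz hli hv

theorem exists_li {x : ι → F} (hx : x ∈ S) (hx0 : x ≠ 0) :
    ∃ z ∈ S, LinearIndependent F ![x, z] := by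
  obtain ⟨z, hz, hzn⟩ : ∃ z ∈ S, z ∉ Submodule.span F {x} := by
    by_contra h
    push Not at h
    have h1 := Submodule.finrank_mono (show S ≤ Submodule.span F {x} from h)
    rw [hS.dim, finrank_span_singleton hx0] at h1
    omega
  exact ⟨z, hz, (LinearIndependent.pair_iff' hx0).2 fun a ha =>
    hzn (Submodule.mem_span_singleton.2 ⟨a, ha⟩)⟩

/-- The kernel of a functional which is not zero on the plane is a line. -/
theorem ker_line (φ : (ι → F) →ₗ[F] F) (hφ : ∃ v ∈ S, φ v ≠ 0) {n y : ι → F} (hn : n ∈ S)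
    (hn0 : n ≠ 0) (hy : y ∈ S) (h1 : φ n = 0) (h2 : φ y = 0) : ∃ a : F, y = a • n := by
  by_contra hc
  push Not at hc
  have hli : LinearIndependent F ![n, y] := (LinearIndependent.pair_iff' hn0).2 fun a e => hc a e.symm
  obtain ⟨v, hv, hne⟩ := hφ
  obtain ⟨a, b, rfl⟩ := hS.coords hn hy hli hv
  exact hne (by rw [map_add, map_smul, map_smul, h1, h2, smul_zero, smul_zero, add_zero])

theorem perp_line {v : ι → F} (hv : v ∈ S) (hv0 : v ≠ 0) {n y : ι → F} (hn : n ∈ S) (hn0 : n ≠ 0)
    (hy : y ∈ S) (h1 : polar Q v n = 0) (h2 : polar Q v y = 0) : ∃ a : F, y = a • n := by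
  obtain ⟨-, w, hw, hne⟩ := hS.nd v hv hv0
  exact hS.ker_line (polarBilin Q v) ⟨w, hw, hne⟩ hn hn0 hy h1 h2

theorem sing_perp {u v : ι → F} (hu : u ∈ S) (hu0 : u ≠ 0) (hQu : Q u = 0) (hv : v ∈ S)
    (h : polar Q u v = 0) : ∃ a : F, v = a • u :=
  hS.perp_line hu hu0 hu hu0 hv (polar_singular_self hQu) h

theorem nonsing_perp {x y : ι → F} (hx : x ∈ S) (hQx : Q x ≠ 0) (hy : y ∈ S) (hy0 : y ≠ 0)
    (h : polar Q x y = 0) : Q y ≠ 0 := by
  intro hQy
  obtain ⟨a, ha⟩ := hS.sing_perp hy hy0 hQy hx (by rw [polar_comm]; exact h)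
  exact hQx (by rw [ha, QuadraticMap.map_smul, hQy, smul_zero])

theorem exists_perp {x : ι → F} (hx : x ∈ S) : ∃ y ∈ S, y ≠ 0 ∧ polar Q x y = 0 := by
  obtain ⟨y, hy, hy0⟩ := exists_ne_zero_mem (S := perp Q S x) (by
    have := finrank_perp (Q := Q) S x
    rw [hS.dim] at this
    omega)
  exact ⟨y, hy.1, hy0, by rw [polar_comm]; exact hy.2⟩

theorem polar_ne_of_li {x y : ι → F} (hx : x ∈ S) (hy : y ∈ S) (h2 : (2 : F) = 0)
    (hli : LinearIndependent F ![x, y]) : polar Q x y ≠ 0 := by
  intro h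
  have hx0 : x ≠ 0 := hli.ne_zero 0
  obtain ⟨a, ha⟩ := hS.perp_line hx hx0 hx hx0 hy (by rw [polar_self', h2, zero_mul]) h
  exact (LinearIndependent.pair_iff' hx0).1 hli a ha.symm

/-- At most two vectors of one value on an affine line. -/
theorem line_two (φ : (ι → F) →ₗ[F] F) (hφ : ∃ v ∈ S, φ v ≠ 0) {β c : F} (hc : c ≠ 0)
    {y₁ y₂ y₃ : ι → F} (h1 : y₁ ∈ S) (h2 : y₂ ∈ S) (h3 : y₃ ∈ S) (e1 : Q y₁ = c) (e2 : Q y₂ = c)
    (e3 : Q y₃ = c) (f1 : φ y₁ = β) (f2 : φ y₂ = β) (f3 : φ y₃ = β) :
    y₁ = y₂ ∨ y₁ = y₃ ∨ y₂ = y₃ := by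
  by_contra hcon
  push Not at hcon
  obtain ⟨h12, h13, h23⟩ := hcon
  set n := y₂ - y₁ with hn
  have hn0 : n ≠ 0 := sub_ne_zero.2 (Ne.symm h12)
  have hnS : n ∈ S := S.sub_mem h2 h1
  obtain ⟨a, ha⟩ := hS.ker_line φ hφ hnS hn0 (S.sub_mem h3 h1)
    (by rw [hn, map_sub, f1, f2, sub_self]) (by rw [map_sub, f1, f3, sub_self])
  have ha0 : a ≠ 0 := fun h => h13 (sub_eq_zero.1 (by rw [ha, h, zero_smul])).symm
  have ha1 : a ≠ 1 := fun h => h23 (by
    have := ha
    rw [h, one_smul, hn, sub_left_inj] at this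
    exact this.symm)
  have q2 : polar Q y₁ n + Q n = 0 := by
    have := e2
    rw [show y₂ = y₁ + (1 : F) • n by rw [one_smul, hn, add_sub_cancel], Q_comb1, e1] at this
    linear_combination this
  have q3 : a * (polar Q y₁ n) + a * a * Q n = 0 := by
    have := e3
    rw [show y₃ = y₁ + a • n by rw [← ha, add_sub_cancel], Q_comb1, e1] at this
    linear_combination this
  have hQn : Q n = 0 := by
    have : a * (a - 1) * Q n = 0 := by linear_combination q3 - a * q2
    exact (mul_eq_zero.1 this).resolve_left (mul_ne_zero ha0 (sub_ne_zero.2 ha1))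
  obtain ⟨b, hb⟩ := hS.sing_perp hnS hn0 hQn h1 (by
    rw [polar_comm]; linear_combination q2 - hQn)
  exact hc (by rw [← e1, hb, QuadraticMap.map_smul, hQn, smul_zero])

/-- A similitude with a prescribed image. -/
theorem exists_similitude {x b : ι → F} (hx : x ∈ S) (hQx : Q x ≠ 0) (hb : b ∈ S) :
    ∃ L : (ι → F) →ₗ[F] (ι → F),
      L x = b ∧ ∀ v ∈ S, L v ∈ S ∧ Q (L v) = Q b / Q x * Q v := by
  have hx0 : x ≠ 0 := fun h => hQx (by rw [h, map_zero Q])
  obtain ⟨z, hz, hli⟩ := hS.exists_li hx hx0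
  obtain ⟨r, m, hrm⟩ := hS.coords hx hz hli hb
  set b₂ : ι → F := (-(m * (Q z / Q x))) • x + (r + m * (polar Q x z / Q x)) • z with hb₂
  obtain ⟨L, hL⟩ := LinearMap.exists_extend ((Module.Basis.span hli).constr F ![b, b₂])
  have hLx : L x = b := by
    have := LinearMap.congr_fun hL (Module.Basis.span hli 0)
    rw [LinearMap.comp_apply, Module.Basis.constr_basis, Module.Basis.span_apply] at this
    simpa using this
  have hLz : L z = b₂ := by
    have := LinearMap.congr_fun hL (Module.Basis.span hli 1)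
    rw [LinearMap.comp_apply, Module.Basis.constr_basis, Module.Basis.span_apply] at this
    simpa using this
  refine ⟨L, hLx, fun v hv => ?_⟩
  obtain ⟨a, c, rfl⟩ := hS.coords hx hz hli hv
  have e : L (a • x + c • z) = (a * r + c * (-(m * (Q z / Q x)))) • x
      + (a * m + c * (r + m * (polar Q x z / Q x))) • z := by
    rw [map_add, map_smul, map_smul, hLx, hLz, hrm, hb₂]
    module
  refine ⟨by rw [e]; exact S.add_mem (S.smul_mem _ hx) (S.smul_mem _ hz), ?_⟩
  rw [e, hrm, Q_pair, Q_pair, Q_pair]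
  field_simp
  ring

variable [Fintype F]

theorem exists_Q_ne : ∃ x ∈ S, Q x ≠ 0 :=
  exists_nonsing hS.nd le_rfl (by rw [hS.dim]; omega)

theorem exists_value {c : F} (hc : c ≠ 0) : ∃ y ∈ S, Q y = c ∧ y ≠ 0 := by
  obtain ⟨a, ha, hQa⟩ := hS.exists_Q_ne
  suffices ∃ y ∈ S, Q y = c from
    this.imp fun y hy => ⟨hy.1, hy.2, fun e => hc (by rw [← hy.2, e, map_zero Q])⟩
  by_cases h2 : (2 : F) = 0
  · haveI := OrthCrit.charP_two_of h2
    obtain ⟨e, he⟩ := FiniteField.isSquare_of_char_two (ringChar.eq F 2) (c / Q a)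
    refine ⟨e • a, S.smul_mem _ ha, ?_⟩
    rw [QuadraticMap.map_smul, smul_eq_mul, ← he, div_mul_cancel₀ _ hQa]
  · obtain ⟨z, hz, hz0, haz⟩ := hS.exists_perp ha
    obtain ⟨s, t, hst⟩ := binary_value h2 hQa (hS.nonsing_perp ha hQa hz hz0 haz) hc
    exact ⟨s • a + t • z, S.add_mem (S.smul_mem _ ha) (S.smul_mem _ hz),
      by rw [Q_pair, haz]; linear_combination hst⟩

omit hS [Fintype F] in
/-- A quadratic polynomial has at most two roots. -/
theorem roots_two {c B C : F} (hc : c ≠ 0) (s₁ s₂ s₃ : F) (h1 : s₁ * s₁ * c + s₁ * B + C = 0)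
    (h2 : s₂ * s₂ * c + s₂ * B + C = 0) (h3 : s₃ * s₃ * c + s₃ * B + C = 0) :
    s₁ = s₂ ∨ s₁ = s₃ ∨ s₂ = s₃ := by
  by_contra hcon
  push Not at hcon
  obtain ⟨h12, h13, h23⟩ := hcon
  have a1 : (s₁ + s₂) * c + B = 0 := (mul_eq_zero.1
    (show (s₁ - s₂) * ((s₁ + s₂) * c + B) = 0 by linear_combination h1 - h2)).resolve_left
      (sub_ne_zero.2 h12)
  have a2 : (s₁ + s₃) * c + B = 0 := (mul_eq_zero.1
    (show (s₁ - s₃) * ((s₁ + s₃) * c + B) = 0 by linear_combination h1 - h3)).resolve_left
      (sub_ne_zero.2 h13)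
  exact mul_ne_zero (sub_ne_zero.2 h23) hc (by linear_combination a1 - a2)

omit hS in
theorem card_roots_le [DecidableEq F] {c : F} (hc : c ≠ 0) (B C : F) :
    (Finset.univ.filter fun s : F => s * s * c + s * B + C = 0).card ≤ 2 := by
  by_contra h
  obtain ⟨a, b, d, ha, hb, hd, hab, had, hbd⟩ := Finset.two_lt_card_iff.1 (not_le.1 h)
  simp only [Finset.mem_filter, Finset.mem_univ, true_and] at ha hb hd
  rcases roots_two hc a b d ha hb hd with e | e | e
  · exact hab e
  · exact had e
  · exact hbd e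

variable (hbig : Big Q S)
include hbig

theorem five_values (h2 : Fintype.card F ≠ 2) {c : F} (hc : c ≠ 0) :
    5 ≤ (values Q S c).card := by
  classical
  obtain ⟨x, hx, hQx, hx0⟩ := hS.exists_value hc
  obtain ⟨z, hz, hli⟩ := hS.exists_li hx hx0
  let p : F → ι → F := fun s => z + s • x
  have hpS : ∀ s, p s ∈ S := fun s => S.add_mem hz (S.smul_mem _ hx)
  have hp0 : ∀ s, p s ≠ 0 := fun s h =>
    one_ne_zero (LinearIndependent.pair_iff.1 hli s 1 (by rw [one_smul, add_comm]; exact h)).2
  have hpeq : ∀ s s' a, p s' = a • p s → s' = s := fun s s' a h => by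
    obtain ⟨e1, e2⟩ := LinearIndependent.pair_iff.1 hli (s' - a * s) (1 - a)
      (by rw [show (s' - a * s) • x + (1 - a) • z = p s' - a • p s by simp only [p]; module, h, sub_self])
    linear_combination e1 - s * e2
  set T := Finset.univ.filter fun s : F => Q (p s) ≠ 0 ∧ polar Q x (p s) ≠ 0 with hT
  let f : F → ι → F := fun s => x - (polar Q x (p s) / Q (p s)) • p s
  have hfinj : Set.InjOn f T := by
    intro s hs s' hs' e
    simp only [hT, Finset.coe_filter, Finset.mem_univ, true_and, Set.mem_setOf_eq] at hs hs'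
    refine (hpeq s s' ((polar Q x (p s') / Q (p s'))⁻¹ * (polar Q x (p s) / Q (p s))) ?_).symm
    rw [mul_smul, show (polar Q x (p s) / Q (p s)) • p s = (polar Q x (p s') / Q (p s')) • p s' from
      sub_right_injective e, inv_smul_smul₀ (div_ne_zero hs'.2 hs'.1)]
  have hsub : insert x (T.image f) ⊆ values Q S c := by
    intro y hy
    simp only [Finset.mem_insert, Finset.mem_image] at hy
    rcases hy with rfl | ⟨s, hs, rfl⟩
    · simp [mem_values, hx, hQx]
    · simp only [hT, Finset.mem_filter, Finset.mem_univ, true_and] at hs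
      rw [mem_values]
      refine ⟨S.sub_mem hx (S.smul_mem _ (hpS s)), ?_⟩
      simp only [f]
      rw [sub_eq_add_neg, ← neg_smul, Q_comb1, hQx]
      field_simp [hs.1]
      ring
  have hxn : x ∉ T.image f := by
    simp only [Finset.mem_image, hT, Finset.mem_filter, Finset.mem_univ, true_and, not_exists,
      not_and]
    intro s hs e
    have := smul_eq_zero.1 (sub_eq_self.1 e)
    exact this.elim (div_ne_zero hs.2 hs.1) (hp0 s)
  have hcard := Finset.card_le_card hsub
  rw [Finset.card_insert_of_notMem hxn, Finset.card_image_of_injOn hfinj] at hcard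
  set Z := Finset.univ.filter fun s : F => Q (p s) = 0 with hZ
  set O := Finset.univ.filter fun s : F => polar Q x (p s) = 0 with hO
  have hcover : Finset.univ ⊆ T ∪ Z ∪ O := fun s _ => by
    simp only [hT, hZ, hO, Finset.mem_union, Finset.mem_filter, Finset.mem_univ, true_and]
    tauto
  have hn := (Finset.card_le_card hcover).trans
    ((Finset.card_union_le _ _).trans (Nat.add_le_add_right (Finset.card_union_le _ _) _))
  rw [Finset.card_univ] at hn
  have hZ2 : Z.card ≤ 2 := by
    have e : Z = Finset.univ.filter fun s : F => s * s * c + s * polar Q z x + Q z = 0 := by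
      refine Finset.filter_congr fun s _ => ?_
      simp only [p, Q_comb1, hQx]
      constructor <;> intro h <;> linear_combination h
    rw [e]
    exact card_roots_le hc _ _
  have hZ0 : (¬ ∃ v ∈ S, v ≠ 0 ∧ Q v = 0) → Z.card = 0 := fun h => by
    rw [Finset.card_eq_zero, hZ, Finset.filter_eq_empty_iff]
    exact fun s _ e => h ⟨p s, hpS s, hp0 s, e⟩
  have hpol : ∀ s, polar Q x (p s) = polar Q x z + s * (2 * c) := fun s => by
    simp only [p, polar_add_right, polar_smul_right, polar_self', hQx, smul_eq_mul]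
  have hq1 : 1 < Fintype.card F := Fintype.one_lt_card
  obtain ⟨hn3, hs7⟩ := hbig
  by_cases htwo : (2 : F) = 0
  · have hO0 : O.card = 0 := by
      rw [Finset.card_eq_zero, hO, Finset.filter_eq_empty_iff]
      intro s _ e
      rw [hpol, htwo, zero_mul, mul_zero, add_zero] at e
      exact hS.polar_ne_of_li hx hz htwo hli e
    by_cases hsing : ∃ v ∈ S, v ≠ 0 ∧ Q v = 0
    · have := hs7 hsing; omega
    · have := hZ0 hsing; omega
  · have hO1 : O.card ≤ 1 := by
      rw [Finset.card_le_one]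
      intro a ha b hb
      simp only [hO, Finset.mem_filter, Finset.mem_univ, true_and, hpol] at ha hb
      exact mul_right_cancel₀ (mul_ne_zero htwo hc) (by linear_combination ha - hb)
    have hne4 : Fintype.card F ≠ 4 := fun e => htwo (by
      have h4 : ((4 : ℕ) : F) = 0 := by rw [← e]; exact Nat.cast_card_eq_zero F
      have : (2 : F) * 2 = 0 := by rw [← h4]; norm_num
      exact mul_self_eq_zero.1 this)
    by_cases hsing : ∃ v ∈ S, v ≠ 0 ∧ Q v = 0
    · have := hs7 hsing; omega
    · have := hZ0 hsing; omega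

/-- A vector of given value off two given affine lines. -/
theorem avoid {c : F} (hc : c ≠ 0) (φ₁ φ₂ : (ι → F) →ₗ[F] F) (h1 : ∃ v ∈ S, φ₁ v ≠ 0)
    (h2 : ∃ v ∈ S, φ₂ v ≠ 0) (β₁ β₂ : F) (hβ : Fintype.card F = 2 → β₁ = 0 ∧ β₂ = 0) :
    ∃ y ∈ S, Q y = c ∧ φ₁ y ≠ β₁ ∧ φ₂ y ≠ β₂ := by
  classical
  by_cases hq : Fintype.card F = 2
  · obtain ⟨rfl, rfl⟩ := hβ hq
    have hbool : ∀ b : F, b ≠ 0 → b = 1 := by
      intro b hb
      by_contra hb1
      have h3 : ({0, 1, b} : Finset F).card = 3 :=
        Finset.card_eq_three.2 ⟨0, 1, b, zero_ne_one, Ne.symm hb, Ne.symm hb1, rfl⟩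
      have := Finset.card_le_univ ({0, 1, b} : Finset F)
      omega
    obtain ⟨v, hv, hv'⟩ : ∃ v ∈ S, φ₁ v ≠ 0 ∧ φ₂ v ≠ 0 := by
      obtain ⟨v₁, hv₁, e1⟩ := h1
      obtain ⟨v₂, hv₂, e2⟩ := h2
      by_cases e : φ₂ v₁ = 0
      · by_cases e' : φ₁ v₂ = 0
        · exact ⟨v₁ + v₂, S.add_mem hv₁ hv₂, by rw [map_add, e', add_zero]; exact e1,
            by rw [map_add, e, zero_add]; exact e2⟩
        · exact ⟨v₂, hv₂, e', e2⟩
      · exact ⟨v₁, hv₁, e1, e⟩
    have hQv : Q v ≠ 0 := fun e => by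
      have := hbig.2 ⟨v, hv, fun h0 => hv'.1 (by rw [h0, map_zero]), e⟩
      omega
    exact ⟨v, hv, by rw [hbool _ hQv, hbool _ hc], hv'⟩
  · have h5 := hS.five_values hbig hq hc
    have hle : ∀ (φ : (ι → F) →ₗ[F] F) (β : F), (∃ v ∈ S, φ v ≠ 0) →
        ((values Q S c).filter fun y => φ y = β).card ≤ 2 := by
      intro φ β hφ
      by_contra h
      obtain ⟨a, b, d, ha, hb, hd, hab, had, hbd⟩ := Finset.two_lt_card_iff.1 (not_le.1 h)
      simp only [Finset.mem_filter, mem_values] at ha hb hd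
      rcases hS.line_two φ hφ hc ha.1.1 hb.1.1 hd.1.1 ha.1.2 hb.1.2 hd.1.2 ha.2 hb.2 hd.2 with
        e | e | e
      · exact hab e
      · exact had e
      · exact hbd e
    have l1 := hle φ₁ β₁ h1
    have l2 := hle φ₂ β₂ h2
    set A := values Q S c with hA
    obtain ⟨y, hy, hy'⟩ : ∃ y ∈ A, ¬ (φ₁ y = β₁ ∨ φ₂ y = β₂) := by
      by_contra h
      push Not at h
      have hsub : A ⊆ A.filter (fun y => φ₁ y = β₁) ∪ A.filter (fun y => φ₂ y = β₂) := fun y hy => by
        rcases (em (φ₁ y = β₁)) with e | e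
        · exact Finset.mem_union_left _ (Finset.mem_filter.2 ⟨hy, e⟩)
        · exact Finset.mem_union_right _ (Finset.mem_filter.2 ⟨hy, (h y hy).resolve_left e⟩)
      have := (Finset.card_le_card hsub).trans (Finset.card_union_le _ _)
      omega
    rw [not_or] at hy'
    rw [hA, mem_values] at hy
    exact ⟨y, hy.1, hy.2, hy'⟩

/-- A second vector of given value. -/
theorem exists_value_li {c : F} (hc : c ≠ 0) {x : ι → F} (hx : x ∈ S) (hx0 : x ≠ 0) :
    ∃ y ∈ S, Q y = c ∧ LinearIndependent F ![x, y] := by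
  obtain ⟨z, hz, hz0, hxz⟩ := hS.exists_perp hx
  obtain ⟨-, w, hw, hzw⟩ := hS.nd z hz hz0
  obtain ⟨y, hy, hQy, hzy, -⟩ := hS.avoid hbig hc (polarBilin Q z) (polarBilin Q z) ⟨w, hw, hzw⟩
    ⟨w, hw, hzw⟩ 0 0 fun _ => ⟨rfl, rfl⟩
  refine ⟨y, hy, hQy, (LinearIndependent.pair_iff' hx0).2 fun a ha => hzy ?_⟩
  change polar Q z y = 0
  rw [← ha, polar_smul_right, polar_comm Q z x, hxz, smul_zero]

theorem exists_two_values {c : F} (hc : c ≠ 0) :
    ∃ x ∈ S, ∃ y ∈ S, Q x = c ∧ Q y = c ∧ LinearIndependent F ![x, y] := by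
  obtain ⟨x, hx, hQx, hx0⟩ := hS.exists_value hc
  obtain ⟨y, hy, hQy, hli⟩ := hS.exists_value_li hbig hc hx hx0
  exact ⟨x, hx, y, hy, hQx, hQy, hli⟩

/-- A ring containing the products of the vectors of one value is the whole field. -/
theorem ring_top {η : F} (hη : η ≠ 0) (K : Subring F)
    (hK : ∀ r ∈ S, ∀ r' ∈ S, Q r = η → Q r' = η → polar Q r r' / η ∈ K) : ∀ a : F, a ∈ K := by
  classical
  obtain ⟨x, hx, hQx, hx0⟩ := hS.exists_value hη
  obtain ⟨z, hz, hli⟩ := hS.exists_li hx hx0
  set B := polar Q x z with hB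
  set C := Q z with hC
  let p : F → ι → F := fun s => z + s • x
  have hQp : ∀ s, Q (p s) = s * s * η + s * B + C := fun s => by
    simp only [p, Q_comb1, hQx, hC, hB, polar_comm Q z x]; ring
  have hBp : ∀ s, polar Q x (p s) = B + s * (2 * η) := fun s => by
    simp only [p, polar_add_right, polar_smul_right, polar_self', hQx, smul_eq_mul, hB]
  have hdisc : 4 * η * C - B * B ≠ 0 := by
    intro h
    obtain ⟨-, w, hw, -⟩ := hS.nd x hx hx0
    by_cases h2 : (2 : F) = 0
    · refine hS.polar_ne_of_li hx hz h2 hli ?_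
      exact mul_self_eq_zero.1 (show B * B = 0 by linear_combination -h + (2 * η * C) * h2)
    · have hn : (2 * η) • z + (-B) • x ≠ 0 := fun e => mul_ne_zero h2 hη
        (LinearIndependent.pair_iff.1 hli (-B) (2 * η) (by rw [add_comm]; exact e)).2
      refine hn (eq_zero_of_orth hS.nd (S.add_mem (S.smul_mem _ hz) (S.smul_mem _ hx)) fun v hv => ?_)
      obtain ⟨a, b, rfl⟩ := hS.coords hx hz hli hv
      simp only [polar_add_left, polar_add_right, polar_smul_left, polar_smul_right, polar_self',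
        polar_comm Q z x, hQx, smul_eq_mul, ← hB, ← hC]
      linear_combination b * h
  let τ : F → F := fun s => 2 - (B + s * (2 * η)) * (B + s * (2 * η)) / (η * (s * s * η + s * B + C))
  set T := Finset.univ.filter fun s : F => s * s * η + s * B + C ≠ 0 with hT
  have hτK : ∀ s ∈ T, τ s ∈ K := by
    intro s hs
    simp only [hT, Finset.mem_filter, Finset.mem_univ, true_and] at hs
    have hs' : Q (p s) ≠ 0 := by rwa [hQp]
    have h := hK x hx (x + (-(polar Q x (p s) / Q (p s))) • p s)
      (S.add_mem hx (S.smul_mem _ (S.add_mem hz (S.smul_mem _ hx)))) hQx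
      (by rw [Q_comb1, hQx]; field_simp; ring)
    have e : τ s = polar Q x (x + (-(polar Q x (p s) / Q (p s))) • p s) / η := by
      rw [polar_add_right, polar_smul_right, polar_self', hQx, hBp, hQp, smul_eq_mul]
      simp only [τ]
      generalize B + s * (2 * η) = v
      generalize s * s * η + s * B + C = d at hs ⊢
      field_simp
      ring
    rwa [e]
  have hτne : ∀ s ∈ T, τ s ≠ -2 := by
    intro s hs e
    simp only [hT, Finset.mem_filter, Finset.mem_univ, true_and] at hs
    simp only [τ] at e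
    have e1 : (B + s * (2 * η)) * (B + s * (2 * η)) / (η * (s * s * η + s * B + C)) = 4 := by
      linear_combination -e
    rw [div_eq_iff (mul_ne_zero hη hs)] at e1
    exact hdisc (by linear_combination -e1)
  have hfib : ∀ a, (T.filter fun s => τ s = a).card ≤ 2 := by
    intro a
    by_cases ha : a = -2
    · subst ha
      rw [Finset.card_eq_zero.2 (Finset.filter_eq_empty_iff.2 hτne)]
      omega
    refine (Finset.card_le_card (t := Finset.univ.filter fun s : F =>
      s * s * ((a + 2) * η * η) + s * ((a + 2) * η * B) + (B * B - (2 - a) * η * C) = 0) ?_).trans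
      (card_roots_le (mul_ne_zero (mul_ne_zero (fun h => ha (by linear_combination h)) hη) hη) _ _)
    intro s hs
    simp only [hT, Finset.mem_filter, Finset.mem_univ, true_and, τ] at hs ⊢
    obtain ⟨hs, e⟩ := hs
    have e1 : (B + s * (2 * η)) * (B + s * (2 * η)) / (η * (s * s * η + s * B + C)) = 2 - a := by
      linear_combination -e
    rw [div_eq_iff (mul_ne_zero hη hs)] at e1
    linear_combination e1
  set I := insert (-2 : F) (T.image τ) with hI
  have hIK : ∀ a ∈ I, a ∈ K := by
    intro a ha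
    rcases Finset.mem_insert.1 ha with rfl | ha
    · have h := hK x hx (-x) (S.neg_mem hx) hQx (by rw [QuadraticMap.map_neg, hQx])
      rwa [polar_neg_right, polar_self', hQx, neg_div, mul_div_assoc, div_self hη, mul_one] at h
    · obtain ⟨s, hs, rfl⟩ := Finset.mem_image.1 ha
      exact hτK s hs
  have hIcard : T.card + 2 ≤ 2 * I.card := by
    have h1 := Finset.card_le_mul_card_image (f := τ) T 2 fun a _ => hfib a
    rw [hI, Finset.card_insert_of_notMem (by
      simp only [Finset.mem_image]; rintro ⟨s, hs, e⟩; exact hτne s hs e)]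
    omega
  have hTcard : Fintype.card F ≤ T.card + (Finset.univ.filter
      fun s : F => s * s * η + s * B + C = 0).card := by
    rw [hT, add_comm, Finset.card_filter_add_card_filter_not, Finset.card_univ]
  -- the ring is a field
  let L : Subfield F :=
    { K with
      inv_mem' := fun a ha => by
        rcases eq_or_ne a 0 with rfl | h0
        · simpa using K.zero_mem
        · have : a⁻¹ = a ^ (Fintype.card F - 2) := by
            refine inv_eq_of_mul_eq_one_right ?_
            rw [← pow_succ', show Fintype.card F - 2 + 1 = Fintype.card F - 1 by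
              have := Fintype.one_lt_card (α := F); omega,
              FiniteField.pow_card_sub_one_eq_one a h0]
          rw [this]; exact K.pow_mem ha _ }
  have hIL : I.card ≤ Fintype.card L := by
    rw [← Fintype.card_coe]
    exact Fintype.card_le_of_injective (fun a => ⟨a.1, hIK a.1 a.2⟩) fun a b e =>
      Subtype.ext (congrArg (fun z : L => (z : F)) e)
  have hpow := Module.card_eq_pow_finrank (K := L) (V := F)
  have hd : finrank L F ≠ 0 := Nat.pos_iff_ne_zero.1 Module.finrank_pos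
  by_cases hone : finrank L F = 1
  · rw [hone, pow_one] at hpow
    intro a
    obtain ⟨b, hb⟩ := ((Fintype.bijective_iff_injective_and_card (fun z : L => (z : F))).2
      ⟨Subtype.val_injective, hpow.symm⟩).2 a
    exact hb ▸ b.2
  exfalso
  have hsq : Fintype.card L * Fintype.card L ≤ Fintype.card F := by
    rw [hpow, ← _root_.sq]
    exact Nat.pow_le_pow_right (Fintype.card_pos) (by omega)
  have hmm := Nat.mul_le_mul (hIcard.trans (Nat.mul_le_mul_left 2 hIL))
    (hIcard.trans (Nat.mul_le_mul_left 2 hIL))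
  have hz2 := card_roots_le hη B C
  by_cases hsing : ∃ v ∈ S, v ≠ 0 ∧ Q v = 0
  · have h7 := hbig.2 hsing
    have hm : Fintype.card F * Fintype.card F ≤ (T.card + 2) * (T.card + 2) :=
      Nat.mul_le_mul (by omega) (by omega)
    nlinarith
  · have h0 : (Finset.univ.filter fun s : F => s * s * η + s * B + C = 0).card = 0 := by
      rw [Finset.card_eq_zero, Finset.filter_eq_empty_iff]
      intro s _ e
      refine hsing ⟨p s, S.add_mem hz (S.smul_mem _ hx), fun h => ?_, by rw [hQp]; exact e⟩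
      exact one_ne_zero (LinearIndependent.pair_iff.1 hli s 1 (by rw [one_smul, add_comm]; exact h)).2
    have hm : (Fintype.card F + 2) * (Fintype.card F + 2) ≤ (T.card + 2) * (T.card + 2) :=
      Nat.mul_le_mul (by omega) (by omega)
    nlinarith

end IsPlane

end CfsgLib.ClassicalMax.OmD2
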