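/-
Decompositions into planes: an element outside the stabiliser fixing a non-singular vector of a member.
-/
import Cfsg.Agent.Lib.ClassicalMax.OrthPlanesMaxTools
import Cfsg.Agent.Lib.ClassicalMax.OrthDecompBlocks
import Cfsg.Agent.Lib.ClassicalMax.Frames
set_option autoImplicit false

namespace CfsgLib.ClassicalMax.OmD2

open Matrix Cfsg.Geo QuadraticMap Module
open CfsgLib.Classical.Quad (NDPolar polar_self' polar_singular_self Q_comb1)
open CfsgLib.ClassicalMax.OmD (Dec InBlock rr rr_mulVec rr_fix rr_conj rr_inv pair_mem eq_zero_of_orth exists_dual exists_in_polar_one exists_ne_three)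
open CfsgLib.ClassicalMax.OmS (omega_iso omega_polar)

variable {ι : Type} [Fintype ι] [DecidableEq ι] {F : Type*} [Field F]
  {Q : QuadraticForm F (ι → F)} {t : ℕ} {D : Fin t → Submodule F (ι → F)}

/-- The moved part of a product of two reflections. -/
theorem pair_apply {a d : ι → F} (hQ : IsNondegenerateQuadraticForm ⇑Q) (ha : Q a ≠ 0)
    (hd : Q d ≠ 0) (v : ι → F) :
    ((rr hQ a * rr hQ d : GL ι F) : Matrix ι ι F) *ᵥ v = v +
      ((-(polar Q v a / Q a) + polar Q v d / Q d * (polar Q d a / Q a)) • a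
        + (-(polar Q v d / Q d)) • d) := by
  rw [gl_mulVec_mul, rr_mulVec hQ hd, rr_mulVec hQ ha, polar_sub_left, polar_smul_left,
    smul_eq_mul, sub_div, mul_div_assoc]
  module

/-- A product of two reflections permuting the members involves at most two of them. -/
theorem pair_notMem_span (h : Dec Q 2 D) {a d : ι → F} (ha : Q a ≠ 0) (hd : Q d ≠ 0)
    (hli : LinearIndependent F ![a, d]) {p q r : Fin t} (hpq : p ≠ q) (hpr : p ≠ r) (hqr : q ≠ r)
    (hp : h.π p a ≠ 0 ∨ h.π p d ≠ 0) (hq : h.π q a ≠ 0 ∨ h.π q d ≠ 0)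
    (hr : h.π r a ≠ 0 ∨ h.π r d ≠ 0) :
    rr h.qform a * rr h.qform d ∉ decompositionStabilizer D := by
  classical
  intro hb
  set b := rr h.qform a * rr h.qform d with hbdef
  obtain ⟨σ, hσ⟩ := hb
  have hmap : ∀ i, ∀ v ∈ D i, (b : Matrix ι ι F) *ᵥ v ∈ D (σ i) := fun i v hv => by
    rw [← hσ i]; exact ⟨v, hv, Matrix.toLin'_apply _ _⟩
  set U := Submodule.span F ({a, d} : Set (ι → F)) with hU
  have haU : a ∈ U := Submodule.subset_span (by simp)
  have hdU : d ∈ U := Submodule.subset_span (by simp)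
  have hbvU : ∀ v, (b : Matrix ι ι F) *ᵥ v - v ∈ U := fun v => by
    rw [hbdef, pair_apply _ ha hd, add_sub_cancel_left]
    exact U.add_mem (U.smul_mem _ haU) (U.smul_mem _ hdU)
  have hU2 : finrank F U ≤ 2 := by
    have := finrank_range_le_card (R := F) (![a, d])
    rw [Matrix.range_cons_cons_empty, Fintype.card_fin] at this
    exact this
  by_cases hfix : ∀ i, σ i = i
  · have hblk : ∀ i, ∀ v ∈ D i, (b : Matrix ι ι F) *ᵥ v ∈ D i := fun i v hv => by
      have := hmap i v hv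
      rwa [hfix i] at this
    have hcomp : ∀ i w, h.π i ((b : Matrix ι ι F) *ᵥ w - w) ∈ U := by
      intro i w
      have hπ : h.π i ((b : Matrix ι ι F) *ᵥ w) = (b : Matrix ι ι F) *ᵥ h.π i w := by
        conv_lhs => rw [← h.π_sum w, mulVec_sum, map_sum]
        rw [Finset.sum_eq_single i]
        · exact h.π_self (hblk i _ (h.π_mem w i))
        · exact fun j _ hji => h.π_other (Ne.symm hji) (hblk j _ (h.π_mem w j))
        · exact fun hn => absurd (Finset.mem_univ i) hn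
      rw [map_sub, hπ]
      exact hbvU _
    have himg : ∀ i, h.π i a ∈ U ∧ h.π i d ∈ U := by
      intro i
      obtain ⟨φ, hφ⟩ := LinearMap.exists_extend ((Module.Basis.span hli).constr F (![1, 0] : Fin 2 → F))
      obtain ⟨ψ, hψ⟩ := LinearMap.exists_extend ((Module.Basis.span hli).constr F (![0, 1] : Fin 2 → F))
      have key : ∀ (θ : (ι → F) →ₗ[F] F) (c : Fin 2 → F),
          θ.comp (Submodule.span F (Set.range ![a, d])).subtype = (Module.Basis.span hli).constr F c →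
          θ a = c 0 ∧ θ d = c 1 := by
        intro θ c hθ
        constructor
        · have := LinearMap.congr_fun hθ (Module.Basis.span hli 0)
          rw [LinearMap.comp_apply, Module.Basis.constr_basis, Module.Basis.span_apply] at this
          simpa using this
        · have := LinearMap.congr_fun hθ (Module.Basis.span hli 1)
          rw [LinearMap.comp_apply, Module.Basis.constr_basis, Module.Basis.span_apply] at this
          simpa using this
      obtain ⟨hφa, hφd⟩ := key φ _ hφ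
      obtain ⟨hψa, hψd⟩ := key ψ _ hψ
      obtain ⟨w, hw⟩ := Classical.Quad.exists_polar h.nd φ
      obtain ⟨w', hw'⟩ := Classical.Quad.exists_polar h.nd ψ
      have e1 : (b : Matrix ι ι F) *ᵥ w - w = (-(Q a)⁻¹) • a := by
        rw [hbdef, pair_apply _ ha hd, hw, hw, hφa, hφd]
        simp
      have hai : h.π i a ∈ U := by
        have := hcomp i w
        rw [e1, map_smul] at this
        exact (U.smul_mem_iff (neg_ne_zero.2 (inv_ne_zero ha))).1 this
      refine ⟨hai, ?_⟩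
      have := hcomp i w'
      rw [hbdef, pair_apply _ ha hd, add_sub_cancel_left, hw', hw', hψa, hψd, map_add, map_smul,
        map_smul, Submodule.add_mem_iff_right _ (U.smul_mem _ hai)] at this
      exact (U.smul_mem_iff (neg_ne_zero.2 (div_ne_zero (by simp) hd))).1 this
    have pick : ∀ s, (h.π s a ≠ 0 ∨ h.π s d ≠ 0) → ∃ v ∈ D s, v ≠ 0 ∧ v ∈ U := by
      rintro s (hs | hs)
      · exact ⟨_, h.π_mem a s, hs, (himg s).1⟩
      · exact ⟨_, h.π_mem d s, hs, (himg s).2⟩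
    obtain ⟨x, hx, hx0, hxU⟩ := pick p hp
    obtain ⟨y, hy, hy0, hyU⟩ := pick q hq
    obtain ⟨z, hz, hz0, hzU⟩ := pick r hr
    have hind : LinearIndependent F ![x, y, z] := by
      refine Fintype.linearIndependent_iff.2 fun f hf => ?_
      simp only [Fin.sum_univ_three, Matrix.cons_val_zero, Matrix.cons_val_one,
        Matrix.cons_val_two, Matrix.tail_cons, Matrix.head_cons] at hf
      have e0 := congrArg (h.π p) hf
      have e1 := congrArg (h.π q) hf
      have e2 := congrArg (h.π r) hf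
      simp [map_add, map_smul, h.π_self hx, h.π_self hy, h.π_self hz, h.π_other hpq hy,
        h.π_other hpq.symm hx, h.π_other hpr hz, h.π_other hpr.symm hx, h.π_other hqr hz,
        h.π_other hqr.symm hy, hx0, hy0, hz0] at e0 e1 e2
      intro s; fin_cases s <;> assumption
    have h1 := Submodule.finrank_mono (show Submodule.span F (Set.range ![x, y, z]) ≤ U from
      Submodule.span_le.2 (Set.range_subset_iff.2 fun s => by fin_cases s <;> assumption))
    rw [finrank_span_eq_card hind, Fintype.card_fin] at h1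
    omega
  · push Not at hfix
    obtain ⟨i, hi⟩ := hfix
    let L : D i →ₗ[F] U :=
      ((Matrix.mulVecLin (b : Matrix ι ι F) - LinearMap.id).comp (D i).subtype).codRestrict U
        fun v => hbvU v
    have hL : Function.Injective L := by
      rw [injective_iff_map_eq_zero]
      intro v hv
      have e : (b : Matrix ι ι F) *ᵥ (v : ι → F) = v := sub_eq_zero.1 (congrArg Subtype.val hv)
      by_contra hv0
      have := hmap i v v.2
      rw [e] at this
      exact hi (h.eq_index v.2 this (fun e => hv0 (Subtype.ext e))).symm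
    have hsur : Function.Surjective L := (LinearMap.injective_iff_surjective_of_finrank_eq_finrank
      (le_antisymm (LinearMap.finrank_le_finrank_of_injective hL) (by rw [h.dim]; exact hU2))).1 hL
    have hzero : ∀ w ∈ U, ∀ s, s ≠ i → s ≠ σ i → h.π s w = 0 := by
      intro w hw s hsi hsσ
      obtain ⟨v, hv⟩ := hsur ⟨w, hw⟩
      have e : (b : Matrix ι ι F) *ᵥ (v : ι → F) - v = w := congrArg Subtype.val hv
      rw [← e, map_sub, h.π_other hsσ (hmap i v v.2), h.π_other hsi v.2, sub_zero]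
    have hmem : ∀ s, (h.π s a ≠ 0 ∨ h.π s d ≠ 0) → s = i ∨ s = σ i := fun s hs => by
      by_contra hc
      push Not at hc
      exact hs.elim (fun e => e (hzero a haU s hc.1 hc.2)) fun e => e (hzero d hdU s hc.1 hc.2)
    rcases hmem p hp with rfl | rfl <;> rcases hmem q hq with h1 | h1 <;>
      rcases hmem r hr with h2 | h2 <;> subst_vars <;> simp at *

variable [Fintype F]

/-- The decompositions into planes treated here. -/
structure Good2 (Q : QuadraticForm F (ι → F)) (D : Fin t → Submodule F (ι → F)) : Prop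
    extends Dec Q 2 D where
  card : 7 ≤ Fintype.card ι
  big : ∀ i, Big Q (D i)
  t5 : 5 ≤ t

namespace Good2

variable (G : Good2 Q D)
include G

theorem plane (i : Fin t) : IsPlane Q (D i) := ⟨G.toDec.block i, G.toDec.dim i⟩

theorem sing_transfer {i j : Fin t} {v : ι → F} (hv : v ∈ D i) (hv0 : v ≠ 0) (hQv : Q v = 0) :
    ∃ w ∈ D j, w ≠ 0 ∧ Q w = 0 := by
  obtain ⟨e, he⟩ := G.toDec.dec.isometric i j
  refine ⟨_, (e ⟨v, hv⟩).2, fun h0 => ?_, by rw [he]; exact hQv⟩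
  have : e ⟨v, hv⟩ = 0 := Subtype.ext h0
  rw [LinearEquiv.map_eq_zero_iff] at this
  exact hv0 (congrArg Subtype.val this)

theorem exists_avoid (s : Finset (Fin t)) (h : s.card < 5) : ∃ r, r ∉ s := by
  by_contra hc
  push Not at hc
  have := Finset.card_le_card (s := Finset.univ) fun r _ => hc r
  rw [Finset.card_univ, Fintype.card_fin] at this
  have := G.t5
  omega

/-- An isometry keeping the vectors of one value inside the members permutes the members. -/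
theorem mem_stab_of_value {m : GL ι F} (hm : m ∈ omegaGL ⇑Q) {c : F} (hc : c ≠ 0)
    (hblk : ∀ i, ∀ x ∈ D i, Q x = c → InBlock D ((m : Matrix ι ι F) *ᵥ x)) :
    m ∈ decompositionStabilizer D := by
  classical
  have hD := G.toDec
  choose x₀ hx₀ y₀ hy₀ hQx₀ hQy₀ hli₀ using fun i => (G.plane i).exists_two_values (G.big i) hc
  choose σ hσ using fun i => hblk i _ (hx₀ i) (hQx₀ i)
  have hnonorth : ∀ i, ∀ x y : ι → F, y ∈ D i → Q y = c → polar Q x y ≠ 0 → ∀ j,
      (m : Matrix ι ι F) *ᵥ x ∈ D j → (m : Matrix ι ι F) *ᵥ y ∈ D j := by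
    intro i x y hy hQy hne j hj
    obtain ⟨l, hl⟩ := hblk i y hy hQy
    by_cases e : j = l
    · exact e ▸ hl
    · exact absurd (hD.orth e hj hl) (by rwa [omega_polar hm])
  have hy : ∀ i, (m : Matrix ι ι F) *ᵥ y₀ i ∈ D (σ i) := by
    intro i
    have ne : ∀ v ∈ D i, v ≠ 0 → ∃ w ∈ D i, polarBilin Q v w ≠ 0 := fun v hv hv0 => by
      obtain ⟨-, w, hw, hne⟩ := (hD.block i) v hv hv0
      exact ⟨w, hw, hne⟩
    obtain ⟨z, hz, hQz, hxz, hyz⟩ := (G.plane i).avoid (G.big i) hc (polarBilin Q (x₀ i))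
      (polarBilin Q (y₀ i)) (ne _ (hx₀ i) ((hli₀ i).ne_zero 0)) (ne _ (hy₀ i) ((hli₀ i).ne_zero 1))
      0 0 fun _ => ⟨rfl, rfl⟩
    exact hnonorth i z _ (hy₀ i) (hQy₀ i) (by rw [polar_comm]; exact hyz) _
      (hnonorth i _ z hz hQz hxz _ (hσ i))
  have hmap : ∀ i, ∀ v ∈ D i, (m : Matrix ι ι F) *ᵥ v ∈ D (σ i) := by
    intro i v hv
    obtain ⟨a, b, rfl⟩ := (G.plane i).coords (hx₀ i) (hy₀ i) (hli₀ i) hv
    rw [mulVec_add, mulVec_smul, mulVec_smul]
    exact (D (σ i)).add_mem ((D (σ i)).smul_mem _ (hσ i)) ((D (σ i)).smul_mem _ (hy i))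
  have hle : ∀ l, (D l).map (Matrix.mulVecLin (m : Matrix ι ι F)) = D (σ l) := fun l =>
    Submodule.eq_of_le_of_finrank_eq (by rintro _ ⟨v, hv, rfl⟩; exact hmap l v hv)
      (by rw [← (Submodule.equivMapOfInjective _ (gl_mulVec_injective m) (D l)).finrank_eq,
        hD.dim, hD.dim])
  have hinj : Function.Injective σ := by
    intro i j e
    by_contra hne
    have hij : D i = D j := Submodule.map_injective_of_injective (gl_mulVec_injective m)
      (by rw [hle, hle, e])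
    exact hne (hD.eq_index (hx₀ i) (hij ▸ hx₀ i) ((hli₀ i).ne_zero 0))
  refine ⟨Equiv.ofBijective σ hinj.bijective_of_finite, fun i => ?_⟩
  rw [Equiv.ofBijective_apply, ← hle i]
  rfl

/-- An element of `M` outside the stabiliser fixing a non-singular vector of a member. -/
def Wit (_ : Good2 Q D) (M : Subgroup (GL ι F)) : Prop :=
  ∃ (m : GL ι F) (l : Fin t) (s : ι → F), m ∈ M ∧ m ∉ decompositionStabilizer D ∧ s ∈ D l ∧
    Q s ≠ 0 ∧ (m : Matrix ι ι F) *ᵥ s = s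

variable {M : Subgroup (GL ι F)} (hHM : decompositionStabilizer D ⊓ omegaGL ⇑Q ≤ M)
  (hMK : M ≤ omegaGL ⇑Q)

theorem pairH {i l : Fin t} {x y : ι → F} (hx : x ∈ D i) (hy : y ∈ D l) (hQx : Q x ≠ 0)
    (hQy : Q y ≠ 0) (hsq : IsSquare (Q x * Q y)) :
    rr G.toDec.qform x * rr G.toDec.qform y ∈ decompositionStabilizer D ⊓ omegaGL ⇑Q :=
  ⟨G.toDec.pair_stab hx hy, pair_mem _ G.toDec.nd G.card hQx hQy hsq⟩

include hHM hMK

theorem conj_pair {g : GL ι F} (hg : g ∈ M) {i l : Fin t} {x y : ι → F} (hx : x ∈ D i)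
    (hy : y ∈ D l) (hQx : Q x ≠ 0) (hQy : Q y ≠ 0) (hsq : IsSquare (Q x * Q y)) :
    rr G.toDec.qform ((g : Matrix ι ι F) *ᵥ x) * rr G.toDec.qform ((g : Matrix ι ι F) *ᵥ y) ∈ M := by
  have h := M.mul_mem (M.mul_mem hg (hHM (G.pairH hx hy hQx hQy hsq))) (M.inv_mem hg)
  rwa [← conj_mul, rr_conj _ (Om.omega_le (hMK hg)) hQx,
    rr_conj _ (Om.omega_le (hMK hg)) hQy] at h

theorem wit_pair {g : GL ι F} (hg : g ∈ M) {i j : Fin t} {x y : ι → F} (hx : x ∈ D i)
    (hy : y ∈ D j) (hQx : Q x ≠ 0) (hQy : Q y ≠ 0) (hsq : IsSquare (Q x * Q y))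
    (hli : LinearIndependent F ![x, y]) {p q r : Fin t} (hpq : p ≠ q) (hpr : p ≠ r) (hqr : q ≠ r)
    (hp : G.toDec.π p ((g : Matrix ι ι F) *ᵥ x) ≠ 0 ∨ G.toDec.π p ((g : Matrix ι ι F) *ᵥ y) ≠ 0)
    (hq : G.toDec.π q ((g : Matrix ι ι F) *ᵥ x) ≠ 0 ∨ G.toDec.π q ((g : Matrix ι ι F) *ᵥ y) ≠ 0)
    (hr : G.toDec.π r ((g : Matrix ι ι F) *ᵥ x) ≠ 0 ∨ G.toDec.π r ((g : Matrix ι ι F) *ᵥ y) ≠ 0)
    {l : Fin t} {s : ι → F} (hs : s ∈ D l) (hQs : Q s ≠ 0)
    (hsx : polar Q s ((g : Matrix ι ι F) *ᵥ x) = 0) (hsy : polar Q s ((g : Matrix ι ι F) *ᵥ y) = 0) :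
    G.Wit M := by
  refine ⟨_, l, s, G.conj_pair hHM hMK hg hx hy hQx hQy hsq, ?_, hs, hQs, ?_⟩
  · refine pair_notMem_span G.toDec (by rw [omega_iso (hMK hg)]; exact hQx)
      (by rw [omega_iso (hMK hg)]; exact hQy) ?_ hpq hpr hqr hp hq hr
    exact LinearIndependent.pair_iff.2 fun a b e => LinearIndependent.pair_iff.1 hli a b
      (gl_mulVec_injective g (by simpa [mulVec_add, mulVec_smul] using e))
  · rw [gl_mulVec_mul, rr_fix _ hsy, rr_fix _ hsx]

/-- With a member left untouched. -/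
theorem wit_outside {g : GL ι F} (hg : g ∈ M) {i j : Fin t} {x y : ι → F} (hx : x ∈ D i)
    (hy : y ∈ D j) (hQx : Q x ≠ 0) (hQy : Q y ≠ 0) (hsq : IsSquare (Q x * Q y))
    (hli : LinearIndependent F ![x, y]) {p q r : Fin t} (hpq : p ≠ q) (hpr : p ≠ r) (hqr : q ≠ r)
    (hp : G.toDec.π p ((g : Matrix ι ι F) *ᵥ x) ≠ 0 ∨ G.toDec.π p ((g : Matrix ι ι F) *ᵥ y) ≠ 0)
    (hq : G.toDec.π q ((g : Matrix ι ι F) *ᵥ x) ≠ 0 ∨ G.toDec.π q ((g : Matrix ι ι F) *ᵥ y) ≠ 0)
    (hr : G.toDec.π r ((g : Matrix ι ι F) *ᵥ x) ≠ 0 ∨ G.toDec.π r ((g : Matrix ι ι F) *ᵥ y) ≠ 0)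
    {o : Fin t} (hox : G.toDec.π o ((g : Matrix ι ι F) *ᵥ x) = 0)
    (hoy : G.toDec.π o ((g : Matrix ι ι F) *ᵥ y) = 0) : G.Wit M := by
  obtain ⟨s, hs, hQs⟩ := (G.plane o).exists_Q_ne
  refine G.wit_pair hHM hMK hg hx hy hQx hQy hsq hli hpq hpr hqr hp hq hr hs hQs ?_ ?_
  · rw [polar_comm, G.toDec.polar_π _ hs, hox, polar_zero_left]
  · rw [polar_comm, G.toDec.polar_π _ hs, hoy, polar_zero_left]

/-- Some member is spread over three members, unless there is a witness. -/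
theorem exists_spread {g : GL ι F} (hg : g ∈ M) (hgs : g ∉ decompositionStabilizer D) :
    G.Wit M ∨ ∃ (i p q r : Fin t), p ≠ q ∧ p ≠ r ∧ q ≠ r ∧
      (∃ v ∈ D i, G.toDec.π p ((g : Matrix ι ι F) *ᵥ v) ≠ 0) ∧
      (∃ v ∈ D i, G.toDec.π q ((g : Matrix ι ι F) *ᵥ v) ≠ 0) ∧
      ∃ v ∈ D i, G.toDec.π r ((g : Matrix ι ι F) *ᵥ v) ≠ 0 := by
  classical
  have hD := G.toDec
  rw [or_iff_not_imp_right]
  intro hns
  push Not at hns
  have hgood : ∃ i, ∃ x ∈ D i, Q x = 1 ∧ ¬ InBlock D ((g : Matrix ι ι F) *ᵥ x) := by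
    by_contra hc
    push Not at hc
    exact hgs (G.mem_stab_of_value (hMK hg) one_ne_zero hc)
  obtain ⟨i, x, hx, hQx, hnb⟩ := hgood
  obtain ⟨p, q, hpq, hp, hq⟩ := hD.t_pos _ hnb
  have hout : ∀ r, r ≠ p → r ≠ q → ∀ v ∈ D i, hD.π r ((g : Matrix ι ι F) *ᵥ v) = 0 := by
    intro r hrp hrq v hv
    by_contra hne
    exact hne (hns i p q r hpq (Ne.symm hrp) (Ne.symm hrq) ⟨x, hx, hp⟩ ⟨x, hx, hq⟩ v hv)
  obtain ⟨r, hr⟩ := G.exists_avoid {p, q} (by
    have := Finset.card_le_two (a := p) (b := q); omega)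
  simp only [Finset.mem_insert, Finset.mem_singleton, not_or] at hr
  -- some member reaches outside
  obtain ⟨j, v, hv, hvr⟩ : ∃ j, ∃ v ∈ D j, hD.π r ((g : Matrix ι ι F) *ᵥ v) ≠ 0 := by
    by_contra hc
    push Not at hc
    obtain ⟨s, hs, hQs⟩ := (G.plane r).exists_Q_ne
    apply hQs
    rw [← hD.π_self hs, ← gl_mulVec_inv_mulVec g s, ← hD.π_sum (((g⁻¹ : GL ι F) : Matrix ι ι F) *ᵥ s),
      mulVec_sum, map_sum, Finset.sum_eq_zero fun j _ => hc j _ (hD.π_mem _ j), map_zero Q]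
  obtain ⟨-, w, hw, hvw⟩ := (hD.block r) _ (hD.π_mem _ r) hvr
  let φ : (ι → F) →ₗ[F] F :=
    ((polarBilin Q).flip w).comp ((hD.π r).comp (Matrix.mulVecLin (g : Matrix ι ι F)))
  obtain ⟨y, hy, hQy, hyφ, -⟩ := (G.plane j).avoid (G.big j) (one_ne_zero (α := F)) φ φ
    ⟨v, hv, hvw⟩ ⟨v, hv, hvw⟩ 0 0 fun _ => ⟨rfl, rfl⟩
  have hyr : hD.π r ((g : Matrix ι ι F) *ᵥ y) ≠ 0 := fun e => hyφ (by
    change polar Q (hD.π r ((g : Matrix ι ι F) *ᵥ y)) w = 0
    rw [e, polar_zero_left])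
  have hxr : hD.π r ((g : Matrix ι ι F) *ᵥ x) = 0 := hout r hr.1 hr.2 x hx
  have hx0 : x ≠ 0 := fun e => one_ne_zero (α := F) (by rw [← hQx, e, map_zero Q])
  have hli : LinearIndependent F ![x, y] := (LinearIndependent.pair_iff' hx0).2 fun a ha => hyr (by
    rw [← ha, mulVec_smul, map_smul, hxr, smul_zero])
  -- the image of `y` lives on at most two members
  obtain ⟨r', hr'⟩ : ∃ r', ∀ o, o ≠ r → o ≠ r' → hD.π o ((g : Matrix ι ι F) *ᵥ y) = 0 := by
    by_cases h1 : ∃ r', r' ≠ r ∧ hD.π r' ((g : Matrix ι ι F) *ᵥ y) ≠ 0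
    · obtain ⟨r', hr'r, hr'⟩ := h1
      refine ⟨r', fun o ho ho' => ?_⟩
      by_contra hne
      exact hne (hns j r r' o (Ne.symm hr'r) (Ne.symm ho) (Ne.symm ho') ⟨y, hy, hyr⟩ ⟨y, hy, hr'⟩ y hy)
    · push Not at h1
      exact ⟨r, fun o ho _ => h1 o ho⟩
  obtain ⟨o, ho⟩ := G.exists_avoid {p, q, r, r'} (by
    have := Finset.card_le_four (a := p) (b := q) (c := r) (d := r'); omega)
  simp only [Finset.mem_insert, Finset.mem_singleton, not_or] at ho
  exact G.wit_outside hHM hMK hg hx hy (by rw [hQx]; exact one_ne_zero)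
    (by rw [hQy]; exact one_ne_zero) ⟨1, by rw [hQx, hQy]⟩ hli hpq (Ne.symm hr.1) (Ne.symm hr.2)
    (Or.inl hp) (Or.inl hq) (Or.inr hyr) (hout o ho.1 ho.2.1 x hx) (hr' o ho.2.2.1 ho.2.2.2)

omit hHM hMK in
theorem pair_moves {a d : ι → F} (ha : Q a ≠ 0) (hd : Q d ≠ 0) {p m : Fin t} (hpm : p ≠ m)
    (hlp : LinearIndependent F ![G.toDec.π p a, G.toDec.π p d])
    (hlm : LinearIndependent F ![G.toDec.π m a, G.toDec.π m d]) {v : ι → F} (hv : v ∈ D p)
    (hv0 : v ≠ 0) :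
    G.toDec.π m (((rr G.toDec.qform a * rr G.toDec.qform d : GL ι F) : Matrix ι ι F) *ᵥ v) ≠ 0 := by
  have hD := G.toDec
  rw [pair_apply _ ha hd, map_add, hD.π_other hpm.symm hv, zero_add, map_add, map_smul, map_smul]
  intro e
  obtain ⟨e1, e2⟩ := LinearIndependent.pair_iff.1 hlm _ _ e
  rw [neg_eq_zero, div_eq_zero_iff] at e2
  have hd0 : polar Q v d = 0 := e2.resolve_right hd
  rw [hd0, zero_div, zero_mul, add_zero, neg_eq_zero, div_eq_zero_iff] at e1
  have ha0 : polar Q v a = 0 := e1.resolve_right ha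
  refine hv0 (eq_zero_of_orth (hD.block p) hv fun y hy => ?_)
  obtain ⟨c₁, c₂, rfl⟩ := (G.plane p).coords (hD.π_mem a p) (hD.π_mem d p) hlp hy
  rw [polar_add_right, polar_smul_right, polar_smul_right, polar_comm Q v (hD.π p a),
    ← hD.polar_π a hv, polar_comm Q v (hD.π p d), ← hD.polar_π d hv, polar_comm Q a, ha0,
    polar_comm Q d, hd0]
  simp

omit G hHM hMK in
theorem two_of_three {a b c : F} (ha : a ≠ 0) :
    IsSquare (a * b) ∨ IsSquare (a * c) ∨ IsSquare (b * c) := by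
  by_cases h1 : IsSquare (a * b)
  · exact Or.inl h1
  by_cases h2 : IsSquare (a * c)
  · exact Or.inr (Or.inl h2)
  refine Or.inr (Or.inr ?_)
  obtain ⟨e, he⟩ := OrthSpinor.isSquare_mul_of_not h1 h2
  exact ⟨e / a, by field_simp; linear_combination he⟩

/-- A pair of reflections whose plane projects onto five members gives a witness. -/
theorem wit_of_five {a d : ι → F} (ha : Q a ≠ 0) (hd : Q d ≠ 0)
    (hb : rr G.toDec.qform a * rr G.toDec.qform d ∈ M) {L : Finset (Fin t)} (hL : 5 ≤ L.card)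
    (hLi : ∀ p ∈ L, LinearIndependent F ![G.toDec.π p a, G.toDec.π p d]) : G.Wit M := by
  classical
  have hD := G.toDec
  obtain ⟨j, hj⟩ := Finset.card_pos.1 (show 0 < L.card by omega)
  obtain ⟨L', hL', hL'4⟩ := Finset.exists_subset_card_eq
    (show 4 ≤ (L.erase j).card by rw [Finset.card_erase_of_mem hj]; omega)
  set c := rr hD.qform d * rr hD.qform a with hc
  have hLi' : ∀ p ∈ L, LinearIndependent F ![hD.π p d, hD.π p a] := fun p hp =>
    LinearIndependent.pair_iff.2 fun s u e =>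
      (LinearIndependent.pair_iff.1 (hLi p hp) u s (by rw [add_comm]; exact e)).symm
  have hne : ∀ p ∈ L', ∀ v ∈ D j, v ≠ 0 → hD.π p ((c : Matrix ι ι F) *ᵥ v) ≠ 0 := fun p hp v hv hv0 =>
    G.pair_moves hd ha (Finset.ne_of_mem_erase (hL' hp)).symm (hLi' j hj)
      (hLi' p (Finset.mem_of_mem_erase (hL' hp))) hv hv0
  obtain ⟨z, hz, hQz, T, hT, hT3, hTn⟩ : ∃ z ∈ D j, Q z ≠ 0 ∧ ∃ T ⊆ L', 3 ≤ T.card ∧
      ∀ p ∈ T, Q (hD.π p ((c : Matrix ι ι F) *ᵥ z)) ≠ 0 := by
    by_cases hsing : ∃ v ∈ D j, v ≠ 0 ∧ Q v = 0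
    swap
    · obtain ⟨z, hz, hQz⟩ := (G.plane j).exists_Q_ne
      refine ⟨z, hz, hQz, L', subset_rfl, by omega, fun p hp e => hsing ?_⟩
      exact G.sing_transfer (hD.π_mem _ p) (hne p hp z hz fun e' => hQz (by rw [e', map_zero Q])) e
    have h7 := (G.big j).2 hsing
    obtain ⟨u, hu, hu0, hQu⟩ := hsing
    obtain ⟨w, hw, huw⟩ := exists_in_polar_one (hD.block j) hu hu0 1
    set f := w + (-(Q w)) • u with hf
    have hfD : f ∈ D j := (D j).add_mem hw ((D j).smul_mem _ hu)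
    have hQf : Q f = 0 := by rw [hf, Q_comb1, hQu, polar_comm Q w u, huw]; ring
    have huf : polar Q u f = 1 := by
      rw [hf, polar_add_right, polar_smul_right, huw, polar_singular_self hQu]; simp
    let ψ : Fin t → (ι → F) →ₗ[F] (ι → F) := fun p => (hD.π p).comp (Matrix.mulVecLin (c : Matrix ι ι F))
    have hval : ∀ p ν, Q (hD.π p ((c : Matrix ι ι F) *ᵥ (u + ν • f)))
        = ν * ν * Q (ψ p f) + ν * polar Q (ψ p u) (ψ p f) + Q (ψ p u) := fun p ν => by
      change Q (ψ p (u + ν • f)) = _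
      rw [map_add, map_smul, Q_comb1]
      ring
    let bad : Fin t → F → Prop := fun p ν => Q (hD.π p ((c : Matrix ι ι F) *ᵥ (u + ν • f))) = 0
    set N := Finset.univ.filter fun ν : F => ν ≠ 0 with hN
    have hbad : ∀ p ∈ L', (N.filter (bad p)).card ≤ 2 := by
      intro p hp
      by_contra h
      obtain ⟨s₁, s₂, s₃, h1, h2, h3, h12, h13, h23⟩ := Finset.two_lt_card_iff.1 (not_le.1 h)
      simp only [Finset.mem_filter, bad, hval] at h1 h2 h3
      by_cases hc0 : Q (ψ p f) = 0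
      · rw [hc0, mul_zero, zero_add] at h1 h2
        have hB : polar Q (ψ p u) (ψ p f) = 0 := (mul_eq_zero.1
          (show (s₁ - s₂) * polar Q (ψ p u) (ψ p f) = 0 by linear_combination h1.2 - h2.2)).resolve_left
            (sub_ne_zero.2 h12)
        have hU : Q (ψ p u) = 0 := by linear_combination h1.2 - s₁ * hB
        have hu' : ψ p u ≠ 0 := hne p hp u hu hu0
        have hf' : ψ p f ≠ 0 := hne p hp f hfD fun e => one_ne_zero (α := F) (by
          rw [← huf, e, polar_zero_right])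
        obtain ⟨r, hr⟩ := (G.plane p).sing_perp (hD.π_mem _ p) hu' hU (hD.π_mem _ p) hB
        have hli : LinearIndependent F ![u, f] := OmP.li_of_hyp hQu huf
        have hz0 : (-r) • u + (1 : F) • f ≠ 0 := fun e =>
          one_ne_zero (LinearIndependent.pair_iff.1 hli _ _ e).2
        refine hne p hp _ ((D j).add_mem ((D j).smul_mem _ hu) ((D j).smul_mem _ hfD)) hz0 ?_
        change ψ p ((-r) • u + (1 : F) • f) = 0
        rw [map_add, map_smul, map_smul, show ψ p f = r • ψ p u from hr]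
        module
      · rcases IsPlane.roots_two hc0 s₁ s₂ s₃ h1.2 h2.2 h3.2 with e | e | e
        · exact h12 e
        · exact h13 e
        · exact h23 e
    obtain ⟨ν, hν, hν2⟩ : ∃ ν ∈ N, (L'.filter fun p => bad p ν).card ≤ 1 := by
      by_contra h
      push Not at h
      have h1 : 2 * N.card ≤ ∑ ν ∈ N, (L'.filter fun p => bad p ν).card := by
        rw [mul_comm, ← smul_eq_mul]
        exact Finset.card_nsmul_le_sum _ _ _ fun ν hν => h ν hν
      have h2 : ∑ ν ∈ N, (L'.filter fun p => bad p ν).card = ∑ p ∈ L', (N.filter (bad p)).card := by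
        simp only [Finset.card_filter]
        exact Finset.sum_comm
      have h3 : ∑ p ∈ L', (N.filter (bad p)).card ≤ L'.card • 2 :=
        Finset.sum_le_card_nsmul _ _ _ hbad
      have h4 : N.card + 1 = Fintype.card F := by
        rw [hN, Finset.filter_ne', Finset.card_erase_of_mem (Finset.mem_univ _), Finset.card_univ]
        have := Fintype.one_lt_card (α := F); omega
      rw [smul_eq_mul] at h3
      omega
    simp only [hN, Finset.mem_filter, Finset.mem_univ, true_and] at hν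
    refine ⟨u + ν • f, (D j).add_mem hu ((D j).smul_mem _ hfD), ?_, L'.filter fun p => ¬ bad p ν,
      Finset.filter_subset _ _, ?_, fun p hp => (Finset.mem_filter.1 hp).2⟩
    · rw [Q_comb1, hQu, hQf, huf]; simpa using hν
    · have := Finset.card_filter_add_card_filter_not (s := L') (fun p => bad p ν)
      omega
  -- perpendiculars in the members
  have hperp : ∀ p ∈ T, ∃ y ∈ D p, Q y ≠ 0 ∧ polar Q z
      (((rr hD.qform a * rr hD.qform d : GL ι F) : Matrix ι ι F) *ᵥ y) = 0 := by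
    intro p hp
    obtain ⟨y, hy, hy0, hwy⟩ := (G.plane p).exists_perp (hD.π_mem ((c : Matrix ι ι F) *ᵥ z) p)
    refine ⟨y, hy, (G.plane p).nonsing_perp (hD.π_mem _ p) (hTn p hp) hy hy0 hwy, ?_⟩
    have hcz : ((rr hD.qform a * rr hD.qform d : GL ι F) : Matrix ι ι F) *ᵥ ((c : Matrix ι ι F) *ᵥ z) = z := by
      rw [← gl_mulVec_mul, hc, mul_assoc, ← mul_assoc (rr hD.qform d), OmD.rr_mul_self, one_mul,
        OmD.rr_mul_self, Units.val_one, one_mulVec]
    conv_lhs => rw [← hcz]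
    rw [omega_polar (hMK hb), hD.polar_π _ hy]
    exact hwy
  obtain ⟨p₁, p₂, p₃, h1, h2, h3, h12, h13, h23⟩ := Finset.two_lt_card_iff.1 (show 2 < T.card by omega)
  obtain ⟨y₁, hy₁, hQ₁, hz₁⟩ := hperp p₁ h1
  obtain ⟨y₂, hy₂, hQ₂, hz₂⟩ := hperp p₂ h2
  obtain ⟨y₃, hy₃, hQ₃, hz₃⟩ := hperp p₃ h3
  have fin : ∀ (p p' : Fin t) (y y' : ι → F), p ∈ L → p ≠ p' → y ∈ D p → y' ∈ D p' → Q y ≠ 0 →
      Q y' ≠ 0 → IsSquare (Q y * Q y') →
      polar Q z (((rr hD.qform a * rr hD.qform d : GL ι F) : Matrix ι ι F) *ᵥ y) = 0 →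
      polar Q z (((rr hD.qform a * rr hD.qform d : GL ι F) : Matrix ι ι F) *ᵥ y') = 0 → G.Wit M := by
    intro p p' y y' hp hpp hy hy' hQy hQy' hsq hzy hzy'
    obtain ⟨m₁, m₂, m₃, e1, e2, e3, e12, e13, e23⟩ := Finset.two_lt_card_iff.1
      (show 2 < (L.erase p).card by rw [Finset.card_erase_of_mem hp]; omega)
    have hy0 : y ≠ 0 := fun e => hQy (by rw [e, map_zero Q])
    have hmv : ∀ m ∈ L.erase p, hD.π m
        (((rr hD.qform a * rr hD.qform d : GL ι F) : Matrix ι ι F) *ᵥ y) ≠ 0 := fun m hm =>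
      G.pair_moves ha hd (Finset.ne_of_mem_erase hm).symm (hLi p hp)
        (hLi m (Finset.mem_of_mem_erase hm)) hy hy0
    refine G.wit_pair hHM hMK hb hy hy' hQy hQy' hsq ?_ e12 e13 e23 (Or.inl (hmv _ e1))
      (Or.inl (hmv _ e2)) (Or.inl (hmv _ e3)) hz hQz hzy hzy'
    exact (LinearIndependent.pair_iff' hy0).2 fun s e => hpp
      (hD.eq_index (e ▸ (D p).smul_mem s hy) hy' fun h0 => hQy' (by rw [h0, map_zero Q]))
  have hmemL : ∀ {p}, p ∈ T → p ∈ L := fun hp => Finset.mem_of_mem_erase (hL' (hT hp))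
  rcases two_of_three (b := Q y₂) (c := Q y₃) hQ₁ with h | h | h
  · exact fin p₁ p₂ y₁ y₂ (hmemL h1) h12 hy₁ hy₂ hQ₁ hQ₂ h hz₁ hz₂
  · exact fin p₁ p₃ y₁ y₃ (hmemL h1) h13 hy₁ hy₃ hQ₁ hQ₃ h hz₁ hz₃
  · exact fin p₂ p₃ y₂ y₃ (hmemL h2) h23 hy₂ hy₃ hQ₂ hQ₃ h hz₂ hz₃

/-- A member on which a rotation plane projects to a singular line, both eigenvectors seen. -/
theorem line_case {b : GL ι F} (hb : b ∈ M) {e f : ι → F} {ν : F} (hν0 : ν ≠ 0) (hν1 : ν ≠ 1)
    (hQe : Q e = 0) (hQf : Q f = 0) (hef : polar Q e f = 1)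
    (hbv : ∀ v, (b : Matrix ι ι F) *ᵥ v = v + ((ν - 1) * polar Q v f) • e + ((ν⁻¹ - 1) * polar Q v e) • f)
    {l : Fin t} {u : ι → F} (hu : u ∈ D l) (hu0 : u ≠ 0) (hQu : Q u = 0) {α β : F}
    (he : G.toDec.π l e = α • u) (hf : G.toDec.π l f = β • u) {p q : Fin t} (hpl : p ≠ l)
    (hql : q ≠ l) (hpq : p ≠ q)
    (hp : ((ν - 1) * β) • G.toDec.π p e + ((ν⁻¹ - 1) * α) • G.toDec.π p f ≠ 0)
    (hq : ((ν - 1) * β) • G.toDec.π q e + ((ν⁻¹ - 1) * α) • G.toDec.π q f ≠ 0) :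
    G.Wit M ∨ ((α = 0 ∨ β = 0) ∧ ∀ m, m ≠ l →
      ((ν - 1) * β) • G.toDec.π m e + ((ν⁻¹ - 1) * α) • G.toDec.π m f ≠ 0 ∧
      Q (((ν - 1) * β) • G.toDec.π m e + ((ν⁻¹ - 1) * α) • G.toDec.π m f) = 0) := by
  classical
  have hD := G.toDec
  set c := ((ν - 1) * β) • e + ((ν⁻¹ - 1) * α) • f with hc
  have hπc : ∀ m, hD.π m c = ((ν - 1) * β) • hD.π m e + ((ν⁻¹ - 1) * α) • hD.π m f := fun m => by
    rw [hc, map_add, map_smul, map_smul]
  have hby : ∀ y ∈ D l, (b : Matrix ι ι F) *ᵥ y = y + polar Q y u • c := by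
    intro y hy
    rw [hbv, polar_comm Q y f, hD.polar_π f hy, hf, polar_smul_left, polar_comm Q y e,
      hD.polar_π e hy, he, polar_smul_left, polar_comm Q u y, hc]
    simp only [smul_eq_mul]
    module
  have hnz : ∀ y ∈ D l, Q y ≠ 0 → polar Q y u ≠ 0 := fun y hy hQy h => by
    obtain ⟨r, hr⟩ := (G.plane l).sing_perp hu hu0 hQu hy (by rw [polar_comm]; exact h)
    exact hQy (by rw [hr, QuadraticMap.map_smul, hQu, smul_zero])
  obtain ⟨y₁, hy₁, y₂, hy₂, hQ₁, hQ₂, hli⟩ := (G.plane l).exists_two_values (G.big l)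
    (one_ne_zero (α := F))
  have hQ₁' : Q y₁ ≠ 0 := by rw [hQ₁]; exact one_ne_zero
  have hQ₂' : Q y₂ ≠ 0 := by rw [hQ₂]; exact one_ne_zero
  by_cases hz : ∃ m, m ≠ l ∧ ∃ z ∈ D m, Q z ≠ 0 ∧ polar Q z c = 0
  · obtain ⟨m, hml, z, hz, hQz, hzc⟩ := hz
    have hperp : ∀ y ∈ D l, polar Q z ((b : Matrix ι ι F) *ᵥ y) = 0 := fun y hy => by
      rw [hby y hy, polar_add_right, polar_smul_right, hzc, hD.orth hml hz hy]
      simp
    have hcomp : ∀ m, m ≠ l → hD.π m c ≠ 0 → hD.π m ((b : Matrix ι ι F) *ᵥ y₁) ≠ 0 := fun m hm h => by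
      rw [hby y₁ hy₁, map_add, hD.π_other hm hy₁, zero_add, map_smul]
      exact smul_ne_zero (hnz y₁ hy₁ hQ₁') h
    refine Or.inl (G.wit_pair hHM hMK hb hy₁ hy₂ hQ₁' hQ₂' ⟨1, by rw [hQ₁, hQ₂]⟩ hli hpq hpl hql
      (Or.inl (hcomp p hpl (by rwa [hπc]))) (Or.inl (hcomp q hql (by rwa [hπc]))) (Or.inl ?_)
      hz hQz (hperp y₁ hy₁) (hperp y₂ hy₂))
    rw [hby y₁ hy₁, map_add, hD.π_self hy₁, map_smul, hπc, he, hf, smul_smul, smul_smul, ← add_smul,
      smul_smul]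
    intro h
    refine hQ₁' ?_
    rw [eq_neg_of_add_eq_zero_left h, QuadraticMap.map_neg, QuadraticMap.map_smul, hQu, smul_zero]
  push Not at hz
  refine Or.inr ?_
  have hsing : ∀ m, m ≠ l → hD.π m c ≠ 0 ∧ Q (hD.π m c) = 0 := by
    intro m hm
    constructor
    · intro h0
      obtain ⟨z, hz', hQz⟩ := (G.plane m).exists_Q_ne
      exact hz m hm z hz' hQz (by rw [polar_comm, hD.polar_π c hz', h0, polar_zero_left])
    · by_contra hne
      obtain ⟨z, hz', hz0, hcz⟩ := (G.plane m).exists_perp (hD.π_mem c m)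
      exact hz m hm z hz' ((G.plane m).nonsing_perp (hD.π_mem c m) hne hz' hz0 hcz)
        (by rw [polar_comm, hD.polar_π c hz', hcz])
  refine ⟨?_, fun m hm => by rw [← hπc]; exact hsing m hm⟩
  have h0 : Q c = 0 := by
    rw [hD.Q_sum c]
    refine Finset.sum_eq_zero fun m _ => ?_
    by_cases e' : m = l
    · subst e'
      rw [hπc, he, hf, smul_smul, smul_smul, ← add_smul, QuadraticMap.map_smul, hQu, smul_zero]
    · exact (hsing m e').2
  rw [hc, Q_pair, hQe, hQf, hef] at h0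
  have h1 : ν⁻¹ - 1 ≠ 0 := sub_ne_zero.2 fun h => hν1 (inv_eq_one.1 h)
  rcases mul_eq_zero.1 (show (ν - 1) * β * ((ν⁻¹ - 1) * α) = 0 by linear_combination h0) with h | h
  · exact Or.inr ((mul_eq_zero.1 h).resolve_left (sub_ne_zero.2 hν1))
  · exact Or.inl ((mul_eq_zero.1 h).resolve_left h1)

/-- Three members on which one eigenvector is singular and the eigenvectors are independent. -/
theorem wit_of_line {b : GL ι F} (hb : b ∈ M) {e f : ι → F} {ν : F} (hν0 : ν ≠ 0) (hν1 : ν ≠ 1)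
    (h7 : 7 ≤ Fintype.card F)
    (hbv : ∀ v, (b : Matrix ι ι F) *ᵥ v = v + ((ν - 1) * polar Q v f) • e + ((ν⁻¹ - 1) * polar Q v e) • f)
    {p q r : Fin t} (hpq : p ≠ q) (hpr : p ≠ r) (hqr : q ≠ r)
    (hm : ∀ m, m = p ∨ m = q ∨ m = r →
      LinearIndependent F ![G.toDec.π m e, G.toDec.π m f] ∧ Q (G.toDec.π m f) = 0) : G.Wit M := by
  classical
  have hD := G.toDec
  let ε : Fin t → F := fun m => polar Q (hD.π m e) (hD.π m f)
  let η : Fin t → F := fun m => Q (hD.π m e)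
  have hε : ∀ m, m = p ∨ m = q ∨ m = r → ε m ≠ 0 := by
    intro m hmm h0
    obtain ⟨hli, hQu⟩ := hm m hmm
    obtain ⟨a, ha⟩ := (G.plane m).sing_perp (hD.π_mem f m) (hli.ne_zero 1) hQu (hD.π_mem e m)
      (by rw [polar_comm]; exact h0)
    exact one_ne_zero (LinearIndependent.pair_iff.1 hli 1 (-a) (by rw [ha]; module)).1
  let vec : Fin t → F → (ι → F) := fun m ρ =>
    (ε m)⁻¹ • hD.π m e + ((ρ - 2 * η m / ε m) / ε m) • hD.π m f
  have hvec : ∀ m, m = p ∨ m = q ∨ m = r → ∀ ρ, vec m ρ ∈ D m ∧ polar Q (vec m ρ) f = 1 ∧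
      polar Q (vec m ρ) e = ρ ∧ Q (vec m ρ) = (ρ * ε m - η m) / (ε m * ε m) := by
    intro m hmm ρ
    have hmem : vec m ρ ∈ D m :=
      (D m).add_mem ((D m).smul_mem _ (hD.π_mem e m)) ((D m).smul_mem _ (hD.π_mem f m))
    have h0 := hε m hmm
    have hQu := (hm m hmm).2
    refine ⟨hmem, ?_, ?_, ?_⟩
    · rw [polar_comm, hD.polar_π f hmem]
      simp only [vec, polar_add_right, polar_smul_right, smul_eq_mul, polar_singular_self hQu,
        polar_comm Q (hD.π m f) (hD.π m e)]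
      change (ε m)⁻¹ * ε m + _ = 1
      field_simp
      ring
    · rw [polar_comm, hD.polar_π e hmem]
      simp only [vec, polar_add_right, polar_smul_right, smul_eq_mul, polar_self']
      change (ε m)⁻¹ * (2 * η m) + _ * ε m = ρ
      field_simp
      ring
    · simp only [vec]
      rw [Q_pair, hQu]
      change (ε m)⁻¹ * (ε m)⁻¹ * η m + _ * 0 + _ * ε m = _
      field_simp
      ring
  set bad : Finset F := {η p / ε p, η q / ε q, η r / ε r, ν * η p / ε p, ν * η q / ε q, ν * η r / ε r}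
  obtain ⟨ρ, hρ⟩ : ∃ ρ, ρ ∉ bad := by
    by_contra hc
    push Not at hc
    have h6 : bad.card ≤ 6 := by
      refine (Finset.card_insert_le _ _).trans (Nat.succ_le_succ ?_)
      refine (Finset.card_insert_le _ _).trans (Nat.succ_le_succ ?_)
      refine (Finset.card_insert_le _ _).trans (Nat.succ_le_succ ?_)
      exact Finset.card_le_three
    have := Finset.card_le_card (s := Finset.univ) fun x _ => hc x
    rw [Finset.card_univ] at this
    omega
  simp only [bad, Finset.mem_insert, Finset.mem_singleton, not_or] at hρ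
  have hQy : ∀ m, m = p ∨ m = q ∨ m = r → Q (vec m ρ) ≠ 0 ∧ Q (vec m (ρ / ν)) ≠ 0 := by
    intro m hmm
    have h0 := hε m hmm
    rw [(hvec m hmm ρ).2.2.2, (hvec m hmm _).2.2.2]
    refine ⟨div_ne_zero (fun e' => ?_) (mul_ne_zero h0 h0), div_ne_zero (fun e' => ?_) (mul_ne_zero h0 h0)⟩
    · have : ρ = η m / ε m := by field_simp; linear_combination e'
      rcases hmm with rfl | rfl | rfl
      exacts [hρ.1 this, hρ.2.1 this, hρ.2.2.1 this]
    · have : ρ = ν * η m / ε m := by field_simp at e' ⊢; linear_combination e'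
      rcases hmm with rfl | rfl | rfl
      exacts [hρ.2.2.2.1 this, hρ.2.2.2.2.1 this, hρ.2.2.2.2.2 this]
  have fin : ∀ m m' o, (m = p ∨ m = q ∨ m = r) → (m' = p ∨ m' = q ∨ m' = r) → (o = p ∨ o = q ∨ o = r) →
      m ≠ m' → m ≠ o → m' ≠ o → IsSquare (Q (vec m ρ) * Q (vec m' ρ)) → G.Wit M := by
    intro m m' o h1 h2 h3 h12 h13 h23 hsq
    obtain ⟨hy, hyf, hye, -⟩ := hvec m h1 ρ
    obtain ⟨hy', hyf', hye', -⟩ := hvec m' h2 ρ
    obtain ⟨hs, hsf, hse, -⟩ := hvec o h3 (ρ / ν)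
    have hy0 : vec m ρ ≠ 0 := fun h => (hQy m h1).1 (by rw [h, map_zero Q])
    have comp : ∀ k n : Fin t, k ≠ n → (k = p ∨ k = q ∨ k = r) → ∀ y ∈ D n, polar Q y f = 1 →
        polar Q y e = ρ → hD.π k ((b : Matrix ι ι F) *ᵥ y) ≠ 0 := by
      intro k n hkn hk y hy hyf hye h0
      rw [hbv, hyf, hye, map_add, map_add, hD.π_other hkn hy, zero_add, map_smul, map_smul] at h0
      exact sub_ne_zero.2 hν1 (by
        simpa using (LinearIndependent.pair_iff.1 (hm k hk).1 _ _ h0).1)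
    have perp : ∀ n : Fin t, o ≠ n → ∀ y ∈ D n, polar Q y f = 1 → polar Q y e = ρ →
        polar Q (vec o (ρ / ν)) ((b : Matrix ι ι F) *ᵥ y) = 0 := by
      intro n hon y hy hyf hye
      rw [hbv, hyf, hye, polar_add_right, polar_add_right, polar_smul_right, polar_smul_right,
        hD.orth hon hs hy, hse, hsf]
      simp only [smul_eq_mul]
      field_simp
      ring
    refine G.wit_pair hHM hMK hb hy hy' (hQy m h1).1 (hQy m' h2).1 hsq ?_ h12 h13 h23
      (Or.inr (comp m m' h12 h1 _ hy' hyf' hye')) (Or.inl (comp m' m h12.symm h2 _ hy hyf hye))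
      (Or.inl (comp o m h13.symm h3 _ hy hyf hye)) hs (hQy o h3).2
      (perp m h13.symm _ hy hyf hye) (perp m' h23.symm _ hy' hyf' hye')
    exact (LinearIndependent.pair_iff' hy0).2 fun a e' => h12
      (hD.eq_index (e' ▸ (D m).smul_mem a hy) hy' fun h => (hQy m' h2).1 (by rw [h, map_zero Q]))
  rcases two_of_three (b := Q (vec q ρ)) (c := Q (vec r ρ)) (hQy p (Or.inl rfl)).1 with h | h | h
  · exact fin p q r (Or.inl rfl) (Or.inr (Or.inl rfl)) (Or.inr (Or.inr rfl)) hpq hpr hqr h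
  · exact fin p r q (Or.inl rfl) (Or.inr (Or.inr rfl)) (Or.inr (Or.inl rfl)) hpr hpq hqr.symm h
  · exact fin q r p (Or.inr (Or.inl rfl)) (Or.inr (Or.inr rfl)) (Or.inl rfl) hqr hpq.symm hpr.symm h

/-- One eigenvector inside a single member. -/
theorem single_case {b : GL ι F} (hb : b ∈ M) {e f : ι → F} {ν : F} (hν1 : ν ≠ 1)
    (hbv : ∀ v, (b : Matrix ι ι F) *ᵥ v = v + ((ν - 1) * polar Q v f) • e + ((ν⁻¹ - 1) * polar Q v e) • f)
    (hsing : ∀ m, G.toDec.π m f = 0 → G.toDec.π m e ≠ 0 ∧ Q (G.toDec.π m e) = 0)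
    (hf0 : f ≠ 0) {r : Fin t} (hr : ∀ m, m ≠ r → G.toDec.π m f = 0) : G.Wit M := by
  classical
  have hD := G.toDec
  obtain ⟨m, hm⟩ := G.exists_avoid {r} (by simp)
  obtain ⟨m', hm'⟩ := G.exists_avoid {r, m} (by
    have := Finset.card_le_two (a := r) (b := m); omega)
  obtain ⟨o, ho⟩ := G.exists_avoid {r, m, m'} (by
    have := Finset.card_le_three (a := r) (b := m) (c := m'); omega)
  simp only [Finset.mem_insert, Finset.mem_singleton, not_or] at hm hm' ho
  have hrf : hD.π r f ≠ 0 := fun h => hf0 (by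
    rw [← hD.π_sum f]
    exact Finset.sum_eq_zero fun p _ => by
      by_cases e' : p = r
      · rw [e', h]
      · exact hr p e')
  have hby : ∀ m, m ≠ r → ∀ y ∈ D m,
      (b : Matrix ι ι F) *ᵥ y = y + ((ν⁻¹ - 1) * polar Q y e) • f := fun m hm y hy => by
    rw [hbv, polar_comm Q y f, hD.polar_π f hy, hr m hm, polar_zero_left, mul_zero, zero_smul,
      add_zero]
  have hne : ∀ m, m ≠ r → ∀ y ∈ D m, Q y ≠ 0 → (ν⁻¹ - 1) * polar Q y e ≠ 0 := by
    intro m hm y hy hQy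
    obtain ⟨hu0, hQu⟩ := hsing m (hr m hm)
    refine mul_ne_zero (sub_ne_zero.2 fun h => hν1 (inv_eq_one.1 h)) fun h => ?_
    obtain ⟨a, ha⟩ := (G.plane m).sing_perp (hD.π_mem e m) hu0 hQu hy
      (by rw [← hD.polar_π e hy, polar_comm]; exact h)
    exact hQy (by rw [ha, QuadraticMap.map_smul, hQu, smul_zero])
  obtain ⟨y, hy, hQy, hy0⟩ := (G.plane m).exists_value (one_ne_zero (α := F))
  obtain ⟨y', hy', hQy', hy'0⟩ := (G.plane m').exists_value (one_ne_zero (α := F))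
  have hQy0 : Q y ≠ 0 := by rw [hQy]; exact one_ne_zero
  have hQy'0 : Q y' ≠ 0 := by rw [hQy']; exact one_ne_zero
  refine G.wit_outside hHM hMK hb hy hy' hQy0 hQy'0 ⟨1, by rw [hQy, hQy']⟩
    ((LinearIndependent.pair_iff' hy0).2 fun s e' => hm'.2
      (hD.eq_index (e' ▸ (D m).smul_mem s hy) hy' hy'0).symm)
    (p := m) (q := m') (r := r) (Ne.symm hm'.2) hm hm'.1 (Or.inl ?_) (Or.inr ?_) (Or.inl ?_)
    (o := o) ?_ ?_
  · rw [hby m hm y hy, map_add, map_smul, hD.π_self hy, hr m hm, smul_zero, add_zero]; exact hy0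
  · rw [hby m' hm'.1 y' hy', map_add, map_smul, hD.π_self hy', hr m' hm'.1, smul_zero, add_zero]
    exact hy'0
  · rw [hby m hm y hy, map_add, map_smul, hD.π_other (Ne.symm hm) hy, zero_add]
    exact smul_ne_zero (hne m hm y hy hQy0) hrf
  · rw [hby m hm y hy, map_add, map_smul, hD.π_other ho.2.1 hy, hr o ho.1, smul_zero, add_zero]
  · rw [hby m' hm'.1 y' hy', map_add, map_smul, hD.π_other ho.2.2 hy', hr o ho.1, smul_zero,
      add_zero]

theorem exists_wit {g : GL ι F} (hg : g ∈ M) (hgs : g ∉ decompositionStabilizer D) : G.Wit M := by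
  classical
  have hD := G.toDec
  rcases G.exists_spread hHM hMK hg hgs with h | ⟨i, p, q, r, hpq, hpr, hqr, hp, hq, hr⟩
  · exact h
  have hgo := hMK hg
  have hspan : ∀ x y : ι → F, x ∈ D i → y ∈ D i → LinearIndependent F ![x, y] → ∀ m,
      (∃ v ∈ D i, hD.π m ((g : Matrix ι ι F) *ᵥ v) ≠ 0) →
      hD.π m ((g : Matrix ι ι F) *ᵥ x) ≠ 0 ∨ hD.π m ((g : Matrix ι ι F) *ᵥ y) ≠ 0 := by
    rintro x y hx hy hli m ⟨v, hv, hne⟩
    obtain ⟨a, b, rfl⟩ := (G.plane i).coords hx hy hli hv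
    by_contra h
    push Not at h
    exact hne (by rw [mulVec_add, mulVec_smul, mulVec_smul, map_add, map_smul, map_smul, h.1, h.2]; simp)
  by_cases hfix : ∃ l, ∃ s ∈ D l, Q s ≠ 0 ∧ ∀ v ∈ D i, polar Q s ((g : Matrix ι ι F) *ᵥ v) = 0
  · obtain ⟨l, s, hs, hQs, hperp⟩ := hfix
    obtain ⟨x, hx, y, hy, hQx, hQy, hli⟩ := (G.plane i).exists_two_values (G.big i) (one_ne_zero (α := F))
    exact G.wit_pair hHM hMK hg hx hy (by rw [hQx]; exact one_ne_zero)
      (by rw [hQy]; exact one_ne_zero) ⟨1, by rw [hQx, hQy]⟩ hli hpq hpr hqr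
      (hspan x y hx hy hli p hp) (hspan x y hx hy hli q hq) (hspan x y hx hy hli r hr)
      hs hQs (hperp x hx) (hperp y hy)
  push Not at hfix
  have hrank : ∀ x y : ι → F, x ∈ D i → y ∈ D i → LinearIndependent F ![x, y] → ∀ l,
      ¬ LinearIndependent F ![hD.π l ((g : Matrix ι ι F) *ᵥ x), hD.π l ((g : Matrix ι ι F) *ᵥ y)] →
      ∃ u ∈ D l, u ≠ 0 ∧ Q u = 0 ∧ ∃ α β : F,
        hD.π l ((g : Matrix ι ι F) *ᵥ x) = α • u ∧ hD.π l ((g : Matrix ι ι F) *ᵥ y) = β • u := by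
    intro x y hx hy hli l hdep
    obtain ⟨w, hw, hw0, α, β, hα, hβ⟩ : ∃ w ∈ D l, w ≠ 0 ∧ ∃ α β : F,
        hD.π l ((g : Matrix ι ι F) *ᵥ x) = α • w ∧ hD.π l ((g : Matrix ι ι F) *ᵥ y) = β • w := by
      by_cases h0 : hD.π l ((g : Matrix ι ι F) *ᵥ x) = 0
      · by_cases h0' : hD.π l ((g : Matrix ι ι F) *ᵥ y) = 0
        · obtain ⟨s, hs, -, hs0⟩ := (G.plane l).exists_value (one_ne_zero (α := F))
          exact ⟨s, hs, hs0, 0, 0, by rw [h0, zero_smul], by rw [h0', zero_smul]⟩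
        · exact ⟨_, hD.π_mem _ l, h0', 0, 1, by rw [h0, zero_smul], (one_smul _ _).symm⟩
      · rw [LinearIndependent.pair_iff' h0] at hdep
        push Not at hdep
        obtain ⟨β, hβ⟩ := hdep
        exact ⟨_, hD.π_mem _ l, h0, 1, β, (one_smul _ _).symm, hβ.symm⟩
    refine ⟨w, hw, hw0, ?_, α, β, hα, hβ⟩
    by_contra hQw
    obtain ⟨s, hs, hs0, hws⟩ := (G.plane l).exists_perp hw
    obtain ⟨v, hv, hne⟩ := hfix l s hs ((G.plane l).nonsing_perp hw hQw hs hs0 hws)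
    obtain ⟨a, b, rfl⟩ := (G.plane i).coords hx hy hli hv
    apply hne
    rw [polar_comm, hD.polar_π _ hs, mulVec_add, mulVec_smul, mulVec_smul, map_add, map_smul,
      map_smul, hα, hβ, polar_add_left, polar_smul_left, polar_smul_left, polar_smul_left,
      polar_smul_left, hws]
    simp
  by_cases hsing : ∃ v ∈ D i, v ≠ 0 ∧ Q v = 0
  swap
  · obtain ⟨x, hx, y, hy, hQx, hQy, hli⟩ := (G.plane i).exists_two_values (G.big i) (one_ne_zero (α := F))
    have hQx0 : Q x ≠ 0 := by rw [hQx]; exact one_ne_zero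
    have hQy0 : Q y ≠ 0 := by rw [hQy]; exact one_ne_zero
    refine G.wit_of_five hHM hMK (by rw [omega_iso hgo]; exact hQx0)
      (by rw [omega_iso hgo]; exact hQy0)
      (G.conj_pair hHM hMK hg hx hy hQx0 hQy0 ⟨1, by rw [hQx, hQy]⟩) (L := Finset.univ)
      (by rw [Finset.card_univ, Fintype.card_fin]; have := G.t5; omega) fun l _ => ?_
    by_contra hdep
    obtain ⟨u, hu, hu0, hQu, -⟩ := hrank x y hx hy hli l hdep
    exact hsing (G.sing_transfer hu hu0 hQu)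
  have h7 := (G.big i).2 hsing
  obtain ⟨u₀, hu₀, hu₀0, hQu₀⟩ := hsing
  obtain ⟨w₀, hw₀, huw₀⟩ := exists_in_polar_one (hD.block i) hu₀ hu₀0 1
  set f₀ := w₀ + (-(Q w₀)) • u₀ with hf₀
  have hf₀D : f₀ ∈ D i := (D i).add_mem hw₀ ((D i).smul_mem _ hu₀)
  have hQf₀ : Q f₀ = 0 := by rw [hf₀, Q_comb1, hQu₀, polar_comm Q w₀ u₀, huw₀]; ring
  have huf₀ : polar Q u₀ f₀ = 1 := by
    rw [hf₀, polar_add_right, polar_smul_right, huw₀, polar_singular_self hQu₀]; simp
  obtain ⟨μ, hμ0, hμ1, hμ2⟩ := exists_ne_three (show 5 ≤ Fintype.card F by omega) (1 : F) (-1)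
  set ν := μ * μ with hν
  have hν0 : ν ≠ 0 := mul_ne_zero hμ0 hμ0
  have hν1 : ν ≠ 1 := fun h => (mul_self_eq_one_iff.1 h).elim hμ1 hμ2
  set e := (g : Matrix ι ι F) *ᵥ u₀ with he
  set f := (g : Matrix ι ι F) *ᵥ f₀ with hf
  have hQe : Q e = 0 := by rw [he, omega_iso hgo, hQu₀]
  have hQf : Q f = 0 := by rw [hf, omega_iso hgo, hQf₀]
  have hef : polar Q e f = 1 := by rw [he, hf, omega_polar hgo, huf₀]
  set x := u₀ + f₀ with hx'
  set y := u₀ + ν • f₀ with hy'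
  have hx : x ∈ D i := (D i).add_mem hu₀ hf₀D
  have hy : y ∈ D i := (D i).add_mem hu₀ ((D i).smul_mem _ hf₀D)
  have hQx : Q x = 1 := by rw [hx', QuadraticMap.map_add (⇑Q), hQu₀, hQf₀, huf₀]; ring
  have hQy : Q y = ν := by rw [hy', Q_comb1, hQu₀, hQf₀, huf₀]; ring
  have hli : LinearIndependent F ![x, y] := by
    refine LinearIndependent.pair_iff.2 fun a b h => ?_
    obtain ⟨e1, e2⟩ := LinearIndependent.pair_iff.1 (OmP.li_of_hyp hQu₀ huf₀) (a + b) (a + b * ν)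
      (by rw [← h, hx', hy']; module)
    have hb0 : b = 0 := (mul_eq_zero.1 (show b * (ν - 1) = 0 by linear_combination e2 - e1)).resolve_right
      (sub_ne_zero.2 hν1)
    exact ⟨by linear_combination e1 - hb0, hb0⟩
  have hQx0 : Q x ≠ 0 := by rw [hQx]; exact one_ne_zero
  have hQy0 : Q y ≠ 0 := by rw [hQy]; exact hν0
  set a := (g : Matrix ι ι F) *ᵥ x with ha
  set d := (g : Matrix ι ι F) *ᵥ y with hd
  have haef : a = e + f := by rw [ha, hx', mulVec_add]
  have hdef : d = e + ν • f := by rw [hd, hy', mulVec_add, mulVec_smul]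
  have hb := G.conj_pair hHM hMK hg hx hy hQx0 hQy0 ⟨μ, by rw [hQx, hQy, one_mul]⟩
  have hQa : Q a ≠ 0 := by rw [ha, omega_iso hgo]; exact hQx0
  have hQd : Q d ≠ 0 := by rw [hd, omega_iso hgo]; exact hQy0
  have hbv : ∀ v, ((rr hD.qform a * rr hD.qform d : GL ι F) : Matrix ι ι F) *ᵥ v
      = v + ((ν - 1) * polar Q v f) • e + ((ν⁻¹ - 1) * polar Q v e) • f := by
    intro v
    rw [pair_apply _ hQa hQd, show Q a = 1 by rw [ha, omega_iso hgo, hQx],
      show Q d = ν by rw [hd, omega_iso hgo, hQy], haef, hdef]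
    simp only [polar_add_left, polar_add_right, polar_smul_left, polar_smul_right,
      polar_singular_self hQe, polar_singular_self hQf, hef, polar_comm Q f e, smul_eq_mul]
    match_scalars <;> field_simp <;> ring
  -- both symmetric forms
  have hbv' : ∀ v, ((rr hD.qform a * rr hD.qform d : GL ι F) : Matrix ι ι F) *ᵥ v
      = v + ((ν⁻¹ - 1) * polar Q v e) • f + (((ν⁻¹)⁻¹ - 1) * polar Q v f) • e := by
    intro v
    rw [hbv v, inv_inv]
    abel
  set S1 := Finset.univ.filter fun l => ¬ LinearIndependent F ![hD.π l a, hD.π l d] with hS1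
  have hline : ∀ l ∈ S1, ∃ u ∈ D l, u ≠ 0 ∧ Q u = 0 ∧ ∃ α β : F,
      hD.π l e = α • u ∧ hD.π l f = β • u := by
    intro l hl
    obtain ⟨u, hu, hu0, hQu, α, β, hα, hβ⟩ := hrank x y hx hy hli l (Finset.mem_filter.1 hl).2
    rw [← ha, haef, map_add] at hα
    rw [← hd, hdef, map_add, map_smul] at hβ
    refine ⟨u, hu, hu0, hQu, α - (β - α) / (ν - 1), (β - α) / (ν - 1), ?_, ?_⟩
    · have : (ν - 1) • hD.π l f = (β - α) • u := by
        rw [sub_smul, sub_smul, ← hα, ← hβ, one_smul]; module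
      have hf' : hD.π l f = ((β - α) / (ν - 1)) • u := by
        rw [div_eq_inv_mul, mul_smul, ← this, inv_smul_smul₀ (sub_ne_zero.2 hν1)]
      rw [sub_smul, ← hα, ← hf', add_sub_cancel_right]
    · have : (ν - 1) • hD.π l f = (β - α) • u := by
        rw [sub_smul, sub_smul, ← hα, ← hβ, one_smul]; module
      rw [div_eq_inv_mul, mul_smul, ← this, inv_smul_smul₀ (sub_ne_zero.2 hν1)]
  have hnz : ∀ l, ¬ (hD.π l e = 0 ∧ hD.π l f = 0) := by
    rintro l ⟨h1, h2⟩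
    obtain ⟨s, hs, hQs⟩ := (G.plane l).exists_Q_ne
    obtain ⟨v, hv, hne⟩ := hfix l s hs hQs
    obtain ⟨a', b', rfl⟩ := (G.plane i).coords hu₀ hf₀D (OmP.li_of_hyp hQu₀ huf₀) hv
    apply hne
    rw [polar_comm, hD.polar_π _ hs, mulVec_add, mulVec_smul, mulVec_smul, map_add, map_smul,
      map_smul, ← he, ← hf, h1, h2]
    simp
  have hdepS : ∀ l, (∃ c₁ c₂ : F, (c₁ ≠ 0 ∨ c₂ ≠ 0) ∧ c₁ • hD.π l e + c₂ • hD.π l f = 0) → l ∈ S1 := by
    rintro l ⟨c₁, c₂, hc, h⟩
    refine Finset.mem_filter.2 ⟨Finset.mem_univ _, fun hind => ?_⟩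
    rw [haef, hdef, map_add, map_add, map_smul] at hind
    obtain ⟨e1, e2⟩ := LinearIndependent.pair_iff.1 hind (c₁ * ν - c₂) (c₂ - c₁) (by
      rw [show (c₁ * ν - c₂) • (hD.π l e + hD.π l f) + (c₂ - c₁) • (hD.π l e + ν • hD.π l f)
        = (ν - 1) • (c₁ • hD.π l e + c₂ • hD.π l f) by module, h, smul_zero])
    have h1 : c₁ = 0 := (mul_eq_zero.1 (show c₁ * (ν - 1) = 0 by linear_combination e1 + e2)).resolve_right
      (sub_ne_zero.2 hν1)
    have h2 : c₂ = 0 := by linear_combination e2 + h1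
    exact hc.elim (fun h => h h1) fun h => h h2
  have hν1' : ν⁻¹ ≠ 1 := fun h => hν1 (inv_eq_one.1 h)
  have hsingE : ∀ m, hD.π m f = 0 → hD.π m e ≠ 0 ∧ Q (hD.π m e) = 0 := by
    intro m hm
    obtain ⟨u, -, -, hQu, α, β, hα, -⟩ := hline m (hdepS m ⟨0, 1, Or.inr one_ne_zero, by simp [hm]⟩)
    exact ⟨fun h => hnz m ⟨h, hm⟩, by rw [hα, QuadraticMap.map_smul, hQu, smul_zero]⟩
  have hsingF : ∀ m, hD.π m e = 0 → hD.π m f ≠ 0 ∧ Q (hD.π m f) = 0 := by
    intro m hm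
    obtain ⟨u, -, -, hQu, α, β, -, hβ⟩ := hline m (hdepS m ⟨1, 0, Or.inl one_ne_zero, by simp [hm]⟩)
    exact ⟨fun h => hnz m ⟨hm, h⟩, by rw [hβ, QuadraticMap.map_smul, hQu, smul_zero]⟩
  have he0 : e ≠ 0 := fun h => one_ne_zero (α := F) (by rw [← hef, h, polar_zero_left])
  have hf0 : f ≠ 0 := fun h => one_ne_zero (α := F) (by rw [← hef, h, polar_zero_right])
  by_contra hW
  have key : ∀ l ∈ S1, (hD.π l f = 0 ∧ ∀ m, m ≠ l → hD.π m f ≠ 0 ∧ Q (hD.π m f) = 0) ∨
      (hD.π l e = 0 ∧ ∀ m, m ≠ l → hD.π m e ≠ 0 ∧ Q (hD.π m e) = 0) := by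
    intro l hl
    obtain ⟨u, hu, hu0, hQu, α, β, hα, hβ⟩ := hline l hl
    -- two members outside `l` seen by `c`
    have two : ∀ (l : Fin t) (u : ι → F) (α β : F), u ∈ D l → u ≠ 0 → Q u = 0 → hD.π l e = α • u →
        hD.π l f = β • u → (∃ m m', m ≠ l ∧ m' ≠ l ∧ m ≠ m' ∧
          ((ν - 1) * β) • hD.π m e + ((ν⁻¹ - 1) * α) • hD.π m f ≠ 0 ∧
          ((ν - 1) * β) • hD.π m' e + ((ν⁻¹ - 1) * α) • hD.π m' f ≠ 0) →
        (hD.π l f = 0 ∧ ∀ m, m ≠ l → hD.π m f ≠ 0 ∧ Q (hD.π m f) = 0) ∨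
          (hD.π l e = 0 ∧ ∀ m, m ≠ l → hD.π m e ≠ 0 ∧ Q (hD.π m e) = 0) := by
      rintro l u α β hu hu0 hQu hα hβ ⟨m, m', hm, hm', hmm, hc, hc'⟩
      rcases G.line_case hHM hMK hb hν0 hν1 hQe hQf hef hbv hu hu0 hQu hα hβ hm hm' hmm hc hc' with
        h | ⟨h0 | h0, hall⟩
      · exact absurd h hW
      · have hα' : hD.π l e = 0 := by rw [hα, h0, zero_smul]
        refine Or.inr ⟨hα', fun o ho => ?_⟩
        obtain ⟨h1, h2⟩ := hall o ho
        rw [h0, mul_zero, zero_smul, add_zero] at h1 h2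
        refine ⟨(smul_ne_zero_iff.1 h1).2, ?_⟩
        rw [QuadraticMap.map_smul, smul_eq_mul] at h2
        exact (mul_eq_zero.1 h2).resolve_left (mul_self_ne_zero.2 (smul_ne_zero_iff.1 h1).1)
      · have hβ' : hD.π l f = 0 := by rw [hβ, h0, zero_smul]
        refine Or.inl ⟨hβ', fun o ho => ?_⟩
        obtain ⟨h1, h2⟩ := hall o ho
        rw [h0, mul_zero, zero_smul, zero_add] at h1 h2
        refine ⟨(smul_ne_zero_iff.1 h1).2, ?_⟩
        rw [QuadraticMap.map_smul, smul_eq_mul] at h2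
        exact (mul_eq_zero.1 h2).resolve_left (mul_self_ne_zero.2 (smul_ne_zero_iff.1 h1).1)
    by_cases h2 : ∃ m m', m ≠ l ∧ m' ≠ l ∧ m ≠ m' ∧
          ((ν - 1) * β) • hD.π m e + ((ν⁻¹ - 1) * α) • hD.π m f ≠ 0 ∧
          ((ν - 1) * β) • hD.π m' e + ((ν⁻¹ - 1) * α) • hD.π m' f ≠ 0
    · exact two l u α β hu hu0 hQu hα hβ h2
    obtain ⟨o, ho⟩ : ∃ o, ∀ m, m ≠ l → m ≠ o →
        ((ν - 1) * β) • hD.π m e + ((ν⁻¹ - 1) * α) • hD.π m f = 0 := by
      push Not at h2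
      by_cases h1 : ∃ o, o ≠ l ∧ ((ν - 1) * β) • hD.π o e + ((ν⁻¹ - 1) * α) • hD.π o f ≠ 0
      · obtain ⟨o, hol, ho⟩ := h1
        exact ⟨o, fun m hml hmo => h2 o m hol hml (Ne.symm hmo) ho⟩
      · push Not at h1
        exact ⟨l, fun m hml _ => h1 m hml⟩
    exfalso
    by_cases hβ0 : β = 0
    · have hα0 : α ≠ 0 := fun h => hnz l ⟨by rw [hα, h, zero_smul], by rw [hβ, hβ0, zero_smul]⟩
      refine hW (G.single_case hHM hMK hb hν1 hbv hsingE hf0 (r := o) fun m hm => ?_)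
      by_cases hml : m = l
      · rw [hml, hβ, hβ0, zero_smul]
      · have := ho m hml hm
        rw [hβ0, mul_zero, zero_smul, zero_add, smul_eq_zero] at this
        exact this.resolve_left (mul_ne_zero (sub_ne_zero.2 hν1') hα0)
    by_cases hα0 : α = 0
    · refine hW (G.single_case hHM hMK hb hν1' hbv' hsingF he0 (r := o) fun m hm => ?_)
      by_cases hml : m = l
      · rw [hml, hα, hα0, zero_smul]
      · have := ho m hml hm
        rw [hα0, mul_zero, zero_smul, add_zero, smul_eq_zero] at this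
        exact this.resolve_left (mul_ne_zero (sub_ne_zero.2 hν1) hβ0)
    obtain ⟨m, hm⟩ := G.exists_avoid {l, o} (by
      have := Finset.card_le_two (a := l) (b := o); omega)
    simp only [Finset.mem_insert, Finset.mem_singleton, not_or] at hm
    have hmc := ho m hm.1 hm.2
    obtain ⟨u', hu', hu'0, hQu', α', β', hα', hβ'⟩ := hline m
      (hdepS m ⟨_, _, Or.inl (mul_ne_zero (sub_ne_zero.2 hν1) hβ0), hmc⟩)
    rw [hα', hβ', smul_smul, smul_smul, ← add_smul, smul_eq_zero] at hmc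
    have hrel := hmc.resolve_right hu'0
    have hα'0 : α' ≠ 0 := fun h => by
      rw [h, mul_zero, zero_add, mul_eq_zero] at hrel
      exact hnz m ⟨by rw [hα', h, zero_smul], by
        rw [hβ', hrel.resolve_left (mul_ne_zero (sub_ne_zero.2 hν1') hα0), zero_smul]⟩
    have hβ'0 : β' ≠ 0 := fun h => by
      rw [h, mul_zero, add_zero, mul_eq_zero] at hrel
      exact hα'0 (hrel.resolve_left (mul_ne_zero (sub_ne_zero.2 hν1) hβ0))
    have hdet : (ν - 1) * β * ((ν⁻¹ - 1) * α') - (ν - 1) * β' * ((ν⁻¹ - 1) * α) ≠ 0 := by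
      intro h
      have h3 : α * β' = β * α' :=
        (mul_left_cancel₀ (mul_ne_zero (sub_ne_zero.2 hν1) (sub_ne_zero.2 hν1'))
          (by linear_combination -h))
      have h4 : ((ν - 1) + (ν⁻¹ - 1)) * (β * α') = 0 := by linear_combination hrel - (ν⁻¹ - 1) * h3
      have h5 := (mul_eq_zero.1 h4).resolve_right (mul_ne_zero hβ0 hα'0)
      have h6 : (ν - 1) * (ν - 1) = 0 := by
        field_simp at h5
        linear_combination h5
      exact hν1 (sub_eq_zero.1 (mul_self_eq_zero.1 h6))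
    obtain ⟨o', ho'⟩ : ∃ o', ∀ n, n ≠ m → n ≠ o' →
        ((ν - 1) * β') • hD.π n e + ((ν⁻¹ - 1) * α') • hD.π n f = 0 := by
      by_cases h1 : ∃ o', o' ≠ m ∧ ((ν - 1) * β') • hD.π o' e + ((ν⁻¹ - 1) * α') • hD.π o' f ≠ 0
      · obtain ⟨o', hom, ho'⟩ := h1
        refine ⟨o', fun n hnm hno => ?_⟩
        by_contra hne
        rcases two m u' α' β' hu' hu'0 hQu' hα' hβ' ⟨o', n, hom, hnm, Ne.symm hno, ho', hne⟩ with h | h
        · exact hβ'0 ((smul_eq_zero.1 (hβ'.symm.trans h.1)).resolve_right hu'0)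
        · exact hα'0 ((smul_eq_zero.1 (hα'.symm.trans h.1)).resolve_right hu'0)
      · push Not at h1
        exact ⟨m, fun n hnm _ => h1 n hnm⟩
    obtain ⟨n, hn⟩ := G.exists_avoid {l, o, m, o'} (by
      have := Finset.card_le_four (a := l) (b := o) (c := m) (d := o'); omega)
    simp only [Finset.mem_insert, Finset.mem_singleton, not_or] at hn
    have h7' := ho n hn.1 hn.2.1
    have h8 := ho' n hn.2.2.1 hn.2.2.2
    refine hnz n ⟨?_, ?_⟩
    · refine (smul_eq_zero.1 (show ((ν - 1) * β * ((ν⁻¹ - 1) * α') - (ν - 1) * β' * ((ν⁻¹ - 1) * α))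
          • hD.π n e = 0 from ?_)).resolve_left hdet
      have := congrArg₂ (fun u w => ((ν⁻¹ - 1) * α') • u - ((ν⁻¹ - 1) * α) • w) h7' h8
      simp only [smul_zero, sub_zero] at this
      rw [← this]; module
    · refine (smul_eq_zero.1 (show ((ν - 1) * β * ((ν⁻¹ - 1) * α') - (ν - 1) * β' * ((ν⁻¹ - 1) * α))
          • hD.π n f = 0 from ?_)).resolve_left hdet
      have := congrArg₂ (fun u w => ((ν - 1) * β) • w - ((ν - 1) * β') • u) h7' h8
      simp only [smul_zero, sub_zero] at this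
      rw [← this]; module
  have hind : ∀ m, m ∉ S1 → LinearIndependent F ![hD.π m e, hD.π m f] := fun m hm => by
    refine LinearIndependent.pair_iff.2 fun c₁ c₂ h => ?_
    by_contra hc
    exact hm (hdepS m ⟨c₁, c₂, not_and_or.1 hc, h⟩)
  rcases S1.eq_empty_or_nonempty with hS0 | ⟨l₁, hl₁⟩
  · refine hW (G.wit_of_five hHM hMK hQa hQd hb (L := Finset.univ) ?_ fun l _ => ?_)
    · rw [Finset.card_univ, Fintype.card_fin]; exact G.t5
    · by_contra h
      exact Finset.notMem_empty l (hS0 ▸ Finset.mem_filter.2 ⟨Finset.mem_univ _, h⟩)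
  have hsub : S1.card ≤ 2 := by
    have hle : S1 ⊆ (S1.filter fun l => hD.π l f = 0 ∧ ∀ m, m ≠ l → hD.π m f ≠ 0 ∧ Q (hD.π m f) = 0) ∪
        (S1.filter fun l => hD.π l e = 0 ∧ ∀ m, m ≠ l → hD.π m e ≠ 0 ∧ Q (hD.π m e) = 0) := fun l hl => by
      rcases key l hl with h | h
      · exact Finset.mem_union_left _ (Finset.mem_filter.2 ⟨hl, h⟩)
      · exact Finset.mem_union_right _ (Finset.mem_filter.2 ⟨hl, h⟩)
    refine (Finset.card_le_card hle).trans ((Finset.card_union_le _ _).trans ?_)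
    have h1 : ∀ v : ι → F, (S1.filter fun l => hD.π l v = 0 ∧
        ∀ m, m ≠ l → hD.π m v ≠ 0 ∧ Q (hD.π m v) = 0).card ≤ 1 := fun v => by
      rw [Finset.card_le_one]
      intro l hl l' hl'
      by_contra hne
      exact ((Finset.mem_filter.1 hl).2.2 l' (Ne.symm hne)).1 (Finset.mem_filter.1 hl').2.1
    have := h1 f
    have := h1 e
    omega
  obtain ⟨p₁, p₂, p₃, k1, k2, k3, k12, k13, k23⟩ := Finset.two_lt_card_iff.1 (show 2 < S1ᶜ.card by
    rw [Finset.card_compl, Fintype.card_fin]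
    have := G.t5
    omega)
  rw [Finset.mem_compl] at k1 k2 k3
  rcases key l₁ hl₁ with ⟨-, h⟩ | ⟨-, h⟩
  · refine hW (G.wit_of_line hHM hMK hb hν0 hν1 h7 hbv k12 k13 k23 fun m hm => ?_)
    have hm1 : m ∉ S1 := by rcases hm with rfl | rfl | rfl <;> assumption
    exact ⟨hind m hm1, (h m fun e' => hm1 (e' ▸ hl₁)).2⟩
  · refine hW (G.wit_of_line hHM hMK hb (inv_ne_zero hν0) hν1' h7 hbv' k12 k13 k23 fun m hm => ?_)
    have hm1 : m ∉ S1 := by rcases hm with rfl | rfl | rfl <;> assumption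
    refine ⟨LinearIndependent.pair_iff.2 fun c₁ c₂ h' => ?_, (h m fun e' => hm1 (e' ▸ hl₁)).2⟩
    exact (LinearIndependent.pair_iff.1 (hind m hm1) c₂ c₁ (by rw [add_comm]; exact h')).symm

end Good2

end CfsgLib.ClassicalMax.OmD2
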