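/-
Maximality of stabilisers of orthogonal decompositions into planes.
-/
import Cfsg.Agent.Lib.ClassicalMax.OrthPlanesSpecial
import Cfsg.Agent.Lib.ClassicalMax.OrthDecompGen
set_option autoImplicit false

namespace CfsgLib.ClassicalMax.OmD2

open Matrix Cfsg.Geo QuadraticMap Module
open CfsgLib.Classical.Quad (NDPolar Frame polar_self' polar_singular_self Q_comb1)
open CfsgLib.ClassicalMax.OmD (Dec InBlock rr rr_mulVec rr_fix rr_conj rr_inv rr_mul_self rr_smul pair_mem eq_zero_of_orth exists_in_polar_one exists_in_polar_two fixOrth exists_ne_three)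
open CfsgLib.ClassicalMax.OmS (SS IsSg exists_sg omega_le_of_pair omega_iso omega_polar SS_mulVec)

variable {ι : Type} [Fintype ι] [DecidableEq ι] {F : Type*} [Field F]
  {Q : QuadraticForm F (ι → F)} {t : ℕ} {D : Fin t → Submodule F (ι → F)}

theorem polar_similitude {S : Submodule F (ι → F)} {L : (ι → F) →ₗ[F] (ι → F)} {κ : F}
    (hL : ∀ v ∈ S, Q (L v) = κ * Q v) {v w : ι → F} (hv : v ∈ S) (hw : w ∈ S) :
    polar Q (L v) (L w) = κ * polar Q v w := by
  simp only [polar]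
  rw [← map_add, hL v hv, hL w hw, hL _ (S.add_mem hv hw)]
  ring

variable [Fintype F]

namespace Good2

variable (G : Good2 Q D)
include G

/-- A similitude between two members with a prescribed image. -/
theorem exists_similitude_between (i j : Fin t) {a b : ι → F} (ha : a ∈ D i) (hQa : Q a ≠ 0)
    (hb : b ∈ D j) : ∃ L : (ι → F) →ₗ[F] (ι → F),
      L a = b ∧ ∀ v ∈ D i, L v ∈ D j ∧ Q (L v) = Q b / Q a * Q v := by
  obtain ⟨e, he⟩ := G.toDec.dec.isometric i j
  obtain ⟨E, hE⟩ := LinearMap.exists_extend ((D j).subtype.comp e.toLinearMap)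
  have hEv : ∀ v, ∀ hv : v ∈ D i, E v = (e ⟨v, hv⟩ : ι → F) := fun v hv =>
    LinearMap.congr_fun hE ⟨v, hv⟩
  have hQE : ∀ v, v ∈ D i → Q (E v) = Q v := fun v hv => by rw [hEv v hv]; exact he ⟨v, hv⟩
  obtain ⟨L, hLa, hL⟩ := (G.plane j).exists_similitude (x := E a)
    (by rw [hEv a ha]; exact (e ⟨a, ha⟩).2) (by rwa [hQE a ha]) hb
  refine ⟨L.comp E, hLa, fun v hv => ?_⟩
  obtain ⟨h1, h2⟩ := hL (E v) (by rw [hEv v hv]; exact (e ⟨v, hv⟩).2)
  rw [hQE a ha, hQE v hv] at h2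
  exact ⟨h1, h2⟩

/-- Vectors of one value in a member differ by an anisotropic vector. -/
theorem reflect_to {p : Fin t} {a a' : ι → F} (ha : a ∈ D p) (ha' : a' ∈ D p) (hQa : Q a ≠ 0)
    (hQ : Q a' = Q a) (hne : a ≠ a') :
    Q (a - a') ≠ 0 ∧ (rr G.toDec.qform (a - a') : Matrix ι ι F) *ᵥ a = a' := by
  have e : polar Q a (a - a') = Q (a - a') := by
    rw [polar_sub_right, polar_self', Om.Q_sub G.toDec.qform, hQ]; ring
  have hn : Q (a - a') ≠ 0 := fun h =>
    (G.plane p).nonsing_perp ha hQa ((D p).sub_mem ha ha') (sub_ne_zero.2 hne) (by rw [e, h]) h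
  refine ⟨hn, ?_⟩
  rw [rr_mulVec _ hn, e, div_self hn, one_smul, sub_sub_cancel]

/-- Perpendicular pairs of vectors of opposite values. -/
theorem exists_pair_r {i j : Fin t} {x y : ι → F} (hx : x ∈ D i) (hy : y ∈ D j) (hQx : Q x ≠ 0)
    (hQy : Q y ≠ 0) : ∃ r ∈ D i, ∃ r' ∈ D j, Q r ≠ 0 ∧ Q r' = -Q r ∧ polar Q x r = 1 ∧
      polar Q y r' = 1 := by
  have hx0 : x ≠ 0 := fun e => hQx (by rw [e, map_zero Q])
  obtain ⟨y', hy', hQy', hli, hne⟩ : ∃ y' ∈ D i, Q y' = -Q y ∧ LinearIndependent F ![x, y'] ∧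
      Q (x + y') ≠ 0 := by
    by_cases hsing : ∃ v ∈ D i, v ≠ 0 ∧ Q v = 0
    · have h7 := (G.big i).2 hsing
      obtain ⟨z, hz, hz0, hxz⟩ := (G.plane i).exists_perp hx
      obtain ⟨-, w, hw, hzw⟩ := (G.plane i).nd z hz hz0
      obtain ⟨-, w', hw', hxw⟩ := (G.plane i).nd x hx hx0
      obtain ⟨y', hy', hQy', h1, h2⟩ := (G.plane i).avoid (G.big i) (neg_ne_zero.2 hQy)
        (polarBilin Q z) (polarBilin Q x) ⟨w, hw, hzw⟩ ⟨w', hw', hxw⟩ 0 (Q y - Q x)
        (fun h => by omega)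
      refine ⟨y', hy', hQy', (LinearIndependent.pair_iff' hx0).2 fun a ha => h1 ?_, fun h => h2 ?_⟩
      · change polar Q z y' = 0
        rw [← ha, polar_smul_right, polar_comm Q z x, hxz, smul_zero]
      · change polar Q x y' = _
        rw [QuadraticMap.map_add (⇑Q), hQy'] at h
        linear_combination h
    · obtain ⟨y', hy', hQy', hli⟩ := (G.plane i).exists_value_li (G.big i) (neg_ne_zero.2 hQy) hx hx0
      refine ⟨y', hy', hQy', hli, fun h => hsing ⟨_, (D i).add_mem hx hy', fun h0 => ?_, h⟩⟩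
      exact one_ne_zero (LinearIndependent.pair_iff.1 hli 1 1 (by rw [one_smul, one_smul, h0])).1
  have hQy'0 : Q y' ≠ 0 := by rw [hQy']; exact neg_ne_zero.2 hQy
  obtain ⟨φ, hφy, hφ⟩ := G.exists_similitude_between i j hy' hQy'0 hy
  have hκ : Q y / Q y' = -1 := by rw [hQy', div_neg, div_self hQy]
  obtain ⟨r, hr, hxr, hy'r⟩ := exists_in_polar_two (G.plane i).nd hx hy' hli 1 (-1)
  have hr0 : r ≠ 0 := fun e => one_ne_zero (α := F) (by rw [← hxr, e, polar_zero_right])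
  have hQr : Q r ≠ 0 := (G.plane i).nonsing_perp ((D i).add_mem hx hy') hne hr hr0
    (by rw [polar_add_left, hxr, hy'r, add_neg_cancel])
  refine ⟨r, hr, φ r, (hφ r hr).1, hQr, by rw [(hφ r hr).2, hκ, neg_one_mul], hxr, ?_⟩
  rw [← hφy, polar_similitude (S := D i) (fun v hv => (hφ v hv).2) hy' hr, hκ, hy'r]
  ring

/-- An element of the stabiliser exchanging two members and fixing all the others. -/
theorem exists_exchange_mem {j l : Fin t} (hjl : j ≠ l) :
    ∃ m ∈ decompositionStabilizer D ⊓ omegaGL ⇑Q,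
      (∀ v ∈ D j, (m : Matrix ι ι F) *ᵥ v ∈ D l) ∧
      ∀ i, i ≠ j → i ≠ l → ∀ v ∈ D i, (m : Matrix ι ι F) *ᵥ v = v := by
  classical
  have hD := G.toDec
  obtain ⟨g, hgi, hgj, hgl, hgo⟩ := hD.exists_exchange hjl
  have hreg : OrthCrit.Regular F ι := Or.inr (by have := G.card; omega)
  have hn : 2 ≤ Fintype.card ι := by have := G.card; omega
  obtain ⟨a, ha, hQa, -⟩ := (G.plane l).exists_value (one_ne_zero (α := F))
  have hQa0 : Q a ≠ 0 := by rw [hQa]; exact one_ne_zero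
  have hrefl : ∀ {r : ι → F} (hr : Q r ≠ 0), r ∈ D l →
      OrthSpinor.reflection (Q := Q) hr ∈ fixOrth Q (D l) := by
    intro r hr hrl v hv
    change OrthSpinor.act Q (OrthSpinor.reflection hr) v = v
    rw [← OrthCrit.toOrth_apply, OrthCrit.toOrth_reflection,
      Classical.Quad.refl_fix (hv r hrl)]
  obtain ⟨x, hx, hgx⟩ := OrthCrit.exists_mul_mem_Omega hD.nd hreg hn (fixOrth Q (D l)) ⟨g, hgi⟩
    ⟨_, hrefl hQa0 ha, OrthCrit.parity_reflection hD.nd hQa0⟩ fun h2 => by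
      obtain ⟨ν, hν⟩ := FiniteField.exists_nonsquare (F := F) fun hc => h2 (by
        haveI := ringChar.of_eq hc; exact CharTwo.two_eq_zero)
      have hν0 : ν ≠ 0 := fun e => hν (e ▸ IsSquare.zero)
      obtain ⟨b, hb, hQb, -⟩ := (G.plane l).exists_value hν0
      have hQb0 : Q b ≠ 0 := by rw [hQb]; exact hν0
      refine ⟨_, mul_mem (hrefl hQa0 ha) (hrefl hQb0 hb), ?_,
        OrthCrit.theta_pair h2 hQa0 hQb0 (by rw [hQa, hQb, one_mul]; exact hν)⟩
      rw [OrthCrit.parity_mul hD.nd hreg, OrthCrit.parity_reflection hD.nd hQa0,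
        OrthCrit.parity_reflection hD.nd hQb0]
      decide
  have hxfix : ∀ p, p ≠ l → ∀ v ∈ D p, ((x : GL ι F) : Matrix ι ι F) *ᵥ v = v := fun p hp v hv =>
    hx v fun y hy => hD.orth hp hv hy
  have hxl : ∀ v ∈ D l, ((x : GL ι F) : Matrix ι ι F) *ᵥ v ∈ D l := fun v hv =>
    hD.mem_of_orth fun p hp y hy => by
      rw [← hxfix p hp y hy, Om.iso_polar hD.qform x.2]
      exact hD.orth (Ne.symm hp) hv hy
  have hxs : (x : GL ι F) ∈ decompositionStabilizer D := hD.mem_stab fun p v hv => by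
    by_cases e : p = l
    · subst e; exact hxl v hv
    · rw [hxfix p e v hv]; exact hv
  have hgs : g ∈ decompositionStabilizer D := by
    refine ⟨Equiv.swap j l, fun p => Submodule.eq_of_le_of_finrank_eq ?_ ?_⟩
    · rintro _ ⟨v, hv, rfl⟩
      rw [Matrix.toLin'_apply]
      rcases eq_or_ne p j with rfl | hpj
      · rw [Equiv.swap_apply_left]; exact hgj v hv
      rcases eq_or_ne p l with rfl | hpl
      · rw [Equiv.swap_apply_right]; exact hgl v hv
      · rw [Equiv.swap_apply_of_ne_of_ne hpj hpl, hgo p hpj hpl v hv]; exact hv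
    · rw [← (Submodule.equivMapOfInjective _ (fun x y e => gl_mulVec_injective g (by simpa using e))
        (D p)).finrank_eq, hD.dim, hD.dim]
  refine ⟨g * (x : GL ι F), ⟨mul_mem hgs hxs, ⟨_, hgx, rfl⟩⟩, fun v hv => ?_,
    fun i hij hil v hv => ?_⟩
  · rw [gl_mulVec_mul, hxfix j hjl v hv]; exact hgj v hv
  · rw [gl_mulVec_mul, hxfix i hil v hv, hgo i hij hil v hv]

/-- The vectors whose reflection, times that in `s`, lies in `M`. -/
def XS (_ : Good2 Q D) (M : Subgroup (GL ι F)) (s : ι → F) : Set (ι → F) :=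
  {v | Q v ≠ 0 ∧ IsSquare (Q s * Q v) ∧ rr G.toDec.qform s * rr G.toDec.qform v ∈ M}

variable {M : Subgroup (GL ι F)} (hHM : decompositionStabilizer D ⊓ omegaGL ⇑Q ≤ M)
  (hMK : M ≤ omegaGL ⇑Q)

include hHM in
theorem X_block {l j : Fin t} {s v : ι → F} (hs : s ∈ D l) (hQs : Q s ≠ 0) (hv : v ∈ D j)
    (hQv : Q v = Q s) : v ∈ G.XS G M s :=
  have hQv0 : Q v ≠ 0 := by rw [hQv]; exact hQs
  have hsq : IsSquare (Q s * Q v) := by rw [hQv]; exact IsSquare.mul_self _
  ⟨hQv0, hsq, hHM (G.pairH hs hv hQs hQv0 hsq)⟩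

theorem X_prod {s v w : ι → F} (hv : v ∈ G.XS G M s) (hw : w ∈ G.XS G M s) :
    rr G.toDec.qform v * rr G.toDec.qform w ∈ M := by
  have h := M.mul_mem (M.inv_mem hv.2.2) hw.2.2
  rwa [_root_.mul_inv_rev, rr_inv, rr_inv, mul_assoc, ← mul_assoc (rr _ s), rr_mul_self, one_mul] at h

theorem X_rr {s a y : ι → F} (ha : a ∈ G.XS G M s) (hy : y ∈ G.XS G M s) :
    (rr G.toDec.qform a : Matrix ι ι F) *ᵥ y ∈ G.XS G M s := by
  have hQ : Q ((rr G.toDec.qform a : Matrix ι ι F) *ᵥ y) = Q y :=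
    Om.iso_Q G.toDec.qform (OmD.rr_iso _ a) y
  refine ⟨by rw [hQ]; exact hy.1, by rw [hQ]; exact hy.2.1, ?_⟩
  rw [← rr_conj _ (OmD.rr_iso _ a) hy.1, rr_inv, ← mul_assoc, ← mul_assoc,
    mul_assoc (rr _ s * rr _ a)]
  exact M.mul_mem ha.2.2 (G.X_prod hy ha)

include hMK in
theorem X_map {s z v : ι → F} {m : GL ι F} (hm : m ∈ M) (hz : z ∈ G.XS G M s)
    (hmz : (m : Matrix ι ι F) *ᵥ z ∈ G.XS G M s) (hv : v ∈ G.XS G M s) :
    (m : Matrix ι ι F) *ᵥ v ∈ G.XS G M s := by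
  have hmo := hMK hm
  refine ⟨by rw [omega_iso hmo]; exact hv.1, by rw [omega_iso hmo]; exact hv.2.1, ?_⟩
  have h := M.mul_mem (M.mul_mem hm (G.X_prod hz hv)) (M.inv_mem hm)
  have h' := M.mul_mem hmz.2.2 h
  rw [← conj_mul, rr_conj _ (Om.omega_le hmo) hz.1, rr_conj _ (Om.omega_le hmo) hv.1,
    mul_assoc, ← mul_assoc (rr _ _) (rr _ _) (rr _ _), rr_mul_self, one_mul] at h'
  exact h'

variable {l₀ : Fin t} {s : ι → F} (hs : s ∈ D l₀) (hQs : Q s ≠ 0)

include hHM hMK hs hQs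

theorem X_stab {v : ι → F} {m : GL ι F} (hm : m ∈ decompositionStabilizer D ⊓ omegaGL ⇑Q)
    (hv : v ∈ G.XS G M s) : (m : Matrix ι ι F) *ᵥ v ∈ G.XS G M s := by
  obtain ⟨j, hj⟩ := Frames.exists_block_image hm.1 l₀
  exact G.X_map hMK (hHM hm) (G.X_block hHM hs hQs hs rfl)
    (G.X_block hHM hs hQs (hj s hs) (omega_iso hm.2 s)) hv

omit hs hQs in
theorem exists_mixed {g : GL ι F} (hgM : g ∈ M) (hg : g ∉ decompositionStabilizer D) :
    ∃ (l : Fin t) (s x : ι → F), s ∈ D l ∧ Q s ≠ 0 ∧ x ∈ G.XS G M s ∧ Q x = Q s ∧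
      ¬ InBlock D x := by
  obtain ⟨m, l, s, hmM, hms, hs, hQs, hmfix⟩ := G.exists_wit hHM hMK hgM hg
  have hsX := G.X_block hHM hs hQs hs rfl
  by_contra hc
  push Not at hc
  refine hms (G.mem_stab_of_value (hMK hmM) hQs fun j x hx hQx => ?_)
  exact hc l s _ hs hQs (G.X_map hMK hmM hsX (by rw [hmfix]; exact hsX) (G.X_block hHM hs hQs hx hQx))
    (by rw [omega_iso (hMK hmM), hQx])

/-- A moved vector gives a Siegel element. -/
theorem root_of_move {x : ι → F} (hx : x ∈ G.XS G M s) (hQx : Q x = Q s) {h : GL ι F}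
    (hh : h ∈ decompositionStabilizer D ⊓ omegaGL ⇑Q) {u : ι → F}
    (hu : (h : Matrix ι ι F) *ᵥ x = x + u) (hQu : Q u = 0) :
    polar Q u ((Q s)⁻¹ • x) = 0 ∧ ∃ k ∈ M, IsSg Q k u ((Q s)⁻¹ • x) := by
  have hX := G.X_stab hHM hMK hs hQs hh hx
  rw [hu] at hX
  have hxu : polar Q x u = 0 := by
    have h1 := omega_iso hh.2 x
    rw [hu, QuadraticMap.map_add (⇑Q), hQu] at h1
    linear_combination h1
  have hux : polar Q u x = 0 := by rw [polar_comm]; exact hxu
  refine ⟨by rw [polar_smul_right, hux, smul_zero], _, G.X_prod hx hX, fun v => ?_⟩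
  have hQxu : Q (x + u) = Q x := by rw [QuadraticMap.map_add (⇑Q), hQu, hxu]; ring
  rw [gl_mulVec_mul, rr_mulVec _ hX.1, rr_mulVec _ hx.1, hQxu, hQx, QuadraticMap.map_smul, hQx,
    polar_sub_left, polar_smul_left, polar_smul_right, polar_add_left Q x u, polar_self', hQx, hux,
    polar_add_right]
  simp only [smul_eq_mul]
  match_scalars <;> field_simp <;> ring

omit hs hQs in
/-- A root element with a component in a member gives all of that member. -/
theorem spread (P : Frame Q) {u w : ι → F} (hQu : Q u = 0) {S : Finset (Fin t)} (hS : S.card ≤ 3)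
    (huS : ∀ p, p ∉ S → G.toDec.π p u = 0) {m : Fin t} (hm : m ∉ S) (hwm : G.toDec.π m w ≠ 0)
    (huw : polar Q u w = 0) (hk : ∃ k ∈ M, IsSg Q k u w) :
    ∀ v ∈ D m, ∃ k ∈ M, IsSg Q k u v := by
  classical
  have hD := G.toDec
  let Wt : (ι → F) → Prop := fun w => polar Q u w = 0 ∧ ∃ h ∈ M, IsSg Q h u w
  have hadd : ∀ {a b}, Wt a → Wt b → Wt (a + b) := by
    rintro a b ⟨ha, h, hh, hhx⟩ ⟨hb, h', hh', hhx'⟩
    exact ⟨by rw [polar_add_right, ha, hb, add_zero], h * h', M.mul_mem hh hh',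
      IsSg.mul hQu ha hb hhx hhx'⟩
  have hneg : ∀ {a}, Wt a → Wt (-a) := by
    rintro a ⟨ha, h, hh, hhx⟩
    have ha' : polar Q u (-a) = 0 := by rw [polar_neg_right, ha, neg_zero]
    obtain ⟨h', -, hhx'⟩ := exists_sg hD.nd P hQu ha'
    have h1 := IsSg.mul hQu ha ha' hhx hhx'
    have e : h * h' = 1 := gl_ext_mulVec fun v => by rw [h1 v, Units.val_one, one_mulVec]; simp
    refine ⟨ha', h', ?_, hhx'⟩
    rw [eq_inv_of_mul_eq_one_right e]
    exact M.inv_mem hh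
  have hsub : ∀ {a b}, Wt a → Wt b → Wt (a - b) := fun ha hb => by
    rw [sub_eq_add_neg]; exact hadd ha (hneg hb)
  have hzero : Wt 0 := ⟨polar_zero_right _ _, 1, M.one_mem, fun x => by simp⟩
  have hconj : ∀ {n : GL ι F}, n ∈ decompositionStabilizer D ⊓ omegaGL ⇑Q →
      (n : Matrix ι ι F) *ᵥ u = u → ∀ {w}, Wt w → Wt ((n : Matrix ι ι F) *ᵥ w) := by
    rintro n hn hnu w ⟨hw, h, hh, hhx⟩
    have h1 := IsSg.conj hn.2 hhx
    rw [hnu] at h1
    exact ⟨by rw [← hnu, omega_polar hn.2]; exact hw, _,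
      M.mul_mem (M.mul_mem (hHM hn) hh) (M.inv_mem (hHM hn)), h1⟩
  have huD : ∀ p, p ∉ S → ∀ y ∈ D p, polar Q u y = 0 := fun p hp y hy => by
    rw [hD.polar_π u hy, huS p hp, polar_zero_left]
  -- a first vector in the member
  obtain ⟨y, hy, y', hy', hQy, hQy', hli⟩ := (G.plane m).exists_two_values (G.big m) (one_ne_zero (α := F))
  have hQy0 : Q y ≠ 0 := by rw [hQy]; exact one_ne_zero
  have hQy'0 : Q y' ≠ 0 := by rw [hQy']; exact one_ne_zero
  have hρ := G.pairH hy hy' hQy0 hQy'0 ⟨1, by rw [hQy, hQy']⟩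
  have hρw := hconj hρ (by rw [gl_mulVec_mul, rr_fix _ (huD m hm y' hy'), rr_fix _ (huD m hm y hy)])
    ⟨huw, hk⟩
  have hv₀ := hsub hρw ⟨huw, hk⟩
  rw [pair_apply _ hQy0 hQy'0, add_sub_cancel_left] at hv₀
  set v₀ := (-(polar Q w y / Q y) + polar Q w y' / Q y' * (polar Q y' y / Q y)) • y
      + (-(polar Q w y' / Q y')) • y' with hv₀def
  have hv₀m : v₀ ∈ D m := (D m).add_mem ((D m).smul_mem _ hy) ((D m).smul_mem _ hy')
  have hv₀0 : v₀ ≠ 0 := fun e => by
    obtain ⟨e1, e2⟩ := LinearIndependent.pair_iff.1 hli _ _ e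
    rw [neg_eq_zero, div_eq_zero_iff] at e2
    have h2 := e2.resolve_right hQy'0
    rw [h2, zero_div, zero_mul, add_zero, neg_eq_zero, div_eq_zero_iff] at e1
    have h1 := e1.resolve_right hQy0
    refine hwm (eq_zero_of_orth (hD.block m) (hD.π_mem w m) fun z hz => ?_)
    obtain ⟨a, b, rfl⟩ := (G.plane m).coords hy hy' hli hz
    rw [polar_add_right, polar_smul_right, polar_smul_right, ← hD.polar_π w hy, ← hD.polar_π w hy',
      h1, h2, smul_zero, smul_zero, add_zero]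
  obtain ⟨o, ho⟩ := G.exists_avoid (insert m S) (by
    have := Finset.card_insert_le m S; omega)
  simp only [Finset.mem_insert, not_or] at ho
  have hrefl : ∀ a, Wt a → a ∈ D m → ∀ y ∈ D m, Q y ≠ 0 →
      Wt ((rr hD.qform y : Matrix ι ι F) *ᵥ a) := by
    intro a haW ha y hy hQy
    obtain ⟨p, hp, hQp, -⟩ := (G.plane o).exists_value hQy
    have h := hconj (G.pairH hy hp hQy (by rwa [hQp]) (by rw [hQp]; exact IsSquare.mul_self _))
      (by rw [gl_mulVec_mul, rr_fix _ (huD o ho.2 p hp), rr_fix _ (huD m hm y hy)]) haW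
    rwa [gl_mulVec_mul, rr_fix _ (hD.orth (Ne.symm ho.1) ha hp)] at h
  -- a non-singular one
  obtain ⟨-, z, hz, hvz⟩ := (hD.block m) v₀ hv₀m hv₀0
  obtain ⟨y₁, hy₁, hQy₁, hv₀y, -⟩ := (G.plane m).avoid (G.big m) (one_ne_zero (α := F))
    (polarBilin Q v₀) (polarBilin Q v₀) ⟨z, hz, hvz⟩ ⟨z, hz, hvz⟩ 0 0 fun _ => ⟨rfl, rfl⟩
  have hQy₁0 : Q y₁ ≠ 0 := by rw [hQy₁]; exact one_ne_zero
  have hw₁ := hsub hv₀ (hrefl v₀ hv₀ hv₀m y₁ hy₁ hQy₁0)
  rw [rr_mulVec _ hQy₁0, sub_sub_cancel] at hw₁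
  set w₁ := (polar Q v₀ y₁ / Q y₁) • y₁
  have hw₁m : w₁ ∈ D m := (D m).smul_mem _ hy₁
  set η := Q w₁ with hη
  have hη0 : η ≠ 0 := by
    rw [hη, QuadraticMap.map_smul, smul_eq_mul]
    exact mul_ne_zero (mul_ne_zero (div_ne_zero hv₀y hQy₁0) (div_ne_zero hv₀y hQy₁0)) hQy₁0
  have hsame : ∀ r ∈ D m, Q r = η → Wt r := by
    intro r hr hQr
    by_cases e : w₁ = r
    · rw [← e]; exact hw₁
    obtain ⟨hne, hmap⟩ := G.reflect_to hw₁m hr hη0 hQr e
    have := hrefl w₁ hw₁ hw₁m _ ((D m).sub_mem hw₁m hr) hne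
    rwa [hmap] at this
  let Γ : Set F := {c | ∀ r ∈ D m, Q r = η → Wt (c • r)}
  let K : Subring F :=
    { carrier := {κ | ∀ c ∈ Γ, κ * c ∈ Γ}
      mul_mem' := fun {a b} ha hb c hc => by rw [mul_assoc]; exact ha _ (hb c hc)
      one_mem' := fun c hc => by rwa [one_mul]
      add_mem' := fun {a b} ha hb c hc r hr hQr => by
        rw [add_mul, add_smul]; exact hadd (ha c hc r hr hQr) (hb c hc r hr hQr)
      zero_mem' := fun c _ r _ _ => by rw [zero_mul, zero_smul]; exact hzero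
      neg_mem' := fun {a} ha c hc r hr hQr => by
        rw [neg_mul, neg_smul]; exact hneg (ha c hc r hr hQr) }
  have hK : ∀ r ∈ D m, ∀ r' ∈ D m, Q r = η → Q r' = η → polar Q r r' / η ∈ K := by
    intro r₀ hr₀ r₀' hr₀' hQr₀ hQr₀' c hc r' hr' hQr'
    obtain ⟨L, hLr, hL⟩ := (G.plane m).exists_similitude hr₀' (by rw [hQr₀']; exact hη0) hr'
    have hfac : Q r' / Q r₀' = 1 := by rw [hQr', hQr₀', div_self hη0]
    set r := L r₀ with hrdef
    have hr : r ∈ D m := (hL r₀ hr₀).1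
    have hQr : Q r = η := by rw [hrdef, (hL r₀ hr₀).2, hfac, one_mul, hQr₀]
    have hrr : polar Q r r' = polar Q r₀ r₀' := by
      rw [hrdef, ← hLr, polar_similitude (S := D m) (fun v hv => (hL v hv).2) hr₀ hr₀', hfac, one_mul]
    have h1 := hc r hr hQr
    have hQr'0 : Q r' ≠ 0 := by rw [hQr']; exact hη0
    have h2 := hsub h1 (hrefl _ h1 ((D m).smul_mem _ hr) r' hr' hQr'0)
    rw [rr_mulVec _ hQr'0, sub_sub_cancel, polar_smul_left, hrr, hQr', smul_eq_mul] at h2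
    rwa [show polar Q r₀ r₀' / η * c = c * polar Q r₀ r₀' / η by ring]
  have hall := (G.plane m).ring_top (G.big m) hη0 K hK
  have hone : (1 : F) ∈ Γ := fun r hr hQr => by rw [one_smul]; exact hsame r hr hQr
  intro v hv
  obtain ⟨r₁, hr₁, r₂, hr₂, hQr₁, hQr₂, hli'⟩ := (G.plane m).exists_two_values (G.big m) hη0
  obtain ⟨a, b, rfl⟩ := (G.plane m).coords hr₁ hr₂ hli' hv
  have e1 := hall a 1 hone r₁ hr₁ hQr₁
  have e2 := hall b 1 hone r₂ hr₂ hQr₂
  rw [mul_one] at e1 e2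
  exact (hadd e1 e2).2

/-- Room for a root element of two components: a free member, a square root of `-1`, or two
perpendiculars of different classes. -/
def Room (x : ι → F) : Prop :=
  (∃ l, G.toDec.π l x = 0) ∨ IsSquare (-1 : F) ∨ ∃ (k k' : Fin t) (p p' : ι → F),
    p ∈ D k ∧ p' ∈ D k' ∧ Q p ≠ 0 ∧ Q p' ≠ 0 ∧ polar Q x p = 0 ∧ polar Q x p' = 0 ∧
      ¬ IsSquare (Q p * Q p')

/-- With a member free: a root element of two components. -/
theorem root_zero {x : ι → F} (hx : x ∈ G.XS G M s) (hQx : Q x = Q s) {i j : Fin t}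
    (hij : i ≠ j) (hi : Q (G.toDec.π i x) ≠ 0) (hj : Q (G.toDec.π j x) ≠ 0)
    (hroom : G.Room x) :
    ∃ a ∈ D i, ∃ b ∈ D j, Q a ≠ 0 ∧ Q b = -Q a ∧
      polar Q (a + b) ((Q s)⁻¹ • x) = 0 ∧ ∃ k ∈ M, IsSg Q k (a + b) ((Q s)⁻¹ • x) := by
  have hD := G.toDec
  obtain ⟨r, hr, r', hr', hQr, hQr', hxr, hxr'⟩ :=
    G.exists_pair_r (hD.π_mem x i) (hD.π_mem x j) hi hj
  rw [← hD.polar_π x hr] at hxr
  rw [← hD.polar_π x hr'] at hxr'
  have hQr'0 : Q r' ≠ 0 := by rw [hQr']; exact neg_ne_zero.2 hQr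
  set a := (-(Q r)⁻¹) • r with ha
  set b := (-(Q r')⁻¹) • r' with hb
  have hQa : Q a = (Q r)⁻¹ := by
    rw [ha, QuadraticMap.map_smul, smul_eq_mul]; field_simp
  have hQb : Q b = (Q r')⁻¹ := by
    rw [hb, QuadraticMap.map_smul, smul_eq_mul]; field_simp
  obtain ⟨h, hh, hhx⟩ : ∃ h ∈ decompositionStabilizer D ⊓ omegaGL ⇑Q,
      (h : Matrix ι ι F) *ᵥ x = x + (a + b) := by
    have two : ((rr hD.qform r * rr hD.qform r' : GL ι F) : Matrix ι ι F) *ᵥ x = x + (a + b) := by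
      rw [gl_mulVec_mul, rr_mulVec _ hQr'0, hxr', rr_mulVec _ hQr, polar_sub_left, polar_smul_left,
        hxr, hD.orth hij.symm hr' hr, smul_zero, sub_zero, ha, hb, one_div, one_div]
      module
    have four : ∀ (k k' : Fin t) (q q' : ι → F), q ∈ D k → q' ∈ D k' → Q q ≠ 0 → Q q' ≠ 0 →
        polar Q x q = 0 → polar Q x q' = 0 → IsSquare (Q r * Q q) → IsSquare (Q r' * Q q') →
        ∃ h ∈ decompositionStabilizer D ⊓ omegaGL ⇑Q, (h : Matrix ι ι F) *ᵥ x = x + (a + b) := by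
      intro k k' q q' hq hq' hQq hQq' hxq hxq' h1 h2
      have hr'' : (rr hD.qform q : Matrix ι ι F) *ᵥ r' ∈ D j := hD.rr_fixes hq hr'
      have hQr'' : Q ((rr hD.qform q : Matrix ι ι F) *ᵥ r') = Q r' :=
        Om.iso_Q hD.qform (OmD.rr_iso _ q) r'
      refine ⟨_, mul_mem (G.pairH hr hq hQr hQq h1)
        (G.pairH hr'' hq' (by rwa [hQr'']) hQq' (by rwa [hQr''])), ?_⟩
      rw [← rr_conj _ (OmD.rr_iso _ q) hQr'0, rr_inv,
        show rr hD.qform r * rr hD.qform q * (rr hD.qform q * rr hD.qform r' * rr hD.qform q *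
          rr hD.qform q') = rr hD.qform r * (rr hD.qform q * rr hD.qform q) * rr hD.qform r' *
          rr hD.qform q * rr hD.qform q' by simp only [mul_assoc],
        rr_mul_self, mul_one, gl_mulVec_mul, gl_mulVec_mul, rr_fix _ hxq', rr_fix _ hxq]
      exact two
    rcases hroom with ⟨l, hl⟩ | hm1 | ⟨k, k', p, p', hp, hp', hQp, hQp', hxp, hxp', hns⟩
    · obtain ⟨p, hp, hQp, -⟩ := (G.plane l).exists_value hQr
      obtain ⟨p', hp', hQp', -⟩ := (G.plane l).exists_value hQr'0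
      exact four l l p p' hp hp' (by rwa [hQp]) (by rwa [hQp'])
        (by rw [hD.polar_π x hp, hl, polar_zero_left]) (by rw [hD.polar_π x hp', hl, polar_zero_left])
        (by rw [hQp]; exact IsSquare.mul_self _) (by rw [hQp']; exact IsSquare.mul_self _)
    · obtain ⟨c, hc⟩ := hm1
      exact ⟨_, G.pairH hr hr' hQr hQr'0 ⟨c * Q r, by rw [hQr']; linear_combination (Q r * Q r) * hc⟩, two⟩
    by_cases hm1 : IsSquare (-1 : F)
    · obtain ⟨c, hc⟩ := hm1
      exact ⟨_, G.pairH hr hr' hQr hQr'0 ⟨c * Q r, by rw [hQr']; linear_combination (Q r * Q r) * hc⟩, two⟩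
    have pick : ∀ {u v : F}, u ≠ 0 → v ≠ 0 → ¬ IsSquare (u * v) → IsSquare (Q r * u) →
        IsSquare (Q r' * v) := by
      intro u v hu hv huv hru
      obtain ⟨c, hc⟩ := hru
      obtain ⟨d, hd⟩ := OrthSpinor.isSquare_mul_of_not huv hm1
      refine ⟨c * d / u, ?_⟩
      field_simp
      rw [hQr']
      linear_combination d * d * hc + Q r * u * hd
    by_cases h1 : IsSquare (Q r * Q p)
    · exact four k k' p p' hp hp' hQp hQp' hxp hxp' h1 (pick hQp hQp' hns h1)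
    · obtain ⟨c, hc⟩ := OrthSpinor.isSquare_mul_of_not h1 hns
      have h1' : IsSquare (Q r * Q p') := ⟨c / Q p, by field_simp; linear_combination hc⟩
      exact four k' k p' p hp' hp hQp' hQp hxp' hxp h1' (pick hQp' hQp (by rwa [mul_comm]) h1')
  refine ⟨a, (D i).smul_mem _ hr, b, (D j).smul_mem _ hr', by rw [hQa]; exact inv_ne_zero hQr,
    by rw [hQa, hQb, hQr', inv_neg], G.root_of_move hHM hMK hs hQs hx hQx hh hhx ?_⟩
  rw [QuadraticMap.map_add (⇑Q), hD.orth hij ((D i).smul_mem _ hr) ((D j).smul_mem _ hr'), hQa,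
    hQb, hQr', inv_neg]
  ring

/-- Without a free member: a root element of at most four components. -/
theorem root_full {x : ι → F} (hx : x ∈ G.XS G M s) (hQx : Q x = Q s) {i j : Fin t}
    (hij : i ≠ j) (hi : Q (G.toDec.π i x) ≠ 0) (hj : Q (G.toDec.π j x) ≠ 0)
    (hfull : ∀ l, G.toDec.π l x ≠ 0) :
    ∃ (u : ι → F) (S : Finset (Fin t)), i ∈ S ∧ j ∈ S ∧ S.card ≤ 4 ∧
      (∀ p, p ∉ S → G.toDec.π p u = 0) ∧ Q u = 0 ∧ Q (G.toDec.π i u) ≠ 0 ∧
      Q (G.toDec.π j u) ≠ 0 ∧ Q (G.toDec.π j u) = -Q (G.toDec.π i u) ∧ polar Q x u = 0 ∧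
      x + u ∈ G.XS G M s := by
  classical
  have hD := G.toDec
  obtain ⟨r, hr, r', hr', hQr, hQr', hxr, hxr'⟩ :=
    G.exists_pair_r (hD.π_mem x i) (hD.π_mem x j) hi hj
  rw [← hD.polar_π x hr] at hxr
  rw [← hD.polar_π x hr'] at hxr'
  have hQr'0 : Q r' ≠ 0 := by rw [hQr']; exact neg_ne_zero.2 hQr
  set a := (-(Q r)⁻¹) • r with ha
  set b := (-(Q r')⁻¹) • r' with hb
  have hQa : Q a = (Q r)⁻¹ := by rw [ha, QuadraticMap.map_smul, smul_eq_mul]; field_simp
  have hQb : Q b = (Q r')⁻¹ := by rw [hb, QuadraticMap.map_smul, smul_eq_mul]; field_simp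
  have haD : a ∈ D i := (D i).smul_mem _ hr
  have hbD : b ∈ D j := (D j).smul_mem _ hr'
  have hab : Q (a + b) = 0 := by
    rw [QuadraticMap.map_add (⇑Q), hD.orth hij haD hbD, hQa, hQb, hQr', inv_neg]; ring
  have finish : ∀ (h : GL ι F) (z : ι → F) (S' : Finset (Fin t)), i ∉ S' → j ∉ S' → S'.card ≤ 2 →
      (∀ p, p ∉ S' → hD.π p z = 0) → Q z = 0 →
      h ∈ decompositionStabilizer D ⊓ omegaGL ⇑Q → (h : Matrix ι ι F) *ᵥ x = x + (a + b + z) →
      ∃ (u : ι → F) (S : Finset (Fin t)), i ∈ S ∧ j ∈ S ∧ S.card ≤ 4 ∧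
        (∀ p, p ∉ S → hD.π p u = 0) ∧ Q u = 0 ∧ Q (hD.π i u) ≠ 0 ∧
        Q (hD.π j u) ≠ 0 ∧ Q (hD.π j u) = -Q (hD.π i u) ∧ polar Q x u = 0 ∧
        x + u ∈ G.XS G M s := by
    intro h z S' hiS hjS hS' hzS hQz hh hu
    have hQu : Q (a + b + z) = 0 := by
      rw [QuadraticMap.map_add (⇑Q), hab, hQz, polar_add_left, polar_comm Q a z, polar_comm Q b z,
        hD.polar_π z haD, hzS i hiS, hD.polar_π z hbD, hzS j hjS, polar_zero_left, polar_zero_left]
      simp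
    have hX := G.X_stab hHM hMK hs hQs hh hx
    rw [hu] at hX
    have hxu : polar Q x (a + b + z) = 0 := by
      have h1 := omega_iso hh.2 x
      rw [hu, QuadraticMap.map_add (⇑Q), hQu] at h1
      linear_combination h1
    refine ⟨a + b + z, insert i (insert j S'), Finset.mem_insert_self _ _,
      Finset.mem_insert_of_mem (Finset.mem_insert_self _ _), ?_, fun p hp => ?_, hQu, ?_, ?_, ?_,
      hxu, hX⟩
    · exact (Finset.card_insert_le _ _).trans (by have := Finset.card_insert_le j S'; omega)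
    · simp only [Finset.mem_insert, not_or] at hp
      rw [map_add, map_add, hD.π_other hp.1 haD, hD.π_other hp.2.1 hbD, hzS p hp.2.2]; simp
    · rw [map_add (hD.π i), map_add (hD.π i), hD.π_self haD, hD.π_other hij hbD, hzS i hiS, add_zero, add_zero, hQa]
      exact inv_ne_zero hQr
    · rw [map_add (hD.π j), map_add (hD.π j), hD.π_other hij.symm haD, hD.π_self hbD, hzS j hjS, zero_add, add_zero,
        hQb]
      exact inv_ne_zero hQr'0
    · rw [map_add (hD.π i), map_add (hD.π i), hD.π_self haD, hD.π_other hij hbD, hzS i hiS, add_zero,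
        add_zero, map_add (hD.π j), map_add (hD.π j), hD.π_other hij.symm haD, hD.π_self hbD, hzS j hjS,
        zero_add, add_zero, hQa, hQb, hQr', inv_neg]
  by_cases hsl : ∃ l, Q (hD.π l x) = 0
  · obtain ⟨l, hl⟩ := hsl
    have hil : i ≠ l := fun e => hi (by rw [e]; exact hl)
    have hjl : j ≠ l := fun e => hj (by rw [e]; exact hl)
    set e := hD.π l x with he
    have heD : e ∈ D l := hD.π_mem x l
    obtain ⟨w, hw, hew⟩ := exists_in_polar_one (hD.block l) heD (hfull l) 1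
    set f := w + (-(Q w)) • e with hf
    have hfD : f ∈ D l := (D l).add_mem hw ((D l).smul_mem _ heD)
    have hQf : Q f = 0 := by rw [hf, Q_comb1, hl, polar_comm Q w e, hew]; ring
    have hef : polar Q e f = 1 := by
      rw [hf, polar_add_right, polar_smul_right, hew, polar_singular_self hl]; simp
    set η := Q r with hη
    set p := e + η • f with hp
    set p' := e + (-η) • f with hp'
    have hpD : p ∈ D l := (D l).add_mem heD ((D l).smul_mem _ hfD)
    have hp'D : p' ∈ D l := (D l).add_mem heD ((D l).smul_mem _ hfD)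
    have hQp : Q p = η := by rw [hp, Q_comb1, hl, hQf, hef]; ring
    have hQp' : Q p' = -η := by rw [hp', Q_comb1, hl, hQf, hef]; ring
    have hh := mul_mem (G.pairH hr hpD hQr (by rwa [hQp]) (by rw [hQp]; exact IsSquare.mul_self _))
      (G.pairH hr' hp'D hQr'0 (by rw [hQp', ← hQr']; exact hQr'0)
        (by rw [hQp', ← hQr']; exact IsSquare.mul_self _))
    refine finish _ ((-2 : F) • e) {l} (by simpa using hil) (by simpa using hjl) (by simp)
      (fun q hq => by rw [map_smul, hD.π_other (by simpa using hq) heD, smul_zero])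
      (by rw [QuadraticMap.map_smul, hl, smul_zero]) hh ?_
    have hep : polar Q e p = η := by
      rw [hp, polar_add_right, polar_smul_right, hef, polar_singular_self hl]; simp
    have hep' : polar Q e p' = -η := by
      rw [hp', polar_add_right, polar_smul_right, hef, polar_singular_self hl]; simp
    have hpp : polar Q p' p = 0 := by
      rw [hp', polar_add_left, polar_smul_left, hep, hp, polar_add_right, polar_smul_right,
        polar_singular_self hQf, polar_comm Q f e, hef]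
      simp
    have e1 : (rr hD.qform p' : Matrix ι ι F) *ᵥ x = x - p' := by
      rw [rr_mulVec _ (by rw [hQp']; exact neg_ne_zero.2 hQr), hD.polar_π x hp'D, ← he, hep', hQp',
        div_self (neg_ne_zero.2 hQr), one_smul]
    rw [gl_mulVec_mul, gl_mulVec_mul, gl_mulVec_mul, e1, rr_mulVec hD.qform (x := r') hQr'0,
      polar_sub_left, hxr', hD.orth hjl.symm hp'D hr', sub_zero,
      rr_mulVec hD.qform (x := p) (by rw [hQp]; exact hQr), hQp, polar_sub_left, polar_sub_left,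
      hD.polar_π x hpD, ← he, hep, hpp, polar_smul_left, hD.orth hjl hr' hpD, smul_zero, sub_zero,
      sub_zero, div_self hQr, one_smul, rr_mulVec hD.qform (x := r) hQr, polar_sub_left,
      polar_sub_left, polar_sub_left, hxr, hD.orth hil.symm hp'D hr, polar_smul_left,
      hD.orth hij.symm hr' hr, smul_zero, hD.orth hil.symm hpD hr, sub_zero, sub_zero, sub_zero,
      ha, hb, hp, hp', one_div, one_div]
    module
  push Not at hsl
  obtain ⟨l, hl⟩ := G.exists_avoid {i, j} (by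
    have := Finset.card_le_two (a := i) (b := j); omega)
  obtain ⟨o, ho⟩ := G.exists_avoid {i, j, l} (by
    have := Finset.card_le_three (a := i) (b := j) (c := l); omega)
  simp only [Finset.mem_insert, Finset.mem_singleton, not_or] at hl ho
  obtain ⟨r₂, hr₂, r₂', hr₂', hQr₂, hQr₂', hxr₂, hxr₂'⟩ :=
    G.exists_pair_r (hD.π_mem x l) (hD.π_mem x o) (hsl l) (hsl o)
  rw [← hD.polar_π x hr₂] at hxr₂
  rw [← hD.polar_π x hr₂'] at hxr₂'
  have hQr₂'0 : Q r₂' ≠ 0 := by rw [hQr₂']; exact neg_ne_zero.2 hQr₂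
  set z := (-(Q r₂)⁻¹) • r₂ + (-(Q r₂')⁻¹) • r₂' with hz
  have hzS : ∀ p, p ∉ ({l, o} : Finset (Fin t)) → hD.π p z = 0 := fun p hp => by
    simp only [Finset.mem_insert, Finset.mem_singleton, not_or] at hp
    rw [hz, map_add, map_smul, map_smul, hD.π_other hp.1 hr₂, hD.π_other hp.2 hr₂']; simp
  have hQz : Q z = 0 := by
    rw [hz, Q_pair, hD.orth (Ne.symm ho.2.2) hr₂ hr₂', hQr₂']
    field_simp
    ring
  have four : ∀ (a₁ a₂ a₃ a₄ : ι → F), Q a₁ ≠ 0 → Q a₂ ≠ 0 → Q a₃ ≠ 0 → Q a₄ ≠ 0 →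
      polar Q a₂ a₁ = 0 → polar Q a₃ a₁ = 0 → polar Q a₄ a₁ = 0 → polar Q a₃ a₂ = 0 →
      polar Q a₄ a₂ = 0 → polar Q a₄ a₃ = 0 →
      ((rr hD.qform a₁ * rr hD.qform a₂ * (rr hD.qform a₃ * rr hD.qform a₄) : GL ι F) :
          Matrix ι ι F) *ᵥ x =
        x + ((-(polar Q x a₁ / Q a₁)) • a₁ + (-(polar Q x a₂ / Q a₂)) • a₂
          + (-(polar Q x a₃ / Q a₃)) • a₃ + (-(polar Q x a₄ / Q a₄)) • a₄) := by
    intro a₁ a₂ a₃ a₄ h1 h2 h3 h4 e21 e31 e41 e32 e42 e43
    rw [gl_mulVec_mul, gl_mulVec_mul, gl_mulVec_mul, rr_mulVec _ h4, rr_mulVec _ h3, rr_mulVec _ h2,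
      rr_mulVec _ h1]
    simp only [polar_sub_left, polar_smul_left, e21, e31, e41, e32, e42, e43, smul_zero, sub_zero]
    module
  have o12 : polar Q r' r = 0 := hD.orth hij.symm hr' hr
  have o13 : polar Q r₂ r = 0 := hD.orth hl.1 hr₂ hr
  have o14 : polar Q r₂' r = 0 := hD.orth ho.1 hr₂' hr
  have o23 : polar Q r₂ r' = 0 := hD.orth hl.2 hr₂ hr'
  have o24 : polar Q r₂' r' = 0 := hD.orth ho.2.1 hr₂' hr'
  have o34 : polar Q r₂' r₂ = 0 := hD.orth ho.2.2 hr₂' hr₂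
  have o21 : polar Q r r' = 0 := by rw [polar_comm]; exact o12
  have o31 : polar Q r r₂ = 0 := by rw [polar_comm]; exact o13
  have o32 : polar Q r' r₂ = 0 := by rw [polar_comm]; exact o23
  have o43 : polar Q r₂ r₂' = 0 := by rw [polar_comm]; exact o34
  have o41 : polar Q r r₂' = 0 := by rw [polar_comm]; exact o14
  have o42 : polar Q r' r₂' = 0 := by rw [polar_comm]; exact o24
  by_cases hm1 : IsSquare (-1 : F)
  · have hneg : ∀ c : F, IsSquare (c * -c) := fun c => by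
      obtain ⟨e, he⟩ := hm1
      exact ⟨e * c, by linear_combination (c * c) * he⟩
    refine finish _ z {l, o} (by simp [Ne.symm hl.1, Ne.symm ho.1]) (by simp [Ne.symm hl.2, Ne.symm ho.2.1])
      Finset.card_le_two hzS hQz (mul_mem (G.pairH hr hr' hQr hQr'0 (by rw [hQr']; exact hneg _))
        (G.pairH hr₂ hr₂' hQr₂ hQr₂'0 (by rw [hQr₂']; exact hneg _))) ?_
    rw [four r r' r₂ r₂' hQr hQr'0 hQr₂ hQr₂'0 o12 o13 o14 o23 o24 o34, hxr, hxr', hxr₂, hxr₂', ha,
      hb, hz]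
    simp only [one_div]
    abel
  by_cases hsq : IsSquare (Q r * Q r₂)
  · refine finish _ z {l, o} (by simp [Ne.symm hl.1, Ne.symm ho.1]) (by simp [Ne.symm hl.2, Ne.symm ho.2.1])
      Finset.card_le_two hzS hQz (mul_mem (G.pairH hr hr₂ hQr hQr₂ hsq)
        (G.pairH hr' hr₂' hQr'0 hQr₂'0 (by rw [hQr', hQr₂', neg_mul_neg]; exact hsq))) ?_
    rw [four r r₂ r' r₂' hQr hQr₂ hQr'0 hQr₂'0 o13 o12 o14 o32 o34 o24, hxr, hxr', hxr₂, hxr₂', ha,
      hb, hz]
    simp only [one_div]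
    abel
  · have hsq' : IsSquare (Q r * -Q r₂) := by
      have := OrthSpinor.isSquare_mul_of_not hsq hm1
      rwa [mul_assoc, mul_neg_one] at this
    refine finish _ z {l, o} (by simp [Ne.symm hl.1, Ne.symm ho.1]) (by simp [Ne.symm hl.2, Ne.symm ho.2.1])
      Finset.card_le_two hzS hQz (mul_mem (G.pairH hr hr₂' hQr hQr₂'0 (by rw [hQr₂']; exact hsq'))
        (G.pairH hr' hr₂ hQr'0 hQr₂ (by rw [hQr', neg_mul, ← mul_neg]; exact hsq'))) ?_
    rw [four r r₂' r' r₂ hQr hQr₂'0 hQr'0 hQr₂ o14 o12 o13 o42 o43 o23, hxr, hxr', hxr₂, hxr₂', ha,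
      hb, hz]
    simp only [one_div]
    abel

/-- Two non-singular components. -/
theorem exists_two_nonsing {x : ι → F} (hx : x ∈ G.XS G M s) (hQx : Q x = Q s)
    (hnb : ¬ InBlock D x) : ∃ x' ∈ G.XS G M s, ∃ i j, i ≠ j ∧ Q x' = Q s ∧
      Q (G.toDec.π i x') ≠ 0 ∧ Q (G.toDec.π j x') ≠ 0 := by
  classical
  have hD := G.toDec
  obtain ⟨i, hi⟩ : ∃ i, Q (hD.π i x) ≠ 0 := by
    by_contra hc
    push Not at hc
    exact hQs (by rw [← hQx, hD.Q_sum x]; exact Finset.sum_eq_zero fun l _ => hc l)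
  by_cases h2 : ∃ j, i ≠ j ∧ Q (hD.π j x) ≠ 0
  · obtain ⟨j, hij, hj⟩ := h2
    exact ⟨x, hx, i, j, hij, hQx, hi, hj⟩
  push Not at h2
  set c := Q s with hc
  obtain ⟨j, hij, hj0⟩ : ∃ j, i ≠ j ∧ hD.π j x ≠ 0 := by
    obtain ⟨p, q, hpq, hp, hq⟩ := hD.t_pos x hnb
    by_cases e : i = p
    · exact ⟨q, e ▸ hpq, hq⟩
    · exact ⟨p, e, hp⟩
  have hxi : Q (hD.π i x) = c := by
    rw [← hQx, hD.Q_sum x, Finset.sum_eq_single i (fun l _ hl => h2 l (Ne.symm hl))
      (fun hn => absurd (Finset.mem_univ i) hn)]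
  set e := hD.π j x with he
  have hQe : Q e = 0 := h2 j hij
  have h7 := (G.big j).2 ⟨e, hD.π_mem x j, hj0, hQe⟩
  obtain ⟨β, hβ0, hβ1, hβ2⟩ := exists_ne_three (show 5 ≤ Fintype.card F by omega) c (-c)
  obtain ⟨w, hw, hew⟩ := exists_in_polar_one (hD.block j) (hD.π_mem x j) hj0 β
  set y := w + ((c - Q w) / β) • e with hy
  have hyD : y ∈ D j := (D j).add_mem hw ((D j).smul_mem _ (hD.π_mem x j))
  have hQy : Q y = c := by rw [hy, Q_comb1, hQe, polar_comm Q w e, hew]; field_simp; ring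
  have hey : polar Q e y = β := by
    rw [hy, polar_add_right, polar_smul_right, hew, polar_singular_self hQe, smul_zero, add_zero]
  have hX := G.X_rr hx (G.X_block hHM hs hQs hyD hQy)
  have hyx : polar Q y x = β := by rw [polar_comm, hD.polar_π x hyD, ← he, hey]
  rw [rr_mulVec _ hx.1, hyx, hQx, sub_eq_add_neg, ← neg_smul] at hX
  refine ⟨_, hX, i, j, hij, ?_, ?_, ?_⟩
  · rw [Q_comb1, hQy, hQx, hyx]; field_simp; ring
  · rw [map_add, map_smul, hD.π_other hij hyD, zero_add, QuadraticMap.map_smul, hxi, smul_eq_mul]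
    exact mul_ne_zero (mul_ne_zero (neg_ne_zero.2 (div_ne_zero hβ0 hQs)) (neg_ne_zero.2 (div_ne_zero hβ0 hQs))) hQs
  · rw [map_add, map_smul, hD.π_self hyD, ← he, Q_comb1, hQy, hQe, polar_comm Q y e, hey]
    intro h
    have h1 : (c - β) * (c + β) = 0 := by linear_combination c * h + β * div_mul_cancel₀ β hQs
    rcases mul_eq_zero.1 h1 with h' | h'
    · exact hβ1 (by linear_combination -h')
    · exact hβ2 (by linear_combination h')

/-- A free member, two non-singular components and a third one. -/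
theorem exists_nice (P : Frame Q) {x : ι → F} (hx : x ∈ G.XS G M s) (hQx : Q x = Q s)
    (hnb : ¬ InBlock D x) : ∃ x' ∈ G.XS G M s, ∃ i j m, i ≠ j ∧ m ≠ i ∧ m ≠ j ∧ Q x' = Q s ∧
      Q (G.toDec.π i x') ≠ 0 ∧ Q (G.toDec.π j x') ≠ 0 ∧ G.toDec.π m x' ≠ 0 ∧
      G.Room x' := by
  classical
  have hD := G.toDec
  obtain ⟨x, hx, i, j, hij, hQx, hi, hj⟩ := G.exists_two_nonsing hHM hMK hs hQs hx hQx hnb
  by_cases h3 : ∃ m, m ≠ i ∧ m ≠ j ∧ hD.π m x ≠ 0
  · obtain ⟨m, hmi, hmj, hm⟩ := h3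
    by_cases h0 : ∃ l, hD.π l x = 0
    · obtain ⟨l, hl⟩ := h0
      exact ⟨x, hx, i, j, m, hij, hmi, hmj, hQx, hi, hj, hm, Or.inl ⟨l, hl⟩⟩
    push Not at h0
    by_cases hm1 : IsSquare (-1 : F)
    · exact ⟨x, hx, i, j, m, hij, hmi, hmj, hQx, hi, hj, hm, Or.inr (Or.inl hm1)⟩
    obtain ⟨u, S, hiS, hjS, hS, huS, hQu, hui, huj, huij, hxu, hxX⟩ :=
      G.root_full hHM hMK hs hQs hx hQx hij hi hj h0
    obtain ⟨m, hm⟩ := G.exists_avoid S (by omega)
    obtain ⟨-, w, hw, hne⟩ := (G.plane m).nd _ (hD.π_mem x m) (h0 m)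
    obtain ⟨y, hy, hQy, hxy, -⟩ := (G.plane m).avoid (G.big m) hQs (polarBilin Q (hD.π m x))
      (polarBilin Q (hD.π m x)) ⟨w, hw, hne⟩ ⟨w, hw, hne⟩ 0 0 fun _ => ⟨rfl, rfl⟩
    have hy0 : y ≠ 0 := fun e => hQs (by rw [← hQy, e, map_zero Q])
    have hθ : polar Q y x ≠ 0 := by rw [polar_comm, hD.polar_π x hy]; exact hxy
    have hyu : polar Q y u = 0 := by rw [polar_comm, hD.polar_π u hy, huS m hm, polar_zero_left]
    have hXv := G.X_rr hxX (G.X_rr hx (G.X_block hHM hs hQs hy hQy))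
    have hQxu : Q (x + u) = Q s := by rw [QuadraticMap.map_add (⇑Q), hQu, hxu, hQx]; ring
    set θ := polar Q y x / Q s with hθdef
    have hθ0 : θ ≠ 0 := div_ne_zero hθ hQs
    have e : (rr hD.qform (x + u) : Matrix ι ι F) *ᵥ ((rr hD.qform x : Matrix ι ι F) *ᵥ y) = y + θ • u := by
      rw [rr_mulVec _ hxX.1, rr_mulVec _ hx.1, hQxu, hQx, polar_sub_left, polar_smul_left,
        polar_add_right, polar_add_right, hyu, polar_self', hQx, hxu, ← hθdef]
      simp only [smul_eq_mul, add_zero]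
      rw [show (polar Q y x - θ * (2 * Q s)) / Q s = -θ by rw [hθdef]; field_simp; ring]
      module
    rw [e] at hXv
    have hQv : Q (y + θ • u) = Q s := by
      rw [Q_comb1, hQy, hQu, hyu]; ring
    have him : i ≠ m := fun e => hm (e ▸ hiS)
    have hjm : j ≠ m := fun e => hm (e ▸ hjS)
    have hπi : hD.π i (y + θ • u) = θ • hD.π i u := by
      rw [map_add, map_smul, hD.π_other him hy, zero_add]
    have hπj : hD.π j (y + θ • u) = θ • hD.π j u := by
      rw [map_add, map_smul, hD.π_other hjm hy, zero_add]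
    refine ⟨_, hXv, i, j, m, hij, Ne.symm him, Ne.symm hjm, hQv, ?_, ?_, ?_, Or.inr (Or.inr ?_)⟩
    · rw [hπi, QuadraticMap.map_smul]; exact mul_ne_zero (mul_self_ne_zero.2 hθ0) hui
    · rw [hπj, QuadraticMap.map_smul]; exact mul_ne_zero (mul_self_ne_zero.2 hθ0) huj
    · rw [map_add, map_smul, hD.π_self hy, huS m hm, smul_zero, add_zero]; exact hy0
    -- perpendiculars of opposite values
    obtain ⟨φ, hφa, hφ⟩ := G.exists_similitude_between i j (hD.π_mem u i) hui (hD.π_mem u j)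
    have hκ : Q (hD.π j u) / Q (hD.π i u) = -1 := by rw [huij, neg_div, div_self hui]
    obtain ⟨z, hz, hz0, haz⟩ := (G.plane i).exists_perp (hD.π_mem u i)
    have hQz : Q z ≠ 0 := (G.plane i).nonsing_perp (hD.π_mem u i) hui hz hz0 haz
    have hQφz : Q (φ z) = -Q z := by rw [(hφ z hz).2, hκ, neg_one_mul]
    refine ⟨i, j, z, φ z, hz, (hφ z hz).1, hQz, by rw [hQφz]; exact neg_ne_zero.2 hQz, ?_, ?_, ?_⟩
    · rw [hD.polar_π _ hz, hπi, polar_smul_left, haz, smul_zero]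
    · rw [hD.polar_π _ (hφ z hz).1, hπj, polar_smul_left, ← hφa,
        polar_similitude (S := D i) (fun v hv => (hφ v hv).2) (hD.π_mem u i) hz, haz, mul_zero,
        smul_zero]
    · rw [hQφz]
      rintro ⟨c, hc⟩
      exact hm1 ⟨c / Q z, by field_simp; linear_combination hc⟩
  -- two components only
  push Not at h3
  set c := Q s with hc
  set d := hD.π i x with hd
  set e := hD.π j x with he
  have hdD : d ∈ D i := hD.π_mem x i
  have heD : e ∈ D j := hD.π_mem x j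
  have hxde : x = d + e := by
    conv_lhs => rw [← hD.π_sum x]
    exact Fintype.sum_eq_add i j hij fun m hm => h3 m hm.1 hm.2
  obtain ⟨z, hz, hz0, hdz⟩ := (G.plane i).exists_perp hdD
  have hd0 : d ≠ 0 := fun h => hi (by rw [h, map_zero Q])
  obtain ⟨-, w, hw, hzw⟩ := (G.plane i).nd z hz hz0
  obtain ⟨-, w', hw', hdw⟩ := (G.plane i).nd d hdD hd0
  obtain ⟨d', hd', hQd', hzd, hdd⟩ := (G.plane i).avoid (G.big i) hi (polarBilin Q z) (polarBilin Q d)
    ⟨w, hw, hzw⟩ ⟨w', hw', hdw⟩ 0 0 fun _ => ⟨rfl, rfl⟩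
  have hdd' : ∀ a : F, d' ≠ a • d := fun a h => hzd (by
    change polar Q z d' = 0
    rw [h, polar_smul_right, polar_comm Q z d, hdz, smul_zero])
  obtain ⟨hne, hmap⟩ := G.reflect_to hdD hd' hi hQd' (fun h => hdd' 1 (by rw [one_smul, h]))
  obtain ⟨l, hl⟩ := G.exists_avoid {i, j} (by have := Finset.card_le_two (a := i) (b := j); omega)
  obtain ⟨o, ho⟩ := G.exists_avoid {i, j, l} (by
    have := Finset.card_le_three (a := i) (b := j) (c := l); omega)
  simp only [Finset.mem_insert, Finset.mem_singleton, not_or] at hl ho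
  obtain ⟨p, hp, hQp, -⟩ := (G.plane o).exists_value hne
  have hh₁ := G.pairH ((D i).sub_mem hdD hd') hp hne (by rwa [hQp]) (by rw [hQp]; exact IsSquare.mul_self _)
  obtain ⟨h₂, hh₂, hjl, hfix⟩ := G.exists_exchange_mem (Ne.symm hl.2)
  have hX := G.X_stab hHM hMK hs hQs hh₂ (G.X_stab hHM hMK hs hQs hh₁ hx)
  have e1 : ((rr hD.qform (d - d') * rr hD.qform p : GL ι F) : Matrix ι ι F) *ᵥ x = d' + e := by
    rw [gl_mulVec_mul, hxde, rr_fix hD.qform (x := p) (by
      rw [polar_add_left, hD.orth (Ne.symm ho.1) hdD hp, hD.orth (Ne.symm ho.2.1) heD hp, add_zero]),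
      mulVec_add, hmap, rr_fix _ (hD.orth hij.symm heD ((D i).sub_mem hdD hd'))]
  rw [e1, mulVec_add, hfix i hij (Ne.symm hl.1) d' hd'] at hX
  set f := (h₂ : Matrix ι ι F) *ᵥ e with hf
  have hfD : f ∈ D l := hjl e heD
  have hQf : Q f = Q e := omega_iso hh₂.2 e
  have hz' := G.X_rr hx hX
  have hσ : polar Q (d' + f) x = polar Q d d' := by
    rw [hxde, polar_add_left, polar_add_right, polar_add_right, polar_comm Q d' d,
      hD.orth hij hd' heD, hD.orth hl.1 hfD hdD, hD.orth hl.2 hfD heD]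
    simp
  rw [rr_mulVec _ hx.1, hσ, hQx, hxde] at hz'
  have hσ0 : polar Q d d' / c ≠ 0 := div_ne_zero hdd hQs
  set σ := polar Q d d' / c
  have key : d' + f - σ • (d + e) = (d' - σ • d) + (-σ) • e + f := by module
  rw [key] at hz'
  refine ⟨_, hz', j, l, i, Ne.symm hl.2, hij, Ne.symm hl.1, ?_, ?_, ?_, ?_, Or.inl ⟨o, ?_⟩⟩
  · have h1 := Om.iso_Q hD.qform (OmD.rr_iso hD.qform x) (d' + f)
    rw [rr_mulVec _ hx.1, hσ, hQx, hxde, key] at h1
    rw [h1, QuadraticMap.map_add (⇑Q), hD.orth (Ne.symm hl.1) hd' hfD, hQd', hQf]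
    rw [← hQx, hxde, QuadraticMap.map_add (⇑Q), hD.orth hij hdD heD]
  · rw [map_add (hD.π j), map_add (hD.π j), hD.π_other hij.symm ((D i).sub_mem hd' ((D i).smul_mem _ hdD)),
      hD.π_self ((D j).smul_mem _ heD), hD.π_other (Ne.symm hl.2) hfD, zero_add, add_zero,
      QuadraticMap.map_smul, smul_eq_mul]
    exact mul_ne_zero (mul_ne_zero (neg_ne_zero.2 hσ0) (neg_ne_zero.2 hσ0)) hj
  · rw [map_add (hD.π l), map_add (hD.π l), hD.π_other hl.1 ((D i).sub_mem hd' ((D i).smul_mem _ hdD)),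
      hD.π_other hl.2 ((D j).smul_mem _ heD), hD.π_self hfD, zero_add, zero_add, hQf]
    exact hj
  · rw [map_add, map_add, hD.π_self ((D i).sub_mem hd' ((D i).smul_mem _ hdD)),
      hD.π_other hij ((D j).smul_mem _ heD), hD.π_other (Ne.symm hl.1) hfD, add_zero, add_zero,
      sub_ne_zero]
    exact hdd' σ
  · rw [map_add, map_add, hD.π_other ho.1 ((D i).sub_mem hd' ((D i).smul_mem _ hdD)),
      hD.π_other ho.2.1 ((D j).smul_mem _ heD), hD.π_other ho.2.2 hfD, add_zero, add_zero]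

omit hs hQs in
theorem omega_le (P : Frame Q) {g : GL ι F} (hgM : g ∈ M) (hg : g ∉ decompositionStabilizer D) :
    omegaGL ⇑Q ≤ M := by
  classical
  have hD := G.toDec
  obtain ⟨l₀, s, x, hs, hQs, hx, hQx, hnb⟩ := G.exists_mixed hHM hMK hgM hg
  obtain ⟨x, hx, i, j, m, hij, hmi, hmj, hQx, hi, hj, hxm, hl⟩ :=
    G.exists_nice hHM hMK hs hQs P hx hQx hnb
  obtain ⟨a, ha, b, hb, hQa, hQb, huw, hk⟩ := G.root_zero hHM hMK hs hQs hx hQx hij hi hj hl
  set u := a + b with hu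
  have hQb0 : Q b ≠ 0 := by rw [hQb]; exact neg_ne_zero.2 hQa
  have ha0 : a ≠ 0 := fun e => hQa (by rw [e, map_zero Q])
  have hb0 : b ≠ 0 := fun e => hQb0 (by rw [e, map_zero Q])
  have hQu : Q u = 0 := by rw [hu, QuadraticMap.map_add (⇑Q), hD.orth hij ha hb, hQb]; ring
  have huS : ∀ p, p ∉ ({i, j} : Finset (Fin t)) → hD.π p u = 0 := fun p hp => by
    simp only [Finset.mem_insert, Finset.mem_singleton, not_or] at hp
    rw [hu, map_add, hD.π_other hp.1 ha, hD.π_other hp.2 hb, add_zero]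
  have hcard : ({i, j} : Finset (Fin t)).card ≤ 3 := (Finset.card_le_two).trans (by omega)
  have hDm := G.spread hHM hMK P hQu hcard huS (m := m) (by simp [hmi, hmj])
    (by rw [map_smul]; exact smul_ne_zero (inv_ne_zero hQs) hxm) huw hk
  -- every further member
  have hout : ∀ p, p ≠ i → p ≠ j → ∀ v ∈ D p, ∃ k ∈ M, IsSg Q k u v := by
    intro p hpi hpj
    by_cases e : p = m
    · subst e; exact hDm
    obtain ⟨n, hn, hnm, hnfix⟩ := G.exists_exchange_mem (Ne.symm e)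
    obtain ⟨r, hr, -, hr0⟩ := (G.plane m).exists_value (one_ne_zero (α := F))
    obtain ⟨k, hkM, hkx⟩ := hDm r hr
    have h1 := IsSg.conj hn.2 hkx
    have hnu : (n : Matrix ι ι F) *ᵥ u = u := by
      rw [hu, mulVec_add, hnfix i (Ne.symm hmi) (Ne.symm hpi) a ha,
        hnfix j (Ne.symm hmj) (Ne.symm hpj) b hb]
    rw [hnu] at h1
    refine G.spread hHM hMK P hQu hcard huS (m := p) (by simp [hpi, hpj]) ?_ ?_
      ⟨_, M.mul_mem (M.mul_mem (hHM hn) hkM) (M.inv_mem (hHM hn)), h1⟩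
    · rw [hD.π_self (hnm r hr)]; exact gl_mulVec_ne_zero n hr0
    · rw [hD.polar_π u (hnm r hr), huS p (by simp [hpi, hpj]), polar_zero_left]
  let Wt : (ι → F) → Prop := fun w => polar Q u w = 0 ∧ ∃ h ∈ M, IsSg Q h u w
  have hadd : ∀ {a b}, Wt a → Wt b → Wt (a + b) := by
    rintro a b ⟨ha, h, hh, hhx⟩ ⟨hb, h', hh', hhx'⟩
    exact ⟨by rw [polar_add_right, ha, hb, add_zero], h * h', M.mul_mem hh hh',
      IsSg.mul hQu ha hb hhx hhx'⟩
  have hzero : Wt 0 := ⟨polar_zero_right _ _, 1, M.one_mem, fun x => by simp⟩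
  have hblock : ∀ p, p ≠ i → p ≠ j → ∀ v ∈ D p, Wt v := fun p hpi hpj v hv =>
    ⟨by rw [hD.polar_π u hv, huS p (by simp [hpi, hpj]), polar_zero_left], hout p hpi hpj v hv⟩
  have hself : ∀ c : F, Wt (c • u) := fun c => by
    refine ⟨by rw [polar_smul_right, polar_singular_self hQu, smul_zero], 1, M.one_mem, fun v => ?_⟩
    rw [Units.val_one, one_mulVec, QuadraticMap.map_smul, hQu, polar_smul_right]
    simp only [smul_eq_mul]
    module
  -- companions of `u`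
  obtain ⟨φ, hφa, hφ⟩ := G.exists_similitude_between i j ha hQa hb
  have hκ : Q b / Q a = -1 := by rw [hQb, neg_div, div_self hQa]
  obtain ⟨z, hz, hz0, haz⟩ := (G.plane i).exists_perp ha
  obtain ⟨-, zw, hzw, hzw'⟩ := (G.plane i).nd z hz hz0
  obtain ⟨-, aw, haw, haw'⟩ := (G.plane i).nd a ha ha0
  obtain ⟨p, hp, hQp, hzp, hap⟩ := (G.plane i).avoid (G.big i) (one_ne_zero (α := F)) (polarBilin Q z)
    (polarBilin Q a) ⟨zw, hzw, hzw'⟩ ⟨aw, haw, haw'⟩ 0 0 fun _ => ⟨rfl, rfl⟩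
  have hQp0 : Q p ≠ 0 := by rw [hQp]; exact one_ne_zero
  set a' := (rr hD.qform p : Matrix ι ι F) *ᵥ a with ha'
  have ha'D : a' ∈ D i := hD.rr_fixes hp ha
  have ha'eq : a' = a - (polar Q a p / Q p) • p := rr_mulVec _ hQp0 a
  have hliA : LinearIndependent F ![a, a'] := (LinearIndependent.pair_iff' ha0).2 fun c hc => hzp (by
    have h1 : (polar Q a p / Q p) • p = (1 - c) • a := by rw [sub_smul, one_smul, hc, ha'eq]; abel
    have h2 := congrArg (fun v => polar Q z v) h1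
    simp only [polar_smul_right, polar_comm Q z a, haz, smul_zero, smul_eq_mul, mul_zero] at h2
    exact (mul_eq_zero.1 h2).resolve_left (div_ne_zero hap hQp0))
  obtain ⟨o, ho⟩ := G.exists_avoid {i, j, m} (by
    have := Finset.card_le_three (a := i) (b := j) (c := m); omega)
  simp only [Finset.mem_insert, Finset.mem_singleton, not_or] at ho
  have companion : ∀ φ : (ι → F) →ₗ[F] (ι → F), φ a = b →
      (∀ v ∈ D i, φ v ∈ D j ∧ Q (φ v) = -Q v) → ∀ c : F, Wt (c • (a' + φ a')) := by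
    intro φ hφa hφ c
    obtain ⟨hφp, hQφp⟩ := hφ p hp
    have hQφp0 : Q (φ p) ≠ 0 := by rw [hQφp]; exact neg_ne_zero.2 hQp0
    obtain ⟨o₁, ho₁, hQo₁, -⟩ := (G.plane o).exists_value hQp0
    obtain ⟨o₂, ho₂, hQo₂, -⟩ := (G.plane o).exists_value hQφp0
    have hh := mul_mem (G.pairH hp ho₁ hQp0 (by rwa [hQo₁]) (by rw [hQo₁]; exact IsSquare.mul_self _))
      (G.pairH hφp ho₂ hQφp0 (by rwa [hQo₂]) (by rw [hQo₂]; exact IsSquare.mul_self _))
    set n := rr hD.qform p * rr hD.qform o₁ * (rr hD.qform (φ p) * rr hD.qform o₂) with hn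
    have hb' : (rr hD.qform (φ p) : Matrix ι ι F) *ᵥ b = φ a' := by
      rw [rr_mulVec _ hQφp0, hQφp, ha'eq, map_sub, map_smul, hφa,
        show polar Q b (φ p) = (-1 : F) * polar Q a p from hφa ▸
          polar_similitude (S := D i) (fun v hv => by rw [(hφ v hv).2, neg_one_mul]) ha hp,
        neg_one_mul, neg_div_neg_eq]
    have hφa'D : φ a' ∈ D j := (hφ a' ha'D).1
    have hnu : (n : Matrix ι ι F) *ᵥ u = a' + φ a' := by
      rw [hn, gl_mulVec_mul, gl_mulVec_mul, gl_mulVec_mul, hu, mulVec_add (rr hD.qform o₂ : Matrix ι ι F),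
        rr_fix _ (hD.orth (Ne.symm ho.1) ha ho₂), rr_fix _ (hD.orth (Ne.symm ho.2.1) hb ho₂), mulVec_add,
        rr_fix _ (hD.orth hij ha hφp), hb', mulVec_add (rr hD.qform o₁ : Matrix ι ι F),
        rr_fix _ (hD.orth (Ne.symm ho.1) ha ho₁), rr_fix _ (hD.orth (Ne.symm ho.2.1) hφa'D ho₁),
        mulVec_add, ← ha', rr_fix _ (hD.orth hij.symm hφa'D hp)]
    have hnfix : ∀ v ∈ D m, (n : Matrix ι ι F) *ᵥ v = v := fun v hv => by
      rw [hn, gl_mulVec_mul, gl_mulVec_mul, gl_mulVec_mul, rr_fix _ (hD.orth (Ne.symm ho.2.2) hv ho₂),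
        rr_fix _ (hD.orth hmj hv hφp), rr_fix _ (hD.orth (Ne.symm ho.2.2) hv ho₁),
        rr_fix _ (hD.orth hmi hv hp)]
    set u₂ := a' + φ a' with hu₂
    obtain ⟨y, hy, hQy, hy0⟩ := (G.plane m).exists_value (one_ne_zero (α := F))
    obtain ⟨k, hkM, hkx⟩ := hDm y hy
    have hk₂ := IsSg.conj hh.2 hkx
    rw [hnu, hnfix y hy] at hk₂
    set k₂ := n * k * n⁻¹
    have hk₂M : k₂ ∈ M := M.mul_mem (M.mul_mem (hHM hh) hkM) (M.inv_mem (hHM hh))
    obtain ⟨w₀, hw₀, hyw⟩ := exists_in_polar_one (hD.block m) hy hy0 c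
    have hu2m : ∀ v ∈ D m, polar Q u₂ v = 0 := fun v hv => by
      rw [hu₂, polar_add_left, hD.orth (Ne.symm hmi) ha'D hv, hD.orth (Ne.symm hmj) hφa'D hv, add_zero]
    have huu₂ : polar Q u u₂ = 0 := by
      rw [hu, hu₂, polar_add_left, polar_add_right, polar_add_right, hD.orth hij ha hφa'D,
        hD.orth hij.symm hb ha'D,
        show polar Q b (φ a') = (-1 : F) * polar Q a a' from hφa ▸
          polar_similitude (S := D i) (fun v hv => by rw [(hφ v hv).2, neg_one_mul]) ha ha'D]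
      ring
    have hku : (k₂ : Matrix ι ι F) *ᵥ u = u := by
      rw [hk₂ u, huu₂, show polar Q u y = 0 by
        rw [hD.polar_π u hy, huS m (by simp [hmi, hmj]), polar_zero_left]]
      simp
    obtain ⟨hw₀u, h₀, hh₀, hh₀x⟩ := hblock m hmi hmj w₀ hw₀
    have h1 := IsSg.conj (hMK hk₂M) hh₀x
    rw [hku] at h1
    have hW1 : Wt ((k₂ : Matrix ι ι F) *ᵥ w₀) :=
      ⟨by rw [← hku, omega_polar (hMK hk₂M)]; exact hw₀u, _,
        M.mul_mem (M.mul_mem hk₂M hh₀) (M.inv_mem hk₂M), h1⟩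
    rw [hk₂ w₀, show polar Q w₀ u₂ = 0 by rw [polar_comm]; exact hu2m w₀ hw₀, polar_comm Q w₀ y, hyw]
      at hW1
    simp only [zero_smul, add_zero, mul_zero, sub_zero] at hW1
    have hW2 := hadd (hblock m hmi hmj _ ((D m).smul_mem (-1) hw₀)) hW1
    have hW3 : Wt ((-c) • u₂) := by
      convert hW2 using 1; module
    -- the opposite element
    obtain ⟨hp3, h₃, hh₃, hh₃x⟩ := hW3
    have hneg : polar Q u (c • u₂) = 0 := by rw [polar_smul_right, huu₂, smul_zero]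
    obtain ⟨h₄, -, hh₄x⟩ := exists_sg hD.nd P hQu hneg
    have e := IsSg.mul hQu hp3 hneg hh₃x hh₄x
    have e' : h₃ * h₄ = 1 := gl_ext_mulVec fun v => by
      rw [e v, Units.val_one, one_mulVec, show -c • u₂ + c • u₂ = 0 by module]; simp
    exact ⟨hneg, h₄, by rw [eq_inv_of_mul_eq_one_right e']; exact M.inv_mem hh₃, hh₄x⟩
  set φ' : (ι → F) →ₗ[F] (ι → F) :=
    (-(Matrix.mulVecLin (rr hD.qform b : Matrix ι ι F))).comp φ with hφ'
  have hφ'v : ∀ v, φ' v = -((rr hD.qform b : Matrix ι ι F) *ᵥ φ v) := fun v => rfl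
  have hφκ : ∀ v ∈ D i, φ v ∈ D j ∧ Q (φ v) = -Q v := fun v hv =>
    ⟨(hφ v hv).1, by rw [(hφ v hv).2, hκ, neg_one_mul]⟩
  have c1 := companion φ hφa hφκ
  have c2 := companion φ' (by
      rw [hφ'v, hφa, rr_mulVec _ hQb0, polar_self', mul_div_assoc, div_self hQb0, mul_one]; module)
    fun v hv => ⟨by rw [hφ'v]; exact (D j).neg_mem (hD.rr_fixes hb (hφκ v hv).1),
      by rw [hφ'v, QuadraticMap.map_neg, Om.iso_Q hD.qform (OmD.rr_iso _ b), (hφκ v hv).2]⟩
  set b' := φ a' with hb'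
  have hb'D : b' ∈ D j := (hφκ a' ha'D).1
  set x₀ := b' - φ' a' with hx₀
  have hx₀eq : x₀ = (2 : F) • b' - (polar Q b' b / Q b) • b := by
    rw [hx₀, hφ'v, rr_mulVec _ hQb0, ← hb']; module
  have hx₀D : x₀ ∈ D j := by
    rw [hx₀eq]; exact (D j).sub_mem ((D j).smul_mem _ hb'D) ((D j).smul_mem _ hb)
  have hbb' : polar Q b b' = -polar Q a a' := by
    rw [← hφa, hb', polar_similitude (S := D i) (fun v hv => (hφ v hv).2) ha ha'D, hκ, neg_one_mul]
  have hliB : LinearIndependent F ![b, b'] := by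
    refine LinearIndependent.pair_iff.2 fun c₁ c₂ hc => LinearIndependent.pair_iff.1 hliA c₁ c₂ ?_
    refine eq_zero_of_orth (hD.block i) ((D i).add_mem ((D i).smul_mem _ ha) ((D i).smul_mem _ ha'D))
      fun y hy => ?_
    have h1 := polar_similitude (S := D i) (fun v hv => (hφ v hv).2)
      ((D i).add_mem ((D i).smul_mem c₁ ha) ((D i).smul_mem c₂ ha'D)) hy
    rw [map_add, map_smul, map_smul, hφa, ← hb', hc, polar_zero_left, hκ, neg_one_mul] at h1
    exact neg_eq_zero.1 h1.symm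
  have hx₀0 : x₀ ≠ 0 := fun h => by
    rw [hx₀eq, sub_eq_zero] at h
    by_cases h2 : (2 : F) = 0
    · rw [h2, zero_smul, eq_comm, smul_eq_zero, div_eq_zero_iff] at h
      exact (G.plane j).polar_ne_of_li hb hb'D h2 hliB
        (by rw [polar_comm]; exact (h.resolve_right hb0).resolve_right hQb0)
    · exact h2 (LinearIndependent.pair_iff.1 hliB (-(polar Q b' b / Q b)) 2 (by rw [h]; module)).2
  have hbx₀ : polar Q b x₀ = 0 := by
    rw [hx₀eq, polar_sub_right, polar_smul_right, polar_smul_right, polar_self', polar_comm Q b' b,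
      smul_eq_mul, smul_eq_mul]
    field_simp
    ring
  have hpair : ∀ wi ∈ D i, ∀ wj ∈ D j, polar Q u (wi + wj) = 0 → Wt (wi + wj) := by
    intro wi hwi wj hwj hw
    obtain ⟨c₁, c₂, rfl⟩ := (G.plane i).coords ha ha'D hliA hwi
    set rest := wj - c₁ • b - c₂ • b' with hrest
    have hrD : rest ∈ D j :=
      (D j).sub_mem ((D j).sub_mem hwj ((D j).smul_mem _ hb)) ((D j).smul_mem _ hb'D)
    have h0 : polar Q b rest = 0 := by
      rw [hu, polar_add_left, polar_add_right, polar_add_right, polar_add_right Q b (c₁ • a + c₂ • a'),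
        polar_smul_right, polar_smul_right, polar_self', hD.orth hij ha hwj,
        hD.orth hij.symm hb ((D i).add_mem ((D i).smul_mem _ ha) ((D i).smul_mem _ ha'D))] at hw
      rw [hrest, polar_sub_right, polar_sub_right, polar_smul_right, polar_smul_right, polar_self',
        hbb', hQb]
      simp only [smul_eq_mul] at hw ⊢
      linear_combination hw
    obtain ⟨c₃, hc₃⟩ := (G.plane j).perp_line hb hb0 hx₀D hx₀0 hrD hbx₀ h0
    have e : c₁ • a + c₂ • a' + wj = c₁ • u + c₂ • (a' + b') + (c₃ • (a' + b') + (-c₃) • (a' + φ' a')) := by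
      rw [show wj = rest + c₁ • b + c₂ • b' by rw [hrest]; abel, hc₃, hx₀, hu]
      module
    rw [e]
    exact hadd (hadd (hself c₁) (c1 c₂)) (hadd (c1 c₃) (c2 (-c₃)))
  have hSS : u ∈ SS Q M := by
    refine ⟨hQu, fun w hw => ?_⟩
    let g : Fin t → ι → F := fun p => if p = i ∨ p = j then 0 else hD.π p w
    have hg : Wt (∑ p, g p) := Finset.sum_induction _ Wt (fun a b ha hb => hadd ha hb) hzero fun p _ => by
      simp only [g]
      split_ifs with h
      · exact hzero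
      · rw [not_or] at h; exact hblock p h.1 h.2 _ (hD.π_mem w p)
    have hsum : w = hD.π i w + hD.π j w + ∑ p, g p := by
      conv_lhs => rw [← hD.π_sum w]
      have e2 : (∑ p, if p = i ∨ p = j then hD.π p w else 0) = hD.π i w + hD.π j w :=
        (Fintype.sum_eq_add i j hij fun p hp => by simp [hp.1, hp.2]).trans (by simp)
      rw [← e2, ← Finset.sum_add_distrib]
      exact Finset.sum_congr rfl fun p _ => by simp only [g]; split_ifs <;> simp
    have h1 := hpair _ (hD.π_mem w i) _ (hD.π_mem w j) (by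
      have h2 := hw
      rw [hsum, polar_add_right, hg.1, add_zero] at h2
      exact h2)
    have h2 := (hadd h1 hg).2
    rwa [← hsum] at h2
  -- a second point
  obtain ⟨-, bw, hbw, hbw'⟩ := (G.plane j).nd b hb hb0
  obtain ⟨p', hp', hQp', hbp, -⟩ := (G.plane j).avoid (G.big j) (one_ne_zero (α := F)) (polarBilin Q b)
    (polarBilin Q b) ⟨bw, hbw, hbw'⟩ ⟨bw, hbw, hbw'⟩ 0 0 fun _ => ⟨rfl, rfl⟩
  have hQp'0 : Q p' ≠ 0 := by rw [hQp']; exact one_ne_zero
  obtain ⟨o₁, ho₁, hQo₁, -⟩ := (G.plane o).exists_value hQp'0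
  have hn := G.pairH hp' ho₁ hQp'0 (by rwa [hQo₁]) (by rw [hQo₁]; exact IsSquare.mul_self _)
  refine omega_le_of_pair hD.nd P hMK hSS (SS_mulVec (hHM hn) hn.2 hSS) ?_
  rw [gl_mulVec_mul, hu, mulVec_add, rr_fix _ (hD.orth (Ne.symm ho.1) ha ho₁),
    rr_fix _ (hD.orth (Ne.symm ho.2.1) hb ho₁), mulVec_add, rr_fix _ (hD.orth hij ha hp'),
    rr_mulVec _ hQp'0, polar_add_left, polar_add_right, polar_add_right,
    hD.orth hij ha ((D j).sub_mem hb ((D j).smul_mem _ hp')), hD.orth hij.symm hb ha, polar_self',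
    polar_sub_right, polar_smul_right, polar_self', hQb, smul_eq_mul]
  rw [hQp', div_one]
  intro h
  exact hbp (mul_self_eq_zero.1 (show polar Q b p' * polar Q b p' = 0 by linear_combination -h))

end Good2

end CfsgLib.ClassicalMax.OmD2
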