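/-
Maximality of decomposition stabilisers: plane version, conclusion; type of the members.
-/
import Cfsg.Agent.Lib.ClassicalMax.OrthPlanesRoots
set_option autoImplicit false

namespace CfsgLib.ClassicalMax.OmD2

open Matrix Cfsg.Geo QuadraticMap Module
open CfsgLib.ClassicalMax.OmD (rr pair_mem)

variable {ι : Type} [Fintype ι] [DecidableEq ι] {F : Type*} [Field F]
  {Q : QuadraticForm F (ι → F)} {t : ℕ} {D : Fin t → Submodule F (ι → F)}

/-- The plus type is shared by the members. -/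
theorem plus_transfer {k : ℕ} (hD : IsOrthogonalMDecomposition ⇑Q k D) {i j : Fin t}
    (h : IsPlusTypeOn ⇑Q (D i)) : IsPlusTypeOn ⇑Q (D j) := by
  obtain ⟨U, hUle, hUs, hUd⟩ := h
  obtain ⟨e, he⟩ := hD.isometric i j
  let f : U →ₗ[F] (ι → F) := (D j).subtype.comp (e.toLinearMap.comp (Submodule.inclusion hUle))
  have hf : Function.Injective f := fun a b h =>
    Submodule.inclusion_injective hUle (e.injective (Subtype.ext h))
  refine ⟨LinearMap.range f, ?_, ?_, ?_⟩
  · rintro _ ⟨u, rfl⟩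
    exact (e _).2
  · rintro _ ⟨u, rfl⟩
    exact (he _).trans (hUs _ u.2)
  · rw [LinearMap.finrank_range_of_inj hf, hUd, hD.decomp.decomp.finrank_eq,
      hD.decomp.decomp.finrank_eq]

theorem plus_of_singular {S : Submodule F (ι → F)} (hS : finrank F S = 2) {v : ι → F} (hv : v ∈ S)
    (hv0 : v ≠ 0) (hQv : Q v = 0) : IsPlusTypeOn ⇑Q S := by
  refine ⟨Submodule.span F {v}, (Submodule.span_singleton_le_iff_mem _ _).2 hv, fun w hw => ?_, ?_⟩
  · obtain ⟨a, rfl⟩ := Submodule.mem_span_singleton.1 hw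
    rw [QuadraticMap.map_smul, hQv, smul_zero]
  · rw [finrank_span_singleton hv0, hS]

variable [Fintype F]

namespace Good2

theorem maximal (G : Good2 Q D) :
    IsMaximalIn (omegaGL ⇑Q) (decompositionStabilizer D ⊓ omegaGL ⇑Q) := by
  classical
  have hD := G.toDec
  obtain ⟨⟨P⟩, -⟩ := OmE.exists_frame hD.nd G.card
  refine CfsgLib.ClassicalMax.isMaximalIn_of inf_le_right ?_
    fun M hHM hMK g hgM hgH => G.omega_le hHM hMK P hgM fun h => hgH ⟨h, hMK hgM⟩
  have ht := G.t5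
  obtain ⟨p, q, r, o, hpq, hpr, hqr, hop, hoq, hor⟩ : ∃ p q r o : Fin t,
      p ≠ q ∧ p ≠ r ∧ q ≠ r ∧ o ≠ p ∧ o ≠ q ∧ o ≠ r :=
    ⟨⟨0, by omega⟩, ⟨1, by omega⟩, ⟨2, by omega⟩, ⟨3, by omega⟩, by simp, by simp, by simp, by simp,
      by simp, by simp⟩
  obtain ⟨a, ha, hQa, ha0⟩ := (G.plane p).exists_value (one_ne_zero (α := F))
  obtain ⟨b, hb, hQb, hb0⟩ := (G.plane q).exists_value (one_ne_zero (α := F))
  obtain ⟨c, hc, hQc, hc0⟩ := (G.plane r).exists_value (neg_ne_zero.2 (one_ne_zero (α := F)))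
  obtain ⟨y, hy, hQy, hy0⟩ := (G.plane o).exists_value (one_ne_zero (α := F))
  set x := a + b + c with hx
  have hQx : Q x = 1 := by
    rw [hx, QuadraticMap.map_add (⇑Q), QuadraticMap.map_add (⇑Q) a b, polar_add_left, hQa, hQb, hQc,
      hD.orth hpq ha hb, hD.orth hpr ha hc, hD.orth hqr hb hc]
    ring
  have hπp : hD.π p x = a := by
    rw [hx, map_add, map_add, hD.π_self ha, hD.π_other hpq hb, hD.π_other hpr hc, add_zero, add_zero]
  have hπq : hD.π q x = b := by
    rw [hx, map_add, map_add, hD.π_other hpq.symm ha, hD.π_self hb, hD.π_other hqr hc, zero_add,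
      add_zero]
  have hπr : hD.π r x = c := by
    rw [hx, map_add, map_add, hD.π_other hpr.symm ha, hD.π_other hqr.symm hb, hD.π_self hc, zero_add,
      zero_add]
  have hQx0 : Q x ≠ 0 := by rw [hQx]; exact one_ne_zero
  have hQy0 : Q y ≠ 0 := by rw [hQy]; exact one_ne_zero
  refine ⟨rr hD.qform x * rr hD.qform y,
    pair_mem _ hD.nd G.card hQx0 hQy0 ⟨1, by rw [hQx, hQy]⟩, fun h => ?_⟩
  refine pair_notMem_span hD hQx0 hQy0 ?_ hpq hpr hqr (Or.inl (by rwa [hπp]))
    (Or.inl (by rwa [hπq])) (Or.inl (by rwa [hπr])) h.1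
  refine LinearIndependent.pair_iff.2 fun u w e => ?_
  have hu : u = 0 := by
    have e1 := congrArg (hD.π p) e
    rw [map_add, map_smul, map_smul, hπp, hD.π_other hop.symm hy, smul_zero, add_zero, map_zero] at e1
    exact (smul_eq_zero.1 e1).resolve_right ha0
  rw [hu, zero_smul, zero_add] at e
  exact ⟨hu, (smul_eq_zero.1 e).resolve_right hy0⟩

end Good2

end CfsgLib.ClassicalMax.OmD2
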