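/-
Characteristic two: stabilisers of nonsingular points are maximal in `Ω`.
-/
import Cfsg.Agent.Lib.ClassicalMax.OrthEven
import Cfsg.Agent.Lib.Forms.Witt
import Cfsg.Agent.Lib.OrthCrit.Trans
set_option autoImplicit false

namespace CfsgLib.ClassicalMax.OmE

open Matrix Cfsg.Geo QuadraticMap Module
open CfsgLib.Classical.Quad (NDPolar Orth Frame polar_self' polar_singular_self)

variable {ι : Type} [Fintype ι] [DecidableEq ι] {F : Type*} [Field F] [Fintype F]
  {Q : QuadraticForm F (ι → F)}

/-- A nonsingular vector orthogonal to a few given ones. -/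
theorem exists_nonsingular_orth_three (hnd : NDPolar Q) (h13 : 7 ≤ Fintype.card ι) (a b c : ι → F) :
    ∃ z, Q z ≠ 0 ∧ polar Q z a = 0 ∧ polar Q z b = 0 ∧ polar Q z c = 0 := by
  by_contra hcon
  push Not at hcon
  let L : (ι → F) →ₗ[F] (F × F) × F :=
    (((polarBilin Q).flip a).prod ((polarBilin Q).flip b)).prod ((polarBilin Q).flip c)
  have h1 := LinearMap.finrank_range_add_finrank_ker L
  have h2 := Submodule.finrank_le (LinearMap.range L)
  rw [finrank_prod, finrank_prod, finrank_self] at h2
  rw [finrank_fintype_fun_eq_card] at h1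
  have h3 := OmS.two_mul_finrank_le hnd (U := LinearMap.ker L) fun x hx => by
    by_contra hne
    have h := LinearMap.mem_ker.1 hx
    simp only [L, LinearMap.prod_apply, Function.prod_apply, Prod.mk_eq_zero] at h
    exact hcon x hne h.1.1 h.1.2 h.2
  omega

/-- Prescribed polar products with three independent vectors. -/
theorem exists_polar_three (hnd : NDPolar Q) {a b c : ι → F} (hli : LinearIndependent F ![a, b, c])
    (α β γ : F) : ∃ z, polar Q z a = α ∧ polar Q z b = β ∧ polar Q z c = γ := by
  let B := Basis.span hli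
  let l : Submodule.span F (Set.range ![a, b, c]) →ₗ[F] F := B.constr F ![α, β, γ]
  obtain ⟨g, hg⟩ := LinearMap.exists_extend l
  obtain ⟨z, hz⟩ := Classical.Quad.exists_polar hnd g
  have key : ∀ i, polar Q z (![a, b, c] i) = ![α, β, γ] i := fun i => by
    have hB : (B i : ι → F) = ![a, b, c] i := congrArg Subtype.val (Basis.span_apply hli i)
    rw [hz, ← hB]
    change (g.comp (Submodule.span F (Set.range ![a, b, c])).subtype) (B i) = _
    rw [hg]
    exact B.constr_basis F _ i
  exact ⟨z, key 0, key 1, key 2⟩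

/-- Elements of `Ω` realise any change of a second point, the first staying fixed. -/
theorem omega_move_second [CharP F 2] (hnd : NDPolar Q) (h7 : 7 ≤ Fintype.card ι)
    {v x x' : ι → F} (hli : LinearIndependent F ![v, x]) (hli' : LinearIndependent F ![v, x'])
    (hQ : Q x = Q x') (hp : polar Q x v = polar Q x' v) :
    ∃ h ∈ omegaGL ⇑Q, (h : Matrix ι ι F) *ᵥ v = v ∧ (h : Matrix ι ι F) *ᵥ x = x' := by
  classical
  let B := Basis.span hli
  let f₀ : Submodule.span F (Set.range ![v, x]) →ₗ[F] (ι → F) := B.constr F ![v, x']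
  obtain ⟨f, hf⟩ := LinearMap.exists_extend f₀
  have hfi : ∀ i, f (![v, x] i) = ![v, x'] i := fun i => by
    have hB : (B i : ι → F) = ![v, x] i := congrArg Subtype.val (Basis.span_apply hli i)
    rw [← hB]
    change (f.comp (Submodule.span F (Set.range ![v, x])).subtype) (B i) = _
    rw [hf]
    exact B.constr_basis F _ i
  have hfv : f v = v := hfi 0
  have hfx : f x = x' := hfi 1
  have hmem : ∀ y ∈ Submodule.span F (Set.range ![v, x]), ∃ a b : F, y = a • v + b • x := by
    intro y hy
    obtain ⟨c, rfl⟩ := (Submodule.mem_span_range_iff_exists_fun F).1 hy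
    exact ⟨c 0, c 1, by simp [Fin.sum_univ_two]⟩
  have hnd' : (QuadraticMap.polarBilin Q).Nondegenerate :=
    ⟨fun a ha => hnd a ha, fun a ha => hnd a fun y => by rw [polar_comm]; exact ha y⟩
  obtain ⟨g, hgQ, hgf⟩ := Forms.witt_quadratic Q hnd' (Submodule.span F (Set.range ![v, x])) f
    (fun y hy => by
      obtain ⟨a, b, rfl⟩ := hmem y hy
      rw [map_add, map_smul, map_smul, hfv, hfx]
      simp only [QuadraticMap.map_add (⇑Q), QuadraticMap.map_smul, polar_smul_left,
        polar_smul_right, polar_comm Q v, hQ, hp])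
    (fun y hy h0 => by
      obtain ⟨a, b, rfl⟩ := hmem y hy
      rw [map_add, map_smul, map_smul, hfv, hfx] at h0
      obtain ⟨ha, hb⟩ := LinearIndependent.pair_iff.1 hli' a b h0
      rw [ha, hb, zero_smul, zero_smul, add_zero])
  have hgv : g v = v := (hgf v (Submodule.subset_span ⟨0, rfl⟩)).trans hfv
  have hgx : g x = x' := (hgf x (Submodule.subset_span ⟨1, rfl⟩)).trans hfx
  set γ := (OrthCrit.toOrth Q).symm ⟨g, hgQ⟩ with hγ
  have hact : ∀ y, ((γ : GL ι F) : Matrix ι ι F) *ᵥ y = g y := fun y =>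
    OrthCrit.toOrth_symm_act ⟨g, hgQ⟩ y
  have hreg : OrthCrit.Regular F ι := Or.inr (by omega)
  obtain ⟨z, hz, hzv, hzx, -⟩ := exists_nonsingular_orth_three hnd h7 v x' 0
  have hex : ∃ v, Q v ≠ 0 := ⟨z, hz⟩
  rcases (show OrthCrit.parity γ = 0 ∨ OrthCrit.parity γ = 1 from
    (by decide : ∀ p : ZMod 2, p = 0 ∨ p = 1) _) with h0 | h0
  · exact ⟨γ, ⟨γ, (OrthCrit.mem_Omega_iff_char_two hnd hreg hex γ).2 h0, rfl⟩,
      by rw [hact, hgv], by rw [hact, hgx]⟩
  · set r := OrthSpinor.reflection (Q := Q) hz with hr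
    have hfix : ∀ y, polar Q y z = 0 → ((r : GL ι F) : Matrix ι ι F) *ᵥ y = y := fun y hy => by
      change OrthSpinor.act Q r y = y
      rw [← OrthCrit.toOrth_apply, hr, OrthCrit.toOrth_reflection, Classical.Quad.refl_fix hy]
    refine ⟨((r * γ : ↥(Cfsg.isometryGroup F ⇑Q)) : GL ι F), ⟨r * γ, ?_, rfl⟩, ?_, ?_⟩
    · refine (OrthCrit.mem_Omega_iff_char_two hnd hreg hex _).2 ?_
      rw [OrthCrit.parity_mul hnd hreg, hr, OrthCrit.parity_reflection hnd hz, h0]
      decide
    · rw [Subgroup.coe_mul, gl_mulVec_mul, hact, hgv, hfix v (by rw [polar_comm]; exact hzv)]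
    · rw [Subgroup.coe_mul, gl_mulVec_mul, hact, hgx, hfix x' (by rw [polar_comm]; exact hzx)]

/-- The stabiliser of a nonsingular point is maximal in characteristic two. -/
theorem nonsingular_point_maximal [CharP F 2] (hnd : NDPolar Q) (P : Frame Q)
    (h7 : 8 ≤ Fintype.card ι) {v : ι → F} (hv : Q v ≠ 0) :
    IsMaximalIn (omegaGL ⇑Q) (subspaceStabilizer (Submodule.span F {v}) ⊓ omegaGL ⇑Q) := by
  classical
  have two : (2 : F) = 0 := CharTwo.two_eq_zero
  have hv0 : v ≠ 0 := fun h => hv (by rw [h, map_zero Q])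
  have hB0 : ∀ y, polar Q y y = 0 := fun y => by rw [polar_self', two, zero_mul]
  refine CfsgLib.ClassicalMax.isMaximalIn_of inf_le_right ?_ ?_
  · obtain ⟨g, hg, hg'⟩ := SetLike.not_le_iff_exists.1 (Asch.omega_not_le_subspace hnd P
      (W := Submodule.span F {v}) (by rwa [Ne, Submodule.span_singleton_eq_bot]) (fun h => by
        have := finrank_span_singleton (K := F) hv0
        rw [h, finrank_top, finrank_fintype_fun_eq_card] at this
        omega))
    exact ⟨g, hg, fun h => hg' h.1⟩
  intro M hHM hMK g hgM hgH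
  have hscal : ∀ {x y : ι → F}, Q x = Q v → Q y = Q v → ∀ c : F, x = c • y → x = y := by
    intro x y hx hy c hc
    have h : c * c * Q v = 1 * 1 * Q v := by
      rw [one_mul, one_mul, ← smul_eq_mul, ← hy, ← QuadraticMap.map_smul, ← hc, hx, hy]
    have h' : (c - 1) * (c - 1) = 0 := by
      linear_combination mul_right_cancel₀ hv h + (1 - c) * two
    rw [hc, sub_eq_zero.1 (mul_self_eq_zero.1 h'), one_smul]
  have hpairli : ∀ {x y : ι → F}, Q x = Q v → Q y = Q v → x ≠ y → LinearIndependent F ![y, x] := by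
    intro x y hx hy hne
    exact (LinearIndependent.pair_iff' fun h : y = 0 => hv (by rw [← hy, h, map_zero Q])).2
      fun c hc => hne (hscal hx hy c hc.symm)
  have hfixH : ∀ {h : GL ι F}, h ∈ omegaGL ⇑Q → (h : Matrix ι ι F) *ᵥ v = v → h ∈ M := by
    intro h hh hhv
    refine hHM ⟨mem_subspaceStabilizer_of_forall fun x hx => ?_, hh⟩
    obtain ⟨c, rfl⟩ := Submodule.mem_span_singleton.1 hx
    rw [mulVec_smul, hhv]
    exact hx
  -- the orbit of `v`
  let O : (ι → F) → Prop := fun x => ∃ m ∈ M, (m : Matrix ι ι F) *ᵥ v = x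
  have hOQ : ∀ x, O x → Q x = Q v := by
    rintro x ⟨m, hm, rfl⟩; exact OmS.omega_iso (hMK hm) v
  have hz0 : ∀ x x', O x → x ≠ v → Q x' = Q v → x' ≠ v → polar Q x' v = polar Q x v → O x' := by
    rintro x x' hx hxv hx' hxv' hp
    obtain ⟨h, hh, hhv, hhx⟩ := omega_move_second hnd (by omega) (hpairli (hOQ x hx) rfl hxv)
      (hpairli hx' rfl hxv') ((hOQ x hx).trans hx'.symm) hp.symm
    obtain ⟨m, hm, rfl⟩ := hx
    exact ⟨h * m, M.mul_mem (hfixH hh hhv) hm, by rw [gl_mulVec_mul, hhx]⟩
  have hshift : ∀ x x' z, O x → x' ≠ v → O x' → Q z = Q v → z ≠ x → polar Q z x = polar Q x' v →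
      O z := by
    rintro x x' z ⟨m, hm, rfl⟩ hxv' hx' hz hzx hp
    set z' := ((m⁻¹ : GL ι F) : Matrix ι ι F) *ᵥ z
    have hmz : (m : Matrix ι ι F) *ᵥ z' = z := gl_mulVec_inv_mulVec m z
    have hzQ : Q z' = Q v := by rw [← OmS.omega_iso (hMK hm) z', hmz, hz]
    have hzv : z' ≠ v := fun h => hzx (by rw [← hmz, h])
    obtain ⟨k, hk, hkv⟩ := hz0 x' z' hx' hxv' hzQ hzv
      (by rw [← OmS.omega_polar (hMK hm) z' v, hmz, hp])
    exact ⟨m * k, M.mul_mem hm hk, by rw [gl_mulVec_mul, hkv, hmz]⟩
  set x₀ := (g : Matrix ι ι F) *ᵥ v with hx₀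
  have hOx₀ : O x₀ := ⟨g, hgM, rfl⟩
  have hx₀v : x₀ ≠ v := fun h => hgH ⟨mem_subspaceStabilizer_of_forall fun x hx => by
    obtain ⟨c, rfl⟩ := Submodule.mem_span_singleton.1 hx
    rw [mulVec_smul, show (g : Matrix ι ι F) *ᵥ v = v from h]
    exact hx, hMK hgM⟩
  -- every level point lies in the orbit
  have hall : ∀ x', Q x' = Q v → O x' := by
    intro x' hx'
    by_cases hxv' : x' = v
    · exact ⟨1, M.one_mem, by rw [Units.val_one, one_mulVec, hxv']⟩
    set b₀ := polar Q x₀ v with hb₀
    set b' := polar Q x' v with hb'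
    have hli := hpairli (hOQ x₀ hOx₀) rfl hx₀v
    obtain ⟨w, hw1, hw2, hw3⟩ : ∃ w, polar Q v w = 0 ∧ polar Q x₀ w = 0 ∧
        w ∉ Submodule.span F (Set.range ![v, x₀]) := by
      by_contra hcon
      push Not at hcon
      let L : (ι → F) →ₗ[F] F × F := (polarBilin Q v).prod (polarBilin Q x₀)
      have h1 := LinearMap.finrank_range_add_finrank_ker L
      have h2 := Submodule.finrank_le (LinearMap.range L)
      rw [finrank_prod, finrank_self] at h2
      rw [finrank_fintype_fun_eq_card] at h1
      have h3 := Submodule.finrank_mono (show LinearMap.ker L ≤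
          Submodule.span F (Set.range ![v, x₀]) from fun y hy => by
        have h := LinearMap.mem_ker.1 hy
        simp only [L, LinearMap.prod_apply, Function.prod_apply, Prod.mk_eq_zero] at h
        exact hcon y h.1 h.2)
      rw [finrank_span_eq_card hli, Fintype.card_fin] at h3
      omega
    have hli3 : LinearIndependent F ![w, v, x₀] := linearIndependent_finCons.2 ⟨hli, hw3⟩
    obtain ⟨z₀, hz1, hz2, hz3⟩ := exists_polar_three hnd hli3 1 b' b₀
    obtain ⟨z₁, hz₁, hz₁a, hz₁b, hz₁c, hz₁d⟩ : ∃ s, Q s ≠ 0 ∧ polar Q s w = 0 ∧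
        polar Q s v = 0 ∧ polar Q s x₀ = 0 ∧ polar Q z₀ s = 0 := by
      by_contra hcon
      push Not at hcon
      let L : (ι → F) →ₗ[F] ((F × F) × F) × F :=
        ((((polarBilin Q).flip w).prod ((polarBilin Q).flip v)).prod
          ((polarBilin Q).flip x₀)).prod (polarBilin Q z₀)
      have h1 := LinearMap.finrank_range_add_finrank_ker L
      have h2 := Submodule.finrank_le (LinearMap.range L)
      rw [finrank_prod, finrank_prod, finrank_prod, finrank_self] at h2
      rw [finrank_fintype_fun_eq_card] at h1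
      have h3 := OmS.two_mul_finrank_le hnd (U := LinearMap.ker L) fun y hy => by
        by_contra hne
        have h := LinearMap.mem_ker.1 hy
        simp only [L, LinearMap.prod_apply, Function.prod_apply, Prod.mk_eq_zero] at h
        exact hcon y hne h.1.1.1 h.1.1.2 h.1.2 h.2
      by_cases h9 : 9 ≤ Fintype.card ι
      · omega
      · have h8 : Fintype.card ι = 8 := by omega
        have hW : ∀ y ∈ LinearMap.ker L, Q y = 0 := fun y hy => by
          by_contra hne
          have h := LinearMap.mem_ker.1 hy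
          simp only [L, LinearMap.prod_apply, Function.prod_apply, Prod.mk_eq_zero] at h
          exact hcon y hne h.1.1.1 h.1.1.2 h.1.2 h.2
        set U := LinearMap.ker L
        -- a totally singular half orthogonal to `v` would contain it
        have hUd : finrank F U = 4 := by omega
        have hvU : v ∈ U := by
          by_contra hvn
          set Ψ : (ι → F) →ₗ[F] Module.Dual F U :=
            (LinearMap.lcomp F F U.subtype).comp (polarBilin Q) with hΨ
          have hsurj : Function.Surjective Ψ := by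
            intro φ
            obtain ⟨gf, hgf⟩ := LinearMap.exists_extend φ
            obtain ⟨y, hy⟩ := Classical.Quad.exists_polar hnd gf
            exact ⟨y, LinearMap.ext fun u => by rw [← hgf]; exact hy _⟩
          have hle : U ⊔ Submodule.span F {v} ≤ LinearMap.ker Ψ := by
            refine sup_le (fun y hy => LinearMap.ext fun u => ts_polar hW hy u.2) ?_
            rw [Submodule.span_singleton_le_iff_mem]
            refine LinearMap.ext fun u => ?_
            have h := LinearMap.mem_ker.1 u.2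
            simp only [L, LinearMap.prod_apply, Function.prod_apply, Prod.mk_eq_zero] at h
            change polar Q v (u : ι → F) = 0
            rw [polar_comm]; exact h.1.1.2
          have e1 := Submodule.finrank_mono hle
          rw [OrthGeom.finrank_sup_span hvn] at e1
          have e2 := LinearMap.finrank_range_add_finrank_ker Ψ
          rw [LinearMap.range_eq_top.2 hsurj, finrank_top, Subspace.dual_finrank_eq,
            finrank_fintype_fun_eq_card] at e2
          omega
        exact hv (hW v hvU)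
    obtain ⟨c, hc⟩ := FiniteField.isSquare_of_char_two (ringChar.eq F 2) ((Q v - Q z₀) / Q z₁)
    set z := z₀ + c • z₁ with hzd
    have hQz : Q z = Q v := by
      rw [hzd, Classical.Quad.Q_comb1, hz₁d, ← hc, div_mul_cancel₀ _ hz₁]; ring
    have hzw : polar Q z w = 1 := by
      rw [hzd, polar_add_left, polar_smul_left, hz₁a, hz1, smul_zero, add_zero]
    have hzp : polar Q z v = b' := by
      rw [hzd, polar_add_left, polar_smul_left, hz₁b, hz2, smul_zero, add_zero]
    have hzx : polar Q z x₀ = b₀ := by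
      rw [hzd, polar_add_left, polar_smul_left, hz₁c, hz3, smul_zero, add_zero]
    have hzne : z ≠ v := fun h => zero_ne_one (α := F) (by rw [← hzw, h, hw1])
    have hzne' : z ≠ x₀ := fun h => zero_ne_one (α := F) (by rw [← hzw, h, hw2])
    have hOz : O z := hshift x₀ x₀ z hOx₀ hx₀v hOx₀ hQz hzne' hzx
    exact hz0 z x' hOz hzne hx' hxv' hzp.symm
  intro h hh
  obtain ⟨m, hm, hmv⟩ := hall _ (OmS.omega_iso hh v)
  have : m⁻¹ * h ∈ M := hfixH (mul_mem (inv_mem (hMK hm)) hh)
    (by rw [gl_mulVec_mul, ← hmv, gl_inv_mulVec_mulVec])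
  simpa [mul_inv_cancel_left] using M.mul_mem hm this

end CfsgLib.ClassicalMax.OmE
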