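/-
Rational structures of quadratic forms over a subfield and their root elements.
-/
import Cfsg.Agent.Lib.ClassicalMax.OrthEven
import Cfsg.Agent.Lib.ClassicalMax.RatSubfield
set_option autoImplicit false

namespace CfsgLib.ClassicalMax.OmSub

open Matrix Cfsg.Geo QuadraticMap Module
open CfsgLib.Classical.Quad (NDPolar Frame)

section space

variable {K : Type*} [Field K] [Fintype K] {V : Type*} [AddCommGroup V] [Module K V]
  [FiniteDimensional K V] {R : QuadraticForm K V}

/-- A vector with prescribed pairing against one vector, orthogonal to others. -/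
lemma exists_dual_orth (hnd : NDPolar R) {k : ℕ} (s : Fin k → V) {q : V}
    (hq : q ∉ Submodule.span K (Set.range s)) :
    ∃ x, polar R q x = 1 ∧ ∀ i, polar R (s i) x = 0 := by
  obtain ⟨φ, hφq, hφs⟩ := Submodule.exists_dual_map_eq_bot_of_notMem hq inferInstance
  obtain ⟨x, hx⟩ := Classical.Quad.exists_polar hnd ((φ q)⁻¹ • φ)
  refine ⟨x, by rw [polar_comm, hx, LinearMap.smul_apply, smul_eq_mul, inv_mul_cancel₀ hφq],
    fun i => ?_⟩
  have h0 : φ (s i) = 0 := (Submodule.mem_bot K).1
    (hφs ▸ Submodule.mem_map_of_mem (Submodule.subset_span ⟨i, rfl⟩))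
  rw [polar_comm, hx, LinearMap.smul_apply, h0, smul_zero]

/-- The singular partner of a singular vector, orthogonal to further vectors. -/
lemma exists_partner (hnd : NDPolar R) {k : ℕ} (s : Fin k → V) {q : V} (hQ : R q = 0)
    (hs : ∀ i, polar R (s i) q = 0) (hq : q ∉ Submodule.span K (Set.range s)) :
    ∃ x, R x = 0 ∧ polar R q x = 1 ∧ ∀ i, polar R (s i) x = 0 := by
  obtain ⟨x, hx, hxs⟩ := exists_dual_orth hnd s hq
  refine ⟨x + (-(R x)) • q, ?_, ?_, fun i => ?_⟩
  · rw [Classical.Quad.Q_comb1, hQ, polar_comm R x q, hx]; ring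
  · rw [polar_add_right, polar_smul_right, hx, Classical.Quad.polar_singular_self hQ, smul_zero,
      add_zero]
  · rw [polar_add_right, polar_smul_right, hxs, hs, smul_zero, add_zero]

/-- A singular vector orthogonal to few vectors and outside their span. -/
lemma exists_singular_orth (R : QuadraticForm K V) {k : ℕ} (s : Fin k → V)
    (hn : 2 * k + 3 ≤ finrank K V) :
    ∃ r, R r = 0 ∧ (∀ i, polar R (s i) r = 0) ∧ r ∉ Submodule.span K (Set.range s) := by
  let L : V →ₗ[K] (Fin k → K) := LinearMap.pi fun i => polarBilin R (s i)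
  set W := LinearMap.ker L with hW
  set S := Submodule.span K (Set.range s) with hS
  obtain ⟨C, hC⟩ := Submodule.exists_isCompl (S.comap W.subtype)
  have h1 := LinearMap.finrank_range_add_finrank_ker L
  rw [← hW] at h1
  have h2 : finrank K (LinearMap.range L) ≤ k := by
    simpa using Submodule.finrank_le (LinearMap.range L)
  have h3 : finrank K S ≤ k := (finrank_range_le_card s).trans (by simp)
  have h4 := Submodule.finrank_add_eq_of_isCompl hC
  have h5 : finrank K (S.comap W.subtype) ≤ finrank K S := by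
    rw [← Submodule.finrank_map_subtype_eq W (S.comap W.subtype)]
    exact Submodule.finrank_mono (Submodule.map_comap_le _ _)
  have h6 : 3 ≤ finrank K C := by omega
  obtain ⟨w, hw0, hwQ⟩ := FormsDisc.exists_singular_of_three
    (R.comp (W.subtype.comp C.subtype)) h6
  refine ⟨((w : W) : V), hwQ, fun i => congrFun (LinearMap.mem_ker.1 (w : W).2) i, fun hmem => hw0 ?_⟩
  have : (w : W) ∈ S.comap W.subtype ⊓ C := ⟨hmem, w.2⟩
  rw [hC.inf_eq_bot, Submodule.mem_bot] at this
  exact Subtype.ext this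

/-- A singular vector orthogonal to three vectors, outside the line of the first. -/
lemma exists_singular_orth_three (R : QuadraticForm K V) {p q r : V} (hp : polar R p p = 0)
    (hqp : polar R q p = 0) (hrp : polar R r p = 0) (hn : 7 ≤ finrank K V) :
    ∃ m, R m = 0 ∧ polar R p m = 0 ∧ polar R q m = 0 ∧ polar R r m = 0 ∧
      m ∉ Submodule.span K {p} := by
  let L : V →ₗ[K] K × K := (polarBilin R q).prod (polarBilin R r)
  have h1 := LinearMap.finrank_range_add_finrank_ker L
  have h2 : finrank K (LinearMap.range L) ≤ 2 := by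
    simpa using Submodule.finrank_le (LinearMap.range L)
  have hpL : p ∈ LinearMap.ker L := by simp [L, hqp, hrp]
  obtain ⟨m, hm, hmo, hms⟩ := exists_singular_orth (R.comp (LinearMap.ker L).subtype)
    ![(⟨p, hpL⟩ : LinearMap.ker L)] (by omega)
  have hmem := LinearMap.mem_ker.1 m.2
  refine ⟨m, hm, by simpa [polar] using hmo 0, congrArg Prod.fst hmem, congrArg Prod.snd hmem,
    fun h => hms ?_⟩
  obtain ⟨c, hc⟩ := Submodule.mem_span_singleton.1 h
  exact Submodule.span_mono (s := {(⟨p, hpL⟩ : LinearMap.ker L)}) (by simp)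
    (Submodule.mem_span_singleton.2 ⟨c, Subtype.ext hc⟩)

/-- Splitting a vector orthogonal to a singular one into two singular vectors orthogonal to it. -/
lemma exists_split_orth (hnd : NDPolar R) {p z : V} (hp : R p = 0) (hpz : polar R p z = 0)
    (hz : R z ≠ 0) (hn : 7 ≤ finrank K V) :
    ∃ s, R s = 0 ∧ polar R p s = 0 ∧ R (z - s) = 0 := by
  have hzp : z ∉ Submodule.span K (Set.range ![p]) := by
    rw [Matrix.range_cons, Matrix.range_empty, Set.union_empty]
    intro h
    obtain ⟨c, rfl⟩ := Submodule.mem_span_singleton.1 h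
    exact hz (by rw [QuadraticMap.map_smul, hp, smul_zero])
  obtain ⟨x₀, hzx, hxo⟩ := exists_dual_orth hnd ![p] hzp
  obtain ⟨r, hr, hro, hrs⟩ := exists_singular_orth R ![p, z] (by omega)
  obtain ⟨y, hy, hry, hyo⟩ := exists_partner hnd ![p, z] hr hro hrs
  obtain ⟨s, hs⟩ : ∃ s : K, polar R x₀ r + s ≠ 0 := by
    rcases eq_or_ne (polar R x₀ r) 0 with h | h
    · exact ⟨1, by rw [h, zero_add]; exact one_ne_zero⟩
    · exact ⟨0, by rwa [add_zero]⟩
  obtain ⟨t, ht⟩ : ∃ t, (polar R x₀ r + s) * t = -(R x₀ + s * polar R x₀ y) :=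
    ⟨(polar R x₀ r + s)⁻¹ * -(R x₀ + s * polar R x₀ y), mul_inv_cancel_left₀ hs _⟩
  have hQw : R (x₀ + t • r + s • y) = 0 := by
    rw [QuadraticMap.map_add (⇑R), Classical.Quad.Q_comb1, QuadraticMap.map_smul, hr, hy,
      polar_smul_right, polar_add_left, polar_smul_left, hry]
    simp only [smul_eq_mul]
    linear_combination ht
  have hzw : polar R z (x₀ + t • r + s • y) = 1 := by
    rw [polar_add_right, polar_add_right, polar_smul_right, polar_smul_right, hzx,
      show polar R z r = 0 from hro 1, show polar R z y = 0 from hyo 1, smul_zero, smul_zero,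
      add_zero, add_zero]
  have hpw : polar R p (x₀ + t • r + s • y) = 0 := by
    rw [polar_add_right, polar_add_right, polar_smul_right, polar_smul_right,
      show polar R p x₀ = 0 from hxo 0, show polar R p r = 0 from hro 0,
      show polar R p y = 0 from hyo 0, smul_zero, smul_zero, add_zero, add_zero]
  refine ⟨R z • (x₀ + t • r + s • y), by rw [QuadraticMap.map_smul, hQw, smul_zero],
    by rw [polar_smul_right, hpw, smul_zero], ?_⟩
  rw [sub_eq_add_neg, QuadraticMap.map_add (⇑R), QuadraticMap.map_neg, QuadraticMap.map_smul, hQw,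
    smul_zero, polar_neg_right, polar_smul_right, hzw, smul_eq_mul]
  ring

omit [Fintype K] in
/-- Three vectors have two common orthogonal vectors with non-zero product. -/
lemma exists_polar_ne (hnd : NDPolar R) (v : Fin 3 → V) (hn : 7 ≤ finrank K V) :
    ∃ e e', (∀ i, polar R (v i) e = 0) ∧ (∀ i, polar R (v i) e' = 0) ∧ polar R e e' ≠ 0 := by
  let L : V →ₗ[K] (Fin 3 → K) := LinearMap.pi fun i => polarBilin R (v i)
  by_contra hcon
  push Not at hcon
  let M : V →ₗ[K] Module.Dual K (LinearMap.ker L) :=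
    (LinearMap.lcomp K K (LinearMap.ker L).subtype).comp (polarBilin R)
  have hsurj : Function.Surjective M := by
    intro φ
    obtain ⟨g, hg⟩ := LinearMap.exists_extend φ
    obtain ⟨x, hx⟩ := Classical.Quad.exists_polar hnd g
    refine ⟨x, LinearMap.ext fun y => ?_⟩
    rw [← hg]
    exact hx _
  have hle : LinearMap.ker L ≤ LinearMap.ker M := fun x hx => LinearMap.ext fun y =>
    hcon x y (fun i => congrFun (LinearMap.mem_ker.1 hx) i)
      (fun i => congrFun (LinearMap.mem_ker.1 y.2) i)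
  have h1 := LinearMap.finrank_range_add_finrank_ker M
  rw [LinearMap.range_eq_top.2 hsurj, finrank_top, Subspace.dual_finrank_eq] at h1
  have h2 := Submodule.finrank_mono hle
  have h3 := LinearMap.finrank_range_add_finrank_ker L
  have h4 : finrank K (LinearMap.range L) ≤ 3 := by
    simpa using Submodule.finrank_le (LinearMap.range L)
  omega

omit [Fintype K] [FiniteDimensional K V] in
lemma notMem_span_pair {p q r : V} (hr : r ∉ Submodule.span K {p, q})
    (hq : q ∉ Submodule.span K {p}) : q ∉ Submodule.span K {p, r} := by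
  intro hmem
  obtain ⟨c, d, hcd⟩ := Submodule.mem_span_pair.1 hmem
  rcases eq_or_ne d 0 with hd | hd
  · exact hq (Submodule.mem_span_singleton.2 ⟨c, by rw [← hcd, hd, zero_smul, add_zero]⟩)
  · refine hr (Submodule.mem_span_pair.2 ⟨-(d⁻¹ * c), d⁻¹, ?_⟩)
    rw [← hcd, smul_add, smul_smul, smul_smul, inv_mul_cancel₀ hd, one_smul]
    module

omit [Fintype K] [FiniteDimensional K V] in
lemma notMem_span_of_polar {p r x : V} (h : polar R p x ≠ 0) (hr : polar R p r = 0) :
    x ∉ Submodule.span K {r} := by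
  intro hmem
  obtain ⟨c, rfl⟩ := Submodule.mem_span_singleton.1 hmem
  exact h (by rw [polar_smul_right, hr, smul_zero])

end space

variable {ι : Type} [Fintype ι] [DecidableEq ι] {F : Type*} [Field F]
  {Q : QuadraticForm F (ι → F)}

/-- The Siegel element of the pair lies in `M`. -/
def SG (Q : QuadraticForm F (ι → F)) (M : Subgroup (GL ι F)) (u w : ι → F) : Prop :=
  ∃ h ∈ M, OmS.IsSg Q h u w

variable {M : Subgroup (GL ι F)} {u w w' : ι → F}

lemma SG.add (hu : Q u = 0) (h : SG Q M u w) (h' : SG Q M u w') (huw : polar Q u w = 0) (huw' : polar Q u w' = 0) :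
    SG Q M u (w + w') := by
  obtain ⟨a, ha, hax⟩ := h
  obtain ⟨b, hb, hbx⟩ := h'
  refine ⟨a * b, M.mul_mem ha hb, fun x => ?_⟩
  rw [gl_mulVec_mul, hbx, hax]
  have e1 : polar Q u u = 0 := Classical.Quad.polar_singular_self hu
  have e2 : polar Q w' u = 0 := by rw [polar_comm]; exact huw'
  have e3 : Q (w + w') = Q w + Q w' + polar Q w' w := by
    rw [QuadraticMap.map_add (⇑Q), polar_comm]
  simp only [polar_add_left, polar_smul_left, polar_add_right, smul_eq_mul, e1, e2, e3]
  simp only [huw]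
  module

lemma SG.neg (hu : Q u = 0) (h : SG Q M u w) (huw : polar Q u w = 0) : SG Q M u (-w) := by
  obtain ⟨a, ha, hax⟩ := h
  refine ⟨a⁻¹, M.inv_mem ha, fun x => gl_mulVec_injective a ?_⟩
  simp only [gl_mulVec_inv_mulVec]
  rw [hax]
  have e1 : polar Q u u = 0 := Classical.Quad.polar_singular_self hu
  have e2 : polar Q w u = 0 := by rw [polar_comm]; exact huw
  have e3 : polar Q w w = 2 * Q w := Classical.Quad.polar_self' w
  simp only [smul_neg, polar_add_left, polar_smul_left, polar_neg_right, polar_neg_left,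
    QuadraticMap.map_neg, smul_eq_mul, e1, e2, e3, huw]
  module

lemma SG.self_smul (hu : Q u = 0) (c : F) : SG Q M u (c • u) := by
  refine ⟨1, M.one_mem, fun x => ?_⟩
  simp only [Units.val_one, one_mulVec, polar_smul_right, QuadraticMap.map_smul, hu, smul_eq_mul]
  module

lemma SG.congr_smul (c : F) : SG Q M u (c • w) ↔ SG Q M (c • u) w := by
  unfold SG
  refine exists_congr fun h => and_congr_right fun _ => forall_congr' fun x => Eq.congr rfl ?_
  simp only [polar_smul_right, QuadraticMap.map_smul, smul_eq_mul]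
  module

lemma SG.swap (hu : Q u = 0) (hw : Q w = 0) (h : SG Q M u w) : SG Q M w (-u) := by
  obtain ⟨a, ha, hax⟩ := h
  refine ⟨a, ha, fun x => ?_⟩
  rw [hax, polar_neg_right, QuadraticMap.map_neg, hu, hw]
  module

lemma SG.conj (hM : M ≤ omegaGL ⇑Q) {g : GL ι F} (hg : g ∈ M) (h : SG Q M u w) :
    SG Q M ((g : Matrix ι ι F) *ᵥ u) ((g : Matrix ι ι F) *ᵥ w) := by
  obtain ⟨a, ha, hax⟩ := h
  refine ⟨g * a * g⁻¹, M.mul_mem (M.mul_mem hg ha) (M.inv_mem hg), fun x => ?_⟩
  set x' := ((g⁻¹ : GL ι F) : Matrix ι ι F) *ᵥ x with hx'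
  have hgx : (g : Matrix ι ι F) *ᵥ x' = x := gl_mulVec_inv_mulVec g x
  rw [gl_mulVec_mul, gl_mulVec_mul, ← hx', hax, mulVec_add, mulVec_add, mulVec_smul, mulVec_smul,
    hgx, ← OmS.omega_polar (hM hg) x' u, ← OmS.omega_polar (hM hg) x' w, hgx,
    ← OmS.omega_iso (hM hg) w]

/-- The difference of a Siegel element and its conjugate. -/
lemma SG.diff (hM : M ≤ omegaGL ⇑Q) {g : GL ι F} (hg : g ∈ M) (hu : Q u = 0)
    (huw : polar Q u w = 0) (hgu : (g : Matrix ι ι F) *ᵥ u = u) (h : SG Q M u w) :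
    SG Q M u ((g : Matrix ι ι F) *ᵥ w - w) := by
  have h1 := h.conj hM hg
  rw [hgu] at h1
  rw [sub_eq_add_neg]
  have e : polar Q u ((g : Matrix ι ι F) *ᵥ w) = 0 := by
    conv_lhs => rw [← hgu]
    rw [OmS.omega_polar (hM hg), huw]
  exact h1.add hu (h.neg hu huw) e (by rw [polar_neg_right, huw, neg_zero])

variable {F₀ : Subfield F}

/-- A rational structure carrying a scalar multiple of a quadratic form. -/
structure Rat (Q : QuadraticForm F (ι → F)) (P : GL ι F) (ζ : F)
    (Q₀ : QuadraticForm F₀ (ι → F₀)) : Prop where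
  nd : NDPolar Q
  nd₀ : NDPolar Q₀
  ζ_ne : ζ ≠ 0
  coe_Q : ∀ x, (Q₀ x : F) = ζ * Q (ratVec P x)

variable {P : GL ι F} {ζ : F} {Q₀ : QuadraticForm F₀ (ι → F₀)}

lemma ratVec_zero (P : GL ι F) : ratVec (F₀ := F₀) P 0 = 0 := by
  simp [ratVec, show (fun _ : ι => (0 : F)) = 0 from rfl]

lemma ratVec_ne_zero (P : GL ι F) {x : ι → F₀} (h : x ≠ 0) : ratVec P x ≠ 0 := fun e =>
  h (ratVec_injective P (e.trans (ratVec_zero P).symm))

lemma ratVec_sub (P : GL ι F) (x y : ι → F₀) : ratVec P (x - y) = ratVec P x - ratVec P y := by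
  rw [eq_sub_iff_add_eq, ← ratVec_add, sub_add_cancel]

lemma ratVec_neg (P : GL ι F) (x : ι → F₀) : ratVec P (-x) = -ratVec P x := by
  rw [← zero_sub, ratVec_sub, ratVec_zero, zero_sub]

/-- Coefficients of a combination of two rational vectors which is a multiple of a rational one. -/
lemma coeff_ratio (P : GL ι F) {a b c : ι → F₀} (hb : b ∉ Submodule.span F₀ {a}) (ha : a ≠ 0)
    {k l m : F} (hl : l ≠ 0) (h : k • ratVec P a + l • ratVec P b = m • ratVec P c) :
    k / l ∈ F₀ := by
  simp only [ratVec, ← mulVec_smul, ← mulVec_add] at h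
  have hco := fun i => congrFun (gl_mulVec_injective P h) i
  have hind : LinearIndependent F₀ ![a, b] := by
    rw [LinearIndependent.pair_iff' ha]
    exact fun d e => hb (Submodule.mem_span_singleton.2 ⟨d, e⟩)
  obtain ⟨p, q, hD⟩ := exists_minor_ne_zero hind
  simp only [Pi.add_apply, Pi.smul_apply, smul_eq_mul] at hco
  set D : F₀ := a p * b q - a q * b p
  have hD' : (D : F) ≠ 0 := fun e => hD (Subtype.ext e)
  have h1 : k * (D : F) = m * ((c p * b q - c q * b p : F₀) : F) := by
    simp only [D, Subfield.coe_sub, Subfield.coe_mul]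
    linear_combination (b q : F) * hco p - (b p : F) * hco q
  have h2 : l * (D : F) = m * ((a p * c q - a q * c p : F₀) : F) := by
    simp only [D, Subfield.coe_sub, Subfield.coe_mul]
    linear_combination (a p : F) * hco q - (a q : F) * hco p
  have hm : m ≠ 0 := fun e => mul_ne_zero hl hD' (by rw [h2, e, zero_mul])
  rw [← mul_div_mul_right k l hD', h1, h2, mul_div_mul_left _ _ hm]
  exact F₀.div_mem (SetLike.coe_mem _) (SetLike.coe_mem _)

lemma Rat.coe_polar (R : Rat Q P ζ Q₀) (x y : ι → F₀) :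
    ((polar Q₀ x y : F₀) : F) = ζ * polar Q (ratVec P x) (ratVec P y) := by
  simp only [polar, Subfield.coe_sub, R.coe_Q, ratVec_add]
  ring

lemma Rat.sing (R : Rat Q P ζ Q₀) {x : ι → F₀} (h : Q₀ x = 0) : Q (ratVec P x) = 0 := by
  have := R.coe_Q x
  rw [h] at this
  exact (mul_eq_zero.1 this.symm).resolve_left R.ζ_ne

lemma Rat.orth (R : Rat Q P ζ Q₀) {x y : ι → F₀} (h : polar Q₀ x y = 0) :
    polar Q (ratVec P x) (ratVec P y) = 0 := by
  have := R.coe_polar x y
  rw [h] at this
  exact (mul_eq_zero.1 this.symm).resolve_left R.ζ_ne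

lemma Rat.orth_smul (R : Rat Q P ζ Q₀) {x y : ι → F₀} (h : polar Q₀ x y = 0) (k : F) :
    polar Q (ratVec P x) (k • ratVec P y) = 0 := by
  rw [polar_smul_right, R.orth h, smul_zero]

lemma eq_zero_of_orth_rat (hnd : NDPolar Q) {w : ι → F}
    (h : ∀ y : ι → F₀, polar Q w (ratVec P y) = 0) : w = 0 := by
  refine hnd w fun v => ?_
  rw [eq_sum_ratVec (F₀ := F₀) P v, ← QuadraticMap.polarBilin_apply_apply, map_sum]
  exact Finset.sum_eq_zero fun i _ => by
    rw [map_smul, QuadraticMap.polarBilin_apply_apply, h, smul_zero]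

theorem rat_of_structure (hnd : NDPolar Q) (hζ : ζ ≠ 0)
    (hP : IsQuadFormRationalStructure (fun v => ζ * Q v) F₀ P) :
    ∃ Q₀ : QuadraticForm F₀ (ι → F₀), Rat Q P ζ Q₀ := by
  let f : (ι → F₀) → F₀ := fun x => ⟨ζ * Q (ratVec P x), hP _ fun i => (x i).2⟩
  have hpol : ∀ x y, ((polar f x y : F₀) : F) = ζ * polar Q (ratVec P x) (ratVec P y) := fun x y => by
    simp only [polar, f, Subfield.coe_sub, ratVec_add]
    ring
  let Q₀ : QuadraticForm F₀ (ι → F₀) := QuadraticMap.ofPolar f
    (fun a x => Subtype.ext (by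
      simp only [f, ratVec_smul, QuadraticMap.map_smul, smul_eq_mul, Subfield.coe_mul]
      ring))
    (fun x x' y => Subtype.ext (by
      rw [hpol, Subfield.coe_add, hpol, hpol, ratVec_add, polar_add_left, mul_add]))
    (fun a x y => Subtype.ext (by
      simp only [smul_eq_mul, Subfield.coe_mul, hpol, ratVec_smul, polar_smul_left]
      ring))
  refine ⟨Q₀, hnd, fun x hx => ratVec_injective P ?_, hζ, fun x => rfl⟩
  rw [ratVec_zero]
  refine eq_zero_of_orth_rat (P := P) (F₀ := F₀) hnd fun y => ?_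
  have h1 := congrArg Subtype.val (hx y)
  change ((polar f x y : F₀) : F) = 0 at h1
  rw [hpol, mul_eq_zero] at h1
  exact h1.resolve_left hζ

/-- All rational Siegel elements lie in `M`. -/
def Contains (Q : QuadraticForm F (ι → F)) (P : GL ι F) (ζ : F)
    (Q₀ : QuadraticForm F₀ (ι → F₀)) (M : Subgroup (GL ι F)) : Prop :=
  ∀ p w : ι → F₀, Q₀ p = 0 → polar Q₀ p w = 0 → SG Q M (ratVec P p) (ζ • ratVec P w)

/-- The image of a rational vector under a rational Siegel element. -/
lemma Rat.sg_apply (R : Rat Q P ζ Q₀) {p w : ι → F₀} {h : GL ι F}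
    (hh : OmS.IsSg Q h (ratVec P p) (ζ • ratVec P w)) (y : ι → F₀) :
    (h : Matrix ι ι F) *ᵥ ratVec P y = ratVec P
      (y + polar Q₀ y p • w + (-(polar Q₀ y w) - Q₀ w * polar Q₀ y p) • p) := by
  rw [hh, ratVec_add, ratVec_add, ratVec_smul, ratVec_smul, polar_smul_right,
    QuadraticMap.map_smul]
  simp only [smul_eq_mul, Subfield.coe_sub, Subfield.coe_mul, NegMemClass.coe_neg,
    R.coe_polar, R.coe_Q]
  module

/-- The parameter `b` occurs on every totally singular rational pair. -/
def Good (Q : QuadraticForm F (ι → F)) (P : GL ι F) (ζ : F) (Q₀ : QuadraticForm F₀ (ι → F₀))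
    (M : Subgroup (GL ι F)) (b : F) : Prop :=
  ∀ p q : ι → F₀, Q₀ p = 0 → Q₀ q = 0 → polar Q₀ p q = 0 → p ≠ 0 →
    q ∉ Submodule.span F₀ {p} → SG Q M (ratVec P p) ((ζ * b) • ratVec P q)

/-- Moving the second entry, multiplying the parameters. -/
lemma shift (R : Rat Q P ζ Q₀) (hM : M ≤ omegaGL ⇑Q) {p q r x : ι → F₀} {k c : F}
    (hp : Q₀ p = 0) (hr : Q₀ r = 0) (hpq : polar Q₀ p q = 0) (hpr : polar Q₀ p r = 0)
    (hqr : polar Q₀ q r = 0) (hpx : polar Q₀ p x = 0) (hqx : polar Q₀ q x = 1)
    (h : SG Q M (ratVec P p) (k • ratVec P q))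
    (h' : SG Q M (ratVec P x) ((ζ * c) • ratVec P r)) :
    SG Q M (ratVec P p) ((k * c) • ratVec P r) := by
  obtain ⟨t, ht, htx⟩ := h'
  have e1 : (t : Matrix ι ι F) *ᵥ ratVec P p = ratVec P p := by
    rw [htx, R.orth hpx, R.orth_smul hpr]
    simp
  have hB : ζ * polar Q (ratVec P q) (ratVec P x) = 1 := by
    rw [← R.coe_polar, hqx, Subfield.coe_one]
  have e2 : (t : Matrix ι ι F) *ᵥ (k • ratVec P q) - k • ratVec P q = (k * c) • ratVec P r := by
    rw [mulVec_smul, htx, polar_smul_right, R.orth hqr, QuadraticMap.map_smul, R.sing hr]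
    have : polar Q (ratVec P q) (ratVec P x) * (ζ * c) = c := by linear_combination c * hB
    simp only [smul_zero, neg_zero, mul_zero, zero_mul, zero_sub, zero_smul, add_zero, smul_add,
      add_sub_cancel_left, smul_smul, this, mul_comm]
  rw [← e2]
  exact h.diff hM ht (R.sing hp) (R.orth_smul hpq k) e1

end CfsgLib.ClassicalMax.OmSub
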