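/-
Two opposite long root elements generate a group exchanging their lines.
-/
import Cfsg.Agent.Lib.ClassicalMax.OrthSubfieldBase
import Mathlib.GroupTheory.Sylow
set_option autoImplicit false

namespace CfsgLib.ClassicalMax.OmSub

open Matrix Cfsg.Geo QuadraticMap Module
open CfsgLib.Classical.Quad (NDPolar)

variable {ι : Type} [Fintype ι] [DecidableEq ι] {F : Type*} [Field F] [Fintype F]
  {Q : QuadraticForm F (ι → F)} {M : Subgroup (GL ι F)}

omit [Fintype F] in
lemma sg_fix {u w : ι → F} {h : GL ι F} (hh : OmS.IsSg Q h u w) {x : ι → F}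
    (h1 : polar Q x u = 0) (h2 : polar Q x w = 0) : (h : Matrix ι ι F) *ᵥ x = x := by
  rw [hh x, h1, h2]
  simp

omit [Fintype F] in
/-- A long root element has order dividing the characteristic. -/
lemma pow_char_eq_one (p : ℕ) [CharP F p] {u w : ι → F} (hu : Q u = 0) (hw : Q w = 0)
    (huw : polar Q u w = 0) {h : GL ι F} (hh : OmS.IsSg Q h u w) : h ^ p = 1 := by
  have hwu : polar Q w u = 0 := by rw [polar_comm]; exact huw
  have huu := Classical.Quad.polar_singular_self (Q := Q) hu
  have hww := Classical.Quad.polar_singular_self (Q := Q) hw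
  have hfix : ∀ x, (h : Matrix ι ι F) *ᵥ ((h : Matrix ι ι F) *ᵥ x - x) =
      (h : Matrix ι ι F) *ᵥ x - x := fun x => by
    rw [hh x, add_assoc, add_sub_cancel_left, mulVec_add, mulVec_smul, mulVec_smul,
      sg_fix hh hwu hww, sg_fix hh huu huw]
  have hn : ∀ (n : ℕ) x, ((h ^ n : GL ι F) : Matrix ι ι F) *ᵥ x =
      x + (n : F) • ((h : Matrix ι ι F) *ᵥ x - x) := by
    intro n
    induction n with
    | zero => intro x; simp
    | succ n ih =>
      intro x
      rw [pow_succ', gl_mulVec_mul, ih, mulVec_add, mulVec_smul, hfix]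
      push_cast
      module
  refine gl_ext_mulVec fun x => ?_
  rw [hn, CharP.cast_eq_zero, zero_smul, add_zero]
  simp

/-- The opposite lines are exchanged by the group generated by the two root elements. -/
theorem exists_line_swap (hM : M ≤ omegaGL ⇑Q) {u w A B : ι → F} (hu : Q u = 0) (hw : Q w = 0)
    (huw : polar Q u w = 0) (hA : Q A = 0) (hB : Q B = 0) (hAB : polar Q A B = 0)
    (he : SG Q M u w) (hf : SG Q M A B)
    (hκ : polar Q A u * polar Q w B - polar Q A w * polar Q u B ≠ 0) :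
    ∃ g ∈ M, ∃ c : F, c ≠ 0 ∧
      (g : Matrix ι ι F) *ᵥ u = c • (polar Q B u • A - polar Q A u • B) := by
  classical
  obtain ⟨e, heM, hex⟩ := he
  obtain ⟨f, hfM, hfx⟩ := hf
  set κ := polar Q A u * polar Q w B - polar Q A w * polar Q u B with hκdef
  set ua := polar Q A u • w - polar Q A w • u with hua
  set ub := polar Q B u • w - polar Q B w • u with hub
  have huu := Classical.Quad.polar_singular_self (Q := Q) hu
  have hww := Classical.Quad.polar_singular_self (Q := Q) hw
  have hAA := Classical.Quad.polar_singular_self (Q := Q) hA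
  have hBB := Classical.Quad.polar_singular_self (Q := Q) hB
  have hwu : polar Q w u = 0 := by rw [polar_comm]; exact huw
  have hBA : polar Q B A = 0 := by rw [polar_comm]; exact hAB
  have heA : (e : Matrix ι ι F) *ᵥ A = A + ua := by rw [hex, hw, hua]; module
  have heB : (e : Matrix ι ι F) *ᵥ B = B + ub := by rw [hex, hw, hub]; module
  have heu : ∀ a b : F, (e : Matrix ι ι F) *ᵥ (a • w - b • u) = a • w - b • u := fun a b => by
    rw [mulVec_sub, mulVec_smul, mulVec_smul, sg_fix hex hwu hww, sg_fix hex huu huw]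
  have hfA : (f : Matrix ι ι F) *ᵥ A = A := sg_fix hfx hAA hAB
  have hfB : (f : Matrix ι ι F) *ᵥ B = B := sg_fix hfx hBA hBB
  have huaA : polar Q ua A = 0 := by
    rw [hua]
    simp only [polar_sub_left, polar_smul_left, smul_eq_mul, polar_comm Q w A, polar_comm Q u A]
    ring
  have hubB : polar Q ub B = 0 := by
    rw [hub]
    simp only [polar_sub_left, polar_smul_left, smul_eq_mul, polar_comm Q w B, polar_comm Q u B]
    ring
  have huaB : polar Q ua B = κ := by
    rw [hua, hκdef]
    simp only [polar_sub_left, polar_smul_left, smul_eq_mul]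
  have hubA : polar Q ub A = -κ := by
    rw [hub, hκdef]
    simp only [polar_sub_left, polar_smul_left, smul_eq_mul, polar_comm Q w A, polar_comm Q u A,
      polar_comm Q w B, polar_comm Q u B]
    ring
  have hfua : (f : Matrix ι ι F) *ᵥ ua = ua + (-κ) • A := by rw [hfx, huaA, huaB, hB]; module
  have hfub : (f : Matrix ι ι F) *ᵥ ub = ub + (-κ) • B := by rw [hfx, hubB, hubA, hB]; module
  have hua0 : ua ≠ 0 := fun h => hκ (by rw [← huaB, h, polar_zero_left])
  -- equal matrices on the two planes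
  let Pr : GL ι F → Prop := fun g => ∃ α β γ δ : F,
    (g : Matrix ι ι F) *ᵥ A = α • A + γ • ua ∧ (g : Matrix ι ι F) *ᵥ ua = β • A + δ • ua ∧
    (g : Matrix ι ι F) *ᵥ B = α • B + γ • ub ∧ (g : Matrix ι ι F) *ᵥ ub = β • B + δ • ub
  have hPr1 : Pr 1 := ⟨1, 0, 0, 1, by simp, by simp, by simp, by simp⟩
  have hPrm : ∀ g h, Pr g → Pr h → Pr (g * h) := by
    rintro g h ⟨a, b, c, d, g1, g2, g3, g4⟩ ⟨a', b', c', d', h1, h2, h3, h4⟩
    refine ⟨a' * a + c' * b, b' * a + d' * b, a' * c + c' * d, b' * c + d' * d, ?_, ?_, ?_, ?_⟩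
    · rw [gl_mulVec_mul, h1, mulVec_add, mulVec_smul, mulVec_smul, g1, g2]; module
    · rw [gl_mulVec_mul, h2, mulVec_add, mulVec_smul, mulVec_smul, g1, g2]; module
    · rw [gl_mulVec_mul, h3, mulVec_add, mulVec_smul, mulVec_smul, g3, g4]; module
    · rw [gl_mulVec_mul, h4, mulVec_add, mulVec_smul, mulVec_smul, g3, g4]; module
  let N : Subgroup (GL ι F) :=
    { carrier := {g | Pr g}
      one_mem' := hPr1
      mul_mem' := fun {g h} hg hh => hPrm g h hg hh
      inv_mem' := fun {g} hg => by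
        show Pr g⁻¹
        have hpow : ∀ n : ℕ, Pr (g ^ n) := fun n => by
          induction n with
          | zero => rw [pow_zero]; exact hPr1
          | succ n ih => rw [pow_succ]; exact hPrm _ _ ih hg
        have : g⁻¹ = g ^ (orderOf g - 1) := by
          refine inv_eq_of_mul_eq_one_left ?_
          rw [← pow_succ, Nat.sub_add_cancel (orderOf_pos g), pow_orderOf_eq_one]
        rw [this]
        exact hpow _ }
  set G := Subgroup.closure ({e, f} : Set (GL ι F))
  have hGN : G ≤ N := by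
    rw [Subgroup.closure_le]
    rintro g (rfl | rfl)
    · exact ⟨1, 0, 1, 1, by rw [heA]; simp, by rw [hua, heu]; simp, by rw [heB]; simp,
        by rw [hub, heu]; simp⟩
    · exact ⟨1, -κ, 0, 1, by rw [hfA]; simp, by rw [hfua, one_smul]; abel, by rw [hfB]; simp,
        by rw [hfub, one_smul]; abel⟩
  have hGM : G ≤ M := by
    rw [Subgroup.closure_le]
    rintro g (rfl | rfl)
    exacts [heM, hfM]
  obtain ⟨p, hpC⟩ := CharP.exists F
  have hpp : p.Prime := CharP.char_is_prime F p
  haveI : Fact p.Prime := ⟨hpp⟩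
  let e' : G := ⟨e, Subgroup.subset_closure (Or.inl rfl)⟩
  let f' : G := ⟨f, Subgroup.subset_closure (Or.inr rfl)⟩
  have hpg : ∀ g : G, g ^ p = 1 → IsPGroup p (Subgroup.zpowers g) := fun g hg => by
    obtain ⟨i, -, hi⟩ := (Nat.dvd_prime_pow hpp (m := 1)).1
      (by simpa using orderOf_dvd_of_pow_eq_one hg)
    exact IsPGroup.of_card (n := i) (by rw [Nat.card_zpowers, hi])
  obtain ⟨P1, hP1⟩ := (hpg e' (Subtype.ext (pow_char_eq_one p hu hw huw hex))).exists_le_sylow
  obtain ⟨P2, hP2⟩ := (hpg f' (Subtype.ext (pow_char_eq_one p hA hB hAB hfx))).exists_le_sylow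
  obtain ⟨g, hg⟩ := MulAction.exists_smul_eq G P1 P2
  -- the Sylow subgroup through `e` fixes `ua`
  set Pl : Submodule F (ι → F) := Submodule.span F {A, ua} with hPl
  have hstab : ∀ (h : G), ∀ x ∈ Pl, ((h : GL ι F) : Matrix ι ι F) *ᵥ x ∈ Pl := by
    intro h x hx
    obtain ⟨a, b, rfl⟩ := Submodule.mem_span_pair.1 hx
    obtain ⟨α, β, γ, δ, h1, h2, -, -⟩ := hGN h.2
    rw [mulVec_add, mulVec_smul, mulVec_smul, h1, h2]
    exact Submodule.mem_span_pair.2 ⟨a * α + b * β, a * γ + b * δ, by module⟩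
  have hP1fix : ∀ h ∈ (P1 : Subgroup G), ((h : GL ι F) : Matrix ι ι F) *ᵥ ua = ua := by
    letI : MulAction (P1 : Subgroup G) Pl :=
      { smul := fun h x => ⟨(((h : G) : GL ι F) : Matrix ι ι F) *ᵥ x, hstab h x x.2⟩
        one_smul := fun x => Subtype.ext (by
          show (((1 : G) : GL ι F) : Matrix ι ι F) *ᵥ (x : ι → F) = x
          simp)
        mul_smul := fun h k x => Subtype.ext (by
          show ((((h * k : (P1 : Subgroup G)) : G) : GL ι F) : Matrix ι ι F) *ᵥ (x : ι → F) = _
          rw [Subgroup.coe_mul, Subgroup.coe_mul, gl_mulVec_mul]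
          rfl) }
    have hdvd : p ∣ Nat.card Pl := by
      have h := addOrderOf_dvd_natCard (⟨ua, Submodule.subset_span (Or.inr rfl)⟩ : Pl)
      rwa [addOrderOf_eq_prime (p := p) (Subtype.ext (by
          change p • ua = 0
          rw [← Nat.cast_smul_eq_nsmul F, CharP.cast_eq_zero, zero_smul]))
        (fun h => hua0 (congrArg Subtype.val h))] at h
    obtain ⟨b, hb, hb0⟩ := P1.isPGroup'.exists_fixed_point_of_prime_dvd_card_of_fixed_point Pl hdvd
      (a := 0) (fun h => Subtype.ext (mulVec_zero _))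
    obtain ⟨a, c, hac⟩ := Submodule.mem_span_pair.1 b.2
    have h1 : (e : Matrix ι ι F) *ᵥ (b : ι → F) = b :=
      congrArg Subtype.val (hb ⟨e', hP1 (Subgroup.mem_zpowers _)⟩)
    rw [← hac, mulVec_add, mulVec_smul, mulVec_smul, heA, hua, heu, ← hua, smul_add] at h1
    have ha : a = 0 := by
      have : a • ua = 0 := by
        have h2 := sub_eq_zero.2 h1
        rw [← h2]
        abel
      exact (smul_eq_zero.1 this).resolve_right hua0
    rw [ha, zero_smul, zero_add] at hac
    have hc : c ≠ 0 := fun h => hb0 (Subtype.ext (by rw [← hac, h, zero_smul]; rfl))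
    intro h hh
    have h1 : ((h : GL ι F) : Matrix ι ι F) *ᵥ (b : ι → F) = b :=
      congrArg Subtype.val (hb ⟨h, hh⟩)
    rw [← hac, mulVec_smul] at h1
    exact smul_right_injective (ι → F) hc h1
  -- so `g` moves `ua` to the line of `A`
  have hfix : (f : Matrix ι ι F) *ᵥ (((g : GL ι F) : Matrix ι ι F) *ᵥ ua) =
      ((g : GL ι F) : Matrix ι ι F) *ᵥ ua := by
    have hmem : g⁻¹ * f' * g ∈ (P1 : Subgroup G) := by
      have : f' ∈ ((g • P1 : Sylow p G) : Subgroup G) := hg ▸ hP2 (Subgroup.mem_zpowers _)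
      obtain ⟨h, hh, e⟩ := this
      have : g⁻¹ * f' * g = h := by
        rw [← e]
        simp [MulAut.smul_def, mul_assoc]
      rw [this]; exact hh
    have h := congrArg (fun x => ((g : GL ι F) : Matrix ι ι F) *ᵥ x) (hP1fix _ hmem)
    rw [← gl_mulVec_mul, ← Subgroup.coe_mul, ← mul_assoc, ← mul_assoc, mul_inv_cancel, one_mul,
      Subgroup.coe_mul, gl_mulVec_mul] at h
    exact h
  obtain ⟨α, β, γ, δ, -, g2, -, g4⟩ := hGN g.2
  have hδ : δ = 0 := by
    rw [g2, mulVec_add, mulVec_smul, mulVec_smul, hfA, hfua, smul_add, ← add_assoc, smul_smul,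
      add_eq_left] at hfix
    have hA0 : A ≠ 0 := fun h => hκ (by rw [hκdef, h, polar_zero_left, polar_zero_left]; ring)
    exact (mul_eq_zero.1 ((smul_eq_zero.1 hfix).resolve_right hA0)).resolve_right
      (neg_ne_zero.2 hκ)
  rw [hδ, zero_smul, add_zero] at g2 g4
  have hβ : β ≠ 0 := fun h => gl_mulVec_ne_zero (g : GL ι F) hua0 (by rw [g2, h, zero_smul])
  refine ⟨g, hGM g.2, β / κ, div_ne_zero hβ hκ, smul_right_injective (ι → F) hκ ?_⟩
  show κ • _ = κ • _
  have hku : κ • u = polar Q B u • ua - polar Q A u • ub := by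
    rw [hua, hub, hκdef, polar_comm Q w B, polar_comm Q u B]
    module
  rw [← mulVec_smul, hku, mulVec_sub, mulVec_smul, mulVec_smul, g2, g4, smul_smul κ,
    mul_div_cancel₀ _ hκ]
  module

end CfsgLib.ClassicalMax.OmSub
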