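/-
Parameters of rational root elements in an overgroup of an orthogonal subfield group.
-/
import Cfsg.Agent.Lib.ClassicalMax.OrthSubfieldBase
set_option autoImplicit false

namespace CfsgLib.ClassicalMax.OmSub

open Matrix Cfsg.Geo QuadraticMap Module
open CfsgLib.Classical.Quad (NDPolar Frame)

variable {ι : Type} [Fintype ι] [DecidableEq ι] {F : Type*} [Field F] [Fintype F]
  {Q : QuadraticForm F (ι → F)} {F₀ : Subfield F} {P : GL ι F} {ζ : F}
  {Q₀ : QuadraticForm F₀ (ι → F₀)} {M : Subgroup (GL ι F)}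
  (R : Rat Q P ζ Q₀) (hM : M ≤ omegaGL ⇑Q) (hC : Contains Q P ζ Q₀ M)
  (hn : 7 ≤ Fintype.card ι)

include R hM hC

/-- One step along rational Siegel elements. -/
lemma step {p q r : ι → F₀} {k : F} (hp : Q₀ p = 0) (hq : Q₀ q = 0) (hr : Q₀ r = 0)
    (hpq : polar Q₀ p q = 0) (hpr : polar Q₀ p r = 0) (hqr : polar Q₀ q r = 0)
    (hqp : q ∉ Submodule.span F₀ {p}) (hrpq : r ∉ Submodule.span F₀ {p, q})
    (h : SG Q M (ratVec P p) (k • ratVec P q)) : SG Q M (ratVec P p) (k • ratVec P r) := by
  haveI := Fintype.ofFinite F₀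
  obtain ⟨x, hx, hqx, hxo⟩ := exists_partner R.nd₀ ![p, r] hq
    (by intro i; fin_cases i; exacts [hpq, by rw [polar_comm]; exact hqr])
    (by rw [Matrix.range_cons_cons_empty]; exact notMem_span_pair hrpq hqp)
  have h' := hC x r hx (by rw [polar_comm]; exact hxo 1)
  have := shift R hM hp hr hpq hpr hqr (hxo 0) hqx h (c := 1) (by rwa [mul_one])
  rwa [mul_one] at this

include hn

/-- Changing the second entry. -/
lemma right_change {p q r : ι → F₀} {k : F} (hp : Q₀ p = 0) (hp0 : p ≠ 0) (hq : Q₀ q = 0)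
    (hr : Q₀ r = 0) (hpq : polar Q₀ p q = 0) (hpr : polar Q₀ p r = 0)
    (hqp : q ∉ Submodule.span F₀ {p}) (hrp : r ∉ Submodule.span F₀ {p})
    (h : SG Q M (ratVec P p) (k • ratVec P q)) : SG Q M (ratVec P p) (k • ratVec P r) := by
  haveI := Fintype.ofFinite F₀
  have hd : 7 ≤ finrank F₀ (ι → F₀) := by rwa [finrank_fintype_fun_eq_card]
  by_cases hqr : polar Q₀ q r = 0
  · by_cases hrpq : r ∈ Submodule.span F₀ {p, q}
    · obtain ⟨m, hm, hmo, hms⟩ := exists_singular_orth Q₀ ![p, q] (by omega)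
      rw [Matrix.range_cons_cons_empty] at hms
      have hmp : m ∉ Submodule.span F₀ {p} := fun e => hms (Submodule.span_mono (by simp) e)
      have h1 := step R hM hC hp hq hm hpq (hmo 0) (hmo 1) hqp hms h
      obtain ⟨a, b, hab⟩ := Submodule.mem_span_pair.1 hrpq
      have hmr : polar Q₀ m r = 0 := by
        rw [← hab, polar_add_right, polar_smul_right, polar_smul_right, polar_comm Q₀ m p,
          polar_comm Q₀ m q, show polar Q₀ p m = 0 from hmo 0, show polar Q₀ q m = 0 from hmo 1]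
        simp
      refine step R hM hC hp hm hr (hmo 0) hpr hmr hmp (fun hmem => hms ?_) h1
      obtain ⟨c, d, hcd⟩ := Submodule.mem_span_pair.1 hmem
      have hd0 : d ≠ 0 := fun e =>
        hrp (Submodule.mem_span_singleton.2 ⟨c, by rw [← hcd, e, zero_smul, add_zero]⟩)
      refine Submodule.mem_span_pair.2 ⟨d⁻¹ * (a - c), d⁻¹ * b, ?_⟩
      calc (d⁻¹ * (a - c)) • p + (d⁻¹ * b) • q = d⁻¹ • ((a • p + b • q) - c • p) := by module
        _ = m := by rw [hab, ← hcd, add_sub_cancel_left, smul_smul, inv_mul_cancel₀ hd0, one_smul]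
    · exact step R hM hC hp hq hr hpq hpr hqr hqp hrpq h
  · obtain ⟨m, hm, hpm, hqm, hrm, hmp⟩ := exists_singular_orth_three Q₀
      (Classical.Quad.polar_singular_self hp) (by rw [polar_comm]; exact hpq)
      (by rw [polar_comm]; exact hpr) hd
    have hmpq : m ∉ Submodule.span F₀ {p, q} := fun e => by
      obtain ⟨a, b, hab⟩ := Submodule.mem_span_pair.1 e
      have h0 : b * polar Q₀ q r = 0 := by
        rw [polar_comm, ← hab, polar_add_left, polar_smul_left, polar_smul_left, hpr, smul_zero,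
          zero_add, smul_eq_mul] at hrm
        exact hrm
      rw [(mul_eq_zero.1 h0).resolve_right hqr, zero_smul, add_zero] at hab
      exact hmp (Submodule.mem_span_singleton.2 ⟨a, hab⟩)
    have h1 := step R hM hC hp hq hm hpq hpm hqm hqp hmpq h
    refine step R hM hC hp hm hr hpm hpr (by rw [polar_comm]; exact hrm) hmp (fun hmem => hqr ?_) h1
    obtain ⟨a, b, hab⟩ := Submodule.mem_span_pair.1 hmem
    rw [← hab, polar_add_right, polar_smul_right, polar_smul_right, hqm, polar_comm Q₀ q p, hpq,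
      smul_zero, smul_zero, add_zero]

omit hn in
/-- Exchanging the entries. -/
lemma flip_pair {p q : ι → F₀} {k : F} (hp : Q₀ p = 0) (hq : Q₀ q = 0)
    (h : SG Q M (ratVec P p) (k • ratVec P q)) :
    SG Q M (ratVec P q) (k • ratVec P (-p)) := by
  have h1 := h.swap (R.sing hp) (by rw [QuadraticMap.map_smul, R.sing hq, smul_zero])
  rw [← SG.congr_smul, ← ratVec_neg] at h1
  exact h1

/-- A parameter occurring on one pair occurs on all. -/
lemma good_of_pair {p q : ι → F₀} {b : F} (hp : Q₀ p = 0) (hq : Q₀ q = 0)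
    (hpq : polar Q₀ p q = 0) (hp0 : p ≠ 0) (hqp : q ∉ Submodule.span F₀ {p})
    (h : SG Q M (ratVec P p) ((ζ * b) • ratVec P q)) : Good Q P ζ Q₀ M b := by
  haveI := Fintype.ofFinite F₀
  intro p' q' hp' hq' hpq' hp0' hqp'
  obtain ⟨m, hm, hmo, hms⟩ := exists_singular_orth Q₀ ![p, p']
    (by rw [finrank_fintype_fun_eq_card]; omega)
  rw [Matrix.range_cons_cons_empty] at hms
  have hm0 : m ≠ 0 := fun e => hms (by rw [e]; exact Submodule.zero_mem _)
  have hmp : m ∉ Submodule.span F₀ {p} := fun e => hms (Submodule.span_mono (by simp) e)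
  have hmp' : m ∉ Submodule.span F₀ {p'} := fun e => hms (Submodule.span_mono (by simp) e)
  have flipind : ∀ {a c : ι → F₀}, a ≠ 0 → c ∉ Submodule.span F₀ {a} →
      -a ∉ Submodule.span F₀ {c} := by
    intro a c ha hc hmem
    obtain ⟨d, hd⟩ := Submodule.mem_span_singleton.1 hmem
    have hd0 : d ≠ 0 := fun e => ha (neg_eq_zero.1 (by rw [← hd, e, zero_smul]))
    exact hc (Submodule.mem_span_singleton.2 ⟨-d⁻¹, by
      rw [neg_smul, ← smul_neg, ← hd, smul_smul, inv_mul_cancel₀ hd0, one_smul]⟩)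
  have hnp : Q₀ (-p) = 0 := by rw [QuadraticMap.map_neg, hp]
  have h1 := right_change R hM hC hn hp hp0 hq hm hpq (hmo 0) hqp hmp h
  have h2 := flip_pair R hM hC hp hm h1
  have h3 := right_change R hM hC hn hm hm0 hnp hp'
    (by rw [polar_neg_right, polar_comm, show polar Q₀ p m = 0 from hmo 0, neg_zero]) (by rw [polar_comm]; exact hmo 1)
    (flipind hp0 hmp) (fun e => flipind hp0' hmp' (Submodule.neg_mem _ e)) h2
  have h4 := flip_pair R hM hC hm hp' h3
  refine right_change R hM hC hn hp' hp0' (by rw [QuadraticMap.map_neg, hm]) hq'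
    (by rw [polar_neg_right]; exact neg_eq_zero.2 (hmo 1)) hpq' (fun e => hmp' ?_) hqp' h4
  simpa using Submodule.neg_mem _ e

/-- The parameters are closed under products. -/
lemma good_mul {b c : F} (hb : Good Q P ζ Q₀ M b) (hc : Good Q P ζ Q₀ M c) :
    Good Q P ζ Q₀ M (b * c) := by
  haveI := Fintype.ofFinite F₀
  intro p r hp hr hpr hp0 hrp
  obtain ⟨q, hq, hqo, hqs⟩ := exists_singular_orth Q₀ ![p, r]
    (by rw [finrank_fintype_fun_eq_card]; omega)
  rw [Matrix.range_cons_cons_empty] at hqs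
  have hqp : q ∉ Submodule.span F₀ {p} := fun e => hqs (Submodule.span_mono (by simp) e)
  obtain ⟨x, hx, hqx, hxo⟩ := exists_partner R.nd₀ ![p, r] hq hqo
    (by rw [Matrix.range_cons_cons_empty]; exact hqs)
  have hqr : polar Q₀ q r = 0 := by rw [polar_comm]; exact hqo 1
  have hxr : r ∉ Submodule.span F₀ {x} := fun e => by
    obtain ⟨d, hd⟩ := Submodule.mem_span_singleton.1 e
    rw [← hd, polar_smul_right, hqx, smul_eq_mul, mul_one] at hqr
    rw [← hd, hqr, zero_smul] at hrp
    exact hrp (Submodule.zero_mem _)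
  have hx0 : x ≠ 0 := fun e => one_ne_zero (α := F₀) (by rw [← hqx, e, polar_zero_right])
  have h := shift R hM hp hr (hqo 0) hpr hqr (hxo 0) hqx
    (hb p q hp hq (hqo 0) hp0 hqp) (hc x r hx hr (by rw [polar_comm]; exact hxo 1) hx0 hxr)
  rwa [mul_assoc] at h

/-- A parameter outside the subfield gives all. -/
lemma good_all (hsimple : IsSimpleOrder (Subalgebra F₀ F)) {b : F} (hbF : b ∉ F₀)
    (hb : Good Q P ζ Q₀ M b) : ∀ c, Good Q P ζ Q₀ M c := by
  have hC' : ∀ c : F₀, Good Q P ζ Q₀ M (c : F) := fun c p q hp _ hpq _ _ => by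
    have := hC p (c • q) hp (by rw [polar_smul_right, hpq, smul_zero])
    rwa [ratVec_smul, smul_smul] at this
  let K : Subalgebra F₀ F :=
    { carrier := {b | Good Q P ζ Q₀ M b}
      mul_mem' := fun ha hc => good_mul R hM hC hn ha hc
      one_mem' := by simpa using hC' 1
      add_mem' := fun {a c} ha hc p q hp hq h h0 h1 => by
        rw [mul_add, add_smul]
        exact (ha p q hp hq h h0 h1).add (R.sing hp) (hc p q hp hq h h0 h1) (R.orth_smul h _)
          (R.orth_smul h _)
      zero_mem' := by simpa using hC' 0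
      algebraMap_mem' := hC' }
  intro c
  rcases hsimple.eq_bot_or_eq_top K with h | h
  · have : b ∈ K := hb
    rw [h, Algebra.mem_bot] at this
    obtain ⟨d, hd⟩ := this
    exact absurd (hd ▸ d.2 : b ∈ F₀) hbF
  · have : c ∈ K := h ▸ Algebra.mem_top
    exact this

/-- Rational singular points have full root groups once all parameters occur. -/
lemma mem_SS (hall : ∀ c, Good Q P ζ Q₀ M c) {p : ι → F₀} (hp : Q₀ p = 0) (hp0 : p ≠ 0) :
    ratVec P p ∈ OmS.SS Q M := by
  haveI := Fintype.ofFinite F₀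
  have hQp := R.sing hp
  refine ⟨hQp, fun w hw => ?_⟩
  let S : AddSubgroup (ι → F) :=
    { carrier := {w | polar Q (ratVec P p) w = 0 ∧ SG Q M (ratVec P p) w}
      zero_mem' := ⟨polar_zero_right _ _, by simpa using SG.self_smul (Q := Q) (M := M) hQp 0⟩
      add_mem' := fun {a c} ha hc => ⟨by rw [polar_add_right, ha.1, hc.1, add_zero],
        ha.2.add hQp hc.2 ha.1 hc.1⟩
      neg_mem' := fun {a} ha => ⟨by rw [polar_neg_right, ha.1, neg_zero], ha.2.neg hQp ha.1⟩ }
  have hsing : ∀ (d : F) (q : ι → F₀), Q₀ q = 0 → polar Q₀ p q = 0 → d • ratVec P q ∈ S := by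
    intro d q hq hpq
    refine ⟨R.orth_smul hpq d, ?_⟩
    by_cases h : q ∈ Submodule.span F₀ {p}
    · obtain ⟨c, rfl⟩ := Submodule.mem_span_singleton.1 h
      rw [ratVec_smul, smul_smul]
      exact SG.self_smul hQp _
    · have := hall (d / ζ) p q hp hq hpq hp0 h
      rwa [mul_div_cancel₀ d R.ζ_ne] at this
  have horth : ∀ (d : F) (z : ι → F₀), polar Q₀ p z = 0 → d • ratVec P z ∈ S := by
    intro d z hpz
    rcases eq_or_ne (Q₀ z) 0 with hz | hz
    · exact hsing d z hz hpz
    obtain ⟨s, hQs, hps, hQzs⟩ := exists_split_orth R.nd₀ hp hpz hz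
      (by rwa [finrank_fintype_fun_eq_card])
    have := S.add_mem (hsing d (z - s) hQzs (by rw [polar_sub_right, hpz, hps, sub_zero]))
      (hsing d s hQs hps)
    rwa [← smul_add, ← ratVec_add, sub_add_cancel] at this
  obtain ⟨x, hx, hpx, -⟩ := exists_partner R.nd₀ ![(0 : ι → F₀)] hp
    (fun i => by fin_cases i; exact polar_zero_left _ _) (by
      rw [Matrix.range_cons, Matrix.range_empty, Set.union_empty, Submodule.span_zero_singleton]
      simpa using hp0)
  set cc := fun i => (((P⁻¹ : GL ι F) : Matrix ι ι F) *ᵥ w) i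
  let e : ι → ι → F₀ := fun i => Pi.single i 1
  have hsum : w = ∑ i, cc i • ratVec P (e i) := eq_sum_ratVec P w
  have hzero : ∑ i, cc i * ((polar Q₀ p (e i) : F₀) : F) = 0 := by
    have h := congrArg (fun v => ζ * polarBilin Q (ratVec P p) v) hsum
    simp only [map_sum, map_smul, polarBilin_apply_apply, smul_eq_mul, hw, mul_zero,
      Finset.mul_sum] at h
    rw [h]
    exact Finset.sum_congr rfl fun i _ => by rw [R.coe_polar]; ring
  have hmem : w ∈ S := by
    have hw' : w = ∑ i, cc i • ratVec P (e i - polar Q₀ p (e i) • x) := by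
      simp only [ratVec_sub, ratVec_smul, smul_sub, Finset.sum_sub_distrib, smul_smul,
        ← Finset.sum_smul, hzero, zero_smul, sub_zero]
      exact hsum
    rw [hw']
    exact S.sum_mem fun i _ => horth _ _ (by
      rw [polar_sub_right, polar_smul_right, hpx, smul_eq_mul, mul_one, sub_self])
  exact hmem.2

end CfsgLib.ClassicalMax.OmSub
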