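/-
Orthogonal subfield groups are maximal in `Ω`.
-/
import Cfsg.Agent.Lib.ClassicalMax.OrthSubfieldGood
import Cfsg.Agent.Lib.ClassicalMax.OrthLines
set_option autoImplicit false

namespace CfsgLib.ClassicalMax.OmSub

open Matrix Cfsg.Geo QuadraticMap Module
open CfsgLib.Classical.Quad (NDPolar Frame)

variable {ι : Type} [Fintype ι] [DecidableEq ι] {F : Type*} [Field F] [Fintype F]
  {Q : QuadraticForm F (ι → F)} {F₀ : Subfield F} {P : GL ι F} {ζ : F}
  {Q₀ : QuadraticForm F₀ (ι → F₀)} {M : Subgroup (GL ι F)}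
  (R : Rat Q P ζ Q₀) (hn : 7 ≤ Fintype.card ι)

include R hn

/-- The singular rational vectors span. -/
lemma eq_top_of_singular₀ {S : Submodule F₀ (ι → F₀)} (h : ∀ y, Q₀ y = 0 → y ∈ S) : S = ⊤ := by
  haveI := Fintype.ofFinite F₀
  obtain ⟨⟨Fr⟩, -⟩ := OmE.exists_frame R.nd₀ (by omega)
  exact Asch.eq_top_of_singular R.nd₀ Fr h

/-- An isometry moving every singular rational point to a rational one lies in the subfield group. -/
lemma mem_subfield_of_singular {g : GL ι F}
    (h : ∀ y : ι → F₀, Q₀ y = 0 → ∃ (l : F) (r : ι → F₀),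
      (g : Matrix ι ι F) *ᵥ ratVec P y = l • ratVec P r) : g ∈ subfieldSubgroup F₀ P := by
  classical
  haveI := Fintype.ofFinite F₀
  choose l r hr using h
  have hl0 : ∀ y (hy : Q₀ y = 0), y ≠ 0 → l y hy ≠ 0 := fun y hy hy0 e =>
    gl_mulVec_ne_zero g (ratVec_ne_zero P hy0) (by rw [hr y hy, e, zero_smul])
  have hindep : ∀ x y (hx : Q₀ x = 0) (hy : Q₀ y = 0), x ≠ 0 → y ∉ Submodule.span F₀ {x} →
      polar Q₀ x y = 0 → l x hx / l y hy ∈ F₀ := by
    intro x y hx hy hx0 hyx hxy
    have hy0 : y ≠ 0 := fun e => hyx (e ▸ Submodule.zero_mem _)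
    have hs : Q₀ (x + y) = 0 := by rw [QuadraticMap.map_add (⇑Q₀), hx, hy, hxy]; simp
    have hrx0 : r x hx ≠ 0 := fun e => gl_mulVec_ne_zero g (ratVec_ne_zero P hx0)
      (by rw [hr x hx, e, ratVec_zero, smul_zero])
    refine coeff_ratio P (a := r x hx) (b := r y hy) (c := r (x + y) hs) (fun hmem => ?_) hrx0
      (hl0 y hy hy0) (m := l (x + y) hs) (by rw [← hr, ← hr, ← hr, ← mulVec_add, ← ratVec_add])
    obtain ⟨d, hd⟩ := Submodule.mem_span_singleton.1 hmem
    -- the images would be dependent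
    have h1 : (l x hx) • ratVec P y = (l y hy * (d : F)) • ratVec P x := gl_mulVec_injective g (by
      simp only [mulVec_smul, hr x hx, hr y hy, ← hd, ratVec_smul, smul_smul]
      module)
    have h2 : (1 : F) • ratVec P (0 : ι → F₀) + (1 : F) • ratVec P y
        = (l y hy * (d : F) / l x hx) • ratVec P x := by
      rw [ratVec_zero, smul_zero, zero_add, one_smul, div_eq_mul_inv,
        mul_comm _ ((l x hx)⁻¹), mul_smul, ← h1, smul_smul, inv_mul_cancel₀ (hl0 x hx hx0),
        one_smul]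
    obtain ⟨k, hk⟩ : ∃ k : F₀, (k : F) = l y hy * (d : F) / l x hx := by
      simp only [ratVec, ← mulVec_smul, ← mulVec_add] at h2
      obtain ⟨i, hi⟩ := Function.ne_iff.1 hx0
      have h3 := congrFun (gl_mulVec_injective P h2) i
      simp only [Pi.add_apply, Pi.smul_apply, Pi.zero_apply, smul_eq_mul, one_mul,
        ZeroMemClass.coe_zero, zero_add] at h3
      have hxi : (x i : F) ≠ 0 := fun e => hi (Subtype.ext e)
      exact ⟨y i / x i, by rw [Subfield.coe_div, h3]; field_simp⟩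
    rw [ratVec_zero, smul_zero, zero_add, one_smul, ← hk, ← ratVec_smul] at h2
    exact hyx (Submodule.mem_span_singleton.2 ⟨k, (ratVec_injective P h2).symm⟩)
  have hall : ∀ x y (hx : Q₀ x = 0) (hy : Q₀ y = 0), x ≠ 0 → y ≠ 0 → l x hx / l y hy ∈ F₀ := by
    intro x y hx hy hx0 hy0
    obtain ⟨z, hz, hzo, hzs⟩ := exists_singular_orth Q₀ ![x, y]
      (by rw [finrank_fintype_fun_eq_card]; omega)
    rw [Matrix.range_cons_cons_empty] at hzs
    have hz0 : z ≠ 0 := fun e => hzs (e ▸ Submodule.zero_mem _)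
    have h1 := hindep x z hx hz hx0 (fun e => hzs (Submodule.span_mono (by simp) e)) (hzo 0)
    have h2 := hindep y z hy hz hy0 (fun e => hzs (Submodule.span_mono (by simp) e)) (hzo 1)
    have := F₀.div_mem h1 h2
    rwa [div_div_div_cancel_right₀ (hl0 z hz hz0)] at this
  obtain ⟨x₀, hx₀, -, hx₀s⟩ := exists_singular_orth Q₀ (k := 0) ![]
    (by rw [finrank_fintype_fun_eq_card]; omega)
  have hx₀0 : x₀ ≠ 0 := fun e => hx₀s (e ▸ Submodule.zero_mem _)
  set l₀ := l x₀ hx₀ with hl₀
  let S : Submodule F₀ (ι → F₀) :=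
    { carrier := {y | ∃ s : ι → F₀, (g : Matrix ι ι F) *ᵥ ratVec P y = l₀ • ratVec P s}
      zero_mem' := ⟨0, by simp [ratVec_zero]⟩
      add_mem' := by
        rintro a b ⟨s, hs⟩ ⟨t, ht⟩
        exact ⟨s + t, by rw [ratVec_add, mulVec_add, hs, ht, ratVec_add, smul_add]⟩
      smul_mem' := by
        rintro c a ⟨s, hs⟩
        exact ⟨c • s, by rw [ratVec_smul, mulVec_smul, hs, ratVec_smul, smul_comm]⟩ }
  have hS : S = ⊤ := eq_top_of_singular₀ R hn fun y hy => by
    rcases eq_or_ne y 0 with rfl | hy0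
    · exact S.zero_mem
    refine ⟨(⟨l y hy / l x₀ hx₀, hall y x₀ hy hx₀ hy0 hx₀0⟩ : F₀) • r y hy, ?_⟩
    rw [ratVec_smul, smul_smul, hr y hy, mul_div_cancel₀ _ (hl0 x₀ hx₀ hx₀0)]
  refine mem_subfieldSubgroup_of_forall P fun y => ⟨l₀, ?_⟩
  have h : y ∈ S := by rw [hS]; exact Submodule.mem_top
  exact (h : ∃ s : ι → F₀, (g : Matrix ι ι F) *ᵥ ratVec P y = l₀ • ratVec P s)

/-- A vector whose products with rational singular pairs are rational is rational. -/
lemma exists_pair {u : ι → F} (hu : u ≠ 0) (hirr : ∀ (l : F) (r : ι → F₀), u ≠ l • ratVec P r) :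
    ∃ a b : ι → F₀, Q₀ a = 0 ∧ Q₀ b = 0 ∧ polar Q₀ a b = 0 ∧ polar Q u (ratVec P b) ≠ 0 ∧
      polar Q u (ratVec P a) / polar Q u (ratVec P b) ∉ F₀ := by
  classical
  haveI := Fintype.ofFinite F₀
  by_contra hcon
  push Not at hcon
  set φ : (ι → F₀) → F := fun y => ζ * polar Q u (ratVec P y) with hφ
  have hadd : ∀ a b, φ (a + b) = φ a + φ b := fun a b => by
    simp only [hφ, ratVec_add, polar_add_right, mul_add]
  have hsmul : ∀ (c : F₀) a, φ (c • a) = c * φ a := fun c a => by
    simp only [hφ, ratVec_smul, polar_smul_right, smul_eq_mul]; ring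
  have hrat : ∀ a b, Q₀ a = 0 → Q₀ b = 0 → polar Q₀ a b = 0 → φ b ≠ 0 → φ a / φ b ∈ F₀ := by
    intro a b ha hb hab hne
    simp only [hφ, mul_div_mul_left _ _ R.ζ_ne]
    exact hcon a b ha hb hab fun e => hne (by simp only [hφ, e, mul_zero])
  obtain ⟨b₀, hb₀, hb₀φ⟩ : ∃ b₀, Q₀ b₀ = 0 ∧ φ b₀ ≠ 0 := by
    by_contra h
    push Not at h
    let S : Submodule F₀ (ι → F₀) :=
      { carrier := {y | φ y = 0}
        zero_mem' := by simp [hφ, ratVec_zero]
        add_mem' := fun {a b} (ha : φ a = 0) (hb : φ b = 0) => by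
          show φ (a + b) = 0
          rw [hadd, ha, hb, add_zero]
        smul_mem' := fun c a (ha : φ a = 0) => by
          show φ (c • a) = 0
          rw [hsmul, ha, mul_zero] }
    have hS : S = ⊤ := eq_top_of_singular₀ R hn h
    refine hu (eq_zero_of_orth_rat (P := P) (F₀ := F₀) R.nd fun y => ?_)
    have : y ∈ S := hS ▸ Submodule.mem_top
    exact (mul_eq_zero.1 this).resolve_left R.ζ_ne
  have hall : ∀ a, Q₀ a = 0 → φ a / φ b₀ ∈ F₀ := by
    intro a ha
    obtain ⟨c, hc, hco, hcs⟩ := exists_singular_orth Q₀ ![a, b₀]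
      (by rw [finrank_fintype_fun_eq_card]; omega)
    obtain ⟨d, hd, hcd, hdo⟩ := exists_partner R.nd₀ ![a, b₀] hc hco hcs
    have hac : polar Q₀ a c = 0 := hco 0
    have hbc : polar Q₀ b₀ c = 0 := hco 1
    have hada : polar Q₀ a d = 0 := hdo 0
    have hbd : polar Q₀ b₀ d = 0 := hdo 1
    by_cases hφc : φ c = 0
    · by_cases hφd : φ d = 0
      · set t := -(polar Q₀ a b₀)
        have := hrat (a + t • d) (b₀ + c) (by
            rw [Classical.Quad.Q_comb1, ha, hd, hada]; ring)
          (by rw [QuadraticMap.map_add (⇑Q₀), hb₀, hc, hbc]; simp)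
          (by
            rw [polar_add_left, polar_smul_left, polar_add_right, polar_add_right, hac,
              polar_comm Q₀ d b₀, hbd, polar_comm Q₀ d c, hcd, smul_eq_mul]
            simp [t])
          (by rwa [hadd, hφc, add_zero])
        rwa [hadd, hadd, hsmul, hφc, hφd, mul_zero, add_zero, add_zero] at this
      · rw [← div_mul_div_cancel₀ hφd]
        exact F₀.mul_mem (hrat a d ha hd hada hφd)
          (hrat d b₀ hd hb₀ (by rw [polar_comm]; exact hbd) hb₀φ)
    · rw [← div_mul_div_cancel₀ hφc]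
      exact F₀.mul_mem (hrat a c ha hc hac hφc)
        (hrat c b₀ hc hb₀ (by rw [polar_comm]; exact hbc) hb₀φ)
  let S : Submodule F₀ (ι → F₀) :=
    { carrier := {y | φ y / φ b₀ ∈ F₀}
      zero_mem' := by simp [hφ, ratVec_zero]
      add_mem' := fun {a b} ha hb => by
        show φ (a + b) / φ b₀ ∈ F₀
        rw [hadd, add_div]; exact F₀.add_mem ha hb
      smul_mem' := fun c a ha => by
        show φ (c • a) / φ b₀ ∈ F₀
        rw [hsmul, mul_div_assoc]; exact F₀.mul_mem c.2 ha }
  have hS : S = ⊤ := eq_top_of_singular₀ R hn hall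
  let β : (ι → F₀) →ₗ[F₀] F₀ :=
    { toFun := fun y => ⟨φ y / φ b₀, (hS ▸ Submodule.mem_top : y ∈ S)⟩
      map_add' := fun a b => Subtype.ext (by simp [hadd, add_div])
      map_smul' := fun c a => Subtype.ext (by simp [hsmul, mul_div_assoc]) }
  obtain ⟨w, hw⟩ := Classical.Quad.exists_polar R.nd₀ β
  refine hirr (φ b₀) w (sub_eq_zero.1 (eq_zero_of_orth_rat (P := P) (F₀ := F₀) R.nd fun y => ?_))
  have h1 : ((polar Q₀ w y : F₀) : F) = φ y / φ b₀ := congrArg Subtype.val (hw y)
  rw [R.coe_polar, eq_div_iff hb₀φ] at h1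
  rw [polar_sub_left, polar_smul_left, smul_eq_mul]
  have h2 : ζ * (polar Q u (ratVec P y) - φ b₀ * polar Q (ratVec P w) (ratVec P y)) = 0 := by
    simp only [hφ] at h1 ⊢
    linear_combination -h1
  exact (mul_eq_zero.1 h2).resolve_left R.ζ_ne

/-- Only the rational point itself is orthogonal to all singular points orthogonal to it. -/
lemma eq_smul_of_orth_perp {x : ι → F₀} (hx : Q₀ x = 0) (hx0 : x ≠ 0) {w : ι → F}
    (h : ∀ y, Q₀ y = 0 → polar Q₀ x y = 0 → polar Q w (ratVec P y) = 0) :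
    ∃ c : F, w = c • ratVec P x := by
  classical
  haveI := Fintype.ofFinite F₀
  obtain ⟨x', hx', hxx', -⟩ := exists_partner R.nd₀ ![(0 : ι → F₀)] hx
    (fun i => by fin_cases i; exact polar_zero_left _ _) (by
      rw [Matrix.range_cons, Matrix.range_empty, Set.union_empty, Submodule.span_zero_singleton]
      simpa using hx0)
  refine ⟨ζ * polar Q w (ratVec P x'),
    sub_eq_zero.1 (eq_zero_of_orth_rat (P := P) (F₀ := F₀) R.nd ?_)⟩
  set w' := w - (ζ * polar Q w (ratVec P x')) • ratVec P x with hw'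
  have hB : ζ * polar Q (ratVec P x) (ratVec P x') = 1 := by
    rw [← R.coe_polar, hxx', Subfield.coe_one]
  let S : Submodule F₀ (ι → F₀) :=
    { carrier := {y | polar Q w' (ratVec P y) = 0}
      zero_mem' := by simp [ratVec_zero]
      add_mem' := fun {a b} (ha : _ = 0) (hb : _ = 0) => by
        show polar Q w' (ratVec P (a + b)) = 0
        rw [ratVec_add, polar_add_right, ha, hb, add_zero]
      smul_mem' := fun c a (ha : _ = 0) => by
        show polar Q w' (ratVec P (c • a)) = 0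
        rw [ratVec_smul, polar_smul_right, ha, smul_zero] }
  have hxp : x' ∈ S := by
    show polar Q w' (ratVec P x') = 0
    rw [hw', polar_sub_left, polar_smul_left, smul_eq_mul]
    linear_combination -(polar Q w (ratVec P x')) * hB
  have hperp : ∀ y, Q₀ y = 0 → polar Q₀ x y = 0 → y ∈ S := fun y hy hxy => by
    show polar Q w' (ratVec P y) = 0
    rw [hw', polar_sub_left, polar_smul_left, h y hy hxy, R.orth hxy, smul_zero, sub_zero]
  have hS : S = ⊤ := eq_top_of_singular₀ R hn fun y hy => by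
    set k := polar Q₀ x y
    set z := y - k • x' with hzdef
    have hxz : polar Q₀ x z = 0 := by
      rw [hzdef, polar_sub_right, polar_smul_right, hxx', smul_eq_mul, mul_one, sub_self]
    have hzS : z ∈ S := by
      rcases eq_or_ne (Q₀ z) 0 with hz | hz
      · exact hperp z hz hxz
      obtain ⟨s, hs, hxs, hzs⟩ := exists_split_orth R.nd₀ hx hxz hz
        (by rwa [finrank_fintype_fun_eq_card])
      have := S.add_mem (hperp (z - s) hzs (by rw [polar_sub_right, hxz, hxs, sub_zero]))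
        (hperp s hs hxs)
      rwa [sub_add_cancel] at this
    have := S.add_mem hzS (S.smul_mem k hxp)
    rwa [hzdef, sub_add_cancel] at this
  intro y
  exact (hS ▸ Submodule.mem_top : y ∈ S)

/-- An element outside the subfield group yields a new parameter. -/
lemma exists_good (hM : M ≤ omegaGL ⇑Q) (hC : Contains Q P ζ Q₀ M) {g : GL ι F} (hgM : g ∈ M)
    (hg : g ∉ subfieldSubgroup F₀ P) : ∃ b, b ∉ F₀ ∧ Good Q P ζ Q₀ M b := by
  classical
  haveI := Fintype.ofFinite F₀
  have hζ := R.ζ_ne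
  obtain ⟨x, hx, hxirr⟩ : ∃ x : ι → F₀, Q₀ x = 0 ∧ ∀ (l : F) (r : ι → F₀),
      (g : Matrix ι ι F) *ᵥ ratVec P x ≠ l • ratVec P r := by
    by_contra hcon
    push Not at hcon
    exact hg (mem_subfield_of_singular R hn hcon)
  set u := (g : Matrix ι ι F) *ᵥ ratVec P x with hu
  have hx0 : x ≠ 0 := fun e => hxirr 0 0 (by simp [hu, e, ratVec_zero])
  have hu0 : u ≠ 0 := gl_mulVec_ne_zero g (ratVec_ne_zero P hx0)
  obtain ⟨a, b, ha, hb, hab, hb0, hγ⟩ := exists_pair R hn hu0 hxirr
  set γ := -(polar Q u (ratVec P a) / polar Q u (ratVec P b)) with hγdef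
  have hγF : γ ∉ F₀ := fun h => hγ (by simpa [hγdef] using F₀.neg_mem h)
  have ha0 : a ≠ 0 := fun e => hγ (by simp [e, ratVec_zero])
  have hbnz : b ≠ 0 := fun e => hb0 (by simp [e, ratVec_zero])
  have hba : b ∉ Submodule.span F₀ {a} := fun hmem => hγ (by
    obtain ⟨d, rfl⟩ := Submodule.mem_span_singleton.1 hmem
    rw [ratVec_smul, polar_smul_right, smul_eq_mul]
    have hd : (d : F) ≠ 0 := fun e => hb0 (by rw [ratVec_smul, e, zero_smul, polar_zero_right])
    have hA : polar Q u (ratVec P a) ≠ 0 := fun e => hb0 (by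
      rw [ratVec_smul, polar_smul_right, e, smul_zero])
    rw [show polar Q u (ratVec P a) / ((d : F) * polar Q u (ratVec P a)) = (d : F)⁻¹ by field_simp]
    exact F₀.inv_mem d.2)
  set z := ratVec P a + γ • ratVec P b with hz
  have hQu : Q u = 0 := by rw [hu, OmS.omega_iso (hM hgM), R.sing hx]
  -- move a rational point to `z`
  obtain ⟨g1, hg1, c, hc, hg1x⟩ : ∃ g1 ∈ M, ∃ c : F, c ≠ 0 ∧
      (g1 : Matrix ι ι F) *ᵥ ratVec P x = c • z := by
    by_cases hall : ∀ y, Q₀ y = 0 → polar Q₀ x y = 0 →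
        polar Q ((g : Matrix ι ι F) *ᵥ ratVec P y) z = 0
    · obtain ⟨c, hc⟩ := eq_smul_of_orth_perp R hn hx hx0
        (w := ((g⁻¹ : GL ι F) : Matrix ι ι F) *ᵥ z) fun y hy hxy => by
          rw [← OmS.omega_polar (hM hgM), gl_mulVec_inv_mulVec, polar_comm]
          exact hall y hy hxy
      have hzu : z = c • u := by
        rw [hu, ← mulVec_smul, ← hc, gl_mulVec_inv_mulVec]
      have hz0 : z ≠ 0 := fun e => by
        have h1 : (1 : F) • ratVec P a + γ • ratVec P b = (0 : F) • ratVec P a := by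
          rw [one_smul, zero_smul]; exact e
        rcases eq_or_ne γ 0 with h | h
        · exact hγF (h ▸ F₀.zero_mem)
        · exact hγF (by simpa using F₀.inv_mem (coeff_ratio P hba ha0 h h1))
      have hc0 : c ≠ 0 := fun e => hz0 (by rw [hzu, e, zero_smul])
      exact ⟨g, hgM, c⁻¹, inv_ne_zero hc0, by rw [hzu, smul_smul, inv_mul_cancel₀ hc0, one_smul]⟩
    push Not at hall
    obtain ⟨y, hy, hxy, hne⟩ := hall
    set w := ζ • (g : Matrix ι ι F) *ᵥ ratVec P y with hw
    have hQw : Q w = 0 := by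
      rw [hw, QuadraticMap.map_smul, OmS.omega_iso (hM hgM), R.sing hy, smul_zero]
    have huw : polar Q u w = 0 := by
      rw [hw, hu, polar_smul_right, OmS.omega_polar (hM hgM), R.orth hxy, smul_zero]
    have he : SG Q M u w := by
      rw [hw, hu, ← mulVec_smul]
      exact (hC x y hx hxy).conj hM hgM
    have hbe : -polar Q u (ratVec P b) ≠ 0 := neg_ne_zero.2 hb0
    have hzb : polar Q u (ratVec P b) • z
        = polar Q u (ratVec P b) • ratVec P a - polar Q u (ratVec P a) • ratVec P b := by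
      rw [hz, smul_add, smul_smul, hγdef, mul_neg, mul_div_cancel₀ _ hb0, neg_smul, sub_eq_add_neg]
    obtain ⟨g', hg', c, hc, hgc⟩ := exists_line_swap hM (A := ratVec P a) (B := ζ • ratVec P b)
      hQu hQw huw (R.sing ha) (by rw [QuadraticMap.map_smul, R.sing hb, smul_zero])
      (R.orth_smul hab ζ) he (hC a b ha hab) (fun h => hne (by
        have hzy : polar Q u (ratVec P b) * polar Q ((g : Matrix ι ι F) *ᵥ ratVec P y) z = 0 := by
          rw [← smul_eq_mul, ← polar_smul_right, hzb, polar_sub_right, polar_smul_right,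
            polar_smul_right]
          simp only [smul_eq_mul]
          rw [hw] at h
          simp only [polar_smul_left, polar_smul_right, smul_eq_mul,
            polar_comm Q (ratVec P a) u,
            polar_comm Q (ratVec P a) ((g : Matrix ι ι F) *ᵥ ratVec P y)] at h
          refine (mul_eq_zero.1 (?_ : ζ * ζ * _ = 0)).resolve_left (mul_ne_zero hζ hζ)
          linear_combination -h
        exact (mul_eq_zero.1 hzy).resolve_left hb0))
    refine ⟨g' * g, M.mul_mem hg' hgM, c * ζ * polar Q u (ratVec P b),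
      mul_ne_zero (mul_ne_zero hc hζ) hb0, ?_⟩
    rw [gl_mulVec_mul, ← hu, hgc, polar_smul_left, polar_comm Q (ratVec P b) u,
      polar_comm Q (ratVec P a) u, mul_smul, hzb, smul_smul, smul_eq_mul]
    module
  have hzz : polar Q₀ a b = 0 := hab
  have hQz : Q z = 0 := by
    rw [hz, QuadraticMap.map_add (⇑Q), R.sing ha, QuadraticMap.map_smul, R.sing hb,
      R.orth_smul hab]
    simp
  -- root elements at `z`
  have hroot : ∀ y, Q₀ y = 0 → polar Q₀ x y = 0 →
      SG Q M z ((c * ζ) • (g1 : Matrix ι ι F) *ᵥ ratVec P y) := fun y hy hxy => by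
    have h1 := (hC x y hx hxy).conj hM hg1
    rw [hg1x, ← SG.congr_smul, mulVec_smul, smul_smul] at h1
    exact h1
  obtain ⟨r, hr, hro, hrs⟩ := exists_singular_orth Q₀ ![a, b]
    (by rw [finrank_fintype_fun_eq_card]; omega)
  rw [Matrix.range_cons_cons_empty] at hrs
  obtain ⟨y, hy, hxy, hne⟩ : ∃ y, Q₀ y = 0 ∧ polar Q₀ x y = 0 ∧
      polar Q ((g1 : Matrix ι ι F) *ᵥ ratVec P y) (ratVec P r) ≠ 0 := by
    by_contra hcon
    push Not at hcon
    obtain ⟨d, hd⟩ := eq_smul_of_orth_perp R hn hx hx0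
      (w := ((g1⁻¹ : GL ι F) : Matrix ι ι F) *ᵥ ratVec P r) fun y hy hxy => by
        rw [← OmS.omega_polar (hM hg1), gl_mulVec_inv_mulVec, polar_comm]
        exact hcon y hy hxy
    have hrz : ratVec P r = d • (c • z) := by
      rw [← hg1x, ← mulVec_smul, ← hd, gl_mulVec_inv_mulVec]
    rw [hz, smul_smul, smul_add, smul_smul] at hrz
    rcases eq_or_ne (d * c) 0 with h | h
    · rw [h, zero_smul, zero_mul, zero_smul, add_zero] at hrz
      exact hrs (by rw [ratVec_injective P (hrz.trans (ratVec_zero P).symm)]; exact Submodule.zero_mem _)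
    · have h2 : (1 : F) • ratVec P a + γ • ratVec P b = (d * c)⁻¹ • ratVec P r := by
        rw [hrz, smul_add, smul_smul, smul_smul, inv_mul_cancel₀ h, ← mul_assoc, inv_mul_cancel₀ h,
          one_mul]
      rcases eq_or_ne γ 0 with h' | h'
      · exact hγF (h' ▸ F₀.zero_mem)
      · exact hγF (by simpa using F₀.inv_mem (coeff_ratio P hba ha0 h' h2))
  set W := (c * ζ) • (g1 : Matrix ι ι F) *ᵥ ratVec P y
  have hW := hroot y hy hxy
  have hzW : polar Q z W = 0 := by
    have : polar Q (c • z) ((g1 : Matrix ι ι F) *ᵥ ratVec P y) = 0 := by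
      rw [← hg1x, OmS.omega_polar (hM hg1), R.orth hxy]
    rw [polar_smul_left, smul_eq_mul] at this
    rw [show W = (c * ζ) • (g1 : Matrix ι ι F) *ᵥ ratVec P y from rfl, polar_smul_right,
      (mul_eq_zero.1 this).resolve_left hc, smul_zero]
  -- rational auxiliary vectors
  have har : polar Q₀ a r = 0 := hro 0
  have hbr : polar Q₀ b r = 0 := hro 1
  obtain ⟨e, e', heo, he'o, hee'⟩ := exists_polar_ne R.nd₀ ![a, b, r]
    (by rwa [finrank_fintype_fun_eq_card])
  have hre : polar Q₀ r e = 0 := heo 2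
  have hre' : polar Q₀ r e' = 0 := he'o 2
  have fixz : ∀ {p' w' : ι → F₀} {h : GL ι F}, OmS.IsSg Q h (ratVec P p') (ζ • ratVec P w') →
      polar Q₀ a p' = 0 → polar Q₀ a w' = 0 → polar Q₀ b p' = 0 → polar Q₀ b w' = 0 →
      (h : Matrix ι ι F) *ᵥ z = z := fun hh h1 h2 h3 h4 => by
    refine sg_fix hh ?_ ?_
    · rw [hz, polar_add_left, polar_smul_left, R.orth h1, R.orth h3, smul_zero, add_zero]
    · rw [hz, polar_add_left, polar_smul_left, R.orth_smul h2, R.orth_smul h4, smul_zero, add_zero]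
  -- first step
  obtain ⟨h1, hh1, hh1x⟩ := hC r e hr hre
  have hW1 := hW.diff hM hh1 hQz hzW (fixz hh1x har (heo 0) hbr (heo 1))
  set α := polar Q W (ratVec P r) * ζ with hαdef
  set c' := -(polar Q W (ζ • ratVec P e)) - Q (ζ • ratVec P e) * polar Q W (ratVec P r)
  have hα : α ≠ 0 := by
    rw [hαdef]
    refine mul_ne_zero ?_ hζ
    rw [show W = (c * ζ) • (g1 : Matrix ι ι F) *ᵥ ratVec P y from rfl, polar_smul_left, smul_eq_mul]
    exact mul_ne_zero (mul_ne_zero hc hζ) hne
  have e1 : (h1 : Matrix ι ι F) *ᵥ W - W = α • ratVec P e + c' • ratVec P r := by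
    rw [hh1x, hαdef, mul_smul]
    simp only [c']
    module
  rw [e1] at hW1
  -- second step
  obtain ⟨h2, hh2, hh2x⟩ := hC r e' hr hre'
  have e2r : (h2 : Matrix ι ι F) *ᵥ ratVec P r = ratVec P r :=
    sg_fix hh2x (R.orth (Classical.Quad.polar_singular_self hr)) (R.orth_smul hre' ζ)
  have e2e : (h2 : Matrix ι ι F) *ᵥ ratVec P e = ratVec P (e + (-(polar Q₀ e e')) • r) := by
    rw [R.sg_apply hh2x, show polar Q₀ e r = 0 by rw [polar_comm]; exact hre]
    simp
  have hzC : polar Q z (α • ratVec P e + c' • ratVec P r) = 0 := by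
    simp only [hz, polar_add_left, polar_add_right, polar_smul_left, polar_smul_right,
      R.orth (show polar Q₀ a e = 0 from heo 0), R.orth (show polar Q₀ b e = 0 from heo 1),
      R.orth har, R.orth hbr, smul_zero, add_zero]
  have hW3 := hW1.diff hM hh2 hQz hzC (fixz hh2x har (he'o 0) hbr (he'o 1))
  set β := -(α * ((polar Q₀ e e' : F₀) : F)) with hβdef
  have hβ : β ≠ 0 := neg_ne_zero.2 (mul_ne_zero hα fun h => hee' (Subtype.ext h))
  have e2 : (h2 : Matrix ι ι F) *ᵥ (α • ratVec P e + c' • ratVec P r) -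
      (α • ratVec P e + c' • ratVec P r) = β • ratVec P r := by
    rw [mulVec_add, mulVec_smul, mulVec_smul, e2r, e2e, ratVec_add, ratVec_smul, hβdef,
      NegMemClass.coe_neg]
    module
  rw [e2] at hW3
  have hzr : polar Q z (β • ratVec P r) = 0 := by
    rw [hz, polar_add_left, polar_smul_left, R.orth_smul har, R.orth_smul hbr, smul_zero, add_zero]
  rw [SG.congr_smul] at hW3
  have hrb : r ∉ Submodule.span F₀ {a} := fun e => hrs (Submodule.span_mono (by simp) e)
  have hat : a ∉ Submodule.span F₀ {r} := fun e => hrb (by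
    obtain ⟨d, hd⟩ := Submodule.mem_span_singleton.1 e
    have hd0 : d ≠ 0 := fun h => ha0 (by rw [← hd, h, zero_smul])
    exact Submodule.mem_span_singleton.2 ⟨d⁻¹, by
      rw [← hd, smul_smul, inv_mul_cancel₀ hd0, one_smul]⟩)
  have hr0 : r ≠ 0 := fun e => hrb (e ▸ Submodule.zero_mem _)
  -- exchange
  have hQr := R.sing hr
  have hW4 := hW3.swap (by rw [QuadraticMap.map_smul, hQz, smul_zero]) hQr
  have htz : polar Q (ratVec P r) (β • z) = 0 := by
    rw [polar_comm, polar_smul_left, ← polar_smul_right, hzr]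
  have hW5 := hW4.neg hQr (by rw [polar_neg_right, htz, neg_zero])
  rw [neg_neg] at hW5
  -- third step
  obtain ⟨a', ha', haa', ha'o⟩ := exists_partner R.nd₀ ![b, r] ha
    (by intro i; fin_cases i; exacts [by rw [polar_comm]; exact hab, by rw [polar_comm]; exact har])
    (by
      rw [Matrix.range_cons_cons_empty]
      intro hmem
      obtain ⟨k, l, hkl⟩ := Submodule.mem_span_pair.1 hmem
      rcases eq_or_ne k 0 with hk | hk
      · exact hat (Submodule.mem_span_singleton.2 ⟨l, by rw [← hkl, hk, zero_smul, zero_add]⟩)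
      · rcases eq_or_ne l 0 with hl | hl
        · refine hba (Submodule.mem_span_singleton.2 ⟨k⁻¹, ?_⟩)
          rw [← hkl, hl, zero_smul, add_zero, smul_smul, inv_mul_cancel₀ hk, one_smul]
        · refine hrs (Submodule.mem_span_pair.2 ⟨l⁻¹, -(l⁻¹ * k), ?_⟩)
          rw [← hkl, smul_add, smul_smul, smul_smul, inv_mul_cancel₀ hl, one_smul]
          module)
  have ha'b : polar Q₀ a' b = 0 := by rw [polar_comm]; exact ha'o 0
  have hbb := Classical.Quad.polar_singular_self hb
  obtain ⟨h3, hh3, hh3x⟩ := hC a' b ha' ha'b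
  have e3t : (h3 : Matrix ι ι F) *ᵥ ratVec P r = ratVec P r :=
    sg_fix hh3x (R.orth (ha'o 1)) (R.orth_smul (by rw [polar_comm]; exact hbr) ζ)
  have hW6 := hW5.diff hM hh3 hQr htz e3t
  have e3a : (h3 : Matrix ι ι F) *ᵥ ratVec P a = ratVec P (a + b) := by
    rw [R.sg_apply hh3x, haa', hab, hb]
    simp
  have e3b : (h3 : Matrix ι ι F) *ᵥ ratVec P b = ratVec P b :=
    sg_fix hh3x (R.orth (ha'o 0)) (R.orth_smul hbb ζ)
  have e3 : (h3 : Matrix ι ι F) *ᵥ (β • z) - β • z = β • ratVec P b := by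
    rw [hz, mulVec_smul, mulVec_add, mulVec_smul, e3a, e3b, ratVec_add]
    module
  rw [e3] at hW6
  have hrb' : polar Q₀ r b = 0 := by rw [polar_comm]; exact hbr
  have hbt' : b ∉ Submodule.span F₀ {r} := fun e => by
    obtain ⟨d, hd⟩ := Submodule.mem_span_singleton.1 e
    rcases eq_or_ne d 0 with h | h
    · exact hbnz (by rw [← hd, h, zero_smul])
    · refine hrs (Submodule.span_mono (s := {b}) (by simp)
        (Submodule.mem_span_singleton.2 ⟨d⁻¹, ?_⟩))
      rw [← hd, smul_smul, inv_mul_cancel₀ h, one_smul]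
  have hgood := good_of_pair R hM hC hn (b := β / ζ) hr hb hrb' hr0 hbt'
    (by rwa [mul_div_cancel₀ _ hζ])
  by_cases hbF : β / ζ ∈ F₀
  swap
  · exact ⟨_, hbF, hgood⟩
  have hra : polar Q₀ r a = 0 := by rw [polar_comm]; exact har
  have hga := hgood r a hr ha hra hr0 hat
  rw [mul_div_cancel₀ _ hζ] at hga
  have hWb := hW5.add hQr (hga.neg hQr (R.orth_smul hra _)) htz
    (by rw [polar_neg_right, R.orth_smul hra, neg_zero])
  rw [show β • z + -(β • ratVec P a) = (β * γ) • ratVec P b by rw [hz]; module] at hWb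
  refine ⟨β * γ / ζ, fun h => hγF ?_, good_of_pair R hM hC hn hr hb hrb'
    hr0 hbt' (by rwa [mul_div_cancel₀ _ hζ])⟩
  have := F₀.div_mem h hbF
  rwa [div_div_div_cancel_right₀ hζ, mul_div_cancel_left₀ _ hβ] at this

/-- Orthogonal subfield groups are maximal in `Ω`. -/
theorem subfield_maximal (r : ℕ) (hr : r.Prime) (hcard : Fintype.card F = Nat.card F₀ ^ r) :
    IsMaximalIn (omegaGL ⇑Q) (subfieldSubgroup F₀ P ⊓ omegaGL ⇑Q) := by
  classical
  haveI := Fintype.ofFinite F₀
  obtain ⟨⟨Fr⟩, -⟩ := OmE.exists_frame R.nd (by omega)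
  have hfr : Module.finrank F₀ F = r := by
    have h := Module.card_eq_pow_finrank (K := F₀) (V := F)
    rw [hcard, Nat.card_eq_fintype_card] at h
    exact (Nat.pow_right_injective Fintype.one_lt_card h).symm
  have hsimple : IsSimpleOrder (Subalgebra F₀ F) :=
    Subalgebra.isSimpleOrder_of_finrank_prime _ _ (hfr ▸ hr)
  have horth : ∀ {p w : ι → F₀}, polar Q₀ p w = 0 → polar Q (ratVec P p) (ζ • ratVec P w) = 0 :=
    fun h => R.orth_smul h ζ
  have hH : Contains Q P ζ Q₀ (subfieldSubgroup F₀ P ⊓ omegaGL ⇑Q) := fun p w hp hpw => by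
    obtain ⟨h, hh, hhx⟩ := OmS.exists_sg R.nd Fr (R.sing hp) (horth hpw)
    exact ⟨h, ⟨mem_subfieldSubgroup_of_forall P fun y => ⟨1, _, by rw [one_smul, R.sg_apply hhx]⟩,
      hh⟩, hhx⟩
  obtain ⟨p, hp, -, hps⟩ := exists_singular_orth Q₀ (k := 0) ![]
    (by rw [finrank_fintype_fun_eq_card]; omega)
  have hp0 : p ≠ 0 := fun e => hps (e ▸ Submodule.zero_mem _)
  obtain ⟨q, hq, hqo, hqs⟩ := exists_singular_orth Q₀ ![p]
    (by rw [finrank_fintype_fun_eq_card]; omega)
  have hpq : polar Q₀ p q = 0 := hqo 0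
  rw [Matrix.range_cons, Matrix.range_empty, Set.union_empty] at hqs
  refine isMaximalIn_of inf_le_right ?_ ?_
  · obtain ⟨θ, hθ⟩ : ∃ θ : F, θ ∉ F₀ := by
      by_contra hcon
      push Not at hcon
      have e : Nat.card F₀ = Fintype.card F := by
        rw [← Nat.card_eq_fintype_card]
        exact Nat.card_congr (Equiv.subtypeUnivEquiv hcon)
      have : Nat.card F₀ ^ 1 = Nat.card F₀ ^ r := by rw [pow_one, ← hcard, e]
      exact hr.ne_one (Nat.pow_right_injective (by rw [e]; exact Fintype.one_lt_card) this).symm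
    obtain ⟨y, hy, hqy, hyo⟩ := exists_partner R.nd₀ ![q] hp
      (by intro i; fin_cases i; rw [polar_comm]; exact hpq)
      (by
        rw [Matrix.range_cons, Matrix.range_empty, Set.union_empty]
        intro hmem
        obtain ⟨d, hd⟩ := Submodule.mem_span_singleton.1 hmem
        have hd0 : d ≠ 0 := fun e => hp0 (by rw [← hd, e, zero_smul])
        exact hqs (Submodule.mem_span_singleton.2 ⟨d⁻¹, by
          rw [← hd, smul_smul, inv_mul_cancel₀ hd0, one_smul]⟩))
    obtain ⟨h, hh, hhx⟩ := OmS.exists_sg R.nd Fr (R.sing hp) (R.orth_smul hpq (ζ * θ))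
    refine ⟨h, hh, fun hmem => hθ ?_⟩
    obtain ⟨l, s, hls⟩ := exists_of_mem_subfieldSubgroup P hmem.1 y
    have e : (h : Matrix ι ι F) *ᵥ ratVec P y = (1 : F) • ratVec P y + θ • ratVec P q := by
      have h1 : ζ * polar Q (ratVec P y) (ratVec P p) = 1 := by
        rw [← R.coe_polar, polar_comm, hqy, Subfield.coe_one]
      rw [hhx, polar_smul_right, polar_comm Q (ratVec P y) (ratVec P q),
        R.orth (show polar Q₀ q y = 0 from hyo 0), QuadraticMap.map_smul, R.sing hq, smul_smul,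
        show polar Q (ratVec P y) (ratVec P p) * (ζ * θ) = θ by linear_combination θ * h1]
      simp
    rw [e] at hls
    have hy0 : y ≠ 0 := fun e => one_ne_zero (α := F₀) (by rw [← hqy, e, polar_zero_right])
    have hqy' : q ∉ Submodule.span F₀ {y} := fun hm => by
      obtain ⟨d, hd⟩ := Submodule.mem_span_singleton.1 hm
      rw [← hd, polar_smul_right, hqy, smul_eq_mul, mul_one] at hpq
      exact hqs (by rw [← hd, hpq, zero_smul]; exact Submodule.zero_mem _)
    rcases eq_or_ne θ 0 with h0 | h0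
    · exact h0 ▸ F₀.zero_mem
    · simpa using F₀.inv_mem (coeff_ratio P hqy' hy0 h0 hls)
  intro M hHM hMK g hgM hgH
  have hC : Contains Q P ζ Q₀ M := fun p w hp hpw => by
    obtain ⟨h, hh, hhx⟩ := hH p w hp hpw
    exact ⟨h, hHM hh, hhx⟩
  obtain ⟨b, hbF, hb⟩ := exists_good R hn hMK hC hgM fun h => hgH ⟨h, hMK hgM⟩
  have hall := good_all R hMK hC hn hsimple hbF hb
  obtain ⟨x, hx, hpx, -⟩ := exists_partner R.nd₀ ![(0 : ι → F₀)] hp
    (fun i => by fin_cases i; exact polar_zero_left _ _) (by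
      rw [Matrix.range_cons, Matrix.range_empty, Set.union_empty, Submodule.span_zero_singleton]
      simpa using hp0)
  refine OmS.omega_le_of_pair R.nd Fr hMK (mem_SS R hMK hC hn hall hp hp0)
    (mem_SS R hMK hC hn hall hx (fun e => one_ne_zero (α := F₀) (by rw [← hpx, e, polar_zero_right])))
    fun h => ?_
  have h1 := R.coe_polar p x
  rw [h, hpx, mul_zero] at h1
  exact one_ne_zero h1

end CfsgLib.ClassicalMax.OmSub
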