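/-
Clauses shared by the lists of geometric maximal subgroups of `Ω` in even dimension at least 8.
-/
import Cfsg.Agent.Lib.ClassicalMax.OrthNondegSmall
import Cfsg.Agent.Lib.ClassicalMax.OrthNondegEven
import Cfsg.Agent.Lib.ClassicalMax.OrthHalves
import Cfsg.Agent.Lib.ClassicalMax.OrthEven
import Cfsg.Agent.Lib.ClassicalMax.OrthPoint
import Cfsg.Agent.Lib.ClassicalMax.OrthSubfield
import Cfsg.Agent.Lib.ExtFieldOrth.Matrix
import Cfsg.Agent.Lib.Classical.Quad.Std
import Cfsg.Agent.Lib.ClassicalMax.OrthUnitaryField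
import Cfsg.Agent.Lib.ClassicalMax.OrthMonMax
import Cfsg.Agent.Lib.ClassicalMax.OrthPlanesGen
import Cfsg.Agent.Lib.ClassicalMax.OrthDecompGen
set_option autoImplicit false

namespace CfsgLib.ClassicalMax.OmList

open Matrix Cfsg.Geo QuadraticMap Module

variable {F : Type*} [Field F] [Fintype F] {n : ℕ} {Q : (Fin n → F) → F}
  (hQ : IsNondegenerateQuadraticForm Q) (h8 : 8 ≤ n)

include hQ h8

/-- Totally singular subspaces of non-critical dimension. -/
theorem singular {W : Submodule F (Fin n → F)} (hW0 : W ≠ ⊥) (hW : IsTotallySingularQuad Q W)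
    (hdim : IsPlusTypeOn Q ⊤ → 2 * (finrank F W + 1) ≠ n) :
    IsMaximalIn (omegaGL Q) (subspaceStabilizer W ⊓ omegaGL Q) := by
  classical
  have hn' : Fintype.card (Fin n) = n := Fintype.card_fin n
  haveI : Nonempty (Fin n) := ⟨⟨0, by omega⟩⟩
  have hnd := OmE.ndPolar_qf Q hQ
  obtain ⟨⟨P⟩, -⟩ := OmE.exists_frame hnd (by omega)
  refine OmE.singular_stabilizer_maximal hnd P hW0 hW fun U hU hd hUd => ?_
  exact hdim ⟨U, le_top, hU, by rw [finrank_top, Module.finrank_fin_fun, hUd, hn']⟩ (hd.trans hn')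

/-- Non-degenerate subspaces. -/
theorem nondeg {W : Submodule F (Fin n → F)} (hW0 : W ≠ ⊥) (hW1 : W ≠ ⊤)
    (hW : IsNondegenerateOn (polar Q) W)
    (hhalf : 2 * finrank F W = n → Even (finrank F W) ∧ ¬ IsPlusTypeOn Q ⊤)
    (hex : 4 ≤ Fintype.card F ∨ ((finrank F W = 2 → ¬ IsPlusTypeOn Q W) ∧ finrank F W + 2 ≠ n)) :
    IsMaximalIn (omegaGL Q) (subspaceStabilizer W ⊓ omegaGL Q) := by
  classical
  haveI : Nonempty (Fin n) := ⟨⟨0, by omega⟩⟩
  have hn' : Fintype.card (Fin n) = n := Fintype.card_fin n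
  have hnd := OmE.ndPolar_qf Q hQ
  obtain ⟨⟨P⟩, -⟩ := OmE.exists_frame hnd (by omega)
  refine OmN.nondegenerate_stabilizer_maximal_small P hnd (by omega) hW0 hW1 hW
    (fun h h4 => (hhalf (by omega)).2)
    (fun h g hg horth => ?_) ?_
  · obtain ⟨he, hminus⟩ := hhalf (h.trans hn')
    obtain ⟨U, hU, hUd⟩ := OmN.exists_half hnd hW rfl he
      (fun x => OmS.omega_iso hg x) horth
    exact hminus ⟨U, le_top, hU, by rw [finrank_top, Module.finrank_fin_fun, hUd]; omega⟩
  · rintro ⟨hq, U, hU, -, hUp, hor⟩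
    rcases hex with hex | ⟨hne, hne'⟩
    · omega
    rcases hor with rfl | ⟨-, hd⟩
    · exact hne hU hUp
    · omega

/-- Proper non-degenerate subspaces of a dimension `d` with `d + 2 ≠ n`. -/
theorem nondeg_dim {W : Submodule F (Fin n → F)} {d : ℕ} (hd : finrank F W = d) (hd0 : d ≠ 0)
    (hdn : d + 2 < n) (hW : IsNondegenerateOn (polar Q) W)
    (hhalf : 2 * d = n → Even d ∧ ¬ IsPlusTypeOn Q ⊤)
    (hex : 4 ≤ Fintype.card F ∨ (d = 2 → ¬ IsPlusTypeOn Q W)) :
    IsMaximalIn (omegaGL Q) (subspaceStabilizer W ⊓ omegaGL Q) := by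
  subst hd
  refine nondeg hQ h8 (fun h => hd0 (by rw [h, finrank_bot]))
    (fun h => ?_) hW hhalf (hex.imp id fun h => ⟨h, by omega⟩)
  rw [h, finrank_top, Module.finrank_fin_fun] at hdn
  omega

/-- Non-singular points in characteristic two. -/
theorem point (hchar : ¬ Odd (Fintype.card F)) {v : Fin n → F} (hv : Q v ≠ 0) :
    IsMaximalIn (omegaGL Q) (subspaceStabilizer (Submodule.span F {v}) ⊓ omegaGL Q) := by
  classical
  haveI : Nonempty (Fin n) := ⟨⟨0, by omega⟩⟩
  have hnd := OmE.ndPolar_qf Q hQ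
  obtain ⟨⟨P⟩, -⟩ := OmE.exists_frame hnd (by simp; omega)
  haveI : CharP F 2 := by
    refine CfsgLib.OrthCrit.charP_two_of ?_
    by_contra h2
    refine hchar (Nat.odd_iff.2 ?_)
    exact FiniteField.odd_card_of_char_ne_two fun h => h2 (by
      haveI := ringChar.of_eq h; exact CharTwo.two_eq_zero)
  exact OmE.nonsingular_point_maximal hnd P (by simp; omega) hv

/-- Self-adjoint subfields of small degree. -/
theorem selfAdjoint (hodd : Odd (Fintype.card F)) {r : ℕ} (hr : r.Prime) (hnr : 3 * r < n)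
    (K : Subalgebra F (Matrix (Fin n) (Fin n) F)) (hK : IsFieldSubalgebra r K)
    (hsa : IsSelfAdjointFor (polar Q) K) :
    IsMaximalIn (omegaGL Q) (subalgebraNormalizer K ⊓ omegaGL Q) := by
  have h2 : (2 : F) ≠ 0 := CfsgLib.Classical.Quad.two_ne_zero_iff_odd.2
    (by rwa [Nat.card_eq_fintype_card])
  obtain ⟨Qf, rfl⟩ : ∃ Qf : QuadraticForm F (Fin n → F), ⇑Qf = Q :=
    ⟨QuadraticMap.ofPolar Q (fun a x => by rw [smul_eq_mul, hQ.smul]; ring)
      (fun x x' y => hQ.polar_bilinear.add_left x x' y) (fun a x y => hQ.polar_bilinear.smul_left a x y), rfl⟩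
  have hnd : (QuadraticMap.polarBilin Qf).Nondegenerate := by
    refine ⟨fun x hx => by_contra fun h0 => ?_, fun y hy => by_contra fun h0 => ?_⟩
    · obtain ⟨z, hz⟩ := (hQ.nondegenerate x h0).2
      exact hz (hx z)
    · obtain ⟨z, hz⟩ := (hQ.nondegenerate y h0).1
      exact hz (hy z)
  exact CfsgLib.ExtFieldOrth.isMaximalIn_omega r h2 hnd (by rw [Fintype.card_fin]; omega) hr hK hsa
    (Or.inl (by rwa [Fintype.card_fin]))

/-- Subfield groups. -/
theorem subfield (F₀ : Subfield F) {r : ℕ} (hr : r.Prime) (hcard : Fintype.card F = Nat.card F₀ ^ r)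
    (P : GL (Fin n) F) {ζ : F} (hζ : ζ ≠ 0)
    (hP : IsQuadFormRationalStructure (fun v : Fin n → F => ζ * Q v) F₀ P) :
    IsMaximalIn (omegaGL Q) (subfieldSubgroup F₀ P ⊓ omegaGL Q) := by
  classical
  haveI : Nonempty (Fin n) := ⟨⟨0, by omega⟩⟩
  have hnd := OmE.ndPolar_qf Q hQ
  obtain ⟨Q₀, R⟩ := OmSub.rat_of_structure (Q := OmE.qf Q hQ) hnd hζ hP
  exact OmSub.subfield_maximal R (by rw [Fintype.card_fin]; omega) r hr hcard

/-- Subfield groups of similarities. -/
theorem unitary (h10 : 10 ≤ n) (K : Subalgebra F (Matrix (Fin n) (Fin n) F))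
    (hK : IsFieldSubalgebra 2 K) (hac : IsAdjointClosedFor (polar Q) K)
    (hnsa : ¬ IsSelfAdjointFor (polar Q) K)
    (hsc : ∀ k ∈ K, ∃ c : F, ∀ v : Fin n → F, Q (k *ᵥ v) = c * Q v) :
    IsMaximalIn (omegaGL Q) (subalgebraNormalizer K ⊓ omegaGL Q) := by
  classical
  haveI : Nonempty (Fin n) := ⟨⟨0, by omega⟩⟩
  exact OmU.unitary_normalizer_maximal (Q := OmE.qf Q hQ) (OmE.ndPolar_qf Q hQ)
    (by rw [Fintype.card_fin]; omega) K hK hac hnsa hsc

/-- Decompositions into lines. -/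
theorem lines (h9 : 9 ≤ n) (hprime : (Fintype.card F).Prime) (hodd : Odd (Fintype.card F)) {t : ℕ}
    (D : Fin t → Submodule F (Fin n → F)) (hD : IsOrthogonalMDecomposition Q 1 D) :
    IsMaximalIn (omegaGL Q) (decompositionStabilizer D ⊓ omegaGL Q) :=
  OmL.lines_maximal hQ hprime hodd (by rw [Fintype.card_fin]; omega) hD

/-- Decompositions into planes. -/
theorem planes {t : ℕ} (ht : 5 ≤ t) (D : Fin t → Submodule F (Fin n → F))
    (hD : IsOrthogonalMDecomposition Q 2 D) (h3 : Fintype.card F ≠ 3)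
    (h7 : (∀ i, IsPlusTypeOn Q (D i)) → 7 ≤ Fintype.card F) :
    IsMaximalIn (omegaGL Q) (decompositionStabilizer D ⊓ omegaGL Q) := by
  classical
  exact OmD2.Good2.maximal (Q := OmE.qf Q hQ)
    { nd := OmE.ndPolar_qf Q hQ
      dec := hD
      card := by rw [Fintype.card_fin]; omega
      t5 := ht
      big := fun i => ⟨h3, fun ⟨v, hv, hv0, hQv⟩ => h7 fun j =>
        OmD2.plus_transfer (Q := OmE.qf Q hQ) (j := j) hD
          (OmD2.plus_of_singular (hD.decomp.decomp.finrank_eq i) hv hv0 hQv)⟩ }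

/-- An orthogonal sum of planes of plus type has plus type. -/
theorem plus_of_planes {t : ℕ} (D : Fin t → Submodule F (Fin n → F))
    (hD : IsOrthogonalMDecomposition Q 2 D) (hp : ∀ i, IsPlusTypeOn Q (D i)) :
    IsPlusTypeOn Q ⊤ := by
  classical
  have hd : OmD.Dec (OmE.qf Q hQ) 2 D := { nd := OmE.ndPolar_qf Q hQ, dec := hD }
  have hv : ∀ i, ∃ v ∈ D i, v ≠ 0 ∧ OmE.qf Q hQ v = 0 := fun i => by
    obtain ⟨U, hU, hUs, hUd⟩ := hp i
    rw [hd.dim] at hUd
    obtain ⟨v, hv, hv0⟩ := U.exists_mem_ne_zero_of_ne_bot fun h => by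
      rw [h, finrank_bot] at hUd; omega
    exact ⟨v, hU hv, hv0, hUs v hv⟩
  choose v hv hv0 hQv using hv
  let f := Fintype.linearCombination F v
  have hf : ∀ a i, hd.π i (f a) = a i • v i := fun a i => by
    rw [Fintype.linearCombination_apply, map_sum, Finset.sum_eq_single i
      (fun j _ hj => by rw [map_smul, hd.π_other hj.symm (hv j), smul_zero])
      (fun h => absurd (Finset.mem_univ i) h), map_smul, hd.π_self (hv i)]
  have hinj : Function.Injective f := by
    intro a b e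
    funext i
    have h := congrArg (hd.π i) e
    rw [hf, hf] at h
    exact smul_left_injective F (hv0 i) h
  refine ⟨LinearMap.range f, le_top, ?_, ?_⟩
  · rintro _ ⟨a, rfl⟩
    show OmE.qf Q hQ (f a) = 0
    rw [hd.Q_sum]
    exact Finset.sum_eq_zero fun i _ => by rw [hf, QuadraticMap.map_smul, hQv, smul_zero]
  · rw [LinearMap.finrank_range_of_inj hinj, finrank_top, Module.finrank_fin_fun, Module.finrank_fin_fun,
      ← CfsgLib.ClassicalMax.Unit.Frame.card_blocks hD.decomp.decomp |>.trans (Fintype.card_fin n)]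

/-- Decompositions into members of dimension at least three. -/
theorem blocks {t k : ℕ} (hk : 3 ≤ k) (D : Fin t → Submodule F (Fin n → F))
    (hD : IsOrthogonalMDecomposition Q k D)
    (h3 : k = 3 → Odd (Fintype.card F) ∧ 5 ≤ Fintype.card F ∧ 3 ≤ t)
    (h4 : k = 4 → Fintype.card F = 2 → ∀ i, ¬ IsPlusTypeOn Q (D i)) :
    IsMaximalIn (omegaGL Q) (decompositionStabilizer D ⊓ omegaGL Q) := by
  classical
  exact OmD.Good.maximal (Q := OmE.qf Q hQ)
    { nd := OmE.ndPolar_qf Q hQ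
      dec := hD
      three := hk
      card := by rw [Fintype.card_fin]; omega
      k3 := fun h => ⟨CfsgLib.Classical.Quad.two_ne_zero_iff_odd.2
        (by rw [Nat.card_eq_fintype_card]; exact (h3 h).1), (h3 h).2⟩
      k4 := h4 }

/-- Two non-isometric halves. -/
theorem halves {k : ℕ} (hk : 2 * k = n) (hk5 : 5 ≤ k) (D : Fin 2 → Submodule F (Fin n → F))
    (hD : IsNondegenerateMDecomposition (polar Q) k D) (hni : ¬ AreIsometricFor Q (D 0) (D 1)) :
    IsMaximalIn (omegaGL Q) (decompositionStabilizer D ⊓ omegaGL Q) := by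
  classical
  haveI : Nonempty (Fin n) := ⟨⟨0, by omega⟩⟩
  have hn' : Fintype.card (Fin n) = n := Fintype.card_fin n
  have hnd := OmE.ndPolar_qf Q hQ
  obtain ⟨⟨P⟩, -⟩ := OmE.exists_frame hnd (by omega)
  have hd0 := hD.decomp.finrank_eq 0
  have hd1 := hD.decomp.finrank_eq 1
  have hsup : ∀ x : Fin n → F, ∃ a ∈ D 0, ∃ b ∈ D 1, a + b = x := fun x => by
    have he : iSup D = D 0 ⊔ D 1 := le_antisymm
      (iSup_le fun i => by fin_cases i <;> simp) (sup_le (le_iSup D 0) (le_iSup D 1))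
    have : x ∈ D 0 ⊔ D 1 := by rw [← he, hD.decomp.iSup_eq_top]; trivial
    exact Submodule.mem_sup.1 this
  have hperp : ∀ x, (∀ w ∈ D 0, polar Q x w = 0) → x ∈ D 1 := by
    intro x hx
    obtain ⟨a, ha, b, hb, rfl⟩ := hsup x
    suffices a = 0 by rw [this, zero_add]; exact hb
    by_contra h
    obtain ⟨-, y, hy, hne⟩ := hD.nondegenerate 0 a ha h
    have h1 := hx y hy
    rw [hQ.polar_bilinear.add_left, hD.orthogonal 1 0 (by decide) b hb y hy, add_zero] at h1
    exact hne h1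
  have hno : ∀ g ∈ omegaGL Q, ¬ ∀ x ∈ D 0, (g : Matrix (Fin n) (Fin n) F) *ᵥ x ∈ D 1 := by
    intro g hg h
    let L : D 0 →ₗ[F] D 1 :=
      (Matrix.toLin' (g : Matrix (Fin n) (Fin n) F)).restrict fun x hx => by simpa using h x hx
    have hL : Function.Injective L := fun x y e => Subtype.ext
      (gl_mulVec_injective g (by simpa [L] using congrArg Subtype.val e))
    refine hni ⟨LinearEquiv.ofBijective L ⟨hL,
      (LinearMap.injective_iff_surjective_of_finrank_eq_finrank (hd0.trans hd1.symm)).1 hL⟩,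
      fun w => ?_⟩
    change Q (Matrix.toLin' (g : Matrix (Fin n) (Fin n) F) (w : Fin n → F)) = Q w
    rw [Matrix.toLin'_apply]
    exact OmS.omega_iso (Q := OmE.qf Q hQ) hg _
  have heq : decompositionStabilizer D ⊓ omegaGL Q = subspaceStabilizer (D 0) ⊓ omegaGL Q := by
    ext g
    constructor
    · rintro ⟨hgD, hgo⟩
      obtain ⟨j, hj⟩ := Frames.exists_block_image hgD 0
      refine ⟨mem_subspaceStabilizer_of_forall ?_, hgo⟩
      fin_cases j
      · exact hj
      · exact absurd hj (hno g hgo)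
    · rintro ⟨hgW, hgo⟩
      have h0 : ∀ x ∈ D 0, (g : Matrix (Fin n) (Fin n) F) *ᵥ x ∈ D 0 := fun x hx => (hgW x).1 hx
      have h1 : ∀ x ∈ D 1, (g : Matrix (Fin n) (Fin n) F) *ᵥ x ∈ D 1 := fun x hx => by
        refine hperp _ fun w hw => ?_
        obtain ⟨w', hw', rfl⟩ := exists_preimage_mem h0 hw
        rw [Om.iso_polar hQ (Om.omega_le hgo)]
        exact hD.orthogonal 1 0 (by decide) x hx w' hw'
      refine ⟨⟨1, fun i => ?_⟩, hgo⟩
      refine Submodule.eq_of_le_of_finrank_eq ?_ (LinearEquiv.finrank_eq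
        (Submodule.equivMapOfInjective _ (fun x y e => gl_mulVec_injective g
          (by simpa [Matrix.toLin'_apply] using e)) _).symm)
      rintro _ ⟨x, hx, rfl⟩
      rw [Matrix.toLin'_apply]
      fin_cases i
      · exact h0 x hx
      · exact h1 x hx
  rw [heq]
  refine OmN.nondegenerate_stabilizer_maximal_small P hnd (by omega)
    (fun h => by rw [h, finrank_bot] at hd0; omega)
    (fun h => by rw [h, finrank_top, Module.finrank_fin_fun] at hd0; omega)
    (hD.nondegenerate 0) (fun h => absurd h (by omega))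
    (fun _ g hg h => hno g hg fun x hx => hperp _ (h x hx)) ?_
  rintro ⟨-, U, hU, -, -, rfl | ⟨-, hs⟩⟩ <;> omega

end CfsgLib.ClassicalMax.OmList
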