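/-
Maximality of stabilisers of splittings with a four-space of minus type.
-/
import Cfsg.Agent.Lib.ClassicalMax.OrthNondegSmall
set_option autoImplicit false
set_option linter.unusedSectionVars false
set_option maxHeartbeats 400000

namespace CfsgLib.ClassicalMax.OmN

open Matrix Cfsg.Geo QuadraticMap
open CfsgLib.Classical.Quad (NDPolar Orth Frame)
open CfsgLib.ClassicalMax.OmS (SS IsSg exists_sg omega_le_of_pair omega_iso omega_polar SS_mulVec isNondegenerateQuadraticForm)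

variable {ι : Type} [Fintype ι] [DecidableEq ι] {F : Type*} [Field F]
  {Q : QuadraticForm F (ι → F)} {M : Subgroup (GL ι F)} {A B : Submodule F (ι → F)}

/-- No two orthogonal singular points in `A`. -/
def Minus (Q : QuadraticForm F (ι → F)) (A : Submodule F (ι → F)) : Prop :=
  ∀ u ∈ A, ∀ v ∈ A, u ≠ 0 → Q u = 0 → Q v = 0 → polar Q u v = 0 → ∃ l : F, v = l • u

variable [Fintype F] (P : Frame Q)

include P

lemma IsSplit.exists_move_minus (S : IsSplit Q A B) (hA : Module.finrank F A = 4) (hm : Minus Q A)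
    {u u' : ι → F} (hu : u ∈ A) (hu' : u' ∈ A) (hu0 : u ≠ 0) (hu'0 : u' ≠ 0) (hQu : Q u = 0)
    (hQu' : Q u' = 0) :
    ∃ h : GL ι F, h ∈ omegaGL ⇑Q ∧ (∀ x ∈ A, (h : Matrix ι ι F) *ᵥ x ∈ A) ∧
      (∀ b ∈ B, (h : Matrix ι ι F) *ᵥ b = b) ∧ (h : Matrix ι ι F) *ᵥ u = u' := by
  have step : ∀ u u' : ι → F, u ∈ A → u' ∈ A → Q u = 0 → Q u' = 0 → polar Q u u' ≠ 0 →
      ∃ h : GL ι F, h ∈ omegaGL ⇑Q ∧ (∀ x ∈ A, (h : Matrix ι ι F) *ᵥ x ∈ A) ∧
        (∀ b ∈ B, (h : Matrix ι ι F) *ᵥ b = b) ∧ (h : Matrix ι ι F) *ᵥ u = u' := by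
    intro u u' hu hu' hQu hQu' hne
    set T := A ⊓ LinearMap.ker ((polarBilin Q).flip (u' - u)) with hT
    have hTd := OrthCrit.finrank_le_inf_ker_add_one A ((polarBilin Q).flip (u' - u))
    obtain ⟨v, hv, hv0, hQv⟩ := exists_singular_in (Q := Q) (S := T) (by rw [hT]; omega)
    have hvd : polar Q v (u' - u) = 0 := LinearMap.mem_ker.1 hv.2
    have hu0 : u ≠ 0 := fun h => hne (by rw [h, polar_zero_left])
    have hvu : polar Q v u ≠ 0 := by
      intro h
      obtain ⟨l, rfl⟩ := hm u hu v hv.1 hu0 hQu hQv (by rw [polar_comm]; exact h)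
      rw [polar_smul_left, polar_sub_right, Classical.Quad.polar_singular_self hQu, sub_zero,
        smul_eq_mul] at hvd
      exact hv0 (by rw [(mul_eq_zero.1 hvd).resolve_right hne, zero_smul])
    set v₁ := (polar Q v u)⁻¹ • v with hv₁
    have hQv₁ : Q v₁ = 0 := by rw [hv₁, QuadraticMap.map_smul, hQv, smul_zero]
    have e1 : polar Q u v₁ = 1 := by
      rw [hv₁, polar_smul_right, smul_eq_mul, polar_comm Q u v, inv_mul_cancel₀ hvu]
    have hd : polar Q v₁ (u' - u) = 0 := by rw [hv₁, polar_smul_left, hvd, smul_zero]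
    have hv₁A : v₁ ∈ A := A.smul_mem _ hv.1
    obtain ⟨h, hh, hhx⟩ := exists_sg S.nd P hQv₁ hd
    refine ⟨h, hh, fun y hy => ?_, fun b hb => ?_, ?_⟩
    · rw [hhx y]
      exact A.add_mem (A.add_mem hy (A.smul_mem _ (A.sub_mem hu' hu))) (A.smul_mem _ hv₁A)
    · rw [hhx b, polar_comm Q b v₁, S.orth v₁ hv₁A b hb, polar_comm Q b (u' - u),
        S.orth (u' - u) (A.sub_mem hu' hu) b hb]
      simp
    · have hQd : Q (u' - u) = -polar Q u u' := by
        rw [sub_eq_add_neg, QuadraticMap.map_add Q, QuadraticMap.map_neg, hQu, hQu', polar_neg_right,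
          polar_comm Q u' u]
        simp
      rw [hhx u, e1, hQd, polar_sub_right, Classical.Quad.polar_singular_self hQu]
      module
  by_cases hne : polar Q u u' = 0
  · obtain ⟨s, hs, hus⟩ := S.exists_ne hu hu0
    set s₁ := (polar Q u s)⁻¹ • s with hs₁
    have e1 : polar Q u s₁ = 1 := by rw [hs₁, polar_smul_right, smul_eq_mul, inv_mul_cancel₀ hus]
    set w := s₁ + (-(Q s₁)) • u with hw
    have hwA : w ∈ A := A.add_mem (A.smul_mem _ hs) (A.smul_mem _ hu)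
    have hQw : Q w = 0 := by
      rw [hw, Classical.Quad.Q_comb1, hQu, polar_comm Q s₁ u, e1]; ring
    have huw : polar Q u w = 1 := by
      rw [hw, polar_add_right, e1, polar_smul_right, Classical.Quad.polar_singular_self hQu]; simp
    obtain ⟨l, rfl⟩ := hm u hu u' hu' hu0 hQu hQu' hne
    have hl : l ≠ 0 := fun h => hu'0 (by rw [h, zero_smul])
    obtain ⟨h₁, o₁, a₁, b₁, e₁⟩ := step u w hu hwA hQu hQw (by rw [huw]; exact one_ne_zero)
    obtain ⟨h₂, o₂, a₂, b₂, e₂⟩ := step w (l • u) hwA hu' hQw hQu'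
      (by rw [polar_smul_right, polar_comm Q w u, huw, smul_eq_mul, mul_one]; exact hl)
    exact ⟨h₂ * h₁, mul_mem o₂ o₁, fun x hx => by rw [gl_mulVec_mul]; exact a₂ _ (a₁ x hx),
      fun y hy => by rw [gl_mulVec_mul, b₁ y hy, b₂ y hy], by rw [gl_mulVec_mul, e₁, e₂]⟩
  · exact step u u' hu hu' hQu hQu' hne

lemma IsSplit.exists_cross_minus (S : IsSplit Q A B) (h7 : 7 ≤ Fintype.card ι)
    (hA : Module.finrank F A = 4) (h2 : (2 : F) ≠ 0) (hm : Minus Q A) (hMK : M ≤ omegaGL ⇑Q)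
    (hH : ∀ h ∈ omegaGL ⇑Q, (∀ x ∈ A, (h : Matrix ι ι F) *ᵥ x ∈ A) → h ∈ M)
    {g : GL ι F} (hgM : g ∈ M) {u p₁ p₂ : ι → F} (hu : u ∈ A) (hu0 : u ≠ 0) (hQu : Q u = 0)
    (hp₁ : p₁ ∈ A) (hp₂ : p₂ ∈ B) (hp : p₁ + p₂ = (g : Matrix ι ι F) *ᵥ u) (hp₁0 : p₁ ≠ 0)
    (hp₂0 : p₂ ≠ 0) :
    ∃ v b, v ∈ A ∧ v ≠ 0 ∧ Q v = 0 ∧ b ∈ B ∧ b ≠ 0 ∧ ∃ h ∈ M, IsSg Q h v b := by
  have hgo := hMK hgM
  by_cases hQ1 : Q p₁ = 0
  swap
  · refine S.exists_cross P h7 hA.ge (fun h => absurd h h2) (fun _ hF => absurd ((hF 2).resolve_left h2)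
      fun h => one_ne_zero (α := F) (by linear_combination h)) hMK hH hgM hu hu0 hQu hp₁ hp₂ hp hp₁0
      hp₂0 ?_
    have hTd := OrthCrit.finrank_le_inf_ker_add_one A ((polarBilin Q).flip p₁)
    obtain ⟨v, hv, hv0, hQv⟩ := exists_singular_in (Q := Q)
      (S := A ⊓ LinearMap.ker ((polarBilin Q).flip p₁)) (by omega)
    exact ⟨v, hv.1, hv0, hQv, LinearMap.mem_ker.1 hv.2, fun l h => hQ1 (by
      rw [h, QuadraticMap.map_smul, hQv, smul_zero])⟩
  have hQp : Q p₁ + Q p₂ = 0 := by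
    have h := omega_iso hgo u
    rw [← hp, hQu, QuadraticMap.map_add Q, S.orth p₁ hp₁ p₂ hp₂, add_zero] at h
    exact h
  have hQ2 : Q p₂ = 0 := by linear_combination hQp - hQ1
  -- an element of `A` with image orthogonal to `p₂`
  set f : (ι → F) →ₗ[F] F :=
    ((polarBilin Q).flip p₂).comp (Matrix.mulVecLin (g : Matrix ι ι F)) with hf
  set T := A ⊓ LinearMap.ker ((polarBilin Q).flip u) ⊓ LinearMap.ker f with hT
  have h1 := OrthCrit.finrank_le_inf_ker_add_one A ((polarBilin Q).flip u)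
  have h1' := OrthCrit.finrank_le_inf_ker_add_one (A ⊓ LinearMap.ker ((polarBilin Q).flip u)) f
  obtain ⟨a, haT, hau⟩ := SetLike.not_le_iff_exists.1 fun h : T ≤ Submodule.span F ({u} : Set (ι → F)) => by
    have := Submodule.finrank_mono h
    rw [finrank_span_singleton hu0, hT] at this
    omega
  have haA : a ∈ A := haT.1.1
  have hua : polar Q u a = 0 := by rw [polar_comm]; exact LinearMap.mem_ker.1 haT.1.2
  have hga : polar Q ((g : Matrix ι ι F) *ᵥ a) p₂ = 0 := LinearMap.mem_ker.1 haT.2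
  obtain ⟨τ, hτo, hτx⟩ := exists_sg S.nd P hQu hua
  have hτM : τ ∈ M := hH τ hτo fun x hx => by
    rw [hτx x]; exact A.add_mem (A.add_mem hx (A.smul_mem _ haA)) (A.smul_mem _ hu)
  obtain ⟨θ, hθ, hθx⟩ : ∃ θ ∈ M, IsSg Q θ (p₁ + p₂) ((g : Matrix ι ι F) *ᵥ a) :=
    ⟨g * τ * g⁻¹, M.mul_mem (M.mul_mem hgM hτM) (M.inv_mem hgM), by rw [hp]; exact IsSg.conj hgo hτx⟩
  have hpz : polar Q (p₁ + p₂) ((g : Matrix ι ι F) *ᵥ a) = 0 := by rw [hp, omega_polar hgo, hua]
  obtain ⟨z₁, hz₁, z₂, hz₂, hz⟩ := S.split ((g : Matrix ι ι F) *ᵥ a)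
  have hp1B : ∀ y ∈ B, polar Q p₁ y = 0 := S.orth p₁ hp₁
  have hz2p : polar Q z₂ p₂ = 0 := by
    rwa [← hz, polar_add_left, S.orth z₁ hz₁ p₂ hp₂, zero_add] at hga
  have hp1z : polar Q p₁ z₁ = 0 := by
    rwa [← hz, polar_add_right, polar_add_left, polar_add_left, hp1B z₂ hz₂,
      polar_comm Q p₂ z₁, S.orth z₁ hz₁ p₂ hp₂, polar_comm Q p₂ z₂, hz2p, add_zero, add_zero,
      add_zero] at hpz
  by_cases hl : ∃ l : F, z₂ = l • p₂
  · obtain ⟨l, hl⟩ := hl
    set z := z₁ - l • p₁ with hzdef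
    have hzA : z ∈ A := A.sub_mem hz₁ (A.smul_mem _ hp₁)
    have hgz : (g : Matrix ι ι F) *ᵥ (a - l • u) = z := by
      rw [mulVec_sub, mulVec_smul, ← hz, ← hp, hzdef, hl]; module
    have hzp : polar Q p₁ z = 0 := by
      rw [hzdef, polar_sub_right, polar_smul_right, hp1z, Classical.Quad.polar_singular_self hQ1,
        smul_zero, sub_zero]
    have hQz : Q z ≠ 0 := by
      intro h
      obtain ⟨m, hm'⟩ := hm p₁ hp₁ z hzA hp₁0 hQ1 h hzp
      have e : (g : Matrix ι ι F) *ᵥ (m • u - (a - l • u)) = m • p₂ := by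
        rw [mulVec_sub, mulVec_smul, hgz, ← hp, hm']; module
      have hs : Q (m • u - (a - l • u)) = 0 := by
        rw [← omega_iso hgo, e, QuadraticMap.map_smul, hQ2, smul_zero]
      have ho : polar Q u (m • u - (a - l • u)) = 0 := by
        simp only [polar_sub_right, polar_smul_right, hua, Classical.Quad.polar_singular_self hQu,
          smul_zero, sub_zero]
      obtain ⟨n, hn⟩ := hm u hu _ (A.sub_mem (A.smul_mem _ hu) (A.sub_mem haA (A.smul_mem _ hu)))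
        hu0 hQu hs ho
      refine hau (Submodule.mem_span_singleton.2 ⟨m + l - n, ?_⟩)
      linear_combination (norm := module) hn
    obtain ⟨θ₂, hθ₂, hθ₂x⟩ : ∃ θ₂ ∈ M, IsSg Q θ₂ (p₁ + p₂) (z + 0) := by
      have hua' : polar Q u (a - l • u) = 0 := by
        rw [polar_sub_right, polar_smul_right, hua, Classical.Quad.polar_singular_self hQu, smul_zero,
          sub_zero]
      obtain ⟨τ', hτo', hτx'⟩ := exists_sg S.nd P hQu hua'
      have hτM' : τ' ∈ M := hH τ' hτo' fun x hx => by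
        rw [hτx' x]
        exact A.add_mem (A.add_mem hx (A.smul_mem _ (A.sub_mem haA (A.smul_mem _ hu)))) (A.smul_mem _ hu)
      exact ⟨g * τ' * g⁻¹, M.mul_mem (M.mul_mem hgM hτM') (M.inv_mem hgM),
        by rw [add_zero, ← hgz, hp]; exact IsSg.conj hgo hτx'⟩
    obtain ⟨b, hb, hb0, hbM⟩ := S.cross_of P hMK hH hp₁ hp₂ hzA B.zero_mem hp₁ hQ1
      (Classical.Quad.polar_singular_self hQ1) hzp hzA hzp hθ₂ hθ₂x (by
        rw [smul_zero, zero_add, polar_comm Q z p₁, hzp, mul_zero, sub_zero,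
          Classical.Quad.polar_self']
        exact smul_ne_zero (neg_ne_zero.2 (mul_ne_zero h2 hQz)) hp₂0)
    exact ⟨p₁, b, hp₁, hp₁0, hQ1, hb, hb0, hbM⟩
  -- exchange inside `B`
  push Not at hl
  obtain ⟨y, hy, hpy, hyz⟩ := S.symm.exists_sep hz₂ hp₂ hp₂0 hl
  obtain ⟨η, hηo, hηx⟩ := exists_sg S.nd P hQ2 hpy
  have hηA : ∀ (h : GL ι F) (y' : ι → F), y' ∈ B → IsSg Q h p₂ y' →
      ∀ x ∈ A, (h : Matrix ι ι F) *ᵥ x ∈ A := fun h y' hy' hhx x hx => by
    rw [hhx x, S.orth x hx p₂ hp₂, S.orth x hx y' hy']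
    simpa using hx
  have hηM : η ∈ M := hH η hηo (hηA η y hy hηx)
  have hconj := IsSg.conj (hMK hθ) hηx
  set c := -(polar Q y z₂) with hc
  have e1 : (θ : Matrix ι ι F) *ᵥ p₂ = p₂ := by
    rw [hθx p₂, polar_add_right, polar_comm Q p₂ p₁, hp1B p₂ hp₂,
      Classical.Quad.polar_singular_self hQ2, polar_comm Q p₂ ((g : Matrix ι ι F) *ᵥ a), hga]
    simp
  have e2 : (θ : Matrix ι ι F) *ᵥ y = y + c • (p₁ + p₂) := by
    rw [hθx y, polar_add_right, polar_comm Q y p₁, hp1B y hy, polar_comm Q y p₂, hpy, ← hz,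
      polar_add_right, polar_comm Q y z₁, S.orth z₁ hz₁ y hy, hc]
    simp
  rw [e1, e2] at hconj
  have hyB : -y - c • p₂ ∈ B := B.sub_mem (B.neg_mem hy) (B.smul_mem _ hp₂)
  have hpy' : polar Q p₂ (-y - c • p₂) = 0 := by
    rw [polar_sub_right, polar_neg_right, polar_smul_right, hpy,
      Classical.Quad.polar_singular_self hQ2]
    simp
  obtain ⟨ν, hνo, hνx⟩ := exists_sg S.nd P hQ2 hpy'
  have hνM : ν ∈ M := hH ν hνo (hηA ν _ hyB hνx)
  have hpp : polar Q p₂ (y + c • (p₁ + p₂)) = 0 := by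
    rw [polar_add_right, polar_smul_right, polar_add_right, hpy, polar_comm Q p₂ p₁, hp1B p₂ hp₂,
      Classical.Quad.polar_singular_self hQ2]
    simp
  have hprod := IsSg.mul hQ2 hpy' hpp hνx hconj
  rw [show -y - c • p₂ + (y + c • (p₁ + p₂)) = c • p₁ by module] at hprod
  have hex : IsSg Q (ν * (θ * η * θ⁻¹)) (c • p₁) (-p₂) := fun x => by
    rw [hprod x, polar_neg_right, QuadraticMap.map_neg, QuadraticMap.map_smul, hQ1, hQ2, smul_zero]
    module
  refine ⟨p₁, c • -p₂, hp₁, hp₁0, hQ1, B.smul_mem _ (B.neg_mem hp₂),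
    smul_ne_zero (neg_ne_zero.2 hyz) (neg_ne_zero.2 hp₂0), _,
    M.mul_mem hνM (M.mul_mem (M.mul_mem hθ hηM) (M.inv_mem hθ)), IsSg.smul c hex⟩

/-- A subgroup of `Ω` containing the stabiliser of a splitting and an element not preserving it
is everything. -/
theorem IsSplit.omega_le_minus (S : IsSplit Q A B) (h7 : 7 ≤ Fintype.card ι) (hA : Module.finrank F A = 4)
    (h2 : (2 : F) ≠ 0) (hm : Minus Q A)
    (hswap : ∀ g ∈ omegaGL ⇑Q, ¬ ∀ x ∈ A, (g : Matrix ι ι F) *ᵥ x ∈ B)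
    (hex : ¬ (Fintype.card F ≤ 3 ∧ Module.finrank F B = 2 ∧ IsPlusTypeOn ⇑Q B))
    (hMK : M ≤ omegaGL ⇑Q)
    (hH : ∀ h ∈ omegaGL ⇑Q, (∀ x ∈ A, (h : Matrix ι ι F) *ᵥ x ∈ A) → h ∈ M)
    {g : GL ι F} (hgM : g ∈ M) (hg : ¬ ∀ x ∈ A, (g : Matrix ι ι F) *ᵥ x ∈ A) :
    omegaGL ⇑Q ≤ M := by
  classical
  have h4 : 4 ≤ Module.finrank F A := hA.ge
  have hgo := hMK hgM
  have hTA : ∀ u w : ι → F, u ∈ A → w ∈ A → Q u = 0 → polar Q u w = 0 →
      ∃ h ∈ M, IsSg Q h u w := by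
    intro u w hu hw hQu huw
    obtain ⟨h, hh, hhx⟩ := exists_sg S.nd P hQu huw
    refine ⟨h, hH h hh fun x hx => ?_, hhx⟩
    rw [hhx x]
    exact A.add_mem (A.add_mem hx (A.smul_mem _ hw)) (A.smul_mem _ hu)
  -- a hyperbolic pair in `A`
  obtain ⟨e₀, he₀, he₀0⟩ := Submodule.exists_mem_ne_zero_of_ne_bot (p := A) fun h => by
    rw [h, finrank_bot] at h4; omega
  obtain ⟨u₀, hu₀, hu₀0, hQu₀⟩ := exists_singular_in (Q := Q) (S := A) (by omega)
  obtain ⟨x₀, hx₀, hux₀⟩ := S.exists_ne hu₀ hu₀0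
  set y₀ := (polar Q u₀ x₀)⁻¹ • x₀ with hy₀
  have hy₀A : y₀ ∈ A := A.smul_mem _ hx₀
  have huy : polar Q u₀ y₀ = 1 := by
    rw [hy₀, polar_smul_right, smul_eq_mul, inv_mul_cancel₀ hux₀]
  clear_value y₀
  have hval : ∀ s : F, ∃ a ∈ A, Q a = s := fun s => ⟨y₀ + (s - Q y₀) • u₀,
    A.add_mem hy₀A (A.smul_mem _ hu₀), by
      rw [Classical.Quad.Q_comb1, hQu₀, polar_comm Q y₀ u₀, huy]; ring⟩
  set v₀ := y₀ + (-(Q y₀)) • u₀ with hv₀
  have hv₀A : v₀ ∈ A := A.add_mem hy₀A (A.smul_mem _ hu₀)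
  have hQv₀ : Q v₀ = 0 := by rw [hv₀, Classical.Quad.Q_comb1, hQu₀, polar_comm Q y₀ u₀, huy]; ring
  have huv₀ : polar Q u₀ v₀ = 1 := by
    rw [hv₀, polar_add_right, polar_smul_right, Classical.Quad.polar_singular_self hQu₀, huy]; simp
  have hv₀0 : v₀ ≠ 0 := fun h => one_ne_zero (α := F) (by rw [← huv₀, h, polar_zero_right])
  -- some root element with a component outside `A`
  obtain ⟨u, w, hu, hu0, hQu, hw, hw0, huw⟩ : ∃ u w, u ∈ A ∧ u ≠ 0 ∧ Q u = 0 ∧ w ∈ B ∧ w ≠ 0 ∧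
      ∃ h ∈ M, IsSg Q h u w := by
    obtain ⟨u, hu, hu0, hQu, p₁, hp₁, p₂, hp₂, hp, hp₁0, hp₂0⟩ : ∃ u ∈ A, u ≠ 0 ∧ Q u = 0 ∧
        ∃ p₁ ∈ A, ∃ p₂ ∈ B, p₁ + p₂ = (g : Matrix ι ι F) *ᵥ u ∧ p₁ ≠ 0 ∧ p₂ ≠ 0 := by
      by_contra hcon
      push Not at hcon
      have hcase : ∀ u ∈ A, Q u = 0 →
          (g : Matrix ι ι F) *ᵥ u ∈ A ∨ (g : Matrix ι ι F) *ᵥ u ∈ B := by
        intro u hu hQu
        rcases eq_or_ne u 0 with rfl | hu0
        · rw [mulVec_zero]; exact Or.inl A.zero_mem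
        obtain ⟨a, ha, b, hb, hab⟩ := S.split ((g : Matrix ι ι F) *ᵥ u)
        rcases eq_or_ne a 0 with rfl | ha0
        · rw [zero_add] at hab; exact Or.inr (hab ▸ hb)
        · have := hcon u hu hu0 hQu a ha b hb hab ha0
          rw [this, add_zero] at hab
          exact Or.inl (hab ▸ ha)
      have hsplit : ∀ u u' : ι → F, u ∈ A → u' ∈ A → Q u = 0 → Q u' = 0 → polar Q u u' ≠ 0 →
          (g : Matrix ι ι F) *ᵥ u ∈ A → (g : Matrix ι ι F) *ᵥ u' ∈ A := by
        intro u u' hu hu' hQu hQu' hne h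
        refine (hcase u' hu' hQu').resolve_right fun h' => hne ?_
        rw [← omega_polar hgo]
        exact S.orth _ h _ h'
      have hsplit0 : ∀ u u' : ι → F, u ∈ A → u' ∈ A → u ≠ 0 → u' ≠ 0 → Q u = 0 → Q u' = 0 →
          (g : Matrix ι ι F) *ᵥ u ∈ A → (g : Matrix ι ι F) *ᵥ u' ∈ A := by
        intro u u' hu hu' hu0 hu'0 hQu hQu' h
        by_cases hne : polar Q u u' = 0
        · obtain ⟨x, hx, hux, hu'x⟩ := S.exists_both hu hu' hu0 hu'0
          set x₁ := (polar Q u x)⁻¹ • x with hx₁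
          have e1 : polar Q u x₁ = 1 := by rw [hx₁, polar_smul_right, smul_eq_mul, inv_mul_cancel₀ hux]
          have hx₁A : x₁ ∈ A := A.smul_mem _ hx
          clear_value x₁
          set y := x₁ + (-(Q x₁)) • u with hy
          have hyA : y ∈ A := A.add_mem hx₁A (A.smul_mem _ hu)
          have hQy : Q y = 0 := by rw [hy, Classical.Quad.Q_comb1, hQu, polar_comm Q x₁ u, e1]; ring
          have huy' : polar Q u y ≠ 0 := by
            rw [hy, polar_add_right, polar_smul_right, Classical.Quad.polar_singular_self hQu, e1]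
            simp
          have hu'y : polar Q y u' ≠ 0 := by
            rw [polar_comm, hy, polar_add_right, polar_smul_right, polar_comm Q u' u, hne, smul_zero,
              add_zero, hx₁, polar_smul_right, smul_eq_mul]
            exact mul_ne_zero (inv_ne_zero hux) hu'x
          exact hsplit y u' hyA hu' hQy hQu' hu'y (hsplit u y hu hyA hQu hQy huy' h)
        · exact hsplit u u' hu hu' hQu hQu' hne h
      -- `A` is spanned by its singular vectors
      have hspan : ∀ C : Submodule F (ι → F), (∀ u ∈ A, Q u = 0 → (g : Matrix ι ι F) *ᵥ u ∈ C) →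
          ∀ x ∈ A, (g : Matrix ι ι F) *ᵥ x ∈ C := by
        intro C hC x hx
        have hsing : ∀ x ∈ A, polar Q u₀ x = 1 → (g : Matrix ι ι F) *ᵥ x ∈ C := fun x hx h1 => by
          have h := C.add_mem (hC (x + (-(Q x)) • u₀) (A.add_mem hx (A.smul_mem _ hu₀))
            (by rw [Classical.Quad.Q_comb1, hQu₀, polar_comm Q x u₀, h1]; ring))
            (C.smul_mem (Q x) (hC u₀ hu₀ hQu₀))
          rwa [← mulVec_smul, ← mulVec_add,
            show x + -Q x • u₀ + Q x • u₀ = x by module] at h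
        have h1 := hsing (x + (1 - polar Q u₀ x) • v₀) (A.add_mem hx (A.smul_mem _ hv₀A))
          (by rw [polar_add_right, polar_smul_right, huv₀, smul_eq_mul]; ring)
        have h2 := C.smul_mem (1 - polar Q u₀ x) (hC v₀ hv₀A hQv₀)
        have := C.sub_mem h1 h2
        rwa [mulVec_add, mulVec_smul, add_sub_cancel_right] at this
      rcases hcase u₀ hu₀ hQu₀ with h | h
      · refine hg (hspan A fun u hu hQu => ?_)
        rcases eq_or_ne u 0 with rfl | hu0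
        · rw [mulVec_zero]; exact A.zero_mem
        exact hsplit0 u₀ u hu₀ hu hu₀0 hu0 hQu₀ hQu h
      · have hall : ∀ x ∈ A, (g : Matrix ι ι F) *ᵥ x ∈ B := hspan B fun u hu hQu => by
          rcases eq_or_ne u 0 with rfl | hu0
          · rw [mulVec_zero]; exact B.zero_mem
          refine (hcase u hu hQu).resolve_left fun hA' => ?_
          exact gl_mulVec_ne_zero g hu₀0
            (S.eq_zero (hsplit0 u u₀ hu hu₀ hu0 hu₀0 hQu hQu₀ hA') h)
        exact hswap g hgo hall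
    exact S.exists_cross_minus P h7 hA h2 hm hMK hH hgM hu hu0 hQu hp₁ hp₂ hp hp₁0 hp₂0
  -- the same elements for every singular point of `A`
  let B₀ : Submodule F (ι → F) :=
    { carrier := {b | b ∈ B ∧ ∀ u ∈ A, u ≠ 0 → Q u = 0 → ∃ h ∈ M, IsSg Q h u b}
      zero_mem' := ⟨B.zero_mem, fun u _ _ _ => ⟨1, M.one_mem, fun x => by simp⟩⟩
      add_mem' := fun {b b'} hb hb' => ⟨B.add_mem hb.1 hb'.1, fun u hu hu0 hQu => by
        obtain ⟨h, hh, hhx⟩ := hb.2 u hu hu0 hQu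
        obtain ⟨h', hh', hhx'⟩ := hb'.2 u hu hu0 hQu
        exact ⟨h * h', M.mul_mem hh hh', IsSg.mul hQu (S.orth u hu b hb.1) (S.orth u hu b' hb'.1) hhx hhx'⟩⟩
      smul_mem' := fun t b hb => ⟨B.smul_mem t hb.1, fun u hu hu0 hQu => by
        rcases eq_or_ne t 0 with rfl | ht
        · exact ⟨1, M.one_mem, fun x => by simp⟩
        obtain ⟨h, hh, hhx⟩ := hb.2 (t • u) (A.smul_mem t hu) (smul_ne_zero ht hu0)
          (by rw [QuadraticMap.map_smul, hQu, smul_zero])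
        exact ⟨h, hh, IsSg.smul t hhx⟩⟩ }
  have hB₀mem : ∀ b ∈ B, ∀ u ∈ A, u ≠ 0 → Q u = 0 → (∃ h ∈ M, IsSg Q h u b) → b ∈ B₀ := by
    intro b hb u hu hu0 hQu ⟨h, hh, hhx⟩
    refine ⟨hb, fun u' hu' hu'0 hQu' => ?_⟩
    obtain ⟨k, hk, hkA, hkB, hku⟩ := S.exists_move_minus P hA hm hu hu' hu0 hu'0 hQu hQu'
    have hkM := hH k hk hkA
    have := IsSg.conj hk hhx
    rw [hku, hkB b hb] at this
    exact ⟨_, M.mul_mem (M.mul_mem hkM hh) (M.inv_mem hkM), this⟩
  have hwB₀ : w ∈ B₀ := hB₀mem w hw u hu hu0 hQu huw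
  have hinv : ∀ b ∈ B, Q b ≠ 0 → ∀ x ∈ B₀, x - (polar Q x b / Q b) • b ∈ B₀ := by
    intro b hb hQb x hx
    obtain ⟨a, ha, hQa⟩ := hval (Q b)
    have hQ' := isNondegenerateQuadraticForm S.nd
    have hQa0 : Q a ≠ 0 := by rw [hQa]; exact hQb
    have hab : polar Q a b = 0 := S.orth a ha b hb
    set k := Om.rf hQ' hQa0 * Om.rf hQ' hQb with hkdef
    have hko : k ∈ omegaGL ⇑Q := rf_pair_mem S.nd h7 hQ' hQa0 hQb hQa hab
    have hkA : ∀ y ∈ A, (k : Matrix ι ι F) *ᵥ y ∈ A := fun y hy => by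
      rw [hkdef, gl_mulVec_mul, Om.rf_fix hQ' hQb (S.orth y hy b hb), Om.rf_mulVec]
      exact A.sub_mem hy (A.smul_mem _ ha)
    have hkM := hH k hko hkA
    obtain ⟨h, hh, hhx⟩ := hx.2 u₀ hu₀ hu₀0 hQu₀
    have hkx : (k : Matrix ι ι F) *ᵥ x = x - (polar Q x b / Q b) • b := by
      rw [hkdef, gl_mulVec_mul, Om.rf_mulVec hQ' hQb x, Om.rf_fix hQ' hQa0]
      rw [polar_sub_left, polar_smul_left, polar_comm Q x a, S.orth a ha x hx.1, polar_comm Q b a,
        hab, smul_zero, sub_zero]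
    have h' := IsSg.conj hko hhx
    rw [hkx] at h'
    exact hB₀mem _ (B.sub_mem hx.1 (B.smul_mem _ hb)) _ (hkA _ hu₀) (gl_mulVec_ne_zero _ hu₀0)
      (by rw [omega_iso hko, hQu₀]) ⟨_, M.mul_mem (M.mul_mem hkM hh) (M.inv_mem hkM), h'⟩
  have hsg : ∀ u' ∈ B, ∀ w' ∈ B, Q u' = 0 → polar Q u' w' = 0 → ∀ x ∈ B₀,
      x + polar Q x u' • w' + (-(polar Q x w') - Q w' * polar Q x u') • u' ∈ B₀ := by
    intro u' hu' w' hw' hQu' huw' x hx
    obtain ⟨k, hko, hkx⟩ := exists_sg S.nd P hQu' huw'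
    have hfix : ∀ y ∈ A, (k : Matrix ι ι F) *ᵥ y = y := fun y hy => by
      rw [hkx y, S.orth y hy u' hu', S.orth y hy w' hw']; simp
    have hkM := hH k hko fun y hy => by rw [hfix y hy]; exact hy
    obtain ⟨h, hh, hhx⟩ := hx.2 u₀ hu₀ hu₀0 hQu₀
    have h' := IsSg.conj hko hhx
    rw [hfix u₀ hu₀, hkx x] at h'
    exact hB₀mem _ (B.add_mem (B.add_mem hx.1 (B.smul_mem _ hw')) (B.smul_mem _ hu')) u₀ hu₀ hu₀0
      hQu₀ ⟨_, M.mul_mem (M.mul_mem hkM hh) (M.inv_mem hkM), h'⟩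
  have hB₀B : B₀ = B := by
    by_contra hne
    exact hex (S.invariant_cases (B₀ := B₀) (fun b hb => hb.1)
      (fun h => hw0 ((Submodule.mem_bot F).1 (h ▸ hwB₀))) hne hinv hsg)
  have hSS : ∀ v ∈ A, v ≠ 0 → Q v = 0 → v ∈ SS Q M := by
    refine fun v hv hv0 hQv => ⟨hQv, fun z hz => ?_⟩
    obtain ⟨a, ha, b, hb, rfl⟩ := S.split z
    rw [polar_add_right, S.orth v hv b hb, add_zero] at hz
    obtain ⟨h, hh, hhx⟩ := hTA v a hv ha hQv hz
    obtain ⟨h', hh', hhx'⟩ := ((show b ∈ B₀ by rw [hB₀B]; exact hb) : b ∈ B ∧ _).2 v hv hv0 hQv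
    exact ⟨h * h', M.mul_mem hh hh', IsSg.mul hQv hz (S.orth v hv b hb) hhx hhx'⟩
  exact omega_le_of_pair S.nd P hMK (hSS u₀ hu₀ hu₀0 hQu₀) (hSS v₀ hv₀A hv₀0 hQv₀)
    (by rw [huv₀]; exact one_ne_zero)

omit P in
lemma minus_of_not_plus (hA : Module.finrank F A = 4) (hp : ¬ IsPlusTypeOn ⇑Q A) : Minus Q A := by
  intro u hu v hv hu0 hQu hQv huv
  by_contra hc
  push Not at hc
  have hli : LinearIndependent F ![u, v] := (LinearIndependent.pair_iff' hu0).2 fun t ht => hc t ht.symm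
  refine hp ⟨Submodule.span F {u, v}, Submodule.span_le.2 (by rintro x (rfl | rfl) <;> assumption),
    fun x hx => ?_, ?_⟩
  · obtain ⟨s, t, rfl⟩ := Submodule.mem_span_pair.1 hx
    simp [QuadraticMap.map_add Q, QuadraticMap.map_smul, polar_smul_left, polar_smul_right, hQu, hQv,
      huv]
  · have h := finrank_span_eq_card hli
    rw [Matrix.range_cons_cons_empty, Fintype.card_fin] at h
    omega

/-- Stabilisers of non-degenerate subspaces of even dimension in seven dimensions are maximal. -/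
theorem nondegenerate_stabilizer_maximal_seven (hnd : NDPolar Q) (h2 : (2 : F) ≠ 0)
    (h7 : Fintype.card ι = 7) {W : Submodule F (ι → F)} (hW0 : W ≠ ⊥)
    (hev : Even (Module.finrank F W)) (hW : IsNondegenerateOn (polar Q) W)
    (hex : ¬ (Fintype.card F = 3 ∧ Module.finrank F W = 2 ∧ IsPlusTypeOn (⇑Q) W)) :
    IsMaximalIn (omegaGL ⇑Q) (subspaceStabilizer W ⊓ omegaGL ⇑Q) := by
  classical
  let W' : Submodule F (ι → F) :=
    { carrier := {y | ∀ w ∈ W, polar Q y w = 0}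
      add_mem' := fun {a a'} ha ha' w hw => by rw [polar_add_left, ha w hw, ha' w hw, add_zero]
      zero_mem' := fun w _ => polar_zero_left Q w
      smul_mem' := fun t a ha w hw => by rw [polar_smul_left, ha w hw, smul_zero] }
  have S : IsSplit Q W W' :=
    { nd := hnd
      orth := fun a ha b hb => by rw [polar_comm]; exact hb a ha
      split := fun x => by
        obtain ⟨w, hw, h⟩ := Om.exists_proj (isNondegenerateQuadraticForm hnd) hW x
        exact ⟨w, hw, x - w, h, add_sub_cancel _ _⟩ }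
  have hsum : Module.finrank F W + Module.finrank F W' = Fintype.card ι := by
    rw [← Submodule.finrank_sup_add_finrank_inf_eq]
    have h1 : W ⊔ W' = ⊤ := eq_top_iff.2 fun x _ => by
      obtain ⟨a, ha, b, hb, h⟩ := S.split x
      exact Submodule.mem_sup.2 ⟨a, ha, b, hb, h⟩
    have h0 : W ⊓ W' = ⊥ := eq_bot_iff.2 fun x hx =>
      (Submodule.mem_bot F).2 (S.eq_zero hx.1 hx.2)
    rw [h1, h0, finrank_top, finrank_bot, add_zero, Module.finrank_fintype_fun_eq_card]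
  have hdim : ∀ {X Y : Submodule F (ι → F)} (g : GL ι F),
      (∀ x ∈ X, (g : Matrix ι ι F) *ᵥ x ∈ Y) → Module.finrank F X ≤ Module.finrank F Y := by
    intro X Y g h
    have hle : X.map (Matrix.mulVecLin (g : Matrix ι ι F)) ≤ Y := by
      rintro _ ⟨x, hx, rfl⟩
      exact h x hx
    exact (Submodule.equivMapOfInjective _ (gl_mulVec_injective g) X).finrank_eq.le.trans
      (Submodule.finrank_mono hle)
  have map_other : ∀ {A B : Submodule F (ι → F)}, IsSplit Q A B → ∀ g ∈ omegaGL ⇑Q,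
      (∀ x ∈ A, (g : Matrix ι ι F) *ᵥ x ∈ A) → ∀ x ∈ B, (g : Matrix ι ι F) *ᵥ x ∈ B := by
    intro A B T g hg hA x hx
    obtain ⟨a, ha, b, hb, hab⟩ := T.split ((g : Matrix ι ι F) *ᵥ x)
    suffices a = 0 by rw [← hab, this, zero_add]; exact hb
    by_contra h
    obtain ⟨y, hy, hne⟩ := T.exists_ne ha h
    obtain ⟨y', hy', rfl⟩ := CfsgLib.ClassicalMax.exists_preimage_mem hA hy
    refine hne ?_
    have h1 : polar Q ((g : Matrix ι ι F) *ᵥ x) ((g : Matrix ι ι F) *ᵥ y') = 0 := by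
      rw [omega_polar hg, polar_comm, T.orth y' hy' x hx]
    rw [← hab, polar_add_left, polar_comm Q b, T.orth _ hy b hb, add_zero] at h1
    exact h1
  have hW1 : W ≠ ⊤ := fun h => by
    rw [h, finrank_top, Module.finrank_fintype_fun_eq_card, h7] at hev
    exact absurd hev (by decide)
  refine CfsgLib.ClassicalMax.isMaximalIn_of inf_le_right ?_ ?_
  · obtain ⟨g, hg, hg'⟩ := SetLike.not_le_iff_exists.1 (Asch.omega_not_le_subspace hnd P hW0 hW1)
    exact ⟨g, hg, fun h => hg' h.1⟩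
  intro M hHM hMK g hgM hgH
  have hgW : ¬ ∀ x ∈ W, (g : Matrix ι ι F) *ᵥ x ∈ W := fun h =>
    hgH ⟨mem_subspaceStabilizer_of_forall h, hMK hgM⟩
  have hF3 : Fintype.card F ≤ 3 → Fintype.card F = 3 := fun h => by
    have h1 := Fintype.one_lt_card (α := F)
    by_contra hne
    have hc : ringChar F = 2 := FiniteField.even_card_iff_char_two.2 (by omega)
    have h0 := ringChar.Nat.cast_ringChar (R := F)
    rw [hc] at h0
    exact h2 (by simpa using h0)
  have hW6 : Module.finrank F W < 7 := by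
    have := Submodule.finrank_lt hW1
    rwa [Module.finrank_fintype_fun_eq_card, h7] at this
  have hW2 : 0 < Module.finrank F W := Nat.pos_of_ne_zero fun h => hW0 (Submodule.finrank_eq_zero.1 h)
  obtain ⟨r, hr⟩ := hev
  by_cases hbig : 4 ≤ Module.finrank F W
  · have hswap : ∀ k ∈ omegaGL ⇑Q, ¬ ∀ x ∈ W, (k : Matrix ι ι F) *ᵥ x ∈ W' := fun k _ h => by
      have := hdim k h; omega
    have hexW : ¬ (Fintype.card F ≤ 3 ∧ Module.finrank F W' = 2 ∧ IsPlusTypeOn (⇑Q) W') := by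
      rintro ⟨-, h, -⟩; omega
    by_cases hsp : 5 ≤ Module.finrank F W ∨ IsPlusTypeOn (⇑Q) W
    · have hs : SingPerp Q W := by
        rcases hsp with h | h
        · exact singPerp_of_five h
        · by_cases h5 : 5 ≤ Module.finrank F W
          · exact singPerp_of_five h5
          · exact singPerp_of_plus (by omega) h
      exact S.omega_le' P (by omega) hbig hs (fun _ hF => absurd ((hF 2).resolve_left h2)
          fun h => one_ne_zero (α := F) (by linear_combination h)) hswap hexW hMK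
        (fun h hh hA => hHM ⟨mem_subspaceStabilizer_of_forall hA, hh⟩) hgM hgW
    · push Not at hsp
      exact S.omega_le_minus P (by omega) (by omega) h2 (minus_of_not_plus (by omega) hsp.2) hswap hexW
        hMK (fun h hh hA => hHM ⟨mem_subspaceStabilizer_of_forall hA, hh⟩) hgM hgW
  · refine S.symm.omega_le' P (by omega) (by omega) (singPerp_of_five (by omega))
      (twoFour_of_five (by omega)) (fun k _ h => ?_) ?_ hMK
      (fun h hh hA => hHM ⟨mem_subspaceStabilizer_of_forall (map_other S.symm h hh hA), hh⟩) hgM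
      fun h => hgW (map_other S.symm g (hMK hgM) h)
    · have := hdim k h; omega
    · rintro ⟨hq, hd, hp⟩
      exact hex ⟨hF3 hq, hd, hp⟩

end CfsgLib.ClassicalMax.OmN
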