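/-
Short root elements of symplectic groups, and transitivity on totally isotropic pairs.
-/
import Cfsg.Agent.Lib.ClassicalMax.SympTools
set_option autoImplicit false

namespace CfsgLib.ClassicalMax

open Matrix Cfsg.Geo

variable {ι : Type} [Fintype ι] [DecidableEq ι] {F : Type*} [Field F]
  {f : (ι → F) → (ι → F) → F}

/-- A vector with prescribed pairings against independent vectors. -/
lemma exists_pairing (hf : IsSymplecticForm f) {k : ℕ} {v : Fin k → ι → F}
    (hli : LinearIndependent F v) (c : Fin k → F) : ∃ z, ∀ i, f (v i) z = c i := by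
  obtain ⟨g, hg⟩ := LinearMap.exists_extend ((Finsupp.linearCombination F c).comp
    (hli.repr : Submodule.span F (Set.range v) →ₗ[F] (Fin k →₀ F)))
  obtain ⟨z, hz⟩ := exists_form_eq hf.bilinear hf.nondegenerate g
  refine ⟨z, fun i => ?_⟩
  have := LinearMap.congr_fun hg ⟨v i, Submodule.subset_span ⟨i, rfl⟩⟩
  rw [hz]
  simpa [hli.repr_eq_single i ⟨v i, Submodule.subset_span ⟨i, rfl⟩⟩ rfl] using this

/-- Totally isotropic independent families extend. -/
lemma exists_orth_extend (hf : IsBilinearForm f) {k : ℕ} (v : Fin k → ι → F)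
    (hk : 2 * k < Fintype.card ι) :
    ∃ r, (∀ i, f (v i) r = 0) ∧ r ∉ Submodule.span F (Set.range v) := by
  let L : (ι → F) →ₗ[F] (Fin k → F) := LinearMap.pi fun i => bilinOf hf (v i)
  have h1 := LinearMap.finrank_range_add_finrank_ker L
  have h2 : Module.finrank F (LinearMap.range L) ≤ k := by
    simpa using Submodule.finrank_le (LinearMap.range L)
  have h3 : Module.finrank F (Submodule.span F (Set.range v)) ≤ k :=
    (finrank_range_le_card v).trans (by simp)
  rw [Module.finrank_fintype_fun_eq_card] at h1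
  obtain ⟨r, hr, hr'⟩ := SetLike.not_le_iff_exists.1
    (fun h : LinearMap.ker L ≤ Submodule.span F (Set.range v) => by
      have := Submodule.finrank_mono h
      omega)
  exact ⟨r, fun i => congrFun hr i, hr'⟩

variable [DecidableEq F]

lemma sTv_add (hf : IsSymplecticForm f) (v : ι → F) (a b : F) :
    sTv f v a * sTv f v b = sTv f v (a + b) := by
  refine gl_ext_mulVec fun x => ?_
  simp only [gl_mulVec_mul, sTv_mulVec hf, hf.bilinear.add_left, hf.bilinear.smul_left,
    hf.alternating]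
  module

lemma sTv_inv (hf : IsSymplecticForm f) (v : ι → F) (a : F) :
    (sTv f v a)⁻¹ = sTv f v (-a) := by
  refine inv_eq_of_mul_eq_one_right ?_
  rw [sTv_add hf, add_neg_cancel, sTv_zero]

/-- The short root element `x ↦ x + b f(x,v) u + b f(x,u) v` for orthogonal `u`, `v`. -/
def sh (f : (ι → F) → (ι → F) → F) (u v : ι → F) (b : F) : GL ι F :=
  sTv f (u + b • v) 1 * sTv f u (-1) * sTv f v (-(b ^ 2))

lemma sh_mem_isoOf (hf : IsSymplecticForm f) (u v : ι → F) (b : F) : sh f u v b ∈ isoOf f :=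
  mul_mem (mul_mem (sTv_mem_isoOf hf _ _) (sTv_mem_isoOf hf _ _)) (sTv_mem_isoOf hf _ _)

lemma sh_mulVec (hf : IsSymplecticForm f) {u v : ι → F} (huv : f u v = 0) (b : F) (x : ι → F) :
    (sh f u v b : Matrix ι ι F) *ᵥ x = x + (b * f x v) • u + (b * f x u) • v := by
  have hvu : f v u = 0 := (form_symplectic_eq_zero_comm hf).1 huv
  simp only [sh, gl_mulVec_mul, sTv_mulVec hf, hf.bilinear.add_left, hf.bilinear.smul_left,
    hf.bilinear.add_right, hf.bilinear.smul_right, hf.alternating, huv, hvu]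
  module

lemma sTv_add_smul (hf : IsSymplecticForm f) {u v : ι → F} (huv : f u v = 0) (b c : F) :
    sTv f (u + b • v) c = sTv f u c * sh f u v (c * b) * sTv f v (c * b ^ 2) := by
  have hvu : f v u = 0 := (form_symplectic_eq_zero_comm hf).1 huv
  refine gl_ext_mulVec fun x => ?_
  simp only [gl_mulVec_mul, sTv_mulVec hf, sh_mulVec hf huv, hf.bilinear.add_left,
    hf.bilinear.smul_left, hf.bilinear.add_right, hf.bilinear.smul_right, hf.alternating, huv, hvu]
  module

lemma sh_comm (hf : IsSymplecticForm f) {u v : ι → F} (huv : f u v = 0) (b : F) :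
    sh f u v b = sh f v u b := by
  refine gl_ext_mulVec fun x => ?_
  rw [sh_mulVec hf huv, sh_mulVec hf ((form_symplectic_eq_zero_comm hf).1 huv)]
  abel

lemma sh_smul_right (hf : IsSymplecticForm f) {u v : ι → F} (huv : f u v = 0) (a b : F) :
    sh f u (a • v) b = sh f u v (a * b) := by
  refine gl_ext_mulVec fun x => ?_
  rw [sh_mulVec hf huv, sh_mulVec hf (by rw [hf.bilinear.smul_right, huv, mul_zero]),
    hf.bilinear.smul_right]
  module

lemma sh_smul_left (hf : IsSymplecticForm f) {u v : ι → F} (huv : f u v = 0) (a b : F) :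
    sh f (a • u) v b = sh f u v (a * b) := by
  rw [sh_comm hf (by rw [hf.bilinear.smul_left, huv, mul_zero]),
    sh_smul_right hf ((form_symplectic_eq_zero_comm hf).1 huv), ← sh_comm hf huv]

lemma sh_add (hf : IsSymplecticForm f) {u v : ι → F} (huv : f u v = 0) (a b : F) :
    sh f u v a * sh f u v b = sh f u v (a + b) := by
  have hvu : f v u = 0 := (form_symplectic_eq_zero_comm hf).1 huv
  refine gl_ext_mulVec fun x => ?_
  simp only [gl_mulVec_mul, sh_mulVec hf huv, hf.bilinear.add_left, hf.bilinear.smul_left,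
    hf.alternating, huv, hvu]
  module

lemma sh_zero (hf : IsSymplecticForm f) {u v : ι → F} (huv : f u v = 0) : sh f u v 0 = 1 := by
  refine gl_ext_mulVec fun x => ?_
  rw [sh_mulVec hf huv]
  simp

lemma sh_inv (hf : IsSymplecticForm f) {u v : ι → F} (huv : f u v = 0) (a : F) :
    (sh f u v a)⁻¹ = sh f u v (-a) := by
  refine inv_eq_of_mul_eq_one_right ?_
  rw [sh_add hf huv, add_neg_cancel, sh_zero hf huv]

lemma sh_add_vec (hf : IsSymplecticForm f) {p v w : ι → F} (hv : f p v = 0) (hw : f p w = 0)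
    (b : F) : sh f p v b * sh f p w b = sh f p (v + w) b * sTv f p (b ^ 2 * f w v) := by
  have hv' : f v p = 0 := (form_symplectic_eq_zero_comm hf).1 hv
  have hw' : f w p = 0 := (form_symplectic_eq_zero_comm hf).1 hw
  have hvw : f p (v + w) = 0 := by rw [hf.bilinear.add_right, hv, hw, add_zero]
  refine gl_ext_mulVec fun x => ?_
  simp only [gl_mulVec_mul, sh_mulVec hf hv, sh_mulVec hf hw, sh_mulVec hf hvw, sTv_mulVec hf,
    hf.bilinear.add_left, hf.bilinear.smul_left, hf.bilinear.add_right, hf.bilinear.smul_right,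
    hf.alternating, hv, hw, hv', hw']
  module

lemma sh_sTv_comm (hf : IsSymplecticForm f) {p v : ι → F} (hv : f p v = 0) (b c : F) :
    sTv f p c * sh f p v b = sh f p v b * sTv f p c := by
  have hv' : f v p = 0 := (form_symplectic_eq_zero_comm hf).1 hv
  refine gl_ext_mulVec fun x => ?_
  simp only [gl_mulVec_mul, sh_mulVec hf hv, sTv_mulVec hf, hf.bilinear.add_left,
    hf.bilinear.smul_left, hf.alternating, hv, hv']
  module

lemma sh_conj (hf : IsSymplecticForm f) {g : GL ι F} (hg : g ∈ isoOf f) (u v : ι → F) (b : F) :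
    g * sh f u v b * g⁻¹
      = sh f ((g : Matrix ι ι F) *ᵥ u) ((g : Matrix ι ι F) *ᵥ v) b := by
  simp only [sh, ← mulVec_smul, ← mulVec_add, ← sTv_conj hf hg]
  group

lemma sh_div (hf : IsSymplecticForm f) {p v w : ι → F} (hv : f p v = 0) (hw : f p w = 0) (b : F) :
    sh f p (v + w) b * (sh f p v b)⁻¹ = sh f p w b * sTv f p (-(b ^ 2 * f v w)) := by
  rw [mul_inv_eq_iff_eq_mul, mul_assoc, sh_sTv_comm hf hv, ← mul_assoc, sh_add_vec hf hw hv,
    mul_assoc, sTv_add hf, add_neg_cancel, sTv_zero, mul_one, add_comm v w]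

/-- Two totally isotropic independent pairs are related by a product of transvections. -/
lemma exists_iso_pair (hf : IsSymplecticForm f) {a₁ b₁ a b : ι → F}
    (h₁ : LinearIndependent F ![a₁, b₁]) (h : LinearIndependent F ![a, b]) (hab₁ : f a₁ b₁ = 0)
    (hab : f a b = 0) :
    ∃ t ∈ Subgroup.closure {t | ∃ v c, t = sTv f v c},
      (t : Matrix ι ι F) *ᵥ a₁ = a ∧ (t : Matrix ι ι F) *ᵥ b₁ = b := by
  have ha₁0 : a₁ ≠ 0 := LinearIndependent.ne_zero 0 h₁
  have ha0 : a ≠ 0 := LinearIndependent.ne_zero 0 h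
  obtain ⟨t₀, ht₀, hta⟩ := exists_iso_mulVec hf ha₁0 ha0
  have ht₀i : t₀ ∈ isoOf f :=
    (Subgroup.closure_le _).2 (by rintro _ ⟨v, c, rfl⟩; exact sTv_mem_isoOf hf v c) ht₀
  set b' := (t₀ : Matrix ι ι F) *ᵥ b₁ with hb'
  have hab' : f a b' = 0 := by rw [← hta, hb', mem_isoOf.1 ht₀i, hab₁]
  have hb'not : b' ∉ Submodule.span F {a} := by
    intro hmem
    obtain ⟨c, hc⟩ := Submodule.mem_span_singleton.1 hmem
    rw [LinearIndependent.pair_iff' ha₁0] at h₁
    refine h₁ c (gl_mulVec_injective t₀ ?_)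
    simp only [mulVec_smul, hta, hc, hb']
  have hbnot : b ∉ Submodule.span F {a} := by
    intro hmem
    rw [LinearIndependent.pair_iff' ha0] at h
    obtain ⟨c, hc⟩ := Submodule.mem_span_singleton.1 hmem
    exact h c hc
  obtain ⟨y, hy, hy'⟩ := exists_orth_ne_zero hf.bilinear hf.nondegenerate hb'not
  obtain ⟨y₂, hy₂, hy₂'⟩ := exists_orth_ne_zero hf.bilinear hf.nondegenerate hbnot
  obtain ⟨z, hz, hz1, hz2⟩ := exists_both_ne_zero (bilinOf hf.bilinear b') (bilinOf hf.bilinear b)
    (orthSub hf.bilinear (Submodule.span F {a})) ⟨y, hy, hy'⟩ ⟨y₂, hy₂, hy₂'⟩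
  have haz : f a z = 0 := hz a (Submodule.mem_span_singleton_self a)
  have hzb : f z b ≠ 0 := isoOf_comm_zero hf hz2
  refine ⟨sTv f (b - z) (f z b)⁻¹ * sTv f (z - b') (f b' z)⁻¹ * t₀,
    mul_mem (mul_mem (Subgroup.subset_closure ⟨_, _, rfl⟩) (Subgroup.subset_closure ⟨_, _, rfl⟩)) ht₀,
    ?_, ?_⟩
  · have e1 : f a (z - b') = 0 := by rw [form_sub_right hf.bilinear, haz, hab', sub_zero]
    have e2 : f a (b - z) = 0 := by rw [form_sub_right hf.bilinear, hab, haz, sub_zero]
    rw [gl_mulVec_mul, gl_mulVec_mul, hta, sTv_mulVec_of_orth hf _ e1,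
      sTv_mulVec_of_orth hf _ e2]
  · rw [gl_mulVec_mul, gl_mulVec_mul, ← hb', sTv_sub_mulVec hf hz1, sTv_sub_mulVec hf hzb]

end CfsgLib.ClassicalMax
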