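/-
Stabilisers of a pair of complementary totally singular subspaces are maximal in symplectic groups.
-/
import Cfsg.Agent.Lib.ClassicalMax.SympShort
set_option autoImplicit false

namespace CfsgLib.ClassicalMax.SympPair

open Matrix Cfsg.Geo

variable {ι : Type} [Fintype ι] [DecidableEq ι] {F : Type*} [Field F]
  {f : (ι → F) → (ι → F) → F}

/-- Two complementary totally singular subspaces of half the dimension. -/
structure Pair (f : (ι → F) → (ι → F) → F) (A B : Submodule F (ι → F)) : Prop where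
  hf : IsSymplecticForm f
  tsA : ∀ a ∈ A, ∀ a' ∈ A, f a a' = 0
  tsB : ∀ b ∈ B, ∀ b' ∈ B, f b b' = 0
  split : ∀ x, ∃ a ∈ A, ∃ b ∈ B, a + b = x
  disj : A ⊓ B = ⊥
  dimA : 3 ≤ Module.finrank F A
  dimB : Module.finrank F B = Module.finrank F A

variable {A B : Submodule F (ι → F)}

lemma Pair.symm (P : Pair f A B) : Pair f B A where
  hf := P.hf
  tsA := P.tsB
  tsB := P.tsA
  split x := by
    obtain ⟨a, ha, b, hb, h⟩ := P.split x
    exact ⟨b, hb, a, ha, by rw [← h, add_comm]⟩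
  disj := by rw [inf_comm, P.disj]
  dimA := P.dimB ▸ P.dimA
  dimB := P.dimB.symm

lemma Pair.exists_ne (P : Pair f A B) {a : ι → F} (ha : a ∈ A) (ha0 : a ≠ 0) :
    ∃ b ∈ B, f a b ≠ 0 := by
  by_contra hcon
  push Not at hcon
  obtain ⟨x, hx⟩ := (P.hf.nondegenerate a ha0).2
  obtain ⟨c, hc, b, hb, rfl⟩ := P.split x
  exact hx (by rw [P.hf.bilinear.add_right, P.tsA a ha c hc, hcon b hb, add_zero])

/-- Few vectors leave room in a subspace of larger dimension. -/
lemma exists_avoid_of_lt {W : Submodule F (ι → F)} {k l : ℕ} (φ : Fin k → (ι → F) →ₗ[F] F)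
    (s : Fin l → ι → F) (hkl : k + l < Module.finrank F W) :
    ∃ w ∈ W, (∀ i, φ i w = 0) ∧ w ∉ Submodule.span F (Set.range s) := by
  let L : W →ₗ[F] (Fin k → F) := LinearMap.pi fun i => (φ i).comp W.subtype
  have h1 := LinearMap.finrank_range_add_finrank_ker L
  have h2 : Module.finrank F (LinearMap.range L) ≤ k := by
    simpa using Submodule.finrank_le (LinearMap.range L)
  have h3 : Module.finrank F (Submodule.span F (Set.range s)) ≤ l :=
    (finrank_range_le_card s).trans (by simp)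
  by_contra hcon
  push Not at hcon
  have h4 : (LinearMap.ker L).map W.subtype ≤ Submodule.span F (Set.range s) := by
    rintro _ ⟨w, hw, rfl⟩
    exact hcon w w.2 fun i => congrFun hw i
  have h5 := Submodule.finrank_mono h4
  rw [Submodule.finrank_map_subtype_eq] at h5
  omega

/-- Few vectors leave room in a subspace of dimension at least seven. -/
lemma exists_avoid {W : Submodule F (ι → F)} (hW : 7 ≤ Module.finrank F W) {k l : ℕ}
    (φ : Fin k → (ι → F) →ₗ[F] F) (s : Fin l → ι → F) (hkl : k + l < 7) :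
    ∃ w ∈ W, (∀ i, φ i w = 0) ∧ w ∉ Submodule.span F (Set.range s) :=
  exists_avoid_of_lt φ s (hkl.trans_le hW)

lemma Pair.sep (P : Pair f A B) {u : ι → F} (hu : u ∈ B) {k : ℕ} (s : Fin k → ι → F)
    (hs : ∀ i, s i ∈ B) (hu' : u ∉ Submodule.span F (Set.range s)) :
    ∃ a ∈ A, f u a = 1 ∧ ∀ i, f (s i) a = 0 := by
  obtain ⟨φ, hφu, hφs⟩ := Submodule.exists_dual_map_eq_bot_of_notMem hu' inferInstance
  obtain ⟨z, hz⟩ := exists_form_eq P.hf.bilinear P.hf.nondegenerate φ
  obtain ⟨a, ha, b, hb, rfl⟩ := P.split z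
  have h : ∀ w ∈ B, f w a = φ w := fun w hw => by
    rw [← hz, P.hf.bilinear.add_right, P.tsB w hw b hb, add_zero]
  refine ⟨(φ u)⁻¹ • a, A.smul_mem _ ha, by rw [P.hf.bilinear.smul_right, h u hu, inv_mul_cancel₀ hφu],
    fun i => ?_⟩
  have h0 : φ (s i) = 0 := (Submodule.mem_bot F).1
    (hφs ▸ Submodule.mem_map_of_mem (Submodule.subset_span ⟨i, rfl⟩))
  rw [P.hf.bilinear.smul_right, h (s i) (hs i), h0, mul_zero]

variable [DecidableEq F]

variable {M : Subgroup (GL ι F)}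

/-- The short root elements of the stabiliser. -/
def Contains (f : (ι → F) → (ι → F) → F) (A B : Submodule F (ι → F)) (M : Subgroup (GL ι F)) :
    Prop :=
  ∀ a ∈ A, ∀ b ∈ B, f a b = 0 → ∀ c, sh f a b c ∈ M

lemma Contains.symm (P : Pair f A B) (hM : Contains f A B M) : Contains f B A M :=
  fun b hb a ha h c => by
    rw [sh_comm P.hf h]
    exact hM a ha b hb ((form_symplectic_eq_zero_comm P.hf).1 h) c

/-- A short root element inside one subspace gives a transvection there. -/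
lemma transvection_of_side (P : Pair f A B) (h2 : (2 : F) ≠ 0) (hM : Contains f A B M)
    {p w : ι → F} (hp : p ∈ B) (hw : w ∈ B) (hwp : w ∉ Submodule.span F {p}) {c κ : F} (hc : c ≠ 0)
    (h : sh f p w c * sTv f p κ ∈ M) : ∃ k : F, k ≠ 0 ∧ sTv f p k ∈ M := by
  have hf := P.hf
  obtain ⟨a, ha, haw, hap⟩ := P.sep hw ![p] (by intro i; fin_cases i; exact hp)
    (by rwa [Matrix.range_cons, Matrix.range_empty, Set.union_empty])
  have hpa : f p a = 0 := hap 0
  have hap' : f a p = 0 := (form_symplectic_eq_zero_comm hf).1 hpa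
  have hi := sh_mem_isoOf hf a p 1
  have hpw : f p w = 0 := P.tsB p hp w hw
  have hwp0 : f w p = 0 := P.tsB w hw p hp
  have h' := M.mul_mem (M.mul_mem (hM a ha p hp hap' 1) h) (M.inv_mem (hM a ha p hp hap' 1))
  rw [show sh f a p 1 * (sh f p w c * sTv f p κ) * (sh f a p 1)⁻¹
    = (sh f a p 1 * sh f p w c * (sh f a p 1)⁻¹) * (sh f a p 1 * sTv f p κ * (sh f a p 1)⁻¹) by group,
    sh_conj hf hi, sTv_conj hf hi, sh_mulVec hf hap', sh_mulVec hf hap', hf.alternating, hpa, hwp0,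
    haw] at h'
  simp only [mul_zero, one_mul, zero_smul, add_zero, one_smul] at h'
  have e : sh f p (w + p) c * sTv f p κ = sTv f p (2 * c) * (sh f p w c * sTv f p κ) := by
    have e' : f p (w + p) = 0 := by rw [hf.bilinear.add_right, hpw, hf.alternating, add_zero]
    refine gl_ext_mulVec fun z => ?_
    simp only [gl_mulVec_mul, sh_mulVec hf hpw, sh_mulVec hf e', sTv_mulVec hf,
      hf.bilinear.add_left, hf.bilinear.add_right, hf.bilinear.smul_left, hf.alternating, hpw, hwp0]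
    module
  rw [e] at h'
  exact ⟨2 * c, mul_ne_zero h2 hc, (M.mul_mem_cancel_right h).1 h'⟩

/-- A short root element outside the stabiliser gives a transvection on one of the subspaces. -/
lemma transvection_of_sh (P : Pair f A B) (h2 : (2 : F) ≠ 0) (hM : Contains f A B M)
    {u1 u2 v1 v2 : ι → F} (hu1 : u1 ∈ A) (hu2 : u2 ∈ B) (hv1 : v1 ∈ A) (hv2 : v2 ∈ B)
    (hne : v2 ≠ 0) (hspan : u2 ∉ Submodule.span F {v2}) {c : F} (hc : c ≠ 0)
    (huv : f (u1 + u2) (v1 + v2) = 0) (h1 : sh f (u1 + u2) (v1 + v2) c ∈ M) :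
    ∃ p ∈ A ⊔ B, (p ∈ A ∨ p ∈ B) ∧ p ≠ 0 ∧ ∃ k : F, k ≠ 0 ∧ sTv f p k ∈ M := by
  have hf := P.hf
  have o := fun {x y : ι → F} => (form_symplectic_eq_zero_comm hf (x := x) (y := y)).1
  obtain ⟨b, hb, hbφ, hbs⟩ := exists_avoid_of_lt (W := B)
    ![bilinOf hf.bilinear u1, bilinOf hf.bilinear v1] ![] (lt_of_lt_of_le (by omega) (P.dimB ▸ P.dimA))
  have hb0 : b ≠ 0 := fun e => hbs (by rw [e]; exact zero_mem _)
  have hbu1 : f u1 b = 0 := hbφ 0
  have hbv1 : f v1 b = 0 := hbφ 1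
  refine ⟨b, Submodule.mem_sup_right hb, Or.inr hb, hb0, ?_⟩
  -- the final step
  have fin : ∀ w1 ∈ A, ∀ w2 ∈ B, w2 ≠ 0 → f w1 b = 0 → ∀ e : F, e ≠ 0 →
      sh f b (w1 + w2) e ∈ M → ∃ k : F, k ≠ 0 ∧ sTv f b k ∈ M := by
    intro w1 hw1 w2 hw2 hw20 hwb e he h
    have hbw1 : f b w1 = 0 := o hwb
    have hbw2 : f b w2 = 0 := P.tsB b hb w2 hw2
    have hs := Contains.symm P hM b hb w1 hw1 hbw1 e
    have hsum := sh_add_vec hf hbw1 hbw2 e
    have hK : sh f b w2 e * sTv f b (-(e ^ 2 * f w2 w1)) ∈ M := by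
      suffices sh f b w2 e * sTv f b (-(e ^ 2 * f w2 w1))
          = (sh f b w1 e)⁻¹ * sh f b (w1 + w2) e from this ▸ M.mul_mem (M.inv_mem hs) h
      rw [eq_inv_mul_iff_mul_eq, ← mul_assoc, hsum, mul_assoc, sTv_add hf, add_neg_cancel, sTv_zero,
        mul_one]
    by_cases hsp : w2 ∈ Submodule.span F {b}
    · obtain ⟨l, rfl⟩ := Submodule.mem_span_singleton.1 hsp
      have hl : l ≠ 0 := fun h => hw20 (by rw [h, zero_smul])
      rw [hf.bilinear.smul_left, hbw1, mul_zero, mul_zero, neg_zero, sTv_zero, mul_one,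
        sh_smul_right hf (hf.alternating b)] at hK
      refine ⟨2 * (l * e), mul_ne_zero h2 (mul_ne_zero hl he), ?_⟩
      convert hK using 1
      refine gl_ext_mulVec fun z => ?_
      rw [sh_mulVec hf (hf.alternating b), sTv_mulVec hf]
      module
    · exact transvection_of_side P h2 hM hb hw2 hsp he hK
  -- an element moving the two points along `b`
  obtain ⟨a, ha, hba, hmove⟩ : ∃ a ∈ A, f b a = 0 ∧ (f u2 a ≠ 0 ∨ f v2 a ≠ 0) := by
    have h : u2 ∉ Submodule.span F (Set.range ![b]) ∨ v2 ∉ Submodule.span F (Set.range ![b]) := by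
      rw [Matrix.range_cons, Matrix.range_empty, Set.union_empty]
      by_contra hcon
      push Not at hcon
      obtain ⟨s, hs⟩ := Submodule.mem_span_singleton.1 hcon.1
      obtain ⟨t, ht⟩ := Submodule.mem_span_singleton.1 hcon.2
      have ht0 : t ≠ 0 := fun h => hne (by rw [← ht, h, zero_smul])
      exact hspan (Submodule.mem_span_singleton.2 ⟨s / t, by
        rw [← ht, smul_smul, div_mul_cancel₀ _ ht0, hs]⟩)
    rcases h with h | h
    · obtain ⟨a, ha, h1, h3⟩ := P.sep hu2 ![b] (by intro i; fin_cases i; exact hb) h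
      exact ⟨a, ha, h3 0, Or.inl (by rw [h1]; exact one_ne_zero)⟩
    · obtain ⟨a, ha, h1, h3⟩ := P.sep hv2 ![b] (by intro i; fin_cases i; exact hb) h
      exact ⟨a, ha, h3 0, Or.inr (by rw [h1]; exact one_ne_zero)⟩
  set r := f u2 a with hr
  set q := f v2 a with hq
  set u := u1 + u2 with hu
  set v := v1 + v2 with hv
  have hub : f u b = 0 := by rw [hu, hf.bilinear.add_left, hbu1, P.tsB u2 hu2 b hb, add_zero]
  have hvb : f v b = 0 := by rw [hv, hf.bilinear.add_left, hbv1, P.tsB v2 hv2 b hb, add_zero]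
  have hua : f u a = r := by rw [hu, hf.bilinear.add_left, P.tsA u1 hu1 a ha, zero_add]
  have hva : f v a = q := by rw [hv, hf.bilinear.add_left, P.tsA v1 hv1 a ha, zero_add]
  have hbu : f b u = 0 := o hub
  have hbv : f b v = 0 := o hvb
  have hX : ∀ t : F, f (u + (t * r) • b) (v + (t * q) • b) = 0 ∧
      sh f (u + (t * r) • b) (v + (t * q) • b) c ∈ M := by
    intro t
    refine ⟨by simp [hf.bilinear.add_left, hf.bilinear.add_right, hf.bilinear.smul_left,
      hf.bilinear.smul_right, huv, hub, hbv, hf.alternating], ?_⟩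
    have hab : f a b = 0 := o hba
    have h := M.mul_mem (M.mul_mem (hM a ha b hb hab t) h1) (M.inv_mem (hM a ha b hb hab t))
    rwa [sh_conj hf (sh_mem_isoOf hf a b t), sh_mulVec hf hab, sh_mulVec hf hab, hub, hvb, hua, hva,
      mul_zero, zero_smul, add_zero, add_zero] at h
  obtain ⟨o1, m1⟩ := hX 1
  obtain ⟨o2, m2⟩ := hX 2
  rw [one_mul, one_mul] at o1 m1
  by_cases hrq : r = 0 ∨ q = 0
  swap
  · push Not at hrq
    refine ⟨4 * (c * (r * q)), mul_ne_zero (by rw [show (4 : F) = 2 * 2 by norm_num]; exact mul_ne_zero h2 h2)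
      (mul_ne_zero hc (mul_ne_zero hrq.1 hrq.2)), ?_⟩
    suffices sTv f b (4 * (c * (r * q))) = sh f (u + (2 * r) • b) (v + (2 * q) • b) c *
        ((sh f (u + r • b) (v + q • b) c)⁻¹ * (sh f (u + r • b) (v + q • b) c)⁻¹ * sh f u v c) from
      this ▸ M.mul_mem m2 (M.mul_mem (M.mul_mem (M.inv_mem m1) (M.inv_mem m1)) h1)
    rw [sh_inv hf o1]
    refine gl_ext_mulVec fun z => ?_
    simp only [gl_mulVec_mul, sh_mulVec hf o1, sh_mulVec hf o2, sh_mulVec hf huv, sTv_mulVec hf,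
      hf.bilinear.add_left, hf.bilinear.add_right, hf.bilinear.smul_left, hf.bilinear.smul_right,
      hf.alternating, huv, o huv, hub, hvb, hbu, hbv]
    module
  have h3 := M.mul_mem m1 (M.inv_mem h1)
  rcases hrq with h0 | h0
  · have hq0 : q ≠ 0 := hmove.resolve_left (fun h => h h0)
    rw [h0, zero_smul, add_zero, sh_div hf huv (by rw [hf.bilinear.smul_right, hub, mul_zero]),
      hf.bilinear.smul_right, hvb, mul_zero, mul_zero, neg_zero, sTv_zero, mul_one,
      sh_smul_right hf hub, sh_comm hf hub] at h3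
    exact fin u1 hu1 u2 hu2 (fun e => hspan (by rw [e]; exact zero_mem _)) hbu1 _
      (mul_ne_zero hq0 hc) h3
  · have hr0 : r ≠ 0 := hmove.resolve_right (fun h => h h0)
    have hvr : f v (u + r • b) = 0 := by
      rw [hf.bilinear.add_right, hf.bilinear.smul_right, o huv, hvb, mul_zero, add_zero]
    rw [h0, zero_smul, add_zero, ← sh_comm hf hvr, ← sh_comm hf (o huv),
      sh_div hf (o huv) (by rw [hf.bilinear.smul_right, hvb, mul_zero]),
      hf.bilinear.smul_right, hub, mul_zero, mul_zero, neg_zero, sTv_zero, mul_one,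
      sh_smul_right hf hvb, sh_comm hf hvb] at h3
    exact fin v1 hv1 v2 hv2 hne hbv1 _ (mul_ne_zero hr0 hc) h3

/-- An element of an overgroup moving a point of `A` out of both subspaces gives a transvection. -/
lemma exists_transvection (P : Pair f A B) (h2 : (2 : F) ≠ 0) (hM : Contains f A B M)
    {g : GL ι F} (hg : g ∈ M) (hgi : g ∈ isoOf f) {x : ι → F} (hx : x ∈ A)
    (hA : (g : Matrix ι ι F) *ᵥ x ∉ A) (hB : (g : Matrix ι ι F) *ᵥ x ∉ B) :
    ∃ p, (p ∈ A ∨ p ∈ B) ∧ p ≠ 0 ∧ ∃ k : F, k ≠ 0 ∧ sTv f p k ∈ M := by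
  classical
  have hf := P.hf
  have o := fun {x y : ι → F} => (form_symplectic_eq_zero_comm hf (x := x) (y := y)).1
  have key : ∀ y ∈ B, f x y = 0 → f ((g : Matrix ι ι F) *ᵥ x) ((g : Matrix ι ι F) *ᵥ y) = 0 ∧
      sh f ((g : Matrix ι ι F) *ᵥ x) ((g : Matrix ι ι F) *ᵥ y) 1 ∈ M := fun y hy hxy => by
    refine ⟨(hgi x y).trans hxy, ?_⟩
    rw [← sh_conj hf hgi]
    exact M.mul_mem (M.mul_mem hg (hM x hx y hy hxy 1)) (M.inv_mem hg)
  obtain ⟨u1, hu1, u2, hu2, hu⟩ := P.split ((g : Matrix ι ι F) *ᵥ x)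
  have hu10 : u1 ≠ 0 := fun e => hB (by rw [← hu, e, zero_add]; exact hu2)
  have hu20 : u2 ≠ 0 := fun e => hA (by rw [← hu, e, add_zero]; exact hu1)
  -- a point orthogonal to `x` whose image is suitable
  obtain ⟨y, hy, hxy, hy0, v1, hv1, v2, hv2, hv, hcase⟩ : ∃ y ∈ B, f x y = 0 ∧ y ≠ 0 ∧
      ∃ v1 ∈ A, ∃ v2 ∈ B, v1 + v2 = (g : Matrix ι ι F) *ᵥ y ∧
        (v2 = 0 ∨ u2 ∉ Submodule.span F {v2}) := by
    by_contra hcon
    push Not at hcon
    obtain ⟨y₁, hy₁, hy₁x, hy₁s⟩ := exists_avoid_of_lt (W := B)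
      ![bilinOf hf.bilinear x] ![(0 : ι → F)] (lt_of_lt_of_le (by omega) (P.dimB ▸ P.dimA))
    obtain ⟨y₂, hy₂, hy₂x, hy₂s⟩ := exists_avoid_of_lt (W := B)
      ![bilinOf hf.bilinear x] ![y₁] (lt_of_lt_of_le (by omega) (P.dimB ▸ P.dimA))
    rw [Matrix.range_cons, Matrix.range_empty, Set.union_empty] at hy₂s
    have hy₁0 : y₁ ≠ 0 := fun e => hy₁s (by rw [e]; exact zero_mem _)
    obtain ⟨a₁, ha₁, b₁, hb₁, e₁⟩ := P.split ((g : Matrix ι ι F) *ᵥ y₁)
    obtain ⟨a₂, ha₂, b₂, hb₂, e₂⟩ := P.split ((g : Matrix ι ι F) *ᵥ y₂)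
    obtain ⟨hb₁0, hs₁⟩ := hcon y₁ hy₁ (hy₁x 0) hy₁0 a₁ ha₁ b₁ hb₁ e₁
    obtain ⟨hb₂0, hs₂⟩ := hcon y₂ hy₂ (hy₂x 0) (fun e => hy₂s (by rw [e]; exact zero_mem _))
      a₂ ha₂ b₂ hb₂ e₂
    obtain ⟨t₁, ht₁⟩ := Submodule.mem_span_singleton.1 hs₁
    obtain ⟨t₂, ht₂⟩ := Submodule.mem_span_singleton.1 hs₂
    obtain ⟨h3, -⟩ := hcon (t₁ • y₁ - t₂ • y₂) (B.sub_mem (B.smul_mem _ hy₁) (B.smul_mem _ hy₂))
      (by rw [form_sub_right hf.bilinear, hf.bilinear.smul_right, hf.bilinear.smul_right,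
        show f x y₁ = 0 from hy₁x 0, show f x y₂ = 0 from hy₂x 0]; ring)
      (fun e => by
        have ht₂0 : t₂ ≠ 0 := fun h => hu20 (by rw [← ht₂, h, zero_smul])
        refine hy₂s (Submodule.mem_span_singleton.2 ⟨t₂⁻¹ * t₁, ?_⟩)
        rw [mul_smul, sub_eq_zero.1 e, smul_smul, inv_mul_cancel₀ ht₂0, one_smul])
      (t₁ • a₁ - t₂ • a₂) (A.sub_mem (A.smul_mem _ ha₁) (A.smul_mem _ ha₂))
      (t₁ • b₁ - t₂ • b₂) (B.sub_mem (B.smul_mem _ hb₁) (B.smul_mem _ hb₂))
      (by rw [mulVec_sub, mulVec_smul, mulVec_smul, ← e₁, ← e₂]; module)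
    exact h3 (by rw [ht₁, ht₂, sub_self])
  obtain ⟨huv, hsh⟩ := key y hy hxy
  rw [← hu, ← hv] at huv hsh
  by_cases hv20 : v2 = 0
  swap
  · obtain ⟨p, -, hp⟩ := transvection_of_sh P h2 hM hu1 hu2 hv1 hv2 hv20
      (hcase.resolve_left hv20) one_ne_zero huv hsh
    exact ⟨p, hp⟩
  subst hv20
  rw [add_zero] at hv huv hsh
  have hv10 : v1 ≠ 0 := fun e => gl_mulVec_ne_zero g hy0 (by rw [← hv, e])
  have hu2v : f u2 v1 = 0 := by
    rwa [hf.bilinear.add_left, P.tsA u1 hu1 v1 hv1, zero_add] at huv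
  have hv1u2 : f v1 u2 = 0 := o hu2v
  by_cases hsp : u1 ∈ Submodule.span F {v1}
  · -- the element is a short root element of the stabiliser times a transvection
    obtain ⟨t, ht⟩ := Submodule.mem_span_singleton.1 hsp
    have ht0 : t ≠ 0 := fun e => hu10 (by rw [← ht, e, zero_smul])
    subst ht
    refine ⟨v1, Or.inl hv1, hv10, 2 * t, mul_ne_zero h2 ht0, ?_⟩
    have hs := hM v1 hv1 u2 hu2 hv1u2 1
    have e : sh f (t • v1 + u2) v1 1 = sh f v1 u2 1 * sTv f v1 (2 * t) := by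
      refine gl_ext_mulVec fun z => ?_
      simp only [gl_mulVec_mul, sh_mulVec hf huv, sh_mulVec hf hv1u2, sTv_mulVec hf,
        hf.bilinear.add_left, hf.bilinear.add_right, hf.bilinear.smul_left, hf.bilinear.smul_right,
        hf.alternating, hv1u2]
      module
    rw [e] at hsh
    exact (M.mul_mem_cancel_left hs).1 hsh
  -- otherwise a short root element inside the first subspace
  have hv1v : f v1 u1 = 0 := P.tsA v1 hv1 u1 hu1
  rw [← sh_comm hf (o huv)] at hsh
  have hsum' := sh_add_vec hf hv1u2 hv1v 1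
  have hmem : sh f v1 u1 1 * sTv f v1 (-(1 ^ 2 * f u1 u2)) ∈ M := by
    suffices sh f v1 u1 1 * sTv f v1 (-(1 ^ 2 * f u1 u2))
        = (sh f v1 u2 1)⁻¹ * sh f v1 (u1 + u2) 1 from
      this ▸ M.mul_mem (M.inv_mem (hM v1 hv1 u2 hu2 hv1u2 1)) hsh
    rw [eq_inv_mul_iff_mul_eq, ← mul_assoc, hsum', mul_assoc, sTv_add hf, add_neg_cancel, sTv_zero,
      mul_one, add_comm u2 u1]
  exact ⟨v1, Or.inl hv1, hv10, transvection_of_side P.symm h2 (Contains.symm P hM) hv1 hu1 hsp
    one_ne_zero hmem⟩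

omit [DecidableEq F] in
/-- Linear maps on `A` and `B` preserving the pairing give an isometry. -/
lemma Pair.exists_iso (P : Pair f A B) (L : (ι → F) →ₗ[F] (ι → F))
    (hL : ∀ x y, f (L x) (L y) = f x y) :
    ∃ g ∈ isoOf f, ∀ x, (g : Matrix ι ι F) *ᵥ x = L x := by
  have hinj : Function.Injective L := by
    rw [injective_iff_map_eq_zero]
    intro x hx
    refine eq_zero_of_form_left P.hf.nondegenerate fun y => ?_
    rw [← hL, hx, form_zero_left P.hf.bilinear]
  have hu : IsUnit (LinearMap.toMatrix' L) := by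
    rw [← Matrix.mulVec_injective_iff_isUnit]
    intro x y h
    exact hinj (by simpa only [← Matrix.toLin'_apply, Matrix.toLin'_toMatrix'] using h)
  obtain ⟨g, hg⟩ := hu
  have hgx : ∀ x, (g : Matrix ι ι F) *ᵥ x = L x := fun x => by
    rw [hg, ← Matrix.toLin'_apply, Matrix.toLin'_toMatrix']
  refine ⟨g, fun x y => ?_, hgx⟩
  change f ((g : Matrix ι ι F) *ᵥ x) ((g : Matrix ι ι F) *ᵥ y) = f x y
  rw [hgx, hgx, hL]

omit [DecidableEq F] in
lemma Pair.exists_proj (P : Pair f A B) : ∃ π : (ι → F) →ₗ[F] (ι → F),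
    (∀ x, π x ∈ A) ∧ (∀ x, x - π x ∈ B) ∧ (∀ a ∈ A, π a = a) ∧ ∀ b ∈ B, π b = 0 := by
  have hc : IsCompl A B := ⟨disjoint_iff.2 P.disj, codisjoint_iff.2 (eq_top_iff.2 fun x _ => by
    obtain ⟨a, ha, b, hb, rfl⟩ := P.split x
    exact Submodule.add_mem_sup ha hb)⟩
  refine ⟨A.subtype.comp (A.projectionOnto B hc), fun x => SetLike.coe_mem _, fun x => ?_,
    fun a ha => ?_, fun b hb => ?_⟩
  · obtain ⟨a, ha, b, hb, rfl⟩ := P.split x
    simp [Submodule.projectionOnto_apply_left hc ⟨a, ha⟩,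
      Submodule.projectionOnto_apply_right hc ⟨b, hb⟩, hb]
  · simp [Submodule.projectionOnto_apply_left hc ⟨a, ha⟩]
  · simp [Submodule.projectionOnto_apply_right hc ⟨b, hb⟩]

omit [DecidableEq F] in
/-- An isometry interchanging the two subspaces. -/
lemma Pair.exists_swap (P : Pair f A B) :
    ∃ s ∈ isoOf f, (∀ a ∈ A, (s : Matrix ι ι F) *ᵥ a ∈ B) ∧
      (∀ b ∈ B, (s : Matrix ι ι F) *ᵥ b ∈ A) := by
  classical
  have hf := P.hf
  obtain ⟨π, hπA, hπB, hπa, hπb⟩ := P.exists_proj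
  let e := Module.finBasis F A
  -- a dual basis
  have hdual : ∀ i, ∃ b ∈ B, ∀ j, f (e j : ι → F) b = if j = i then 1 else 0 := by
    intro i
    obtain ⟨z, hz⟩ := exists_pairing hf (v := fun j => (e j : ι → F))
      (e.linearIndependent.map' A.subtype (Submodule.ker_subtype _))
      (fun j => if j = i then 1 else 0)
    refine ⟨z - π z, hπB z, fun j => ?_⟩
    rw [form_sub_right hf.bilinear, hz, P.tsA _ (e j).2 _ (hπA z), sub_zero]
  choose d hdB hd using hdual
  let φ : A →ₗ[F] (ι → F) := e.constr F d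
  have hφe : ∀ i, φ (e i) = d i := fun i => e.constr_basis F d i
  have hφB : ∀ a, φ a ∈ B := fun a => by
    rw [← e.sum_repr a, map_sum]
    exact Submodule.sum_mem _ fun i _ => by rw [map_smul, hφe]; exact B.smul_mem _ (hdB i)
  -- the pairing through `φ` is symmetric
  let β : A →ₗ[F] A →ₗ[F] F := (bilinOf hf.bilinear).compl₁₂ A.subtype φ
  have hβ : ∀ a a' : A, f (a : ι → F) (φ a') = β a a' := fun a a' => rfl
  have hflip : β = β.flip := e.ext fun i => e.ext fun j => by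
    change f (e i : ι → F) (φ (e j)) = f (e j : ι → F) (φ (e i))
    rw [hφe, hφe, hd, hd]
    simp only [eq_comm]
  have hsym : ∀ a a' : A, β a a' = β a' a := fun a a' =>
    LinearMap.congr_fun (LinearMap.congr_fun hflip a) a'
  let φ' : (ι → F) →ₗ[F] (ι → F) := φ.comp (π.codRestrict A hπA)
  have hinj : Function.Injective φ := by
    rw [injective_iff_map_eq_zero]
    intro a ha
    by_contra h0
    obtain ⟨b, hb, hab⟩ := P.exists_ne a.2 (fun h => h0 (Subtype.ext h))
    have hz : ∀ a' : A, f (a : ι → F) (φ a') = 0 := fun a' => by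
      rw [hβ, hsym, ← hβ, ha, form_zero_right hf.bilinear]
    -- `φ` is onto `B`
    have hr : ∀ b ∈ B, ∃ a', φ a' = b := by
      intro b hb
      refine ⟨∑ j, f (e j : ι → F) b • e j, sub_eq_zero.1 (of_not_not fun h0 => ?_)⟩
      obtain ⟨a', ha', hne⟩ := P.symm.exists_ne (B.sub_mem (hφB _) hb) h0
      apply hne
      have h : ∀ i, f (e i : ι → F) (φ (∑ j, f (e j : ι → F) b • e j) - b) = 0 := fun i => by
        rw [form_sub_right hf.bilinear, map_sum]
        simp only [map_smul, hφe]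
        rw [← bilinOf_apply hf.bilinear, map_sum]
        simp [hd]
      have h' : (bilinOf hf.bilinear).flip (φ (∑ j, f (e j : ι → F) b • e j) - b) ∘ₗ A.subtype = 0 :=
        e.ext fun i => h i
      rw [form_symplectic_eq_zero_comm hf]
      exact LinearMap.congr_fun h' ⟨a', ha'⟩
    obtain ⟨a', rfl⟩ := hr b hb
    exact hab (hz a')
  let ψ : B →ₗ[F] A :=
    ((LinearEquiv.ofBijective (φ.codRestrict B hφB) (by
      have hi : Function.Injective (φ.codRestrict B hφB) := fun a a' h =>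
        hinj (congrArg Subtype.val h)
      exact ⟨hi, (LinearMap.injective_iff_surjective_of_finrank_eq_finrank P.dimB.symm).1 hi⟩)).symm
      : B →ₗ[F] A)
  have hψ : ∀ b : B, φ (ψ b) = (b : ι → F) := fun b =>
    congrArg Subtype.val (LinearEquiv.apply_symm_apply
      (LinearEquiv.ofBijective (φ.codRestrict B hφB) _) b)
  let L : (ι → F) →ₗ[F] (ι → F) :=
    φ' - A.subtype.comp (ψ.comp ((LinearMap.id - π).codRestrict B fun x => by simpa using hπB x))
  have hL : ∀ x y, f (L x) (L y) = f x y := by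
    intro x y
    set a : A := ⟨π x, hπA x⟩
    set a' : A := ⟨π y, hπA y⟩
    set b : B := ⟨x - π x, hπB x⟩
    set b' : B := ⟨y - π y, hπB y⟩
    have hx : L x = φ a - (ψ b : ι → F) := by simp [L, φ', a, b]; rfl
    have hy : L y = φ a' - (ψ b' : ι → F) := by simp [L, φ', a', b']; rfl
    conv_rhs => rw [show x = (a : ι → F) + b by simp [a, b], show y = (a' : ι → F) + b' by simp [a', b']]
    rw [hx, hy, form_sub_left hf.bilinear, form_sub_right hf.bilinear, form_sub_right hf.bilinear,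
      P.tsB _ (hφB a) _ (hφB a'), P.tsA _ (ψ b).2 _ (ψ b').2, hf.bilinear.add_left,
      hf.bilinear.add_right, hf.bilinear.add_right, P.tsA _ a.2 _ a'.2, P.tsB _ b.2 _ b'.2,
      hf.skew (φ a) (ψ b' : ι → F), hβ, hβ, hsym (ψ b') a, ← hβ, hψ, hsym (ψ b) a', ← hβ, hψ,
      hf.skew (b : ι → F) (a' : ι → F)]
    ring
  obtain ⟨g, hg, hgx⟩ := P.exists_iso L hL
  refine ⟨g, hg, fun a ha => ?_, fun b hb => ?_⟩
  · rw [hgx]
    have h0 : (⟨a - π a, hπB a⟩ : B) = 0 := Subtype.ext (by simp [hπa a ha])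
    have : L a = φ ⟨π a, hπA a⟩ - (ψ ⟨a - π a, hπB a⟩ : ι → F) := by simp [L, φ']; rfl
    rw [this, h0, map_zero, Submodule.coe_zero, sub_zero]
    exact hφB _
  · rw [hgx]
    have h0 : (⟨π b, hπA b⟩ : A) = 0 := Subtype.ext (hπb b hb)
    have : L b = φ ⟨π b, hπA b⟩ - (ψ ⟨b - π b, hπB b⟩ : ι → F) := by simp [L, φ']; rfl
    rw [this, h0, map_zero, zero_sub]
    exact A.neg_mem (ψ _).2

theorem pair_stabilizer_maximal [Fintype F] (P : Pair f A B) (h2 : (2 : F) ≠ 0)
    {D : Fin 2 → Submodule F (ι → F)} (hA : D 0 = A) (hB : D 1 = B) :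
    IsMaximalIn (isoOf f) (decompositionStabilizer D ⊓ isoOf f) := by
  classical
  have hf := P.hf
  have o := fun {x y : ι → F} => (form_symplectic_eq_zero_comm hf (x := x) (y := y)).1
  set H := decompositionStabilizer D ⊓ isoOf f
  have hstab : ∀ g ∈ isoOf f, (∀ a ∈ A, (g : Matrix ι ι F) *ᵥ a ∈ A) →
      (∀ b ∈ B, (g : Matrix ι ι F) *ᵥ b ∈ B) → g ∈ H := by
    intro g hg h1 h2
    refine ⟨⟨1, fun i => ?_⟩, hg⟩
    fin_cases i
    · simp only [Fin.zero_eta, hA, Equiv.Perm.one_apply]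
      refine le_antisymm (Submodule.map_le_iff_le_comap.2 fun a ha => by simpa using h1 a ha) ?_
      intro a ha
      obtain ⟨w, hw, e⟩ := CfsgLib.ClassicalMax.exists_preimage_mem h1 ha
      exact ⟨w, hw, by simpa using e⟩
    · simp only [Fin.mk_one, hB, Equiv.Perm.one_apply]
      refine le_antisymm (Submodule.map_le_iff_le_comap.2 fun a ha => by simpa using h2 a ha) ?_
      intro a ha
      obtain ⟨w, hw, e⟩ := CfsgLib.ClassicalMax.exists_preimage_mem h2 ha
      exact ⟨w, hw, by simpa using e⟩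
  have hHsh : Contains f A B H := fun a ha b hb hab c =>
    hstab _ (sh_mem_isoOf hf _ _ _)
      (fun x hx => by
        rw [sh_mulVec hf hab, P.tsA x hx a ha, mul_zero, zero_smul, add_zero]
        exact A.add_mem hx (A.smul_mem _ ha))
      (fun x hx => by
        rw [sh_mulVec hf hab, P.tsB x hx b hb, mul_zero, zero_smul, add_zero]
        exact B.add_mem hx (B.smul_mem _ hb))
  refine isMaximalIn_of inf_le_right ?_ ?_
  · obtain ⟨a, ha, ha0⟩ := Submodule.exists_mem_ne_zero_of_ne_bot (p := A) fun h => by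
      have := P.dimA; rw [h, finrank_bot] at this; omega
    obtain ⟨b, hb, hab⟩ := P.exists_ne ha ha0
    refine ⟨sTv f b 1, sTv_mem_isoOf hf _ _, fun h => ?_⟩
    obtain ⟨σ, hσ⟩ := h.1
    have h1 : (sTv f b 1 : Matrix ι ι F) *ᵥ a ∈ D (σ 0) := by
      rw [← hσ 0, hA]; exact ⟨a, ha, Matrix.toLin'_apply _ _⟩
    rw [sTv_mulVec hf, one_mul] at h1
    rcases (by omega : σ 0 = 0 ∨ σ 0 = 1) with e | e
    · rw [e, hA, A.add_mem_iff_right ha] at h1
      have hbA : b ∈ A := by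
        have := A.smul_mem (f a b)⁻¹ h1
        rwa [smul_smul, inv_mul_cancel₀ hab, one_smul] at this
      exact hab (P.tsA a ha b hbA)
    · rw [e, hB, B.add_mem_iff_left (B.smul_mem _ hb)] at h1
      exact ha0 ((Submodule.mem_bot F).1 (P.disj ▸ ⟨ha, h1⟩))
  intro M hHM hMK g hgM hgH
  have hgi := hMK hgM
  have hM : Contains f A B M := fun a ha b hb h c => hHM (hHsh a ha b hb h c)
  -- some point leaves both subspaces
  obtain ⟨p, hp, hp0, k, hk, hpk⟩ :
      ∃ p, (p ∈ A ∨ p ∈ B) ∧ p ≠ 0 ∧ ∃ k : F, k ≠ 0 ∧ sTv f p k ∈ M := by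
    by_cases hx : ∃ x ∈ A, (g : Matrix ι ι F) *ᵥ x ∉ A ∧ (g : Matrix ι ι F) *ᵥ x ∉ B
    · obtain ⟨x, hx, h1, h2'⟩ := hx
      exact exists_transvection P h2 hM hgM hgi hx h1 h2'
    by_cases hy : ∃ x ∈ B, (g : Matrix ι ι F) *ᵥ x ∉ B ∧ (g : Matrix ι ι F) *ᵥ x ∉ A
    · obtain ⟨x, hx, h1, h2'⟩ := hy
      obtain ⟨p, hp, r⟩ := exists_transvection P.symm h2 (Contains.symm P hM) hgM hgi hx h1 h2'
      exact ⟨p, hp.symm, r⟩
    exfalso
    push Not at hx hy
    -- each subspace goes into one of the two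
    have hone : ∀ W : Submodule F (ι → F), (∀ x ∈ W, (g : Matrix ι ι F) *ᵥ x ∈ A ∨
        (g : Matrix ι ι F) *ᵥ x ∈ B) →
        (∀ x ∈ W, (g : Matrix ι ι F) *ᵥ x ∈ A) ∨ (∀ x ∈ W, (g : Matrix ι ι F) *ᵥ x ∈ B) := by
      intro W hW
      by_contra hc
      push Not at hc
      obtain ⟨⟨x, hx, hxA⟩, y, hy, hyB⟩ := hc
      have hxB := (hW x hx).resolve_left hxA
      have hyA := (hW y hy).resolve_right hyB
      rcases hW _ (W.add_mem hx hy) with h | h <;> rw [mulVec_add] at h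
      · exact hxA ((A.add_mem_iff_left hyA).1 h)
      · exact hyB ((B.add_mem_iff_right hxB).1 h)
    have hA' := hone A fun x hx' => or_iff_not_imp_left.2 (hx x hx')
    have hB' := hone B fun x hx' => (or_iff_not_imp_left.2 (hy x hx')).symm
    have hboth : ∀ W : Submodule F (ι → F), W = A ∨ W = B → ¬ ((∀ x ∈ A, (g : Matrix ι ι F) *ᵥ x ∈ W)
        ∧ ∀ x ∈ B, (g : Matrix ι ι F) *ᵥ x ∈ W) := by
      rintro W hW ⟨h1, h2'⟩
      have htop : ∀ x, x ∈ W := fun x => by
        rw [← gl_mulVec_inv_mulVec g x]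
        obtain ⟨a, ha, b, hb, e⟩ := P.split (((g⁻¹ : GL ι F) : Matrix ι ι F) *ᵥ x)
        rw [← e, mulVec_add]
        exact W.add_mem (h1 a ha) (h2' b hb)
      obtain ⟨a, ha, ha0⟩ := Submodule.exists_mem_ne_zero_of_ne_bot (p := A) fun h => by
        have := P.dimA; rw [h, finrank_bot] at this; omega
      obtain ⟨b, hb, hab⟩ := P.exists_ne ha ha0
      rcases hW with rfl | rfl
      · exact hab (P.tsA a ha b (htop b))
      · exact hab (P.tsB a (htop a) b hb)
    rcases hA' with hAA | hAB <;> rcases hB' with hBA | hBB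
    · exact hboth A (Or.inl rfl) ⟨hAA, hBA⟩
    · exact hgH (hstab g hgi hAA hBB)
    · refine hgH ⟨⟨Equiv.swap 0 1, fun i => ?_⟩, hgi⟩
      have hdim : ∀ (U W : Submodule F (ι → F)), Module.finrank F U = Module.finrank F W →
          (∀ x ∈ U, (g : Matrix ι ι F) *ᵥ x ∈ W) →
          U.map (Matrix.toLin' (g : Matrix ι ι F)) = W := by
        intro U W e h
        refine Submodule.eq_of_le_of_finrank_eq
          (Submodule.map_le_iff_le_comap.2 fun x hx => by simpa using h x hx) ?_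
        rw [← e]
        exact (LinearEquiv.finrank_eq (Submodule.equivMapOfInjective _ (fun a b h =>
          gl_mulVec_injective g (by simpa using h)) U)).symm
      fin_cases i
      · simp only [Fin.zero_eta, hA, Equiv.swap_apply_left, hB]
        exact hdim A B P.dimB.symm hAB
      · simp only [Fin.mk_one, hB, Equiv.swap_apply_right, hA]
        exact hdim B A P.dimB hBA
    · exact hboth B (Or.inr rfl) ⟨hAB, hBB⟩
  -- the swap lies in `H`
  obtain ⟨s, hs, hsA, hsB⟩ := P.exists_swap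
  have hsH : s ∈ H := by
    refine ⟨⟨Equiv.swap 0 1, fun i => ?_⟩, hs⟩
    have hdim : ∀ (U W : Submodule F (ι → F)), Module.finrank F U = Module.finrank F W →
        (∀ x ∈ U, (s : Matrix ι ι F) *ᵥ x ∈ W) →
        U.map (Matrix.toLin' (s : Matrix ι ι F)) = W := by
      intro U W e h
      refine Submodule.eq_of_le_of_finrank_eq
        (Submodule.map_le_iff_le_comap.2 fun x hx => by simpa using h x hx) ?_
      rw [← e]
      exact (LinearEquiv.finrank_eq (Submodule.equivMapOfInjective _ (fun a b h =>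
        gl_mulVec_injective s (by simpa using h)) U)).symm
    fin_cases i
    · simp only [Fin.zero_eta, hA, Equiv.swap_apply_left, hB]
      exact hdim A B P.dimB.symm hsA
    · simp only [Fin.mk_one, hB, Equiv.swap_apply_right, hA]
      exact hdim B A P.dimB hsB
  -- transport to the first subspace
  obtain ⟨p, hp, hp0, hpk⟩ : ∃ p ∈ A, p ≠ 0 ∧ sTv f p k ∈ M := by
    rcases hp with hp | hp
    · exact ⟨p, hp, hp0, hpk⟩
    · refine ⟨(s : Matrix ι ι F) *ᵥ p, hsB p hp, gl_mulVec_ne_zero s hp0, ?_⟩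
      rw [← sTv_conj hf hs]
      exact M.mul_mem (M.mul_mem (hHM hsH) hpk) (M.inv_mem (hHM hsH))
  -- scalings
  obtain ⟨π, hπA, hπB, hπa, hπb⟩ := P.exists_proj
  have hscale : ∀ c : F, c ≠ 0 → ∃ d ∈ H, ∀ a ∈ A, (d : Matrix ι ι F) *ᵥ a = c • a := by
    intro c hc
    obtain ⟨d, hd, hdx⟩ := P.exists_iso (c • π + c⁻¹ • (LinearMap.id - π)) (fun x y => by
      simp only [LinearMap.add_apply, LinearMap.smul_apply, LinearMap.sub_apply, LinearMap.id_apply]
      conv_rhs => rw [show x = π x + (x - π x) from (add_sub_cancel _ _).symm,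
        show y = π y + (y - π y) from (add_sub_cancel _ _).symm]
      simp only [hf.bilinear.add_left, hf.bilinear.add_right, hf.bilinear.smul_left,
        hf.bilinear.smul_right, P.tsA _ (hπA x) _ (hπA y), P.tsB _ (hπB x) _ (hπB y)]
      field_simp
      ring)
    have hdA : ∀ a ∈ A, (d : Matrix ι ι F) *ᵥ a = c • a := fun a ha => by
      rw [hdx]; simp [hπa a ha]
    refine ⟨d, hstab d hd (fun a ha => by rw [hdA a ha]; exact A.smul_mem _ ha) (fun b hb => ?_), hdA⟩
    rw [hdx]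
    simpa [hπb b hb] using B.smul_mem c⁻¹ hb
  have hsq : ∀ c : F, sTv f p (k * c ^ 2) ∈ M := by
    intro c
    by_cases hc : c = 0
    · rw [hc, zero_pow two_ne_zero, mul_zero, sTv_zero]; exact M.one_mem
    obtain ⟨d, hd, hdA⟩ := hscale c hc
    have := M.mul_mem (M.mul_mem (hHM hd) hpk) (M.inv_mem (hHM hd))
    rwa [sTv_conj hf hd.2, hdA p hp, sTv_smul_vec hf, mul_comm] at this
  have hpS : p ∈ tvSet f M := by
    intro c
    have := M.mul_mem (hsq ((c / k + 1) / 2)) (M.inv_mem (hsq ((c / k - 1) / 2)))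
    rw [sTv_inv hf, sTv_add hf] at this
    convert this using 2
    field_simp
    ring
  -- transitivity on `A`
  have hAS' : ∀ a ∈ A, a ∉ Submodule.span F {p} → a ∈ tvSet f M := by
    intro a ha hna
    obtain ⟨b, hb, hbp, hba⟩ : ∃ b ∈ B, f p b = 1 ∧ f (a - p) b = 0 := by
      have hn : p ∉ Submodule.span F (Set.range ![a - p]) := by
        rw [Matrix.range_cons, Matrix.range_empty, Set.union_empty]
        intro hmem
        obtain ⟨q, hq⟩ := Submodule.mem_span_singleton.1 hmem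
        have hq0 : q ≠ 0 := fun e => hp0 (by rw [← hq, e, zero_smul])
        exact hna (Submodule.mem_span_singleton.2 ⟨1 + q⁻¹, by
          rw [add_smul, one_smul]
          nth_rewrite 2 [← hq]
          rw [smul_smul, inv_mul_cancel₀ hq0, one_smul]; abel⟩)
      obtain ⟨b, hb, h1, h2'⟩ := P.symm.sep hp ![a - p] (by
        intro i; fin_cases i; exact A.sub_mem ha hp) hn
      exact ⟨b, hb, h1, h2' 0⟩
    have hh := hHsh (a - p) (A.sub_mem ha hp) b hb hba 1
    have := tvSet_mulVec hf (hHM hh) hh.2 hpS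
    rwa [sh_mulVec hf hba, hbp, P.tsA p hp _ (A.sub_mem ha hp), one_mul, one_smul, one_mul,
      zero_smul, add_zero, add_sub_cancel] at this
  have hAS : ∀ a ∈ A, a ∈ tvSet f M := by
    intro a ha
    by_cases hsp : a ∈ Submodule.span F {p}
    · obtain ⟨q, rfl⟩ := Submodule.mem_span_singleton.1 hsp
      exact tvSet_smul hf q hpS
    · exact hAS' a ha hsp
  have hBS : ∀ b ∈ B, b ∈ tvSet f M := by
    intro b hb
    obtain ⟨a, ha, e⟩ : ∃ a ∈ A, (s : Matrix ι ι F) *ᵥ a = b := by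
      have := hsH.1
      refine ⟨((s⁻¹ : GL ι F) : Matrix ι ι F) *ᵥ b, ?_, gl_mulVec_inv_mulVec s b⟩
      obtain ⟨w, hw, e⟩ : ∃ w ∈ A, (s : Matrix ι ι F) *ᵥ w = b := by
        let L : A →ₗ[F] B := ((Matrix.toLin' (s : Matrix ι ι F)).comp A.subtype).codRestrict B
          fun x => by simpa using hsA x x.2
        have hi : Function.Injective L := fun x y h => Subtype.ext (gl_mulVec_injective s (by
          simpa [L] using congrArg Subtype.val h))
        obtain ⟨w, hw⟩ := (LinearMap.injective_iff_surjective_of_finrank_eq_finrank P.dimB.symm).1 hi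
          ⟨b, hb⟩
        exact ⟨w, w.2, by simpa [L] using congrArg Subtype.val hw⟩
      rw [← e, gl_inv_mulVec_mulVec]; exact hw
    rw [← e]
    exact tvSet_mulVec hf (hHM hsH) hs (hAS a ha)
  refine isoOf_le_of_tvSet hf fun v => ?_
  obtain ⟨a, ha, b, hb, rfl⟩ := P.split v
  by_cases hab : f a b = 0
  swap
  · simpa using tvSet_add_smul hf (hAS a ha) (hBS b hb) hab 1
  by_cases hb0 : b = 0
  · rw [hb0, add_zero]; exact hAS a ha
  obtain ⟨a', ha', hab'⟩ := P.symm.exists_ne hb hb0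
  have hab'' : f a' b ≠ 0 := fun e => hab' (o e)
  have h1 := tvSet_add_smul hf (hAS (a + a') (A.add_mem ha ha')) (hBS b hb) (by
    rw [hf.bilinear.add_left, hab, zero_add]; exact hab'') 1
  rw [one_smul] at h1
  have h3 := tvSet_add_smul hf h1 (hAS a' ha') (by
    rw [hf.bilinear.add_left, hf.bilinear.add_left, P.tsA a ha a' ha', hf.alternating, zero_add,
      zero_add]
    exact hab') (-1)
  convert h3 using 1
  module

end CfsgLib.ClassicalMax.SympPair
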