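/-
Stabilisers of a pair of complementary totally singular subspaces of even dimension are maximal
in `Ω`.
-/
import Cfsg.Agent.Lib.ClassicalMax.OrthEven
import Cfsg.Agent.Lib.ClassicalMax.SympPair
set_option autoImplicit false

namespace CfsgLib.ClassicalMax.OmPair

open Matrix Cfsg.Geo QuadraticMap Module
open CfsgLib.Classical.Quad (NDPolar Orth Frame IsHPair)
open CfsgLib.ClassicalMax.OmE (ts_polar)

variable {ι : Type} [Fintype ι] [DecidableEq ι] {F : Type*} [Field F]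
  {Q : QuadraticForm F (ι → F)}

/-- The long root element of a totally singular pair lies in `M`. -/
def RT (Q : QuadraticForm F (ι → F)) (M : Subgroup (GL ι F)) (u w : ι → F) : Prop :=
  ∃ h ∈ M, ∀ x, (h : Matrix ι ι F) *ᵥ x = x + polar Q x u • w - polar Q x w • u

variable {M : Subgroup (GL ι F)} {u v w w' : ι → F}

lemma polar_self0 (hu : Q u = 0) : polar Q u u = 0 := by
  rw [polar_self, hu, smul_zero]

lemma RT.add (hu : Q u = 0) (h : RT Q M u w) (h' : RT Q M u w') (huw : polar Q u w = 0)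
    (huw' : polar Q u w' = 0) (hww' : polar Q w w' = 0) : RT Q M u (w + w') := by
  obtain ⟨a, ha, hax⟩ := h
  obtain ⟨b, hb, hbx⟩ := h'
  refine ⟨a * b, M.mul_mem ha hb, fun x => ?_⟩
  rw [gl_mulVec_mul, hbx, hax]
  have e1 : polar Q u u = 0 := polar_self0 hu
  have e2 : polar Q w' u = 0 := by rw [polar_comm]; exact huw'
  have e3 : polar Q w' w = 0 := by rw [polar_comm]; exact hww'
  simp only [sub_eq_add_neg, ← neg_smul, polar_add_left, polar_smul_left, polar_add_right,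
    smul_eq_mul, e1, e2, e3, huw]
  module

lemma RT.neg (hu : Q u = 0) (h : RT Q M u w) (huw : polar Q u w = 0) (hww : polar Q w w = 0) :
    RT Q M u (-w) := by
  obtain ⟨a, ha, hax⟩ := h
  refine ⟨a⁻¹, M.inv_mem ha, fun x => gl_mulVec_injective a ?_⟩
  simp only [gl_mulVec_inv_mulVec]
  rw [hax]
  have e1 : polar Q u u = 0 := polar_self0 hu
  have e2 : polar Q w u = 0 := by rw [polar_comm]; exact huw
  simp only [sub_eq_add_neg, ← neg_smul, smul_neg, polar_add_left, polar_smul_left, polar_neg_right,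
    smul_eq_mul, e1, e2, huw, hww]
  module

lemma RT.swap (h : RT Q M u w) : RT Q M w (-u) := by
  obtain ⟨a, ha, hax⟩ := h
  refine ⟨a, ha, fun x => ?_⟩
  rw [hax, polar_neg_right]
  module

lemma RT.congr_smul (c : F) : RT Q M u (c • w) ↔ RT Q M (c • u) w := by
  simp only [RT, polar_smul_right, smul_smul, smul_eq_mul, mul_comm c]

lemma RT.self_smul (hu : Q u = 0) (c : F) : RT Q M u (c • u) := by
  refine ⟨1, M.one_mem, fun x => ?_⟩
  simp only [Units.val_one, one_mulVec, polar_smul_right, smul_smul, smul_eq_mul]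
  module

lemma RT.conj (hM : M ≤ omegaGL ⇑Q) {g : GL ι F} (hg : g ∈ M) (h : RT Q M u w) :
    RT Q M ((g : Matrix ι ι F) *ᵥ u) ((g : Matrix ι ι F) *ᵥ w) := by
  obtain ⟨a, ha, hax⟩ := h
  refine ⟨g * a * g⁻¹, M.mul_mem (M.mul_mem hg ha) (M.inv_mem hg), fun x => ?_⟩
  set x' := ((g⁻¹ : GL ι F) : Matrix ι ι F) *ᵥ x with hx'
  have hgx : (g : Matrix ι ι F) *ᵥ x' = x := gl_mulVec_inv_mulVec g x
  rw [gl_mulVec_mul, gl_mulVec_mul, ← hx', hax, mulVec_sub, mulVec_add, mulVec_smul, mulVec_smul,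
    hgx, ← OmS.omega_polar (hM hg) x' u, ← OmS.omega_polar (hM hg) x' w, hgx]

/-- Two complementary totally singular subspaces of half the dimension. -/
structure Pair (Q : QuadraticForm F (ι → F)) (A B : Submodule F (ι → F)) : Prop where
  tsA : ∀ a ∈ A, Q a = 0
  tsB : ∀ b ∈ B, Q b = 0
  split : ∀ x, ∃ a ∈ A, ∃ b ∈ B, a + b = x
  disj : A ⊓ B = ⊥
  dimA : 5 ≤ finrank F A
  dimB : finrank F B = finrank F A

variable {A B : Submodule F (ι → F)}

lemma Pair.symm (P : Pair Q A B) : Pair Q B A where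
  tsA := P.tsB
  tsB := P.tsA
  split x := by
    obtain ⟨a, ha, b, hb, h⟩ := P.split x
    exact ⟨b, hb, a, ha, by rw [← h, add_comm]⟩
  disj := by rw [inf_comm, P.disj]
  dimA := P.dimB ▸ P.dimA
  dimB := P.dimB.symm

variable [Fintype F]

lemma Pair.sep (P : Pair Q A B) (hnd : NDPolar Q) (hu : u ∈ A) {k : ℕ} (s : Fin k → ι → F)
    (hs : ∀ i, s i ∈ A) (hu' : u ∉ Submodule.span F (Set.range s)) :
    ∃ b ∈ B, polar Q u b = 1 ∧ ∀ i, polar Q (s i) b = 0 := by
  obtain ⟨φ, hφu, hφs⟩ := Submodule.exists_dual_map_eq_bot_of_notMem hu' inferInstance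
  obtain ⟨z, hz⟩ := Classical.Quad.exists_polar hnd φ
  obtain ⟨a, ha, b, hb, rfl⟩ := P.split z
  have h : ∀ x ∈ A, polar Q x b = φ x := fun x hx => by
    rw [← hz, polar_comm Q (a + b) x, polar_add_right, ts_polar P.tsA hx ha, zero_add]
  refine ⟨(φ u)⁻¹ • b, B.smul_mem _ hb, by
    rw [polar_smul_right, smul_eq_mul, h u hu, inv_mul_cancel₀ hφu], fun i => ?_⟩
  have h0 : φ (s i) = 0 := (Submodule.mem_bot F).1
    (hφs ▸ Submodule.mem_map_of_mem (Submodule.subset_span ⟨i, rfl⟩))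
  rw [polar_smul_right, h (s i) (hs i), h0, smul_zero]

lemma Pair.exists_ne (P : Pair Q A B) (hnd : NDPolar Q) (hu : u ∈ A) (hu0 : u ≠ 0) :
    ∃ b ∈ B, polar Q u b ≠ 0 := by
  obtain ⟨b, hb, h, -⟩ := P.sep hnd hu ![(0 : ι → F)] (fun i => by fin_cases i; exact A.zero_mem)
    (by
      rw [Matrix.range_cons, Matrix.range_empty, Set.union_empty, Submodule.span_zero_singleton]
      simpa using hu0)
  exact ⟨b, hb, by rw [h]; exact one_ne_zero⟩

/-- The root elements of the stabiliser. -/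
def Contains (Q : QuadraticForm F (ι → F)) (A B : Submodule F (ι → F)) (M : Subgroup (GL ι F)) :
    Prop :=
  ∀ a ∈ A, ∀ b ∈ B, polar Q a b = 0 → RT Q M a b

lemma Contains.symm (P : Pair Q A B) (hM : Contains Q A B M) : Contains Q B A M := fun b hb a ha h => by
  have h' := (hM (-a) (A.neg_mem ha) b hb (by rw [polar_neg_left, polar_comm, h, neg_zero])).swap
  rwa [neg_neg] at h'

/-- A root element through a point outside both subspaces gives one inside one of them. -/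
lemma root_of_moved (P : Pair Q A B) (hnd : NDPolar Q) (hM : M ≤ omegaGL ⇑Q)
    (hc : Contains Q A B M) {u1 u2 y1 y2 : ι → F} (hu1 : u1 ∈ A) (hu2 : u2 ∈ B) (hy1 : y1 ∈ A)
    (hy2 : y2 ∈ B) (hu : Q (u1 + u2) = 0) (hy : Q (y1 + y2) = 0)
    (huy : polar Q (u1 + u2) (y1 + y2) = 0) (hr : RT Q M (u1 + u2) (y1 + y2))
    (hu20 : u2 ≠ 0) (hind : y2 ∉ Submodule.span F {u2}) :
    ∃ p ∈ B, p ≠ 0 ∧ ∃ q ∈ B, q ∉ Submodule.span F {p} ∧ RT Q M p q := by
  obtain ⟨b, hb, hbφ, hbs⟩ := SympPair.exists_avoid_of_lt (W := B)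
    ![polarBilin Q u1, polarBilin Q y1] ![u2, y2] (by have := P.dimA; have := P.dimB; omega)
  rw [Matrix.range_cons_cons_empty] at hbs
  have hu1b : polar Q u1 b = 0 := hbφ 0
  have hy1b : polar Q y1 b = 0 := hbφ 1
  have hn : y2 ∉ Submodule.span F (Set.range ![u2, b]) := by
    rw [Matrix.range_cons_cons_empty]
    intro hmem
    obtain ⟨c, d, hcd⟩ := Submodule.mem_span_pair.1 hmem
    rcases eq_or_ne d 0 with hd | hd
    · exact hind (Submodule.mem_span_singleton.2 ⟨c, by rw [← hcd, hd, zero_smul, add_zero]⟩)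
    · refine hbs (Submodule.mem_span_pair.2 ⟨-(d⁻¹ * c), d⁻¹, ?_⟩)
      rw [← hcd, smul_add, smul_smul, smul_smul, inv_mul_cancel₀ hd, one_smul]
      module
  obtain ⟨a, ha, hay, hao⟩ := P.symm.sep hnd hy2 ![u2, b]
    (by intro i; fin_cases i <;> assumption) hn
  have hu2a : polar Q u2 a = 0 := hao 0
  have hba : polar Q b a = 0 := hao 1
  obtain ⟨t, ht, htx⟩ := hc a ha b hb (by rw [polar_comm]; exact hba)
  have hub : polar Q (u1 + u2) b = 0 := by
    rw [polar_add_left, hu1b, ts_polar P.tsB hu2 hb, add_zero]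
  have hua : polar Q (u1 + u2) a = 0 := by
    rw [polar_add_left, ts_polar P.tsA hu1 ha, hu2a, add_zero]
  have hyb : polar Q (y1 + y2) b = 0 := by
    rw [polar_add_left, hy1b, ts_polar P.tsB hy2 hb, add_zero]
  have hya : polar Q (y1 + y2) a = 1 := by
    rw [polar_add_left, ts_polar P.tsA hy1 ha, hay, zero_add]
  have h1 := hr.conj hM ht
  rw [htx, htx, hua, hub, hya, hyb, zero_smul, zero_smul, add_zero, sub_zero, one_smul,
    sub_zero] at h1
  have h2 := h1.add hu (hr.neg hu huy (polar_self0 hy))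
    (by rw [polar_add_right, huy, hub, add_zero])
    (by rw [polar_neg_right, huy, neg_zero])
    (by rw [polar_neg_right, polar_add_left, polar_self0 hy, polar_comm Q b, hyb, add_zero,
      neg_zero])
  rw [show y1 + y2 + b + -(y1 + y2) = b by abel] at h2
  have hQb := P.tsB b hb
  have h12 : polar Q u1 u2 = 0 := by
    rw [QuadraticMap.map_add (⇑Q), P.tsA u1 hu1, P.tsB u2 hu2] at hu
    simpa using hu
  have h3 := h2.swap.add hQb (w' := u1)
    (Contains.symm P hc b hb u1 hu1 (by rw [polar_comm]; exact hu1b))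
    (by rw [polar_neg_right, polar_comm, hub, neg_zero]) (by rw [polar_comm]; exact hu1b)
    (by rw [polar_neg_left, polar_add_left, polar_self0 (P.tsA u1 hu1), polar_comm Q u2, h12,
      add_zero, neg_zero])
  refine ⟨b, hb, fun e => hbs (e ▸ Submodule.zero_mem _), -u2, B.neg_mem hu2, fun hmem => hbs ?_, by
    rwa [show -(u1 + u2) + u1 = -u2 by abel] at h3⟩
  obtain ⟨c, hc'⟩ := Submodule.mem_span_singleton.1 hmem
  have hc0 : c ≠ 0 := fun e => hu20 (neg_eq_zero.1 (by rw [← hc', e, zero_smul]))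
  exact Submodule.mem_span_pair.2 ⟨-c⁻¹, 0, by
    rw [neg_smul, ← smul_neg, ← hc', smul_smul, inv_mul_cancel₀ hc0, one_smul, zero_smul,
      add_zero]⟩

/-- An element moving a point of `A` out of both subspaces gives a root element inside one. -/
lemma exists_root (P : Pair Q A B) (hnd : NDPolar Q) (hM : M ≤ omegaGL ⇑Q)
    (hc : Contains Q A B M) {g : GL ι F} (hg : g ∈ M) {x : ι → F} (hx : x ∈ A)
    (hA : (g : Matrix ι ι F) *ᵥ x ∉ A) (hB : (g : Matrix ι ι F) *ᵥ x ∉ B) :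
    ∃ W, (W = A ∨ W = B) ∧ ∃ p ∈ W, p ≠ 0 ∧ ∃ q ∈ W, q ∉ Submodule.span F {p} ∧ RT Q M p q := by
  obtain ⟨u1, hu1, u2, hu2, hu⟩ := P.split ((g : Matrix ι ι F) *ᵥ x)
  have hu10 : u1 ≠ 0 := fun e => hB (by rw [← hu, e, zero_add]; exact hu2)
  have hu20 : u2 ≠ 0 := fun e => hA (by rw [← hu, e, add_zero]; exact hu1)
  obtain ⟨y, hy, hxy, y1, hy1, y2, hy2, hv, hcase⟩ : ∃ y ∈ B, polar Q x y = 0 ∧
      ∃ y1 ∈ A, ∃ y2 ∈ B, y1 + y2 = (g : Matrix ι ι F) *ᵥ y ∧
        (y1 ∉ Submodule.span F {u1} ∨ y2 ∉ Submodule.span F {u2}) := by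
    by_contra hcon
    push Not at hcon
    set S := Submodule.span F (Set.range ![u1, u2]) with hS
    obtain ⟨y, hy, hyx, hyS⟩ := SympPair.exists_avoid_of_lt (W := B)
      ![polarBilin Q x]
      ![((g⁻¹ : GL ι F) : Matrix ι ι F) *ᵥ u1, ((g⁻¹ : GL ι F) : Matrix ι ι F) *ᵥ u2] (by have := P.dimA; have := P.dimB; omega)
    obtain ⟨y1, hy1, y2, hy2, e⟩ := P.split ((g : Matrix ι ι F) *ᵥ y)
    obtain ⟨h1, h2⟩ := hcon y hy (hyx 0) y1 hy1 y2 hy2 e
    obtain ⟨c, rfl⟩ := Submodule.mem_span_singleton.1 h1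
    obtain ⟨d, rfl⟩ := Submodule.mem_span_singleton.1 h2
    refine hyS ?_
    rw [Matrix.range_cons_cons_empty]
    refine Submodule.mem_span_pair.2 ⟨c, d, ?_⟩
    rw [← mulVec_smul, ← mulVec_smul, ← mulVec_add, e, gl_inv_mulVec_mulVec]
  have hQ : ∀ z, Q ((g : Matrix ι ι F) *ᵥ z) = Q z := fun z => OmS.omega_iso (hM hg) z
  have huy : polar Q (u1 + u2) (y1 + y2) = 0 := by
    rw [hu, hv, OmS.omega_polar (hM hg)]; exact hxy
  have hu0 : Q (u1 + u2) = 0 := by rw [hu, hQ]; exact P.tsA x hx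
  have hy0 : Q (y1 + y2) = 0 := by rw [hv, hQ]; exact P.tsB y hy
  have hr : RT Q M (u1 + u2) (y1 + y2) := by
    rw [hu, hv]; exact (hc x hx y hy hxy).conj hM hg
  rcases hcase with h | h
  · obtain ⟨p, hp, hp0, q, hq, hpq, hr'⟩ := root_of_moved P.symm hnd hM (Contains.symm P hc)
      hu2 hu1 hy2 hy1 (by rwa [add_comm]) (by rwa [add_comm])
      (by rwa [add_comm u2, add_comm y2]) (by rwa [add_comm u2, add_comm y2]) hu10 h
    exact ⟨A, Or.inl rfl, p, hp, hp0, q, hq, hpq, hr'⟩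
  · obtain ⟨p, hp, hp0, q, hq, hpq, hr'⟩ := root_of_moved P hnd hM hc hu1 hu2 hy1 hy2 hu0 hy0 huy hr
      hu20 h
    exact ⟨B, Or.inr rfl, p, hp, hp0, q, hq, hpq, hr'⟩

/-- All root elements of `A` from one with a given first entry. -/
lemma root_all_right (P : Pair Q A B) (hnd : NDPolar Q) (hM : M ≤ omegaGL ⇑Q)
    (hc : Contains Q A B M) {p q : ι → F} (hp : p ∈ A) (hp0 : p ≠ 0) (hq : q ∈ A)
    (hpq : q ∉ Submodule.span F {p}) (hr : RT Q M p q) : ∀ a ∈ A, RT Q M p a := by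
  have hQp := P.tsA p hp
  have hz : ∀ {z z'}, z ∈ A → z' ∈ A → polar Q z z' = 0 := fun hz hz' => ts_polar P.tsA hz hz'
  -- outside the span of `p` and `q`
  have hout : ∀ a ∈ A, a ∉ Submodule.span F {p, q} → RT Q M p a := by
    intro a ha hna
    obtain ⟨b, hb, hqb, hbo⟩ := P.sep hnd hq ![p, a] (by intro i; fin_cases i <;> assumption)
      (by
        rw [Matrix.range_cons_cons_empty]
        intro hmem
        obtain ⟨c, d, hcd⟩ := Submodule.mem_span_pair.1 hmem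
        rcases eq_or_ne d 0 with hd | hd
        · exact hpq (Submodule.mem_span_singleton.2 ⟨c, by rw [← hcd, hd, zero_smul, add_zero]⟩)
        · refine hna (Submodule.mem_span_pair.2 ⟨-(d⁻¹ * c), d⁻¹, ?_⟩)
          rw [← hcd, smul_add, smul_smul, smul_smul, inv_mul_cancel₀ hd, one_smul]
          module)
    have hpb : polar Q p b = 0 := hbo 0
    have hab : polar Q a b = 0 := hbo 1
    obtain ⟨t, ht, htx⟩ := hc a ha b hb hab
    have h1 := hr.conj hM ht
    rw [htx, htx, hz hp ha, hpb, hz hq ha, hqb, zero_smul, zero_smul, one_smul, add_zero, sub_zero,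
      add_zero] at h1
    have h2 := h1.add hQp (hr.neg hQp (hz hp hq) (hz hq hq)) (hz hp (A.sub_mem hq ha))
      (hz hp (A.neg_mem hq)) (hz (A.sub_mem hq ha) (A.neg_mem hq))
    rw [show q - a + -q = -a by abel] at h2
    simpa using h2.neg hQp (hz hp (A.neg_mem ha)) (hz (A.neg_mem ha) (A.neg_mem ha))
  intro a ha
  by_cases h : a ∈ Submodule.span F {p, q}
  swap
  · exact hout a ha h
  obtain ⟨a', ha', -, hna'⟩ := SympPair.exists_avoid_of_lt (W := A)
    ![(0 : (ι → F) →ₗ[F] F)] ![p, q] (by have := P.dimA; have := P.dimB; omega)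
  rw [Matrix.range_cons_cons_empty] at hna'
  have h2 := (hout (a - a') (A.sub_mem ha ha') (fun e => hna' (by
    simpa using Submodule.sub_mem _ h e))).add hQp (hout a' ha' hna')
    (hz hp (A.sub_mem ha ha')) (hz hp ha') (hz (A.sub_mem ha ha') ha')
  rwa [sub_add_cancel] at h2

/-- All root elements of `A` from one. -/
lemma root_all (P : Pair Q A B) (hnd : NDPolar Q) (hM : M ≤ omegaGL ⇑Q)
    (hc : Contains Q A B M) {p q : ι → F} (hp : p ∈ A) (hp0 : p ≠ 0) (hq : q ∈ A)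
    (hpq : q ∉ Submodule.span F {p}) (hr : RT Q M p q) : ∀ a ∈ A, ∀ a' ∈ A, RT Q M a a' := by
  have hz : ∀ {z z'}, z ∈ A → z' ∈ A → polar Q z z' = 0 := fun hz hz' => ts_polar P.tsA hz hz'
  have hp' := root_all_right P hnd hM hc hp hp0 hq hpq hr
  intro a ha a' ha'
  by_cases h : a ∈ Submodule.span F {p}
  · obtain ⟨c, rfl⟩ := Submodule.mem_span_singleton.1 h
    exact (RT.congr_smul c).1 (hp' _ (A.smul_mem c ha'))
  have ha0 : a ≠ 0 := fun e => h (e ▸ Submodule.zero_mem _)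
  have h1 := (hp' a ha).swap
  refine root_all_right P hnd hM hc ha ha0 (A.neg_mem hp) (fun hmem => ?_) h1 a' ha'
  obtain ⟨c, hc'⟩ := Submodule.mem_span_singleton.1 hmem
  have hc0 : c ≠ 0 := fun e => hp0 (neg_eq_zero.1 (by rw [← hc', e, zero_smul]))
  exact h (Submodule.mem_span_singleton.2 ⟨-c⁻¹, by
    rw [neg_smul, ← smul_neg, ← hc', smul_smul, inv_mul_cancel₀ hc0, one_smul]⟩)

/-- The points of `A` have full root groups. -/
lemma mem_SS (P : Pair Q A B) (hc : Contains Q A B M) (hall : ∀ a ∈ A, ∀ a' ∈ A, RT Q M a a')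
    {a : ι → F} (ha : a ∈ A) : a ∈ OmS.SS Q M := by
  refine ⟨P.tsA a ha, fun w hw => ?_⟩
  obtain ⟨w1, hw1, w2, hw2, rfl⟩ := P.split w
  have h1 : polar Q a w1 = 0 := ts_polar P.tsA ha hw1
  rw [polar_add_right, h1, zero_add] at hw
  obtain ⟨s, hs, hsx⟩ := hall a ha w1 hw1
  obtain ⟨t, ht, htx⟩ := hc a ha w2 hw2 hw
  refine ⟨s * t, M.mul_mem hs ht, fun x => ?_⟩
  rw [gl_mulVec_mul, htx, hsx]
  have e1 : polar Q a a = 0 := polar_self0 (P.tsA a ha)
  have e2 : polar Q w2 a = 0 := by rw [polar_comm]; exact hw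
  simp only [sub_eq_add_neg, ← neg_smul, polar_add_left, polar_smul_left, polar_add_right,
    smul_eq_mul, e1, e2, h1, QuadraticMap.map_add (⇑Q), P.tsA w1 hw1, P.tsB w2 hw2,
    polar_comm Q w2 w1]
  module

variable (hnd : NDPolar Q) (Fr : Frame Q)

include hnd Fr

lemma exists_rt {u w : ι → F} (hu : Q u = 0) (hw : Q w = 0) (huw : polar Q u w = 0) :
    RT Q (omegaGL ⇑Q) u w := by
  obtain ⟨h, hh, hhx⟩ := OmS.exists_sg hnd Fr hu huw
  refine ⟨h, hh, fun x => ?_⟩
  rw [hhx x, hw]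
  module

/-- An element of `Ω` interchanging the two subspaces. -/
lemma exists_swap (P : Pair Q A B) (heven : Even (finrank F A)) :
    ∃ s ∈ omegaGL ⇑Q, (∀ a ∈ A, (s : Matrix ι ι F) *ᵥ a ∈ B) ∧
      ∀ b ∈ B, (s : Matrix ι ι F) *ᵥ b ∈ A := by
  classical
  obtain ⟨m, hm⟩ := heven
  let e := finBasisOfFinrankEq F A hm
  have hdual : ∀ i, ∃ b ∈ B, ∀ j, polar Q (e j : ι → F) b = if j = i then 1 else 0 := by
    intro i
    obtain ⟨g, hg⟩ := LinearMap.exists_extend (e.coord i)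
    obtain ⟨z, hz⟩ := Classical.Quad.exists_polar hnd g
    obtain ⟨a, ha, b, hb, rfl⟩ := P.split z
    refine ⟨b, hb, fun j => ?_⟩
    have h1 := hz (e j : ι → F)
    rw [polar_comm Q (a + b), polar_add_right, ts_polar P.tsA (e j).2 ha, zero_add] at h1
    rw [h1, show g (e j : ι → F) = e.coord i (e j) from LinearMap.congr_fun hg (e j),
      Basis.coord_apply, e.repr_self, Finsupp.single_apply]
  choose d hdB hd using hdual
  have hee : ∀ i j, polar Q (e i : ι → F) (e j) = 0 := fun i j => ts_polar P.tsA (e i).2 (e j).2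
  have hdd : ∀ i j, polar Q (d i) (d j) = 0 := fun i j => ts_polar P.tsB (hdB i) (hdB j)
  have hde : ∀ i j, polar Q (d i) (e j : ι → F) = if j = i then 1 else 0 := fun i j => by
    rw [polar_comm]; exact hd i j
  have step : ∀ t ≤ m, ∃ s ∈ omegaGL ⇑Q, ∀ i : Fin (m + m),
      ((i : ℕ) < 2 * t → (s : Matrix ι ι F) *ᵥ (e i : ι → F) ∈ B ∧
        (s : Matrix ι ι F) *ᵥ d i ∈ A) ∧
      (2 * t ≤ (i : ℕ) → (s : Matrix ι ι F) *ᵥ (e i : ι → F) = (e i : ι → F) ∧
        (s : Matrix ι ι F) *ᵥ d i = d i) := by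
    intro t ht
    induction t with
    | zero => exact ⟨1, one_mem _, fun i => ⟨fun h => by omega, fun _ => by simp⟩⟩
    | succ t ih =>
      obtain ⟨s, hs, hsi⟩ := ih (by omega)
      set i1 : Fin (m + m) := ⟨2 * t, by omega⟩ with hi1
      set i2 : Fin (m + m) := ⟨2 * t + 1, by omega⟩ with hi2
      have h12 : i1 ≠ i2 := by simp [hi1, hi2, Fin.ext_iff]
      obtain ⟨h, hh, hhx⟩ := exists_rt hnd Fr (P.tsA _ (e i1).2) (P.tsA _ (e i2).2) (hee i1 i2)
      obtain ⟨k, hk, hkx⟩ := exists_rt hnd Fr (P.tsB _ (hdB i1)) (P.tsB _ (hdB i2)) (hdd i1 i2)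
      refine ⟨s * (h * k * h), mul_mem hs (mul_mem (mul_mem hh hk) hh), fun i => ?_⟩
      rw [gl_mulVec_mul, gl_mulVec_mul, gl_mulVec_mul, gl_mulVec_mul, gl_mulVec_mul, gl_mulVec_mul]
      rcases eq_or_ne i i1 with rfl | n1
      · refine ⟨fun _ => ?_, fun hh' => absurd hh' (by simp [hi1])⟩
        have he : (h : Matrix ι ι F) *ᵥ ((k : Matrix ι ι F) *ᵥ ((h : Matrix ι ι F) *ᵥ
            (e i1 : ι → F))) = d i2 := by
          simp only [hhx, hkx, polar_add_left, polar_smul_left, sub_eq_add_neg, ← neg_smul,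
            polar_neg_left, smul_eq_mul, hee, hd, hdd, hde, if_pos, if_neg h12, if_neg h12.symm]
          simp
        have hf : (h : Matrix ι ι F) *ᵥ ((k : Matrix ι ι F) *ᵥ ((h : Matrix ι ι F) *ᵥ d i1))
            = (e i2 : ι → F) := by
          simp only [hhx, hkx, polar_add_left, polar_smul_left, sub_eq_add_neg, ← neg_smul,
            polar_neg_left, smul_eq_mul, hee, hd, hdd, hde, if_pos, if_neg h12, if_neg h12.symm]
          simp
        rw [he, hf]
        have := (hsi i2).2 (by simp [hi2])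
        rw [this.1, this.2]
        exact ⟨hdB i2, (e i2).2⟩
      rcases eq_or_ne i i2 with rfl | n2
      · refine ⟨fun _ => ?_, fun hh' => absurd hh' (by simp [hi2]; omega)⟩
        have he : (h : Matrix ι ι F) *ᵥ ((k : Matrix ι ι F) *ᵥ ((h : Matrix ι ι F) *ᵥ
            (e i2 : ι → F))) = -d i1 := by
          simp only [hhx, hkx, polar_add_left, polar_smul_left, sub_eq_add_neg, ← neg_smul,
            polar_neg_left, smul_eq_mul, hee, hd, hdd, hde, if_pos, if_neg h12, if_neg h12.symm]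
          simp
        have hf : (h : Matrix ι ι F) *ᵥ ((k : Matrix ι ι F) *ᵥ ((h : Matrix ι ι F) *ᵥ d i2))
            = -(e i1 : ι → F) := by
          simp only [hhx, hkx, polar_add_left, polar_smul_left, sub_eq_add_neg, ← neg_smul,
            polar_neg_left, smul_eq_mul, hee, hd, hdd, hde, if_pos, if_neg h12, if_neg h12.symm]
          simp
        rw [he, hf, mulVec_neg, mulVec_neg]
        have := (hsi i1).2 (by simp [hi1])
        rw [this.1, this.2]
        exact ⟨B.neg_mem (hdB i1), A.neg_mem (e i1).2⟩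
      have v1 : (i : ℕ) ≠ 2 * t := fun hh' => n1 (Fin.ext hh')
      have v2 : (i : ℕ) ≠ 2 * t + 1 := fun hh' => n2 (Fin.ext hh')
      have hfe : ∀ z, polar Q z (e i1 : ι → F) = 0 → polar Q z (e i2 : ι → F) = 0 →
          (h : Matrix ι ι F) *ᵥ z = z := fun z z1 z2 => by
        rw [hhx, z1, z2, zero_smul, zero_smul, add_zero, sub_zero]
      have hfd : ∀ z, polar Q z (d i1) = 0 → polar Q z (d i2) = 0 →
          (k : Matrix ι ι F) *ᵥ z = z := fun z z1 z2 => by
        rw [hkx, z1, z2, zero_smul, zero_smul, add_zero, sub_zero]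
      have ee : (h : Matrix ι ι F) *ᵥ ((k : Matrix ι ι F) *ᵥ ((h : Matrix ι ι F) *ᵥ
          (e i : ι → F))) = (e i : ι → F) := by
        rw [hfe _ (hee i i1) (hee i i2), hfd _ (by rw [hd, if_neg n1]) (by rw [hd, if_neg n2]),
          hfe _ (hee i i1) (hee i i2)]
      have ed : (h : Matrix ι ι F) *ᵥ ((k : Matrix ι ι F) *ᵥ ((h : Matrix ι ι F) *ᵥ d i)) = d i := by
        rw [hfe (d i) (by rw [hde, if_neg n1.symm]) (by rw [hde, if_neg n2.symm]),
          hfd _ (hdd i i1) (hdd i i2),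
          hfe (d i) (by rw [hde, if_neg n1.symm]) (by rw [hde, if_neg n2.symm])]
      rw [ee, ed]
      exact ⟨fun hlt => (hsi i).1 (by omega), fun hge => (hsi i).2 (by omega)⟩
  obtain ⟨s, hs, hsi⟩ := step m le_rfl
  have hli : LinearIndependent F d := by
    rw [Fintype.linearIndependent_iff]
    intro c hc' j
    have h := congrArg (fun z => polarBilin Q (e j : ι → F) z) hc'
    simp [map_sum, hd] at h
    exact h
  have hspan : Submodule.span F (Set.range d) = B := by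
    refine Submodule.eq_of_le_of_finrank_eq (Submodule.span_le.2 (by rintro _ ⟨i, rfl⟩; exact hdB i)) ?_
    rw [finrank_span_eq_card hli, Fintype.card_fin, P.dimB, hm]
  refine ⟨s, hs, fun a ha => ?_, fun b hb => ?_⟩
  · have : (Submodule.span F (Set.range e)).map A.subtype ≤
        B.comap (Matrix.toLin' (s : Matrix ι ι F)) := by
      rw [Submodule.map_span, Submodule.span_le]
      rintro _ ⟨_, ⟨i, rfl⟩, rfl⟩
      simpa using ((hsi i).1 (by omega)).1
    simpa using this ⟨⟨a, ha⟩, by rw [e.span_eq]; trivial, rfl⟩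
  · have : Submodule.span F (Set.range d) ≤ A.comap (Matrix.toLin' (s : Matrix ι ι F)) := by
      rw [Submodule.span_le]
      rintro _ ⟨i, rfl⟩
      simpa using ((hsi i).1 (by omega)).2
    simpa using this (hspan.symm ▸ hb)

omit [Fintype F] hnd Fr in
lemma map_eq_of_forall {U W : Submodule F (ι → F)} {g : GL ι F}
    (e : finrank F U = finrank F W) (h : ∀ x ∈ U, (g : Matrix ι ι F) *ᵥ x ∈ W) :
    U.map (Matrix.toLin' (g : Matrix ι ι F)) = W := by
  refine Submodule.eq_of_le_of_finrank_eq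
    (Submodule.map_le_iff_le_comap.2 fun x hx => by simpa using h x hx) ?_
  rw [← e]
  exact (LinearEquiv.finrank_eq (Submodule.equivMapOfInjective _ (fun a b h =>
    gl_mulVec_injective g (by simpa using h)) U)).symm

/-- The stabiliser of a singular pair is maximal in `Ω`. -/
theorem pair_stabilizer_maximal (P : Pair Q A B) (heven : Even (finrank F A))
    {D : Fin 2 → Submodule F (ι → F)} (hA : D 0 = A) (hB : D 1 = B) :
    IsMaximalIn (omegaGL ⇑Q) (decompositionStabilizer D ⊓ omegaGL ⇑Q) := by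
  classical
  set H := decompositionStabilizer D ⊓ omegaGL ⇑Q
  have hstab : ∀ g ∈ omegaGL ⇑Q, (∀ a ∈ A, (g : Matrix ι ι F) *ᵥ a ∈ A) →
      (∀ b ∈ B, (g : Matrix ι ι F) *ᵥ b ∈ B) → g ∈ H := by
    intro g hg h1 h2
    refine ⟨⟨1, fun i => ?_⟩, hg⟩
    fin_cases i
    · simp only [Fin.zero_eta, hA, Equiv.Perm.one_apply]
      exact map_eq_of_forall rfl h1
    · simp only [Fin.mk_one, hB, Equiv.Perm.one_apply]
      exact map_eq_of_forall rfl h2
  have hflip : ∀ g ∈ omegaGL ⇑Q, (∀ a ∈ A, (g : Matrix ι ι F) *ᵥ a ∈ B) →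
      (∀ b ∈ B, (g : Matrix ι ι F) *ᵥ b ∈ A) → g ∈ H := by
    intro g hg h1 h2
    refine ⟨⟨Equiv.swap 0 1, fun i => ?_⟩, hg⟩
    fin_cases i
    · simp only [Fin.zero_eta, hA, Equiv.swap_apply_left, hB]
      exact map_eq_of_forall P.dimB.symm h1
    · simp only [Fin.mk_one, hB, Equiv.swap_apply_right, hA]
      exact map_eq_of_forall P.dimB h2
  have hHc : Contains Q A B H := by
    intro a ha b hb hab
    obtain ⟨h, hh, hhx⟩ := exists_rt hnd Fr (P.tsA a ha) (P.tsB b hb) hab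
    refine ⟨h, hstab h hh (fun x hx => ?_) (fun x hx => ?_), hhx⟩
    · rw [hhx, ts_polar P.tsA hx ha, zero_smul, add_zero]
      exact A.sub_mem hx (A.smul_mem _ ha)
    · rw [hhx, ts_polar P.tsB hx hb, zero_smul, sub_zero]
      exact B.add_mem hx (B.smul_mem _ hb)
  obtain ⟨s, hs, hsA, hsB⟩ := exists_swap hnd Fr P heven
  have hsH : s ∈ H := hflip s hs hsA hsB
  refine isMaximalIn_of inf_le_right ?_ ?_
  · obtain ⟨a, ha, -, ha0⟩ := SympPair.exists_avoid_of_lt (W := A)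
      ![(0 : (ι → F) →ₗ[F] F)] ![(0 : ι → F)] (by have := P.dimA; have := P.dimB; omega)
    obtain ⟨a', ha', -, hna'⟩ := SympPair.exists_avoid_of_lt (W := A)
      ![(0 : (ι → F) →ₗ[F] F)] ![a] (by have := P.dimA; have := P.dimB; omega)
    rw [Matrix.range_cons, Matrix.range_empty, Set.union_empty] at ha0 hna'
    obtain ⟨b, hb, hab, hbo⟩ := P.sep hnd ha' ![a] (by intro i; fin_cases i; exact ha) (by
      rw [Matrix.range_cons, Matrix.range_empty, Set.union_empty]; exact hna')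
    have hab' : polar Q a b = 0 := hbo 0
    obtain ⟨h, hh, hhx⟩ := exists_rt hnd Fr (P.tsA a ha) (P.tsA a' ha') (ts_polar P.tsA ha ha')
    refine ⟨h, hh, fun hmem => ?_⟩
    obtain ⟨σ, hσ⟩ := hmem.1
    have h1 : (h : Matrix ι ι F) *ᵥ b ∈ D (σ 1) := by
      rw [← hσ 1, hB]; exact ⟨b, hb, Matrix.toLin'_apply _ _⟩
    rw [hhx, polar_comm Q b a, hab', polar_comm Q b a', hab, zero_smul, add_zero, one_smul] at h1
    rcases (by omega : σ 1 = 0 ∨ σ 1 = 1) with e | e
    · rw [e, hA, A.sub_mem_iff_left ha] at h1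
      have hb0 : b ∈ A ⊓ B := ⟨h1, hb⟩
      rw [P.disj, Submodule.mem_bot] at hb0
      exact one_ne_zero (α := F) (by rw [← hab, hb0, polar_zero_right])
    · rw [e, hB, B.sub_mem_iff_right hb] at h1
      have hb0 : a ∈ A ⊓ B := ⟨ha, h1⟩
      rw [P.disj, Submodule.mem_bot] at hb0
      exact ha0 (by rw [hb0]; exact Submodule.zero_mem _)
  intro M hHM hMK g hgM hgH
  have hc : Contains Q A B M := fun a ha b hb hab => by
    obtain ⟨h, hh, hhx⟩ := hHc a ha b hb hab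
    exact ⟨h, hHM hh, hhx⟩
  obtain ⟨W, hW, p, hp, hp0, q, hq, hpq, hr⟩ :
      ∃ W, (W = A ∨ W = B) ∧ ∃ p ∈ W, p ≠ 0 ∧ ∃ q ∈ W, q ∉ Submodule.span F {p} ∧ RT Q M p q := by
    by_cases hx : ∃ x ∈ A, (g : Matrix ι ι F) *ᵥ x ∉ A ∧ (g : Matrix ι ι F) *ᵥ x ∉ B
    · obtain ⟨x, hx, h1, h2⟩ := hx
      exact exists_root P hnd hMK hc hgM hx h1 h2
    by_cases hy : ∃ x ∈ B, (g : Matrix ι ι F) *ᵥ x ∉ B ∧ (g : Matrix ι ι F) *ᵥ x ∉ A
    · obtain ⟨x, hx, h1, h2⟩ := hy
      obtain ⟨W, hW, r⟩ := exists_root P.symm hnd hMK (Contains.symm P hc) hgM hx h1 h2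
      exact ⟨W, hW.symm, r⟩
    exfalso
    push Not at hx hy
    have hone : ∀ W : Submodule F (ι → F), (∀ x ∈ W, (g : Matrix ι ι F) *ᵥ x ∈ A ∨
        (g : Matrix ι ι F) *ᵥ x ∈ B) →
        (∀ x ∈ W, (g : Matrix ι ι F) *ᵥ x ∈ A) ∨ (∀ x ∈ W, (g : Matrix ι ι F) *ᵥ x ∈ B) := by
      intro W hW
      by_contra hcc
      push Not at hcc
      obtain ⟨⟨x, hx, hxA⟩, y, hy, hyB⟩ := hcc
      have hxB := (hW x hx).resolve_left hxA
      have hyA := (hW y hy).resolve_right hyB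
      rcases hW _ (W.add_mem hx hy) with h | h <;> rw [mulVec_add] at h
      · exact hxA ((A.add_mem_iff_left hyA).1 h)
      · exact hyB ((B.add_mem_iff_right hxB).1 h)
    have hboth : ∀ W : Submodule F (ι → F), (∀ w ∈ W, Q w = 0) →
        ¬ ((∀ x ∈ A, (g : Matrix ι ι F) *ᵥ x ∈ W) ∧ ∀ x ∈ B, (g : Matrix ι ι F) *ᵥ x ∈ W) := by
      rintro W hW ⟨h1, h2⟩
      have htop : ∀ x, x ∈ W := fun x => by
        rw [← gl_mulVec_inv_mulVec g x]
        obtain ⟨a, ha, b, hb, e⟩ := P.split (((g⁻¹ : GL ι F) : Matrix ι ι F) *ᵥ x)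
        rw [← e, mulVec_add]
        exact W.add_mem (h1 a ha) (h2 b hb)
      obtain ⟨a, ha, -, ha0⟩ := SympPair.exists_avoid_of_lt (W := A)
        ![(0 : (ι → F) →ₗ[F] F)] ![(0 : ι → F)] (by have := P.dimA; have := P.dimB; omega)
      obtain ⟨b, hb, hab⟩ := P.exists_ne hnd ha (fun e => ha0 (by rw [e]; exact Submodule.zero_mem _))
      exact hab (ts_polar hW (htop a) (htop b))
    rcases hone A fun x hx' => or_iff_not_imp_left.2 (hx x hx') with hAA | hAB <;>
      rcases hone B fun x hx' => (or_iff_not_imp_left.2 (hy x hx')).symm with hBA | hBB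
    · exact hboth A P.tsA ⟨hAA, hBA⟩
    · exact hgH (hstab g (hMK hgM) hAA hBB)
    · exact hgH (hflip g (hMK hgM) hAB hBA)
    · exact hboth B P.tsB ⟨hAB, hBB⟩
  obtain ⟨p, hp, hp0, q, hq, hpq, hr⟩ :
      ∃ p ∈ A, p ≠ 0 ∧ ∃ q ∈ A, q ∉ Submodule.span F {p} ∧ RT Q M p q := by
    rcases hW with rfl | rfl
    · exact ⟨p, hp, hp0, q, hq, hpq, hr⟩
    refine ⟨(s : Matrix ι ι F) *ᵥ p, hsB p hp, gl_mulVec_ne_zero s hp0, (s : Matrix ι ι F) *ᵥ q, hsB q hq, fun hmem => hpq ?_,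
      hr.conj hMK (hHM hsH)⟩
    obtain ⟨c, hc'⟩ := Submodule.mem_span_singleton.1 hmem
    exact Submodule.mem_span_singleton.2 ⟨c, gl_mulVec_injective s (by
      simpa [mulVec_smul] using hc')⟩
  have hall := root_all P hnd hMK hc hp hp0 hq hpq hr
  obtain ⟨a, ha, -, ha0⟩ := SympPair.exists_avoid_of_lt (W := A)
    ![(0 : (ι → F) →ₗ[F] F)] ![(0 : ι → F)] (by have := P.dimA; have := P.dimB; omega)
  obtain ⟨b, hb, hab⟩ := P.exists_ne hnd ha (fun e => ha0 (by rw [e]; exact Submodule.zero_mem _))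
  obtain ⟨a', ha', hsa⟩ : ∃ a' ∈ A, (s : Matrix ι ι F) *ᵥ a' = b := by
    have h := map_eq_of_forall P.dimB.symm hsA
    rw [← h] at hb
    obtain ⟨a', ha', e⟩ := hb
    exact ⟨a', ha', by simpa using e⟩
  refine OmS.omega_le_of_pair hnd Fr hMK (mem_SS P hc hall ha) (u' := b) ?_ hab
  rw [← hsa]
  exact OmS.SS_mulVec (hHM hsH) (hMK (hHM hsH)) (mem_SS P hc hall ha')

end CfsgLib.ClassicalMax.OmPair
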