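/-
The stabiliser of a hyperbolic plane over three elements fixes a line.
-/
import Cfsg.Agent.Lib.ClassicalMax.OmegaTools
import Cfsg.Agent.Lib.ClassicalMax.OrthThree
import Cfsg.Agent.Lib.ClassicalMax.SympTools
set_option autoImplicit false

namespace CfsgLib.ClassicalMax.Om

open Matrix Cfsg.Geo QuadraticMap

variable {ι : Type} [Fintype ι] [DecidableEq ι] {F : Type*} [Field F] {Q : (ι → F) → F}

theorem plane_not_maximal [Fintype F] (hq : Fintype.card F = 3)
    (hQ : IsNondegenerateQuadraticForm Q) {U₀ : Submodule F (ι → F)}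
    (hU₀ : ∀ u ∈ U₀, Q u = 0) (hU₀dim : 3 ≤ Module.finrank F U₀) {W : Submodule F (ι → F)}
    (hdim : Module.finrank F W = 2) (hW : IsNondegenerateOn (polar Q) W)
    (hplus : IsPlusTypeOn Q W) :
    ∃ K : Subgroup (GL ι F), subspaceStabilizer W ⊓ omegaGL Q < K ∧ K < omegaGL Q := by
  classical
  have h3 := OrthThree.three_eq_zero hq
  have h2 := OrthThree.two_ne_zero' hq
  obtain ⟨U, hUW, hUs, hU⟩ := hplus
  obtain ⟨u₁, hu₁, hu₁0⟩ := Submodule.exists_mem_ne_zero_of_ne_bot (p := U) fun h => by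
    rw [h, finrank_bot, hdim] at hU; omega
  obtain ⟨-, z, hz, huz⟩ := hW u₁ (hUW hu₁) hu₁0
  set a := polar Q u₁ z
  set z' := a⁻¹ • z with hz'
  have hz'W : z' ∈ W := W.smul_mem _ hz
  have h1 : polar Q u₁ z' = 1 := by rw [hz', smul_right hQ, inv_mul_cancel₀ huz]
  clear_value z'
  have hQu : Q u₁ = 0 := hUs u₁ hu₁
  set v₁ := z' - Q z' • u₁ with hv₁
  have hv₁W : v₁ ∈ W := W.sub_mem hz'W (W.smul_mem _ (hUW hu₁))
  have huv : polar Q u₁ v₁ = 1 := by
    rw [hv₁, sub_right hQ, smul_right hQ, h1, polar_self hQ, hQu]; ring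
  have hQv : Q v₁ = 0 := by
    rw [hv₁, Q_sub hQ, hQ.smul, hQu, smul_right hQ, polar_comm' Q z' u₁, h1]; ring
  clear_value v₁
  have huu : polar Q u₁ u₁ = 0 := by rw [polar_self hQ, hQu, mul_zero]
  have hvv : polar Q v₁ v₁ = 0 := by rw [polar_self hQ, hQv, mul_zero]
  have hvu : polar Q v₁ u₁ = 1 := by rw [polar_comm', huv]
  set p := u₁ + v₁ with hp
  set mm := u₁ - v₁ with hmm
  have hpW : p ∈ W := W.add_mem (hUW hu₁) hv₁W
  have hmW : mm ∈ W := W.sub_mem (hUW hu₁) hv₁W
  have hQp : Q p = 1 := by rw [hp, Q_add hQ, hQu, hQv, huv]; ring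
  have hQm : Q mm = -1 := by rw [hmm, Q_sub hQ, hQu, hQv, huv]; ring
  have hpm : polar Q p mm = 0 := by
    rw [hp, hmm, add_left hQ, sub_right hQ, sub_right hQ, huu, huv, hvu, hvv]; ring
  have hpp : polar Q p p = 2 := by rw [polar_self hQ, hQp, mul_one]
  have hmmm : polar Q mm mm = -2 := by rw [polar_self hQ, hQm]; ring
  have hp0 : p ≠ 0 := fun h => one_ne_zero (α := F) (by rw [← hQp, h, Q_zero hQ])
  have hWp : ∀ x ∈ W, Q x = 1 → ∃ c : F, x = c • p := by
    intro x hx hxx
    have hli : LinearIndependent F ![u₁, v₁] := (LinearIndependent.pair_iff' hu₁0).2 fun t ht =>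
      one_ne_zero (α := F) (by rw [← huv, ← ht, smul_right hQ, huu, mul_zero])
    have hS : Submodule.span F (Set.range ![u₁, v₁]) = W := by
      refine Submodule.eq_of_le_of_finrank_eq (Submodule.span_le.2 (Set.range_subset_iff.2
        fun i => by fin_cases i <;> simp [hUW hu₁, hv₁W])) ?_
      rw [finrank_span_eq_card hli, Fintype.card_fin, hdim]
    rw [← hS, Matrix.range_cons_cons_empty] at hx
    obtain ⟨b, c, rfl⟩ := Submodule.mem_span_pair.1 hx
    rw [Q_add hQ, hQ.smul, hQ.smul, hQu, hQv, smul_left hQ, smul_right hQ, huv] at hxx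
    have hbc : b * c = 1 := by linear_combination hxx
    refine ⟨b, ?_⟩
    rcases OrthThree.cases_three hq b with rfl | rfl | rfl
    · simp at hbc
    · rw [one_mul] at hbc; subst hbc; simp [hp]
    · have : c = -1 := by linear_combination -hbc
      subst this; simp [hp, add_comm]
  -- vectors orthogonal to the plane
  obtain ⟨u, v, hu, hv, huv', huW, hvW⟩ := exists_pair_orth hQ hW hU₀ (by omega)
  set y := u - v with hy
  set w := u + v with hw
  have hQy : Q y = -1 := by rw [hy, Q_sub hQ, hu, hv, huv']; ring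
  have hQw : Q w = 1 := by rw [hw, Q_add hQ, hu, hv, huv']; ring
  have hyw : polar Q y w = 0 := by
    rw [hy, hw, sub_left hQ, add_right hQ, add_right hQ, polar_comm' Q v u, polar_self hQ,
      polar_self hQ, hu, hv]
    ring
  have hyW : ∀ x ∈ W, polar Q x y = 0 := fun x hx => by
    rw [hy, sub_right hQ, polar_comm' Q x u, polar_comm' Q x v, huW x hx, hvW x hx, sub_zero]
  have hwW : ∀ x ∈ W, polar Q x w = 0 := fun x hx => by
    rw [hw, add_right hQ, polar_comm' Q x u, polar_comm' Q x v, huW x hx, hvW x hx, add_zero]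
  have hy0 : y ≠ 0 := fun h => neg_ne_zero.2 (one_ne_zero (α := F)) (by rw [← hQy, h, Q_zero hQ])
  refine ⟨subspaceStabilizer (Submodule.span F {p}) ⊓ omegaGL Q, lt_of_le_of_ne ?_ ?_,
    lt_of_le_of_ne inf_le_right ?_⟩
  · intro g hg
    refine ⟨mem_subspaceStabilizer_of_forall fun x hx => ?_, hg.2⟩
    obtain ⟨t, rfl⟩ := Submodule.mem_span_singleton.1 hx
    obtain ⟨c, hc⟩ := hWp _ ((hg.1 p).1 hpW) ((iso_Q hQ (omega_le hg.2) p).trans hQp)
    rw [show (g : Matrix ι ι F) *ᵥ (t • p) = t • ((g : Matrix ι ι F) *ᵥ p) from mulVec_smul _ _ _]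
    exact Submodule.smul_mem _ _ (Submodule.mem_span_singleton.2 ⟨c, hc.symm⟩)
  · intro heq
    have ha1 : Q (mm + y) = 1 := by
      rw [Q_add hQ, hQm, hQy, hyW mm hmW]; linear_combination -h3
    have hab : polar Q (mm + y) w = 0 := by rw [add_left hQ, hwW mm hmW, hyw, add_zero]
    have ha : Q (mm + y) ≠ 0 := by rw [ha1]; exact one_ne_zero
    have hb : Q w ≠ 0 := by rw [hQw]; exact one_ne_zero
    have hfix : (rf hQ ha * rf hQ hb : GL ι F) ∈
        subspaceStabilizer (Submodule.span F {p}) ⊓ omegaGL Q := by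
      refine ⟨mem_subspaceStabilizer_of_forall fun x hx => ?_,
        rf_mul_rf_mem hQ ha hb (ha1.trans hQw.symm) (by
          rw [Q_sub hQ, ha1, hQw, hab, sub_zero, one_add_one_eq_two]; exact h2)⟩
      obtain ⟨t, rfl⟩ := Submodule.mem_span_singleton.1 hx
      rw [gl_mulVec_mul, rf_fix hQ hb (by rw [smul_left hQ, hwW p hpW, mul_zero]),
        rf_fix hQ ha (by rw [smul_left hQ, add_right hQ, hpm, hyW p hpW, add_zero, mul_zero])]
      exact hx
    rw [← heq] at hfix
    have h := (hfix.1 mm).1 hmW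
    change ((rf hQ ha * rf hQ hb : GL ι F) : Matrix ι ι F) *ᵥ mm ∈ W at h
    rw [gl_mulVec_mul, rf_fix hQ hb (hwW mm hmW), rf_mulVec, ha1, div_one, add_right hQ, hmmm,
      hyW mm hmW, add_zero] at h
    have hyW' : y ∈ W := by
      have h' : -y ∈ W := by
        have e : mm - (-2 : F) • (mm + y) - (3 : F) • (mm + y) = -y := by module
        rw [h3, zero_smul, sub_zero] at e
        rwa [e] at h
      simpa using W.neg_mem h'
    obtain ⟨-, x, hx, hyx⟩ := hW y hyW' hy0
    exact hyx (by rw [polar_comm']; exact hyW x hx)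
  · intro heq
    have ha1 : Q (p + w) = -1 := by rw [Q_add hQ, hQp, hQw, hwW p hpW]; linear_combination h3
    have ha : Q (p + w) ≠ 0 := by rw [ha1]; exact neg_ne_zero.2 one_ne_zero
    have hb : Q y ≠ 0 := by rw [hQy]; exact neg_ne_zero.2 one_ne_zero
    have hab : polar Q (p + w) y = 0 := by
      rw [add_left hQ, hyW p hpW, polar_comm' Q w y, hyw, add_zero]
    have hmem : (rf hQ ha * rf hQ hb : GL ι F) ∈
        subspaceStabilizer (Submodule.span F {p}) ⊓ omegaGL Q := by
      rw [heq]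
      exact rf_mul_rf_mem hQ ha hb (ha1.trans hQy.symm) (by
        rw [Q_sub hQ, ha1, hQy, hab, sub_zero, ← neg_add, one_add_one_eq_two]
        exact neg_ne_zero.2 h2)
    have h := (hmem.1 p).1 (Submodule.mem_span_singleton_self p)
    change ((rf hQ ha * rf hQ hb : GL ι F) : Matrix ι ι F) *ᵥ p ∈ Submodule.span F {p} at h
    rw [gl_mulVec_mul, rf_fix hQ hb (hyW p hpW), rf_mulVec, ha1, add_right hQ, hpp, hwW p hpW,
      add_zero] at h
    obtain ⟨c, hc⟩ := Submodule.mem_span_singleton.1 h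
    have hc' := congrArg (fun x => polar Q x w) hc
    simp only [smul_left hQ, sub_left hQ, add_left hQ, hwW p hpW, mul_zero, zero_add] at hc'
    rw [polar_self hQ, hQw] at hc'
    exact one_ne_zero (α := F) (by linear_combination (-hc') - h3)

end CfsgLib.ClassicalMax.Om
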