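/-
Five pairwise anticommuting self-adjoint involutions on a four-dimensional symplectic space: the
vectors they span, the basis of sixteen products, and a transvection built from isotropic vectors.
-/
import Cfsg.Agent.Lib.ClassicalMax.SympTools
set_option autoImplicit false
set_option linter.unusedSectionVars false

namespace CfsgLib.ClassicalMax.SympFrame

open Matrix Cfsg.Geo

variable {F : Type*} [Field F]

local notation "I4" => (Fin 2 ⊕ Fin 2)
local notation "M4" => Matrix (Fin 2 ⊕ Fin 2) (Fin 2 ⊕ Fin 2) F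
local notation "ff" => Cfsg.sympForm 2 F

/-- Self-adjointness for the standard form. -/
def SA (A : M4) : Prop := ∀ x y, ff (A *ᵥ x) y = ff x (A *ᵥ y)

/-- Skew-adjointness for the standard form. -/
def SK (A : M4) : Prop := ∀ x y, ff (A *ᵥ x) y = -ff x (A *ᵥ y)

/-- Five anticommuting self-adjoint involutions. -/
structure Frame (S : Fin 5 → M4) : Prop where
  two : (2 : F) ≠ 0
  sq : ∀ i, S i * S i = 1
  anti : ∀ i j, i ≠ j → S i * S j = -(S j * S i)
  adj : ∀ i, SA (S i)

/-- The element of the span with the given coordinates. -/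
def xs (S : Fin 5 → M4) (u : Fin 5 → F) : M4 := ∑ i, u i • S i

/-- The index set of the basis. -/
abbrev Ix : Type := Option {p : Fin 5 × Fin 5 // p.1 ≤ p.2}

/-- The basis of sixteen products. -/
def bas (S : Fin 5 → M4) : Ix → M4
  | none => 1
  | some p => if p.1.1 = p.1.2 then S p.1.1 else S p.1.1 * S p.1.2

/-- Whether a basis element anticommutes with a generator. -/
def chi : Ix → Fin 5 → Bool
  | none, _ => false
  | some p, k => if p.1.1 = p.1.2 then decide (k ≠ p.1.1) else decide (k = p.1.1 ∨ k = p.1.2)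

lemma chi_separates : ∀ a b : Ix, a ≠ b → ∃ k, chi a k ≠ chi b k := by decide

lemma card_ix : Fintype.card Ix = 16 := by decide

variable {S : Fin 5 → Matrix (Fin 2 ⊕ Fin 2) (Fin 2 ⊕ Fin 2) F} (W : Frame S)

lemma xs_add (u v : Fin 5 → F) : xs S (u + v) = xs S u + xs S v := by
  simp [xs, add_smul, Finset.sum_add_distrib]

lemma xs_smul (c : F) (u : Fin 5 → F) : xs S (c • u) = c • xs S u := by
  simp [xs, Finset.smul_sum, smul_smul]

lemma xs_sub (u v : Fin 5 → F) : xs S (u - v) = xs S u - xs S v := by
  simp [xs, sub_smul, Finset.sum_sub_distrib]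

lemma xs_single (i : Fin 5) : xs S (Pi.single i 1) = S i := by
  rw [xs, Finset.sum_eq_single i (fun k _ hk => by simp [hk]) (fun h => absurd (Finset.mem_univ i) h)]
  simp

include W

lemma xs_polar (u v : Fin 5 → F) :
    xs S u * xs S v + xs S v * xs S u = (2 * (u ⬝ᵥ v)) • (1 : M4) := by
  have e1 : xs S u * xs S v = ∑ i, ∑ j, (u i * v j) • (S i * S j) := by
    rw [xs, xs, Finset.sum_mul_sum]
    simp only [smul_mul_assoc, mul_smul_comm, smul_smul]
    exact Finset.sum_congr rfl fun i _ => Finset.sum_congr rfl fun j _ => by rw [mul_comm]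
  have e2 : xs S v * xs S u = ∑ i, ∑ j, (u i * v j) • (S j * S i) := by
    rw [xs, xs, Finset.sum_mul_sum, Finset.sum_comm]
    refine Finset.sum_congr rfl fun i _ => Finset.sum_congr rfl fun j _ => ?_
    rw [smul_mul_assoc, mul_smul_comm, smul_smul, mul_comm]
  rw [e1, e2, ← Finset.sum_add_distrib, dotProduct, Finset.mul_sum, Finset.sum_smul]
  refine Finset.sum_congr rfl fun i _ => ?_
  rw [← Finset.sum_add_distrib, Finset.sum_eq_single i (fun j _ hj => ?_)
    (fun h => absurd (Finset.mem_univ i) h)]
  · rw [W.sq]; module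
  · rw [W.anti i j (Ne.symm hj), smul_neg, neg_add_cancel]

lemma xs_sq (u : Fin 5 → F) : xs S u * xs S u = (u ⬝ᵥ u) • (1 : M4) := by
  refine smul_right_injective _ W.two ?_
  change (2 : F) • (xs S u * xs S u) = (2 : F) • ((u ⬝ᵥ u) • (1 : M4))
  rw [two_smul, xs_polar W, smul_smul]

lemma xs_swap (u v : Fin 5 → F) :
    xs S v * xs S u = (2 * (u ⬝ᵥ v)) • (1 : M4) - xs S u * xs S v := by
  rw [← xs_polar W u v]; abel

/-- The sandwich formula. -/
lemma sandwich (b u : Fin 5 → F) :
    xs S b * xs S u * xs S b = xs S ((2 * (u ⬝ᵥ b)) • b - (b ⬝ᵥ b) • u) := by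
  rw [xs_sub, xs_smul, xs_smul, mul_assoc, xs_swap W b u, mul_sub, ← mul_assoc, xs_sq W,
    mul_smul_comm, mul_one, smul_mul_assoc, one_mul, dotProduct_comm b u]

lemma bas_anti (a : Ix) (k : Fin 5) :
    S k * bas S a * S k = if chi a k then -bas S a else bas S a := by
  have one : ∀ i, S k * S i * S k = if decide (k ≠ i) then -S i else S i := by
    intro i
    by_cases h : k = i
    · subst h; simp [W.sq]
    · rw [W.anti k i h, neg_mul, mul_assoc, W.sq, mul_one]; simp [h]
  rcases a with _ | ⟨⟨i, j⟩, hij⟩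
  · simp [bas, chi, W.sq]
  · by_cases h : i = j
    · simp only [bas, chi, h, if_true]
      exact one j
    · simp only [bas, chi, if_neg h]
      have e : S k * (S i * S j) * S k = (S k * S i * S k) * (S k * S j * S k) := by
        simp only [mul_assoc]
        rw [← mul_assoc (S k) (S k), W.sq, one_mul]
      rw [e, one, one]
      by_cases hi : k = i
      · subst hi; simp [h]
      · by_cases hj : k = j
        · subst hj; simp [hi]
        · simp [hi, hj]

lemma bas_unit (a : Ix) : bas S a * bas S a = 1 ∨ bas S a * bas S a = -1 := by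
  rcases a with _ | ⟨⟨i, j⟩, hij⟩
  · left; simp [bas]
  · by_cases h : i = j
    · left; simp [bas, h, W.sq]
    · right
      simp only [bas, if_neg h]
      rw [W.anti i j h, neg_mul, mul_neg, neg_neg, ← neg_neg (S j * S i * (S j * S i))]
      congr 1
      rw [← neg_mul, ← W.anti i j h, mul_assoc, ← mul_assoc (S j), W.sq, one_mul, W.sq]

lemma trace_bas_mul {a b : Ix} (hab : a ≠ b) : (bas S a * bas S b).trace = 0 := by
  obtain ⟨k, hk⟩ := chi_separates a b hab
  have h := Matrix.trace_mul_cycle (S k) (bas S a * bas S b) (S k)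
  rw [W.sq, one_mul] at h
  have e : S k * (bas S a * bas S b) * S k = -(bas S a * bas S b) := by
    have e' : S k * (bas S a * bas S b) * S k = (S k * bas S a * S k) * (S k * bas S b * S k) := by
      simp only [mul_assoc]
      rw [← mul_assoc (S k) (S k), W.sq, one_mul]
    rw [e', bas_anti W, bas_anti W]
    revert hk
    cases chi a k <;> cases chi b k <;> simp
  rw [e, Matrix.trace_neg] at h
  exact (mul_eq_zero.1 (show (2 : F) * (bas S a * bas S b).trace = 0 by linear_combination -h)).resolve_left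
    W.two

lemma trace_one : (1 : M4).trace ≠ 0 := by
  rw [Matrix.trace_one, Fintype.card_sum, Fintype.card_fin, show ((2 + 2 : ℕ) : F) = 2 * 2 by norm_num]
  exact mul_ne_zero W.two W.two

lemma bas_li : LinearIndependent F (bas S) := by
  rw [Fintype.linearIndependent_iff]
  intro c hc b
  have h := congrArg (fun A : M4 => (A * bas S b).trace) hc
  simp only [Finset.sum_mul, smul_mul_assoc, Matrix.trace_sum, Matrix.trace_smul, zero_mul,
    Matrix.trace_zero] at h
  rw [Finset.sum_eq_single b (fun a _ hab => by rw [trace_bas_mul W hab, smul_zero])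
    (fun hb => absurd (Finset.mem_univ b) hb)] at h
  refine (smul_eq_zero.1 h).resolve_right ?_
  rcases bas_unit W b with e | e <;> rw [e]
  · exact trace_one W
  · rw [Matrix.trace_neg]; exact neg_ne_zero.2 (trace_one W)

lemma bas_span : Submodule.span F (Set.range (bas S)) = ⊤ := by
  refine (bas_li W).span_eq_top_of_card_eq_finrank ?_
  rw [card_ix, Module.finrank_matrix, Fintype.card_sum, Fintype.card_fin, Module.finrank_self]

lemma exists_coords (A : M4) : ∃ c : Ix → F, ∑ a, c a • bas S a = A :=
  Submodule.mem_span_range_iff_exists_fun F |>.1 (bas_span W ▸ Submodule.mem_top)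

/-- Two linear maps on matrices agreeing on the basis agree. -/
lemma ext_bas {V : Type*} [AddCommGroup V] [Module F V] {L L' : M4 →ₗ[F] V}
    (h : ∀ a, L (bas S a) = L' (bas S a)) : L = L' :=
  LinearMap.ext_on (bas_span W) (by rintro _ ⟨a, rfl⟩; exact h a)

lemma xs_inj {u v : Fin 5 → F} (h : xs S u = xs S v) : u = v := by
  have h2 : xs S (u - v) = 0 := by rw [xs_sub, h, sub_self]
  funext i
  have e := xs_polar W (u - v) (Pi.single i 1)
  rw [h2, zero_mul, mul_zero, add_zero, dotProduct_single, mul_one] at e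
  have := congrFun (congrFun e (Sum.inl 0)) (Sum.inl 0)
  simp [W.two] at this
  exact sub_eq_zero.1 this

/-- A matrix commuting with all five is scalar. -/
lemma scalar_of_commute {A : M4} (h : ∀ k, A * S k = S k * A) : ∃ c : F, A = c • 1 := by
  obtain ⟨c, rfl⟩ := exists_coords W A
  refine ⟨c none, ?_⟩
  have key : ∀ a, a ≠ none → c a = 0 := by
    intro a ha
    obtain ⟨k, hk⟩ := chi_separates a none ha
    have hk' : chi a k = true := by simpa [chi] using hk
    have e := h k
    have e2 : ∑ a, (if chi a k then -c a else c a) • bas S a = ∑ a, c a • bas S a := by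
      calc _ = S k * (∑ a, c a • bas S a) * S k := by
            rw [Finset.mul_sum, Finset.sum_mul]
            refine Finset.sum_congr rfl fun a _ => ?_
            rw [mul_smul_comm, smul_mul_assoc, bas_anti W]
            split_ifs <;> simp
        _ = _ := by rw [← e, mul_assoc, W.sq, mul_one]
    obtain ⟨g, hg⟩ : ∃ g : Ix → F, ∀ b, g b = (if chi b k then -c b else c b) - c b := ⟨_, fun _ => rfl⟩
    have e3 : ∑ b, g b • bas S b = 0 := by
      simp only [hg, sub_smul, Finset.sum_sub_distrib, e2, sub_self]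
    have h' := congrArg (fun A : M4 => (A * bas S a).trace) e3
    simp only [Finset.sum_mul, smul_mul_assoc, Matrix.trace_sum, Matrix.trace_smul, zero_mul,
      Matrix.trace_zero] at h'
    rw [Finset.sum_eq_single a (fun b _ hb => by rw [trace_bas_mul W hb, smul_zero])
      (fun hb => absurd (Finset.mem_univ a) hb)] at h'
    have this := (smul_eq_zero.1 h').resolve_right (by
      rcases bas_unit W a with u | u <;> rw [u]
      · exact trace_one W
      · rw [Matrix.trace_neg]; exact neg_ne_zero.2 (trace_one W))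
    rw [hg] at this
    rw [if_pos hk'] at this
    exact (mul_eq_zero.1 (show (2 : F) * c a = 0 by linear_combination -this)).resolve_left W.two
  rw [Finset.sum_eq_single none (fun a _ ha => by rw [key a ha, zero_smul])
    (fun h => absurd (Finset.mem_univ _) h)]
  rfl

omit W

lemma SA_add {A B : M4} (hA : SA A) (hB : SA B) : SA (A + B) := fun x y => by
  rw [add_mulVec, add_mulVec, (isSymplecticForm_sympForm 2 F).bilinear.add_left,
    (isSymplecticForm_sympForm 2 F).bilinear.add_right, hA, hB]

lemma SA_smul (c : F) {A : M4} (hA : SA A) : SA (c • A) := fun x y => by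
  rw [smul_mulVec, smul_mulVec, (isSymplecticForm_sympForm 2 F).bilinear.smul_left,
    (isSymplecticForm_sympForm 2 F).bilinear.smul_right, hA]

lemma SA_zero : SA (0 : M4) := fun x y => by
  rw [zero_mulVec, zero_mulVec, form_zero_left (isSymplecticForm_sympForm 2 F).bilinear,
    form_zero_right (isSymplecticForm_sympForm 2 F).bilinear]

lemma SA_sum {α : Type*} (s : Finset α) {g : α → M4} (h : ∀ a ∈ s, SA (g a)) :
    SA (∑ a ∈ s, g a) :=
  Finset.sum_induction g SA (fun _ _ => SA_add) SA_zero h

lemma SK_add {A B : M4} (hA : SK A) (hB : SK B) : SK (A + B) := fun x y => by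
  rw [add_mulVec, add_mulVec, (isSymplecticForm_sympForm 2 F).bilinear.add_left,
    (isSymplecticForm_sympForm 2 F).bilinear.add_right, hA, hB]
  ring

lemma SK_smul (c : F) {A : M4} (hA : SK A) : SK (c • A) := fun x y => by
  rw [smul_mulVec, smul_mulVec, (isSymplecticForm_sympForm 2 F).bilinear.smul_left,
    (isSymplecticForm_sympForm 2 F).bilinear.smul_right, hA]
  ring

lemma SK_zero : SK (0 : M4) := fun x y => by
  rw [zero_mulVec, zero_mulVec, form_zero_left (isSymplecticForm_sympForm 2 F).bilinear,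
    form_zero_right (isSymplecticForm_sympForm 2 F).bilinear, neg_zero]

lemma eq_zero_of_SA_SK (h2 : (2 : F) ≠ 0) {A : M4} (h : SA A) (h' : SK A) : A = 0 := by
  refine Matrix.ext_of_mulVec_single fun i => ?_
  rw [zero_mulVec]
  refine eq_zero_of_form_left (isSymplecticForm_sympForm 2 F).nondegenerate fun y => ?_
  exact (mul_eq_zero.1 (show (2 : F) * ff (A *ᵥ Pi.single i 1) y = 0 by
    linear_combination h (Pi.single i 1) y + h' (Pi.single i 1) y)).resolve_left h2

include W

lemma xs_adj (u : Fin 5 → F) : SA (xs S u) := SA_sum _ fun i _ => SA_smul _ (W.adj i)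

lemma xs_trace (u : Fin 5 → F) : (xs S u).trace = 0 := by
  rw [xs, Matrix.trace_sum]
  refine Finset.sum_eq_zero fun i _ => ?_
  rw [Matrix.trace_smul]
  have h := trace_bas_mul W (a := some ⟨(i, i), le_rfl⟩) (b := none) (by simp)
  simp [bas] at h
  rw [h, smul_zero]

/-- Self-adjoint matrices of trace zero. -/
lemma exists_xs {A : M4} (hA : SA A) (ht : A.trace = 0) : ∃ u, A = xs S u := by
  classical
  obtain ⟨c, hc⟩ := exists_coords W A
  set isP : Ix → Bool := fun a => match a with
    | none => false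
    | some p => decide (p.1.1 ≠ p.1.2) with hisP
  have hp : ∀ a, isP a = true → SK (bas S a) := by
    rintro (_ | ⟨⟨i, j⟩, hij⟩) h
    · simp [hisP] at h
    · have h' : i ≠ j := by simpa [hisP] using h
      intro x y
      simp only [bas, if_neg h']
      rw [← mulVec_mulVec, ← mulVec_mulVec, W.adj i, W.adj j, mulVec_mulVec, mulVec_mulVec,
        W.anti j i h'.symm, neg_mulVec, form_neg_right (isSymplecticForm_sympForm 2 F).bilinear]
  have hs : ∀ a, isP a = false → SA (bas S a) := by
    rintro (_ | ⟨⟨i, j⟩, hij⟩) h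
    · intro x y; simp [bas]
    · have h' : i = j := by simpa [hisP] using h
      simp only [bas, if_pos h']
      exact W.adj i
  have hsplit : A = ∑ a, (if isP a then 0 else c a) • bas S a + ∑ a, (if isP a then c a else 0) • bas S a := by
    rw [← hc, ← Finset.sum_add_distrib]
    exact Finset.sum_congr rfl fun a _ => by split_ifs <;> simp
  have h1 : SA (∑ a, (if isP a then 0 else c a) • bas S a) := SA_sum _ fun a _ => by
    cases h : isP a
    · exact SA_smul _ (hs a h)
    · simpa using SA_zero
  have h2 : SK (∑ a, (if isP a then c a else 0) • bas S a) :=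
    Finset.sum_induction _ SK (fun _ _ => SK_add) SK_zero fun a _ => by
      cases h : isP a
      · simpa using SK_zero
      · exact SK_smul _ (hp a h)
  have h3 : ∑ a, (if isP a then c a else 0) • bas S a = 0 := by
    refine eq_zero_of_SA_SK W.two ?_ h2
    have := SA_add hA (SA_smul (-1) h1)
    rwa [neg_one_smul, hsplit, add_neg_cancel_comm] at this
  rw [h3, add_zero] at hsplit
  refine ⟨fun i => c (some ⟨(i, i), le_rfl⟩), ?_⟩
  have hnone : c none = 0 := by
    have h := ht
    rw [hsplit, Matrix.trace_sum, Finset.sum_eq_single none (fun a _ ha => ?_)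
      (fun h => absurd (Finset.mem_univ _) h), Matrix.trace_smul, smul_eq_mul] at h
    · simp [hisP, bas] at h
      exact h.resolve_right fun e => trace_one W (by rw [Matrix.trace_one]; simpa using e)
    · have := trace_bas_mul W ha
      rw [show bas S none = 1 from rfl, mul_one] at this
      rw [Matrix.trace_smul, this, smul_zero]
  rw [hsplit, Fintype.sum_option]
  simp only [hisP, Bool.false_eq_true, if_false, hnone, zero_smul, zero_add]
  rw [xs, ← Finset.sum_filter_add_sum_filter_not Finset.univ
    (fun p : {p : Fin 5 × Fin 5 // p.1 ≤ p.2} => p.1.1 = p.1.2)]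
  rw [Finset.sum_eq_zero (s := Finset.univ.filter fun p : {p : Fin 5 × Fin 5 // p.1 ≤ p.2} => ¬p.1.1 = p.1.2)
    (fun p hp => by simp [(Finset.mem_filter.1 hp).2]), add_zero]
  refine Finset.sum_bij' (fun p _ => p.1.1) (fun i _ => ⟨(i, i), le_rfl⟩) (fun _ _ => Finset.mem_univ _)
    (fun i _ => by simp) (fun p hp => ?_) (fun i _ => rfl) (fun p hp => ?_)
  · obtain ⟨⟨i, j⟩, hij⟩ := p
    simp at hp
    simp [hp]
  · obtain ⟨⟨i, j⟩, hij⟩ := p
    simp at hp
    subst hp
    simp [bas]

/-- The product of two orthogonal isotropic elements has rank one. -/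
lemma sandwich_null {n m : Fin 5 → F} (hn : n ⬝ᵥ n = 0) (hm : m ⬝ᵥ m = 0) (hnm : n ⬝ᵥ m = 0)
    (X : M4) : ∃ c : F, xs S n * xs S m * X * (xs S n * xs S m) = c • (xs S n * xs S m) := by
  set N := xs S n with hN
  set K := xs S m with hK
  have nn : N * N = 0 := by rw [hN, xs_sq W, hn, zero_smul]
  have mm : K * K = 0 := by rw [hK, xs_sq W, hm, zero_smul]
  have mn : K * N = -(N * K) := by rw [hN, hK, xs_swap W, hnm, mul_zero, zero_smul, zero_sub]
  have side : ∀ w, N * xs S w * N = (2 * (w ⬝ᵥ n)) • N ∧ K * xs S w * K = (2 * (w ⬝ᵥ m)) • K := fun w => by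
    constructor
    · rw [hN, sandwich W, hn, zero_smul, sub_zero, xs_smul]
    · rw [hK, sandwich W, hm, zero_smul, sub_zero, xs_smul]
  have one : ∀ w, N * K * xs S w * (N * K) = 0 := fun w => by
    have e : K * xs S w = (2 * (w ⬝ᵥ m)) • (1 : M4) - xs S w * K := by rw [hK, xs_swap W]
    rw [mul_assoc N K (xs S w), e, mul_sub, mul_smul_comm, mul_one, sub_mul, smul_mul_assoc, ← mul_assoc N N,
      nn, zero_mul, smul_zero, mul_assoc N (xs S w * K), mul_assoc (xs S w) K, ← mul_assoc K N, mn,
      neg_mul, mul_assoc N K K, mm, mul_zero, neg_zero, mul_zero, mul_zero, sub_self]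
  have two : ∀ w z, N * K * (xs S w * xs S z) * (N * K) =
      (4 * ((w ⬝ᵥ m) * (z ⬝ᵥ n) - (w ⬝ᵥ n) * (z ⬝ᵥ m))) • (N * K) := fun w z => by
    have ek : K * xs S w = (2 * (w ⬝ᵥ m)) • (1 : M4) - xs S w * K := by rw [hK, xs_swap W]
    have en : N * xs S w = (2 * (w ⬝ᵥ n)) • (1 : M4) - xs S w * N := by rw [hN, xs_swap W]
    have e : N * K * xs S w =
        (2 * (w ⬝ᵥ m)) • N - (2 * (w ⬝ᵥ n)) • K + xs S w * (N * K) := by
      rw [mul_assoc, ek, mul_sub, mul_smul_comm, mul_one, ← mul_assoc, en, sub_mul, smul_mul_assoc,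
        one_mul, mul_assoc]
      abel
    have a1 : N * xs S z * (N * K) = (2 * (z ⬝ᵥ n)) • (N * K) := by
      rw [← mul_assoc, (side z).1, smul_mul_assoc]
    have a2 : K * xs S z * (N * K) = (2 * (z ⬝ᵥ m)) • (N * K) := by
      rw [show N * K = -(K * N) by rw [mn, neg_neg], mul_neg, ← mul_assoc, (side z).2, smul_mul_assoc,
        smul_neg]
    have a3 : xs S w * (N * K) * xs S z * (N * K) = 0 := by
      rw [mul_assoc (xs S w) (N * K), mul_assoc (xs S w) _ (N * K), one, mul_zero]
    rw [show N * K * (xs S w * xs S z) * (N * K) = ((N * K * xs S w) * xs S z) * (N * K) by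
      simp only [mul_assoc], e, add_mul, add_mul, a3, add_zero, sub_mul, sub_mul, smul_mul_assoc, smul_mul_assoc,
      smul_mul_assoc, smul_mul_assoc, a1, a2, smul_smul, smul_smul, ← sub_smul]
    congr 1
    ring
  have hmem : X ∈ Submodule.span F (Set.range (bas S)) := by rw [bas_span W]; exact Submodule.mem_top
  induction hmem using Submodule.span_induction with
  | mem x hx =>
    obtain ⟨a, rfl⟩ := hx
    rcases a with _ | ⟨⟨i, j⟩, hij⟩
    · refine ⟨0, ?_⟩
      simp only [bas, mul_one, zero_smul]
      rw [mul_assoc, ← mul_assoc K N, mn, neg_mul, mul_assoc N K K, mm, mul_zero, neg_zero, mul_zero]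
    · by_cases h : i = j
      · refine ⟨0, ?_⟩
        simp only [bas, if_pos h, zero_smul, ← xs_single (S := S)]
        exact one _
      · simp only [bas, if_neg h, ← xs_single (S := S)]
        exact ⟨_, two _ _⟩
  | zero => exact ⟨0, by simp⟩
  | add x y _ _ hx hy =>
    obtain ⟨cx, hx⟩ := hx
    obtain ⟨cy, hy⟩ := hy
    exact ⟨cx + cy, by rw [mul_add, add_mul, hx, hy, add_smul]⟩
  | smul r x _ hx =>
    obtain ⟨cx, hx⟩ := hx
    exact ⟨r * cx, by rw [mul_smul_comm, smul_mul_assoc, hx, smul_smul]⟩

omit W in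
/-- A skew-adjoint matrix of rank one. -/
lemma rank_one_skew {B : M4} (hB : B ≠ 0) (hsk : SK B) (hs : ∀ X, ∃ c : F, B * X * B = c • B) :
    ∃ (v : I4 → F) (c : F), v ≠ 0 ∧ c ≠ 0 ∧ ∀ y, B *ᵥ y = (c * ff y v) • v := by
  classical
  have hf := isSymplecticForm_sympForm 2 F
  obtain ⟨a, ha⟩ : ∃ a, B *ᵥ a ≠ 0 := by
    by_contra h
    push Not at h
    exact hB (Matrix.ext_of_mulVec_single fun i => by rw [h, zero_mulVec])
  set v := B *ᵥ a with hv
  obtain ⟨l, hl⟩ := Function.ne_iff.1 ha
  obtain ⟨c, hc⟩ := hs (vecMulVec a (Pi.single l 1))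
  have hcy : ∀ y, ((B *ᵥ y) l) • v = c • (B *ᵥ y) := fun y => by
    have h := congrArg (fun A : M4 => A *ᵥ y) hc
    simp only [← mulVec_mulVec, vecMulVec_mulVec, single_dotProduct, one_mul, op_smul_eq_smul,
      mulVec_smul, smul_mulVec] at h
    exact h
  have hc0 : c ≠ 0 := fun e => by
    have h := hcy a
    rw [e, zero_smul] at h
    exact (smul_eq_zero.1 h).elim hl ha
  obtain ⟨z, hz⟩ := (hf.nondegenerate v ha).2
  set κ := -((B *ᵥ z) l / c) / ff v z with hκ
  have hline : ∀ y, B *ᵥ y = ((B *ᵥ y) l / c) • v := fun y => by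
    rw [div_eq_inv_mul, mul_smul, hcy, smul_smul, inv_mul_cancel₀ hc0, one_smul]
  have hform : ∀ y, B *ᵥ y = (κ * ff y v) • v := fun y => by
    have h := hsk y z
    rw [hline y, hline z, hf.bilinear.smul_left, hf.bilinear.smul_right] at h
    rw [hline y]
    congr 1
    rw [hκ]
    field_simp at h ⊢
    linear_combination h
  refine ⟨v, κ, ha, fun e => ha ?_, hform⟩
  rw [hv, hform a, e, zero_mul, zero_smul]

end CfsgLib.ClassicalMax.SympFrame
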