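/-
The normaliser of a symplectic type group of order thirty-two and minus type is maximal in the
four-dimensional symplectic group over a prime field of odd order.
-/
import Cfsg.Agent.Lib.ClassicalMax.SympFrame
import Cfsg.Agent.Lib.ClassicalMax.SympShort
import Cfsg.Agent.Lib.ClassicalMax.FiveSpaceTriple
import Cfsg.Agent.Lib.LinFix.MinusSymp
set_option autoImplicit false
set_option linter.unusedSectionVars false

namespace CfsgLib.ClassicalMax.SympFourC6

open Matrix Cfsg.Geo SympFrame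

variable {F : Type*} [Field F]

local notation "I4" => (Fin 2 ⊕ Fin 2)
local notation "M4" => Matrix (Fin 2 ⊕ Fin 2) (Fin 2 ⊕ Fin 2) F
local notation "ff" => Cfsg.sympForm 2 F

/-- Conjugation of a matrix. -/
def cj (g : GL I4 F) (A : M4) : M4 := (g : M4) * A * ((g⁻¹ : GL I4 F) : M4)

lemma cj_mul (g : GL I4 F) (A B : M4) : cj g (A * B) = cj g A * cj g B := by
  simp only [cj, mul_assoc]
  rw [← mul_assoc ((g⁻¹ : GL I4 F) : M4) (g : M4), Units.inv_mul, one_mul]

lemma cj_add (g : GL I4 F) (A B : M4) : cj g (A + B) = cj g A + cj g B := by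
  simp only [cj, mul_add, add_mul]

lemma cj_smul (g : GL I4 F) (c : F) (A : M4) : cj g (c • A) = c • cj g A := by
  simp only [cj, mul_smul_comm, smul_mul_assoc]

lemma cj_one (g : GL I4 F) : cj g (1 : M4) = 1 := by simp [cj]

lemma cj_cj (g h : GL I4 F) (A : M4) : cj (g * h) A = cj g (cj h A) := by
  simp only [cj, Units.val_mul, _root_.mul_inv_rev, mul_assoc]

lemma cj_inj (g : GL I4 F) {A B : M4} (h : cj g A = cj g B) : A = B := by
  have h' := congrArg (cj g⁻¹) h
  rw [← cj_cj, ← cj_cj, inv_mul_cancel] at h'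
  simpa [cj] using h'

lemma SA_cj {g : GL I4 F} (hg : g ∈ Cfsg.spGL 2 F) {A : M4} (hA : SA A) : SA (cj g A) := fun x y => by
  have hg' : g ∈ isoOf ff := hg
  rw [cj, ← mulVec_mulVec, ← mulVec_mulVec, ← mulVec_mulVec, ← mulVec_mulVec,
    form_mulVec_left hg', hA]
  conv_rhs => rw [← gl_mulVec_inv_mulVec g x]
  exact (hg' _ _).symm

lemma trace_cj (g : GL I4 F) (A : M4) : (cj g A).trace = A.trace := by
  rw [cj, Matrix.trace_mul_comm, ← mul_assoc, Units.inv_mul, one_mul]

variable {s : Fin 5 → GL (Fin 2 ⊕ Fin 2) F} (W : Frame fun i => (s i : Matrix (Fin 2 ⊕ Fin 2) (Fin 2 ⊕ Fin 2) F))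

/-- The five matrices. -/
abbrev SS (s : Fin 5 → GL I4 F) : Fin 5 → M4 := fun i => (s i : M4)

include W

/-- The induced map on five-space. -/
lemma exists_act {g : GL I4 F} (hg : g ∈ Cfsg.spGL 2 F) :
    ∃ h : GL (Fin 5) F, ∀ u, cj g (xs (SS s) u) = xs (SS s) (FiveSpace.ac h u) := by
  classical
  choose col hcol using fun i => exists_xs W (SA_cj hg (W.adj i)) (by
    rw [trace_cj, show (s i : M4) = xs (SS s) (Pi.single i 1) from (xs_single (S := SS s) i).symm, xs_trace W])
  let H : Matrix (Fin 5) (Fin 5) F := Matrix.of fun j i => col i j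
  have hH : ∀ u, cj g (xs (SS s) u) = xs (SS s) (H *ᵥ u) := by
    intro u
    have e : H *ᵥ u = ∑ i, u i • col i := by
      funext j
      simp [H, mulVec, dotProduct, Finset.sum_apply, mul_comm]
    rw [e]
    have hlin : ∀ t : Finset (Fin 5), cj g (∑ i ∈ t, u i • SS s i) = xs (SS s) (∑ i ∈ t, u i • col i) := by
      intro t
      induction t using Finset.induction with
      | empty => simp [cj, xs]
      | insert i t hi ih =>
        rw [Finset.sum_insert hi, Finset.sum_insert hi, cj_add, cj_smul, hcol, ih, xs_add, xs_smul]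
    exact hlin Finset.univ
  have hinj : Function.Injective (H.mulVec) := fun u v e => by
    have : cj g (xs (SS s) u) = cj g (xs (SS s) v) := by rw [hH, hH]; exact congrArg _ e
    exact xs_inj W (cj_inj g this)
  obtain ⟨h, hh⟩ := Matrix.mulVec_injective_iff_isUnit.1 hinj
  exact ⟨h, fun u => by rw [FiveSpace.ac, hh]; exact hH u⟩

lemma mem_sp_of_sq {A : GL I4 F} (hA : SA (A : M4)) (hsq : (A : M4) * A = 1) : A ∈ Cfsg.spGL 2 F := by
  intro x y
  change ff ((A : M4) *ᵥ x) ((A : M4) *ᵥ y) = ff x y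
  rw [hA, mulVec_mulVec, hsq, one_mulVec]

/-- The element with the given coordinates. -/
def xU (b : Fin 5 → F) (hb : b ⬝ᵥ b = 1) : GL I4 F where
  val := xs (SS s) b
  inv := xs (SS s) b
  val_inv := by rw [xs_sq W, hb, one_smul]
  inv_val := by rw [xs_sq W, hb, one_smul]

lemma xU_mem_sp (b : Fin 5 → F) (hb : b ⬝ᵥ b = 1) : xU W b hb ∈ Cfsg.spGL 2 F :=
  mem_sp_of_sq W (xs_adj W b) (by change xs (SS s) b * xs (SS s) b = 1; rw [xs_sq W, hb, one_smul])

lemma cj_xU (b : Fin 5 → F) (hb : b ⬝ᵥ b = 1) (u : Fin 5 → F) :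
    cj (xU W b hb) (xs (SS s) u) = xs (SS s) ((2 * (u ⬝ᵥ b)) • b - u) := by
  change xs (SS s) b * xs (SS s) u * xs (SS s) b = _
  rw [sandwich W, hb, one_smul]

omit W

/-- Mapping each of the five matrices to one of them up to sign. -/
def PermS (s : Fin 5 → GL I4 F) (g : GL I4 F) : Prop :=
  ∀ i, ∃ j, cj g (s i : M4) = (s j : M4) ∨ cj g (s i : M4) = -(s j : M4)

variable {R : Subgroup (GL (Fin 2 ⊕ Fin 2) F)}

include W

lemma neg_one_mem (hs : ∀ i, s i ∈ R) :
    (-1 : GL I4 F) ∈ R := by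
  have e : (-1 : GL I4 F) = s 0 * s 1 * (s 0 * s 1) := by
    refine Units.ext ?_
    rw [Units.val_neg, Units.val_one, Units.val_mul, Units.val_mul,
      show ((s 0 : M4) * (s 1 : M4)) * ((s 0 : M4) * (s 1 : M4)) =
        (s 0 : M4) * ((s 1 : M4) * (s 0 : M4)) * (s 1 : M4) by simp only [mul_assoc],
      W.anti 1 0 (by decide), mul_neg, ← mul_assoc (s 0 : M4) (s 0 : M4) (s 1 : M4), W.sq 0, one_mul,
      neg_mul, W.sq 1]
  rw [e]
  exact R.mul_mem (R.mul_mem (hs 0) (hs 1)) (R.mul_mem (hs 0) (hs 1))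

/-- The elements of the group. -/
lemma elements [Finite F] (hs : ∀ i, s i ∈ R) (hR : Nat.card R = 32) {r : GL I4 F} (hr : r ∈ R) :
    ∃ a, (r : M4) = bas (SS s) a ∨ (r : M4) = -bas (SS s) a := by
  classical
  haveI : Fintype R := Fintype.ofFinite _
  let bu : Ix → GL I4 F := fun a => match a with
    | none => 1
    | some p => if p.1.1 = p.1.2 then s p.1.1 else s p.1.1 * s p.1.2
  have hbu : ∀ a, bu a ∈ R ∧ (bu a : M4) = bas (SS s) a := by
    rintro (_ | ⟨⟨i, j⟩, hij⟩)
    · exact ⟨R.one_mem, rfl⟩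
    · by_cases h : i = j
      · refine ⟨?_, ?_⟩ <;> simp [bu, bas, h, hs]
      · refine ⟨?_, ?_⟩ <;> simp [bu, bas, h, R.mul_mem (hs i) (hs j)]
  let φ : Bool × Ix → R := fun t => if t.1 then ⟨bu t.2, (hbu t.2).1⟩
    else ⟨-1 * bu t.2, R.mul_mem (neg_one_mem W hs) (hbu t.2).1⟩
  have hφ : ∀ t, ((φ t : GL I4 F) : M4) = if t.1 then bas (SS s) t.2 else -bas (SS s) t.2 := by
    rintro ⟨_ | _, a⟩ <;> simp [φ, (hbu a).2]
  have hne : ∀ a, (bas (SS s) a * bas (SS s) a).trace ≠ 0 := fun a => by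
    rcases bas_unit W a with e | e <;> rw [e]
    · exact trace_one W
    · rw [Matrix.trace_neg]; exact neg_ne_zero.2 (trace_one W)
  have hinj : Function.Injective φ := by
    rintro ⟨x, a⟩ ⟨y, b⟩ e
    have e' := congrArg (fun z : R => ((z : GL I4 F) : M4)) e
    simp only [hφ] at e'
    have e'' := congrArg (fun A : M4 => (A * bas (SS s) b).trace) e'
    obtain rfl : a = b := by
      by_contra hab
      cases x <;> cases y <;> simp [trace_bas_mul W hab] at e''
      all_goals exact hne b (by first | exact e'' | exact e''.symm)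
    cases x <;> cases y <;> simp at e' ⊢
    all_goals
      refine hne a ?_
      simp at e''
      first
        | exact (mul_eq_zero.1 (show (2 : F) * (bas (SS s) a * bas (SS s) a).trace = 0 by
            linear_combination e'')).resolve_left W.two
        | exact (mul_eq_zero.1 (show (2 : F) * (bas (SS s) a * bas (SS s) a).trace = 0 by
            linear_combination -e'')).resolve_left W.two
  have hbij : Function.Bijective φ := hinj.bijective_of_nat_card_le (by
    rw [hR, Nat.card_eq_fintype_card, Fintype.card_prod, card_ix, Fintype.card_bool])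
  obtain ⟨⟨x, a⟩, ha⟩ := hbij.2 ⟨r, hr⟩
  refine ⟨a, ?_⟩
  have e := hφ (x, a)
  rw [ha] at e
  cases x
  · exact Or.inr (by simpa using e)
  · exact Or.inl (by simpa using e)

lemma perm_of_normalizer [Finite F] (hs : ∀ i, s i ∈ R) (hR : Nat.card R = 32) {g : GL I4 F}
    (hg : g ∈ subgroupNormalizer R) (hgs : g ∈ Cfsg.spGL 2 F) : PermS s g := by
  intro i
  have hm : g * s i * g⁻¹ ∈ R := (Subgroup.mem_set_normalizer_iff.1 hg (s i)).1 (hs i)
  obtain ⟨a, ha⟩ := elements W hs hR hm
  have hval : ((g * s i * g⁻¹ : GL I4 F) : M4) = cj g (s i : M4) := by simp [cj]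
  rw [hval] at ha
  have hSA : SA (bas (SS s) a) := by
    have h := SA_cj hgs (W.adj i)
    rcases ha with e | e <;> rw [e] at h
    · exact h
    · simpa using SA_smul (-1) h
  have htr : (bas (SS s) a).trace = 0 := by
    have h : (cj g (s i : M4)).trace = 0 := by
      rw [trace_cj, show (s i : M4) = xs (SS s) (Pi.single i 1) from (xs_single (S := SS s) i).symm, xs_trace W]
    rcases ha with e | e <;> rw [e] at h
    · exact h
    · simpa using h
  rcases a with _ | ⟨⟨j, k⟩, hjk⟩
  · exact absurd htr (trace_one W)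
  · by_cases h : j = k
    · refine ⟨j, ?_⟩
      simpa [bas, h] using ha
    · exfalso
      simp only [bas, if_neg h] at hSA
      have hSK : SK ((s j : M4) * (s k : M4)) := fun x y => by
        rw [← mulVec_mulVec, ← mulVec_mulVec, W.adj j, W.adj k, mulVec_mulVec, mulVec_mulVec,
          W.anti k j (Ne.symm h), neg_mulVec,
          form_neg_right (isSymplecticForm_sympForm 2 F).bilinear]
      have h0 := eq_zero_of_SA_SK W.two hSA hSK
      have : (s j * s k : GL I4 F).val = 0 := h0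
      exact Units.ne_zero _ this

lemma normalizer_of_perm [Finite F] (hs : ∀ i, s i ∈ R) (hR : Nat.card R = 32) {g : GL I4 F}
    (hg : PermS s g) : g ∈ subgroupNormalizer R := by
  classical
  have hgen : ∀ i, g * s i * g⁻¹ ∈ R := fun i => by
    obtain ⟨j, e | e⟩ := hg i
    · rw [show g * s i * g⁻¹ = s j from Units.ext (by simpa [cj] using e)]
      exact hs j
    · rw [show g * s i * g⁻¹ = -1 * s j from Units.ext (by simpa [cj] using e)]
      exact R.mul_mem (neg_one_mem W hs) (hs j)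
  have hall : ∀ r ∈ R, g * r * g⁻¹ ∈ R := by
    intro r hr
    obtain ⟨a, ha⟩ := elements W hs hR hr
    have hb : ∃ b : GL I4 F, (b : M4) = bas (SS s) a ∧ g * b * g⁻¹ ∈ R := by
      rcases a with _ | ⟨⟨i, j⟩, hij⟩
      · exact ⟨1, rfl, by simpa using R.one_mem⟩
      · by_cases h : i = j
        · exact ⟨s i, by simp [bas, h], hgen i⟩
        · refine ⟨s i * s j, by simp [bas, h], ?_⟩
          rw [show g * (s i * s j) * g⁻¹ = g * s i * g⁻¹ * (g * s j * g⁻¹) by group]
          exact R.mul_mem (hgen i) (hgen j)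
    obtain ⟨b, hb1, hb2⟩ := hb
    rcases ha with e | e
    · rw [show r = b from Units.ext (e.trans hb1.symm)]; exact hb2
    · rw [show r = -1 * b from Units.ext (by rw [e, ← hb1]; simp),
        show g * (-1 * b) * g⁻¹ = -1 * (g * b * g⁻¹) from Units.ext (by simp [mul_assoc])]
      exact R.mul_mem (neg_one_mem W hs) hb2
  let φ : R → R := fun r => ⟨g * r * g⁻¹, hall r r.2⟩
  have hsur : Function.Surjective φ :=
    Finite.surjective_of_injective fun a b e => Subtype.ext (by
      simpa [φ] using congrArg Subtype.val e)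
  refine Subgroup.mem_set_normalizer_iff.2 fun x => ⟨hall x, fun hx => ?_⟩
  obtain ⟨r, hr⟩ := hsur ⟨_, hx⟩
  have : g * (r : GL I4 F) * g⁻¹ = g * x * g⁻¹ := congrArg Subtype.val hr
  rw [← mul_left_cancel (mul_right_cancel this)]
  exact r.2

/-- The induced group on five-space. -/
def M5 (M : Subgroup (GL I4 F)) : Subgroup (GL (Fin 5) F) where
  carrier := {h | ∃ g ∈ M, ∀ u, cj g (xs (SS s) u) = xs (SS s) (FiveSpace.ac h u)}
  one_mem' := ⟨1, M.one_mem, fun u => by simp [cj, FiveSpace.ac]⟩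
  mul_mem' := by
    rintro a b ⟨g, hg, hga⟩ ⟨k, hk, hkb⟩
    exact ⟨g * k, M.mul_mem hg hk, fun u => by rw [cj_cj, hkb, hga, FiveSpace.ac_mul]⟩
  inv_mem' := by
    rintro a ⟨g, hg, hga⟩
    refine ⟨g⁻¹, M.inv_mem hg, fun u => cj_inj g ?_⟩
    rw [← cj_cj, mul_inv_cancel, hga, FiveSpace.ac, FiveSpace.ac, gl_mulVec_inv_mulVec]
    simp [cj]

lemma rf_of_mem {M : Subgroup (GL I4 F)} {b : Fin 5 → F} (hb : b ⬝ᵥ b = 1) (h : xU W b hb ∈ M) :
    FiveSpace.Rf (M5 (s := s) M) b := by
  obtain ⟨k, hk⟩ := exists_act W (xU_mem_sp W b hb)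
  exact ⟨hb, k, ⟨_, h, hk⟩, fun u => xs_inj W (by rw [← hk, cj_xU])⟩

lemma xU_perm (b : Fin 5 → F) (hb : b ⬝ᵥ b = 1)
    (h : ∀ i, ∃ j, (2 * b i) • b - Pi.single i 1 = Pi.single j 1 ∨
      (2 * b i) • b - Pi.single i 1 = -Pi.single j 1) : PermS s (xU W b hb) := by
  intro i
  obtain ⟨j, hj⟩ := h i
  refine ⟨j, ?_⟩
  have e : cj (xU W b hb) (s i : M4) = xs (SS s) ((2 * b i) • b - Pi.single i 1) := by
    rw [show (s i : M4) = xs (SS s) (Pi.single i 1) from (xs_single (S := SS s) i).symm, cj_xU, single_dotProduct,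
      one_mul]
  rcases hj with hj | hj
  · left; rw [e, hj]; exact xs_single (S := SS s) j
  · right
    rw [e, hj, ← neg_one_smul F (Pi.single j 1 : Fin 5 → F), xs_smul, xs_single, neg_one_smul]

variable [Fintype F]

lemma five (hprime : ∀ a : F, ∃ n : ℕ, a = n) {M : Subgroup (GL I4 F)}
    (hM : ∀ g, g ∈ Cfsg.spGL 2 F → PermS s g → g ∈ M) :
    FiveSpace.Five (M5 (s := s) M) := by
  classical
  have h2 := W.two
  refine ⟨?_, hprime, h2, fun a => ?_, fun a b t hab ht => ?_, fun a b c d hab hcd hac had hbc hbd => ?_⟩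
  · rintro h ⟨g, -, hg⟩ x y
    have e := congrArg (cj g) (xs_polar W x y)
    rw [cj_add, cj_mul, cj_mul, cj_smul, cj_one, hg, hg, xs_polar W] at e
    have e' := congrFun (congrFun e (Sum.inl 0)) (Sum.inl 0)
    simp at e'
    exact e'.resolve_right h2
  · have hb : (Pi.single a 1 : Fin 5 → F) ⬝ᵥ Pi.single a 1 = 1 := by simp
    refine rf_of_mem W hb (hM _ (xU_mem_sp W _ hb) (xU_perm W _ hb fun i => ?_))
    refine ⟨i, ?_⟩
    by_cases h : i = a
    · subst h; left; rw [Pi.single_eq_same, mul_one, two_smul, add_sub_cancel_right]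
    · right; rw [Pi.single_eq_of_ne h, mul_zero, zero_smul, zero_sub]
  · have hb : (t • (FiveSpace.E a + FiveSpace.E b) : Fin 5 → F) ⬝ᵥ
        (t • (FiveSpace.E a + FiveSpace.E b)) = 1 := by
      simp [FiveSpace.E, hab, hab.symm]
      linear_combination ht
    refine rf_of_mem W hb (hM _ (xU_mem_sp W _ hb) (xU_perm W _ hb fun i => ?_))
    by_cases hia : i = a
    · subst hia
      refine ⟨b, Or.inl ?_⟩
      funext l
      by_cases h1 : l = i
      · subst h1; simp [FiveSpace.E, hab]; linear_combination ht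
      · by_cases h3 : l = b
        · subst h3; simp [FiveSpace.E, hab, hab.symm]; linear_combination ht
        · simp [FiveSpace.E, hab, h1, h3]
    by_cases hib : i = b
    · subst hib
      refine ⟨a, Or.inl ?_⟩
      funext l
      by_cases h1 : l = i
      · subst h1; simp [FiveSpace.E, hab.symm]; linear_combination ht
      · by_cases h3 : l = a
        · subst h3; simp [FiveSpace.E, hab, hab.symm]; linear_combination ht
        · simp [FiveSpace.E, hab.symm, h1, h3]
    · exact ⟨i, Or.inr (by simp [FiveSpace.E, hia, hib])⟩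
  · -- the double transposition
    set p : Fin 5 → F := Pi.single a 1 - Pi.single b 1 with hp
    set q : Fin 5 → F := Pi.single c 1 - Pi.single d 1 with hq
    have hpp : p ⬝ᵥ p = 2 := by simp [hp, hab, hab.symm]; norm_num
    have hqq : q ⬝ᵥ q = 2 := by simp [hq, hcd, hcd.symm]; norm_num
    have hqp : q ⬝ᵥ p = 0 := by simp [hp, hq, hac.symm, had.symm, hbc.symm, hbd.symm]
    set X := xs (SS s) p with hX
    set Y := xs (SS s) q with hY
    have XX : X * X = (2 : F) • (1 : M4) := by rw [hX, xs_sq W, hpp]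
    have YY : Y * Y = (2 : F) • (1 : M4) := by rw [hY, xs_sq W, hqq]
    let w : GL I4 F :=
      { val := (2⁻¹ : F) • (X * Y)
        inv := (2⁻¹ : F) • (Y * X)
        val_inv := by
          rw [smul_mul_smul_comm, show X * Y * (Y * X) = X * (Y * Y) * X by simp only [mul_assoc], YY,
            mul_smul_comm, mul_one, smul_mul_assoc, XX, smul_smul, smul_smul]
          exact (congrArg (· • (1 : M4)) (show (2⁻¹ * 2⁻¹ * 2 * 2 : F) = 1 by field_simp)).trans
            (one_smul _ _)
        inv_val := by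
          rw [smul_mul_smul_comm, show Y * X * (X * Y) = Y * (X * X) * Y by simp only [mul_assoc], XX,
            mul_smul_comm, mul_one, smul_mul_assoc, YY, smul_smul, smul_smul]
          exact (congrArg (· • (1 : M4)) (show (2⁻¹ * 2⁻¹ * 2 * 2 : F) = 1 by field_simp)).trans
            (one_smul _ _) }
    have hwsp : w ∈ Cfsg.spGL 2 F := by
      intro x y
      change ff (((2⁻¹ : F) • (X * Y)) *ᵥ x) (((2⁻¹ : F) • (X * Y)) *ᵥ y) = ff x y
      have hb := (isSymplecticForm_sympForm 2 F).bilinear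
      rw [smul_mulVec, smul_mulVec, hb.smul_left, hb.smul_right, ← mulVec_mulVec, ← mulVec_mulVec,
        hX, xs_adj W, mulVec_mulVec, ← hX, XX, smul_mulVec, one_mulVec, hb.smul_right, hY, xs_adj W,
        mulVec_mulVec, ← hY, YY, smul_mulVec, one_mulVec, hb.smul_right]
      field_simp
    set π : Equiv.Perm (Fin 5) := Equiv.swap a b * Equiv.swap c d with hπ
    have hw : ∀ u : Fin 5 → F, cj w (xs (SS s) u) = xs (SS s) (fun l => u (π l)) := by
      intro u
      change ((2⁻¹ : F) • (X * Y)) * xs (SS s) u * ((2⁻¹ : F) • (Y * X)) = _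
      rw [smul_mul_assoc, smul_mul_smul_comm,
        show X * Y * xs (SS s) u * (Y * X) = X * (Y * xs (SS s) u * Y) * X by simp only [mul_assoc],
        hX, hY, sandwich W, sandwich W, ← xs_smul, hpp, hqq]
      congr 1
      have hup : ((2 * (u ⬝ᵥ q)) • q - (2 : F) • u) ⬝ᵥ p = -(2 * (u ⬝ᵥ p)) := by
        rw [sub_dotProduct, smul_dotProduct, smul_dotProduct, hqp, smul_eq_mul, smul_eq_mul, mul_zero,
          zero_sub]
      rw [hup]
      have hp' : u ⬝ᵥ p = u a - u b := by simp [hp]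
      have hq' : u ⬝ᵥ q = u c - u d := by simp [hq]
      funext l
      simp only [Pi.smul_apply, Pi.sub_apply, smul_eq_mul, hp', hq']
      by_cases la : l = a
      · subst la
        simp [hp, hq, hπ, hab, hac, had, Equiv.swap_apply_of_ne_of_ne hac had]
        field_simp
        ring
      by_cases lb : l = b
      · subst lb
        simp [hp, hq, hπ, hab.symm, hbc, hbd, Equiv.swap_apply_of_ne_of_ne hbc hbd]
        field_simp
        ring
      by_cases lc : l = c
      · subst lc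
        simp [hp, hq, hπ, hac.symm, hbc.symm, hcd, Equiv.swap_apply_of_ne_of_ne had.symm hbd.symm]
        field_simp
        ring
      by_cases ld : l = d
      · subst ld
        simp [hp, hq, hπ, had.symm, hbd.symm, hcd.symm, Equiv.swap_apply_of_ne_of_ne hac.symm hbc.symm]
        field_simp
        ring
      simp [hp, hq, hπ, la, lb, lc, ld, Equiv.swap_apply_of_ne_of_ne]
      field_simp
    obtain ⟨k, hk⟩ := exists_act W hwsp
    have hwN : PermS s w := fun i => ⟨π.symm i, Or.inl (by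
      rw [show (s i : M4) = xs (SS s) (Pi.single i 1) from (xs_single (S := SS s) i).symm, hw,
        show (fun l => (Pi.single i 1 : Fin 5 → F) (π l)) = Pi.single (π.symm i) 1 from funext fun l => by
          simp [Pi.single_apply, Equiv.eq_symm_apply]]
      exact xs_single (S := SS s) _)⟩
    exact ⟨k, ⟨w, hM w hwsp hwN, hk⟩, fun x l => by
      rw [xs_inj W ((hk x).symm.trans (hw x))]⟩

lemma xU_mem_of_rf {M : Subgroup (GL I4 F)}
    (hM : ∀ g, g ∈ Cfsg.spGL 2 F → PermS s g → g ∈ M) (hMs : M ≤ Cfsg.spGL 2 F) {b : Fin 5 → F}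
    (hb : b ⬝ᵥ b = 1) (h : FiveSpace.Rf (M5 (s := s) M) b) : xU W b hb ∈ M := by
  obtain ⟨-, k, ⟨g, hg, hgk⟩, hk⟩ := h
  set c := g⁻¹ * xU W b hb with hc
  have hcomm : ∀ i, (c : M4) * (s i : M4) = (s i : M4) * (c : M4) := by
    intro i
    have e : cj c (s i : M4) = (s i : M4) := by
      refine cj_inj g ?_
      rw [hc, ← cj_cj, mul_inv_cancel_left, show (s i : M4) = xs (SS s) (Pi.single i 1) from
        (xs_single (S := SS s) i).symm, cj_xU, hgk, hk]
    have h' := congrArg (· * (c : M4)) e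
    simp only [cj, mul_assoc, Units.inv_mul, mul_one] at h'
    exact h'
  obtain ⟨t, ht⟩ := scalar_of_commute W (A := (c : M4)) hcomm
  have hcs : c ∈ Cfsg.spGL 2 F :=
    (Cfsg.spGL 2 F).mul_mem ((Cfsg.spGL 2 F).inv_mem (hMs hg)) (xU_mem_sp W b hb)
  have hsq := CfsgLib.MinusSymp.scalar_sq hcs ht
  have hcM : c ∈ M := hM c hcs fun i => ⟨i, Or.inl (by
    simp only [cj]
    rw [hcomm, mul_assoc, Units.mul_inv, mul_one])⟩
  have := M.mul_mem hg hcM
  rwa [hc, mul_inv_cancel_left] at this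

/-- All unit elements generate. -/
lemma le_of_all_units (hprime : ∀ a : F, ∃ n : ℕ, a = n) {M : Subgroup (GL I4 F)}
    (hall : ∀ b hb, xU W b hb ∈ M) : Cfsg.spGL 2 F ≤ M := by
  classical
  have h2 := W.two
  have hf := isSymplecticForm_sympForm 2 F
  set M0 := Subgroup.closure {g : GL I4 F | ∃ b hb, g = xU W b hb} with hM0
  have hle : M0 ≤ M := (Subgroup.closure_le _).2 (by rintro _ ⟨b, hb, rfl⟩; exact hall b hb)
  have hM0s : M0 ≤ Cfsg.spGL 2 F :=
    (Subgroup.closure_le _).2 (by rintro _ ⟨b, hb, rfl⟩; exact xU_mem_sp W b hb)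
  have hconj : ∀ g ∈ Cfsg.spGL 2 F, ∀ m ∈ M0, g * m * g⁻¹ ∈ M0 := by
    intro g hg m hm
    induction hm using Subgroup.closure_induction with
    | mem x hx =>
      obtain ⟨b, hb, rfl⟩ := hx
      obtain ⟨k, hk⟩ := exists_act W hg
      have hb' : FiveSpace.ac k b ⬝ᵥ FiveSpace.ac k b = 1 := by
        have e := congrArg (cj g) (xs_sq W b)
        rw [cj_mul, cj_smul, cj_one, hk, hb, xs_sq W] at e
        have e' := congrFun (congrFun e (Sum.inl 0)) (Sum.inl 0)
        simpa using e'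
      refine Subgroup.subset_closure ⟨_, hb', Units.ext ?_⟩
      rw [Units.val_mul, Units.val_mul]
      exact hk b
    | one => simp
    | mul x y _ _ ihx ihy =>
      rw [show g * (x * y) * g⁻¹ = g * x * g⁻¹ * (g * y * g⁻¹) by group]
      exact M0.mul_mem ihx ihy
    | inv x _ ih =>
      rw [show g * x⁻¹ * g⁻¹ = (g * x * g⁻¹)⁻¹ by group]
      exact M0.inv_mem ih
  -- a transvection
  obtain ⟨a, b, hab⟩ : ∃ a b : F, a * a + b * b = -1 := by
    have h2' : ringChar F ≠ 2 := fun e => h2 (by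
      haveI := ringChar.of_eq e
      exact CharTwo.two_eq_zero)
    obtain ⟨r1, r2, hr⟩ := FiniteField.exists_root_sum_quadratic (f := (Polynomial.X ^ 2 : Polynomial F))
      (g := Polynomial.C (1 : F) * Polynomial.X ^ 2 - Polynomial.C (-1)) (Polynomial.degree_X_pow 2)
      (by rw [Polynomial.degree_sub_C (by rw [Polynomial.degree_C_mul_X_pow 2 one_ne_zero]; norm_num),
        Polynomial.degree_C_mul_X_pow 2 one_ne_zero]; rfl)
      (FiniteField.odd_card_of_char_ne_two h2')
    simp at hr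
    exact ⟨r1, r2, by linear_combination hr⟩
  set n : Fin 5 → F := ![a, b, 1, 0, 0] with hn
  set m : Fin 5 → F := ![-b, a, 0, 1, 0] with hm
  set u : Fin 5 → F := ![0, 0, 0, 0, 1] with hu
  have hnn : n ⬝ᵥ n = 0 := by simp [hn, dotProduct, Fin.sum_univ_five]; linear_combination hab
  have hmm : m ⬝ᵥ m = 0 := by simp [hm, dotProduct, Fin.sum_univ_five]; linear_combination hab
  have hnm : n ⬝ᵥ m = 0 := by simp [hn, hm, dotProduct, Fin.sum_univ_five]; ring
  have huu : u ⬝ᵥ u = 1 := by simp [hu, dotProduct, Fin.sum_univ_five]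
  have hun : u ⬝ᵥ n = 0 := by simp [hu, hn, dotProduct, Fin.sum_univ_five]
  have hum : u ⬝ᵥ m = 0 := by simp [hu, hm, dotProduct, Fin.sum_univ_five]
  have P : ∀ k : Fin 5 → F, k ⬝ᵥ k = 0 → u ⬝ᵥ k = 0 →
      ∃ g ∈ M0, (g : M4) = 1 + xs (SS s) u * xs (SS s) k := by
    intro k hk huk
    have hv : (u + k) ⬝ᵥ (u + k) = 1 := by
      rw [add_dotProduct, dotProduct_add, dotProduct_add, huu, huk, dotProduct_comm k u, huk, hk]
      ring
    refine ⟨xU W u huu * xU W (u + k) hv, M0.mul_mem (Subgroup.subset_closure ⟨_, _, rfl⟩)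
      (Subgroup.subset_closure ⟨_, _, rfl⟩), ?_⟩
    change xs (SS s) u * xs (SS s) (u + k) = _
    rw [xs_add, mul_add, xs_sq W, huu, one_smul]
  obtain ⟨g1, hg1, e1⟩ := P n hnn hun
  obtain ⟨g2, hg2, e2⟩ := P m hmm hum
  obtain ⟨g3, hg3, e3⟩ := P (-(n + m)) (by
    simp [add_dotProduct, dotProduct_add, hnn, hmm, hnm, dotProduct_comm m n])
    (by simp [dotProduct_add, hun, hum])
  set Xu := xs (SS s) u with hXu
  set Xn := xs (SS s) n with hXn
  set Xm := xs (SS s) m with hXm
  set B := Xn * Xm with hB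
  have uu : Xu * Xu = 1 := by rw [hXu, xs_sq W, huu, one_smul]
  have nn : Xn * Xn = 0 := by rw [hXn, xs_sq W, hnn, zero_smul]
  have mm : Xm * Xm = 0 := by rw [hXm, xs_sq W, hmm, zero_smul]
  have nu : Xn * Xu = -(Xu * Xn) := by
    rw [hXn, hXu, xs_swap W, hun, mul_zero, zero_smul, zero_sub]
  have mu : Xm * Xu = -(Xu * Xm) := by
    rw [hXm, hXu, xs_swap W, hum, mul_zero, zero_smul, zero_sub]
  have mn : Xm * Xn = -(Xn * Xm) := by
    rw [hXm, hXn, xs_swap W, hnm, mul_zero, zero_smul, zero_sub]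
  have hT : ((g1 * g2 * g3 : GL I4 F) : M4) = 1 - B := by
    rw [Units.val_mul, Units.val_mul, e1, e2, e3, ← neg_one_smul F (n + m), xs_smul, xs_add, ← hXn, ← hXm]
    have r1 : ∀ Z, Xn * (Xu * Z) = -(Xu * (Xn * Z)) := fun Z => by
      rw [← mul_assoc, nu, neg_mul, mul_assoc]
    have r2 : ∀ Z, Xm * (Xu * Z) = -(Xu * (Xm * Z)) := fun Z => by
      rw [← mul_assoc, mu, neg_mul, mul_assoc]
    have r3 : ∀ Z, Xm * (Xn * Z) = -(Xn * (Xm * Z)) := fun Z => by
      rw [← mul_assoc, mn, neg_mul, mul_assoc]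
    have r4 : ∀ Z, Xu * (Xu * Z) = Z := fun Z => by rw [← mul_assoc, uu, one_mul]
    have r5 : ∀ Z, Xn * (Xn * Z) = 0 := fun Z => by rw [← mul_assoc, nn, zero_mul]
    simp only [mul_add, add_mul, mul_neg, neg_mul, one_mul, mul_one, mul_assoc, neg_one_smul, neg_add_rev,
      r1, r2, r3, r4, r5, nu, mu, mn, nn, mm, uu, neg_neg, mul_zero, neg_zero, hB]
    abel
  have hB0 : B ≠ 0 := by
    intro h0
    set z : Fin 5 → F := Pi.single 2 1 with hz
    have zn : z ⬝ᵥ n = 1 := by simp [hz, hn]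
    have zm : z ⬝ᵥ m = 0 := by simp [hz, hm]
    have h' : xs (SS s) z * B + Xn * (xs (SS s) z * Xm) = (2 : F) • Xm := by
      rw [hB, ← mul_assoc, ← mul_assoc, ← add_mul, hXn, xs_polar W, zn, mul_one, smul_mul_assoc, one_mul]
    have hz' : Xn * (xs (SS s) z * Xm) = 0 := by
      have : xs (SS s) z * Xm = -(Xm * xs (SS s) z) := by
        rw [hXm, xs_swap W, dotProduct_comm, zm, mul_zero, zero_smul, zero_sub]
      rw [this, mul_neg, ← mul_assoc, ← hB, h0, zero_mul, neg_zero]
    rw [h0, mul_zero, hz', add_zero] at h'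
    have hm0 : m = 0 := xs_inj W (by
      rw [← hXm, show xs (SS s) (0 : Fin 5 → F) = 0 by simp [xs]]
      exact (smul_eq_zero.1 h'.symm).resolve_left h2)
    simpa [hm] using congrFun hm0 3
  have hsk : SK B := fun x y => by
    rw [hB, ← mulVec_mulVec, hXn, xs_adj W, ← hXn, hXm, xs_adj W, ← hXm, mulVec_mulVec, mn, neg_mulVec,
      form_neg_right hf.bilinear]
  obtain ⟨v, c, hv, hc, hBy⟩ := rank_one_skew hB0 hsk fun X => sandwich_null W hnn hmm hnm X
  have htv : g1 * g2 * g3 = sTv ff v (-c) := by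
    refine gl_ext_mulVec fun x => ?_
    rw [hT, sub_mulVec, one_mulVec, hBy, sTv_mulVec hf]
    module
  have hg0 : sTv ff v (-c) ∈ M0 := htv ▸ M0.mul_mem (M0.mul_mem hg1 hg2) hg3
  have hvall : ∀ t, sTv ff v t ∈ M0 := by
    intro t
    obtain ⟨k, hk⟩ := hprime (t / -c)
    have hpow : ∀ k : ℕ, sTv ff v ((k : F) * -c) ∈ M0 := fun k => by
      induction k with
      | zero => simp [sTv_zero]
      | succ k ih => rw [Nat.cast_succ, add_mul, one_mul, ← sTv_add hf]; exact M0.mul_mem ih hg0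
    have := hpow k
    rwa [← hk, div_mul_cancel₀ _ (neg_ne_zero.2 hc)] at this
  rw [spGL_eq_isoOf]
  refine isoOf_le_of_tvSet hf fun y t => hle ?_
  by_cases hy : y = 0
  · rw [hy, sTv, tvGL_zero_left]; exact M0.one_mem
  obtain ⟨g, hg, hgv⟩ := exists_iso_mulVec hf hv hy
  have hg' : g ∈ isoOf ff :=
    (Subgroup.closure_le _).2 (by rintro _ ⟨w, e, rfl⟩; exact sTv_mem_isoOf hf w e) hg
  rw [← hgv, ← sTv_conj hf hg']
  exact hconj g hg' _ (hvall t)

/-- One element moving the five axes generates the whole group together with their stabiliser. -/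
lemma le_of_escape [Finite F] (hprime : ∀ a : F, ∃ n : ℕ, a = n) {M : Subgroup (GL I4 F)}
    (hM : ∀ g, g ∈ Cfsg.spGL 2 F → PermS s g → g ∈ M) (hMs : M ≤ Cfsg.spGL 2 F) {g : GL I4 F}
    (hg : g ∈ M) (hperm : ¬ PermS s g) : Cfsg.spGL 2 F ≤ M := by
  classical
  simp only [PermS, not_forall, not_exists, not_or] at hperm
  obtain ⟨i, hi⟩ := hperm
  obtain ⟨k, hk⟩ := exists_act W (hMs hg)
  have hS := five W hprime hM
  have hkM : k ∈ M5 (s := s) M := ⟨g, hg, hk⟩
  have hi1 : (FiveSpace.sup (FiveSpace.ac k (FiveSpace.E i))).card ≠ 1 := by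
    intro h1
    obtain ⟨r, hr⟩ := Finset.card_eq_one.1 h1
    set t := FiveSpace.ac k (FiveSpace.E i) r
    have hcol : FiveSpace.ac k (FiveSpace.E i) = t • (Pi.single r 1 : Fin 5 → F) := by
      funext l
      by_cases hl : l = r
      · subst hl; simp [t]
      · simp [hl, FiveSpace.eq_zero_of_notMem (v := FiveSpace.ac k (FiveSpace.E i)) (l := l)
          (by rw [hr]; simpa using hl)]
    have hn := hS.iso k hkM (FiveSpace.E i) (FiveSpace.E i)
    rw [hcol] at hn
    simp [FiveSpace.E] at hn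
    have e : cj g (s i : M4) = t • (s r : M4) := by
      have h' := hk (Pi.single i 1)
      rw [xs_single] at h'
      change cj g (s i : M4) = xs (SS s) (FiveSpace.ac k (FiveSpace.E i)) at h'
      rw [h', hcol, xs_smul, xs_single]
    rcases mul_self_eq_one_iff.1 hn with ht | ht <;> rw [ht] at e
    · exact (hi r).1 (by rw [e, one_smul])
    · exact (hi r).2 (by rw [e, neg_one_smul])
  have hall := FiveSpace.all_units_of_nonmonomial hS hkM hi1
  exact le_of_all_units W hprime fun b hb => xU_mem_of_rf W hM hMs hb (hall b hb)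

omit W

lemma anti_five {A : Type*} [Ring A] {a b c d g : A} (ab : a * b = -(b * a)) (ac : a * c = -(c * a))
    (ad : a * d = -(d * a)) (bc : b * c = -(c * b)) (bd : b * d = -(d * b)) (cd : c * d = -(d * c))
    (ga : g * a = -(a * g)) (gb : g * b = -(b * g)) (gc : g * c = -(c * g)) (gd : g * d = -(d * g)) :
    ∀ i j : Fin 5, i ≠ j → ![a, b, c, d, g] i * ![a, b, c, d, g] j =
      -(![a, b, c, d, g] j * ![a, b, c, d, g] i) := by
  intro i j hij
  fin_cases i <;> fin_cases j <;> simp at hij <;>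
    simp [ab, ac, ad, bc, bd, cd, ga, gb, gc, gd]

/-- The normaliser is maximal. -/
theorem symp_C6_maximal [Finite F] {p : ℕ} (hp : p.Prime) (hF : Fintype.card F = p)
    (h2 : (2 : F) ≠ 0) {R : Subgroup (GL I4 F)} (hR : IsSymplecticTypeGroup 2 R)
    (hirr : ActsAbsolutelyIrreducibly (matrixSet R)) (hRD : R ≤ Cfsg.spGL 2 F)
    (hcard : Nat.card R = 32) (hZ : Nat.card (Subgroup.center R) = 2) (hminus : IsOfMinusType 2 R) :
    IsMaximalIn (Cfsg.spGL 2 F) (subgroupNormalizer R ⊓ Cfsg.spGL 2 F) := by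
  classical
  have hgood := CfsgLib.TwoSymp.good_of_sympType hR hirr h2
  obtain ⟨e, he, hanti⟩ :=
    CfsgLib.MinusSymp.exists_anticommuting hgood hRD (by rw [hcard]; rfl) hZ hminus
  obtain ⟨p1, p2, p3, p4, p5⟩ := CfsgLib.MinusSymp.product_facts (he 0).2 (he 1).2 (he 2).2 (he 3).2
    (hanti 1 0 (by decide)) (hanti 2 0 (by decide)) (hanti 3 0 (by decide)) (hanti 2 1 (by decide))
    (hanti 3 1 (by decide)) (hanti 3 2 (by decide))
  let s : Fin 5 → GL I4 F := ![e 0, e 1, e 2, e 3, e 0 * e 1 * e 2 * e 3]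
  have hs : ∀ i, s i ∈ R := by
    intro i
    fin_cases i
    exacts [(he 0).1, (he 1).1, (he 2).1, (he 3).1,
      R.mul_mem (R.mul_mem (R.mul_mem (he 0).1 (he 1).1) (he 2).1) (he 3).1]
  have hsq : ∀ i, (s i : M4) * (s i : M4) = 1 := by
    intro i
    fin_cases i
    exacts [(he 0).2, (he 1).2, (he 2).2, (he 3).2, p1]
  have hv : ∀ i, (s i : M4) =
      ![(e 0 : M4), (e 1 : M4), (e 2 : M4), (e 3 : M4), (e 0 : M4) * e 1 * e 2 * e 3] i := by
    intro i
    fin_cases i
    all_goals rfl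
  have han : ∀ i j, i ≠ j → (s i : M4) * (s j : M4) = -((s j : M4) * (s i : M4)) := fun i j hij => by
    rw [hv, hv]
    exact anti_five (hanti 0 1 (by decide)) (hanti 0 2 (by decide)) (hanti 0 3 (by decide))
      (hanti 1 2 (by decide)) (hanti 1 3 (by decide)) (hanti 2 3 (by decide)) p2 p3 p4 p5 i j hij
  have W : Frame (SS s) := ⟨h2, hsq, han, fun i x y => by
    have h := hRD (hs i) x ((s i : M4) *ᵥ y)
    change ff ((s i : M4) *ᵥ x) ((s i : M4) *ᵥ ((s i : M4) *ᵥ y)) = ff x ((s i : M4) *ᵥ y) at h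
    rwa [mulVec_mulVec, hsq, one_mulVec] at h⟩
  haveI : Fact p.Prime := ⟨hp⟩
  haveI : CharP F p := charP_of_card_eq_prime hF
  have hprime : ∀ a : F, ∃ n : ℕ, a = n := fun a => by
    have hb : Function.Bijective (ZMod.castHom (dvd_refl p) F) :=
      (Fintype.bijective_iff_injective_and_card _).2
        ⟨(ZMod.castHom (dvd_refl p) F).injective, by rw [hF, ZMod.card]⟩
    obtain ⟨z, hz⟩ := hb.2 a
    exact ⟨z.val, by rw [← hz, ← map_natCast (ZMod.castHom (dvd_refl p) F), ZMod.natCast_zmod_val]⟩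
  refine isMaximalIn_of inf_le_right ?_ fun M hle hMs g hg hgH => ?_
  · -- an element outside
    obtain ⟨a, b, hab⟩ : ∃ a b : F, a * a + b * b = -1 := by
      have h2' : ringChar F ≠ 2 := fun e => h2 (by
        haveI := ringChar.of_eq e
        exact CharTwo.two_eq_zero)
      obtain ⟨r1, r2, hr⟩ := FiniteField.exists_root_sum_quadratic (f := (Polynomial.X ^ 2 : Polynomial F))
        (g := Polynomial.C (1 : F) * Polynomial.X ^ 2 - Polynomial.C (-1)) (Polynomial.degree_X_pow 2)
        (by rw [Polynomial.degree_sub_C (by rw [Polynomial.degree_C_mul_X_pow 2 one_ne_zero]; norm_num),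
          Polynomial.degree_C_mul_X_pow 2 one_ne_zero]; rfl)
        (FiniteField.odd_card_of_char_ne_two h2')
      simp at hr
      exact ⟨r1, r2, by linear_combination hr⟩
    set v : Fin 5 → F := ![a, b, 1, 0, 1] with hv
    have hvv : v ⬝ᵥ v = 1 := by simp [hv, dotProduct, Fin.sum_univ_five]; linear_combination hab
    refine ⟨xU W v hvv, xU_mem_sp W v hvv, fun h => ?_⟩
    obtain ⟨j, hj⟩ := perm_of_normalizer W hs hcard h.1 h.2 4
    have e : cj (xU W v hvv) (s 4 : M4) = xs (SS s) ((2 * v 4) • v - Pi.single 4 1) := by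
      rw [show (s 4 : M4) = xs (SS s) (Pi.single 4 1) from (xs_single (S := SS s) 4).symm, cj_xU, single_dotProduct,
        one_mul]
    rw [e, show (s j : M4) = xs (SS s) (Pi.single j 1) from (xs_single (S := SS s) j).symm,
      ← neg_one_smul F (xs (SS s) (Pi.single j 1)), ← xs_smul] at hj
    rcases hj with hj | hj <;>
    · have h' := xs_inj W hj
      have c2 := congrFun h' 2
      have c4 := congrFun h' 4
      simp [hv, Pi.single_apply] at c2 c4
      by_cases hj2 : (2 : Fin 5) = j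
      · subst hj2
        simp at c4
        exact one_ne_zero (α := F) (by linear_combination c4)
      · simp [hj2, h2] at c2
  · -- every larger group
    have hgs := hMs hg
    have hperm : ¬ PermS s g := fun h => hgH ⟨normalizer_of_perm W hs hcard h, hgs⟩
    have hM' : ∀ g, g ∈ Cfsg.spGL 2 F → PermS s g → g ∈ M := fun g h1 h2 =>
      hle ⟨normalizer_of_perm W hs hcard h2, h1⟩
    exact le_of_escape W hprime hM' hMs hg hperm

end CfsgLib.ClassicalMax.SympFourC6
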