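/-
Four coordinates: an element outside the monomial group of five standard anticommuting involutions
generates the symplectic group together with that group.
-/
import Cfsg.Agent.Lib.ClassicalMax.SympFourC6
set_option autoImplicit false
set_option linter.unusedSectionVars false

namespace CfsgLib.ClassicalMax.SympFourFrameStd

open Matrix Cfsg.Geo SympFrame

variable {F : Type*} [Field F]

local notation "M4" => Matrix (Fin 4) (Fin 4) F
local notation "I4" => (Fin 2 ⊕ Fin 2)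
local notation "N4" => Matrix (Fin 2 ⊕ Fin 2) (Fin 2 ⊕ Fin 2) F

/-- The matrix of the form. -/
def Jm (F : Type*) [Field F] : Matrix (Fin 4) (Fin 4) F :=
  !![0, 1, 0, 0; -1, 0, 0, 0; 0, 0, 0, 1; 0, 0, -1, 0]

/-- The form. -/
def fm (F : Type*) [Field F] (x y : Fin 4 → F) : F := x ⬝ᵥ (Jm F *ᵥ y)

/-- The five matrices. -/
def Sm (im : F) : Fin 5 → Matrix (Fin 4) (Fin 4) F :=
  ![!![0, 0, 1, 0; 0, 0, 0, 1; 1, 0, 0, 0; 0, 1, 0, 0],
    !![1, 0, 0, 0; 0, 1, 0, 0; 0, 0, -1, 0; 0, 0, 0, -1],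
    im • !![0, 0, 0, 1; 0, 0, 1, 0; 0, -1, 0, 0; -1, 0, 0, 0],
    im • !![0, 0, 1, 0; 0, 0, 0, -1; -1, 0, 0, 0; 0, 1, 0, 0],
    !![0, 0, 0, 1; 0, 0, -1, 0; 0, -1, 0, 0; 1, 0, 0, 0]]

/-- The relabelling of coordinates. -/
def eI : Fin 4 ≃ Fin 2 ⊕ Fin 2 where
  toFun := ![Sum.inr 0, Sum.inl 0, Sum.inr 1, Sum.inl 1]
  invFun := Sum.elim ![1, 3] ![0, 2]
  left_inv := by decide
  right_inv := by decide

/-- The relabelling of matrices. -/
noncomputable def Φ : GL (Fin 4) F ≃* GL (Fin 2 ⊕ Fin 2) F :=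
  Units.mapEquiv (Matrix.reindexAlgEquiv F F eI).toMulEquiv

lemma coe_Φ (g : GL (Fin 4) F) : ((Φ g : GL I4 F) : N4) = reindex eI eI (g : M4) := rfl

lemma form_eI (x y : Fin 4 → F) :
    Cfsg.sympForm 2 F (x ∘ eI.symm) (y ∘ eI.symm) = fm F x y := by
  simp [Cfsg.sympForm, fm, Jm, Matrix.J, dotProduct, mulVec, Fintype.sum_sum_type, Fin.sum_univ_two,
    Fin.sum_univ_four, eI]
  ring

lemma Φ_mulVec (g : GL (Fin 4) F) (x : Fin 4 → F) :
    ((Φ g : GL I4 F) : N4) *ᵥ (x ∘ eI.symm) = ((g : M4) *ᵥ x) ∘ eI.symm := by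
  rw [coe_Φ, reindex_apply, submatrix_mulVec_equiv]
  congr 2
  funext i
  simp

lemma mem_iff (g : GL (Fin 4) F) : Φ g ∈ Cfsg.spGL 2 F ↔ g ∈ isoOf (fm F) := by
  rw [spGL_eq_isoOf, mem_isoOf, mem_isoOf]
  constructor
  · intro h u v
    have := h (u ∘ eI.symm) (v ∘ eI.symm)
    rwa [Φ_mulVec, Φ_mulVec, form_eI, form_eI] at this
  · intro h u v
    obtain ⟨u, rfl⟩ : ∃ u' : Fin 4 → F, u = u' ∘ eI.symm := ⟨u ∘ eI, by funext i; simp⟩
    obtain ⟨v, rfl⟩ : ∃ v' : Fin 4 → F, v = v' ∘ eI.symm := ⟨v ∘ eI, by funext i; simp⟩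
    rw [Φ_mulVec, Φ_mulVec, form_eI, form_eI]
    exact h u v

variable {im : F} (him : im ^ 2 = -1)

include him

lemma Sm_sq (i : Fin 5) : Sm im i * Sm im i = 1 := by
  have h : im * im = -1 := by rw [← pow_two]; exact him
  fin_cases i <;>
    (ext j k; fin_cases j <;> fin_cases k <;>
      simp [Sm, Matrix.mul_apply, Fin.sum_univ_four, h])

set_option maxHeartbeats 2000000 in
-- twenty cases of sixteen entries
lemma Sm_anti (i j : Fin 5) (hij : i ≠ j) : Sm im i * Sm im j = -(Sm im j * Sm im i) := by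
  fin_cases i <;> fin_cases j <;> first
    | exact absurd rfl hij
    | (ext a b; fin_cases a <;> fin_cases b <;>
        simp [Sm, Matrix.mul_apply, Fin.sum_univ_four] <;> ring)

lemma Sm_adj (i : Fin 5) (x y : Fin 4 → F) : fm F (Sm im i *ᵥ x) y = fm F x (Sm im i *ᵥ y) := by
  fin_cases i <;> simp [Sm, fm, Jm, dotProduct, mulVec, Fin.sum_univ_four] <;> ring

/-- A matrix as an element of the general linear group. -/
def SU (i : Fin 5) : GL (Fin 4) F := ⟨Sm im i, Sm im i, Sm_sq him i, Sm_sq him i⟩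

omit him in
/-- Any five anticommuting self-adjoint involutions for the form give a frame. -/
lemma frame_of (h2 : (2 : F) ≠ 0) {u : Fin 5 → GL (Fin 4) F}
    (hsq : ∀ i, (u i : M4) * u i = 1)
    (hanti : ∀ i j, i ≠ j → (u i : M4) * u j = -((u j : M4) * u i))
    (hadj : ∀ i x y, fm F ((u i : M4) *ᵥ x) y = fm F x ((u i : M4) *ᵥ y)) :
    Frame fun i => ((Φ (u i) : GL I4 F) : N4) := by
  refine ⟨h2, fun i => ?_, fun i j hij => ?_, fun i x y => ?_⟩
  · rw [← Units.val_mul, ← map_mul, show u i * u i = 1 from Units.ext (hsq i), map_one, Units.val_one]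
  · rw [← Units.val_mul, ← map_mul, ← Units.val_mul, ← map_mul,
      show u i * u j = -1 * (u j * u i) from Units.ext (by simp [hanti i j hij]), map_mul, Units.val_mul,
      show Φ (-1 : GL (Fin 4) F) = -1 from
        Units.ext (by rw [coe_Φ]; simp [Matrix.submatrix_neg, Matrix.submatrix_one_equiv])]
    simp
  · obtain ⟨x, rfl⟩ : ∃ u : Fin 4 → F, x = u ∘ eI.symm := ⟨x ∘ eI, by funext i; simp⟩
    obtain ⟨y, rfl⟩ : ∃ u : Fin 4 → F, y = u ∘ eI.symm := ⟨y ∘ eI, by funext i; simp⟩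
    rw [Φ_mulVec, Φ_mulVec, form_eI, form_eI]
    exact hadj i x y

omit him in
/-- Conjugation permutes the given matrices up to sign. -/
def PermU (u : Fin 5 → GL (Fin 4) F) (g : GL (Fin 4) F) : Prop :=
  ∀ i, ∃ j, (g : M4) * u i * ((g⁻¹ : GL (Fin 4) F) : M4) = u j ∨
    (g : M4) * u i * ((g⁻¹ : GL (Fin 4) F) : M4) = -(u j : M4)

omit him in
lemma permS_iff_permU (u : Fin 5 → GL (Fin 4) F) (g : GL (Fin 4) F) :
    SympFourC6.PermS (fun i => Φ (u i)) (Φ g) ↔ PermU u g := by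
  have e : ∀ i, SympFourC6.cj (Φ g) ((Φ (u i) : GL I4 F) : N4) =
      ((Φ (g * u i * g⁻¹) : GL I4 F) : N4) := fun i => by
    simp [SympFourC6.cj, map_mul, map_inv]
  have inj : ∀ A B : M4, reindex eI eI A = reindex eI eI B ↔ A = B :=
    fun A B => (reindex eI eI).apply_eq_iff_eq
  refine forall_congr' fun i => exists_congr fun j => ?_
  rw [e, coe_Φ, coe_Φ]
  exact or_congr (inj _ _) (inj _ (-(u j : M4)))

omit him in
/-- An element outside the monomial group of a frame generates the whole isometry group. -/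
theorem generates_of [Fintype F] (h2 : (2 : F) ≠ 0) (hprime : ∀ a : F, ∃ n : ℕ, a = n)
    {u : Fin 5 → GL (Fin 4) F} (hsq : ∀ i, (u i : M4) * u i = 1)
    (hanti : ∀ i j, i ≠ j → (u i : M4) * u j = -((u j : M4) * u i))
    (hadj : ∀ i x y, fm F ((u i : M4) *ᵥ x) y = fm F x ((u i : M4) *ᵥ y))
    {K : Subgroup (GL (Fin 4) F)} (hK : K ≤ isoOf (fm F))
    (hN : ∀ g ∈ isoOf (fm F), PermU u g → g ∈ K)
    {g0 : GL (Fin 4) F} (hg : g0 ∈ K) (hg0 : ¬ PermU u g0) : isoOf (fm F) ≤ K := by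
  classical
  have hmap : ∀ g, Φ g ∈ K.map Φ.toMonoidHom ↔ g ∈ K := fun g =>
    Subgroup.mem_map_iff_mem Φ.injective
  have h := SympFourC6.le_of_escape (s := fun i => Φ (u i)) (frame_of h2 hsq hanti hadj) hprime
    (M := K.map Φ.toMonoidHom) (fun g hgs hgp => by
      obtain ⟨g, rfl⟩ := Φ.surjective g
      exact (hmap g).2 (hN g ((mem_iff g).1 hgs) ((permS_iff_permU u g).1 hgp)))
    (by
      rintro _ ⟨g, hgK, rfl⟩
      exact (mem_iff g).2 (hK hgK))
    ((hmap g0).2 hg) (fun h => hg0 ((permS_iff_permU u g0).1 h))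
  exact fun g hgi => (hmap g).1 (h ((mem_iff g).2 hgi))

/-- Conjugation permutes the five matrices up to sign. -/
def Perm5 (im : F) (g : GL (Fin 4) F) : Prop :=
  ∀ i, ∃ j, (g : M4) * Sm im i * ((g⁻¹ : GL (Fin 4) F) : M4) = Sm im j ∨
    (g : M4) * Sm im i * ((g⁻¹ : GL (Fin 4) F) : M4) = -Sm im j

/-- An element outside the monomial group generates the whole isometry group. -/
theorem frame_generates [Fintype F] (h2 : (2 : F) ≠ 0) (hprime : ∀ a : F, ∃ n : ℕ, a = n)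
    {K : Subgroup (GL (Fin 4) F)} (hK : K ≤ isoOf (fm F))
    (hN : ∀ g ∈ isoOf (fm F), Perm5 im g → g ∈ K)
    {g0 : GL (Fin 4) F} (hg : g0 ∈ K) (hg0 : ¬ Perm5 im g0) : isoOf (fm F) ≤ K :=
  generates_of (u := SU him) h2 hprime (Sm_sq him) (Sm_anti him) (Sm_adj him) hK hN hg hg0

end CfsgLib.ClassicalMax.SympFourFrameStd
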