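/-
The similarities of a symplectic form form a maximal subgroup of the special linear group.
-/
import Cfsg.Agent.Lib.ClassicalMax.SympTools
set_option autoImplicit false

namespace CfsgLib.ClassicalMax

open Matrix Cfsg.Geo

variable {ι : Type} [Fintype ι] [DecidableEq ι] {F : Type*} [Field F]
  {f : (ι → F) → (ι → F) → F}

lemma formDual_vecMul_inv [DecidableEq F] (hf : IsBilinearForm f) {h : GL ι F} (hh : h ∈ isoOf f) (w : ι → F) :
    formDual f w ᵥ* ((h⁻¹ : GL ι F) : Matrix ι ι F) = formDual f ((h : Matrix ι ι F) *ᵥ w) := by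
  refine dotProduct_eq _ _ fun x => ?_
  rw [vecMul_inv_dot, formDual_dot hf, formDual_dot hf, form_mulVec_left ((isoOf f).inv_mem hh),
    inv_inv]

theorem symp_similarity_maximal_sl (hf : IsSymplecticForm f) (hn : 3 ≤ Fintype.card ι) :
    IsMaximalIn (specialLinear ι F) (similarityGroup f ⊓ specialLinear ι F) := by
  classical
  have hb := hf.bilinear
  have hiso : ∀ h ∈ isoOf f, h ∈ similarityGroup f := fun h hh =>
    ⟨1, fun u v => by rw [Units.val_one, one_mul]; exact hh u v⟩
  obtain ⟨i₀⟩ : Nonempty ι := Fintype.card_pos_iff.1 (by omega)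
  refine isMaximalIn_of inf_le_right ?_ ?_
  · set v : ι → F := Pi.single i₀ 1 with hv
    have hv0 : v ≠ 0 := fun e => one_ne_zero (α := F) (by simpa [hv] using congrFun e i₀)
    obtain ⟨w, hw, hw'⟩ : ∃ w ∈ orthSub hb (Submodule.span F {v}), w ∉ Submodule.span F {v} := by
      apply SetLike.not_le_iff_exists.1
      intro hle
      have h1 := LinearMap.finrank_range_add_finrank_ker (bilinOf hb v)
      have h2 : Module.finrank F (LinearMap.range (bilinOf hb v)) ≤ 1 := by
        simpa using Submodule.finrank_le (LinearMap.range (bilinOf hb v))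
      have h3 : LinearMap.ker (bilinOf hb v) ≤ orthSub hb (Submodule.span F {v}) := by
        intro x hx u hu
        obtain ⟨c, rfl⟩ := Submodule.mem_span_singleton.1 hu
        rw [hb.smul_left, show f v x = 0 from hx, mul_zero]
      have h4 := Submodule.finrank_mono (h3.trans hle)
      rw [finrank_span_singleton hv0] at h4
      rw [Module.finrank_fintype_fun_eq_card] at h1
      omega
    have hvw : f v w = 0 := hw v (Submodule.mem_span_singleton_self v)
    have hdot : formDual f w ⬝ᵥ v = 0 := by rw [formDual_dot hb, hvw]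
    refine ⟨tvGL v (formDual f w), tvGL_mem_sl _ _, ?_⟩
    rintro ⟨⟨c, hc⟩, -⟩
    simp only [tvGL_mulVec hdot, formDual_dot hb, hb.add_left, hb.add_right, hb.smul_left,
      hb.smul_right, hf.alternating] at hc
    obtain ⟨y, hy⟩ := (hf.nondegenerate v hv0).2
    have hc1 := hc v y
    simp [hvw, hf.alternating] at hc1
    replace hc1 := (mul_eq_right₀ hy).1 hc1.symm
    obtain ⟨x, hx, hx'⟩ := exists_orth_ne_zero hb hf.nondegenerate hw'
    have h := hc x y
    rw [hc1, one_mul] at h
    have hxv : f x v = 0 := (form_symplectic_eq_zero_comm hf).1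
      (hx v (Submodule.mem_span_singleton_self v))
    have hxw := isoOf_comm_zero hf hx'
    simp [hxv, mul_zero] at h
    rcases h with h | h
    · exact hxw h
    · exact hy h
  intro M hHM hMK g hgM hgH
  have hT : ∀ v c, sTv f v c ∈ M := fun v c =>
    hHM ⟨hiso _ (sTv_mem_isoOf hf v c), sTv_mem_sl v c⟩
  have hgns : g ∉ similarityGroup f := fun h => hgH ⟨h, hMK hgM⟩
  -- the transvections of the transformed form
  have hw : ∀ v, ∃ w, ∀ x, f x w = f ((g : Matrix ι ι F) *ᵥ x) ((g : Matrix ι ι F) *ᵥ v) := fun v =>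
    exists_form_eq hb hf.nondegenerate
      (((bilinOf hb).flip ((g : Matrix ι ι F) *ᵥ v)).comp (Matrix.toLin' (g : Matrix ι ι F)))
  choose w hw using hw
  obtain ⟨v, hv0, hwv⟩ : ∃ v, v ≠ 0 ∧ w v ∉ Submodule.span F {v} := by
    by_contra hcon
    push Not at hcon
    choose! c hc using fun v hv => Submodule.mem_span_singleton.1 (hcon v hv)
    have hfc : ∀ x y, y ≠ 0 → f ((g : Matrix ι ι F) *ᵥ x) ((g : Matrix ι ι F) *ᵥ y) = c y * f x y := by
      intro x y hy
      rw [← hw y x, ← hc y hy, hb.smul_right]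
    have hsym : ∀ x y, x ≠ 0 → y ≠ 0 → f x y ≠ 0 → c x = c y := by
      intro x y hx hy hxy
      have h1 := hfc y x hx
      rw [hf.skew, hfc x y hy, hf.skew y x, mul_neg, neg_inj] at h1

      exact (mul_right_cancel₀ hxy h1).symm
    have hconst : ∀ x y, x ≠ 0 → y ≠ 0 → c x = c y := by
      intro x y hx hy
      obtain ⟨z, -, hz1, hz2⟩ := exists_both_ne_zero (bilinOf hb x) (bilinOf hb y) ⊤
        ⟨_, Submodule.mem_top, (hf.nondegenerate x hx).2.choose_spec⟩
        ⟨_, Submodule.mem_top, (hf.nondegenerate y hy).2.choose_spec⟩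
      have hz : z ≠ 0 := fun e => hz1 (by rw [e, map_zero])
      exact (hsym x z hx hz hz1).trans (hsym y z hy hz hz2).symm
    set v₀ : ι → F := Pi.single i₀ 1
    have hv₀ : v₀ ≠ 0 := fun e => one_ne_zero (α := F) (by simpa [v₀] using congrFun e i₀)
    obtain ⟨x₀, hx₀⟩ := (hf.nondegenerate _ (gl_mulVec_ne_zero g hv₀)).1
    have hc0 : c v₀ ≠ 0 := fun e => hx₀ (by
      rw [← gl_mulVec_inv_mulVec g x₀, hfc _ _ hv₀, e, zero_mul])
    refine hgns ⟨Units.mk0 _ hc0, fun x y => ?_⟩
    by_cases hy : y = 0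
    · simp [hy, form_zero_right hb]
    · rw [hfc x y hy, hconst y v₀ hy hv₀, Units.val_mk0]
  -- the functionals of transvections of `M` with centre `v`
  let Φ : AddSubgroup (ι → F) :=
    { carrier := {u | f v u = 0 ∧ tvGL v (formDual f u) ∈ M}
      add_mem' := fun {a b} ha hb' => ⟨by rw [hb.add_right, ha.1, hb'.1, add_zero], by
        rw [formDual_add hb, tvGL_add_right (by rw [formDual_dot hb, ha.1])
          (by rw [formDual_dot hb, hb'.1])]
        exact M.mul_mem ha.2 hb'.2⟩
      zero_mem' := ⟨form_zero_right hb v, by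
        rw [show formDual f 0 = 0 from funext fun _ => form_zero_right hb _, tvGL_zero_right]
        exact M.one_mem⟩
      neg_mem' := fun {a} ha => ⟨by rw [form_neg_right hb, ha.1, neg_zero], by
        rw [show formDual f (-a) = -formDual f a from funext fun _ => form_neg_right hb _ _,
          tvGL_neg_right (by rw [formDual_dot hb, ha.1])]
        exact M.inv_mem ha.2⟩ }
  have hv_mem : ∀ c : F, c • v ∈ Φ := fun c => ⟨by rw [hb.smul_right, hf.alternating, mul_zero], by
    rw [formDual_smul hb]; exact hT v c⟩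
  have hw_mem : w v ∈ Φ := by
    have hv' : f v (w v) = 0 := by rw [hw, hf.alternating]
    refine ⟨hv', ?_⟩
    have : tvGL v (formDual f (w v)) = g⁻¹ * sTv f ((g : Matrix ι ι F) *ᵥ v) 1 * g := by
      refine gl_ext_mulVec fun x => ?_
      rw [tvGL_mulVec (by rw [formDual_dot hb, hv']), formDual_dot hb, gl_mulVec_mul, gl_mulVec_mul,
        sTv_mulVec hf, one_mul, mulVec_add, mulVec_smul, gl_inv_mulVec_mulVec, gl_inv_mulVec_mulVec,
        hw]
    rw [this]
    exact M.mul_mem (M.mul_mem (M.inv_mem hgM) (hT _ _)) hgM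
  have hmove : ∀ u ∈ Φ, ∀ a, f v a = 0 → ∀ d : F, u + (d * f u a) • a ∈ Φ := by
    intro u hu a ha d
    refine ⟨by rw [hb.add_right, hu.1, hb.smul_right, ha, mul_zero, add_zero], ?_⟩
    have h := M.mul_mem (M.mul_mem (hT a d) hu.2) (M.inv_mem (hT a d))
    rwa [conj_tvGL _ (by rw [formDual_dot hb, hu.1]), formDual_vecMul_inv hb (sTv_mem_isoOf hf a d),
      sTv_mulVec_of_orth hf d ha, sTv_mulVec hf] at h
  obtain ⟨a₁, ha₁, ha₁'⟩ := exists_orth_ne_zero hb hf.nondegenerate hwv
  have ha₁v : f v a₁ = 0 := ha₁ v (Submodule.mem_span_singleton_self v)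
  have hfull : ∀ a, f v a = 0 → f (w v) a ≠ 0 → a ∈ Φ := by
    intro a ha hne
    have := Φ.sub_mem (hmove _ hw_mem a ha (f (w v) a)⁻¹) hw_mem
    rwa [inv_mul_cancel₀ hne, one_smul, add_sub_cancel_left] at this
  have hall : ∀ a, f v a = 0 → a ∈ Φ := by
    intro a ha
    by_cases hne : f (w v) a = 0
    · have h1 : f (w v) (a + a₁) ≠ 0 := by rw [hb.add_right, hne, zero_add]; exact ha₁'
      have := Φ.sub_mem (hfull _ (by rw [hb.add_right, ha, ha₁v, add_zero]) h1) (hfull a₁ ha₁v ha₁')
      rwa [add_sub_cancel_right] at this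
    · exact hfull a ha hne
  refine sl_le_of_tvGL fun u φ hφ => ?_
  by_cases hu : u = 0
  · rw [hu, tvGL_zero_left]; exact M.one_mem
  obtain ⟨h, hh, hhv⟩ := exists_iso_mulVec hf hv0 hu
  have hhM : h ∈ M ⊓ isoOf f := (Subgroup.closure_le _).2
    (by rintro _ ⟨a, d, rfl⟩; exact ⟨hT a d, sTv_mem_isoOf hf a d⟩) hh
  obtain ⟨a, ha⟩ := exists_formDual_eq hb hf.nondegenerate φ
  subst φ
  set a' := ((h⁻¹ : GL ι F) : Matrix ι ι F) *ᵥ a with ha'
  have hva : f v a' = 0 := by
    rw [ha', ← form_mulVec_left hhM.2, hhv, ← formDual_dot hb, hφ]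
  have := M.mul_mem (M.mul_mem hhM.1 (hall a' hva).2) (M.inv_mem hhM.1)
  rwa [conj_tvGL _ (by rw [formDual_dot hb, hva]), formDual_vecMul_inv hb hhM.2, hhv, ha',
    gl_mulVec_inv_mulVec] at this

end CfsgLib.ClassicalMax
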