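/-
The similarities of a unitary form form a maximal subgroup of the special linear group.
-/
import Cfsg.Agent.Lib.ClassicalMax.Unitary
import Cfsg.Agent.Lib.ClassicalMax.SympTools
set_option autoImplicit false

namespace CfsgLib.ClassicalMax.Unit

open Matrix Cfsg.Geo

variable {ι : Type} [Fintype ι] [DecidableEq ι] {F : Type*} [Field F] [Fintype F] [DecidableEq F]
  {σ : F ≃+* F} {f : (ι → F) → (ι → F) → F}

/-- The centres of full transvection groups in a subgroup, with zero, form a subspace. -/
def centres (M : Subgroup (GL ι F)) : Submodule F (ι → F) where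
  carrier := {v | ∀ φ : ι → F, φ ⬝ᵥ v = 0 → tvGL v φ ∈ M}
  zero_mem' φ _ := by rw [tvGL_zero_left]; exact M.one_mem
  smul_mem' c v hv φ hφ := by
    rcases eq_or_ne c 0 with rfl | hc
    · rw [zero_smul, tvGL_zero_left]; exact M.one_mem
    · have hφ' : φ ⬝ᵥ v = 0 := by
        rw [dotProduct_smul, smul_eq_mul] at hφ
        exact (mul_eq_zero.1 hφ).resolve_left hc
      rw [tvGL_smul c hφ']
      exact hv _ (by rw [smul_dotProduct, hφ', smul_zero])
  add_mem' {v₁ v₂} h₁ h₂ := by
    by_cases h : ∃ c : F, c • v₁ = v₂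
    · obtain ⟨c, rfl⟩ := h
      intro φ hφ
      rcases eq_or_ne (1 + c) 0 with e | hc
      · rw [show v₁ + c • v₁ = (1 + c) • v₁ by rw [add_smul, one_smul], e, zero_smul, tvGL_zero_left]
        exact M.one_mem
      · rw [show v₁ + c • v₁ = (1 + c) • v₁ by rw [add_smul, one_smul]] at hφ ⊢
        have hφ' : φ ⬝ᵥ v₁ = 0 := by
          rw [dotProduct_smul, smul_eq_mul] at hφ
          exact (mul_eq_zero.1 hφ).resolve_left hc
        rw [tvGL_smul (1 + c) hφ']
        exact h₁ _ (by rw [smul_dotProduct, hφ', smul_zero])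
    · by_cases hv1 : v₁ = 0
      · rw [hv1, zero_add]; exact h₂
      have hnot : v₂ ∉ Submodule.span F {v₁} := fun h' => h (Submodule.mem_span_singleton.1 h')
      obtain ⟨φ, hφ, hφm⟩ := Submodule.exists_dual_map_eq_bot_of_notMem hnot inferInstance
      set ψ : ι → F := fun j => (φ v₂)⁻¹ * φ (Pi.single j 1) with hψ
      have hψd : ∀ x, ψ ⬝ᵥ x = (φ v₂)⁻¹ * φ x := by
        intro x
        conv_rhs => rw [pi_eq_sum_univ x, map_sum, Finset.mul_sum]
        refine Finset.sum_congr rfl fun j _ => ?_
        have e : (fun k => if j = k then (1 : F) else 0) = Pi.single j 1 := by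
          funext k; simp [Pi.single_apply, eq_comm]
        rw [map_smul, smul_eq_mul, e]
        simp only [hψ]
        ring
      have h1 : ψ ⬝ᵥ v₁ = 0 := by
        rw [hψd, show φ v₁ = 0 from (Submodule.mem_bot F).1
          (hφm ▸ Submodule.mem_map_of_mem (Submodule.mem_span_singleton_self v₁)), mul_zero]
      have ht : (tvGL v₁ ψ : Matrix ι ι F) *ᵥ v₂ = v₁ + v₂ := by
        rw [tvGL_mulVec h1, hψd, inv_mul_cancel₀ hφ, one_smul, add_comm]
      intro χ hχ
      set t := tvGL v₁ ψ with htdef
      have hpre : (χ ᵥ* (t : Matrix ι ι F)) ⬝ᵥ v₂ = 0 := by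
        rw [← dotProduct_mulVec, ht]; exact hχ
      have hmem := M.mul_mem (M.mul_mem (h₁ ψ h1) (h₂ _ hpre)) (M.inv_mem (h₁ ψ h1))
      rw [← htdef, conj_tvGL _ hpre, ht, vecMul_vecMul, ← Units.val_mul, mul_inv_cancel, Units.val_one,
        vecMul_one] at hmem
      exact hmem

lemma mulVec_mem_centres {M : Subgroup (GL ι F)} {t : GL ι F} (ht : t ∈ M) {v : ι → F}
    (hv : v ∈ centres M) : (t : Matrix ι ι F) *ᵥ v ∈ centres M := by
  intro φ hφ
  have hpre : (φ ᵥ* (t : Matrix ι ι F)) ⬝ᵥ v = 0 := by rw [← dotProduct_mulVec]; exact hφ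
  have := M.mul_mem (M.mul_mem ht (hv _ hpre)) (M.inv_mem ht)
  rwa [conj_tvGL _ hpre, vecMul_vecMul, ← Units.val_mul, mul_inv_cancel, Units.val_one,
    vecMul_one] at this

theorem unitary_similarity_maximal_sl (hf : IsUnitaryForm σ f) (hn : 9 ≤ Fintype.card ι) :
    IsMaximalIn (specialLinear ι F) (similarityGroup f ⊓ specialLinear ι F) := by
  obtain ⟨τ, hτ0, hτ⟩ := exists_trace_zero hf.ne_refl hf.involutive
  have hr1 : ∀ L : (ι → F) →ₗ[F] F, Fintype.card ι ≤ Module.finrank F (LinearMap.ker L) + 1 := by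
    intro L
    have h := LinearMap.finrank_range_add_finrank_ker L
    have h' : Module.finrank F (LinearMap.range L) ≤ 1 := by
      simpa using Submodule.finrank_le (LinearMap.range L)
    rw [Module.finrank_fintype_fun_eq_card] at h
    omega
  have htop : Fintype.card ι + 2 < 2 * Module.finrank F (⊤ : Submodule F (ι → F)) := by
    rw [finrank_top, Module.finrank_fintype_fun_eq_card]; omega
  refine CfsgLib.ClassicalMax.isMaximalIn_of inf_le_right ?_ ?_
  · obtain ⟨i⟩ : Nonempty ι := Fintype.card_pos_iff.1 (by omega)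
    obtain ⟨x₀, hx₀⟩ := (hf.nondegenerate (Pi.single i 1) (fun e =>
      one_ne_zero (α := F) (by simpa using congrFun e i))).1
    obtain ⟨v, -, hv, -, hv'⟩ := exists_isotropic_avoid hf htop (formL hf (Pi.single i 1))
      (formL hf (Pi.single i 1)) ⟨x₀, Submodule.mem_top, hx₀⟩ ⟨x₀, Submodule.mem_top, hx₀⟩
    have hv0 : v ≠ 0 := fun e => hv' (by rw [e, map_zero])
    obtain ⟨w, hw, hw'⟩ : ∃ w ∈ LinearMap.ker (formL hf v), w ∉ Submodule.span F {v} := by
      apply SetLike.not_le_iff_exists.1
      intro hle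
      have h4 := Submodule.finrank_mono hle
      rw [finrank_span_singleton hv0] at h4
      have := hr1 (formL hf v)
      omega
    have hwv : f w v = 0 := hw
    have hvw : f v w = 0 := eq_zero_comm hf hwv
    have hdot : formDual hf w ⬝ᵥ v = 0 := by rw [formDual_dot, hvw]
    refine ⟨tvGL v (formDual hf w), tvGL_mem_sl _ _, ?_⟩
    rintro ⟨⟨c, hc⟩, -⟩
    simp only [tvGL_mulVec hdot, formDual_dot, hf.add_left, add_right hf, hf.smul_left,
      smul_right hf, hv] at hc
    obtain ⟨y, hy⟩ := (hf.nondegenerate v hv0).2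
    have hc1 := hc v y
    simp [hvw, hv] at hc1
    replace hc1 := (mul_eq_right₀ hy).1 hc1.symm
    obtain ⟨φ, hφ, hφm⟩ := Submodule.exists_dual_map_eq_bot_of_notMem hw' inferInstance
    obtain ⟨x, hx⟩ := exists_form_eq hf φ
    have hvx : f v x = 0 := by
      rw [hx]
      exact (Submodule.mem_bot F).1 (hφm ▸ Submodule.mem_map_of_mem (Submodule.mem_span_singleton_self v))
    have hxw : f x w ≠ 0 := ne_zero_comm hf (by rw [hx]; exact hφ)
    have h := hc x y
    rw [hc1, one_mul] at h
    simp [eq_zero_comm hf hvx] at h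
    rcases h with h | h
    · exact hxw h
    · exact hy h
  intro M hHM hMK g hgM hgH
  have hT : ∀ v c, f v v = 0 → σ c = -c → uTv hf v c ∈ M := fun v c hv hc =>
    hHM ⟨⟨1, fun a b => by rw [Units.val_one, one_mul]; exact uTv_mem_isoOf hf hv hc a b⟩,
      uTv_mem_sl hf v c⟩
  have hgns : g ∉ similarityGroup f := fun h => hgH ⟨h, hMK hgM⟩
  set f' : (ι → F) → (ι → F) → F :=
    fun x y => f ((g : Matrix ι ι F) *ᵥ x) ((g : Matrix ι ι F) *ᵥ y) with hf'def
  have hf' : IsUnitaryForm σ f' := pullback hf g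
  have hw : ∀ v, ∃ w, ∀ x, f x w = f' x v := fun v => exists_form_eq hf (formL hf' v)
  choose w hw using hw
  have hconj : ∀ u c, f' u u = 0 → σ c = -c → tvGL u (c • formDual hf (w u)) ∈ M := by
    intro u c hu hc
    have hu' : (c • formDual hf (w u)) ⬝ᵥ u = 0 := by
      rw [smul_dotProduct, formDual_dot, hw, hu, smul_zero]
    have : tvGL u (c • formDual hf (w u)) = g⁻¹ * uTv hf ((g : Matrix ι ι F) *ᵥ u) c * g := by
      refine gl_ext_mulVec fun x => ?_
      rw [tvGL_mulVec hu', smul_dotProduct, formDual_dot, smul_eq_mul, gl_mulVec_mul, gl_mulVec_mul,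
        uTv_mulVec hf hu, mulVec_add, mulVec_smul, gl_inv_mulVec_mulVec, gl_inv_mulVec_mulVec, hw]
    rw [this]
    exact M.mul_mem (M.mul_mem (M.inv_mem hgM) (hT _ _ hu hc)) hgM
  -- a transvection with isotropic centre and a foreign hyperplane
  obtain ⟨v, w₀, hv, hv0, hvw, hw₀, hw₀M⟩ : ∃ v w₀, f v v = 0 ∧ v ≠ 0 ∧ f v w₀ = 0 ∧
      w₀ ∉ Submodule.span F {v} ∧ tvGL v (formDual hf w₀) ∈ M := by
    by_cases hB : ∃ u, f' u u = 0 ∧ f u u ≠ 0
    · obtain ⟨u, hu', hu⟩ := hB
      have hu0 : u ≠ 0 := fun e => hu (by rw [e, zero_left hf])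
      obtain ⟨z, hz⟩ := (hf'.nondegenerate u hu0).1
      have hker : Fintype.card ι + 2 < 2 * Module.finrank F (LinearMap.ker (formL hf' u)) := by
        have := hr1 (formL hf' u); omega
      obtain ⟨v, hvk, hv, hvu, -⟩ := exists_isotropic_avoid hf hker (formL hf u) (formL hf u)
        ⟨u, hu', hu⟩ ⟨u, hu', hu⟩
      have hvu' : f' v u = 0 := hvk
      have hvu'' : f v u ≠ 0 := hvu
      set t := tvGL u (τ • formDual hf (w u)) with ht
      have htM : t ∈ M := hconj u τ hu' hτ
      have hdot : (τ • formDual hf (w u)) ⬝ᵥ u = 0 := by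
        rw [smul_dotProduct, formDual_dot, hw, hu', smul_zero]
      have hd : τ * (τ * f u v) ≠ 0 := mul_ne_zero hτ0 (mul_ne_zero hτ0 (ne_zero_comm hf hvu''))
      refine ⟨v, σ (τ * (τ * f u v)) • w u, hv, fun e => hvu'' (by rw [e, zero_left hf]), ?_, ?_, ?_⟩
      · rw [smul_right hf, hw, hvu', mul_zero]
      · intro hmem
        obtain ⟨c, hc⟩ := Submodule.mem_span_singleton.1 hmem
        have h1 : f u (c • v) = f u (σ (τ * (τ * f u v)) • w u) := by rw [hc]
        rw [smul_right hf, smul_right hf, hw, hu', mul_zero, mul_eq_zero] at h1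
        rcases h1 with h1 | h1
        · have hc0 : c = 0 := by simpa using congrArg σ.symm h1
          rw [hc0, zero_smul] at hc
          have h2 := congrArg (fun a => f z a) hc
          simp only [zero_right hf, smul_right hf, hf.involutive, hw] at h2
          exact mul_ne_zero hd hz h2.symm
        · exact ne_zero_comm hf hvu'' h1
      · have h := M.mul_mem (M.mul_mem (M.mul_mem (hT v τ hv hτ) htM)
          (M.inv_mem (hT v τ hv hτ))) (M.inv_mem htM)
        have e : uTv hf v τ * t * (uTv hf v τ)⁻¹ * t⁻¹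
            = tvGL v (formDual hf (σ (τ * (τ * f u v)) • w u)) := by
          have hvd : (τ • formDual hf (w u)) ⬝ᵥ v = 0 := by
            rw [smul_dotProduct, formDual_dot, hw, hvu', smul_zero]
          rw [ht, conj_tvGL _ hdot, uTv_mulVec hf hv]
          have hphi : (τ • formDual hf (w u)) ᵥ* ((uTv hf v τ)⁻¹ : GL ι F).1
              = τ • formDual hf (w u) := by
            refine dotProduct_eq _ _ fun x => ?_
            rw [vecMul_inv_dot]
            conv_rhs => rw [← gl_mulVec_inv_mulVec (uTv hf v τ) x, uTv_mulVec hf hv, dotProduct_add,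
              dotProduct_smul, hvd, smul_zero, add_zero]
          rw [hphi, tvGL_add_left hdot (by rw [dotProduct_smul, hvd, smul_zero]), ← tvGL_neg_right hdot,
            tvGL_smul _ hvd, smul_smul, formDual_smul, hf.involutive]
          refine gl_ext_mulVec fun x => ?_
          rw [gl_mulVec_mul, gl_mulVec_mul]
          have hd' : (τ * f u v * τ) • formDual hf (w u) ⬝ᵥ v = 0 := by
            rw [smul_dotProduct, formDual_dot, hw, hvu', smul_zero]
          have hd'' : (τ * (τ * f u v)) • formDual hf (w u) ⬝ᵥ v = 0 := by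
            rw [smul_dotProduct, formDual_dot, hw, hvu', smul_zero]
          have hd₀ : (-(τ • formDual hf (w u))) ⬝ᵥ u = 0 := by rw [neg_dotProduct, hdot, neg_zero]
          rw [tvGL_mulVec hd₀, tvGL_mulVec hd', tvGL_mulVec hdot, tvGL_mulVec hd'']
          simp only [neg_dotProduct, smul_dotProduct, dotProduct_add, dotProduct_smul, formDual_dot,
            hw, hu', hvu', smul_eq_mul]
          module
        rwa [e] at h
    push Not at hB
    obtain ⟨u, hu', hwu⟩ : ∃ u, f' u u = 0 ∧ w u ∉ Submodule.span F {u} := by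
      by_contra hcon
      push Not at hcon
      have wadd : ∀ a b, w (a + b) = w a + w b := fun a b => by
        by_contra hne
        obtain ⟨x, hx⟩ := (hf.nondegenerate _ (sub_ne_zero.2 hne)).1
        apply hx
        rw [sub_right hf, add_right hf, hw, hw, hw, add_right hf', sub_self]
      have wsmul : ∀ (c : F) a, w (c • a) = c • w a := fun c a => by
        by_contra hne
        obtain ⟨x, hx⟩ := (hf.nondegenerate _ (sub_ne_zero.2 hne)).1
        apply hx
        rw [sub_right hf, smul_right hf, hw, hw, smul_right hf', sub_self]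
      choose c hc using fun u hu => Submodule.mem_span_singleton.1 (hcon u hu)
      have hfc : ∀ u (hu : f' u u = 0) x, f' x u = σ (c u hu) * f x u := fun u hu x => by
        rw [← hw, ← hc u hu, smul_right hf]
      have hpair : ∀ a b (ha : f' a a = 0) (hb : f' b b = 0), f' a b ≠ 0 →
          c a ha = c b hb ∧ σ (c a ha) = c a ha := by
        intro a b ha hb hab
        obtain ⟨r, hr, hiso⟩ := exists_isotropic_comb hf' ha hb
        have hsum : c (a + r • b) hiso • (a + r • b) = c a ha • a + (r * c b hb) • b := by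
          rw [hc, wadd, wsmul, ← hc a ha, ← hc b hb, smul_smul]
        have hli : LinearIndependent F ![a, b] := by
          refine LinearIndependent.pair_iff.2 fun p q hpq => ?_
          have h1 := congrArg (fun z => f' z a) hpq
          have h2 := congrArg (fun z => f' z b) hpq
          simp only [hf'.add_left, hf'.smul_left, ha, hb, zero_left hf', mul_zero, zero_add,
            add_zero, mul_eq_zero] at h1 h2
          exact ⟨h2.resolve_right hab, h1.resolve_right (ne_zero_comm hf' hab)⟩
        have h3 := LinearIndependent.pair_iff.1 hli (c (a + r • b) hiso - c a ha)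
          (r * c (a + r • b) hiso - r * c b hb) (by
            linear_combination (norm := module) hsum)
        have e1 : c (a + r • b) hiso = c a ha := sub_eq_zero.1 h3.1
        have e2 : c a ha = c b hb := by
          have := h3.2
          rw [e1, ← mul_sub, mul_eq_zero] at this
          exact sub_eq_zero.1 (this.resolve_left hr)
        refine ⟨e2, ?_⟩
        have h4 : f a b ≠ 0 := fun e => hab (by rw [hfc b hb, e, mul_zero])
        have h5 := hf'.herm a b
        rw [hfc b hb, hfc a ha, map_mul, hf.involutive, ← hf.herm, ← e2] at h5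
        exact mul_right_cancel₀ h4 h5
      have hex : ∀ a, a ≠ 0 → f' a a = 0 → ∀ b, b ≠ 0 → ∃ z, f' z z = 0 ∧ f' z a ≠ 0 ∧ f' z b ≠ 0 := by
        intro a ha0 _ b hb0
        obtain ⟨p, hp⟩ := (hf'.nondegenerate a ha0).1
        obtain ⟨q, hq⟩ := (hf'.nondegenerate b hb0).1
        obtain ⟨z, -, hz⟩ := exists_isotropic_avoid hf' htop (formL hf' a) (formL hf' b)
          ⟨p, Submodule.mem_top, hp⟩ ⟨q, Submodule.mem_top, hq⟩
        exact ⟨z, hz⟩
      obtain ⟨i⟩ : Nonempty ι := Fintype.card_pos_iff.1 (by omega)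
      obtain ⟨x₀, hx₀⟩ := (hf'.nondegenerate (Pi.single i 1) (fun e =>
        one_ne_zero (α := F) (by simpa using congrFun e i))).1
      obtain ⟨a, -, ha, hax, -⟩ := exists_isotropic_avoid hf' htop (formL hf' (Pi.single i 1))
        (formL hf' (Pi.single i 1)) ⟨x₀, Submodule.mem_top, hx₀⟩ ⟨x₀, Submodule.mem_top, hx₀⟩
      have ha0 : a ≠ 0 := fun e => hax (by rw [e, map_zero])
      set c₀ := c a ha with hc₀
      obtain ⟨z, hz, hza, -⟩ := hex a ha0 ha a ha0
      have hc₀σ : σ c₀ = c₀ := (hpair a z ha hz (ne_zero_comm hf' hza)).2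
      have hall : ∀ x, w x = c₀ • x := by
        intro x
        have hx : x ∈ Submodule.span F {y | y ∈ (⊤ : Submodule F (ι → F)) ∧ f' y y = 0} := by
          rw [isotropic_span hf' htop]; trivial
        induction hx using Submodule.span_induction with
        | mem y hy =>
          obtain ⟨-, hy⟩ := hy
          rcases eq_or_ne y 0 with rfl | hy0
          · rw [smul_zero, ← hc 0 hy, smul_zero]
          obtain ⟨z, hz, hza, hzy⟩ := hex a ha0 ha y hy0
          rw [← hc y hy, ← (hpair z y hz hy hzy).1, (hpair z a hz ha hza).1]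
        | zero => rw [smul_zero, ← zero_smul F (0 : ι → F), wsmul, zero_smul, zero_smul]
        | add p q _ _ hp hq => rw [wadd, hp, hq, smul_add]
        | smul t p _ hp => rw [wsmul, hp, smul_comm]
      have hc00 : c₀ ≠ 0 := fun e => by
        obtain ⟨x, hx⟩ := (hf'.nondegenerate a ha0).1
        apply hx
        rw [← hw, hall, e, zero_smul, zero_right hf]
      refine hgns ⟨Units.mk0 _ hc00, fun x y => ?_⟩
      change f' x y = c₀ * f x y
      rw [← hw, hall, smul_right hf, hc₀σ]
    have hu : f u u = 0 := hB u hu'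
    refine ⟨u, σ τ • w u, hu, fun e => hwu ?_, ?_, fun h => hwu ?_, ?_⟩
    · subst e
      have : w (0 : ι → F) = 0 := by
        by_contra hne
        obtain ⟨x, hx⟩ := (hf.nondegenerate _ hne).1
        exact hx (by rw [hw, zero_right hf'])
      rw [this]; exact zero_mem _
    · rw [smul_right hf, hw, hu', mul_zero]
    · exact (Submodule.smul_mem_iff _ (fun e => hτ0 (by simpa using congrArg σ.symm e))).1 h
    · rw [formDual_smul, hf.involutive]; exact hconj u τ hu' hτ
  -- all transvections with centre `v`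
  let Φ : AddSubgroup (ι → F) :=
    { carrier := {u | f v u = 0 ∧ tvGL v (formDual hf u) ∈ M}
      add_mem' := fun {a b} ha hb => ⟨by rw [add_right hf, ha.1, hb.1, add_zero], by
        rw [formDual_add, tvGL_add_right (by rw [formDual_dot, ha.1]) (by rw [formDual_dot, hb.1])]
        exact M.mul_mem ha.2 hb.2⟩
      zero_mem' := ⟨zero_right hf v, by rw [formDual_zero, tvGL_zero_right]; exact M.one_mem⟩
      neg_mem' := fun {a} ha => ⟨by rw [← neg_one_smul F a, smul_right hf, ha.1, mul_zero], by
        rw [formDual_neg, tvGL_neg_right (by rw [formDual_dot, ha.1])]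
        exact M.inv_mem ha.2⟩ }
  have hmove : ∀ u ∈ Φ, ∀ a, f a a = 0 → f v a = 0 → ∀ d : F, σ d = -d → (d * f u a) • a ∈ Φ := by
    intro u hu a ha hva d hd
    have h : u + (d * f u a) • a ∈ Φ := by
      refine ⟨by rw [add_right hf, hu.1, smul_right hf, hva, mul_zero, add_zero], ?_⟩
      have h := M.mul_mem (M.mul_mem (hT a d ha hd) hu.2) (M.inv_mem (hT a d ha hd))
      rwa [conj_tvGL _ (by rw [formDual_dot, hu.1]), formDual_vecMul_inv hf (uTv_mem_isoOf hf ha hd),
        uTv_mulVec_of_orth hf ha d hva, uTv_mulVec hf ha] at h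
    simpa using Φ.sub_mem h hu
  -- every multiple of a suitable isotropic vector
  have hline : ∀ a, f a a = 0 → f v a = 0 → f w₀ a ≠ 0 → ∀ l : F, l • a ∈ Φ := by
    intro a ha hva hwa
    obtain ⟨η, hη⟩ : ∃ η, σ (τ * η) ≠ τ * η := by
      by_contra h
      push Not at h
      obtain ⟨x, hx⟩ : ∃ x, σ x ≠ x := by
        by_contra h'
        push Not at h'
        exact hf.ne_refl (RingEquiv.ext h')
      exact hx (by simpa [← mul_assoc, mul_inv_cancel₀ hτ0] using h (τ⁻¹ * x))
    -- an isotropic vector with prescribed pairings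
    let L : (ι → F) →ₗ[F] (F × F × F) := (formL hf v).prod ((formL hf a).prod (formL hf w₀))
    have hsurj : Function.Surjective L := by
      rw [← LinearMap.range_eq_top]
      by_contra hne
      obtain ⟨ψ, hψ0, hψ⟩ := Submodule.exists_dual_map_eq_bot_of_lt_top (lt_top_iff_ne_top.2 hne) inferInstance
      have hψx : ∀ x, ψ (1, 0, 0) * f x v + (ψ (0, 1, 0) * f x a + ψ (0, 0, 1) * f x w₀) = 0 := by
        intro x
        have h0 : ψ (L x) = 0 := (Submodule.mem_bot F).1 (hψ ▸ Submodule.mem_map_of_mem ⟨x, rfl⟩)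
        have e : L x = f x v • (1, 0, 0) + (f x a • (0, 1, 0) + f x w₀ • (0, 0, 1)) := by
          simp [L, Prod.ext_iff]
        rw [e] at h0
        simp only [map_add, map_smul, smul_eq_mul] at h0
        linear_combination h0
      have hvec : σ (ψ (1, 0, 0)) • v + (σ (ψ (0, 1, 0)) • a + σ (ψ (0, 0, 1)) • w₀) = 0 := by
        by_contra hne'
        obtain ⟨x, hx⟩ := (hf.nondegenerate _ hne').1
        apply hx
        rw [add_right hf, add_right hf, smul_right hf, smul_right hf, smul_right hf, hf.involutive,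
          hf.involutive, hf.involutive]
        exact hψx x
      have h3 : σ (ψ (0, 0, 1)) = 0 := by
        have h := congrArg (fun z => f z a) hvec
        simp [hf.add_left, hf.smul_left, hva, ha, zero_left hf, hwa] at h
        rw [h, map_zero]
      rw [h3, zero_smul, add_zero] at hvec
      have h2 : σ (ψ (0, 1, 0)) = 0 := by
        have h := congrArg (fun z => f z w₀) hvec
        simp [hf.add_left, hf.smul_left, hvw, zero_left hf, ne_zero_comm hf hwa] at h
        rw [h, map_zero]
      rw [h2, zero_smul, add_zero, smul_eq_zero, or_iff_left hv0] at hvec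
      apply hψ0
      refine LinearMap.ext fun p => ?_
      have e : p = p.1 • (1, 0, 0) + (p.2.1 • (0, 1, 0) + p.2.2 • (0, 0, 1)) := by
        obtain ⟨p₁, p₂, p₃⟩ := p; simp
      rw [e]
      simp only [map_add, map_smul, LinearMap.zero_apply]
      simp only [map_eq_zero] at h2 h3 hvec
      simp [h2, h3, hvec]
    obtain ⟨b₀, hb₀⟩ := hsurj (0, f w₀ a, η)
    simp only [L, LinearMap.prod_apply, Function.prod, Prod.mk.injEq, formL_apply] at hb₀
    let L' : (ι → F) →ₗ[F] (F × F × F × F) :=
      (formL hf v).prod ((formL hf a).prod ((formL hf w₀).prod (formL hf b₀)))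
    have hker : Fintype.card ι < 2 * Module.finrank F (LinearMap.ker L') := by
      have h := LinearMap.finrank_range_add_finrank_ker L'
      have h' := Submodule.finrank_le (LinearMap.range L')
      simp only [Module.finrank_prod, Module.finrank_self] at h'
      rw [Module.finrank_fintype_fun_eq_card] at h
      omega
    obtain ⟨k, hk, hkk⟩ := exists_value hf hker (s := - f b₀ b₀) (by rw [map_neg, self_fixed hf])
    simp only [L', LinearMap.mem_ker, LinearMap.prod_apply, Function.prod, Prod.mk_eq_zero,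
      formL_apply] at hk
    set b := b₀ + k with hb
    have hbv : f b v = 0 := by rw [hb, hf.add_left, hb₀.1, hk.1, add_zero]
    have hba : f b a = f w₀ a := by rw [hb, hf.add_left, hb₀.2.1, hk.2.1, add_zero]
    have hbw : f b w₀ = η := by rw [hb, hf.add_left, hb₀.2.2, hk.2.2.1, add_zero]
    have hbb : f b b = 0 := by
      rw [hb, hf.add_left, add_right hf, add_right hf, hkk, hk.2.2.2, eq_zero_comm hf hk.2.2.2]
      ring
    have hw₀Φ : w₀ ∈ Φ := ⟨hvw, hw₀M⟩
    have hw₁ := hmove w₀ hw₀Φ b hbb (eq_zero_comm hf hbv) τ hτ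
    intro l
    -- two real lines of multiples
    set p := f w₀ a
    set p₁ := f ((τ * f w₀ b) • b) a with hp₁
    have hp₁' : p₁ = τ * σ η * p := by rw [hp₁, hf.smul_left, hf.herm w₀ b, hbw, hba]
    have hne : σ (τ * σ η) ≠ τ * σ η := by
      rw [map_mul, hτ, hf.involutive]
      intro e
      apply hη
      rw [map_mul, hτ]
      linear_combination e
    have hd : τ * σ η - σ (τ * σ η) ≠ 0 := sub_ne_zero.2 (Ne.symm hne)
    set m := l / (τ * p) with hm
    set r₁ := (m - σ m) / (τ * σ η - σ (τ * σ η)) with hr₁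
    set r₀ := m - r₁ * (τ * σ η) with hr₀
    have hr₁σ : σ r₁ = r₁ := by
      rw [hr₁, map_div₀, map_sub, map_sub, hf.involutive, hf.involutive, ← neg_sub m (σ m),
        ← neg_sub (τ * σ η), neg_div_neg_eq]
    have hr₀σ : σ r₀ = r₀ := by
      rw [hr₀, map_sub, map_mul, hr₁σ, hr₁]
      field_simp
      ring
    have h0 := hmove w₀ hw₀Φ a ha hva (τ * r₀) (by rw [map_mul, hτ, hr₀σ, neg_mul])
    have h1 := hmove _ hw₁ a ha hva (τ * r₁) (by rw [map_mul, hτ, hr₁σ, neg_mul])
    rw [← hp₁, hp₁'] at h1
    have hsum := Φ.add_mem h0 h1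
    rw [← add_smul] at hsum
    convert hsum using 2
    rw [hr₀, hm]
    field_simp
    ring
  have hperp : Fintype.card ι + 2 < 2 * Module.finrank F (LinearMap.ker (formL hf v)) := by
    have := hr1 (formL hf v); omega
  obtain ⟨z₀, hz₀, hz₀'⟩ : ∃ z, f v z = 0 ∧ f w₀ z ≠ 0 := by
    obtain ⟨φ, hφ, hφm⟩ := Submodule.exists_dual_map_eq_bot_of_notMem hw₀ inferInstance
    obtain ⟨z, hz⟩ := exists_form_eq hf φ
    have h1 : f v z = 0 := by
      rw [hz]
      exact (Submodule.mem_bot F).1
        (hφm ▸ Submodule.mem_map_of_mem (Submodule.mem_span_singleton_self v))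
    exact ⟨z, h1, by rw [hz]; exact hφ⟩
  obtain ⟨a₁, ha₁v, ha₁, ha₁', -⟩ := exists_isotropic_avoid hf hperp (formL hf w₀) (formL hf w₀)
    ⟨z₀, eq_zero_comm hf hz₀, ne_zero_comm hf hz₀'⟩ ⟨z₀, eq_zero_comm hf hz₀, ne_zero_comm hf hz₀'⟩
  have ha₁w : f w₀ a₁ ≠ 0 := ne_zero_comm hf ha₁'
  have hva₁ : f v a₁ = 0 := eq_zero_comm hf ha₁v
  have hΦall : ∀ x ∈ LinearMap.ker (formL hf v), ∀ l : F, l • x ∈ Φ := by
    intro x hx
    rw [← isotropic_span hf hperp] at hx
    induction hx using Submodule.span_induction with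
    | mem y hy =>
      obtain ⟨hyv, hy⟩ := hy
      have hyv' : f v y = 0 := eq_zero_comm hf hyv
      by_cases hwy : f w₀ y = 0
      · intro l
        obtain ⟨r, hr, hiso⟩ := exists_isotropic_comb hf hy ha₁
        have h1 := hline _ hiso (by rw [add_right hf, smul_right hf, hyv', hva₁, mul_zero, add_zero])
          (by rw [add_right hf, smul_right hf, hwy, zero_add]
              exact mul_ne_zero (by simpa using hr) ha₁w) l
        have := Φ.sub_mem h1 (hline a₁ ha₁ hva₁ ha₁w (l * r))
        rwa [smul_add, smul_smul, add_sub_cancel_right] at this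
      · exact hline y hy hyv' hwy
    | zero => intro l; rw [smul_zero]; exact Φ.zero_mem
    | add p q _ _ hp hq => intro l; rw [smul_add]; exact Φ.add_mem (hp l) (hq l)
    | smul t p _ hp => intro l; rw [smul_smul]; exact hp _
  have hvC : v ∈ centres M := by
    intro φ hφ
    let L : (ι → F) →ₗ[F] F :=
      { toFun := fun x => φ ⬝ᵥ x
        map_add' := dotProduct_add φ
        map_smul' := fun c x => dotProduct_smul c φ x }
    obtain ⟨a, ha⟩ := exists_form_eq hf L
    have hφa : formDual hf a = φ := dotProduct_eq _ _ fun x => by rw [formDual_dot, ha]; rfl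
    have hva : f v a = 0 := (ha v).trans hφ
    have := hΦall a (eq_zero_comm hf hva) 1
    rw [one_smul] at this
    rw [← hφa]
    exact this.2
  have hCtop : centres M = ⊤ := by
    have hiso : ∀ u, f u u = 0 → f v u ≠ 0 → u ∈ centres M := by
      intro u hu hvu
      have h1 := Submodule.sub_mem _ (mulVec_mem_centres (hT u τ hu hτ) hvC) hvC
      rw [uTv_mulVec hf hu, add_sub_cancel_left] at h1
      exact (Submodule.smul_mem_iff _ (mul_ne_zero hτ0 hvu)).1 h1
    obtain ⟨x, hx⟩ := (hf.nondegenerate v hv0).1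
    obtain ⟨u₀, -, hu₀, hu₀v, -⟩ := exists_isotropic_avoid hf htop (formL hf v) (formL hf v)
      ⟨x, Submodule.mem_top, hx⟩ ⟨x, Submodule.mem_top, hx⟩
    have hu₀C := hiso u₀ hu₀ (ne_zero_comm hf hu₀v)
    rw [eq_top_iff, ← isotropic_span hf htop, Submodule.span_le]
    rintro u ⟨-, hu⟩
    by_cases hvu : f v u = 0
    · obtain ⟨r, hr, hiso'⟩ := exists_isotropic_comb hf hu hu₀
      have h1 := hiso _ hiso' (by
        rw [add_right hf, smul_right hf, hvu, zero_add]
        exact mul_ne_zero (by simpa using hr) (ne_zero_comm hf hu₀v))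
      simpa using Submodule.sub_mem _ h1 (Submodule.smul_mem _ r hu₀C)
    · exact hiso u hu hvu
  exact sl_le_of_tvGL fun u φ hφ => (hCtop ▸ Submodule.mem_top : u ∈ centres M) φ hφ

end CfsgLib.ClassicalMax.Unit
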