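/-
Maximality of orthogonal similarity groups in special linear groups, odd characteristic.
-/
import Cfsg.Agent.Lib.ClassicalMax.OrthNondeg
set_option autoImplicit false

namespace CfsgLib.ClassicalMax.QuadSim

open Matrix Cfsg.Geo QuadraticMap
open CfsgLib.Classical.Quad (NDPolar Orth Frame IsHPair)
open CfsgLib.ClassicalMax.OmS

variable {ι : Type} [Fintype ι] [DecidableEq ι] {F : Type*} [Field F]
  {Q : QuadraticForm F (ι → F)}

/-- The transvection `x ↦ x + (x, r) v`. -/
def tq [DecidableEq F] (Q : QuadraticForm F (ι → F)) (v r : ι → F) : GL ι F := tvGL v (Om.dual (⇑Q) r)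

lemma tq_mulVec [DecidableEq F] (hnd : NDPolar Q) {v r : ι → F} (h : polar Q v r = 0) (x : ι → F) :
    (tq Q v r : Matrix ι ι F) *ᵥ x = x + polar Q x r • v := by
  have hQ := isNondegenerateQuadraticForm hnd
  rw [tq, tvGL_mulVec (by rw [Om.dual_dot hQ, h]), Om.dual_dot hQ]

lemma tq_conj [DecidableEq F] (hnd : NDPolar Q) {h : GL ι F} (hh : h ∈ omegaGL ⇑Q) {v r : ι → F}
    (hvr : polar Q v r = 0) :
    h * tq Q v r * h⁻¹ = tq Q ((h : Matrix ι ι F) *ᵥ v) ((h : Matrix ι ι F) *ᵥ r) := by
  refine gl_ext_mulVec fun x => ?_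
  rw [gl_mulVec_mul, gl_mulVec_mul, tq_mulVec hnd hvr, tq_mulVec hnd (by rw [omega_polar hh, hvr]),
    mulVec_add, mulVec_smul, gl_mulVec_inv_mulVec, ← omega_polar hh, gl_mulVec_inv_mulVec]

lemma omega_le_sl (Qf : (ι → F) → F) : omegaGL Qf ≤ specialLinear ι F := by
  rintro _ ⟨γ, hγ, rfl⟩
  exact MonoidHom.mem_ker.2 (Abelianization.commutator_subset_ker
    (Matrix.GeneralLinearGroup.det.comp (Cfsg.isometryGroup F Qf).subtype) hγ)

/-- A vector with prescribed products that vanish on a subspace. -/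
lemma exists_dual_vec (hnd : NDPolar Q) {D : Submodule F (ι → F)} {x : ι → F} (hx : x ∉ D) :
    ∃ y, polar Q x y = 1 ∧ ∀ d ∈ D, polar Q d y = 0 := by
  obtain ⟨φ, hφx, hφD⟩ := Submodule.exists_dual_map_eq_bot_of_notMem hx inferInstance
  obtain ⟨y, hy⟩ := Classical.Quad.exists_polar hnd ((φ x)⁻¹ • φ)
  refine ⟨y, ?_, fun d hd => ?_⟩
  · rw [polar_comm, hy, LinearMap.smul_apply, smul_eq_mul, inv_mul_cancel₀ hφx]
  · rw [polar_comm, hy, LinearMap.smul_apply,
      (Submodule.mem_bot F).1 (hφD ▸ Submodule.mem_map_of_mem hd : φ d ∈ (⊥ : Submodule F F)),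
      smul_zero]

/-- The orthogonal of a set of vectors. -/
def perpOf (Q : QuadraticForm F (ι → F)) (D : Submodule F (ι → F)) : Submodule F (ι → F) :=
  LinearMap.ker ((LinearMap.lcomp F F D.subtype).comp (polarBilin Q))

omit [Fintype ι] [DecidableEq ι] in
lemma mem_perpOf {D : Submodule F (ι → F)} {x : ι → F} :
    x ∈ perpOf Q D ↔ ∀ d ∈ D, polar Q x d = 0 := by
  rw [perpOf, LinearMap.mem_ker]
  exact ⟨fun h d hd => LinearMap.congr_fun h ⟨d, hd⟩, fun h => LinearMap.ext fun d => h d d.2⟩

omit [DecidableEq ι] in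
lemma finrank_perpOf (D : Submodule F (ι → F)) :
    Fintype.card ι ≤ Module.finrank F (perpOf Q D) + Module.finrank F D := by
  have h := LinearMap.finrank_range_add_finrank_ker
    ((LinearMap.lcomp F F D.subtype).comp (polarBilin Q))
  have h' := Submodule.finrank_le (LinearMap.range ((LinearMap.lcomp F F D.subtype).comp (polarBilin Q)))
  rw [Subspace.dual_finrank_eq] at h'
  rw [Module.finrank_fintype_fun_eq_card] at h
  rw [perpOf]
  omega

/-- In the orthogonal of a small subspace `D`: a singular vector outside a small subspace `E`. -/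
lemma exists_singular_avoid [Fintype F] (h2 : (2 : F) ≠ 0) (D E : Submodule F (ι → F))
    (hdim : Module.finrank F D + Module.finrank F E + 3 ≤ Fintype.card ι) :
    ∃ v, Q v = 0 ∧ v ∉ E ∧ ∀ d ∈ D, polar Q v d = 0 := by
  obtain ⟨C, hC⟩ := Submodule.exists_isCompl E
  have h1 := Submodule.finrank_add_eq_of_isCompl hC
  have h2' := finrank_perpOf (Q := Q) D
  have h3 := Submodule.finrank_sup_add_finrank_inf_eq (perpOf Q D) C
  have h4 := Submodule.finrank_le (perpOf Q D ⊔ C)
  rw [Module.finrank_fintype_fun_eq_card] at h1 h4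
  obtain ⟨v, hv, hv0, hQv⟩ := exists_singular_of_three (Q := Q) h2 (S := perpOf Q D ⊓ C) (by omega)
  exact ⟨v, hQv, fun hE => hv0 ((Submodule.disjoint_def.1 hC.disjoint) v hE hv.2), mem_perpOf.1 hv.1⟩

/-- The singular vectors generate the orthogonal of a small subspace. -/
lemma perp_le_of_singular [Fintype F] (hnd : NDPolar Q) (h2 : (2 : F) ≠ 0) {D : Submodule F (ι → F)}
    (hdim : 2 * Module.finrank F D + 3 ≤ Fintype.card ι) (S : AddSubgroup (ι → F))
    (hS : ∀ x, Q x = 0 → (∀ d ∈ D, polar Q x d = 0) → x ∈ S) {x : ι → F}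
    (hx : ∀ d ∈ D, polar Q x d = 0) : x ∈ S := by
  obtain ⟨v, hQv, hvD, hv⟩ := exists_singular_avoid (Q := Q) h2 D D (by omega)
  obtain ⟨y, hvy, hy⟩ := exists_dual_vec hnd hvD
  set z := y + (-(Q y)) • v with hz
  have hQz : Q z = 0 := by rw [hz, Classical.Quad.Q_comb1, hQv, polar_comm Q y v, hvy]; ring
  have hvz : polar Q v z = 1 := by
    rw [hz, polar_add_right, polar_smul_right, Classical.Quad.polar_singular_self hQv, hvy]; simp
  have hzD : ∀ d ∈ D, polar Q z d = 0 := fun d hd => by
    rw [hz, polar_add_left, polar_smul_left, hv d hd, polar_comm, hy d hd]; simp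
  set t := 1 - polar Q v x with ht
  set x₁ := x + t • z with hx₁
  have e1 : polar Q v x₁ = 1 := by
    rw [hx₁, polar_add_right, polar_smul_right, hvz, ht, smul_eq_mul]; ring
  have hx₁D : ∀ d ∈ D, polar Q x₁ d = 0 := fun d hd => by
    rw [hx₁, polar_add_left, polar_smul_left, hx d hd, hzD d hd]; simp
  clear_value x₁ z
  have m1 := hS (x₁ + (-(Q x₁)) • v) (by rw [Classical.Quad.Q_comb1, hQv, polar_comm Q x₁ v, e1]; ring)
    fun d hd => by rw [polar_add_left, polar_smul_left, hx₁D d hd, hv d hd]; simp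
  have m2 := hS (Q x₁ • v) (by rw [QuadraticMap.map_smul, hQv, smul_zero])
    fun d hd => by rw [polar_smul_left, hv d hd, smul_zero]
  have m3 := hS (t • z) (by rw [QuadraticMap.map_smul, hQz, smul_zero])
    fun d hd => by rw [polar_smul_left, hzD d hd, smul_zero]
  have h := S.sub_mem (S.add_mem m1 m2) m3
  rwa [show x₁ + -Q x₁ • v + Q x₁ • v - t • z = x by rw [hx₁]; module] at h

lemma finrank_span_two_le (a b : ι → F) : Module.finrank F (Submodule.span F {a, b}) ≤ 2 := by
  classical
  have h := finrank_span_finset_le_card (R := F) ({a, b} : Finset (ι → F))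
  rw [Finset.coe_pair] at h
  exact h.trans Finset.card_le_two

lemma finrank_span_three_le (a b c : ι → F) : Module.finrank F (Submodule.span F {a, b, c}) ≤ 3 := by
  classical
  have h := finrank_span_finset_le_card (R := F) ({a, b, c} : Finset (ι → F))
  rw [Finset.coe_insert, Finset.coe_pair] at h
  exact h.trans Finset.card_le_three

/-- A frame for any form in dimension at least seven. -/
lemma exists_frame [Fintype F] (hnd : NDPolar Q) (h2 : (2 : F) ≠ 0) (hn : 11 ≤ Fintype.card ι) :
    Nonempty (Frame Q) := by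
  classical
  have hpair : ∀ D : Submodule F (ι → F), 2 * Module.finrank F D + 3 ≤ Fintype.card ι →
      ∃ u v, IsHPair Q u v ∧ (∀ d ∈ D, polar Q u d = 0) ∧ ∀ d ∈ D, polar Q v d = 0 := by
    intro D hD
    obtain ⟨u, hQu, huD, hu⟩ := exists_singular_avoid (Q := Q) h2 D D (by omega)
    obtain ⟨y, huy, hy⟩ := exists_dual_vec hnd huD
    refine ⟨u, y + (-(Q y)) • u, ⟨hQu, ?_, ?_⟩, hu, fun d hd => ?_⟩
    · rw [Classical.Quad.Q_comb1, hQu, polar_comm Q y u, huy]; ring
    · rw [polar_add_right, polar_smul_right, Classical.Quad.polar_singular_self hQu, huy]; simp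
    · rw [polar_add_left, polar_smul_left, hu d hd, polar_comm, hy d hd]; simp
  obtain ⟨e₁, f₁, p₁, -, -⟩ := hpair ⊥ (by rw [finrank_bot]; omega)
  obtain ⟨e₂, f₂, p₂, he₂, hf₂⟩ := hpair (Submodule.span F {e₁, f₁})
    (by have := finrank_span_two_le e₁ f₁; omega)
  obtain ⟨e₃, f₃, p₃, he₃, hf₃⟩ := hpair (Submodule.span F {e₁, f₁} ⊔ Submodule.span F {e₂, f₂}) (by
    have := finrank_span_two_le e₁ f₁
    have := finrank_span_two_le e₂ f₂
    have := Submodule.finrank_add_le_finrank_add_finrank (Submodule.span F {e₁, f₁})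
      (Submodule.span F {e₂, f₂})
    omega)
  have m1 : e₁ ∈ Submodule.span F {e₁, f₁} := Submodule.subset_span (by simp)
  have m2 : f₁ ∈ Submodule.span F {e₁, f₁} := Submodule.subset_span (by simp)
  have n1 : e₂ ∈ Submodule.span F {e₂, f₂} := Submodule.subset_span (by simp)
  have n2 : f₂ ∈ Submodule.span F {e₂, f₂} := Submodule.subset_span (by simp)
  exact ⟨{
    e₁ := e₁, f₁ := f₁, e₂ := e₂, f₂ := f₂, a := e₃ + f₃, pair₁ := p₁, pair₂ := p₂
    e₁e₂ := by rw [polar_comm]; exact he₂ _ m1
    e₁f₂ := by rw [polar_comm]; exact hf₂ _ m1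
    f₁e₂ := by rw [polar_comm]; exact he₂ _ m2
    f₁f₂ := by rw [polar_comm]; exact hf₂ _ m2
    ae₁ := by rw [polar_add_left, he₃ _ (Submodule.mem_sup_left m1), hf₃ _ (Submodule.mem_sup_left m1), add_zero]
    af₁ := by rw [polar_add_left, he₃ _ (Submodule.mem_sup_left m2), hf₃ _ (Submodule.mem_sup_left m2), add_zero]
    ae₂ := by rw [polar_add_left, he₃ _ (Submodule.mem_sup_right n1), hf₃ _ (Submodule.mem_sup_right n1), add_zero]
    af₂ := by rw [polar_add_left, he₃ _ (Submodule.mem_sup_right n2), hf₃ _ (Submodule.mem_sup_right n2), add_zero]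
    Qa := by rw [QuadraticMap.map_add Q, p₃.1, p₃.2.1, p₃.2.2]; simp }⟩

variable [Fintype F] [DecidableEq F] {M : Subgroup (GL ι F)}

/-- The orthogonal group and one transvection of singular type generate. -/
lemma sl_le_of_tq (hnd : NDPolar Q) (h2 : (2 : F) ≠ 0) (hn : 11 ≤ Fintype.card ι) (P : Frame Q)
    (hO : omegaGL ⇑Q ≤ M) {v₀ r₀ : ι → F} (hr₀ : Q r₀ = 0) (hr₀0 : r₀ ≠ 0) (hv₀ : v₀ ≠ 0)
    (hvr : polar Q v₀ r₀ = 0) (ht₀ : tq Q v₀ r₀ ∈ M) : specialLinear ι F ≤ M := by
  classical
  have hconj : ∀ h ∈ omegaGL ⇑Q, ∀ v r : ι → F, polar Q v r = 0 → tq Q v r ∈ M →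
      tq Q ((h : Matrix ι ι F) *ᵥ v) ((h : Matrix ι ι F) *ᵥ r) ∈ M := fun h hh v r hvr ht => by
    rw [← tq_conj hnd hh hvr]
    exact M.mul_mem (M.mul_mem (hO hh) ht) (M.inv_mem (hO hh))
  have hmove : ∀ r r' : ι → F, Q r = 0 → r ≠ 0 → Q r' = 0 → r' ≠ 0 →
      ∃ h ∈ omegaGL ⇑Q, (h : Matrix ι ι F) *ᵥ r = r' := fun r r' h h0 h' h0' => by
    obtain ⟨a, ha, har⟩ := Asch.omega_move_singular hnd P h h0
    obtain ⟨b, hb, hbr⟩ := Asch.omega_move_singular hnd P h' h0'
    exact ⟨b⁻¹ * a, mul_mem (inv_mem hb) ha, by rw [gl_mulVec_mul, har, ← hbr, gl_inv_mulVec_mulVec]⟩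
  have hadd : ∀ v v' r : ι → F, polar Q v r = 0 → polar Q v' r = 0 → tq Q v r ∈ M → tq Q v' r ∈ M →
      tq Q (v + v') r ∈ M := fun v v' r h h' m m' => by
    have : tq Q (v + v') r = tq Q v r * tq Q v' r := gl_ext_mulVec fun x => by
      rw [gl_mulVec_mul, tq_mulVec hnd h', tq_mulVec hnd h, tq_mulVec hnd
        (by rw [polar_add_left, h, h', add_zero]), polar_add_left, polar_smul_left, h', smul_zero,
        add_zero, smul_add]
      abel
    rw [this]; exact M.mul_mem m m'
  have hneg : ∀ v r : ι → F, polar Q v r = 0 → tq Q v r ∈ M → tq Q (-v) r ∈ M := fun v r h m => by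
    have : tq Q (-v) r = (tq Q v r)⁻¹ := by
      refine eq_inv_of_mul_eq_one_left (gl_ext_mulVec fun x => ?_)
      rw [gl_mulVec_mul, tq_mulVec hnd h, tq_mulVec hnd (by rw [polar_neg_left, h, neg_zero]),
        polar_add_left, polar_smul_left, h, Units.val_one, one_mulVec]
      simp
    rw [this]; exact M.inv_mem m
  -- a transvection whose two vectors are independent
  obtain ⟨r, v, hr, hr0, hvr, ht, hv⟩ : ∃ r v, Q r = 0 ∧ r ≠ 0 ∧ polar Q v r = 0 ∧ tq Q v r ∈ M ∧
      ∀ l : F, v ≠ l • r := by
    by_cases hl : ∃ l : F, v₀ = l • r₀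
    swap
    · push Not at hl; exact ⟨r₀, v₀, hr₀, hr₀0, hvr, ht₀, hl⟩
    obtain ⟨c, hc⟩ := hl
    have hc0 : c ≠ 0 := fun h => hv₀ (by rw [hc, h, zero_smul])
    set e := r₀
    have hall : ∀ p : ι → F, Q p = 0 → p ≠ 0 → tq Q (c • p) p ∈ M := fun p hp hp0 => by
      obtain ⟨h, hh, hhe⟩ := hmove e p hr₀ hr₀0 hp hp0
      have := hconj h hh v₀ e hvr ht₀
      rwa [hc, mulVec_smul, hhe] at this
    obtain ⟨y, hey, -⟩ := exists_dual_vec hnd (D := ⊥) (x := e) (by simpa using hr₀0)
    set f := y + (-(Q y)) • e with hf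
    have hQf : Q f = 0 := by rw [hf, Classical.Quad.Q_comb1, hr₀, polar_comm Q y e, hey]; ring
    have hef : polar Q e f = 1 := by
      rw [hf, polar_add_right, polar_smul_right, Classical.Quad.polar_singular_self hr₀, hey]; simp
    clear_value f
    have hee := Classical.Quad.polar_singular_self hr₀
    have hff := Classical.Quad.polar_singular_self hQf
    have hfe : polar Q f e = 1 := by rw [polar_comm, hef]
    obtain ⟨p, hQp, hpD, hp⟩ := exists_singular_avoid (Q := Q) h2 (Submodule.span F {e, f})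
      (Submodule.span F {e, f}) (by have := finrank_span_two_le e f; omega)
    obtain ⟨q, hpq, hq⟩ := exists_dual_vec hnd hpD
    have me : e ∈ Submodule.span F {e, f} := Submodule.subset_span (by simp)
    have mf : f ∈ Submodule.span F {e, f} := Submodule.subset_span (by simp)
    set g₀ := q + (c - Q q) • p with hg₀
    have hQg : Q g₀ = c := by rw [hg₀, Classical.Quad.Q_comb1, hQp, polar_comm Q q p, hpq]; ring
    have hge : polar Q g₀ e = 0 := by
      rw [hg₀, polar_add_left, polar_smul_left, hp e me, polar_comm Q q e, hq e me]; simp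
    have hgf : polar Q g₀ f = 0 := by
      rw [hg₀, polar_add_left, polar_smul_left, hp f mf, polar_comm Q q f, hq f mf]; simp
    clear_value g₀
    set h := g₀ + (1 : F) • e + (-c) • f with hh
    have hQh : Q h = 0 := by
      rw [hh, Classical.Quad.Q_comb, hQg, hr₀, hQf, hge, hgf, hef]; ring
    have hhe : polar Q h e = -c := by
      simp only [hh, polar_add_left, polar_smul_left, hge, hee, hfe, smul_eq_mul]; ring
    have hhf : polar Q h f = 1 := by
      simp only [hh, polar_add_left, polar_smul_left, hgf, hef, hff, smul_eq_mul]; ring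
    clear_value h
    have hh0 : h ≠ 0 := fun e' => one_ne_zero (α := F) (by rw [← hhf, e', polar_zero_left])
    have hf0 : f ≠ 0 := fun e' => one_ne_zero (α := F) (by rw [← hef, e', polar_zero_right])
    set β := e - c • f with hβ
    set a := c • e + (c * c) • f with ha
    have hββ : ∀ x, polar Q x β = polar Q x e - c * polar Q x f := fun x => by
      rw [hβ, polar_sub_right, polar_smul_right, smul_eq_mul]
    have hab : polar Q a β = 0 := by
      simp only [hββ, ha, polar_add_left, polar_smul_left, hee, hfe, hef, hff, smul_eq_mul]; ring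
    have hha : polar Q a h = 0 := by
      simp only [ha, polar_add_left, polar_smul_left, polar_comm Q e h, polar_comm Q f h, hhe, hhf,
        smul_eq_mul]
      ring
    have hcf : polar Q (c • f) f = 0 := by rw [polar_smul_left, hff, smul_zero]
    have hce : polar Q (c • e) e = 0 := by rw [polar_smul_left, hee, smul_zero]
    have hch : polar Q (c • h) h = 0 := by
      rw [polar_smul_left, Classical.Quad.polar_singular_self hQh, smul_zero]
    have hs2 : tq Q a β ∈ M := by
      have : tq Q a β = tq Q (c • f) f * tq Q (c • e) e * (tq Q (c • f) f)⁻¹ := by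
        rw [eq_mul_inv_iff_mul_eq]
        refine gl_ext_mulVec fun x => ?_
        simp only [gl_mulVec_mul, tq_mulVec hnd hcf, tq_mulVec hnd hce, tq_mulVec hnd hab]
        simp only [hββ, ha, polar_add_left, polar_smul_left, hfe, hef, hff, smul_eq_mul]
        module
      rw [this]
      exact M.mul_mem (M.mul_mem (hall f hQf hf0) (hall e hr₀ hr₀0)) (M.inv_mem (hall f hQf hf0))
    set k := c * polar Q h β with hk
    have hkv : polar Q (k • a) h = 0 := by rw [polar_smul_left, hha, smul_zero]
    have hk0 : k ≠ 0 := by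
      rw [hk, hββ, hhe, hhf]
      refine mul_ne_zero hc0 ?_
      intro e'
      exact mul_ne_zero h2 hc0 (by linear_combination -e')
    refine ⟨h, k • a, hQh, hh0, hkv, ?_, fun l hl => ?_⟩
    · have : tq Q (k • a) h = tq Q a β * tq Q (c • h) h * (tq Q (c • h) h * tq Q a β)⁻¹ := by
        rw [eq_mul_inv_iff_mul_eq]
        refine gl_ext_mulVec fun x => ?_
        simp only [gl_mulVec_mul, tq_mulVec hnd hkv, tq_mulVec hnd hab, tq_mulVec hnd hch]
        simp only [polar_add_left, polar_smul_left, hha, hab, Classical.Quad.polar_singular_self hQh,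
          smul_eq_mul, mul_zero, add_zero, hk]
        module
      rw [this]
      have m := hall h hQh hh0
      exact M.mul_mem (M.mul_mem hs2 m) (M.inv_mem (M.mul_mem m hs2))
    · have h' := congrArg (fun z => polar Q z β) hl
      simp only [polar_smul_left, hab, smul_eq_mul, mul_zero] at h'
      have hl0 : l = 0 := (mul_eq_zero.1 h'.symm).resolve_right fun e' => hk0 (by rw [hk, e', mul_zero])
      rw [hl0, zero_smul, smul_eq_zero] at hl
      have := congrArg (fun z => polar Q z f) (hl.resolve_left hk0)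
      simp only [ha, polar_add_left, polar_smul_left, hef, hff, smul_eq_mul, polar_zero_left] at this
      exact hc0 (by linear_combination this)
  -- the whole hyperplane
  have hline : ∀ v r : ι → F, Q r = 0 → polar Q v r = 0 → (∀ l : F, v ≠ l • r) → tq Q v r ∈ M →
      ∀ x, polar Q x r = 0 → polar Q x v = 0 → tq Q x r ∈ M := by
    intro v r hr hvr hv ht
    have hrr := Classical.Quad.polar_singular_self hr
    rcases eq_or_ne r 0 with rfl | hr0
    · intro x hx _
      have : tq Q x (0 : ι → F) = 1 := gl_ext_mulVec fun z => by simp [tq_mulVec hnd hx]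
      rw [this]; exact M.one_mem
    have hvr' : v ∉ Submodule.span F {r} := fun h => by
      obtain ⟨l, hl⟩ := Submodule.mem_span_singleton.1 h
      exact hv l hl.symm
    obtain ⟨y, hvy, hy⟩ := exists_dual_vec hnd hvr'
    have hyr : polar Q r y = 0 := hy r (Submodule.mem_span_singleton_self r)
    have hFr : ∀ s : F, tq Q (s • r) r ∈ M := by
      intro s
      have hw : polar Q r (s • y) = 0 := by rw [polar_smul_right, hyr, smul_zero]
      obtain ⟨k, hk, hkx⟩ := exists_sg hnd P hr hw
      have e1 : (k : Matrix ι ι F) *ᵥ v = v + (-s) • r := by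
        rw [hkx, hvr, polar_smul_right, hvy]; simp
      have e2 : (k : Matrix ι ι F) *ᵥ r = r := by
        rw [hkx, hrr, hw]; simp
      have h1 := hconj k hk v r hvr ht
      rw [e1, e2] at h1
      have h' : polar Q (v + (-s) • r) r = 0 := by rw [polar_add_left, polar_smul_left, hvr, hrr]; simp
      have h3 := hadd _ _ r hvr (by rw [polar_neg_left, h', neg_zero]) ht (hneg _ _ h' h1)
      rwa [show v + -(v + -s • r) = s • r by module] at h3
    have hsing : ∀ p, Q p = 0 → polar Q p r = 0 → polar Q p v = 0 →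
        p ∉ Submodule.span F {r, v} → tq Q p r ∈ M := by
      intro p hp hpr hpv hpn
      have hvn : v ∉ Submodule.span F {r, p} := fun h => by
        obtain ⟨a, b, hab⟩ := Submodule.mem_span_pair.1 h
        rcases eq_or_ne b 0 with rfl | hb
        · exact hv a (by rw [← hab, zero_smul, add_zero])
        · exact hpn (Submodule.mem_span_pair.2 ⟨-(b⁻¹ * a), b⁻¹, by
            rw [← hab, smul_add, smul_smul, smul_smul, inv_mul_cancel₀ hb]; module⟩)
      obtain ⟨w, hvw, hw⟩ := exists_dual_vec hnd hvn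
      have hrw : polar Q r w = 0 := hw r (Submodule.subset_span (by simp))
      have hpw : polar Q p w = 0 := hw p (Submodule.subset_span (by simp))
      obtain ⟨k, hk, hkx⟩ := exists_sg hnd P hp hpw
      have e1 : (k : Matrix ι ι F) *ᵥ v = v + (-1 : F) • p := by
        rw [hkx, polar_comm Q v p, hpv, hvw]; simp
      have e2 : (k : Matrix ι ι F) *ᵥ r = r := by
        rw [hkx, polar_comm Q r p, hpr, hrw]; simp
      have h1 := hconj k hk v r hvr ht
      rw [e1, e2] at h1
      have h' : polar Q (v + (-1 : F) • p) r = 0 := by rw [polar_add_left, polar_smul_left, hvr, hpr]; simp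
      have h3 := hadd _ _ r hvr (by rw [polar_neg_left, h', neg_zero]) ht (hneg _ _ h' h1)
      rwa [show v + -(v + (-1 : F) • p) = p by module] at h3
    let S : AddSubgroup (ι → F) :=
      { carrier := {x | polar Q x r = 0 ∧ tq Q x r ∈ M}
        add_mem' := fun {a b} ha hb => ⟨by rw [polar_add_left, ha.1, hb.1, add_zero],
          hadd a b r ha.1 hb.1 ha.2 hb.2⟩
        zero_mem' := ⟨polar_zero_left Q r, by simpa using hFr 0⟩
        neg_mem' := fun {a} ha => ⟨by rw [polar_neg_left, ha.1, neg_zero], hneg a r ha.1 ha.2⟩ }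
    intro x hxr hxv
    have hdim := finrank_span_two_le r v
    refine (perp_le_of_singular hnd h2 (D := Submodule.span F {r, v}) (by omega) S (fun p hp hpD => ?_)
      (x := x) fun d hd => ?_).2
    · have hpr := hpD r (Submodule.subset_span (by simp))
      have hpv := hpD v (Submodule.subset_span (by simp))
      refine ⟨hpr, ?_⟩
      by_cases hpn : p ∈ Submodule.span F {r, v}
      swap
      · exact hsing p hp hpr hpv hpn
      obtain ⟨s, hQs, hsn, hs⟩ := exists_singular_avoid (Q := Q) h2 (Submodule.span F {r, v})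
        (Submodule.span F {r, v}) (by omega)
      have hsr := hs r (Submodule.subset_span (by simp))
      have hsv := hs v (Submodule.subset_span (by simp))
      have hps : polar Q p s = 0 := by rw [polar_comm]; exact hs p hpn
      have h1 := hsing (p + s) (by rw [QuadraticMap.map_add Q, hp, hQs, hps]; simp)
        (by rw [polar_add_left, hpr, hsr, add_zero]) (by rw [polar_add_left, hpv, hsv, add_zero])
        (fun h => hsn (by simpa using Submodule.sub_mem _ h hpn))
      have h3 := hadd _ _ r (by rw [polar_add_left, hpr, hsr, add_zero])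
        (by rw [polar_neg_left, hsr, neg_zero]) h1 (hneg _ _ hsr (hsing s hQs hsr hsv hsn))
      rwa [show p + s + -s = p by abel] at h3
    · obtain ⟨a, b, rfl⟩ := Submodule.mem_span_pair.1 hd
      rw [polar_add_right, polar_smul_right, polar_smul_right, hxr, hxv]; simp
  have hfull : ∀ x, polar Q x r = 0 → tq Q x r ∈ M := by
    intro x hx
    have hdim := finrank_span_two_le r v
    obtain ⟨s, hQs, hsn, hs⟩ := exists_singular_avoid (Q := Q) h2 (Submodule.span F {r, v})
      (Submodule.span F {r, v}) (by omega)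
    have hsr := hs r (Submodule.subset_span (by simp))
    have hts := hline v r hr hvr hv ht s hsr (hs v (Submodule.subset_span (by simp)))
    obtain ⟨y, hsy, hy⟩ := exists_dual_vec hnd hsn
    have hyr : polar Q y r = 0 := by rw [polar_comm]; exact hy r (Submodule.subset_span (by simp))
    have hyv : polar Q y v = 0 := by rw [polar_comm]; exact hy v (Submodule.subset_span (by simp))
    set k := polar Q x s with hk
    have h1 := hline v r hr hvr hv ht (k • y) (by rw [polar_smul_left, hyr, smul_zero])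
      (by rw [polar_smul_left, hyv, smul_zero])
    have e : polar Q (x - k • y) r = 0 := by rw [polar_sub_left, polar_smul_left, hx, hyr]; simp
    have h3 := hline s r hr hsr (fun l hl => hsn (Submodule.mem_span_pair.2 ⟨l, 0, by
      rw [hl, zero_smul, add_zero]⟩)) hts (x - k • y) e (by
        rw [polar_sub_left, polar_smul_left, polar_comm Q y s, hsy, ← hk]; simp)
    have := hadd _ _ r e (by rw [polar_smul_left, hyr, smul_zero]) h3 h1
    rwa [sub_add_cancel] at this
  have hsingall : ∀ r', Q r' = 0 → ∀ x, polar Q x r' = 0 → tq Q x r' ∈ M := by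
    intro r' hr' x hx
    rcases eq_or_ne r' 0 with rfl | hr'0
    · have : tq Q x (0 : ι → F) = 1 := gl_ext_mulVec fun z => by simp [tq_mulVec hnd hx]
      rw [this]; exact M.one_mem
    obtain ⟨h, hh, hhr⟩ := hmove r r' hr hr0 hr' hr'0
    set x' := ((h⁻¹ : GL ι F) : Matrix ι ι F) *ᵥ x with hx'
    have e : (h : Matrix ι ι F) *ᵥ x' = x := gl_mulVec_inv_mulVec h x
    have e' : polar Q x' r = 0 := by rw [← omega_polar hh, e, hhr, hx]
    have := hconj h hh x' r e' (hfull x' e')
    rwa [e, hhr] at this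
  refine sl_le_of_tvGL fun u φ hφ => ?_
  let L : (ι → F) →ₗ[F] F :=
    { toFun := fun z => φ ⬝ᵥ z
      map_add' := fun a b => dotProduct_add φ a b
      map_smul' := fun a b => by simp [dotProduct_smul] }
  obtain ⟨w, hw⟩ := Classical.Quad.exists_polar hnd L
  have huw : polar Q u w = 0 := by rw [polar_comm, hw]; exact hφ
  suffices tq Q u w ∈ M by
    have e : tvGL u φ = tq Q u w := gl_ext_mulVec fun z => by
      rw [tvGL_mulVec hφ, tq_mulVec hnd huw, polar_comm Q z w, hw]; rfl
    rw [e]; exact this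
  let R : AddSubgroup (ι → F) :=
    { carrier := {z | polar Q u z = 0 ∧ tq Q u z ∈ M}
      add_mem' := fun {a b} ha hb => ⟨by rw [polar_add_right, ha.1, hb.1, add_zero], by
        have : tq Q u (a + b) = tq Q u a * tq Q u b := gl_ext_mulVec fun z => by
          rw [gl_mulVec_mul, tq_mulVec hnd hb.1, tq_mulVec hnd ha.1, tq_mulVec hnd
            (by rw [polar_add_right, ha.1, hb.1, add_zero]), polar_add_left, polar_smul_left, ha.1,
            smul_zero, add_zero, polar_add_right, add_smul]
          abel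
        rw [this]; exact M.mul_mem ha.2 hb.2⟩
      zero_mem' := ⟨polar_zero_right Q u, by
        rw [show tq Q u (0 : ι → F) = 1 from gl_ext_mulVec fun z => by
          simp [tq_mulVec hnd (polar_zero_right Q u)]]
        exact M.one_mem⟩
      neg_mem' := fun {a} ha => ⟨by rw [polar_neg_right, ha.1, neg_zero], by
        rw [show tq Q u (-a) = (tq Q u a)⁻¹ from eq_inv_of_mul_eq_one_left (gl_ext_mulVec fun z => by
          rw [gl_mulVec_mul, tq_mulVec hnd ha.1, tq_mulVec hnd (by rw [polar_neg_right, ha.1, neg_zero]),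
            polar_neg_right, polar_add_left, polar_smul_left, ha.1, Units.val_one, one_mulVec]
          simp)]
        exact M.inv_mem ha.2⟩ }
  have hdim : Module.finrank F (Submodule.span F {u}) ≤ 1 := by
    simpa using finrank_span_le_card (R := F) ({u} : Set (ι → F))
  refine (perp_le_of_singular hnd h2 (D := Submodule.span F {u}) (by omega) R (fun p hp hpD => ?_)
    (x := w) fun d hd => ?_).2
  · have hpu := hpD u (Submodule.mem_span_singleton_self u)
    exact ⟨by rw [polar_comm, hpu], hsingall p hp u (by rw [polar_comm, hpu])⟩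
  · obtain ⟨a, rfl⟩ := Submodule.mem_span_singleton.1 hd
    rw [polar_smul_right, polar_comm, huw, smul_zero]

omit [DecidableEq F] in
theorem similarity_maximal (hnd : NDPolar Q) (h2 : (2 : F) ≠ 0) (hn : 11 ≤ Fintype.card ι) :
    IsMaximalIn (specialLinear ι F) (quadSimilarityGroup ⇑Q ⊓ specialLinear ι F) := by
  classical
  obtain ⟨P⟩ := exists_frame hnd h2 hn
  have hQ := isNondegenerateQuadraticForm hnd
  refine CfsgLib.ClassicalMax.isMaximalIn_of inf_le_right ?_ ?_
  · -- a transvection which is not a similarity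
    have hEF : polar Q P.e₁ (P.e₁) = 0 := Classical.Quad.polar_singular_self P.pair₁.1
    have hb : polar Q (P.e₂ + P.f₂) P.e₁ = 0 := by
      rw [polar_add_left, polar_comm Q P.e₂, P.e₁e₂, polar_comm Q P.f₂, P.e₁f₂, add_zero]
    refine ⟨tq Q (P.e₂ + P.f₂) P.e₁, tvGL_mem_sl _ _, fun h => ?_⟩
    obtain ⟨c, hc⟩ := h.1
    have h1 := hc P.f₁
    have h2' := hc (P.e₁ + P.f₁)
    have hfe : polar Q P.f₁ P.e₁ = 1 := by rw [polar_comm, P.pair₁.2.2]
    rw [tq_mulVec hnd hb, hfe, one_smul, QuadraticMap.map_add Q, QuadraticMap.map_add Q P.e₂,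
      P.pair₁.2.1, P.pair₂.1, P.pair₂.2.1, P.pair₂.2.2, polar_add_right, P.f₁e₂, P.f₁f₂] at h1
    simp at h1
  intro M hHM hMK g hgM hgH
  have hO : omegaGL ⇑Q ≤ M := fun h hh =>
    hHM ⟨⟨1, fun x => by rw [Units.val_one, one_mul]; exact omega_iso hh x⟩, omega_le_sl _ hh⟩
  let e := LinearEquiv.ofBijective (polarBilin Q) (Classical.Quad.polarBilin_bijective hnd)
  let ψ : (ι → F) →ₗ[F] (ι → F) := e.symm.toLinearMap.comp ((LinearMap.lcomp F F
    (Matrix.toLin' ((g⁻¹ : GL ι F) : Matrix ι ι F))).comp (polarBilin Q))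
  have hψ : ∀ x u, polar Q x (ψ u) = polar Q (((g⁻¹ : GL ι F) : Matrix ι ι F) *ᵥ x) u := by
    intro x u
    rw [polar_comm Q x, polar_comm Q _ u]
    have h := LinearMap.congr_fun (e.apply_symm_apply ((LinearMap.lcomp F F
      (Matrix.toLin' ((g⁻¹ : GL ι F) : Matrix ι ι F))).comp (polarBilin Q) u)) x
    exact h.trans (by simp)
  let K : (ι → F) →ₗ[F] (ι → F) := (Matrix.toLin' ((g⁻¹ : GL ι F) : Matrix ι ι F)).comp ψ
  have hgK : ∀ u, (g : Matrix ι ι F) *ᵥ K u = ψ u := fun u => by
    simp only [K, LinearMap.comp_apply, Matrix.toLin'_apply, gl_mulVec_inv_mulVec]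
  obtain ⟨u, hQu, hKu⟩ : ∃ u, Q u = 0 ∧ ∀ l : F, K u ≠ l • u := by
    by_contra hcon
    push Not at hcon
    choose l hl using hcon
    have horth : ∀ u w (hu : Q u = 0) (hw : Q w = 0), polar Q u w = 0 → LinearIndependent F ![u, w] →
        l u hu = l w hw := by
      intro u w hu hw huw hli
      have hs : Q (u + w) = 0 := by rw [QuadraticMap.map_add Q, hu, hw, huw]; simp
      have e := hl (u + w) hs
      rw [map_add, hl u hu, hl w hw] at e
      have h0 : (l u hu - l (u + w) hs) • u + (l w hw - l (u + w) hs) • w = 0 := by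
        rw [sub_smul, sub_smul, sub_add_sub_comm, ← smul_add, e, sub_self]
      have := LinearIndependent.pair_iff.1 hli _ _ h0
      linear_combination this.1 - this.2
    have hall : ∀ u w (hu : Q u = 0) (hw : Q w = 0), u ≠ 0 → w ≠ 0 → l u hu = l w hw := by
      intro u w hu hw hu0 hw0
      have hd := finrank_span_two_le u w
      obtain ⟨z, hz, hzn, hzD⟩ := exists_singular_avoid (Q := Q) h2 (Submodule.span F {u, w})
        (Submodule.span F {u, w}) (by omega)
      have mu : u ∈ Submodule.span F {u, w} := Submodule.subset_span (by simp)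
      have mw : w ∈ Submodule.span F {u, w} := Submodule.subset_span (by simp)
      have li : ∀ x, x ∈ Submodule.span F {u, w} → x ≠ 0 → LinearIndependent F ![x, z] := fun x hx hx0 =>
        (LinearIndependent.pair_iff' hx0).2 fun a ha => hzn (ha ▸ Submodule.smul_mem _ a hx)
      exact (horth u z hu hz (by rw [polar_comm]; exact hzD u mu) (li u mu hu0)).trans
        (horth w z hw hz (by rw [polar_comm]; exact hzD w mw) (li w mw hw0)).symm
    obtain ⟨u₀, hu₀, hu₀0⟩ : ∃ u, Q u = 0 ∧ u ≠ 0 := ⟨_, P.pair₁.1, P.pair₁.left_ne_zero⟩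
    set μ₀ := l u₀ hu₀ with hmu
    have hscal : ∀ x, K x = μ₀ • x := fun x => by
      refine sub_eq_zero.1 (LinearMap.mem_ker.1
        (show x ∈ (LinearMap.ker (K - μ₀ • LinearMap.id)).toAddSubgroup from
          perp_le_of_singular hnd h2 (D := ⊥) (by rw [finrank_bot]; omega) _ (fun z hz _ => ?_)
            (x := x) fun d hd => by rw [(Submodule.mem_bot F).1 hd, polar_zero_right]))
      refine LinearMap.mem_ker.2 ?_
      change K z - μ₀ • z = 0
      rcases eq_or_ne z 0 with rfl | hz0
      · simp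
      · rw [hl z hz, hmu, hall u₀ z hu₀ hz hu₀0 hz0, sub_self]
    have hsim : ∀ y, polar Q y y = μ₀ * polar Q ((g : Matrix ι ι F) *ᵥ y) ((g : Matrix ι ι F) *ᵥ y) :=
      fun y => by
        have h := hψ ((g : Matrix ι ι F) *ᵥ y) y
        rw [gl_inv_mulVec_mulVec, ← hgK, hscal, mulVec_smul, polar_smul_right, smul_eq_mul] at h
        exact h.symm
    have hQs : ∀ y, Q y = μ₀ * Q ((g : Matrix ι ι F) *ᵥ y) := fun y => by
      have h := hsim y
      rw [Classical.Quad.polar_self', Classical.Quad.polar_self'] at h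
      exact mul_left_cancel₀ h2 (by linear_combination h)
    have hl0 : μ₀ ≠ 0 := fun h => P.Qa (by rw [hQs, h, zero_mul])
    exact hgH ⟨⟨(Units.mk0 μ₀ hl0)⁻¹, fun y => by
      rw [hQs y, Units.val_inv_eq_inv_val, Units.val_mk0, inv_mul_cancel_left₀ hl0]⟩, hMK hgM⟩
  have hu0 : u ≠ 0 := fun h => hKu 0 (by rw [h]; simp)
  obtain ⟨w, hQw, hwn, hwu⟩ := exists_singular_avoid (Q := Q) h2 (Submodule.span F {u})
    (Submodule.span F {u, K u}) (by
      have := finrank_span_two_le u (K u)
      rw [finrank_span_singleton hu0]; omega)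
  have huw : polar Q u w = 0 := by rw [polar_comm]; exact hwu u (Submodule.mem_span_singleton_self u)
  obtain ⟨τ, hτ, hτx⟩ := exists_sg hnd P hQu huw
  set τ' := g * τ * g⁻¹ with hτ'
  have hτ'M : τ' ∈ M := M.mul_mem (M.mul_mem hgM (hO hτ)) (M.inv_mem hgM)
  set gu := (g : Matrix ι ι F) *ᵥ u with hgu
  set gw := (g : Matrix ι ι F) *ᵥ w with hgw
  set a := ψ u with ha
  set b := ψ w with hb
  have hτ'x : ∀ x, (τ' : Matrix ι ι F) *ᵥ x = x + polar Q x a • gw + (-polar Q x b) • gu := fun x => by
    rw [hτ', gl_mulVec_mul, gl_mulVec_mul, hτx, hQw, ← hψ, ← hψ, ← ha, ← hb, mulVec_add, mulVec_add,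
      mulVec_smul, mulVec_smul, gl_mulVec_inv_mulVec]
    simp [hgu, hgw]
  have haD : a ∉ Submodule.span F {gu, gw} := fun h => by
    obtain ⟨s, t, hst⟩ := Submodule.mem_span_pair.1 h
    have hK : K u = s • u + t • w := gl_mulVec_injective g (by
      simp only [hgK, ← ha, ← hst, mulVec_add, mulVec_smul, hgu, hgw])
    rcases eq_or_ne t 0 with rfl | ht
    · exact hKu s (by rw [hK, zero_smul, add_zero])
    · exact hwn (Submodule.mem_span_pair.2 ⟨-(t⁻¹ * s), t⁻¹, by rw [hK]; match_scalars <;> field_simp; ring⟩)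
  obtain ⟨y, hay, hy⟩ := exists_dual_vec hnd haD
  obtain ⟨r, hQr, hrn, hrD⟩ := exists_singular_avoid (Q := Q) h2
    (Submodule.span F {gu, gw} ⊔ Submodule.span F {a, b, y}) ⊥ (by
      have := finrank_span_two_le gu gw
      have := finrank_span_three_le a b y
      have := Submodule.finrank_add_le_finrank_add_finrank (Submodule.span F {gu, gw})
        (Submodule.span F {a, b, y})
      rw [finrank_bot]; omega)
  have hr0 : r ≠ 0 := fun h => hrn (by rw [h]; exact Submodule.zero_mem _)
  have hrgu : polar Q r gu = 0 := hrD _ (Submodule.mem_sup_left (Submodule.subset_span (by simp)))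
  have hrgw : polar Q r gw = 0 := hrD _ (Submodule.mem_sup_left (Submodule.subset_span (by simp)))
  have hra : polar Q r a = 0 := hrD _ (Submodule.mem_sup_right (Submodule.subset_span (by simp)))
  have hrb : polar Q r b = 0 := hrD _ (Submodule.mem_sup_right (Submodule.subset_span (by simp)))
  have hry : polar Q r y = 0 := hrD _ (Submodule.mem_sup_right (Submodule.subset_span (by simp)))
  obtain ⟨p, hQp, hpu, hpw, hpr, hpa⟩ : ∃ p, Q p = 0 ∧ polar Q p gu = 0 ∧ polar Q p gw = 0 ∧
      polar Q p r = 0 ∧ polar Q p a ≠ 0 := by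
    by_contra hcon
    push Not at hcon
    have h := perp_le_of_singular hnd h2 (D := Submodule.span F {gu, gw, r})
      (by have := finrank_span_three_le gu gw r; omega)
      (LinearMap.ker ((polarBilin Q).flip a)).toAddSubgroup
      (fun z hz hzD => LinearMap.mem_ker.2 (hcon z hz (hzD _ (Submodule.subset_span (by simp)))
        (hzD _ (Submodule.subset_span (by simp))) (hzD _ (Submodule.subset_span (by simp)))))
      (x := y) (fun d hd => by
        have : Submodule.span F {gu, gw, r} ≤ LinearMap.ker (polarBilin Q y) := by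
          refine Submodule.span_le.2 ?_
          rintro z (rfl | rfl | rfl)
          · exact LinearMap.mem_ker.2 (by change polar Q y _ = 0; rw [polar_comm]; exact hy _ (Submodule.subset_span (by simp)))
          · exact LinearMap.mem_ker.2 (by change polar Q y _ = 0; rw [polar_comm]; exact hy _ (Submodule.subset_span (by simp)))
          · exact LinearMap.mem_ker.2 (by change polar Q y _ = 0; rw [polar_comm]; exact hry)
        exact LinearMap.mem_ker.1 (this hd))
    exact one_ne_zero (α := F) (by rw [← hay, polar_comm]; exact LinearMap.mem_ker.1 h)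
  obtain ⟨η, hη, hηx⟩ := exists_sg hnd P hQp hpr
  set v := polar Q p a • gw + (-polar Q p b) • gu with hv
  have hvr : polar Q v (-r) = 0 := by
    rw [hv, polar_neg_right, polar_add_left, polar_smul_left, polar_smul_left, polar_comm Q gw,
      hrgw, polar_comm Q gu, hrgu]
    simp
  have hv0 : v ≠ 0 := by
    rw [hv, hgu, hgw, ← mulVec_smul, ← mulVec_smul, ← mulVec_add]
    refine gl_mulVec_ne_zero g fun h => hwn (Submodule.mem_span_pair.2 ⟨polar Q p b / polar Q p a, 0, ?_⟩)
    have h' : polar Q p a • w = polar Q p b • u := by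
      rw [← sub_eq_zero, ← h]; module
    rw [zero_smul, add_zero, div_eq_inv_mul, mul_smul, ← h', smul_smul, inv_mul_cancel₀ hpa, one_smul]
  refine sl_le_of_tq hnd h2 hn P hO (v₀ := v) (r₀ := -r) (by rw [QuadraticMap.map_neg, hQr])
    (neg_ne_zero.2 hr0) hv0 hvr ?_
  have : tq Q v (-r) = τ' * η * (η * τ')⁻¹ := by
    rw [eq_mul_inv_iff_mul_eq]
    refine gl_ext_mulVec fun x => ?_
    simp only [gl_mulVec_mul, tq_mulVec hnd hvr, hηx _, hτ'x]
    simp only [hQr, polar_neg_right, polar_add_left,
      polar_smul_left, smul_eq_mul, hpr, Classical.Quad.polar_singular_self hQr,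
      polar_comm Q gu r, hrgu, polar_comm Q gw r, hrgw, polar_comm Q gu p, hpu, polar_comm Q gw p, hpw,
      hra, hrb, hv]
    module
  rw [this]
  exact M.mul_mem (M.mul_mem hτ'M (hO hη)) (M.inv_mem (M.mul_mem (hO hη) hτ'M))

end CfsgLib.ClassicalMax.QuadSim
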