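/-
An orthogonal subfield group is maximal in the special unitary group, odd characteristic.
-/
import Cfsg.Agent.Lib.ClassicalMax.UnitShort
import Cfsg.Agent.Lib.ClassicalMax.UnitSympSubfield
import Cfsg.Agent.Lib.ClassicalMax.RatSubfield
import Cfsg.Agent.Lib.ClassicalMax.QuadSim
set_option autoImplicit false

namespace CfsgLib.ClassicalMax.Unit

open Matrix Cfsg.Geo QuadraticMap
open CfsgLib.Classical.Quad (NDPolar)
open CfsgLib.ClassicalMax.QuadSim (exists_singular_avoid exists_dual_vec perp_le_of_singular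
  finrank_span_two_le finrank_span_three_le)

variable {ι : Type} [Fintype ι] [DecidableEq ι] {F : Type*} [Field F] [Fintype F]
  {σ : F ≃+* F} {f : (ι → F) → (ι → F) → F}

omit [Fintype F] in
lemma uTv_smul (hf : IsUnitaryForm σ f) [DecidableEq F] {v : ι → F} (hv : f v v = 0) (a c : F) :
    uTv hf (a • v) c = uTv hf v (c * (a * σ a)) := by
  refine gl_ext_mulVec fun x => ?_
  rw [uTv_mulVec hf (by rw [hf.smul_left, smul_right hf, hv, mul_zero, mul_zero]),
    uTv_mulVec hf hv, smul_right hf, smul_smul]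
  congr 2
  ring

omit [Fintype F] in
lemma uTv_mul (hf : IsUnitaryForm σ f) [DecidableEq F] {v : ι → F} (hv : f v v = 0) (c d : F) :
    uTv hf v c * uTv hf v d = uTv hf v (c + d) := by
  refine gl_ext_mulVec fun x => ?_
  simp only [gl_mulVec_mul, uTv_mulVec hf hv, hf.add_left, hf.smul_left, hv]
  module

omit [Fintype F] in
/-- The sum of two non-orthogonal members of `uSet` is again one, if isotropic. -/
lemma uSet_add (hf : IsUnitaryForm σ f) [DecidableEq F] {M : Subgroup (GL ι F)} {u w : ι → F}
    (hu : u ∈ uSet hf M) (hw : w ∈ uSet hf M) (h : f w u ≠ 0) (hs : f (u + w) (u + w) = 0) :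
    u + w ∈ uSet hf M := by
  rw [hf.add_left, add_right hf, add_right hf, hu.1, hw.1, zero_add, add_zero] at hs
  have hc : σ (1 / f w u) = -(1 / f w u) := by
    rw [map_div₀, map_one, ← hf.herm, eq_neg_of_add_eq_zero_left hs, div_neg]
  have := uSet_mulVec hf (hu.2 _ hc) (uTv_mem_isoOf hf hu.1 hc) hw
  rw [uTv_mulVec hf hu.1, one_div, inv_mul_cancel₀ h, one_smul] at this
  rwa [add_comm]

set_option maxHeartbeats 1600000 in
theorem orth_subfield_maximal (hf : IsUnitaryForm σ f) (h2 : (2 : F) ≠ 0)
    (hn : 10 ≤ Fintype.card ι) (F₀ : Subfield F)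
    (hcard : Fintype.card F = Nat.card F₀ ^ 2) (hF₀ : ∀ a ∈ F₀, σ a = a) (P : GL ι F)
    (hP : IsFormRationalStructure f F₀ 1 P) :
    IsMaximalIn (isoOf f ⊓ specialLinear ι F)
      (subfieldSubgroup F₀ P ⊓ (isoOf f ⊓ specialLinear ι F)) := by
  classical
  haveI : Fintype F₀ := Fintype.ofFinite F₀
  have hfixed : ∀ a, σ a = a → a ∈ F₀ := by
    have hc := (exists_card_eq hf.ne_refl hf.involutive).1
    rw [hcard] at hc
    have hK : F₀ ≤ fixedField σ := fun a ha => hF₀ a ha
    have heq : (F₀ : Set F) = fixedField σ := Set.eq_of_subset_of_ncard_le hK (by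
      rw [← Nat.card_coe_set_eq, ← Nat.card_coe_set_eq]
      exact le_of_eq (Nat.pow_left_injective two_ne_zero hc).symm) (Set.toFinite _)
    intro a ha
    have : a ∈ (fixedField σ : Set F) := ha
    rwa [← heq] at this
  have h20 : (2 : F₀) ≠ 0 := fun h => h2 (congrArg Subtype.val h)
  have hF : ∀ c : F₀, σ (c : F) = c := fun c => hF₀ _ c.2
  obtain ⟨τ, hτ0, hτ⟩ := exists_trace_zero hf.ne_refl hf.involutive
  have hττ : τ * τ ∈ F₀ := hfixed _ (by rw [map_mul, hτ, neg_mul_neg])
  -- scalars over the subfield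
  have hscal : ∀ l : F, ∃ x y : F₀, l = (x : F) + τ * y := by
    intro l
    refine ⟨⟨(l + σ l) / 2, hfixed _ ?_⟩, ⟨(l - σ l) / (2 * τ), hfixed _ ?_⟩, ?_⟩
    · rw [map_div₀, map_add, hf.involutive, map_ofNat, add_comm]
    · rw [map_div₀, map_sub, map_mul, hf.involutive, map_ofNat, hτ, mul_neg, div_neg, ← neg_div,
        neg_sub]
    · field_simp
      ring
  have hscal0 : ∀ x y : F, σ x = x → σ y = y → x + τ * y = 0 → x = 0 ∧ y = 0 := by
    intro x y hx hy h
    have h' := congrArg σ h
    rw [map_add, map_mul, hx, hy, hτ, map_zero] at h'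
    have hx0 : x = 0 := (mul_eq_zero.1 (show (2 : F) * x = 0 by linear_combination h + h')).resolve_left h2
    rw [hx0, zero_add] at h
    exact ⟨hx0, (mul_eq_zero.1 h).resolve_left hτ0⟩
  -- the rational vectors
  let e : (ι → F₀) → (ι → F) := ratVec P
  have eadd : ∀ x y, e (x + y) = e x + e y := ratVec_add P
  have esmul : ∀ (c : F₀) x, e (c • x) = (c : F) • e x := ratVec_smul P
  have e0 : e 0 = 0 := by simpa using eadd 0 0
  have eneg : ∀ x, e (-x) = -e x := fun x => eq_neg_of_add_eq_zero_left (by rw [← eadd, neg_add_cancel, e0])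
  have esub : ∀ x y, e (x - y) = e x - e y := fun x y => by rw [sub_eq_add_neg, eadd, eneg, sub_eq_add_neg]
  have einj : Function.Injective e := ratVec_injective P
  have hcoord : ∀ v : ι → F, ∃ a b : ι → F₀, v = e a + τ • e b := by
    intro v
    choose a b hab using fun i => hscal ((((P⁻¹ : GL ι F) : Matrix ι ι F) *ᵥ v) i)
    refine ⟨a, b, ?_⟩
    simp only [e, ratVec]
    rw [← mulVec_smul, ← mulVec_add]
    conv_lhs => rw [← gl_mulVec_inv_mulVec P v]
    exact congrArg _ (funext fun i => by rw [hab i]; rfl)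
  have huniq : ∀ a b : ι → F₀, e a + τ • e b = 0 → a = 0 ∧ b = 0 := by
    intro a b h
    have h' := congrArg (fun z => ((P⁻¹ : GL ι F) : Matrix ι ι F) *ᵥ z) h
    simp only [e, ratVec, mulVec_add, mulVec_smul, gl_inv_mulVec_mulVec, mulVec_zero] at h'
    exact ⟨funext fun i => Subtype.ext (hscal0 _ _ (hF _) (hF _) (congrFun h' i)).1,
      funext fun i => Subtype.ext (hscal0 _ _ (hF _) (hF _) (congrFun h' i)).2⟩
  have hindep : ∀ a b : ι → F₀, LinearIndependent F₀ ![a, b] → ∀ (l : F) (r : ι → F₀),
      e a + τ • e b ≠ l • e r := by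
    intro a b hab l r h
    obtain ⟨x, y, rfl⟩ := hscal l
    obtain ⟨ha, hb⟩ := huniq (a - x • r) (b - y • r) (by
      rw [esub, esub, esmul, esmul, smul_sub, smul_smul]
      linear_combination (norm := module) h)
    rw [sub_eq_zero] at ha hb
    subst ha hb
    rw [LinearIndependent.pair_iff] at hab
    by_cases hy : y = 0
    · exact one_ne_zero (hab 0 1 (by rw [hy]; simp)).2
    · exact hy (hab y (-x) (by rw [smul_smul, smul_smul]; module)).1
  have hline : ∀ a b : ι → F₀, ¬ LinearIndependent F₀ ![a, b] →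
      ∃ (l : F) (r : ι → F₀), e a + τ • e b = l • e r := by
    intro a b h
    by_cases ha : a = 0
    · exact ⟨τ, b, by rw [ha, e0, zero_add]⟩
    · rw [LinearIndependent.pair_iff' ha] at h
      push Not at h
      obtain ⟨c, rfl⟩ := h
      exact ⟨1 + τ * (c : F), a, by rw [esmul, smul_smul, add_smul, one_smul]⟩
  -- the rational form
  have hmem : ∀ x y, f (e x) (e y) ∈ F₀ := fun x y => by
    have := hP _ _ (fun i => (x i).2) (fun i => (y i).2)
    rwa [one_mul] at this
  have hfix : ∀ x y, σ (f (e x) (e y)) = f (e x) (e y) := fun x y => hF₀ _ (hmem x y)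
  have hsym : ∀ x y, f (e y) (e x) = f (e x) (e y) := fun x y => by rw [hf.herm, hfix]
  let B : (ι → F₀) →ₗ[F₀] (ι → F₀) →ₗ[F₀] F₀ := LinearMap.mk₂ F₀
    (fun x y => ⟨f (e x) (e y), hmem x y⟩)
    (fun x x' y => Subtype.ext (by simp [eadd, hf.add_left]))
    (fun c x y => Subtype.ext (by simp [esmul, hf.smul_left]))
    (fun x y y' => Subtype.ext (by simp [eadd, add_right hf]))
    (fun c x y => Subtype.ext (by simp [esmul, smul_right hf, hF]))
  let Q : QuadraticForm F₀ (ι → F₀) := LinearMap.BilinMap.toQuadraticMap B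
  have hQ : ∀ x, (Q x : F) = f (e x) (e x) := fun x => rfl
  have hpol : ∀ x y, ((polar Q x y : F₀) : F) = 2 * f (e x) (e y) := fun x y => by
    simp only [polar, Subfield.coe_sub, hQ, eadd, hf.add_left, add_right hf, hsym x y]
    ring
  have hperp : ∀ x y, polar Q x y = 0 ↔ f (e x) (e y) = 0 := fun x y => by
    rw [Subtype.ext_iff, hpol]
    exact ⟨fun h => (mul_eq_zero.1 h).resolve_left h2, fun h => by rw [h, mul_zero]; rfl⟩
  have hsing : ∀ x, Q x = 0 ↔ f (e x) (e x) = 0 := fun x => by
    rw [Subtype.ext_iff, hQ]; rfl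
  have hpar : ∀ x A C, f (e x) (e A + τ • e C) = f (e x) (e A) + τ * (-f (e x) (e C)) := by
    intro x A C
    rw [add_right hf, smul_right hf, hτ]
    ring
  have hpar0 : ∀ x A C, f (e x) (e A + τ • e C) = 0 → polar Q x A = 0 ∧ polar Q x C = 0 := by
    intro x A C h
    rw [hpar] at h
    obtain ⟨h1, h3⟩ := hscal0 _ _ (hfix _ _) (by rw [map_neg, hfix]) h
    exact ⟨(hperp _ _).2 h1, (hperp _ _).2 (neg_eq_zero.1 h3)⟩
  have hnd : NDPolar Q := by
    intro x hx
    by_contra hx0
    obtain ⟨z, hz⟩ := (hf.nondegenerate (e x) fun h => hx0 (einj (h.trans e0.symm))).1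
    obtain ⟨a, b, rfl⟩ := hcoord z
    apply hz
    rw [hf.add_left, hf.smul_left, (hperp _ _).1 (by rw [polar_comm]; exact hx a),
      (hperp _ _).1 (by rw [polar_comm]; exact hx b), mul_zero, add_zero]
  -- auxiliary facts about the rational form
  have hL1 : ∀ u A : ι → F₀, (∀ x, polar Q x u = 0 → polar Q x A = 0) →
      A ∈ Submodule.span F₀ {u} := by
    intro u A h
    by_contra hA
    obtain ⟨y, hy1, hy2⟩ := exists_dual_vec hnd hA
    have := h y (by rw [polar_comm]; exact hy2 u (Submodule.mem_span_singleton_self u))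
    rw [polar_comm, hy1] at this
    exact one_ne_zero this
  have hspan2 : ∀ a b x : ι → F₀, polar Q x a = 0 → polar Q x b = 0 →
      ∀ d ∈ Submodule.span F₀ {a, b}, polar Q x d = 0 := by
    intro a b x ha hb d hd
    obtain ⟨s, t, rfl⟩ := Submodule.mem_span_pair.1 hd
    rw [polar_add_right, polar_smul_right, polar_smul_right, ha, hb, smul_zero, smul_zero, add_zero]
  have hpres : ∀ a b : ι → F₀, LinearIndependent F₀ ![a, b] → ∀ α β : F₀,
      ∃ p, Q p = 0 ∧ polar Q a p = α ∧ polar Q b p = β := by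
    intro a b hab α β
    have := finrank_span_two_le a b
    obtain ⟨s, hs0, hsE, hsD⟩ := exists_singular_avoid (Q := Q) h20 (Submodule.span F₀ {a, b})
      (Submodule.span F₀ {a, b}) (by omega)
    have ha : a ∉ Submodule.span F₀ {b, s} := by
      intro h
      obtain ⟨x, y, hxy⟩ := Submodule.mem_span_pair.1 h
      by_cases hy : y = 0
      · rw [hy, zero_smul, add_zero] at hxy
        exact one_ne_zero (LinearIndependent.pair_iff.1 hab 1 (-x) (by rw [← hxy]; module)).1
      · refine hsE (Submodule.mem_span_pair.2 ⟨y⁻¹, -(y⁻¹ * x), ?_⟩)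
        rw [← hxy]
        linear_combination (norm := module) (inv_mul_cancel₀ hy) • s
    have hb : b ∉ Submodule.span F₀ {a, s} := by
      intro h
      obtain ⟨x, y, hxy⟩ := Submodule.mem_span_pair.1 h
      by_cases hy : y = 0
      · rw [hy, zero_smul, add_zero] at hxy
        exact one_ne_zero (LinearIndependent.pair_iff.1 hab (-x) 1 (by rw [← hxy]; module)).2
      · refine hsE (Submodule.mem_span_pair.2 ⟨-(y⁻¹ * x), y⁻¹, ?_⟩)
        rw [← hxy]
        linear_combination (norm := module) (inv_mul_cancel₀ hy) • s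
    obtain ⟨ya, hya, hya'⟩ := exists_dual_vec hnd ha
    obtain ⟨yb, hyb, hyb'⟩ := exists_dual_vec hnd hb
    obtain ⟨ys, hys, hys'⟩ := exists_dual_vec hnd hsE
    have hsa : polar Q a s = 0 := by rw [polar_comm]; exact hsD a (Submodule.subset_span (by simp))
    have hsb : polar Q b s = 0 := by rw [polar_comm]; exact hsD b (Submodule.subset_span (by simp))
    set y := α • ya + β • yb + ys with hy
    have e1 : polar Q a y = α := by
      rw [hy, polar_add_right, polar_add_right, polar_smul_right, polar_smul_right, hya,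
        hyb' a (Submodule.subset_span (by simp)), hys' a (Submodule.subset_span (by simp))]
      simp
    have e2 : polar Q b y = β := by
      rw [hy, polar_add_right, polar_add_right, polar_smul_right, polar_smul_right, hyb,
        hya' b (Submodule.subset_span (by simp)), hys' b (Submodule.subset_span (by simp))]
      simp
    have e3 : polar Q y s = 1 := by
      rw [polar_comm, hy, polar_add_right, polar_add_right, polar_smul_right, polar_smul_right, hys,
        hya' s (Submodule.subset_span (by simp)), hyb' s (Submodule.subset_span (by simp))]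
      simp
    clear_value y
    refine ⟨y + (-Q y) • s, ?_, ?_, ?_⟩
    · rw [Classical.Quad.Q_comb1, hs0, e3]; ring
    · rw [polar_add_right, polar_smul_right, hsa, e1, smul_zero, add_zero]
    · rw [polar_add_right, polar_smul_right, hsb, e2, smul_zero, add_zero]
  -- root elements of the subfield group
  set H := subfieldSubgroup F₀ P ⊓ (isoOf f ⊓ specialLinear ι F) with hH
  have hush : ∀ p q, Q p = 0 → Q q = 0 → polar Q p q = 0 → ush hf (e p) (e q) 1 ∈ H := by
    intro p q hp hq hpq
    rw [hsing] at hp hq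
    rw [hperp] at hpq
    refine ⟨mem_subfieldSubgroup_of_forall P fun x => ⟨1, x + B x p • q - B x q • p, ?_⟩,
      ush_mem_isoOf hf hp hq hpq 1, ush_mem_sl hf _ _ _⟩
    change _ = (1 : F) • e _
    rw [ush_mulVec hf hp hpq, one_smul, esub, eadd, esmul, esmul, one_mul, map_one, one_mul]
    rfl
  have hmove1 : ∀ r r', Q r = 0 → Q r' = 0 → polar Q r r' = 0 → LinearIndependent F₀ ![r, r'] →
      ∃ h ∈ H, (h : Matrix ι ι F) *ᵥ e r = e r' := by
    intro r r' hr hr' hrr hli
    have hw : Q (r' - r) = 0 := by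
      rw [show r' - r = r' + (-1 : F₀) • r by module, Classical.Quad.Q_comb1, hr, hr', polar_comm, hrr]
      ring
    have hnot : r ∉ Submodule.span F₀ {r' - r} := by
      intro h
      obtain ⟨c, hc⟩ := Submodule.mem_span_singleton.1 h
      have := LinearIndependent.pair_iff.1 hli (c + 1) (-c) (by linear_combination (norm := module) -hc)
      exact one_ne_zero (α := F₀) (by linear_combination this.1 + this.2)
    obtain ⟨y, hy1, hy2⟩ := exists_dual_vec hnd hnot
    have hwr : polar Q (r' - r) r = 0 := by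
      rw [polar_sub_left, polar_comm Q r' r, hrr, Classical.Quad.polar_singular_self hr, sub_zero]
    set s := (2 : F₀) • y + (-(Q ((2 : F₀) • y) / 2)) • r with hs
    have hs0 : Q s = 0 := by
      rw [hs, Classical.Quad.Q_comb1, hr, polar_smul_left, polar_comm Q y r, hy1, smul_eq_mul]
      field_simp
      ring
    have hrs : polar Q r s = 2 := by
      rw [hs, polar_add_right, polar_smul_right, polar_smul_right, hy1,
        Classical.Quad.polar_singular_self hr]
      simp
    have hsw : polar Q s (r' - r) = 0 := by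
      rw [polar_comm, hs, polar_add_right, polar_smul_right, polar_smul_right,
        hy2 _ (Submodule.mem_span_singleton_self _), hwr]
      simp
    clear_value s
    have hfrs : f (e r) (e s) = 1 := by
      have := hpol r s
      rw [hrs] at this
      exact mul_left_cancel₀ h2 (this.symm.trans (mul_one (2 : F)).symm)
    refine ⟨_, hush s (r' - r) hs0 hw hsw, ?_⟩
    rw [ush_mulVec hf ((hsing _).1 hs0) ((hperp _ _).1 hsw), hfrs,
      (hperp _ _).1 (show polar Q r (r' - r) = 0 by rw [polar_comm]; exact hwr), mul_zero, zero_smul,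
      sub_zero, mul_one, one_smul, esub, add_sub_cancel]
  have hmove : ∀ r r', r ≠ 0 → r' ≠ 0 → Q r = 0 → Q r' = 0 →
      ∃ h ∈ H, (h : Matrix ι ι F) *ᵥ e r = e r' := by
    intro r r' hr0 hr'0 hr hr'
    have := finrank_span_two_le r r'
    obtain ⟨m, hm, hmE, hmD⟩ := exists_singular_avoid (Q := Q) h20 (Submodule.span F₀ {r, r'})
      (Submodule.span F₀ {r, r'}) (by omega)
    have li1 : LinearIndependent F₀ ![r, m] := by
      rw [LinearIndependent.pair_iff' hr0]
      exact fun c hc => hmE (hc ▸ Submodule.smul_mem _ _ (Submodule.subset_span (by simp)))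
    have li2 : LinearIndependent F₀ ![m, r'] := by
      rw [LinearIndependent.pair_symm_iff, LinearIndependent.pair_iff' hr'0]
      exact fun c hc => hmE (hc ▸ Submodule.smul_mem _ _ (Submodule.subset_span (by simp)))
    obtain ⟨h₁, hh₁, e₁⟩ := hmove1 r m hr hm
      (by rw [polar_comm]; exact hmD r (Submodule.subset_span (by simp))) li1
    obtain ⟨h₂, hh₂, e₂⟩ := hmove1 m r' hm hr' (hmD r' (Submodule.subset_span (by simp))) li2
    exact ⟨h₂ * h₁, H.mul_mem hh₂ hh₁, by rw [gl_mulVec_mul, e₁, e₂]⟩
  refine CfsgLib.ClassicalMax.isMaximalIn_of inf_le_right ?_ ?_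
  · obtain ⟨r, hr, hr0, -⟩ := exists_singular_avoid (Q := Q) h20 ⊥ ⊥ (by simp; omega)
    rw [Submodule.mem_bot] at hr0
    obtain ⟨x, hx⟩ := Classical.Quad.exists_polar_one hnd hr0
    have hr' := (hsing _).1 hr
    refine ⟨uTv hf (e r) τ, ⟨uTv_mem_isoOf hf hr' hτ, uTv_mem_sl hf _ _⟩, fun h => ?_⟩
    obtain ⟨l, s, hls⟩ := exists_of_mem_subfieldSubgroup P h.1 x
    rw [uTv_mulVec hf hr', ← smul_smul] at hls
    refine hindep x (B x r • r) ?_ l s (by rw [esmul]; exact hls)
    refine LinearIndependent.pair_iff.2 fun s t hst => ?_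
    have h1 := congrArg (fun z => polar Q r z) hst
    simp only [polar_add_right, polar_smul_right, hx, Classical.Quad.polar_singular_self hr] at h1
    have hs : s = 0 := by simpa [polar_zero_right] using h1
    refine ⟨hs, ?_⟩
    rw [hs, zero_smul, zero_add, smul_smul, smul_eq_zero] at hst
    refine (mul_eq_zero.1 (hst.resolve_right hr0)).resolve_right fun hB => ?_
    have : polar Q x r = 0 := (hperp _ _).2 (congrArg Subtype.val hB)
    rw [polar_comm, hx] at this
    exact one_ne_zero this
  intro M hHM hMK g hgM hgH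
  have hgi : g ∈ isoOf f := (hMK hgM).1
  have hginv : g⁻¹ ∈ isoOf f := (isoOf f).inv_mem hgi
  -- a singular rational point with irrational image
  obtain ⟨u₁, hu₁, hu₁0, a, b, hab, hgab⟩ : ∃ u₁, Q u₁ = 0 ∧ u₁ ≠ 0 ∧ ∃ a b,
      LinearIndependent F₀ ![a, b] ∧ (g : Matrix ι ι F) *ᵥ e u₁ = e a + τ • e b := by
    by_contra hcon
    push Not at hcon
    have himg : ∀ x, Q x = 0 → x ≠ 0 → ∃ (l : F) (r : ι → F₀), l ≠ 0 ∧
        (g : Matrix ι ι F) *ᵥ e x = l • e r := by
      intro x hx hx0
      obtain ⟨a, b, hab⟩ := hcoord ((g : Matrix ι ι F) *ᵥ e x)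
      obtain ⟨l, r, hlr⟩ := hline a b fun h => hcon x hx hx0 a b h hab
      refine ⟨l, r, fun hl => ?_, hab.trans hlr⟩
      rw [hl, zero_smul] at hlr
      exact gl_mulVec_ne_zero g (fun h => hx0 (einj (h.trans e0.symm))) (hab.trans hlr)
    have hpair : ∀ x y, Q x = 0 → Q y = 0 → polar Q x y = 0 → LinearIndependent F₀ ![x, y] →
        ∀ (lx ly : F) (rx ry : ι → F₀), lx ≠ 0 → (g : Matrix ι ι F) *ᵥ e x = lx • e rx →
        (g : Matrix ι ι F) *ᵥ e y = ly • e ry → ly / lx ∈ F₀ := by
      intro x y hx hy hxy hli lx ly rx ry hlx hgx hgy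
      obtain ⟨s, t, hst⟩ := hscal (ly / lx)
      have hly : ly = ((s : F) + τ * t) * lx := by rw [← hst, div_mul_cancel₀ _ hlx]
      by_cases ht : t = 0
      · rw [hst, ht]; simp
      exfalso
      have hxy0 : x + y ≠ 0 := fun h => one_ne_zero
        (LinearIndependent.pair_iff.1 hli 1 1 (by rwa [one_smul, one_smul])).1
      obtain ⟨l, r, -, hlr⟩ := himg (x + y) (by rw [QuadraticMap.map_add Q, hx, hy, hxy]; ring) hxy0
      rw [eadd, mulVec_add, hgx, hgy, hly] at hlr
      have hli' : LinearIndependent F₀ ![rx + s • ry, t • ry] := by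
        refine LinearIndependent.pair_iff.2 fun c d hcd => ?_
        have h1 : (g : Matrix ι ι F) *ᵥ
            ((((c : F) * ((s : F) + τ * t)) • e x) + ((c * s + d * t : F₀) : F) • e y) = 0 := by
          have h := congrArg e hcd
          simp only [eadd, esmul, smul_add, smul_smul, e0] at h
          rw [mulVec_add, mulVec_smul, mulVec_smul, hgx, hgy, hly]
          simp only [Subfield.coe_add, Subfield.coe_mul]
          linear_combination (norm := module) (((s : F) + τ * t) * lx) • h
        have h2 : e ((c * s) • x + (c * s + d * t) • y) + τ • e ((c * t) • x) = 0 := by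
          refine gl_mulVec_injective g (Eq.trans ?_ (h1.trans (mulVec_zero _).symm))
          simp only [eadd, esmul, Subfield.coe_add, Subfield.coe_mul]
          congr 1
          module
        obtain ⟨h3, h4⟩ := huniq _ _ h2
        have hx0 : x ≠ 0 := LinearIndependent.ne_zero 0 hli
        have hc : c = 0 := (mul_eq_zero.1 ((smul_eq_zero.1 h4).resolve_right hx0)).resolve_right ht
        have hd := (LinearIndependent.pair_iff.1 hli _ _ h3).2
        rw [hc, zero_mul, zero_add] at hd
        exact ⟨hc, (mul_eq_zero.1 hd).resolve_right ht⟩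
      refine hindep _ _ hli' (l / lx) r ?_
      rw [eadd, esmul, esmul, div_eq_inv_mul, ← smul_smul, ← hlr]
      match_scalars <;> field_simp
    obtain ⟨x₀, hx₀, hx₀0, -⟩ := exists_singular_avoid (Q := Q) h20 ⊥ ⊥ (by simp; omega)
    rw [Submodule.mem_bot] at hx₀0
    obtain ⟨l₀, r₀, hl₀, hg₀⟩ := himg x₀ hx₀ hx₀0
    let S : AddSubgroup (ι → F₀) :=
      { carrier := {x | ∃ r, (g : Matrix ι ι F) *ᵥ e x = l₀ • e r}
        zero_mem' := ⟨0, by rw [e0, mulVec_zero, smul_zero]⟩
        add_mem' := by
          rintro x y ⟨r, hr⟩ ⟨s, hs⟩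
          exact ⟨r + s, by rw [eadd, eadd, mulVec_add, hr, hs, smul_add]⟩
        neg_mem' := by
          rintro x ⟨r, hr⟩
          exact ⟨-r, by rw [eneg, eneg, mulVec_neg, hr, smul_neg]⟩ }
    have hS : ∀ x, x ∈ S := by
      intro x
      refine perp_le_of_singular (Q := Q) hnd h20 (D := ⊥) (by simp; omega) S
        (fun y hy _ => ?_) (fun d hd => by rw [(Submodule.mem_bot F₀).1 hd]; simp [polar_zero_right])
      by_cases hy0 : y = 0
      · rw [hy0]; exact S.zero_mem
      obtain ⟨ly, ry, hly, hgy⟩ := himg y hy hy0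
      have := finrank_span_two_le x₀ y
      obtain ⟨z, hz, hzE, hzD⟩ := exists_singular_avoid (Q := Q) h20 (Submodule.span F₀ {x₀, y})
        (Submodule.span F₀ {x₀, y}) (by omega)
      have hz0 : z ≠ 0 := fun h => hzE (h ▸ zero_mem _)
      obtain ⟨lz, rz, hlz, hgz⟩ := himg z hz hz0
      have q1 := hpair x₀ z hx₀ hz (by rw [polar_comm]; exact hzD x₀ (Submodule.subset_span (by simp)))
        ((LinearIndependent.pair_iff' hx₀0).2 fun c hc =>
          hzE (hc ▸ Submodule.smul_mem _ _ (Submodule.subset_span (by simp)))) _ _ _ _ hl₀ hg₀ hgz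
      have q2 := hpair y z hy hz (by rw [polar_comm]; exact hzD y (Submodule.subset_span (by simp)))
        ((LinearIndependent.pair_iff' hy0).2 fun c hc =>
          hzE (hc ▸ Submodule.smul_mem _ _ (Submodule.subset_span (by simp)))) _ _ _ _ hly hgy hgz
      have q3 : ly / l₀ ∈ F₀ := by
        have := F₀.div_mem q1 q2
        rwa [div_div_div_cancel_left' _ _ hlz] at this
      refine ⟨(⟨_, q3⟩ : F₀) • ry, ?_⟩
      rw [esmul, smul_smul, hgy]
      change _ = (l₀ * (ly / l₀)) • _
      rw [mul_div_cancel₀ _ hl₀]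
    exact hgH ⟨mem_subfieldSubgroup_of_forall P fun x => ⟨l₀, (hS x).choose, (hS x).choose_spec⟩,
      hMK hgM⟩
  set v := (g : Matrix ι ι F) *ᵥ e u₁ with hv
  have hvv : f v v = 0 := (hgi _ _).trans ((hsing _).1 hu₁)
  -- a second point whose image leaves the rational plane of the first
  obtain ⟨y₀, -, hy₀0, hy₀⟩ := exists_singular_avoid (Q := Q) h20 (Submodule.span F₀ {a, b}) ⊥
    (by have := finrank_span_two_le a b; simp; omega)
  rw [Submodule.mem_bot] at hy₀0
  obtain ⟨w, hw, hu₁w, hwy⟩ : ∃ w, Q w = 0 ∧ polar Q u₁ w = 0 ∧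
      f ((g : Matrix ι ι F) *ᵥ e w) (e y₀) ≠ 0 := by
    by_contra hcon
    push Not at hcon
    set z := ((g⁻¹ : GL ι F) : Matrix ι ι F) *ᵥ e y₀ with hzdef
    have hxz : ∀ x, polar Q x u₁ = 0 → f (e x) z = 0 := by
      intro x hx
      rw [hzdef, ← form_mulVec_left hgi]
      have := finrank_span_two_le u₁ u₁
      refine perp_le_of_singular (Q := Q) hnd h20 (D := Submodule.span F₀ {u₁, u₁}) (by omega)
        { carrier := {x | f ((g : Matrix ι ι F) *ᵥ e x) (e y₀) = 0}
          zero_mem' := by simp [e0, zero_left hf]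
          add_mem' := fun {x y} hx hy => by
            simp only [Set.mem_setOf_eq] at hx hy ⊢
            rw [eadd, mulVec_add, hf.add_left, hx, hy, add_zero]
          neg_mem' := fun {x} hx => by
            simp only [Set.mem_setOf_eq] at hx ⊢
            rw [eneg, mulVec_neg, ← neg_one_smul F, hf.smul_left, hx, mul_zero] }
        (fun y hy hy' => hcon y hy (by rw [polar_comm]; exact hy' u₁ (Submodule.subset_span (by simp))))
        (hspan2 _ _ _ hx hx)
    obtain ⟨A, C, hAC⟩ := hcoord z
    have hA := hL1 u₁ A fun x hx => (hpar0 x A C (hAC ▸ hxz x hx)).1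
    have hC := hL1 u₁ C fun x hx => (hpar0 x A C (hAC ▸ hxz x hx)).2
    obtain ⟨s, rfl⟩ := Submodule.mem_span_singleton.1 hA
    obtain ⟨t, rfl⟩ := Submodule.mem_span_singleton.1 hC
    have hy : e y₀ = ((s : F) + τ * t) • v := by
      rw [hv, ← mulVec_smul, add_smul, ← smul_smul, ← esmul, ← esmul, ← hAC, hzdef,
        gl_mulVec_inv_mulVec]
    by_cases hl : ((s : F) + τ * t) = 0
    · rw [hl, zero_smul] at hy
      exact hy₀0 (einj (hy.trans e0.symm))
    · refine hindep a b hab ((s : F) + τ * t)⁻¹ y₀ ?_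
      rw [← hgab, hy, smul_smul, inv_mul_cancel₀ hl, one_smul]
  set v' := (g : Matrix ι ι F) *ᵥ e w with hv'
  have hv'v' : f v' v' = 0 := (hgi _ _).trans ((hsing _).1 hw)
  have hvv' : f v v' = 0 := (hgi _ _).trans ((hperp _ _).1 hu₁w)
  obtain ⟨a', b', hgab'⟩ := hcoord v'
  obtain ⟨c, hcE, hcab⟩ : ∃ c, (c = a' ∨ c = b') ∧ c ∉ Submodule.span F₀ {a, b} := by
    by_contra hcon
    push Not at hcon
    apply hwy
    change f v' (e y₀) = 0
    rw [hgab', hf.add_left, hf.smul_left,
      (hperp _ _).1 (show polar Q a' y₀ = 0 by rw [polar_comm]; exact hy₀ _ (hcon a' (Or.inl rfl))),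
      (hperp _ _).1 (show polar Q b' y₀ = 0 by rw [polar_comm]; exact hy₀ _ (hcon b' (Or.inr rfl))),
      mul_zero, add_zero]
  have hd1 := finrank_span_two_le a b
  have hd2 := finrank_span_two_le a' b'
  have hd3 := Submodule.finrank_add_le_finrank_add_finrank (Submodule.span F₀ {a, b})
    (Submodule.span F₀ {a', b'})
  set E := Submodule.span F₀ {a, b} ⊔ Submodule.span F₀ {a', b'} with hE
  have haE : a ∈ E := Submodule.mem_sup_left (Submodule.subset_span (by simp))
  have hbE : b ∈ E := Submodule.mem_sup_left (Submodule.subset_span (by simp))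
  have ha'E : a' ∈ E := Submodule.mem_sup_right (Submodule.subset_span (by simp))
  have hb'E : b' ∈ E := Submodule.mem_sup_right (Submodule.subset_span (by simp))
  obtain ⟨r, hr, hrD, hrab, hcnot⟩ : ∃ r, Q r = 0 ∧ (∀ d ∈ E, polar Q r d = 0) ∧
      r ∉ Submodule.span F₀ {a, b} ∧ c ∉ Submodule.span F₀ {r, a, b} := by
    by_cases hR : Module.finrank F₀ ↥(E ⊓ QuadSim.perpOf Q E) ≤ 3
    · obtain ⟨r, hr, hrR, hrD⟩ :=
        exists_singular_avoid (Q := Q) h20 E (E ⊓ QuadSim.perpOf Q E) (by omega)
      have hrE : r ∉ E := fun h => hrR ⟨h, QuadSim.mem_perpOf.2 hrD⟩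
      refine ⟨r, hr, hrD, fun h => hrE (Submodule.mem_sup_left h), fun h => ?_⟩
      obtain ⟨k, z, hz, hk⟩ := Submodule.mem_span_insert.1 h
      by_cases hk0 : k = 0
      · rw [hk0, zero_smul, zero_add] at hk
        exact hcab (hk ▸ hz)
      · refine hrE ((Submodule.smul_mem_iff E hk0).1 ?_)
        rw [show k • r = c - z by rw [hk]; abel]
        refine E.sub_mem ?_ (Submodule.mem_sup_left hz)
        rcases hcE with rfl | rfl
        · exact ha'E
        · exact hb'E
    -- `E` is a totally singular 4-space: take the other generator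
    have hRle := Submodule.finrank_mono (inf_le_left : E ⊓ QuadSim.perpOf Q E ≤ E)
    have hRE : E ⊓ QuadSim.perpOf Q E = E :=
      Submodule.eq_of_le_of_finrank_le inf_le_left (by omega)
    have hpol : ∀ x ∈ E, ∀ d ∈ E, polar Q x d = 0 := fun x hx =>
      QuadSim.mem_perpOf.1 (hRE.symm ▸ hx : x ∈ E ⊓ QuadSim.perpOf Q E).2
    obtain ⟨r, hrmem, hEr⟩ : ∃ r ∈ E, E ≤ Submodule.span F₀ {c, r, a, b} := by
      rcases hcE with rfl | rfl
      · exact ⟨b', hb'E, sup_le (Submodule.span_mono (by simp [Set.insert_subset_iff]))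
          (Submodule.span_mono (by simp [Set.insert_subset_iff]))⟩
      · exact ⟨a', ha'E, sup_le (Submodule.span_mono (by simp [Set.insert_subset_iff]))
          (Submodule.span_mono (by simp [Set.insert_subset_iff]))⟩
    have h3 : ∀ x y z : ι → F₀, E ≤ Submodule.span F₀ {x, y, z} → False := fun x y z h => by
      have := Submodule.finrank_mono h
      have := finrank_span_three_le (F := F₀) x y z
      omega
    refine ⟨r, ?_, hpol r hrmem, fun h => ?_, fun h => ?_⟩
    · have h5 := hpol r hrmem r hrmem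
      rw [Classical.Quad.polar_self'] at h5
      exact (mul_eq_zero.1 h5).resolve_left h20
    · refine h3 c a b (hEr.trans (Submodule.span_le.2 ?_))
      intro x hx
      simp only [Set.mem_insert_iff, Set.mem_singleton_iff] at hx
      rcases hx with rfl | rfl | rfl | rfl
      · exact Submodule.subset_span (by simp)
      · exact Submodule.span_mono (by simp [Set.insert_subset_iff]) h
      · exact Submodule.subset_span (by simp)
      · exact Submodule.subset_span (by simp)
    · refine h3 r a b (hEr.trans (Submodule.span_le.2 ?_))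
      intro x hx
      simp only [Set.mem_insert_iff, Set.mem_singleton_iff] at hx
      rcases hx with rfl | rfl | rfl | rfl
      · exact h
      · exact Submodule.subset_span (by simp)
      · exact Submodule.subset_span (by simp)
      · exact Submodule.subset_span (by simp)
  have hr0 : r ≠ 0 := fun h => hrab (h ▸ zero_mem _)
  have hrr : f (e r) (e r) = 0 := (hsing _).1 hr
  have hperpsum : ∀ x A C, polar Q x A = 0 → polar Q x C = 0 → f (e x) (e A + τ • e C) = 0 := by
    intro x A C hA hC
    rw [hpar, (hperp _ _).1 hA, (hperp _ _).1 hC]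
    ring
  have hrv : f (e r) v = 0 := hgab ▸ hperpsum r a b (hrD a haE) (hrD b hbE)
  have hrv' : f (e r) v' = 0 := hgab' ▸ hperpsum r a' b' (hrD a' ha'E) (hrD b' hb'E)
  obtain ⟨p, hp, hpr, hpa, hpb, hpc⟩ : ∃ p, Q p = 0 ∧ polar Q p r = 0 ∧ polar Q p a = 0 ∧
      polar Q p b = 0 ∧ polar Q p c ≠ 0 := by
    by_contra hcon
    push Not at hcon
    obtain ⟨y, hy1, hy2⟩ := exists_dual_vec hnd hcnot
    have h3 := finrank_span_three_le r a b
    have : y ∈ ({ carrier := {x | polar Q x c = 0}
                  zero_mem' := by simp [polar_zero_left]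
                  add_mem' := fun {x y} hx hy => by
                    simp only [Set.mem_setOf_eq] at hx hy ⊢
                    rw [polar_add_left, hx, hy, add_zero]
                  neg_mem' := fun {x} hx => by
                    simp only [Set.mem_setOf_eq] at hx ⊢
                    rw [polar_neg_left, hx, neg_zero] } : AddSubgroup (ι → F₀)) :=
      perp_le_of_singular (Q := Q) hnd h20 (D := Submodule.span F₀ {r, a, b}) (by omega) _
        (fun x hx hx' => hcon x hx (hx' r (Submodule.subset_span (by simp)))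
          (hx' a (Submodule.subset_span (by simp))) (hx' b (Submodule.subset_span (by simp))))
        (fun d hd => by rw [polar_comm]; exact hy2 d hd)
    have h4 : polar Q y c = 0 := this
    rw [polar_comm, hy1] at h4
    exact one_ne_zero h4
  have hpp : f (e p) (e p) = 0 := (hsing _).1 hp
  have hrp : f (e r) (e p) = 0 := (hperp _ _).1 (by rw [polar_comm]; exact hpr)
  have hpv : f (e p) v = 0 := hgab ▸ hperpsum p a b hpa hpb
  have hpv' : f (e p) v' ≠ 0 := by
    intro h
    rw [hgab'] at h
    rcases hcE with rfl | rfl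
    · exact hpc (hpar0 _ _ _ h).1
    · exact hpc (hpar0 _ _ _ h).2
  -- a root element pairing `v` with a rational point
  set N := ush hf (e r) (e p) 1 with hN
  have hNM : N ∈ M := hHM (hush r p hr hp (by rw [polar_comm]; exact hpr))
  have hNi : N ∈ isoOf f := (hMK hNM).1
  set N' := ush hf v v' 1 with hN'
  have hN'M : N' ∈ M := by
    have := M.mul_mem (M.mul_mem hgM (hHM (hush u₁ w hu₁ hw hu₁w))) (M.inv_mem hgM)
    rwa [ush_conj hf hgi ((hsing _).1 hu₁) ((hperp _ _).1 hu₁w), ← hv, ← hv'] at this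
  set t := -f v' (e p) with ht
  have ht0 : t ≠ 0 := neg_ne_zero.2 (ne_zero_comm hf hpv')
  set K := ush hf v (e r) t with hK
  have hvr : f v (e r) = 0 := eq_zero_comm hf hrv
  have hKi : K ∈ isoOf f := ush_mem_isoOf hf hvv hrr hvr _
  have hKM : K ∈ M := by
    suffices K = N * N' * N⁻¹ * N'⁻¹ from
      this ▸ M.mul_mem (M.mul_mem (M.mul_mem hNM hN'M) (M.inv_mem hNM)) (M.inv_mem hN'M)
    rw [eq_mul_inv_iff_mul_eq, hN', ush_conj hf hNi hvv hvv', hK]
    have e1 : (N : Matrix ι ι F) *ᵥ v = v := by
      rw [hN, ush_mulVec hf hrr hrp, hvr, eq_zero_comm hf hpv]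
      simp
    have e2 : (N : Matrix ι ι F) *ᵥ v' = v' + t • e r := by
      rw [hN, ush_mulVec hf hrr hrp, eq_zero_comm hf hrv', ht]
      simp only [map_one, one_mul, zero_smul, add_zero]
      module
    rw [e1, e2]
    refine gl_ext_mulVec fun x => ?_
    simp only [gl_mulVec_mul, ush_mulVec hf hvv hvv', ush_mulVec hf hvv hvr,
      ush_mulVec hf hvv (show f v (v' + t • e r) = 0 by
        rw [add_right hf, smul_right hf, hvv', hvr, mul_zero, add_zero]),
      sub_left hf, hf.add_left, add_right hf, hf.smul_left, smul_right hf, hvv, hvv', hvr,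
      eq_zero_comm hf hvv', eq_zero_comm hf hrv', map_one]
    module
  -- a transvection at a rational point
  obtain ⟨w', hw', hrw', hμ⟩ : ∃ w', Q w' = 0 ∧ polar Q r w' = 0 ∧ t * f (e w') v ∉ F₀ := by
    by_contra hcon
    push Not at hcon
    have hall : ∀ x, polar Q x r = 0 → t * f (e x) v ∈ F₀ := by
      intro x hx
      have := finrank_span_two_le r r
      exact perp_le_of_singular (Q := Q) hnd h20 (D := Submodule.span F₀ {r, r}) (by omega)
        { carrier := {x | t * f (e x) v ∈ F₀}
          zero_mem' := by simp [e0, zero_left hf]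
          add_mem' := fun {x y} hx hy => by
            simp only [Set.mem_setOf_eq] at hx hy ⊢
            rw [eadd, hf.add_left, mul_add]; exact F₀.add_mem hx hy
          neg_mem' := fun {x} hx => by
            simp only [Set.mem_setOf_eq] at hx ⊢
            rw [eneg, ← neg_one_smul F, hf.smul_left, mul_left_comm, neg_one_mul]
            exact F₀.neg_mem hx }
        (fun y hy hy' => hcon y hy (by rw [polar_comm]; exact hy' r (Submodule.subset_span (by simp))))
        (hspan2 _ _ _ hx hx)
    obtain ⟨x, y, hxy⟩ := hscal (σ t)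
    have hz : σ t • v = e (x • a + ((⟨_, hττ⟩ : F₀) * y) • b) + τ • e (y • a + x • b) := by
      rw [hxy, hgab]
      simp only [eadd, esmul, Subfield.coe_mul]
      module
    obtain ⟨k, hk⟩ := Submodule.mem_span_singleton.1 (hL1 r (y • a + x • b) fun z hz' => by
      have h := hF₀ _ (hall z hz')
      rw [show t * f (e z) v = f (e z) (σ t • v) by rw [smul_right hf, hf.involutive], hz, hpar,
        map_add, map_mul, map_neg, hfix, hfix, hτ] at h
      refine (hperp _ _).2 ?_
      have h' : (2 * τ) * f (e z) (e (y • a + x • b)) = 0 := by linear_combination h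
      exact (mul_eq_zero.1 h').resolve_left (mul_ne_zero h2 hτ0))
    have hk0 : k = 0 := by
      by_contra hk0
      refine hrab ((Submodule.smul_mem_iff _ hk0).1 (hk ▸ ?_))
      exact add_mem (Submodule.smul_mem _ _ (Submodule.subset_span (by simp)))
        (Submodule.smul_mem _ _ (Submodule.subset_span (by simp)))
    rw [hk0, zero_smul] at hk
    obtain ⟨h1, h3⟩ := LinearIndependent.pair_iff.1 hab y x hk.symm
    apply ht0
    rw [← hf.involutive t, hxy, h1, h3]
    simp
  have hw'r := (hperp _ _).1 hrw'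
  have hrT : ∃ c, c ≠ 0 ∧ σ c = -c ∧ uTv hf (e r) c ∈ M := by
    set μ := t * f (e w') v with hμdef
    refine ⟨μ - σ μ, fun h => hμ (hfixed _ (sub_eq_zero.1 h).symm),
      by rw [map_sub, hf.involutive, neg_sub], ?_⟩
    set W := ush hf (e r) (e w') 1 with hW
    have hWM : W ∈ M := hHM (hush r w' hr hw' hrw')
    suffices uTv hf (e r) (μ - σ μ) = W⁻¹ * (K * W * K⁻¹) from
      this ▸ M.mul_mem (M.inv_mem hWM) (M.mul_mem (M.mul_mem hKM hWM) (M.inv_mem hKM))
    have e1 : (K : Matrix ι ι F) *ᵥ e r = e r := by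
      rw [hK, ush_mulVec hf hvv hvr, hrv, hrr]
      simp
    have e2 : (K : Matrix ι ι F) *ᵥ e w' = e w' + μ • e r := by
      rw [hK, ush_mulVec hf hvv hvr, eq_zero_comm hf hw'r, mul_zero, zero_smul, sub_zero]
    rw [eq_inv_mul_iff_mul_eq, hW, ush_conj hf hKi hrr hw'r, e1, e2]
    clear_value μ
    refine gl_ext_mulVec fun x => ?_
    simp only [gl_mulVec_mul, ush_mulVec hf hrr hw'r, uTv_mulVec hf hrr,
      ush_mulVec hf hrr (show f (e r) (e w' + μ • e r) = 0 by
        rw [add_right hf, smul_right hf, hw'r, hrr, mul_zero, add_zero]),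
      sub_left hf, hf.add_left, add_right hf, hf.smul_left, smul_right hf, hrr, hw'r,
      eq_zero_comm hf hw'r, map_one]
    module
  obtain ⟨c₀, hc₀0, hc₀, hc₀M⟩ := hrT
  have hrat : ∀ x, Q x = 0 → e x ∈ uSet hf M := by
    intro x hx
    refine ⟨(hsing _).1 hx, fun d hd => ?_⟩
    by_cases hx0 : x = 0
    · rw [show uTv hf (e x) d = 1 from gl_ext_mulVec fun z => by
        rw [uTv_mulVec hf ((hsing _).1 hx), hx0, e0]; simp]
      exact M.one_mem
    have hx' := (hsing _).1 hx
    have key : ∀ l : F₀, uTv hf (e x) (c₀ * ((l : F) * l)) ∈ M := by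
      intro l
      by_cases hl : l = 0
      · rw [hl]
        simp only [ZeroMemClass.coe_zero, mul_zero]
        rw [show uTv hf (e x) 0 = 1 from gl_ext_mulVec fun z => by
          rw [uTv_mulVec hf hx']; simp]
        exact M.one_mem
      obtain ⟨h, hh, he⟩ := hmove r (l • x) hr0 (smul_ne_zero hl hx0) hr
        (by rw [QuadraticMap.map_smul, hx, smul_zero])
      have := M.mul_mem (M.mul_mem (hHM hh) hc₀M) (M.inv_mem (hHM hh))
      rwa [uTv_conj hf (hMK (hHM hh)).1 hrr, he, esmul, uTv_smul hf hx', hF] at this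
    have hk : d / c₀ ∈ F₀ := hfixed _ (by rw [map_div₀, hd, hc₀, neg_div_neg_eq])
    set k : F₀ := ⟨_, hk⟩ with hkdef
    have := M.mul_mem (key ((k + 1) / 2)) (M.inv_mem (key ((k - 1) / 2)))
    rwa [uTv_inv_eq hf hx', uTv_mul hf hx', show c₀ * ((((k + 1) / 2 : F₀) : F) * _) +
      -(c₀ * ((((k - 1) / 2 : F₀) : F) * ((((k - 1) / 2 : F₀) : F)))) = d by
        have : (k : F) * c₀ = d := div_mul_cancel₀ d hc₀0
        rw [← this]
        simp only [Subfield.coe_add, Subfield.coe_sub, Subfield.coe_div, OneMemClass.coe_one,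
          show ((2 : F₀) : F) = 2 from rfl]
        field_simp
        ring] at this
  -- spreading
  refine iso_inf_sl_le hf (by omega) fun z d hz hd => ?_
  suffices hzS : z ∈ uSet hf M from hzS.2 d hd
  obtain ⟨a, b, rfl⟩ := hcoord z
  by_cases hli : LinearIndependent F₀ ![a, b]
  swap
  · obtain ⟨l, s, hls⟩ := hline a b hli
    rw [hls] at hz ⊢
    by_cases hl : l = 0
    · rw [hl, zero_smul, ← zero_smul F (e 0)]
      exact uSet_smul hf 0 (hrat 0 (by simp))
    · refine uSet_smul hf l (hrat s ((hsing _).2 ?_))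
      rw [hf.smul_left, smul_right hf] at hz
      exact (mul_eq_zero.1 ((mul_eq_zero.1 hz).resolve_left hl)).resolve_left
        fun h => hl (by simpa using congrArg σ h)
  -- two singular non-orthogonal parts
  have hii : ∀ a b, Q a = 0 → Q b = 0 → polar Q a b ≠ 0 → e a + τ • e b ∈ uSet hf M := by
    intro a b ha hb hab
    refine uSet_add hf (hrat a ha) (uSet_smul hf τ (hrat b hb)) ?_ ?_
    · rw [hf.smul_left, hsym]
      exact mul_ne_zero hτ0 fun h => hab ((hperp _ _).2 h)
    · rw [hf.add_left, add_right hf, add_right hf, hf.smul_left, hf.smul_left, smul_right hf,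
        smul_right hf, hτ, hsym a b, (hsing _).1 ha, (hsing _).1 hb]
      ring
  have hshift : ∀ p a' b', Q p = 0 → Q a' = 0 → Q b' = 0 → polar Q a' b' ≠ 0 → polar Q a' p ≠ 0 →
      ∀ l : F, e a + τ • e b = l • e p + (e a' + τ • e b') → e a + τ • e b ∈ uSet hf M := by
    intro p a' b' hp ha hb hab hap l hl
    by_cases hl0 : l = 0
    · rw [hl, hl0, zero_smul, zero_add]
      exact hii a' b' ha hb hab
    rw [hl] at hz ⊢
    refine uSet_add hf (uSet_smul hf l (hrat p hp)) (hii a' b' ha hb hab) ?_ hz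
    apply ne_zero_comm hf
    rw [hf.smul_left]
    refine mul_ne_zero hl0 fun h => hap ?_
    rw [polar_comm]
    exact (hpar0 _ _ _ h).1
  by_cases hgen : ∃ α β : F₀, α ≠ 0 ∧ β ≠ 0 ∧ Q (β • a + (-α) • b) ≠ 0
  · obtain ⟨α, β, hα, hβ, hne⟩ := hgen
    obtain ⟨p, hp, hap, hbp⟩ := hpres a b hli α β
    set a' := a + (-(Q a / α)) • p with ha'
    set b' := b + (-(Q b / β)) • p with hb'
    have hQa' : Q a' = 0 := by
      rw [ha', Classical.Quad.Q_comb1, hp, hap]; field_simp; ring
    have hQb' : Q b' = 0 := by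
      rw [hb', Classical.Quad.Q_comb1, hp, hbp]; field_simp; ring
    have hap' : polar Q a' p = α := by
      rw [ha', polar_add_left, polar_smul_left, hap, Classical.Quad.polar_singular_self hp,
        smul_zero, add_zero]
    have hab' : polar Q a' b' ≠ 0 := by
      intro h
      apply hne
      rw [ha', hb', polar_add_left, polar_add_right, polar_add_right, polar_smul_left,
        polar_smul_left, polar_smul_right, polar_smul_right, hap, polar_comm Q p b, hbp,
        Classical.Quad.polar_singular_self hp] at h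
      simp only [smul_eq_mul] at h
      field_simp at h
      rw [Classical.Quad.Q_comb1, QuadraticMap.map_smul, polar_smul_left, smul_eq_mul, smul_eq_mul]
      linear_combination -h
    refine hshift p a' b' hp hQa' hQb' hab' (hap' ▸ hα) ((Q a / α : F₀) + τ * (Q b / β : F₀)) ?_
    rw [ha', hb', eadd, eadd, esmul, esmul]
    simp only [Subfield.coe_neg]
    module
  push Not at hgen
  have hp1 : Q (a + b) = 0 := by
    have := hgen 1 (-1) one_ne_zero (neg_ne_zero.2 one_ne_zero)
    rwa [show (-1 : F₀) • a + (-1 : F₀) • b = (-1 : F₀) • (a + b) by module,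
      QuadraticMap.map_smul, neg_mul_neg, one_mul, one_smul] at this
  have hm1 : Q (a - b) = 0 := by
    have := hgen 1 1 one_ne_zero one_ne_zero
    rwa [show (1 : F₀) • a + (-1 : F₀) • b = a - b by module] at this
  have hab0 : polar Q a b = 0 := by
    have h1 := hp1
    have h3 := hm1
    rw [QuadraticMap.map_add Q] at h1
    rw [sub_eq_add_neg, QuadraticMap.map_add Q, QuadraticMap.map_neg, polar_neg_right] at h3
    exact (mul_eq_zero.1 (show (2 : F₀) * polar Q a b = 0 by linear_combination h1 - h3)).resolve_left h20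
  have hQab : Q a = -Q b := by
    have h1 := hp1
    rw [QuadraticMap.map_add Q, hab0, add_zero] at h1
    exact eq_neg_of_add_eq_zero_left h1
  by_cases hQb : Q b = 0
  · obtain ⟨p, hp, hap, hbp⟩ := hpres a b hli 1 0
    refine hshift p a (b - p) hp (by rw [hQab, hQb, neg_zero]) ?_ ?_ (hap ▸ one_ne_zero) τ ?_
    · rw [sub_eq_add_neg, QuadraticMap.map_add Q, QuadraticMap.map_neg, polar_neg_right, hQb, hp, hbp]
      simp
    · rw [polar_sub_right, hab0, hap, zero_sub]
      exact neg_ne_zero.2 one_ne_zero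
    · rw [esub]
      module
  · set l₁ : F := (1 + τ) / 2 with hl₁
    set l₂ : F := (1 - τ) / 2 with hl₂
    have hz' : e a + τ • e b = l₁ • e (a + b) + l₂ • e (a - b) := by
      rw [hl₁, hl₂, eadd, esub]
      match_scalars <;> field_simp <;> ring
    rw [hz'] at hz ⊢
    refine uSet_add hf (uSet_smul hf _ (hrat _ hp1)) (uSet_smul hf _ (hrat _ hm1)) ?_ hz
    rw [hf.smul_left, smul_right hf]
    have hne1 : l₁ ≠ 0 := fun h => one_ne_zero ((hscal0 1 1 (map_one σ) (map_one σ) (by
      rw [hl₁, div_eq_zero_iff] at h; simpa [h2] using h)).1)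
    have hne2 : l₂ ≠ 0 := fun h => one_ne_zero ((hscal0 1 (-1) (map_one σ) (by rw [map_neg, map_one]) (by
      rw [hl₂, div_eq_zero_iff] at h; simpa [h2, sub_eq_add_neg] using h)).1)
    refine mul_ne_zero hne2 (mul_ne_zero (fun h => hne1 (by simpa using congrArg σ h)) fun h => hQb ?_)
    have h5 : polar Q (a - b) (a + b) = 0 := (hperp _ _).2 h
    rw [polar_sub_left, polar_add_right, polar_add_right, Classical.Quad.polar_self',
      Classical.Quad.polar_self', polar_comm Q b a, hab0, hQab] at h5
    exact (mul_eq_zero.1 (show (2 : F₀) * (2 * Q b) = 0 by linear_combination -h5)).resolve_left h20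
      |> fun h6 => (mul_eq_zero.1 h6).resolve_left h20

end CfsgLib.ClassicalMax.Unit
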