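/-
Parameters of short root elements in overgroups of a unitary subfield group.
-/
import Cfsg.Agent.Lib.ClassicalMax.UnitShort
import Cfsg.Agent.Lib.ClassicalMax.LinSubfield
set_option autoImplicit false

namespace CfsgLib.ClassicalMax.Unit.Sub

open Matrix Cfsg.Geo CfsgLib.ClassicalMax.LinSub

variable {ι : Type} [Fintype ι] [DecidableEq ι] {F : Type*} [Field F] {F₀ : Subfield F}
  {σ : F ≃+* F} {f : (ι → F) → (ι → F) → F} {σ₀ : F₀ ≃+* F₀}
  {B : (ι → F₀) → (ι → F₀) → F₀}

/-- A unitary form rational over a subfield. -/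
structure Rat (σ : F ≃+* F) (f : (ι → F) → (ι → F) → F) (σ₀ : F₀ ≃+* F₀)
    (B : (ι → F₀) → (ι → F₀) → F₀) : Prop where
  hf : IsUnitaryForm σ f
  hB : IsUnitaryForm σ₀ B
  coe_σ : ∀ a : F₀, (σ₀ a : F) = σ a
  coe_B : ∀ x y, (B x y : F) = f (cv x) (cv y)

lemma Rat.orth (R : Rat σ f σ₀ B) {x y : ι → F₀} (h : B x y = 0) : f (cv x) (cv y) = 0 := by
  rw [← R.coe_B, h, Subfield.coe_zero]

variable [DecidableEq F]

/-- All rational transvections and short root elements lie in `M`. -/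
structure Contains (R : Rat σ f σ₀ B) (M : Subgroup (GL ι F)) : Prop where
  tv : ∀ (v : ι → F₀), B v v = 0 → ∀ c : F₀, σ₀ c = -c → uTv R.hf (cv v) (c : F) ∈ M
  sh : ∀ v w : ι → F₀, B v v = 0 → B w w = 0 → B v w = 0 → ∀ b : F₀,
    ush R.hf (cv v) (cv w) (b : F) ∈ M

/-- The parameter `b` occurs on every totally isotropic rational pair. -/
def Good (R : Rat σ f σ₀ B) (M : Subgroup (GL ι F)) (b : F) : Prop :=
  ∀ p q : ι → F₀, B p p = 0 → B q q = 0 → B p q = 0 → LinearIndependent F₀ ![p, q] →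
    ush R.hf (cv p) (cv q) b ∈ M

variable {M : Subgroup (GL ι F)}

lemma swap_mem (R : Rat σ f σ₀ B) {p q : ι → F₀} (hp : B p p = 0) (hq : B q q = 0)
    (hpq : B p q = 0) {b : F} (h : ush R.hf (cv p) (cv q) b ∈ M) :
    ush R.hf (cv q) (cv p) (-σ b) ∈ M := by
  rwa [← ush_swap R.hf (R.orth hp) (R.orth hq) (R.orth hpq)]

/-- Replace `w` by `w + c z'`, with the pairing vector given by `x`. -/
lemma shift (R : Rat σ f σ₀ B) {p q r x : ι → F₀} (hp : B p p = 0) (hq : B q q = 0)
    (hr : B r r = 0) (hx : B x x = 0) (hpq : B p q = 0) (hpr : B p r = 0) (hqr : B q r = 0)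
    (hqx : B q x = 1) (hpx : B p x = 0) (hxr : B x r = 0) {b c : F}
    (hb : ush R.hf (cv p) (cv q) b ∈ M) (hc : ush R.hf (cv x) (cv r) c ∈ M) :
    ush R.hf (cv p) (cv r) (c * b) ∈ M := by
  have hf := R.hf
  have oX := R.orth hx
  have oxr := R.orth hxr
  have h := M.mul_mem (M.mul_mem hc hb) (M.inv_mem hc)
  have e1 : (ush hf (cv x) (cv r) c : Matrix ι ι F) *ᵥ cv p = cv p := by
    rw [ush_mulVec hf oX oxr, R.orth hpx, R.orth hpr]; simp
  have e2 : (ush hf (cv x) (cv r) c : Matrix ι ι F) *ᵥ cv q = cv q + c • cv r := by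
    have h1 : f (cv q) (cv x) = 1 := by rw [← R.coe_B, hqx, Subfield.coe_one]
    rw [ush_mulVec hf oX oxr, R.orth hqr, h1]; simp
  have hcr : f (cv p) (c • cv r) = 0 := by rw [smul_right hf, R.orth hpr, mul_zero]
  have hqcr : f (cv q + c • cv r) (cv q + c • cv r) = 0 := by
    rw [← e2, mem_isoOf.1 (ush_mem_isoOf hf oX (R.orth hr) oxr c), R.orth hq]
  rw [ush_conj hf (ush_mem_isoOf hf oX (R.orth hr) oxr c) (R.orth hp) (R.orth hpq), e1, e2] at h
  have hsplit : ush hf (cv p) (cv q + c • cv r) b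
      = ush hf (cv p) (cv q) b * ush hf (cv p) (cv r) (c * b) := by
    have hrr : f (c • cv r) (c • cv r) = 0 := by
      rw [hf.smul_left, smul_right hf, R.orth hr, mul_zero, mul_zero]
    refine gl_ext_mulVec fun y => ?_
    simp only [gl_mulVec_mul, ush_mulVec hf (R.orth hp) (R.orth hpq),
      ush_mulVec hf (R.orth hp) (R.orth hpr),
      ush_mulVec hf (R.orth hp) (show f (cv p) (cv q + c • cv r) = 0 by
        rw [add_right hf, R.orth hpq, hcr, add_zero]),
      sub_left hf, hf.add_left, add_right hf, hf.smul_left, smul_right hf, R.orth hp,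
      eq_zero_comm hf (R.orth hpq), eq_zero_comm hf (R.orth hpr), R.orth hpq, R.orth hqr,
      eq_zero_comm hf (R.orth hqr), R.orth hpr, map_mul]
    module
  rw [hsplit] at h
  exact (M.mul_mem_cancel_left hb).1 h

variable [Fintype F]

/-- Change the second member of a pair carrying a parameter. -/
lemma move_snd (R : Rat σ f σ₀ B) (hM : Contains R M) {p q r : ι → F₀} (hp : B p p = 0)
    (hq : B q q = 0) (hr : B r r = 0) (hpq : B p q = 0) (hpr : B p r = 0) (hqr : B q r = 0)
    (hli : LinearIndependent F₀ ![q, p, r]) {b : F} (hb : ush R.hf (cv p) (cv q) b ∈ M) :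
    ush R.hf (cv p) (cv r) b ∈ M := by
  haveI := Fintype.ofFinite F₀
  obtain ⟨x, hx, hqx, hrest⟩ := exists_isotropic_pairing R.hB hli (fun i => by
    fin_cases i
    · exact hq
    · exact hpq
    · exact eq_zero_comm R.hB hqr)
  have hpx : B p x = 0 := hrest 0
  have hxr : B x r = 0 := eq_zero_comm R.hB (hrest 1)
  have := shift R hp hq hr hx hpq hpr hqr hqx hpx hxr hb
    (c := 1) (by simpa using hM.sh x r hx hr hxr 1)
  rwa [one_mul] at this

omit [DecidableEq F] [Fintype F] [Fintype ι] [DecidableEq ι] in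
lemma li_three {a b c : ι → F₀} (h : LinearIndependent F₀ ![b, c])
    (ha : a ∉ Submodule.span F₀ (Set.range ![b, c])) : LinearIndependent F₀ ![a, b, c] :=
  linearIndependent_finCons.2 ⟨h, ha⟩

omit [Fintype F] [DecidableEq F] [Fintype ι] [DecidableEq ι] in
lemma li_of_comp {k l : ℕ} {v : Fin k → ι → F₀} (h : LinearIndependent F₀ v) (g : Fin l → Fin k)
    (hg : Function.Injective g) {w : Fin l → ι → F₀} (hw : ∀ i, v (g i) = w i) :
    LinearIndependent F₀ w := by
  convert h.comp g hg using 1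
  exact funext fun i => (hw i).symm

omit [Fintype F] [DecidableEq F] [Fintype ι] [DecidableEq ι] in
lemma notMem_span_sub {k l : ℕ} {v : Fin k → ι → F₀} {w : Fin l → ι → F₀} {r : ι → F₀}
    (h : r ∉ Submodule.span F₀ (Set.range v)) (hw : ∀ i, ∃ j, v j = w i) :
    r ∉ Submodule.span F₀ (Set.range w) := fun hmem =>
  h (Submodule.span_mono (by rintro _ ⟨i, rfl⟩; obtain ⟨j, hj⟩ := hw i; exact ⟨j, hj⟩) hmem)

lemma good_of_pair (R : Rat σ f σ₀ B) (hM : Contains R M) (hn : 10 ≤ Fintype.card ι)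
    {p q : ι → F₀} (hp : B p p = 0) (hq : B q q = 0) (hpq : B p q = 0)
    (hli : LinearIndependent F₀ ![p, q]) {b : F} (hb : ush R.hf (cv p) (cv q) b ∈ M) :
    Good R M b := by
  intro p' q' hp' hq' hpq' hli'
  haveI := Fintype.ofFinite F₀
  obtain ⟨r, hr, hro, hrs⟩ := exists_isotropic_orth R.hB ![p, q, p', q'] ![p, q, p', q']
    (by omega) (by omega)
  obtain ⟨s, hs, hso, hss⟩ := exists_isotropic_orth R.hB ![q, q', r] ![q, q', r]
    (by omega) (by omega)
  have hrp : B r p = 0 := hro 0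
  have hrq : B r q = 0 := hro 1
  have hrp' : B r p' = 0 := hro 2
  have hrq' : B r q' = 0 := hro 3
  have hsq : B s q = 0 := hso 0
  have hsq' : B s q' = 0 := hso 1
  have hsr : B s r = 0 := hso 2
  have o := fun {a c : ι → F₀} (h : B a c = 0) => eq_zero_comm R.hB h
  have l1 : LinearIndependent F₀ ![r, p, q] :=
    li_three hli (notMem_span_sub hrs fun i => by fin_cases i; exacts [⟨0, rfl⟩, ⟨1, rfl⟩])
  have hrq_li : LinearIndependent F₀ ![r, q] :=
    li_of_comp l1 ![0, 2] (by decide) (fun i => by fin_cases i <;> rfl)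
  have l2 : LinearIndependent F₀ ![s, r, q] :=
    li_three hrq_li (notMem_span_sub hss fun i => by fin_cases i; exacts [⟨2, rfl⟩, ⟨0, rfl⟩])
  have l1' : LinearIndependent F₀ ![r, p', q'] :=
    li_three hli' (notMem_span_sub hrs fun i => by fin_cases i; exacts [⟨2, rfl⟩, ⟨3, rfl⟩])
  have hrq'_li : LinearIndependent F₀ ![r, q'] :=
    li_of_comp l1' ![0, 2] (by decide) (fun i => by fin_cases i <;> rfl)
  have l2' : LinearIndependent F₀ ![s, r, q'] :=
    li_three hrq'_li (notMem_span_sub hss fun i => by fin_cases i; exacts [⟨2, rfl⟩, ⟨1, rfl⟩])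
  -- (p, q) to (r, q)
  have h1 := swap_mem R hp hq hpq hb
  have h2 := move_snd R hM hq hp hr (o hpq) (o hrq) (o hrp)
    (li_of_comp l1 ![1, 2, 0] (by decide) (fun i => by fin_cases i <;> rfl)) h1
  have h3 := swap_mem R hq hr (o hrq) h2
  rw [map_neg, R.hf.involutive, neg_neg] at h3
  -- (r, q) to (r, s) to (r, q')
  have h4 := move_snd R hM hr hq hs hrq (o hsr) (o hsq)
    (li_of_comp l2 ![2, 1, 0] (by decide) (fun i => by fin_cases i <;> rfl)) h3
  have h5 := move_snd R hM hr hs hq' (o hsr) hrq' hsq' l2' h4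
  -- (r, q') to (p', q')
  have h6 := swap_mem R hr hq' hrq' h5
  have h7 := move_snd R hM hq' hr hp' (o hrq') (o hpq') hrp'
    (li_of_comp l1' ![0, 2, 1] (by decide) (fun i => by fin_cases i <;> rfl)) h6
  have h8 := swap_mem R hq' hp' (o hpq') h7
  rwa [map_neg, R.hf.involutive, neg_neg] at h8

omit [DecidableEq F] in
lemma exists_triple (R : Rat σ f σ₀ B) (hn : 10 ≤ Fintype.card ι) : ∃ p q r : ι → F₀,
    B p p = 0 ∧ B q q = 0 ∧ B r r = 0 ∧ B q p = 0 ∧ B r p = 0 ∧ B r q = 0 ∧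
      LinearIndependent F₀ ![r, q, p] := by
  haveI := Fintype.ofFinite F₀
  obtain ⟨p, hp, -, hp'⟩ := exists_isotropic_orth R.hB (![] : Fin 0 → ι → F₀) ![(0 : ι → F₀)]
    (by omega) (by omega)
  obtain ⟨q, hq, hqo, hqs⟩ := exists_isotropic_orth R.hB ![p] ![p] (by omega) (by omega)
  obtain ⟨r, hr, hro, hrs⟩ := exists_isotropic_orth R.hB ![q, p] ![q, p] (by omega) (by omega)
  exact ⟨p, q, r, hp, hq, hr, hqo 0, hro 1, hro 0, li_three (linearIndependent_finCons.2
    ⟨LinearIndependent.of_subsingleton 0 (fun e : p = 0 => hp' (by rw [e]; exact zero_mem _)), hqs⟩) hrs⟩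

lemma good_mul (R : Rat σ f σ₀ B) (hM : Contains R M) (hn : 10 ≤ Fintype.card ι) {b c : F}
    (hb : Good R M b) (hc : Good R M c) : Good R M (c * b) := by
  haveI := Fintype.ofFinite F₀
  obtain ⟨p, q, r, hp, hq, hr, hqp, hrp, hrq, hli⟩ := exists_triple R hn
  have hpq := eq_zero_comm R.hB hqp
  have hpr := eq_zero_comm R.hB hrp
  have hqr := eq_zero_comm R.hB hrq
  have hli' : LinearIndependent F₀ ![q, p, r] :=
    li_of_comp hli ![1, 2, 0] (by decide) (fun i => by fin_cases i <;> rfl)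
  obtain ⟨x, hx, hqx, hrest⟩ := exists_isotropic_pairing R.hB hli' (fun i => by
    fin_cases i
    · exact hq
    · exact hpq
    · exact hrq)
  have hxr : B x r = 0 := eq_zero_comm R.hB (hrest 1)
  have hlixr : LinearIndependent F₀ ![x, r] := by
    refine LinearIndependent.pair_iff.2 fun s t h => ?_
    have h1 := congrArg (fun w => B w q) h
    have hxq : B x q = 1 := by rw [R.hB.herm, show B q x = 1 from hqx, map_one]
    simp only [R.hB.add_left, R.hB.smul_left, hxq, hrq, mul_one, mul_zero, add_zero,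
      zero_left R.hB] at h1
    rw [h1, zero_smul, zero_add, smul_eq_zero] at h
    exact ⟨h1, h.resolve_right (hli'.ne_zero 2)⟩
  refine good_of_pair R hM hn hp hr hpr
    (li_of_comp hli' ![1, 2] (by decide) (fun i => by fin_cases i <;> rfl)) ?_
  exact shift R hp hq hr hx hpq hpr hqr hqx (hrest 0) hxr
    (hb p q hp hq hpq (li_of_comp hli' ![1, 0] (by decide) (fun i => by fin_cases i <;> rfl)))
    (hc x r hx hr hxr hlixr)

lemma good_smul (R : Rat σ f σ₀ B) (hM : Contains R M) (hn : 10 ≤ Fintype.card ι) (c : F₀) {b : F}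
    (hb : Good R M b) : Good R M ((c : F) * b) :=
  good_mul R hM hn hb fun p q hp hq hpq _ => hM.sh p q hp hq hpq c

/-- A transvection of `M` at an irrational point gives new parameters. -/
lemma good_of_transvection (R : Rat σ f σ₀ B) (hM : Contains R M) (hn : 10 ≤ Fintype.card ι)
    {τ : F₀} (hτ0 : τ ≠ 0) (hτ : σ₀ τ = -τ) {u : ι → F} (hu : f u u = 0)
    (huM : uTv R.hf u (τ : F) ∈ M) {v w z : ι → F₀} (hv : B v v = 0) (hw : B w w = 0)
    (hz : B z z = 0) (hvw : B v w = 0) (hzv : B z v = 0) (hli : LinearIndependent F₀ ![z, v])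
    (huv : f u (cv v) = 0) :
    Good R M (f u (cv w) * σ (f u (cv z))) := by
  haveI := Fintype.ofFinite F₀
  have hf := R.hf
  have hτF : σ (τ : F) = -(τ : F) := by rw [← R.coe_σ, hτ]; rfl
  have ov := R.orth hv
  have ow := R.orth hw
  have oz := R.orth hz
  have ovw := R.orth hvw
  have ozv := R.orth hzv
  obtain ⟨l, hl, hl1⟩ := exists_norm_one_ne_one R.hB.ne_refl R.hB.involutive
  have hlF : (l : F) * σ (l : F) = 1 := by rw [← R.coe_σ, ← Subfield.coe_mul, hl]; rfl
  set ρ : F → F := fun b => -(σ b * f u (cv w)) with hρ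
  -- conjugates by rational short root elements
  have hY : ∀ b : F₀, ush hf u (cv v) ((τ : F) * ρ b)
      * uTv hf (cv v) ((τ : F) * (ρ b * σ (ρ b))) ∈ M := by
    intro b
    have hs := hM.sh v w hv hw hvw b
    have h := M.mul_mem (M.mul_mem hs huM) (M.inv_mem hs)
    rw [uTv_conj hf (ush_mem_isoOf hf ov ow ovw _) hu, ush_mulVec hf ov ovw, huv, mul_zero,
      zero_smul, add_zero, sub_eq_add_neg, ← neg_smul,
      uTv_add_smul hf hu ov huv (-(σ (b : F) * f u (cv w))) hτF, mul_assoc (uTv hf u _)] at h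
    exact (M.mul_mem_cancel_left huM).1 h
  set a : F := (τ : F) * ρ l + -((τ : F) * ρ (1 : F₀)) with ha
  have hlin : ush hf u (cv v) a ∈ M := by
    have h := M.mul_mem (hY l) (M.inv_mem (hY 1))
    have e : ρ l * σ (ρ l) = ρ (1 : F₀) * σ (ρ (1 : F₀)) := by
      simp only [hρ, map_neg, map_mul, hf.involutive, Subfield.coe_one, map_one]
      linear_combination (f u (cv w) * σ (f u (cv w))) * hlF
    rwa [e, _root_.mul_inv_rev, mul_assoc, mul_inv_cancel_left, ush_inv hf hu ov huv,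
      ush_add hf hu ov huv] at h
  -- conjugate by a rational transvection
  have hzT := hM.tv z hz τ hτ
  have hD := M.mul_mem (M.mul_mem hzT hlin) (M.inv_mem hzT)
  set μ : F := (τ : F) * f u (cv z) with hμ
  have huz : f (μ • cv z) (μ • cv z) = 0 := by
    rw [hf.smul_left, smul_right hf, oz, mul_zero, mul_zero]
  have hμzv : f (μ • cv z) (cv v) = 0 := by rw [hf.smul_left, ozv, mul_zero]
  have hiso : uTv hf (cv z) (τ : F) ∈ isoOf f := uTv_mem_isoOf hf oz hτF
  have hsum : f (u + μ • cv z) (u + μ • cv z) = 0 := by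
    rw [hμ, ← uTv_mulVec hf oz (τ : F) u, mem_isoOf.1 hiso, hu]
  rw [ush_conj hf hiso hu huv, uTv_mulVec hf oz, uTv_mulVec_of_orth hf oz _ (eq_zero_comm hf ozv),
    ← hμ, ush_add_left hf hu huz hsum ov huv hμzv, mul_assoc] at hD
  have hD' := (M.mul_mem_cancel_left hlin).1 hD
  set α : F := σ μ * a with hα
  set k : F := a * σ a * f (μ • cv z) u with hk
  rw [ush_smul_left hf oz ozv, ← hα] at hD'
  -- isolate with a further vector
  obtain ⟨z', hz', hz'o, hz's⟩ := exists_isotropic_orth R.hB ![z, v] ![z, v] (by omega) (by omega)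
  have hz'z : B z' z = 0 := hz'o 0
  have hz'v : B z' v = 0 := hz'o 1
  have hli3 : LinearIndependent F₀ ![z', z, v] := li_three hli hz's
  have hli3' : LinearIndependent F₀ ![z, v, z'] :=
    li_of_comp hli3 ![1, 2, 0] (by decide) (fun i => by fin_cases i <;> rfl)
  obtain ⟨x, hx, hzx, hrest⟩ := exists_isotropic_pairing R.hB hli3' (fun i => by
    fin_cases i
    · exact hz
    · exact eq_zero_comm R.hB hzv
    · exact hz'z)
  have hxz' : B x z' = 0 := eq_zero_comm R.hB (hrest 1)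
  have hh := hM.sh x z' hx hz' hxz' 1
  rw [Subfield.coe_one] at hh
  have oxz' := R.orth hxz'
  have oz' := R.orth hz'
  have oz'v := R.orth hz'v
  have hhi := ush_mem_isoOf hf (R.orth hx) oz' oxz' 1
  have e1 : (ush hf (cv x) (cv z') 1 : Matrix ι ι F) *ᵥ cv z = cv z + cv z' := by
    have h1 : f (cv z) (cv x) = 1 := by rw [← R.coe_B, show B z x = 1 from hzx]; rfl
    rw [ush_mulVec hf (R.orth hx) oxz', h1, eq_zero_comm hf (R.orth hz'z)]; simp
  have e2 : (ush hf (cv x) (cv z') 1 : Matrix ι ι F) *ᵥ cv v = cv v := by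
    rw [ush_mulVec hf (R.orth hx) oxz', R.orth (show B v x = 0 from hrest 0),
      eq_zero_comm hf oz'v]; simp
  have hfinal := M.mul_mem (M.inv_mem hD') (M.mul_mem (M.mul_mem hh hD') (M.inv_mem hh))
  have hzz' : f (cv z + cv z') (cv z + cv z') = 0 := by
    rw [← e1, mem_isoOf.1 hhi, oz]
  rw [show ∀ g a b : GL ι F, g * (a * b) * g⁻¹ = g * a * g⁻¹ * (g * b * g⁻¹) from
      fun g a b => by group, ush_conj hf hhi oz ozv, uTv_conj hf hhi ov, e1, e2,
    ush_add_left hf oz oz' hzz' ov ozv oz'v, R.orth hz'z, mul_zero,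
    show uTv hf (cv v) (0 : F) = 1 from gl_ext_mulVec fun y => by rw [uTv_mulVec hf ov]; simp,
    mul_one, mul_assoc (ush hf (cv z) (cv v) α), ← uTv_ush_comm hf oz' ov oz'v, _root_.mul_inv_rev,
    mul_assoc, inv_mul_cancel_left, inv_mul_cancel_left] at hfinal
  have hG := good_of_pair R hM hn hz' hv hz'v
    (li_of_comp hli3 ![0, 2] (by decide) (fun i => by fin_cases i <;> rfl)) hfinal
  -- remove the rational factor
  have hfac : α = ((τ * τ * (σ₀ l - 1) : F₀) : F) * (f u (cv w) * σ (f u (cv z))) := by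
    simp only [hα, ha, hμ, hρ, map_mul, hτF, map_one, Subfield.coe_mul, Subfield.coe_sub,
      Subfield.coe_one, R.coe_σ]
    ring
  rw [hfac] at hG
  have hne : τ * τ * (σ₀ l - 1) ≠ 0 := mul_ne_zero (mul_ne_zero hτ0 hτ0) (sub_ne_zero.2 fun e =>
    hl1 (by rw [← R.hB.involutive l, e, map_one]))
  have := good_smul R hM hn (τ * τ * (σ₀ l - 1))⁻¹ hG
  rwa [← mul_assoc, ← Subfield.coe_mul, inv_mul_cancel₀ hne, Subfield.coe_one, one_mul] at this

end CfsgLib.ClassicalMax.Unit.Sub
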