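/-
Subfield groups of odd degree are maximal in the special unitary group.
-/
import Cfsg.Agent.Lib.ClassicalMax.UnitSubfieldKey
import Cfsg.Agent.Lib.ClassicalMax.UnitSympSubfield
import Cfsg.Agent.Lib.ClassicalMax.DecompNotMax
set_option autoImplicit false

namespace CfsgLib.ClassicalMax.Unit.Sub

open Matrix Cfsg.Geo CfsgLib.ClassicalMax.LinSub

variable {ι : Type} [Fintype ι] [DecidableEq ι] {F : Type*} [Field F] {F₀ : Subfield F}
  {σ : F ≃+* F} {f : (ι → F) → (ι → F) → F} {σ₀ : F₀ ≃+* F₀}
  {B : (ι → F₀) → (ι → F₀) → F₀}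

lemma isHermLike (hf : IsUnitaryForm σ f) :
    CfsgLib.ClassicalMax.DecompNot.IsHermLike σ.toRingHom f :=
  ⟨hf.involutive, hf.add_left, hf.smul_left, hf.herm⟩

/-- Independent rational vectors are independent over the field. -/
lemma li_cv [Finite F] (R : Rat σ f σ₀ B) {k : ℕ} {d : Fin k → ι → F₀}
    (hd : LinearIndependent F₀ d) : LinearIndependent F fun i => cv (d i) := by
  classical
  refine Fintype.linearIndependent_iff.2 fun a ha j => ?_
  obtain ⟨z, hz⟩ := exists_pairing R.hB hd (fun i => if i = j then 1 else 0)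
  have h := congrArg (formL R.hf (cv z)) ha
  simp only [map_sum, map_smul, formL_apply, map_zero, ← R.coe_B, hz, smul_eq_mul,
    apply_ite (fun t : F₀ => (t : F)), Subfield.coe_one, Subfield.coe_zero, mul_ite, mul_one,
    mul_zero, Finset.sum_ite_eq', Finset.mem_univ, if_true] at h
  exact h

/-- The multipliers in a rational combination differ by a rational factor. -/
lemma coeff_mem {x y : ι → F₀} (h : LinearIndependent F₀ ![x, y]) {a b : F} (ha : a ≠ 0)
    (hr : IsRat F₀ (a • cv x + b • cv y)) : b / a ∈ F₀ := by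
  obtain ⟨l, r, e⟩ := hr
  obtain ⟨p, q, hD⟩ := exists_minor_ne_zero h
  set D : F₀ := x p * y q - x q * y p
  have hD' : (D : F) ≠ 0 := fun h => hD (by ext; simpa using h)
  have hp := congrFun e p
  have hq := congrFun e q
  simp only [Pi.add_apply, Pi.smul_apply, smul_eq_mul, cv] at hp hq
  have hx : a * (D : F) = l * ((r p * y q - r q * y p : F₀) : F) := by
    simp only [D, Subfield.coe_sub, Subfield.coe_mul]
    linear_combination (y q : F) * hp - (y p : F) * hq
  have hy : b * (D : F) = l * ((x p * r q - x q * r p : F₀) : F) := by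
    simp only [D, Subfield.coe_sub, Subfield.coe_mul]
    linear_combination (x p : F) * hq - (x q : F) * hp
  have hl : l ≠ 0 := fun h0 => by
    rw [h0, zero_mul] at hx; exact mul_ne_zero ha hD' hx
  rw [← mul_div_mul_right b a hD', hx, hy, mul_div_mul_left _ _ hl]
  exact F₀.div_mem (SetLike.coe_mem _) (SetLike.coe_mem _)

/-- A vector of given length orthogonal to and independent of few vectors. -/
lemma exists_next [Finite F] (R : Rat σ f σ₀ B) {k : ℕ}
    (hk : 2 * k + 2 ≤ Fintype.card ι)
    (hn : 4 ≤ Fintype.card ι) (d : Fin k → ι → F₀) {s : F₀} (hs : σ₀ s = s)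
    (hd : 4 * k < Fintype.card ι ∨ s = 0 ∨ ∀ i j, B (d i) (d j) = if i = j then s else 0) :
    ∃ r, B r r = s ∧ (∀ i, B r (d i) = 0) ∧ r ∉ Submodule.span F₀ (Set.range d) := by
  classical
  haveI := Fintype.ofFinite F₀
  let L : (ι → F₀) →ₗ[F₀] (Fin k → F₀) := LinearMap.pi fun i => formL R.hB (d i)
  have h1 := LinearMap.finrank_range_add_finrank_ker L
  have h2 : Module.finrank F₀ (LinearMap.range L) ≤ k := by
    simpa using Submodule.finrank_le (LinearMap.range L)
  have h3 : Module.finrank F₀ (Submodule.span F₀ (Set.range d)) ≤ k :=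
    (finrank_range_le_card d).trans (by simp)
  rw [Module.finrank_fintype_fun_eq_card] at h1
  set S := Submodule.span F₀ (Set.range d)
  set W := LinearMap.ker L
  obtain ⟨C, hC⟩ := Submodule.exists_isCompl (S.comap W.subtype)
  have h4 := Submodule.finrank_add_eq_of_isCompl hC
  have h5 : Module.finrank F₀ (S.comap W.subtype) ≤ k := by
    refine le_trans ?_ h3
    rw [← Submodule.finrank_map_subtype_eq W]
    exact Submodule.finrank_mono (Submodule.map_comap_le _ _)
  set W' := C.map W.subtype with hW'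
  have h6 : Module.finrank F₀ W' = Module.finrank F₀ C := Submodule.finrank_map_subtype_eq W C
  have key : ∀ r ∈ W', r ≠ 0 → (∀ i, B r (d i) = 0) ∧ r ∉ S := by
    rintro _ ⟨c, hc, rfl⟩ hne
    refine ⟨fun i => congrFun c.2 i, fun hS => hne ?_⟩
    have h0 : c = 0 := (Submodule.mem_bot F₀).1 (hC.inf_eq_bot ▸ ⟨hS, hc⟩)
    rw [h0, map_zero]
  by_cases hs0 : s = 0
  · obtain ⟨r, hrW, hr0, hrr⟩ := exists_isotropic_mem R.hB (W := W') (by omega)
    exact ⟨r, hrr.trans hs0.symm, key r hrW hr0⟩
  · have hW'big : Fintype.card ι < 2 * Module.finrank F₀ W' := by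
      rcases hd with hd | hd | hd
      · omega
      · exact absurd hd hs0
      · have hbot : S.comap W.subtype = ⊥ := by
          refine (Submodule.eq_bot_iff _).2 fun w hw => Subtype.ext ?_
          obtain ⟨c, hc⟩ := (Submodule.mem_span_range_iff_exists_fun F₀).1 hw
          have hc0 : ∀ j, c j = 0 := fun j => by
            have e : B (w : ι → F₀) (d j) = 0 := congrFun w.2 j
            rw [show (w : ι → F₀) = ∑ i, c i • d i from hc.symm, ← formL_apply R.hB, map_sum,
              Finset.sum_eq_single j (fun i _ hi => by simp [hd i j, hi]) (by simp)] at e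
            simpa [hd j j, hs0] using e
          show (w : ι → F₀) = 0
          rw [show (w : ι → F₀) = ∑ i, c i • d i from hc.symm]
          simp [hc0]
        have h5' : Module.finrank F₀ (S.comap W.subtype) = 0 := by rw [hbot]; exact finrank_bot F₀ W
        omega
    obtain ⟨r, hrW, hrr⟩ := exists_value R.hB (W := W') hW'big hs
    exact ⟨r, hrr, key r hrW fun e => hs0 (by rw [← hrr, e, zero_left R.hB])⟩

/-- Four orthogonal independent vectors of length `-2`. -/
lemma exists_frame [Finite F] (R : Rat σ f σ₀ B) (hn : 10 ≤ Fintype.card ι) :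
    ∃ d : Fin 4 → ι → F₀, LinearIndependent F₀ d ∧
      ∀ i j, B (d i) (d j) = if i = j then -2 else 0 := by
  classical
  have hs : σ₀ (-2 : F₀) = -2 := by rw [map_neg, map_ofNat]
  obtain ⟨a, ha, -, haS⟩ := exists_next R (k := 0) (by omega) (by omega) ![] hs (Or.inl (by omega))
  obtain ⟨b, hb, hbo, hbS⟩ := exists_next R (k := 1) (by omega) (by omega) ![a] hs (Or.inl (by omega))
  obtain ⟨c, hc, hco, hcS⟩ := exists_next R (k := 2) (by omega) (by omega) ![b, a] hs (Or.inl (by omega))
  have hd3 : ∀ i j : Fin 3, B (![c, b, a] i) (![c, b, a] j) = if i = j then (-2 : F₀) else 0 := by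
    intro i j
    have e1 : B b a = 0 := hbo 0
    have e2 : B c b = 0 := hco 0
    have e3 : B c a = 0 := hco 1
    fin_cases i <;> fin_cases j <;>
      simp [ha, hb, hc, e1, e2, e3, eq_zero_comm R.hB e1, eq_zero_comm R.hB e2, eq_zero_comm R.hB e3]
  obtain ⟨e, he, heo, heS⟩ := exists_next R (k := 3) (by omega) (by omega)
    ![c, b, a] hs (Or.inr (Or.inr hd3))
  have o := fun {x y : ι → F₀} (h : B x y = 0) => eq_zero_comm R.hB h
  have ha0 : a ≠ 0 := fun e => haS (by rw [e]; exact zero_mem _)
  refine ⟨![e, c, b, a], linearIndependent_finCons.2 ⟨linearIndependent_finCons.2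
    ⟨linearIndependent_finCons.2 ⟨LinearIndependent.of_subsingleton 0 ha0, hbS⟩, hcS⟩, heS⟩,
    fun i j => ?_⟩
  have e1 : B b a = 0 := hbo 0
  have e2 : B c b = 0 := hco 0
  have e3 : B c a = 0 := hco 1
  have e4 : B e c = 0 := heo 0
  have e5 : B e b = 0 := heo 1
  have e6 : B e a = 0 := heo 2
  fin_cases i <;> fin_cases j <;> simp [ha, hb, hc, he, e1, e2, e3, e4, e5, e6, o e1, o e2, o e3,
    o e4, o e5, o e6]

/-- Products of the involutions attached to orthogonal vectors of length `-2`. -/
lemma exists_invol (R : Rat σ f σ₀ B) {k : ℕ} (d : Fin k → ι → F₀)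
    (hd : ∀ i j, B (d i) (d j) = if i = j then -2 else 0) :
    ∃ z : GL ι F, z ∈ subfieldSubgroup F₀ (1 : GL ι F) ∧ z ∈ isoOf f ∧
      Matrix.det (z : Matrix ι ι F) = (-1) ^ k ∧ z * z = 1 ∧
      ∀ y, (z : Matrix ι ι F) *ᵥ y = y + ∑ i, f y (cv (d i)) • cv (d i) := by
  classical
  have hf := R.hf
  induction k with
  | zero => exact ⟨1, one_mem _, one_mem _, by simp, one_mul _, fun y => by simp⟩
  | succ k ih =>
    obtain ⟨z, hzS, hzi, hzd, hzz, hz⟩ := ih (fun i => d i.succ) fun i j => by
      rw [hd]; simp [Fin.succ_inj]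
    have hoF : ∀ i j, f (cv (d i)) (cv (d j)) = if i = j then -2 else 0 := fun i j => by
      rw [← R.coe_B, hd]; split_ifs <;> simp <;> rfl
    obtain ⟨T, hTi, hTd, hT⟩ := CfsgLib.ClassicalMax.DecompNot.exists_refl (isHermLike hf)
      (v := cv (d 0)) (by rw [hoF]; simp)
    have hTS : T ∈ subfieldSubgroup F₀ (1 : GL ι F) := mem_sub_one_iff.2 fun x => ⟨1,
      x + B x (d 0) • d 0, by rw [one_smul, hT, cv_add, cv_smul, R.coe_B]⟩
    have hfy : ∀ y i, f ((T : Matrix ι ι F) *ᵥ y) (cv (d i))
        = f y (cv (d i)) + f y (cv (d 0)) * f (cv (d 0)) (cv (d i)) := fun y i => by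
      rw [hT, hf.add_left, hf.smul_left]
    have hzT : ∀ y, ((z * T : GL ι F) : Matrix ι ι F) *ᵥ y = y + ∑ i, f y (cv (d i)) • cv (d i) := by
      intro y
      rw [gl_mulVec_mul, hz, Fin.sum_univ_succ, ← add_assoc, ← hT]
      congr 1
      refine Finset.sum_congr rfl fun i _ => ?_
      rw [hfy, hoF, if_neg (Fin.succ_ne_zero i).symm, mul_zero, add_zero]
    refine ⟨z * T, mul_mem hzS hTS, mul_mem hzi hTi,
      by rw [Units.val_mul, det_mul, hzd, hTd, pow_succ], gl_ext_mulVec fun y => ?_, hzT⟩
    rw [gl_mulVec_mul, Units.val_one, one_mulVec, hzT, hzT]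
    have hs : ∀ j, f (y + ∑ i, f y (cv (d i)) • cv (d i)) (cv (d j))
        = f y (cv (d j)) + f y (cv (d j)) * -2 := fun j => by
      rw [← formL_apply hf (cv (d j)), map_add, map_sum, formL_apply]
      congr 1
      rw [Finset.sum_eq_single j (fun i _ hij => by
          rw [map_smul, formL_apply, hoF, if_neg hij, smul_zero])
        (fun h => absurd (Finset.mem_univ j) h), map_smul, formL_apply, hoF, if_pos rfl, smul_eq_mul]
    simp only [hs, add_assoc, ← Finset.sum_add_distrib]
    convert add_zero y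
    refine Finset.sum_eq_zero fun i _ => ?_
    module

variable [DecidableEq F]

/-- Three independent moved vectors. -/
lemma not_small_li {h : GL ι F} (y : Fin 3 → ι → F)
    (hli : LinearIndependent F fun i => (h : Matrix ι ι F) *ᵥ y i - y i) : ¬ Small h := by
  rintro ⟨s, hs⟩
  have h1 := Submodule.finrank_mono (Submodule.span_le.2 (Set.range_subset_iff.2 fun i => hs (y i)))
  rw [finrank_span_eq_card hli] at h1
  have h2 := finrank_range_le_card (R := F) s
  rw [Set.finrank] at h2
  simp only [Fintype.card_fin] at h1 h2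
  omega

variable [Fintype F] {M : Subgroup (GL ι F)}

omit [DecidableEq F] in
lemma mem_span_cv {W : Submodule F₀ (ι → F₀)} {S : Set (ι → F₀)} (hS : Submodule.span F₀ S = W)
    {x : ι → F₀} (hx : x ∈ W) : cv x ∈ Submodule.span F (cv '' S) := by
  rw [← hS] at hx
  induction hx using Submodule.span_induction with
  | mem a ha => exact Submodule.subset_span ⟨a, ha, rfl⟩
  | zero => rw [cv_zero]; exact zero_mem _
  | add a b _ _ iha ihb => rw [cv_add]; exact add_mem iha ihb
  | smul c a _ ih => rw [cv_smul]; exact Submodule.smul_mem _ _ ih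

omit [Fintype F] [DecidableEq F] [Fintype ι] [DecidableEq ι] in
lemma li_one {v : ι → F₀} (h : v ≠ 0) : LinearIndependent F₀ (![v] : Fin (0 + 1) → ι → F₀) := by
  haveI : Subsingleton (Fin (0 + 1)) := inferInstanceAs (Subsingleton (Fin 1))
  exact LinearIndependent.of_subsingleton 0 h

/-- All parameters on all rational pairs give all transvections. -/
lemma uSet_of_good (R : Rat σ f σ₀ B) (hM : Contains R M) (hn : 4 ≤ Fintype.card ι)
    (hall : ∀ b, Good R M b) {τ : F₀} (hτ0 : τ ≠ 0) (hτ : σ₀ τ = -τ) {u : ι → F}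
    (hu : f u u = 0) : u ∈ uSet R.hf M := by
  haveI := Fintype.ofFinite F₀
  have hf := R.hf
  have hτF : σ (τ : F) = -(τ : F) := by rw [← R.coe_σ, hτ]; rfl
  -- rational isotropic points
  have hrat : ∀ w : ι → F₀, B w w = 0 → w ≠ 0 → cv w ∈ uSet R.hf M := by
    intro w hw hw0
    refine ⟨R.orth hw, fun c hc => ?_⟩
    obtain ⟨v, hv, hvo, hvs⟩ := exists_isotropic_orth R.hB ![w] ![w] (by omega) (by omega)
    have hli : LinearIndependent F₀ ![v, w] :=
      linearIndependent_finCons.2 ⟨LinearIndependent.of_subsingleton 0 hw0, hvs⟩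
    have hvw : B v w = 0 := hvo 0
    obtain ⟨x, hx, hvx, hrest⟩ := exists_isotropic_pairing R.hB hli (fun i => by
      fin_cases i
      · exact hv
      · exact eq_zero_comm R.hB hvw)
    have hxw : B x w = 0 := eq_zero_comm R.hB (hrest 0)
    have hlixw : LinearIndependent F₀ ![x, w] := by
      refine LinearIndependent.pair_iff.2 fun s t h => ?_
      have h1 := congrArg (fun z => B z v) h
      have hxv : B x v = 1 := by rw [R.hB.herm, show B v x = 1 from hvx, map_one]
      simp only [R.hB.add_left, R.hB.smul_left, hxv, eq_zero_comm R.hB hvw, mul_one, mul_zero,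
        add_zero, zero_left R.hB] at h1
      rw [h1, zero_smul, zero_add, smul_eq_zero] at h
      exact ⟨h1, h.resolve_right hw0⟩
    have hcτ : σ (c / (τ : F)) = c / (τ : F) := by rw [map_div₀, hc, hτF, neg_div_neg_eq]
    obtain ⟨b, hb⟩ := exists_norm_eq hf.ne_refl hf.involutive hcτ
    have hs := hall b x w hx hw hxw hlixw
    have hT := hM.tv v hv τ hτ
    have h := M.mul_mem (M.mul_mem hs hT) (M.inv_mem hs)
    have e : (ush R.hf (cv x) (cv w) b : Matrix ι ι F) *ᵥ cv v = cv v + b • cv w := by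
      have h1 : f (cv v) (cv x) = 1 := by rw [← R.coe_B, show B v x = 1 from hvx]; rfl
      rw [ush_mulVec hf (R.orth hx) (R.orth hxw), h1, R.orth hvw]; simp
    rw [uTv_conj hf (ush_mem_isoOf hf (R.orth hx) (R.orth hw) (R.orth hxw) b) (R.orth hv), e,
      uTv_add_smul hf (R.orth hv) (R.orth hw) (R.orth hvw) b hτF, hb,
      mul_div_cancel₀ c (fun e => hτ0 (Subtype.ext (by simpa using e)))] at h
    exact (M.mul_mem_cancel_left (M.mul_mem hT (hall _ v w hv hw hvw hli))).1 h
  by_cases hu0 : u = 0
  · subst hu0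
    refine ⟨hu, fun c _ => ?_⟩
    rw [uTv, tvGL_zero_left]
    exact M.one_mem
  -- a rational isotropic point not orthogonal to u
  have hspanall : ∀ x : ι → F₀, x ∈ Submodule.span F₀ {w | w ∈ (⊤ : Submodule F₀ (ι → F₀)) ∧ B w w = 0} :=
    fun x => by
      rw [isotropic_span R.hB (W := (⊤ : Submodule F₀ (ι → F₀)))
        (by rw [finrank_top, Module.finrank_fintype_fun_eq_card]; omega)]
      trivial
  obtain ⟨v₀, hv₀, hv₀u⟩ : ∃ v : ι → F₀, B v v = 0 ∧ f (cv v) u ≠ 0 := by
    by_contra hcon
    push Not at hcon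
    obtain ⟨x, hx⟩ := (hf.nondegenerate u hu0).1
    apply hx
    rw [eq_sum_ratVec (F₀ := F₀) 1 x, ← formL_apply hf u, map_sum]
    refine Finset.sum_eq_zero fun i _ => ?_
    rw [map_smul, ratVec_one]
    have h : formL hf u (cv (Pi.single i (1 : F₀))) = 0 := by
      refine (Submodule.span_le (p := LinearMap.ker (formL hf u))).2 ?_
        (mem_span_cv rfl (hspanall (Pi.single i 1)))
      rintro _ ⟨w, hw, rfl⟩
      exact hcon w hw.2
    rw [h, smul_zero]
  have hv₀0 : v₀ ≠ 0 := fun e => hv₀u (by rw [e, cv_zero, zero_left hf])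
  obtain ⟨v₁, hv₁, hv₀₁, -⟩ := exists_isotropic_pairing R.hB (k := 0) (v := ![v₀])
    (li_one hv₀0) (fun i => by fin_cases i; exact hv₀)
  have hv₁₀ : B v₁ v₀ = 1 := by rw [R.hB.herm, show B v₀ v₁ = 1 from hv₀₁, map_one]
  have hv₁0 : v₁ ≠ 0 := fun e => one_ne_zero (α := F₀) (by rw [← hv₁₀, e, zero_left R.hB])
  -- normalise
  set u' := (f u (cv v₀))⁻¹ • u with hu'
  have hne : f u (cv v₀) ≠ 0 := ne_zero_comm hf hv₀u
  suffices h : u' ∈ uSet R.hf M by
    have := uSet_smul hf (f u (cv v₀)) h
    rwa [hu', smul_smul, mul_inv_cancel₀ hne, one_smul] at this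
  have hu'0 : f u' u' = 0 := by rw [hu', hf.smul_left, smul_right hf, hu, mul_zero, mul_zero]
  have hu'v : f u' (cv v₀) = 1 := by rw [hu', hf.smul_left, inv_mul_cancel₀ hne]
  set S : Set (ι → F₀) := {w | B w w = 0 ∧ B w v₀ = 0 ∧ B w v₁ = 0} with hS
  have key : ∀ z ∈ Submodule.span F (cv '' S), f z (cv v₀) = 0 ∧ ∀ c : F,
      ∃ m ∈ M ⊓ isoOf f, (m : Matrix ι ι F) *ᵥ cv v₀ = cv v₀ ∧
        ∃ s : F, (m : Matrix ι ι F) *ᵥ cv v₁ = cv v₁ + c • z + s • cv v₀ := by
    intro z hz
    rw [Submodule.mem_span_set'] at hz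
    obtain ⟨k, a, g, rfl⟩ := hz
    have hg : ∀ i, f (g i : ι → F) (cv v₀) = 0 := fun i => by
      obtain ⟨w, hw, hwg⟩ := (g i).2
      rw [← hwg, R.orth hw.2.1]
    have hsum : ∀ t : Finset (Fin k), f (∑ i ∈ t, a i • (g i : ι → F)) (cv v₀) = 0 := fun t => by
      rw [← formL_apply hf, map_sum]
      exact Finset.sum_eq_zero fun i _ => by rw [map_smul, formL_apply, hg, smul_zero]
    refine ⟨hsum _, fun c => ?_⟩
    induction (Finset.univ : Finset (Fin k)) using Finset.induction with
    | empty => exact ⟨1, one_mem _, by simp, 0, by simp⟩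
    | insert i t hi ih =>
      obtain ⟨m, hm, hm0, s, hm1⟩ := ih
      obtain ⟨w, ⟨hw, hwv₀, hwv₁⟩, hwg⟩ := (g i).2
      by_cases hw0 : w = 0
      · refine ⟨m, hm, hm0, s, ?_⟩
        rw [Finset.sum_insert hi, ← hwg, hw0, cv_zero, smul_zero, zero_add, hm1]
      have ov := eq_zero_comm R.hB hwv₀
      have hli : LinearIndependent F₀ ![v₀, w] := by
        refine LinearIndependent.pair_iff.2 fun p q h => ?_
        have h1 := congrArg (fun z => B z v₁) h
        simp only [R.hB.add_left, R.hB.smul_left, show B v₀ v₁ = 1 from hv₀₁, hwv₁, mul_one,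
          mul_zero, add_zero, zero_left R.hB] at h1
        rw [h1, zero_smul, zero_add, smul_eq_zero] at h
        exact ⟨h1, h.resolve_right hw0⟩
      set T := ush R.hf (cv v₀) (cv w) (c * a i)
      have hT : T ∈ M ⊓ isoOf f :=
        ⟨hall _ v₀ w hv₀ hw ov hli, ush_mem_isoOf hf (R.orth hv₀) (R.orth hw) (R.orth ov) _⟩
      have hT0 : (T : Matrix ι ι F) *ᵥ cv v₀ = cv v₀ := by
        rw [ush_mulVec hf (R.orth hv₀) (R.orth ov), R.orth hv₀, R.orth ov]; simp
      refine ⟨T * m, mul_mem hT hm, by rw [gl_mulVec_mul, hm0, hT0],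
        s - σ (c * a i) * f (c • ∑ j ∈ t, a j • (g j : ι → F)) (cv w), ?_⟩
      have h1 : f (cv v₁) (cv v₀) = 1 := by rw [← R.coe_B, hv₁₀]; rfl
      rw [gl_mulVec_mul, hm1, ush_mulVec hf (R.orth hv₀) (R.orth ov), Finset.sum_insert hi, ← hwg]
      simp only [hf.add_left, hf.smul_left, h1, hsum t, R.orth hv₀, R.orth ov,
        R.orth (eq_zero_comm R.hB hwv₁)]
      module
  -- the component orthogonal to both
  let proj : (ι → F) →ₗ[F] (ι → F) := LinearMap.id
    - (formL hf (cv v₀)).smulRight (cv v₁) - (formL hf (cv v₁)).smulRight (cv v₀)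
  have hproj : proj u' ∈ Submodule.span F (cv '' S) := by
    rw [eq_sum_ratVec (F₀ := F₀) 1 u', map_sum]
    refine Submodule.sum_mem _ fun i _ => ?_
    rw [map_smul, ratVec_one]
    refine Submodule.smul_mem _ _ ?_
    set y : ι → F₀ := Pi.single i 1
    have e : proj (cv y) = cv (y - B y v₀ • v₁ - B y v₁ • v₀) := by
      simp [proj, cv_sub, cv_smul, R.coe_B]
    rw [e]
    refine mem_span_cv (W := LinearMap.ker (formL R.hB v₀) ⊓ LinearMap.ker (formL R.hB v₁)) ?_
      ⟨?_, ?_⟩
    · have hd : Fintype.card ι - 2 ≤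
          Module.finrank F₀ ↥(LinearMap.ker (formL R.hB v₀) ⊓ LinearMap.ker (formL R.hB v₁)) := by
        have h1 := LinearMap.finrank_range_add_finrank_ker (formL R.hB v₀)
        have h2 := LinearMap.finrank_range_add_finrank_ker (formL R.hB v₁)
        have h3 := Submodule.finrank_le (LinearMap.range (formL R.hB v₀))
        have h4 := Submodule.finrank_le (LinearMap.range (formL R.hB v₁))
        have h5 := Submodule.finrank_sup_add_finrank_inf_eq (LinearMap.ker (formL R.hB v₀))
          (LinearMap.ker (formL R.hB v₁))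
        have h6 := Submodule.finrank_le
          (LinearMap.ker (formL R.hB v₀) ⊔ LinearMap.ker (formL R.hB v₁))
        rw [Module.finrank_self] at h3 h4
        rw [Module.finrank_fintype_fun_eq_card] at h1 h2 h6
        omega
      have hspW : Submodule.span F₀
          {w | w ∈ LinearMap.ker (formL R.hB v₀) ⊓ LinearMap.ker (formL R.hB v₁) ∧ B w w = 0}
            = LinearMap.ker (formL R.hB v₀) ⊓ LinearMap.ker (formL R.hB v₁) := by
        obtain ⟨z, hzW, hz0, hz⟩ := exists_isotropic_mem R.hB
          (W := LinearMap.ker (formL R.hB v₀) ⊓ LinearMap.ker (formL R.hB v₁)) (by omega)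
        have hzv0 : B z v₀ = 0 := hzW.1
        have hzv1 : B z v₁ = 0 := hzW.2
        have hliz : LinearIndependent F₀ ![z, v₀, v₁] := by
          rw [Fintype.linearIndependent_iff]
          intro c hc
          simp only [Fin.sum_univ_three, Matrix.cons_val_zero, Matrix.cons_val_one,
            Matrix.cons_val] at hc
          have e0 := congrArg (fun t => B t v₀) hc
          have e1 := congrArg (fun t => B t v₁) hc
          simp only [R.hB.add_left, R.hB.smul_left, hzv0, hzv1, hv₀, hv₁, hv₁₀,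
            show B v₀ v₁ = 1 from hv₀₁, zero_left R.hB, mul_zero, mul_one, add_zero, zero_add] at e0 e1
          rw [e0, e1, zero_smul, zero_smul, add_zero, add_zero, smul_eq_zero] at hc
          intro i
          fin_cases i
          exacts [hc.resolve_right hz0, e1, e0]
        obtain ⟨y, -, hy1, hyr⟩ := exists_isotropic_pairing R.hB hliz (fun i => by
          fin_cases i
          · exact hz
          · exact eq_zero_comm R.hB hzv0
          · exact eq_zero_comm R.hB hzv1)
        exact isotropic_span_of_mem R.hB hzW hz ⟨y, ⟨eq_zero_comm R.hB (hyr 0),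
          eq_zero_comm R.hB (hyr 1)⟩, ne_zero_comm R.hB (hy1.trans_ne one_ne_zero)⟩
      rw [← hspW]
      congr 1
      ext w
      exact ⟨fun h => ⟨⟨h.2.1, h.2.2⟩, h.1⟩, fun h => ⟨h.2, h.1.1, h.1.2⟩⟩
    · change B _ v₀ = 0
      rw [sub_left R.hB, sub_left R.hB, R.hB.smul_left, R.hB.smul_left, hv₀, hv₁₀]
      ring
    · change B _ v₁ = 0
      rw [sub_left R.hB, sub_left R.hB, R.hB.smul_left, R.hB.smul_left, hv₁,
        show B v₀ v₁ = 1 from hv₀₁]
      ring
  obtain ⟨hz0, hz⟩ := key _ hproj
  obtain ⟨m, hm, hm0, s, hm1⟩ := hz 1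
  set a : F := f u' (cv v₁) with ha
  have hu'eq : u' = cv v₁ + proj u' + a • cv v₀ := by
    simp only [proj, LinearMap.sub_apply, LinearMap.id_apply, LinearMap.smulRight_apply,
      formL_apply, hu'v, one_smul, ← ha]
    abel
  rw [one_smul] at hm1
  -- adjust the last coordinate
  set w := (m : Matrix ι ι F) *ᵥ cv v₁ with hw
  have hwS : w ∈ uSet R.hf M := uSet_mulVec hf hm.1 hm.2 (hrat v₁ hv₁ hv₁0)
  have hwv : f w (cv v₀) = 1 := by
    rw [hw, ← hm0, mem_isoOf.1 hm.2, ← R.coe_B, hv₁₀]; rfl
  have huw : u' = w + (a - s) • cv v₀ := by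
    rw [hu'eq, hm1]; module
  have htr : σ (a - s) = -(a - s) := by
    have h := hu'0
    rw [huw, hf.add_left, add_right hf, add_right hf, hf.smul_left, hf.smul_left, smul_right hf,
      smul_right hf, hwS.1, hwv, hf.herm (cv v₀) w, hwv, map_one, R.orth hv₀] at h
    linear_combination h
  have hT := (hrat v₀ hv₀ hv₀0).2 _ htr
  have := uSet_mulVec hf hT (uTv_mem_isoOf hf (R.orth hv₀) htr) hwS
  rwa [uTv_mulVec hf (R.orth hv₀), hwv, mul_one, ← huw] at this

set_option maxHeartbeats 1600000 in
/-- A parameter outside the subfield exists in every proper overgroup. -/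
theorem exists_good (R : Rat σ f σ₀ B) (hM : Contains R M) (hn : 10 ≤ Fintype.card ι)
    (hr : (Module.finrank F₀ F).Prime) (hr2 : 2 < Module.finrank F₀ F)
    (hMK : M ≤ isoOf f ⊓ specialLinear ι F)
    (hHM : subfieldSubgroup F₀ (1 : GL ι F) ⊓ (isoOf f ⊓ specialLinear ι F) ≤ M) {g : GL ι F}
    (hgM : g ∈ M) (hgH : g ∉ subfieldSubgroup F₀ (1 : GL ι F)) :
    ∃ b, b ∉ F₀ ∧ Good R M b := by
  haveI := Fintype.ofFinite F₀
  haveI : Nonempty ι := Fintype.card_pos_iff.1 (by omega)
  by_contra hcon
  push Not at hcon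
  have hf := R.hf
  obtain ⟨τ, hτ0, hτ⟩ := exists_trace_zero R.hB.ne_refl R.hB.involutive
  have hσ₀mem : ∀ a : F, a ∈ F₀ → σ a ∈ F₀ := fun a ha => by
    rw [show σ a = (σ₀ ⟨a, ha⟩ : F) from (R.coe_σ ⟨a, ha⟩).symm]
    exact SetLike.coe_mem _
  -- images of rational isotropic points orthogonal to a rational isotropic point are rational
  have hB1 : ∀ h ∈ M, ∀ a v : ι → F₀, B a a = 0 → B v v = 0 → v ≠ 0 →
      f ((h : Matrix ι ι F) *ᵥ cv a) (cv v) = 0 → IsRat F₀ ((h : Matrix ι ι F) *ᵥ cv a) := by
    intro h hh a v ha hv hv0 hzero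
    by_contra hirr
    set u := (h : Matrix ι ι F) *ᵥ cv a with hudef
    have hhi := (hMK hh).1
    have hu : f u u = 0 := (mem_isoOf.1 hhi _ _).trans (R.orth ha)
    have huM : uTv R.hf u (τ : F) ∈ M := by
      rw [hudef, ← uTv_conj hf hhi (R.orth ha)]
      exact M.mul_mem (M.mul_mem hh (hM.tv a ha τ hτ)) (M.inv_mem hh)
    let φ : (ι → F₀) →ₗ[F₀] F :=
      { toFun := fun y => f (cv y) u
        map_add' := fun p q => by rw [cv_add, hf.add_left]
        map_smul' := fun c p => by rw [cv_smul, hf.smul_left]; rfl }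
    have hφ : ∀ y, φ y = f (cv y) u := fun y => rfl
    -- on the hyperplane orthogonal to v the values lie on one rational line
    have hline : ∀ v' : ι → F₀, B v' v' = 0 → v' ≠ 0 → φ v' = 0 →
        ∃ l : F, ∀ y, B y v' = 0 → ∃ c : F₀, φ y = (c : F) * l := by
      intro v' hv' hv'0 hφv'
      have hspan : Submodule.span F₀
          {w | w ∈ LinearMap.ker (formL R.hB v') ∧ B w w = 0} = LinearMap.ker (formL R.hB v') := by
        refine isotropic_span R.hB ?_
        have h1 := LinearMap.finrank_range_add_finrank_ker (formL R.hB v')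
        have h2 := Submodule.finrank_le (LinearMap.range (formL R.hB v'))
        rw [Module.finrank_self] at h2
        rw [Module.finrank_fintype_fun_eq_card] at h1
        omega
      by_cases hz : ∀ w, B w v' = 0 → B w w = 0 → φ w = 0
      · refine ⟨0, fun y hy => ⟨0, ?_⟩⟩
        have : y ∈ LinearMap.ker φ := by
          refine (Submodule.span_le (p := LinearMap.ker φ) (s := {w | w ∈ LinearMap.ker (formL R.hB v') ∧ B w w = 0})).2
            (fun w hw => hz w hw.1 hw.2) ?_
          rw [hspan]; exact hy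
        rw [show φ y = 0 from this]; simp
      · push Not at hz
        obtain ⟨w₀, hw₀v, hw₀, hφw₀⟩ := hz
        refine ⟨(σ (φ w₀))⁻¹, fun y hy => ?_⟩
        have hne : σ (φ w₀) ≠ 0 := fun e => hφw₀ (by simpa using congrArg σ.symm e)
        have hmem : y ∈ (⊥ : Submodule F₀ F).comap (0 : (ι → F₀) →ₗ[F₀] F) → True := fun _ => trivial
        let W : Submodule F₀ (ι → F₀) :=
          (LinearMap.range (Algebra.linearMap F₀ F)).comap (LinearMap.mulLeft F₀ (σ (φ w₀)) ∘ₗ φ)
        have hW : LinearMap.ker (formL R.hB v') ≤ W := by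
          rw [← hspan]
          refine Submodule.span_le.2 fun z hz => ?_
          by_cases hli : LinearIndependent F₀ ![z, v']
          · have hG := good_of_transvection R hM hn (fun e => hτ0 e) hτ hu huM hv' hw₀ hz.2
              (eq_zero_comm R.hB hw₀v) hz.1 hli (by
                rw [hf.herm, show f (cv v') u = 0 from hφv', map_zero])
            have hmemF : f u (cv w₀) * σ (f u (cv z)) ∈ F₀ := by
              by_contra hc; exact hcon _ hc hG
            rw [← hf.herm, hf.herm u] at hmemF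
            exact ⟨⟨_, hmemF⟩, rfl⟩
          · rw [LinearIndependent.pair_iff] at hli
            push Not at hli
            obtain ⟨s, t, hst, hne'⟩ := hli
            have hs : s ≠ 0 := fun e => by
              rw [e, zero_smul, zero_add] at hst
              exact hne' e ((smul_eq_zero.1 hst).resolve_right hv'0)
            have : φ z = 0 := by
              have h' := congrArg φ hst
              rw [map_add, map_smul, map_smul, hφv', smul_zero, add_zero, map_zero, smul_eq_zero] at h'
              exact h'.resolve_left hs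
            exact ⟨0, by simp [this]⟩
        obtain ⟨c, hc⟩ := hW (show y ∈ LinearMap.ker (formL R.hB v') from hy)
        refine ⟨c, ?_⟩
        have hc' : (c : F) = σ (φ w₀) * φ y := hc
        rw [hc']
        field_simp
    -- not all values lie on one rational line
    have hbig : ∀ l : F, ∃ y, ∀ c : F₀, φ y ≠ (c : F) * l := by
      intro l
      by_contra hc
      push Not at hc
      choose c hc using hc
      by_cases hl : l = 0
      · refine hirr ⟨0, 0, ?_⟩
        rw [zero_smul]
        refine of_not_not fun hu0 => ?_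
        obtain ⟨x, hx⟩ := (hf.nondegenerate u hu0).1
        apply hx
        rw [eq_sum_ratVec (F₀ := F₀) 1 x, ← formL_apply hf u, map_sum]
        refine Finset.sum_eq_zero fun i _ => ?_
        rw [map_smul, formL_apply, ratVec_one, ← hφ, hc, hl, mul_zero, smul_zero]
      let β : (ι → F₀) →ₗ[F₀] F₀ :=
        { toFun := c
          map_add' := fun p q => Subtype.ext (mul_right_cancel₀ hl (by
            rw [Subfield.coe_add, add_mul, ← hc, ← hc, ← hc, map_add]))
          map_smul' := fun a p => Subtype.ext (mul_right_cancel₀ hl (by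
            rw [RingHom.id_apply, smul_eq_mul, Subfield.coe_mul, mul_assoc, ← hc, ← hc, map_smul]
            rfl)) }
      obtain ⟨w, hw⟩ := exists_form_eq R.hB β
      refine hirr ⟨σ l, w, sub_eq_zero.1 (of_not_not fun hu0 => ?_)⟩
      obtain ⟨x, hx⟩ := (hf.nondegenerate _ hu0).1
      apply hx
      rw [eq_sum_ratVec (F₀ := F₀) 1 x, ← formL_apply hf (u - σ l • cv w), map_sum]
      refine Finset.sum_eq_zero fun i _ => ?_
      rw [map_smul, formL_apply, ratVec_one, sub_right hf, smul_right hf, hf.involutive, ← R.coe_B,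
        hw, ← hφ, hc]
      change _ • ((c _ : F) * l - l * (c _ : F)) = 0
      rw [mul_comm, sub_self, smul_zero]
    -- hence the kernel of the values is totally isotropic
    have hK : ∀ v' : ι → F₀, B v' v' = 0 → φ v' = 0 → ∀ k ∈ LinearMap.ker φ, B k v' = 0 := by
      intro v' hv' hφv' k hk
      by_contra hkv
      have hv'0 : v' ≠ 0 := fun e => hkv (by rw [e, zero_right R.hB])
      obtain ⟨l, hl⟩ := hline v' hv' hv'0 hφv'
      obtain ⟨y, hy⟩ := hbig l
      obtain ⟨c, hc⟩ := hl (y - (B y v' / B k v') • k) (by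
        rw [sub_left R.hB, R.hB.smul_left, div_mul_cancel₀ _ hkv, sub_self])
      rw [map_sub, map_smul, show φ k = 0 from hk, smul_zero, sub_zero] at hc
      exact hy c hc
    have hKdim : Fintype.card ι ≤ Module.finrank F₀ (LinearMap.ker φ) + 2 := by
      obtain ⟨l, hl⟩ := hline v hv hv0 (by rw [hφ, hf.herm, hzero, map_zero])
      set W := LinearMap.ker (formL R.hB v) with hW
      have h1 := LinearMap.finrank_range_add_finrank_ker (formL R.hB v)
      have h2 := Submodule.finrank_le (LinearMap.range (formL R.hB v))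
      have h3 := LinearMap.finrank_range_add_finrank_ker (φ.domRestrict W)
      have h4 : Module.finrank F₀ (LinearMap.range (φ.domRestrict W)) ≤ 1 := by
        refine le_trans (Submodule.finrank_mono (t := Submodule.span F₀ {l}) ?_)
          ((finrank_span_le_card ({l} : Set F)).trans (by simp))
        rintro _ ⟨y, rfl⟩
        obtain ⟨c, hc⟩ := hl y.1 y.2
        exact Submodule.mem_span_singleton.2 ⟨c, by rw [LinearMap.domRestrict_apply, hc]; rfl⟩
      have h5 : (LinearMap.ker (φ.domRestrict W)).map W.subtype ≤ LinearMap.ker φ := by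
        rintro _ ⟨y, hy, rfl⟩; exact hy
      have h6 := Submodule.finrank_mono h5
      rw [Submodule.finrank_map_subtype_eq] at h6
      rw [Module.finrank_self] at h2
      rw [Module.finrank_fintype_fun_eq_card, ← hW] at h1
      omega
    have hts : IsTotallySingularFor B (LinearMap.ker φ) := by
      intro p hp q hq
      have hmem : q ∈ LinearMap.ker φ ⊓ LinearMap.ker (formL R.hB p) := by
        have hspan := isotropic_span R.hB (W := LinearMap.ker φ) (by omega)
        rw [← hspan] at hq
        refine (Submodule.span_le.2 ?_) hq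
        exact fun w hw => ⟨hw.1, eq_zero_comm R.hB (hK w hw.2 hw.1 p hp)⟩
      exact eq_zero_comm R.hB hmem.2
    have := two_mul_finrank_le R.hB hts
    omega
  -- elements with one rational image are rational
  have hrat : ∀ h ∈ M, ∀ a : ι → F₀, B a a = 0 → a ≠ 0 → IsRat F₀ ((h : Matrix ι ι F) *ᵥ cv a) →
      h ∈ subfieldSubgroup F₀ (1 : GL ι F) := by
    intro h hh a ha ha0 hla
    have hhi := (hMK hh).1
    have step : ∀ a b : ι → F₀, B a a = 0 → a ≠ 0 → IsRat F₀ ((h : Matrix ι ι F) *ᵥ cv a) →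
        B b b = 0 → B b a = 0 → IsRat F₀ ((h : Matrix ι ι F) *ᵥ cv b) := by
      rintro a b ha ha0 ⟨l, r, hr'⟩ hb hba
      have hl : l ≠ 0 := fun e => gl_mulVec_ne_zero h (cv_ne_zero ha0) (by rw [hr', e, zero_smul])
      have hr0 : r ≠ 0 := fun e =>
        gl_mulVec_ne_zero h (cv_ne_zero ha0) (by rw [hr', e, cv_zero, smul_zero])
      have hσl : σ l ≠ 0 := fun e => hl (by simpa using congrArg σ.symm e)
      have hrr : B r r = 0 := Subtype.ext (by
        have h1 := (mem_isoOf.1 hhi (cv a) (cv a)).trans (R.orth ha)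
        rw [hr', hf.smul_left, smul_right hf, ← R.coe_B] at h1
        rcases mul_eq_zero.1 h1 with h | h
        · exact absurd h hl
        · exact (mul_eq_zero.1 h).resolve_left hσl)
      have h2 := (mem_isoOf.1 hhi (cv b) (cv a)).trans (R.orth hba)
      rw [hr', smul_right hf] at h2
      exact hB1 h hh b r hb hrr hr0 ((mul_eq_zero.1 h2).resolve_left hσl)
    have hiso : ∀ y, B y y = 0 → IsRat F₀ ((h : Matrix ι ι F) *ᵥ cv y) := by
      intro y hy
      obtain ⟨b, hb, hbo, hbs⟩ := exists_isotropic_orth R.hB ![a, y] ![(0 : ι → F₀)]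
        (by omega) (by omega)
      exact step b y hb (fun e => hbs (by rw [e]; exact zero_mem _))
        (step a b ha ha0 hla hb (hbo 0)) hy (eq_zero_comm R.hB (hbo 1))
    refine mem_sub_one_iff.2 fun x => ?_
    by_cases hx : B x x = 0
    · exact hiso x hx
    obtain ⟨y, hy, hyx⟩ : ∃ y, B y y = 0 ∧ B y x ≠ 0 := by
      by_contra hc
      push Not at hc
      apply hx
      have hspan := isotropic_span R.hB (W := (⊤ : Submodule F₀ (ι → F₀)))
        (by rw [finrank_top, Module.finrank_fintype_fun_eq_card]; omega)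
      have : x ∈ LinearMap.ker (formL R.hB x) := by
        refine (Submodule.span_le (p := LinearMap.ker (formL R.hB x))
          (s := {w | w ∈ (⊤ : Submodule F₀ (ι → F₀)) ∧ B w w = 0})).2 (fun w hw => hc w hw.2) ?_
        rw [hspan]; trivial
      exact this
    obtain ⟨c, hc⟩ := exists_trace_eq R.hB (s := - B x x) (by rw [map_neg, self_fixed R.hB])
    set y' := x + (c / B y x) • y with hy'
    have hy'0 : B y' y' = 0 := by
      have h1 : σ₀ (B y x) ≠ 0 := fun e => hyx (by simpa using congrArg σ₀.symm e)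
      rw [hy', R.hB.add_left, add_right R.hB, add_right R.hB, R.hB.smul_left, R.hB.smul_left,
        smul_right R.hB, smul_right R.hB, hy, R.hB.herm x y, map_div₀]
      field_simp
      linear_combination (σ₀ (B y x) * B y x) * hc
    have hli : LinearIndependent F₀ ![y, y'] := by
      refine LinearIndependent.pair_iff.2 fun p q hpq => ?_
      have h1 := congrArg (fun z => B y z) hpq
      simp only [hy', add_right R.hB, smul_right R.hB, hy, mul_zero, add_zero, zero_add,
        zero_right R.hB, mul_eq_zero] at h1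
      have hq : q = 0 := by simpa using h1.resolve_right hyx
      rw [hq, zero_smul, add_zero, smul_eq_zero] at hpq
      exact ⟨hpq.resolve_right (fun e => hyx (by rw [e, zero_left R.hB])), hq⟩
    obtain ⟨t, ht, hiso2⟩ := exists_isotropic_comb R.hB hy hy'0
    obtain ⟨l, r, hlr⟩ := hiso y hy
    obtain ⟨l', r', hlr'⟩ := hiso y' hy'0
    obtain ⟨l'', r'', hlr''⟩ := hiso _ hiso2
    have hl : l ≠ 0 := fun e => by
      refine gl_mulVec_ne_zero h (cv_ne_zero (hli.ne_zero 0)) ?_
      change (h : Matrix ι ι F) *ᵥ cv y = 0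
      rw [hlr, e, zero_smul]
    have hl' : l' ≠ 0 := fun e => by
      refine gl_mulVec_ne_zero h (cv_ne_zero (hli.ne_zero 1)) ?_
      change (h : Matrix ι ι F) *ᵥ cv y' = 0
      rw [hlr', e, zero_smul]
    have hli' : LinearIndependent F₀ ![r, r'] := by
      refine LinearIndependent.pair_iff.2 fun p q hpq => ?_
      have h1 : (h : Matrix ι ι F) *ᵥ (((p : F) / l) • cv y + ((q : F) / l') • cv y') = 0 := by
        rw [mulVec_add, mulVec_smul, mulVec_smul, hlr, hlr', smul_smul, smul_smul,
          div_mul_cancel₀ _ hl, div_mul_cancel₀ _ hl', ← cv_smul, ← cv_smul, ← cv_add, hpq, cv_zero]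
      have h2 := gl_mulVec_injective h (a₁ := _) (a₂ := 0) (by simpa using h1)
      have h3 := li_cv R hli
      have h4 := Fintype.linearIndependent_iff.1 h3 ![(p : F) / l, (q : F) / l']
        (by simpa [Fin.sum_univ_two] using h2)
      have hp := h4 0
      have hq := h4 1
      simp only [Matrix.cons_val_zero, Matrix.cons_val_one, div_eq_zero_iff, hl, hl',
        or_false] at hp hq
      exact ⟨Subtype.ext hp, Subtype.ext hq⟩
    have hcoef : (t : F) * l' / l ∈ F₀ := coeff_mem hli' hl ⟨l'', r'', by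
      rw [← hlr'', cv_add, cv_smul, mulVec_add, mulVec_smul, hlr, hlr', smul_smul]⟩
    obtain ⟨κ, hxeq⟩ : ∃ κ : F₀, x = κ • y + y' := ⟨-(c / B y x), by rw [hy', neg_smul]; abel⟩
    refine ⟨l, κ • r + (⟨_, F₀.div_mem hcoef t.2⟩ : F₀) • r', ?_⟩
    have ht' : (t : F) ≠ 0 := fun e => ht (Subtype.ext (by simpa using e))
    rw [hxeq, cv_add, cv_smul, mulVec_add, mulVec_smul, hlr, hlr', cv_add, cv_smul, cv_smul,
      smul_add, smul_smul, smul_smul, smul_smul, mul_comm l]
    congr 2
    field_simp
  -- two involutions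
  obtain ⟨d, hdli, hd⟩ := exists_frame R hn
  obtain ⟨z₁, hz₁S, hz₁i, hz₁d, hz₁1, hz₁⟩ := exists_invol R (fun i : Fin 2 => d (i.castLE (by omega)))
    (fun i j => by rw [hd]; simp)
  obtain ⟨z₂, hz₂S, hz₂i, hz₂d, hz₂1, hz₂⟩ := exists_invol R d hd
  have hz₁M : z₁ ∈ M := hHM ⟨hz₁S, hz₁i, by
    refine MonoidHom.mem_ker.2 (Units.ext ?_)
    rw [Matrix.GeneralLinearGroup.val_det_apply, hz₁d]; simp⟩
  have hz₂M : z₂ ∈ M := hHM ⟨hz₂S, hz₂i, by
    refine MonoidHom.mem_ker.2 (Units.ext ?_)
    rw [Matrix.GeneralLinearGroup.val_det_apply, hz₂d]; norm_num⟩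
  -- fixed rational vectors
  obtain ⟨a₀, ha₀, ha₀o, ha₀s⟩ := exists_isotropic_orth R.hB d ![(0 : ι → F₀)] (by omega) (by omega)
  have ha₀0 : a₀ ≠ 0 := fun e => ha₀s (by rw [e]; exact zero_mem _)
  -- elements commuting with these involutions are rational
  have hiso₂ : ∃ v : ι → F₀, B v v = 0 ∧ v ≠ 0 ∧
      ∀ u : ι → F, f u (cv (d 0)) = 0 → f u (cv (d 1)) = 0 → f u (cv v) = 0 := by
    obtain ⟨s, hs⟩ := exists_norm_eq R.hB.ne_refl R.hB.involutive (s := (-1 : F₀))
      (by rw [map_neg, map_one])
    refine ⟨d 0 + s • d 1, ?_, fun e => ?_, fun u h0 h1 => ?_⟩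
    · rw [R.hB.add_left, add_right R.hB, add_right R.hB, R.hB.smul_left, R.hB.smul_left,
        smul_right R.hB, smul_right R.hB, hd, hd, hd, hd]
      simp only [if_true, show (0 : Fin 4) ≠ 1 by decide, show (1 : Fin 4) ≠ 0 by decide, if_false]
      linear_combination (-2 : F₀) * hs
    · have := Fintype.linearIndependent_iff.1 hdli ![1, s, 0, 0]
        (by simpa [Fin.sum_univ_four] using e) 0
      simp at this
    · rw [cv_add, cv_smul, add_right hf, smul_right hf, h0, h1, mul_zero, add_zero]
  obtain ⟨v₂, hv₂, hv₂0, hv₂u⟩ := hiso₂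
  have hcent : ∀ z : GL ι F, ∀ {k : ℕ} (e : Fin (k + 2) → Fin 4), Function.Injective e →
      e 0 = 0 → e 1 = 1 →
      (∀ y, (z : Matrix ι ι F) *ᵥ y = y + ∑ i, f y (cv (d (e i))) • cv (d (e i))) →
      ∀ h ∈ M, h * z = z * h → h ∈ subfieldSubgroup F₀ (1 : GL ι F) := by
    intro z k e he he0 he1 hz h hh hcomm
    refine hrat h hh a₀ ha₀ ha₀0 (hB1 h hh a₀ v₂ ha₀ hv₂ hv₂0 ?_)
    have h1 : (z : Matrix ι ι F) *ᵥ cv a₀ = cv a₀ := by
      rw [hz, add_eq_left]
      exact Finset.sum_eq_zero fun i _ => by rw [R.orth (ha₀o _), zero_smul]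
    have h2 : (z : Matrix ι ι F) *ᵥ ((h : Matrix ι ι F) *ᵥ cv a₀) = (h : Matrix ι ι F) *ᵥ cv a₀ := by
      rw [← gl_mulVec_mul, ← hcomm, gl_mulVec_mul, h1]
    rw [hz, add_eq_left] at h2
    have h3 := Fintype.linearIndependent_iff.1 (li_cv R (hdli.comp e he)) _ h2
    exact hv₂u _ (by simpa [he0] using h3 0) (by simpa [he1] using h3 1)
  let e : GL ι F := Units.map (Matrix.scalar ι : F →+* Matrix ι ι F).toMonoidHom (-1)
  have he : ∀ y : ι → F, (e : Matrix ι ι F) *ᵥ y = -y := fun y => by simp [e, neg_mulVec]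
  have hee : e * e = 1 := gl_ext_mulVec fun y => by rw [gl_mulVec_mul, he, he]; simp
  have hec : ∀ h : GL ι F, e * h = h * e := fun h => gl_ext_mulVec fun y => by
    rw [gl_mulVec_mul, gl_mulVec_mul, he, he, mulVec_neg]
  have he1 : (2 : F) = 0 → e = 1 := fun h2 => gl_ext_mulVec fun y => by
    rw [he, Units.val_one, one_mulVec]
    funext k
    simp only [Pi.neg_apply]
    linear_combination -(y k) * h2
  have hsmall : Small z₁ := by
    refine ⟨fun i : Fin 2 => cv (d (i.castLE (by omega))), fun y => ?_⟩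
    rw [hz₁, add_sub_cancel_left]
    exact Submodule.sum_mem _ fun i _ => Submodule.smul_mem _ _ (Submodule.subset_span ⟨i, rfl⟩)
  have hz₂small : ¬ Small z₂ := by
    choose y hy using fun j : Fin 3 =>
      exists_pairing R.hB hdli (fun i => if i = j.castLE (by omega) then 1 else 0)
    refine not_small_li (fun j => cv (y j)) ?_
    have : ∀ j, (z₂ : Matrix ι ι F) *ᵥ cv (y j) - cv (y j) = cv (d (j.castLE (by omega))) := by
      intro j
      rw [hz₂, add_sub_cancel_left, Finset.sum_eq_single (j.castLE (by omega))]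
      · rw [← R.coe_B, R.hB.herm, hy, if_pos rfl, map_one, Subfield.coe_one, one_smul]
      · intro i _ hi
        rw [← R.coe_B, R.hB.herm, hy, if_neg hi, map_zero, Subfield.coe_zero, zero_smul]
      · exact fun h => absurd (Finset.mem_univ _) h
    simp only [this]
    exact li_cv R (hdli.comp _ (Fin.castLE_injective _))
  -- three fixed vectors
  obtain ⟨c, hcli, hco⟩ : ∃ c : Fin 3 → ι → F₀, LinearIndependent F₀ c ∧
      ∀ j i, B (c j) (d i) = 0 := by
    let L : (ι → F₀) →ₗ[F₀] (Fin 4 → F₀) := LinearMap.pi fun i => formL R.hB (d i)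
    have h1 := LinearMap.finrank_range_add_finrank_ker L
    have h2 : Module.finrank F₀ (LinearMap.range L) ≤ 4 := by
      simpa using Submodule.finrank_le (LinearMap.range L)
    rw [Module.finrank_fintype_fun_eq_card] at h1
    have h3 : 3 ≤ Module.finrank F₀ (LinearMap.ker L) := by omega
    let b := Module.finBasis F₀ (LinearMap.ker L)
    refine ⟨fun j => (b (j.castLE h3) : ι → F₀), ?_, fun j i => congrFun (b (j.castLE h3)).2 i⟩
    exact ((b.linearIndependent.map' _ (Submodule.ker_subtype _)).comp _ (Fin.castLE_injective h3))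
  have hneg : (2 : F) ≠ 0 → ∀ z : GL ι F, (∀ j, (z : Matrix ι ι F) *ᵥ cv (c j) = cv (c j)) →
      ¬ Small (e * z) := by
    intro h2 z hz
    refine not_small_li (fun j => cv (c j)) ?_
    simp only [gl_mulVec_mul, he, hz]
    refine Fintype.linearIndependent_iff.2 fun p hp j => ?_
    have h3 := Fintype.linearIndependent_iff.1 (li_cv R hcli) (fun j => p j * -2) (by
      rw [← hp]
      refine Finset.sum_congr rfl fun i _ => ?_
      module) j
    exact (mul_eq_zero.1 h3).resolve_right (neg_ne_zero.2 h2)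
  have hfix₂ : ∀ j, (z₂ : Matrix ι ι F) *ᵥ cv (c j) = cv (c j) := fun j => by
    rw [hz₂, add_eq_left]
    exact Finset.sum_eq_zero fun i _ => by rw [R.orth (hco j i), zero_smul]
  have hfix₁ : ∀ j, (z₁ : Matrix ι ι F) *ᵥ cv (c j) = cv (c j) := fun j => by
    rw [hz₁, add_eq_left]
    exact Finset.sum_eq_zero fun i _ => by rw [R.orth (hco j _), zero_smul]
  set x := g * z₁ * g⁻¹ with hxdef
  have hxM : x ∈ M := M.mul_mem (M.mul_mem hgM hz₁M) (M.inv_mem hgM)
  have hxx : x * x = 1 := by
    rw [hxdef, show g * z₁ * g⁻¹ * (g * z₁ * g⁻¹) = g * (z₁ * z₁) * g⁻¹ by group, hz₁1]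
    group
  have hxsmall : Small x := Small.conj (isConj_iff.2 ⟨g, rfl⟩) hsmall
  obtain ⟨i, hicl, hii, hi1, hie, hix, hiz⟩ := exists_common_commuting hxx hz₂1 hee hec
    (fun h => hz₂small (Small.conj h hxsmall))
    (fun h => by
      by_cases h2 : (2 : F) = 0
      · rw [he1 h2, one_mul] at h; exact hz₂small (Small.conj h hxsmall)
      · exact hneg h2 z₂ hfix₂ (Small.conj h hxsmall))
    (fun hne h => by
      refine hneg (fun h2 => hne (he1 h2)) z₁ hfix₁
        (Small.conj (isConj_iff.2 ⟨g⁻¹, ?_⟩) (Small.conj h hxsmall))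
      rw [hxdef, inv_inv, ← mul_assoc g⁻¹, ← hec g⁻¹]
      group)
  have hiM : i ∈ M := (Subgroup.closure_le M).2 (by
    rintro _ (rfl | rfl)
    exacts [hxM, hz₂M]) hicl
  have hiS := hcent z₂ (k := 2) id (fun _ _ h => h) rfl rfl hz₂ i hiM hiz
  set i₁ := g⁻¹ * i * g with hi₁
  have hi₁z : i₁ * z₁ = z₁ * i₁ := by
    rw [hi₁, show g⁻¹ * i * g * z₁ = g⁻¹ * (i * x) * g by rw [hxdef]; group,
      show z₁ * (g⁻¹ * i * g) = g⁻¹ * (x * i) * g by rw [hxdef]; group, hix]
  have hi₁S := hcent z₁ (k := 0) (Fin.castLE (show 2 ≤ 4 by omega)) (Fin.castLE_injective _)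
    rfl rfl hz₁ _ (M.mul_mem (M.mul_mem (M.inv_mem hgM) hiM) hgM) hi₁z
  have hi₁1 : i₁ * i₁ = 1 := by
    rw [hi₁, show g⁻¹ * i * g * (g⁻¹ * i * g) = g⁻¹ * (i * i) * g by group, hii, mul_one,
      inv_mul_cancel]
  obtain ⟨A, hA⟩ := exists_rat_involution hr hr2 hi₁S hi₁1
  obtain ⟨L, hL⟩ := exists_rat_involution hr hr2 hiS hii
  have hinj : ∀ {p q : ι → F₀}, cv p = cv q → p = q := fun h =>
    funext fun k => Subtype.ext (congrFun h k)
  have hA2 : ∀ y, A *ᵥ (A *ᵥ y) = y := fun y => hinj (by
    rw [← hA, ← hA, ← gl_mulVec_mul, hi₁1, Units.val_one, one_mulVec])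
  have hL2 : ∀ y, L *ᵥ (L *ᵥ y) = y := fun y => hinj (by
    rw [← hL, ← hL, ← gl_mulVec_mul, hii, Units.val_one, one_mulVec])
  have hLF : ∀ u, (L.map F₀.subtype) *ᵥ u = (i : Matrix ι ι F) *ᵥ u := by
    intro u
    refine congrArg (fun B : Matrix ι ι F => B *ᵥ u) (Matrix.ext_of_mulVec_single fun k => ?_)
    have := hL (Pi.single k 1)
    rw [cv_mulVec, cv_single, Subfield.coe_one] at this
    exact this.symm
  -- an eigenspace containing an isotropic vector
  obtain ⟨ε, hε, a, ha, ha0, haA⟩ : ∃ ε : F₀, ε * ε = 1 ∧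
      ∃ a : ι → F₀, B a a = 0 ∧ a ≠ 0 ∧ A *ᵥ a = ε • a := by
    have hsum := LinearMap.finrank_range_add_finrank_ker (Matrix.mulVecLin A + LinearMap.id)
    rw [Module.finrank_fintype_fun_eq_card] at hsum
    by_cases hk : 2 ≤ Module.finrank F₀ (LinearMap.ker (Matrix.mulVecLin A + LinearMap.id))
    · obtain ⟨a, haK, ha0, ha⟩ := exists_isotropic_mem R.hB hk
      refine ⟨-1, by ring, a, ha, ha0, ?_⟩
      rw [neg_one_smul]
      exact eq_neg_of_add_eq_zero_left haK
    · obtain ⟨a, ⟨y, hy⟩, ha0, ha⟩ := exists_isotropic_mem R.hB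
        (W := LinearMap.range (Matrix.mulVecLin A + LinearMap.id)) (by omega)
      refine ⟨1, by ring, a, ha, ha0, ?_⟩
      rw [← hy, one_smul]
      simp only [LinearMap.add_apply, Matrix.mulVecLin_apply, LinearMap.id_apply, mulVec_add, hA2]
      abel
  have hεF : (ε : F) * (ε : F) = 1 := by rw [← Subfield.coe_mul, hε]; rfl
  have hε1 : ε = 1 ∨ ε = -1 := mul_self_eq_one_iff.1 hε
  have hσε : σ (ε : F) = ε := by rcases hε1 with h | h <;> simp [h]
  set u := (g : Matrix ι ι F) *ᵥ cv a
  have hiu : (i : Matrix ι ι F) *ᵥ u = (ε : F) • u := by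
    rw [← gl_mulVec_mul, show i * g = g * i₁ by rw [hi₁]; group, gl_mulVec_mul, hA, haA, cv_smul,
      mulVec_smul]
  -- rational vectors orthogonal to u
  let Lε : (ι → F₀) →ₗ[F₀] (ι → F₀) := Matrix.mulVecLin L - ε • LinearMap.id
  have hperp : ∀ r ∈ LinearMap.range Lε, f u (cv r) = 0 := by
    rintro _ ⟨y, rfl⟩
    have h1 := mem_isoOf.1 (hMK hiM).1 u ((i : Matrix ι ι F) *ᵥ cv y)
    rw [← gl_mulVec_mul i i, hii, Units.val_one, one_mulVec, hiu, hf.smul_left] at h1
    simp only [Lε, LinearMap.sub_apply, LinearMap.smul_apply, Matrix.mulVecLin_apply,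
      LinearMap.id_apply, cv_sub, cv_smul, ← hL, sub_right hf, smul_right hf, hσε, ← h1]
    ring
  obtain ⟨v, hvR, hv0, hv⟩ : ∃ v ∈ LinearMap.range Lε, v ≠ 0 ∧ B v v = 0 := by
    by_cases hk : 2 ≤ Module.finrank F₀ (LinearMap.range Lε)
    · exact exists_isotropic_mem R.hB hk
    obtain ⟨y, hy⟩ : ∃ y, Lε y ≠ 0 := by
      by_contra hc
      push Not at hc
      have h1 : ∀ y, L *ᵥ y = ε • y := fun y => sub_eq_zero.1 (hc y)
      rcases hε1 with h | h
      · apply hi1
        refine Units.ext (Matrix.ext_of_mulVec_single fun k => ?_)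
        have h' := hL (Pi.single k 1)
        rw [h1, h, one_smul, cv_single, Subfield.coe_one] at h'
        rw [h', Units.val_one, one_mulVec]
      · apply hie
        refine Units.ext (Matrix.ext_of_mulVec_single fun k => ?_)
        have h' := hL (Pi.single k 1)
        rw [h1, h, neg_one_smul, cv_single, Subfield.coe_one, ← zero_sub, cv_sub, cv_zero,
          cv_single, zero_sub, Subfield.coe_one] at h'
        rw [h', he]
    refine ⟨Lε y, ⟨y, rfl⟩, hy, ?_⟩
    set r := Lε y with hr'
    by_cases h2 : (2 : F) = 0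
    · have hrF : cv r = (i : Matrix ι ι F) *ᵥ cv y - (ε : F) • cv y := by
        rw [hr', hL, ← cv_smul, ← cv_sub]; rfl
      refine Subtype.ext ?_
      rw [R.coe_B, Subfield.coe_zero, hrF]
      have h1 := mem_isoOf.1 (hMK hiM).1 (cv y) (cv y)
      have h3 := mem_isoOf.1 (hMK hiM).1 (cv y) ((i : Matrix ι ι F) *ᵥ cv y)
      rw [← gl_mulVec_mul i i, hii, Units.val_one, one_mulVec] at h3
      simp only [sub_left hf, sub_right hf, hf.smul_left, smul_right hf, hσε, h1, h3]
      linear_combination (f (cv y) (cv y) - (ε : F) * f (cv y) ((i : Matrix ι ι F) *ᵥ cv y)) * h2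
        + (f (cv y) (cv y)) * hεF
    · exfalso
      -- `L - ε` would have rank one
      have hspan : ∀ w, ∃ b : F₀, Lε w = b • r := by
        intro w
        have hle : Submodule.span F₀ {r} = LinearMap.range Lε := Submodule.eq_of_le_of_finrank_le
          (by rw [Submodule.span_singleton_le_iff_mem]; exact ⟨y, rfl⟩)
          (by rw [finrank_span_singleton hy]; omega)
        obtain ⟨b, hb⟩ := Submodule.mem_span_singleton.1
          (show Lε w ∈ Submodule.span F₀ {r} by rw [hle]; exact ⟨w, rfl⟩)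
        exact ⟨b, hb.symm⟩
      choose β hβ using hspan
      set φ : ι → F₀ := fun k => β (Pi.single k 1)
      have hLmat : ∀ w, L *ᵥ w = ε • w + (φ ⬝ᵥ w) • r := by
        intro w
        have h1 : L = ε • (1 : Matrix ι ι F₀) + vecMulVec r φ :=
          Matrix.ext_of_mulVec_single fun k => by
            have := hβ (Pi.single k 1)
            simp only [Lε, LinearMap.sub_apply, LinearMap.smul_apply, Matrix.mulVecLin_apply,
              LinearMap.id_apply, sub_eq_iff_eq_add] at this
            rw [this, add_mulVec, smul_mulVec, one_mulVec, vecMulVec_mulVec, op_smul_eq_smul,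
              dotProduct_single, mul_one, add_comm]
        rw [h1, add_mulVec, smul_mulVec, one_mulVec, vecMulVec_mulVec, op_smul_eq_smul]
      have hφr : φ ⬝ᵥ r = -2 * ε := by
        have hry : r = (φ ⬝ᵥ y) • r := by
          conv_lhs => rw [hr']
          simp only [Lε, LinearMap.sub_apply, LinearMap.smul_apply, Matrix.mulVecLin_apply,
            LinearMap.id_apply, hLmat]
          abel
        have hφy : φ ⬝ᵥ y = 1 := by
          by_contra h
          exact hy ((smul_eq_zero.1 (show (1 - φ ⬝ᵥ y) • r = 0 by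
            rw [sub_smul, one_smul, ← hry, sub_self])).resolve_left (sub_ne_zero.2 (Ne.symm h)))
        have h1 := hL2 y
        rw [hLmat, hLmat, hφy, dotProduct_add, dotProduct_smul, hφy, one_smul, smul_add, smul_smul,
          hε, one_smul, smul_eq_mul, mul_one, add_assoc, add_eq_left, ← add_smul] at h1
        linear_combination (smul_eq_zero.1 h1).resolve_right hy
      have hdet : L.det = 1 := by
        have hiSL := (hMK hiM).2
        have h1 : (i : Matrix ι ι F) = L.map F₀.subtype :=
          Matrix.ext_of_mulVec_single fun k => (hLF _).symm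
        have h2 : Matrix.det (i : Matrix ι ι F) = 1 := by
          have := congrArg Units.val (MonoidHom.mem_ker.1 hiSL)
          simpa using this
        rw [h1, ← RingHom.mapMatrix_apply, ← RingHom.map_det] at h2
        exact Subtype.ext h2
      have hdet' : L.det = -(ε ^ Fintype.card ι) := by
        rw [show L = ε • ((1 : Matrix ι ι F₀) + vecMulVec (ε • r) φ) from
          Matrix.ext_of_mulVec_single fun k => by
            rw [hLmat, smul_mulVec, add_mulVec, one_mulVec, vecMulVec_mulVec, op_smul_eq_smul,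
              smul_add, smul_smul, smul_smul, mul_comm ε, mul_assoc, hε, mul_one],
          det_smul, vecMulVec_eq Unit, det_one_add_replicateCol_mul_replicateRow, dotProduct_smul,
          hφr, smul_eq_mul]
        linear_combination (-2 * ε ^ Fintype.card ι) * hε
      have hεneg : ε = -1 := by
        rcases hε1 with h | h
        · rw [h, one_pow, hdet] at hdet'
          refine absurd ?_ h2
          have := congrArg Subtype.val hdet'
          simp at this
          linear_combination this
        · exact h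
      -- but `i` fixes a large subspace
      let Φ : (ι → F) →ₗ[F] (Fin 2 → F) × (Fin 4 → F) :=
        (LinearMap.pi fun j : Fin 2 =>
          (formL hf (cv (d (j.castLE (by omega))))).comp
            (Matrix.mulVecLin ((g⁻¹ : GL ι F) : Matrix ι ι F))).prod
        (LinearMap.pi fun j : Fin 4 => formL hf (cv (d j)))
      have hΦ := LinearMap.finrank_range_add_finrank_ker Φ
      have hΦ' := Submodule.finrank_le (LinearMap.range Φ)
      rw [Module.finrank_prod, Module.finrank_fintype_fun_eq_card, Module.finrank_fintype_fun_eq_card,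
        Fintype.card_fin, Fintype.card_fin] at hΦ'
      rw [Module.finrank_fintype_fun_eq_card] at hΦ
      have hC : LinearMap.ker Φ ≤ Submodule.span F {cv r} := by
        intro y' hy'
        have h1 := congrArg Prod.fst (LinearMap.mem_ker.1 hy')
        have h2' := congrArg Prod.snd (LinearMap.mem_ker.1 hy')
        have hzy : (z₂ : Matrix ι ι F) *ᵥ y' = y' := by
          rw [hz₂, add_eq_left]
          exact Finset.sum_eq_zero fun j _ => by
            have : f y' (cv (d j)) = 0 := congrFun h2' j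
            rw [this, zero_smul]
        have hxy : (x : Matrix ι ι F) *ᵥ y' = y' := by
          rw [hxdef, gl_mulVec_mul, gl_mulVec_mul, hz₁, mulVec_add, gl_mulVec_inv_mulVec, add_eq_left,
            Finset.sum_eq_zero (fun j _ => ?_), mulVec_zero]
          have : f (((g⁻¹ : GL ι F) : Matrix ι ι F) *ᵥ y') (cv (d (j.castLE (by omega)))) = 0 :=
            congrFun h1 j
          rw [this, zero_smul]
        have hiy : (i : Matrix ι ι F) *ᵥ y' = y' := by
          let St : Subgroup (GL ι F) :=
            { carrier := {h | (h : Matrix ι ι F) *ᵥ y' = y'}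
              mul_mem' := fun {p q} hp hq => show _ = y' by rw [gl_mulVec_mul, hq, hp]
              one_mem' := show _ = y' by simp
              inv_mem' := fun {p} hp => show _ = y' by
                conv_lhs => rw [← hp]
                exact gl_inv_mulVec_mulVec p y' }
          have hle : Subgroup.closure {x, z₂} ≤ St :=
            (Subgroup.closure_le _).2 (Set.insert_subset hxy (Set.singleton_subset_iff.2 hzy))
          exact hle hicl
        have hmap : L.map F₀.subtype = (-1 : F) • (1 : Matrix ι ι F) + vecMulVec (cv r) (cv φ) := by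
          ext p q
          have h := congrFun (hLmat (Pi.single q 1)) p
          simp [hεneg] at h
          simp [cv, h, Matrix.one_apply, Pi.single_apply, vecMulVec_apply, apply_ite (fun t : F₀ => (t : F)),
            mul_comm]
        rw [← hLF, hmap, add_mulVec, smul_mulVec, one_mulVec, vecMulVec_mulVec,
          op_smul_eq_smul] at hiy
        refine Submodule.mem_span_singleton.2 ⟨(cv φ ⬝ᵥ y') / 2, ?_⟩
        have h3 : (2 : F) • y' = (cv φ ⬝ᵥ y') • cv r := by
          linear_combination (norm := module) (-1 : F) • hiy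
        rw [div_eq_mul_inv, mul_comm, mul_smul, ← h3, smul_smul, inv_mul_cancel₀ h2, one_smul]
      have h4 := Submodule.finrank_mono hC
      have h5 : Module.finrank F (Submodule.span F {cv r}) ≤ 1 := (finrank_span_le_card ({cv r} : Set (ι → F))).trans (by simp)
      omega
  exact hgH (hrat g hgM a ha ha0 (hB1 g hgM a v ha hv hv0 (hperp v hvR)))

theorem subfield_maximal_one (R : Rat σ f σ₀ B) (hn : 10 ≤ Fintype.card ι)
    (hr : (Module.finrank F₀ F).Prime) (hr2 : 2 < Module.finrank F₀ F) :
    IsMaximalIn (isoOf f ⊓ specialLinear ι F)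
      (subfieldSubgroup F₀ (1 : GL ι F) ⊓ (isoOf f ⊓ specialLinear ι F)) := by
  haveI := Fintype.ofFinite F₀
  have hf := R.hf
  obtain ⟨τ, hτ0, hτ⟩ := exists_trace_zero R.hB.ne_refl R.hB.involutive
  have hτF : σ (τ : F) = -(τ : F) := by rw [← R.coe_σ, hτ]; rfl
  set H := subfieldSubgroup F₀ (1 : GL ι F) ⊓ (isoOf f ⊓ specialLinear ι F)
  have hH : Contains R H := {
    tv := fun v hv c hc => by
      have ov := R.orth hv
      have hcF : σ (c : F) = -(c : F) := by rw [← R.coe_σ, hc]; rfl
      exact ⟨mem_sub_one_iff.2 fun x => ⟨1, x + (c * B x v) • v, by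
        rw [one_smul, uTv_mulVec hf ov, cv_add, cv_smul, Subfield.coe_mul, R.coe_B]⟩,
        uTv_mem_isoOf hf ov hcF, uTv_mem_sl hf _ _⟩
    sh := fun v w hv hw hvw b =>
      ⟨mem_sub_one_iff.2 fun x => ⟨1, x + (b * B x v) • w - (σ₀ b * B x w) • v, by
        rw [one_smul, ush_mulVec hf (R.orth hv) (R.orth hvw), cv_sub, cv_add, cv_smul, cv_smul,
          Subfield.coe_mul, Subfield.coe_mul, R.coe_B, R.coe_B, R.coe_σ]⟩,
        ush_mem_isoOf hf (R.orth hv) (R.orth hw) (R.orth hvw) _, ush_mem_sl hf _ _ _⟩ }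
  haveI : IsSimpleOrder (Subalgebra F₀ F) := Subalgebra.isSimpleOrder_of_finrank_prime _ _ hr
  refine CfsgLib.ClassicalMax.isMaximalIn_of inf_le_right ?_ ?_
  · obtain ⟨θ, hθ, hθσ⟩ : ∃ θ : F, θ ∉ F₀ ∧ σ θ = θ := by
      by_contra hcon
      push Not at hcon
      have hall : ∀ y : F, y ∈ F₀ := by
        intro y
        have hτ' : (τ : F) ≠ 0 := fun e => hτ0 (Subtype.ext (by simpa using e))
        obtain ⟨ω, hω⟩ : ∃ ω : F₀, σ₀ ω ≠ ω := by
          by_contra h
          push Not at h
          exact R.hB.ne_refl (RingEquiv.ext h)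
        have hd : (σ (ω : F) - ω) ≠ 0 := by
          rw [← R.coe_σ]
          exact sub_ne_zero.2 fun e => hω (Subtype.ext e)
        set b := (σ y - y) / (σ (ω : F) - ω) with hb
        have hbσ : σ b = b := by
          rw [hb, map_div₀, map_sub, map_sub, hf.involutive, hf.involutive, ← neg_sub (σ y) y,
            ← neg_sub (σ (ω : F)) (ω : F), neg_div_neg_eq]
        have hbF : b ∈ F₀ := by_contra fun h => hcon b h hbσ
        have haσ : σ (y - ω * b) = y - ω * b := by
          rw [map_sub, map_mul, hbσ, hb]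
          field_simp
          ring
        have haF : y - ω * b ∈ F₀ := by_contra fun h => hcon _ h haσ
        have := F₀.add_mem haF (F₀.mul_mem ω.2 hbF)
        rwa [sub_add_cancel] at this
      have : (⊥ : Subalgebra F₀ F) = ⊤ :=
        eq_top_iff.2 fun y _ => Algebra.mem_bot.2 ⟨⟨y, hall y⟩, rfl⟩
      exact bot_ne_top this
    obtain ⟨p, q, r, hp, -, -, -, -, -, hli⟩ := exists_triple R hn
    obtain ⟨y, hy, hpy, -⟩ := exists_isotropic_pairing R.hB (k := 0) (v := ![p])
      (li_one (v := p) (hli.ne_zero 2)) (fun i => by fin_cases i; exact hp)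
    have hyp : B y p = 1 := by rw [R.hB.herm, show B p y = 1 from hpy, map_one]
    have hc : σ ((τ : F) * θ) = -((τ : F) * θ) := by rw [map_mul, hτF, hθσ]; ring
    refine ⟨uTv hf (cv p) ((τ : F) * θ), ⟨uTv_mem_isoOf hf (R.orth hp) hc, uTv_mem_sl hf _ _⟩,
      fun h => hθ ?_⟩
    obtain ⟨l, s, hs⟩ := mem_sub_one_iff.1 h.1 y
    rw [uTv_mulVec hf (R.orth hp), ← R.coe_B, hyp, Subfield.coe_one, mul_one] at hs
    have hli2 : LinearIndependent F₀ ![y, p] := by
      refine LinearIndependent.pair_iff.2 fun a b hab => ?_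
      have h1 := congrArg (fun z => B z p) hab
      simp only [R.hB.add_left, R.hB.smul_left, hyp, hp, mul_one, mul_zero, add_zero,
        zero_left R.hB] at h1
      rw [h1, zero_smul, zero_add, smul_eq_zero] at hab
      exact ⟨h1, hab.resolve_right (hli.ne_zero 2)⟩
    have h2 := coeff_mem hli2 one_ne_zero (a := (1 : F)) (b := (τ : F) * θ)
      ⟨l, s, by rw [one_smul, hs]⟩
    rw [div_one] at h2
    have h3 := F₀.div_mem h2 τ.2
    rwa [mul_div_cancel_left₀ θ (fun e => hτ0 (Subtype.ext (by simpa using e)))] at h3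
  intro M hHM hMK g hgM hgH
  have hM : Contains R M :=
    ⟨fun v hv c hc => hHM (hH.tv v hv c hc), fun v w hv hw hvw b => hHM (hH.sh v w hv hw hvw b)⟩
  obtain ⟨b, hbF, hb⟩ := exists_good R hM hn hr hr2 hMK hHM hgM fun h => hgH ⟨h, hMK hgM⟩
  let K : Subalgebra F₀ F :=
    { carrier := {b | Good R M b}
      mul_mem' := fun ha hc => good_mul R hM hn hc ha
      one_mem' := fun p q hp hq hpq _ => by simpa using hM.sh p q hp hq hpq 1
      add_mem' := fun {a c} ha hc p q hp hq hpq h => by
        rw [← ush_add hf (R.orth hp) (R.orth hq) (R.orth hpq)]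
        exact M.mul_mem (ha p q hp hq hpq h) (hc p q hp hq hpq h)
      zero_mem' := fun p q hp hq hpq _ => by
        rw [ush_zero hf (R.orth hp) (R.orth hpq)]; exact M.one_mem
      algebraMap_mem' := fun c p q hp hq hpq _ => hM.sh p q hp hq hpq c }
  have hall : ∀ c, Good R M c := by
    intro c
    rcases IsSimpleOrder.eq_bot_or_eq_top K with h | h
    · have : b ∈ K := hb
      rw [h, Algebra.mem_bot] at this
      obtain ⟨d, hd⟩ := this
      exact absurd (hd ▸ d.2 : b ∈ F₀) hbF
    · have : c ∈ K := h ▸ Algebra.mem_top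
      exact this
  exact iso_inf_sl_le hf (by omega) fun v c hv hc => (uSet_of_good R hM (by omega) hall hτ0 hτ hv).2 c hc

omit [DecidableEq F] in
theorem subfield_maximal {f : (ι → F) → (ι → F) → F} (hf : IsUnitaryForm σ f)
    (hn : 10 ≤ Fintype.card ι) (hr : (Module.finrank F₀ F).Prime) (hro : Odd (Module.finrank F₀ F))
    (P : GL ι F) (hP : IsFormRationalStructure f F₀ 1 P) :
    IsMaximalIn (isoOf f ⊓ specialLinear ι F)
      (subfieldSubgroup F₀ P ⊓ (isoOf f ⊓ specialLinear ι F)) := by
  classical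
  haveI := Fintype.ofFinite F₀
  haveI : IsSimpleOrder (Subalgebra F₀ F) := Subalgebra.isSimpleOrder_of_finrank_prime _ _ hr
  obtain ⟨hcard, hσ⟩ := exists_card_eq hf.ne_refl hf.involutive
  have hmem : ∀ a ∈ F₀, σ a ∈ F₀ := fun a ha => by rw [hσ]; exact pow_mem ha _
  have hr2 : 2 < Module.finrank F₀ F := by
    rcases hr.two_le.lt_or_eq with h | h
    · exact h
    · rw [← h] at hro; exact absurd hro (by decide)
  let σ₀ : F₀ ≃+* F₀ :=
    { toFun := fun a => ⟨σ a, hmem _ a.2⟩
      invFun := fun a => ⟨σ a, hmem _ a.2⟩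
      left_inv := fun a => Subtype.ext (hf.involutive _)
      right_inv := fun a => Subtype.ext (hf.involutive _)
      map_mul' := fun a b => Subtype.ext (by simp)
      map_add' := fun a b => Subtype.ext (by simp) }
  have hσ₀ : ∀ a : F₀, (σ₀ a : F) = σ a := fun a => rfl
  have hne : σ₀ ≠ RingEquiv.refl F₀ := by
    intro e
    have hfix : ∀ a : F₀, σ (a : F) = a := fun a => by rw [← hσ₀, e]; rfl
    let K : Subalgebra F₀ F :=
      { (fixedField σ).toSubring with algebraMap_mem' := fun c => hfix c }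
    rcases IsSimpleOrder.eq_bot_or_eq_top K with h | h
    · have heq : (fixedField σ : Set F) = (F₀ : Set F) := by
        ext a
        refine ⟨fun ha => ?_, fun ha => hfix ⟨a, ha⟩⟩
        have h1 : a ∈ K := ha
        rw [h, Algebra.mem_bot] at h1
        obtain ⟨c, hc⟩ := h1
        rw [← hc]
        exact c.2
      have hq : Nat.card (fixedField σ) = Fintype.card F₀ := by
        rw [← Nat.card_eq_fintype_card]
        exact Nat.card_congr (Equiv.setCongr heq)
      have h2 := Module.card_eq_pow_finrank (K := F₀) (V := F)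
      rw [hcard, hq] at h2
      exact absurd (Nat.pow_right_injective Fintype.one_lt_card h2) (by omega)
    · refine hf.ne_refl (RingEquiv.ext fun a => ?_)
      have : a ∈ K := h ▸ Algebra.mem_top
      exact this
  -- move to the standard rational structure
  set f' : (ι → F) → (ι → F) → F :=
    fun x y => f ((P : Matrix ι ι F) *ᵥ x) ((P : Matrix ι ι F) *ᵥ y)
  have hf' : IsUnitaryForm σ f' := pullback hf P
  have hv : ∀ x y : ι → F₀, f' (cv x) (cv y) ∈ F₀ := fun x y => by
    have := hP _ _ (fun i => (x i).2) (fun i => (y i).2)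
    rwa [one_mul] at this
  let B : (ι → F₀) → (ι → F₀) → F₀ := fun x y => ⟨f' (cv x) (cv y), hv x y⟩
  have hB : IsUnitaryForm σ₀ B := {
    ne_refl := hne
    involutive := fun a => Subtype.ext (hf.involutive _)
    add_left := fun x y v => Subtype.ext (by
      change f' (cv (x + y)) (cv v) = _
      rw [cv_add, hf'.add_left]; rfl)
    smul_left := fun c x v => Subtype.ext (by
      change f' (cv (c • x)) (cv v) = _
      rw [cv_smul, hf'.smul_left]; rfl)
    herm := fun v w => Subtype.ext (hf'.herm _ _)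
    nondegenerate := fun v hv0 => by
      suffices h : ∃ x, B x v ≠ 0 by
        obtain ⟨x, hx⟩ := h
        exact ⟨⟨x, hx⟩, ⟨x, fun e => hx (Subtype.ext
          (eq_zero_comm hf' (congrArg Subtype.val e)))⟩⟩
      by_contra hcon
      push Not at hcon
      obtain ⟨x, hx⟩ := (hf'.nondegenerate _ (cv_ne_zero hv0)).1
      apply hx
      rw [eq_sum_ratVec (F₀ := F₀) 1 x, ← formL_apply hf' (cv v), map_sum]
      refine Finset.sum_eq_zero fun i _ => ?_
      rw [map_smul, formL_apply, ratVec_one, show f' (cv (Pi.single i (1 : F₀))) (cv v) = 0 from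
        congrArg Subtype.val (hcon _), smul_zero] }
  have R : Rat σ f' σ₀ B := ⟨hf', hB, hσ₀, fun x y => rfl⟩
  have h := subfield_maximal_one R hn hr hr2
  have hinj : Function.Injective (MulAut.conj P).toMonoidHom := (MulAut.conj P).injective
  have h1 : subfieldSubgroup F₀ P
      = (subfieldSubgroup F₀ (1 : GL ι F)).map (MulAut.conj P).toMonoidHom := by
    rw [subfieldSubgroup, subfieldSubgroup, Subgroup.map_map]
    congr 1
    ext a
    simp
  have h2 : (isoOf f' ⊓ specialLinear ι F).map (MulAut.conj P).toMonoidHom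
      = isoOf f ⊓ specialLinear ι F := by
    ext k
    constructor
    · rintro ⟨a, ⟨ha, hd⟩, rfl⟩
      refine ⟨fun x y => ?_, MonoidHom.mem_ker.2 ?_⟩
      · change f (((P * a * P⁻¹ : GL ι F) : Matrix ι ι F) *ᵥ x)
          (((P * a * P⁻¹ : GL ι F) : Matrix ι ι F) *ᵥ y) = f x y
        simp only [gl_mulVec_mul]
        have := ha (((P⁻¹ : GL ι F) : Matrix ι ι F) *ᵥ x) (((P⁻¹ : GL ι F) : Matrix ι ι F) *ᵥ y)
        simpa [f'] using this
      · rw [MulEquiv.toMonoidHom_eq_coe, MonoidHom.coe_coe, MulAut.conj_apply, map_mul, map_mul,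
          MonoidHom.mem_ker.1 hd, mul_one, ← map_mul, mul_inv_cancel, map_one]
    · rintro ⟨hk, hd⟩
      refine ⟨P⁻¹ * k * P, ⟨fun x y => ?_, MonoidHom.mem_ker.2 ?_⟩, by simp [mul_assoc]⟩
      · change f' (((P⁻¹ * k * P : GL ι F) : Matrix ι ι F) *ᵥ x)
          (((P⁻¹ * k * P : GL ι F) : Matrix ι ι F) *ᵥ y) = f' x y
        simp only [f', gl_mulVec_mul, gl_mulVec_inv_mulVec]
        exact hk _ _
      · rw [map_mul, map_mul, MonoidHom.mem_ker.1 hd, mul_one, ← map_mul, inv_mul_cancel, map_one]
  rw [h1, ← h2, ← Subgroup.map_inf _ _ _ hinj]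
  refine ⟨(Subgroup.map_lt_map_iff_of_injective hinj).2 h.1, fun M hl hu => ?_⟩
  have hM : M = (M.comap (MulAut.conj P).toMonoidHom).map (MulAut.conj P).toMonoidHom :=
    (Subgroup.map_comap_eq_self_of_surjective (MulAut.conj P).surjective _).symm
  rw [hM] at hl hu ⊢
  rw [Subgroup.map_le_map_iff_of_injective hinj] at hl hu
  rcases h.2 _ hl hu with e | e
  · left; rw [e]
  · right; rw [e]

end CfsgLib.ClassicalMax.Unit.Sub
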