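/-
A symplectic subfield group is maximal in the special unitary group, small dimensions.
-/
import Cfsg.Agent.Lib.ClassicalMax.UnitSympSubfield
set_option autoImplicit false

namespace CfsgLib.ClassicalMax.Unit

open Matrix Cfsg.Geo

variable {ι : Type} [Fintype ι] [DecidableEq ι] {F : Type*} [Field F] [Fintype F]
  {σ : F ≃+* F} {f : (ι → F) → (ι → F) → F}

/-- A symplectic subfield group is maximal once transvections generate the special unitary group. -/
theorem symp_subfield_maximal_of_gen [DecidableEq F] (hf : IsUnitaryForm σ f) (hn : 3 ≤ Fintype.card ι)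
    (hgen : ∀ H : Subgroup (GL ι F), (∀ v c, f v v = 0 → σ c = -c → uTv hf v c ∈ H) →
      isoOf f ⊓ specialLinear ι F ≤ H) (F₀ : Subfield F)
    (hcard : Fintype.card F = Nat.card F₀ ^ 2) (hF₀ : ∀ a ∈ F₀, σ a = a) (P : GL ι F) (ζ : F)
    (hζ0 : ζ ≠ 0) (hζ : σ ζ = -ζ) (hP : IsFormRationalStructure f F₀ ζ P)
    (halt : ∀ u : ι → F, (∀ i, u i ∈ F₀) →
      f ((P : Matrix ι ι F) *ᵥ u) ((P : Matrix ι ι F) *ᵥ u) = 0) :
    IsMaximalIn (isoOf f ⊓ specialLinear ι F)
      (subfieldSubgroup F₀ P ⊓ (isoOf f ⊓ specialLinear ι F)) := by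
  -- the fixed field is `F₀`
  have hfixed : ∀ a, σ a = a → a ∈ F₀ := by
    have hc := (exists_card_eq hf.ne_refl hf.involutive).1
    rw [hcard] at hc
    have hK : F₀ ≤ fixedField σ := fun a ha => hF₀ a ha
    have heq : (F₀ : Set F) = fixedField σ := Set.eq_of_subset_of_ncard_le hK (by
      rw [← Nat.card_coe_set_eq, ← Nat.card_coe_set_eq]
      exact le_of_eq (Nat.pow_left_injective two_ne_zero hc).symm) (Set.toFinite _)
    intro a ha
    have : a ∈ (fixedField σ : Set F) := ha
    rwa [← heq] at this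
  obtain ⟨ω, hω⟩ : ∃ ω, σ ω ≠ ω := by
    by_contra h
    push Not at h
    exact hf.ne_refl (RingEquiv.ext h)
  have hωd : σ ω - ω ≠ 0 := sub_ne_zero.2 hω
  let e : (ι → F₀) → (ι → F) := fun x => (P : Matrix ι ι F) *ᵥ fun i => (x i : F)
  have eadd : ∀ x y, e (x + y) = e x + e y := fun x y => by
    simp only [e, ← mulVec_add]
    exact congrArg _ (funext fun i => by simp)
  have esmul : ∀ (c : F₀) x, e (c • x) = (c : F) • e x := fun c x => by
    simp only [e, coe_smul_comp, mulVec_smul]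
  let B : (ι → F₀) → (ι → F₀) → F₀ := fun u v =>
    ⟨ζ * f (e u) (e v), hP _ _ (fun i => (u i).2) (fun i => (v i).2)⟩
  have hBbil : IsBilinearForm B := {
    add_left := fun x y v => Subtype.ext (by
      change ζ * f (e (x + y)) (e v) = ζ * f (e x) (e v) + ζ * f (e y) (e v)
      rw [eadd, hf.add_left, mul_add])
    smul_left := fun c x v => Subtype.ext (by
      change ζ * f (e (c • x)) (e v) = (c : F) * (ζ * f (e x) (e v))
      rw [esmul, hf.smul_left]; ring)
    add_right := fun v x y => Subtype.ext (by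
      change ζ * f (e v) (e (x + y)) = ζ * f (e v) (e x) + ζ * f (e v) (e y)
      rw [eadd, add_right hf, mul_add])
    smul_right := fun c v x => Subtype.ext (by
      change ζ * f (e v) (e (c • x)) = (c : F) * (ζ * f (e v) (e x))
      rw [esmul, smul_right hf, hF₀ _ c.2]; ring) }
  have hBalt : ∀ u, B u u = 0 := fun u => Subtype.ext (by
    change ζ * f (e u) (e u) = 0
    rw [halt _ fun i => (u i).2, mul_zero])
  have hB : Cfsg.Geo.IsSymplecticForm B := {
    bilinear := hBbil
    skew := fun v w => by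
      have h := hBalt (v + w)
      rw [hBbil.add_left, hBbil.add_right, hBbil.add_right, hBalt, hBalt, zero_add, add_zero] at h
      exact eq_neg_of_add_eq_zero_left h
    alternating := hBalt
    nondegenerate := fun v hv => by
      have hev : e v ≠ 0 := gl_mulVec_ne_zero P fun h => hv (funext fun i =>
        Subtype.ext (by simpa using congrFun h i))
      obtain ⟨x, hx⟩ := (hf.nondegenerate _ hev).1
      obtain ⟨j, hj⟩ : ∃ j : ι, f (e (Pi.single j 1)) (e v) ≠ 0 := by
        by_contra hcon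
        push Not at hcon
        apply hx
        rw [← gl_mulVec_inv_mulVec P x, pi_eq_sum_univ' (((P⁻¹ : GL ι F) : Matrix ι ι F) *ᵥ x)]
        simp only [mulVec_sum, mulVec_smul]
        rw [← formL_apply hf, map_sum]
        refine Finset.sum_eq_zero fun i _ => ?_
        rw [map_smul, formL_apply, smul_eq_mul]
        have he : e (Pi.single i 1) = (P : Matrix ι ι F) *ᵥ Pi.single i 1 := by
          change (P : Matrix ι ι F) *ᵥ _ = _
          exact congrArg _ (funext fun k => by by_cases h : k = i <;> simp [h])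
        rw [← he, hcon i, mul_zero]
      exact ⟨⟨Pi.single j 1, fun h => mul_ne_zero hζ0 hj (congrArg Subtype.val h)⟩,
        ⟨Pi.single j 1, fun h => mul_ne_zero hζ0 (ne_zero_comm hf hj) (congrArg Subtype.val h)⟩⟩ }
  set H := subfieldSubgroup F₀ P ⊓ (isoOf f ⊓ specialLinear ι F) with hH
  -- rational transvections
  have htv : ∀ (u : ι → F₀) (c : F₀), uTv hf (e u) ((c : F) * ζ) ∈ H ∧
      ∀ x, (uTv hf (e u) ((c : F) * ζ) : Matrix ι ι F) *ᵥ e x
        = e ((CfsgLib.ClassicalMax.sTv B u c : Matrix ι ι F₀) *ᵥ x) := by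
    intro u c
    have hu : f (e u) (e u) = 0 := halt _ fun i => (u i).2
    have hx : ∀ x, (uTv hf (e u) ((c : F) * ζ) : Matrix ι ι F) *ᵥ e x
        = e ((CfsgLib.ClassicalMax.sTv B u c : Matrix ι ι F₀) *ᵥ x) := fun x => by
      rw [uTv_mulVec hf hu, CfsgLib.ClassicalMax.sTv_mulVec hB, eadd, esmul]
      congr 2
      change _ = (c : F) * (ζ * f (e x) (e u))
      ring
    have hc : σ ((c : F) * ζ) = -((c : F) * ζ) := by rw [map_mul, hζ, hF₀ _ c.2, mul_neg]
    refine ⟨⟨?_, uTv_mem_isoOf hf hu hc, uTv_mem_sl hf _ _⟩, hx⟩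
    set g₀ := CfsgLib.ClassicalMax.sTv B u c
    refine ⟨Matrix.GeneralLinearGroup.map (F₀.subtype : F₀ →+* F) g₀,
      Subgroup.mem_sup_left ⟨g₀, rfl⟩, ?_⟩
    change P * Matrix.GeneralLinearGroup.map (F₀.subtype : F₀ →+* F) g₀ * P⁻¹ = _
    rw [mul_inv_eq_iff_eq_mul]
    refine Units.ext (Matrix.ext_of_mulVec_single fun j => ?_)
    rw [gl_mulVec_mul, gl_mulVec_mul]
    have hs : ((P : Matrix ι ι F) *ᵥ (Pi.single j 1)) = e (Pi.single j 1) :=
      congrArg _ (funext fun k => by by_cases h : k = j <;> simp [h])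
    rw [hs, hx]
    simp only [e]
    refine congrArg _ (funext fun k => ?_)
    simp [mulVec_single]
  have hsub_fwd : ∀ g ∈ subfieldSubgroup F₀ P, ∀ x, ∃ (l : F) (r : ι → F₀),
      (g : Matrix ι ι F) *ᵥ e x = l • e r := by
    rintro g ⟨k, hk, rfl⟩ x
    obtain ⟨_, ⟨g₀, rfl⟩, z, hz, rfl⟩ := Subgroup.mem_sup_of_normal_right.1 hk
    obtain ⟨l, hl⟩ := (mem_scalars_iff z).1 hz
    refine ⟨l, (g₀ : Matrix ι ι F₀) *ᵥ x, ?_⟩
    change ((P * (_ * z) * P⁻¹ : GL ι F) : Matrix ι ι F) *ᵥ _ = _
    simp only [e]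
    rw [gl_mulVec_mul, gl_inv_mulVec_mulVec, gl_mulVec_mul, gl_mulVec_mul, hl, smul_mulVec,
      one_mulVec, mulVec_smul, mulVec_smul]
    refine congrArg _ (congrArg _ (funext fun i => ?_))
    exact (RingHom.map_mulVec F₀.subtype (g₀ : Matrix ι ι F₀) x i).symm
  -- coordinates over the subfield
  have hcoord : ∀ x : ι → F, ∃ a b : ι → F₀, x = e a + ω • e b := by
    intro x
    set y := ((P⁻¹ : GL ι F) : Matrix ι ι F) *ᵥ x with hy
    have hb : ∀ i, (σ (y i) - y i) / (σ ω - ω) ∈ F₀ := fun i => hfixed _ (by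
      rw [map_div₀, map_sub, map_sub, hf.involutive, hf.involutive, ← neg_sub (σ (y i)) (y i),
        ← neg_sub (σ ω) ω, neg_div_neg_eq])
    have ha : ∀ i, y i - ω * ((σ (y i) - y i) / (σ ω - ω)) ∈ F₀ := fun i => hfixed _ (by
      rw [map_sub, map_mul, hF₀ _ (hb i)]
      field_simp
      ring)
    refine ⟨fun i => ⟨_, ha i⟩, fun i => ⟨_, hb i⟩, ?_⟩
    simp only [e]
    rw [← mulVec_smul, ← mulVec_add, ← gl_mulVec_inv_mulVec P x, ← hy]
    exact congrArg _ (funext fun i => by simp)
  have hline : ∀ a b : ι → F₀, ¬ LinearIndependent F₀ ![a, b] →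
      ∃ (l : F) (r : ι → F₀), e a + ω • e b = l • e r := by
    intro a b h
    by_cases ha : a = 0
    · exact ⟨ω, b, by subst ha; simp [e, show (fun _ : ι => (0 : F)) = 0 from rfl]⟩
    · rw [LinearIndependent.pair_iff' ha] at h
      push Not at h
      obtain ⟨c, rfl⟩ := h
      exact ⟨1 + ω * (c : F), a, by rw [esmul, smul_smul, add_smul, one_smul]⟩
  have hiso : ∀ a b : ι → F₀, f (e a + ω • e b) (e a + ω • e b) = 0 → B a b = 0 := by
    intro a b h
    have h1 : f (e b) (e a) = - f (e a) (e b) := by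
      have h2 := halt _ (fun i => ((a + b) i).2)
      change f (e (a + b)) (e (a + b)) = 0 at h2
      rw [eadd, hf.add_left, add_right hf, add_right hf, halt _ (fun i => (a i).2),
        halt _ (fun i => (b i).2)] at h2
      linear_combination h2
    rw [hf.add_left, add_right hf, add_right hf, hf.smul_left, hf.smul_left, smul_right hf,
      smul_right hf, halt _ (fun i => (a i).2), halt _ (fun i => (b i).2), h1] at h
    have h3 : (σ ω - ω) * f (e a) (e b) = 0 := by linear_combination h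
    refine Subtype.ext ?_
    change ζ * f (e a) (e b) = 0
    rw [(mul_eq_zero.1 h3).resolve_left hωd, mul_zero]
  -- a vector spanning an irrational isotropic line
  obtain ⟨i₀⟩ : Nonempty ι := Fintype.card_pos_iff.1 (by omega)
  set a₀ : ι → F₀ := Pi.single i₀ 1 with ha₀
  have ha₀0 : a₀ ≠ 0 := fun h => one_ne_zero (α := F₀) (by simpa [ha₀] using congrFun h i₀)
  obtain ⟨b₀, hb₀, hb₀'⟩ : ∃ b ∈ LinearMap.ker (CfsgLib.ClassicalMax.bilinOf hBbil a₀),
      b ∉ Submodule.span F₀ {a₀} := by
    apply SetLike.not_le_iff_exists.1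
    intro hle
    have h := LinearMap.finrank_range_add_finrank_ker (CfsgLib.ClassicalMax.bilinOf hBbil a₀)
    have h' : Module.finrank F₀ (LinearMap.range (CfsgLib.ClassicalMax.bilinOf hBbil a₀)) ≤ 1 := by
      simpa using Submodule.finrank_le (LinearMap.range (CfsgLib.ClassicalMax.bilinOf hBbil a₀))
    have h4 := Submodule.finrank_mono hle
    rw [finrank_span_singleton ha₀0] at h4
    rw [Module.finrank_fintype_fun_eq_card] at h
    omega
  have hindep : ∀ a b : ι → F₀, LinearIndependent F₀ ![a, b] → ∀ (l : F) (r : ι → F₀),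
      e a + ω • e b ≠ l • e r := by
    intro a b hab l r h
    have hco : ∀ i, (a i : F) + ω * (b i : F) = l * (r i : F) := fun i => by
      have h' := congrArg (fun z => ((P⁻¹ : GL ι F) : Matrix ι ι F) *ᵥ z) h
      simp only [e, mulVec_add, mulVec_smul, gl_inv_mulVec_mulVec] at h'
      simpa using congrFun h' i
    -- the two coordinates of the scalar
    have hl₂ : (σ l - l) / (σ ω - ω) ∈ F₀ := hfixed _ (by
      rw [map_div₀, map_sub, map_sub, hf.involutive, hf.involutive, ← neg_sub (σ l) l,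
        ← neg_sub (σ ω) ω, neg_div_neg_eq])
    set l₂ : F₀ := ⟨_, hl₂⟩
    have hb : b = l₂ • r := funext fun i => Subtype.ext (by
      have h2 := congrArg σ (hco i)
      rw [map_add, map_mul, map_mul, hF₀ _ (a i).2, hF₀ _ (b i).2, hF₀ _ (r i).2] at h2
      rw [Pi.smul_apply, smul_eq_mul, Subfield.coe_mul]
      change (b i : F) = (σ l - l) / (σ ω - ω) * (r i : F)
      field_simp
      linear_combination h2 - hco i)
    have hl₁ : l - ω * (l₂ : F) ∈ F₀ := hfixed _ (by
      rw [map_sub, map_mul, hF₀ _ l₂.2]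
      change σ l - σ ω * ((σ l - l) / (σ ω - ω)) = l - ω * ((σ l - l) / (σ ω - ω))
      field_simp
      ring)
    have ha : a = (⟨_, hl₁⟩ : F₀) • r := funext fun i => Subtype.ext (by
      rw [Pi.smul_apply, smul_eq_mul, Subfield.coe_mul]
      have := hco i
      rw [hb, Pi.smul_apply, smul_eq_mul, Subfield.coe_mul] at this
      change (a i : F) = (l - ω * (l₂ : F)) * (r i : F)
      linear_combination this)
    rw [LinearIndependent.pair_iff] at hab
    by_cases h2 : l₂ = 0
    · have := (hab 0 1 (by rw [hb, h2]; simp)).2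
      exact one_ne_zero this
    · have := (hab l₂ (-(⟨_, hl₁⟩ : F₀)) (by rw [ha, hb, smul_smul, smul_smul]; module)).1
      exact h2 this
  refine CfsgLib.ClassicalMax.isMaximalIn_of inf_le_right ?_ ?_
  · have hab₀ : LinearIndependent F₀ ![a₀, b₀] := by
      rw [LinearIndependent.pair_iff' ha₀0]
      exact fun c h => hb₀' (Submodule.mem_span_singleton.2 ⟨c, h⟩)
    set u := e a₀ + ω • e b₀ with hu
    have hu0 : f u u = 0 := by
      have h1 : f (e a₀) (e b₀) = 0 := by
        have : B a₀ b₀ = 0 := hb₀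
        exact (mul_eq_zero.1 (congrArg Subtype.val this)).resolve_left hζ0
      rw [hu, hf.add_left, add_right hf, add_right hf, hf.smul_left, hf.smul_left, smul_right hf,
        smul_right hf, halt _ (fun i => (a₀ i).2), halt _ (fun i => (b₀ i).2), h1,
        eq_zero_comm hf h1]
      ring
    refine ⟨uTv hf u ζ, ⟨uTv_mem_isoOf hf hu0 hζ, uTv_mem_sl hf _ _⟩, fun h => ?_⟩
    -- a rational vector paired non-trivially with `u`
    obtain ⟨x, hxb, hxa⟩ : ∃ x, B x b₀ = 0 ∧ B x a₀ ≠ 0 := by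
      have hnot : a₀ ∉ Submodule.span F₀ {b₀} := by
        intro hmem
        obtain ⟨c, hc⟩ := Submodule.mem_span_singleton.1 hmem
        have hc0 : c ≠ 0 := fun hc0 => ha₀0 (by rw [← hc, hc0, zero_smul])
        exact hb₀' (Submodule.mem_span_singleton.2 ⟨c⁻¹, by rw [← hc, smul_smul, inv_mul_cancel₀ hc0, one_smul]⟩)
      obtain ⟨x, hx, hx'⟩ := CfsgLib.ClassicalMax.exists_orth_ne_zero hBbil hB.nondegenerate hnot
      exact ⟨x, (CfsgLib.ClassicalMax.form_symplectic_eq_zero_comm hB).1
        (hx b₀ (Submodule.mem_span_singleton_self _)), CfsgLib.ClassicalMax.isoOf_comm_zero hB hx'⟩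
    obtain ⟨l, r, hr⟩ := hsub_fwd _ h.1 x
    have hfxu : ζ * f (e x) u = (B x a₀ : F) := by
      have h0 : f (e x) (e b₀) = 0 := (mul_eq_zero.1 (congrArg Subtype.val hxb)).resolve_left hζ0
      rw [hu, add_right hf, smul_right hf, h0, mul_zero, add_zero]
    rw [uTv_mulVec hf hu0, hfxu, hu, smul_add, smul_comm, ← esmul, ← esmul, ← add_assoc,
      ← eadd] at hr
    refine hindep _ _ ?_ l r hr
    -- independence of the new pair
    refine LinearIndependent.pair_iff.2 fun p q hpq => ?_
    have h2 := congrArg (fun z => B z a₀) hpq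
    have h3 := congrArg (fun z => B x z) hpq
    have hba : B b₀ a₀ = 0 := (CfsgLib.ClassicalMax.form_symplectic_eq_zero_comm hB).1 hb₀
    simp [hBbil.add_left, hBbil.smul_left, hBalt, hba,
      CfsgLib.ClassicalMax.form_zero_left hBbil, hxa] at h2
    subst h2
    simp only [zero_smul, zero_add, smul_smul, smul_eq_zero, mul_eq_zero] at hpq
    rcases hpq with (hq | hq) | hq
    · exact ⟨rfl, hq⟩
    · exact absurd hq hxa
    · exact absurd (hq ▸ zero_mem _) hb₀'
  intro M hHM hMK g hgM hgH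
  have hgK := hMK hgM
  have hgi : g ∈ isoOf f := hgK.1
  have hrat : ∀ x, e x ∈ uSet hf M := by
    refine fun x => ⟨halt _ (fun i => (x i).2), fun c hc => ?_⟩
    have hc' : c / ζ ∈ F₀ := hfixed _ (by rw [map_div₀, hc, hζ, neg_div_neg_eq])
    have := hHM (htv x ⟨_, hc'⟩).1
    rwa [show ((⟨_, hc'⟩ : F₀) : F) * ζ = c from div_mul_cancel₀ c hζ0] at this
  -- some rational vector has irrational image
  obtain ⟨a₁, b₁, hab₁, hS₁⟩ : ∃ a b : ι → F₀, LinearIndependent F₀ ![a, b] ∧
      e a + ω • e b ∈ uSet hf M := by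
    by_contra hcon
    push Not at hcon
    have himg : ∀ x, ∃ (l : F) (r : ι → F₀), (g : Matrix ι ι F) *ᵥ e x = l • e r := by
      intro x
      obtain ⟨a, b, hab⟩ := hcoord ((g : Matrix ι ι F) *ᵥ e x)
      by_cases h : LinearIndependent F₀ ![a, b]
      · exact absurd (hab ▸ uSet_mulVec hf hgM hgi (hrat x)) (hcon a b h)
      · obtain ⟨l, r, hlr⟩ := hline a b h
        exact ⟨l, r, hab.trans hlr⟩
    choose l r hlr using himg
    have hl0 : ∀ i : ι, l (Pi.single i (1 : F₀)) ≠ 0 := by
      intro i h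
      have h0 := hlr (Pi.single i 1)
      rw [h, zero_smul] at h0
      refine gl_mulVec_ne_zero g (gl_mulVec_ne_zero P ?_) h0
      intro h1
      simpa using congrFun h1 i
    -- ratios of the scalars are rational
    have hratio : ∀ i, l (Pi.single i 1) / l (Pi.single i₀ 1) ∈ F₀ := by
      intro i
      by_cases hi : i = i₀
      · rw [hi, div_self (hl0 i₀)]; exact F₀.one_mem
      refine hfixed _ ?_
      set x : ι → F₀ := Pi.single i 1 + Pi.single i₀ 1
      have hsum : l x • e (r x) = l (Pi.single i 1) • e (r (Pi.single i 1))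
          + l (Pi.single i₀ 1) • e (r (Pi.single i₀ 1)) := by
        rw [← hlr, ← hlr, ← hlr, eadd, mulVec_add]
      have hx0 : l x ≠ 0 := by
        intro h0
        have h1 := hlr x
        rw [h0, zero_smul] at h1
        refine gl_mulVec_ne_zero g (gl_mulVec_ne_zero P fun h => ?_) h1
        have := congrFun h i
        simp [x, hi] at this
      -- read off in coordinates
      have hco : ∀ k, l x * (r x k : F) = l (Pi.single i 1) * (r (Pi.single i 1) k : F)
          + l (Pi.single i₀ 1) * (r (Pi.single i₀ 1) k : F) := fun k => by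
        have h' := congrArg (fun z => ((P⁻¹ : GL ι F) : Matrix ι ι F) *ᵥ z) hsum
        simp only [e, mulVec_add, mulVec_smul, gl_inv_mulVec_mulVec] at h'
        simpa using congrFun h' k
      set A := l (Pi.single i 1) / l x
      set C := l (Pi.single i₀ 1) / l x
      have hz : (σ A - A) • e (r (Pi.single i 1)) + (σ C - C) • e (r (Pi.single i₀ 1)) = 0 := by
        simp only [e, ← mulVec_smul, ← mulVec_add]
        rw [show (σ A - A) • (fun k => (r (Pi.single i 1) k : F))
            + (σ C - C) • (fun k => (r (Pi.single i₀ 1) k : F)) = 0 from funext fun k => ?_, mulVec_zero]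
        have h1 : (r x k : F) = A * (r (Pi.single i 1) k : F) + C * (r (Pi.single i₀ 1) k : F) := by
          simp only [A, C]
          field_simp
          linear_combination hco k
        have h2 := congrArg σ h1
        rw [map_add, map_mul, map_mul, hF₀ _ (r x k).2, hF₀ _ (r (Pi.single i 1) k).2,
          hF₀ _ (r (Pi.single i₀ 1) k).2] at h2
        simp only [Pi.add_apply, Pi.smul_apply, Pi.zero_apply, smul_eq_mul]
        linear_combination h1 - h2
      have hz' : (g : Matrix ι ι F) *ᵥ (((σ A - A) / l (Pi.single i 1)) • e (Pi.single i 1)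
          + ((σ C - C) / l (Pi.single i₀ 1)) • e (Pi.single i₀ 1)) = 0 := by
        rw [mulVec_add, mulVec_smul, mulVec_smul, hlr, hlr, smul_smul, smul_smul,
          div_mul_cancel₀ _ (hl0 i), div_mul_cancel₀ _ (hl0 i₀), hz]
      have hz'' := gl_mulVec_injective g (a₁ := _) (a₂ := 0) (by simpa using hz')
      have hAC : σ A = A ∧ σ C = C := by
        have h' := congrArg (fun z => ((P⁻¹ : GL ι F) : Matrix ι ι F) *ᵥ z) hz''
        simp only [e, mulVec_add, mulVec_smul, gl_inv_mulVec_mulVec, mulVec_zero] at h'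
        constructor
        · have := congrFun h' i
          simpa [hi, hl0 i, hl0 i₀, sub_eq_zero] using this
        · have := congrFun h' i₀
          simpa [Ne.symm hi, hl0 i, hl0 i₀, sub_eq_zero] using this
      rw [show l (Pi.single i 1) / l (Pi.single i₀ 1) = A / C by
          simp only [A, C]; field_simp, map_div₀, hAC.1, hAC.2]
    set g₀ : Matrix ι ι F₀ := Matrix.of fun k j => (⟨_, hratio j⟩ : F₀) * r (Pi.single j 1) k
      with hg₀
    set l₀ := l (Pi.single i₀ 1) with hl₀
    have hcol : ∀ j, (g : Matrix ι ι F) *ᵥ e (Pi.single j 1)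
        = l₀ • e (g₀ *ᵥ Pi.single j 1) := fun j => by
      rw [hlr]
      simp only [e, ← mulVec_smul]
      refine congrArg _ (funext fun k => ?_)
      have := hl0 i₀
      simp [hg₀, mulVec_single, hl₀]
      field_simp
    have hdet : IsUnit g₀ := by
      rw [← Matrix.mulVec_injective_iff_isUnit]
      intro p q hpq
      have key : ∀ z, (g : Matrix ι ι F) *ᵥ e z = l₀ • e (g₀ *ᵥ z) := by
        intro z
        let L₁ : (ι → F₀) →+ (ι → F) :=
          AddMonoidHom.mk' (fun z => (g : Matrix ι ι F) *ᵥ e z) fun a b => by rw [eadd, mulVec_add]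
        let L₂ : (ι → F₀) →+ (ι → F) :=
          AddMonoidHom.mk' (fun z => l₀ • e (g₀ *ᵥ z)) fun a b => by rw [mulVec_add, eadd, smul_add]
        change L₁ z = L₂ z
        rw [pi_eq_sum_univ' z, map_sum, map_sum]
        refine Finset.sum_congr rfl fun j _ => ?_
        change (g : Matrix ι ι F) *ᵥ e _ = l₀ • e _
        rw [esmul, mulVec_smul, hcol, mulVec_smul, esmul, smul_comm]
      have := gl_mulVec_injective g (show (g : Matrix ι ι F) *ᵥ e p = (g : Matrix ι ι F) *ᵥ e q by
        rw [key, key, hpq])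
      have := gl_mulVec_injective P this
      exact funext fun i => Subtype.ext (congrFun this i)
    obtain ⟨g₁, hg₁⟩ := hdet
    refine hgH ⟨⟨Matrix.GeneralLinearGroup.map (F₀.subtype : F₀ →+* F) g₁ *
      Units.map (Matrix.scalar ι : F →+* Matrix ι ι F).toMonoidHom (Units.mk0 l₀ (hl0 i₀)), ?_, ?_⟩, hgK⟩
    · exact Subgroup.mul_mem_sup ⟨g₁, rfl⟩ ⟨_, rfl⟩
    · change P * _ * P⁻¹ = g
      rw [mul_inv_eq_iff_eq_mul]
      refine Units.ext (Matrix.ext_of_mulVec_single fun j => ?_)
      have hs : ((P : Matrix ι ι F) *ᵥ (Pi.single j 1)) = e (Pi.single j 1) :=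
        congrArg _ (funext fun k => by by_cases h : k = j <;> simp [h])
      rw [gl_mulVec_mul, gl_mulVec_mul, gl_mulVec_mul, hs, hcol]
      simp only [e, ← mulVec_smul]
      refine congrArg _ (funext fun k => ?_)
      have hsc : ((Units.map (Matrix.scalar ι : F →+* Matrix ι ι F).toMonoidHom
          (Units.mk0 l₀ (hl0 i₀)) : GL ι F) : Matrix ι ι F) = Matrix.diagonal fun _ => l₀ := by
        simp
      simp [hsc, mulVec_single, hg₁, mul_comm]
  -- the group generated by rational transvections moves such pairs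
  have hlift : ∀ t₀ ∈ Subgroup.closure {t | ∃ v c, t = CfsgLib.ClassicalMax.sTv B v c},
      ∃ t ∈ H, ∀ x, (t : Matrix ι ι F) *ᵥ e x = e ((t₀ : Matrix ι ι F₀) *ᵥ x) := by
    intro t₀ ht₀
    induction ht₀ using Subgroup.closure_induction with
    | mem t ht =>
      obtain ⟨v, c, rfl⟩ := ht
      exact ⟨_, (htv v c).1, (htv v c).2⟩
    | one => exact ⟨1, H.one_mem, fun x => by simp⟩
    | mul a b _ _ iha ihb =>
      obtain ⟨s, hs, hs'⟩ := iha
      obtain ⟨t, ht, ht'⟩ := ihb
      exact ⟨s * t, H.mul_mem hs ht, fun x => by rw [gl_mulVec_mul, ht', hs', gl_mulVec_mul]⟩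
    | inv a _ iha =>
      obtain ⟨s, hs, hs'⟩ := iha
      refine ⟨s⁻¹, H.inv_mem hs, fun x => gl_mulVec_injective s ?_⟩
      simp [hs']
  have hpairs : ∀ a b : ι → F₀, LinearIndependent F₀ ![a, b] → B a b = 0 →
      e a + ω • e b ∈ uSet hf M := by
    intro a b hab hBab
    have hB₁ := hiso a₁ b₁ hS₁.1
    have ha₁0 : a₁ ≠ 0 := LinearIndependent.ne_zero 0 hab₁
    have ha0 : a ≠ 0 := LinearIndependent.ne_zero 0 hab
    obtain ⟨t₀, ht₀, hta⟩ := CfsgLib.ClassicalMax.exists_iso_mulVec hB ha₁0 ha0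
    have ht₀i : t₀ ∈ CfsgLib.ClassicalMax.isoOf B := (Subgroup.closure_le _).2
      (by rintro _ ⟨v, c, rfl⟩; exact CfsgLib.ClassicalMax.sTv_mem_isoOf hB v c) ht₀
    set b' := (t₀ : Matrix ι ι F₀) *ᵥ b₁ with hb'
    have hab' : B a b' = 0 := by rw [← hta, hb', CfsgLib.ClassicalMax.mem_isoOf.1 ht₀i, hB₁]
    have hb'not : b' ∉ Submodule.span F₀ {a} := by
      intro hmem
      obtain ⟨c, hc⟩ := Submodule.mem_span_singleton.1 hmem
      rw [LinearIndependent.pair_iff' ha₁0] at hab₁
      refine hab₁ c (gl_mulVec_injective t₀ ?_)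
      simp only [mulVec_smul, hta, hc, hb']
    have hbnot : b ∉ Submodule.span F₀ {a} := by
      intro hmem
      rw [LinearIndependent.pair_iff' ha0] at hab
      obtain ⟨c, hc⟩ := Submodule.mem_span_singleton.1 hmem
      exact hab c hc
    obtain ⟨y, hy, hy'⟩ := CfsgLib.ClassicalMax.exists_orth_ne_zero hBbil hB.nondegenerate hb'not
    obtain ⟨y₂, hy₂, hy₂'⟩ := CfsgLib.ClassicalMax.exists_orth_ne_zero hBbil hB.nondegenerate hbnot
    obtain ⟨z, hz, hz1, hz2⟩ := CfsgLib.ClassicalMax.exists_both_ne_zero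
      (CfsgLib.ClassicalMax.bilinOf hBbil b') (CfsgLib.ClassicalMax.bilinOf hBbil b)
      (CfsgLib.ClassicalMax.orthSub hBbil (Submodule.span F₀ {a})) ⟨y, hy, hy'⟩ ⟨y₂, hy₂, hy₂'⟩
    have haz : B a z = 0 := hz a (Submodule.mem_span_singleton_self a)
    have hzb : B z b ≠ 0 := CfsgLib.ClassicalMax.isoOf_comm_zero hB hz2
    set s₁ := CfsgLib.ClassicalMax.sTv B (z - b') (B b' z)⁻¹
    set s₂ := CfsgLib.ClassicalMax.sTv B (b - z) (B z b)⁻¹
    obtain ⟨t, ht, hte⟩ := hlift (s₂ * s₁ * t₀)
      (mul_mem (mul_mem (Subgroup.subset_closure ⟨_, _, rfl⟩) (Subgroup.subset_closure ⟨_, _, rfl⟩)) ht₀)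
    have hmem := uSet_mulVec hf (hHM ht) (hMK (hHM ht)).1 hS₁
    rw [mulVec_add, mulVec_smul, hte, hte] at hmem
    have h1 : ((s₂ * s₁ * t₀ : GL ι F₀) : Matrix ι ι F₀) *ᵥ a₁ = a := by
      have e1 : B a (z - b') = 0 := by
        rw [CfsgLib.ClassicalMax.form_sub_right hBbil, haz, hab', sub_zero]
      have e2 : B a (b - z) = 0 := by
        rw [CfsgLib.ClassicalMax.form_sub_right hBbil, haz, hBab, sub_zero]
      rw [gl_mulVec_mul, gl_mulVec_mul, hta, CfsgLib.ClassicalMax.sTv_mulVec_of_orth hB _ e1,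
        CfsgLib.ClassicalMax.sTv_mulVec_of_orth hB _ e2]
    have h2 : ((s₂ * s₁ * t₀ : GL ι F₀) : Matrix ι ι F₀) *ᵥ b₁ = b := by
      rw [gl_mulVec_mul, gl_mulVec_mul, ← hb', CfsgLib.ClassicalMax.sTv_sub_mulVec hB hz1,
        CfsgLib.ClassicalMax.sTv_sub_mulVec hB hzb]
    rwa [h1, h2] at hmem
  refine hgen M fun v c hv hc => ?_
  suffices hvS : v ∈ uSet hf M from hvS.2 c hc
  obtain ⟨a, b, rfl⟩ := hcoord v
  by_cases hab : LinearIndependent F₀ ![a, b]
  · exact hpairs a b hab (hiso a b hv)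
  · obtain ⟨l, r, hlr⟩ := hline a b hab
    rw [hlr]
    exact uSet_smul hf l (hrat r)

end CfsgLib.ClassicalMax.Unit
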