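/-
Stabilisers of tensor products are maximal in the special linear group.

A group above the tensor stabiliser either has only scalar root sets on the tensor lines — then the
stabiliser of a line, and then by descent through its subspaces every element, is a tensor — or it
contains a transvection and hence all of them.
-/
import Cfsg.Agent.Lib.ClassicalMax.KronTools
import Cfsg.Agent.Lib.ClassicalMax.SympTools
import Cfsg.Agent.Lib.ClassicalMax.UnitInSL
set_option autoImplicit false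
set_option linter.unusedSectionVars false

namespace CfsgLib.ClassicalMax.TensorSL

open Matrix Kronecker Module Cfsg.Geo
open CfsgLib.ClassicalMax.Kron

variable {F : Type*} [Field F] [DecidableEq F] {a b : ℕ}

/-- Contraction of the first factor. -/
def lcon (η : Fin a → F) : (Fin a × Fin b → F) →ₗ[F] (Fin b → F) where
  toFun z j := η ⬝ᵥ fun i => z (i, j)
  map_add' z z' := funext fun j => dotProduct_add η (fun i => z (i, j)) (fun i => z' (i, j))
  map_smul' c z := funext fun j => dotProduct_smul c η (fun i => z (i, j))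

lemma lcon_pt (η x : Fin a → F) (w : Fin b → F) : lcon η (pt x w) = (η ⬝ᵥ x) • w := by
  funext j
  simp only [lcon, LinearMap.coe_mk, AddHom.coe_mk, dotProduct, pt, Pi.smul_apply, smul_eq_mul,
    Finset.sum_mul, mul_assoc]

lemma dot_lcon (η : Fin a → F) (χ : Fin b → F) (z : Fin a × Fin b → F) :
    pt η χ ⬝ᵥ z = χ ⬝ᵥ lcon η z := by
  simp only [dotProduct, pt, Fintype.sum_prod_type, lcon, LinearMap.coe_mk, AddHom.coe_mk,
    Finset.mul_sum]
  rw [Finset.sum_comm]
  exact Finset.sum_congr rfl fun j _ => Finset.sum_congr rfl fun i _ => by ring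

lemma pt_vecMul (η : Fin a → F) (χ : Fin b → F) (A : Matrix (Fin a) (Fin a) F)
    (B : Matrix (Fin b) (Fin b) F) : pt η χ ᵥ* (A ⊗ₖ B) = pt (η ᵥ* A) (χ ᵥ* B) := by
  funext s
  simp only [Matrix.vecMul, dotProduct, kroneckerMap_apply, pt, Fintype.sum_prod_type,
    Finset.sum_mul_sum]
  exact Finset.sum_congr rfl fun i _ => Finset.sum_congr rfl fun j _ => by ring

lemma vecMul_tv_inv {k : ℕ} {y μ : Fin k → F} (h : μ ⬝ᵥ y = 0) (φ : Fin k → F) :
    φ ᵥ* (((tvGL y μ)⁻¹ : GL (Fin k) F) : Matrix (Fin k) (Fin k) F) = φ - (φ ⬝ᵥ y) • μ := by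
  rw [← tvGL_neg_right h, coe_tvGL (by rw [neg_dotProduct, h, neg_zero]), vecMul_add, vecMul_one,
    vecMul_vecMulVec, smul_neg, sub_eq_add_neg]

/-- The element is a pure Kronecker product. -/
def InH (g : GL (Fin a × Fin b) F) : Prop := ∃ A B, g = kronGL A B

lemma InH.mul {g h : GL (Fin a × Fin b) F} (hg : InH g) (hh : InH h) : InH (g * h) := by
  obtain ⟨A, B, rfl⟩ := hg
  obtain ⟨A', B', rfl⟩ := hh
  exact ⟨A * A', B * B', kronGL_mul A A' B B'⟩

lemma InH.inv {g : GL (Fin a × Fin b) F} (hg : InH g) : InH g⁻¹ := by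
  obtain ⟨A, B, rfl⟩ := hg
  exact ⟨A⁻¹, B⁻¹, kronGL_inv A B⟩

/-- A group of unimodular maps containing the unimodular Kronecker products. -/
structure Hyp (M : Subgroup (GL (Fin a × Fin b) F)) : Prop where
  two_le : 2 ≤ a
  lt : a < b
  sl : ∀ g ∈ M, Matrix.det (g : Matrix (Fin a × Fin b) (Fin a × Fin b) F) = 1
  mem : ∀ A B, Matrix.det (kronGL A B : Matrix (Fin a × Fin b) (Fin a × Fin b) F) = 1 →
    kronGL A B ∈ M

/-- The member of the root set of a line. -/
def Rt (M : Subgroup (GL (Fin a × Fin b) F)) (v : Fin b → F)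
    (A : (Fin a × Fin b → F) →ₗ[F] (Fin a → F)) : Prop :=
  (∀ x, A (pt x v) = 0) ∧
    ∃ g ∈ M, ∀ z, (g : Matrix (Fin a × Fin b) (Fin a × Fin b) F) *ᵥ z = z + pt (A z) v

/-- Only the tensor root elements lie in `M`. -/
def OnlyScalar (M : Subgroup (GL (Fin a × Fin b) F)) : Prop :=
  ∀ v A, v ≠ 0 → Rt M v A → ∃ φ, φ ⬝ᵥ v = 0 ∧ A = con φ

/-- The axes of the transvections of `M` with a given centre. -/
def ax (M : Subgroup (GL (Fin a × Fin b) F)) (p : Fin a × Fin b → F) :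
    AddSubgroup (Fin a × Fin b → F) where
  carrier := {φ | φ ⬝ᵥ p = 0 ∧ tvGL p φ ∈ M}
  zero_mem' := ⟨zero_dotProduct p, by rw [tvGL_zero_right]; exact M.one_mem⟩
  add_mem' {φ ψ} hφ hψ := ⟨by rw [add_dotProduct, hφ.1, hψ.1, add_zero], by
    rw [tvGL_add_right hφ.1 hψ.1]; exact M.mul_mem hφ.2 hψ.2⟩
  neg_mem' {φ} hφ := ⟨by rw [neg_dotProduct, hφ.1, neg_zero], by
    rw [tvGL_neg_right hφ.1]; exact M.inv_mem hφ.2⟩

variable {M : Subgroup (GL (Fin a × Fin b) F)}

lemma ax_conj {p φ : Fin a × Fin b → F} (h : φ ∈ ax M p) {m : GL (Fin a × Fin b) F} (hm : m ∈ M) :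
    φ ᵥ* ((m⁻¹ : GL (Fin a × Fin b) F) : Matrix (Fin a × Fin b) (Fin a × Fin b) F) ∈
      ax M ((m : Matrix (Fin a × Fin b) (Fin a × Fin b) F) *ᵥ p) := by
  refine ⟨by rw [vecMul_inv_dot, gl_inv_mulVec_mulVec, h.1], ?_⟩
  rw [← conj_tvGL m h.1]
  exact M.mul_mem (M.mul_mem hm h.2) (M.inv_mem hm)

lemma ax_comm {p p' φ φ' : Fin a × Fin b → F} (h : φ ∈ ax M p) (h' : φ' ∈ ax M p')
    (h0 : φ' ⬝ᵥ p = 0) : (φ ⬝ᵥ p') • φ' ∈ ax M p := by
  have h1 := ax_conj h h'.2
  rw [tvGL_mulVec h'.1, h0, zero_smul, add_zero, ← tvGL_neg_right h'.1,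
    coe_tvGL (by rw [neg_dotProduct, h'.1, neg_zero]), vecMul_add, vecMul_one, vecMul_vecMulVec,
    smul_neg] at h1
  simpa using (ax M p).sub_mem h h1

variable (H : Hyp M)
include H

lemma three_le : 3 ≤ b := by have := H.two_le; have := H.lt; omega

lemma kron_one_mem (B : GL (Fin b) F) (hB : Matrix.det (B : Matrix (Fin b) (Fin b) F) = 1) :
    kronGL 1 B ∈ M := H.mem _ _ (by rw [det_kronGL, hB]; simp)

lemma kron_mem_left (A : GL (Fin a) F) (hA : Matrix.det (A : Matrix (Fin a) (Fin a) F) = 1) :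
    kronGL A 1 ∈ M := H.mem _ _ (by rw [det_kronGL, hA]; simp)

lemma root_mem (v φ : Fin b → F) : root v φ ∈ M := kron_one_mem H _ (det_tvGL v φ)

variable [Finite F]

/-- The stabiliser of a tensor line consists of tensors. -/
lemma inH_of_line (hS : OnlyScalar M) {g : GL (Fin a × Fin b) F} (hg : g ∈ M) {v : Fin b → F}
    (hv : v ≠ 0)
    (hline : ∀ x, ∃ y, (g : Matrix (Fin a × Fin b) (Fin a × Fin b) F) *ᵥ pt x v = pt y v) :
    InH g := by
  classical
  obtain ⟨ψ₀, hψ₀⟩ := exists_sum_dot hv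
  let G := Matrix.toLin' (g : Matrix (Fin a × Fin b) (Fin a × Fin b) F)
  let α : (Fin a → F) →ₗ[F] (Fin a → F) := con ψ₀ ∘ₗ G ∘ₗ ptR v
  have hα : ∀ x, (g : Matrix (Fin a × Fin b) (Fin a × Fin b) F) *ᵥ pt x v = pt (α x) v := by
    intro x
    obtain ⟨y, hy⟩ := hline x
    simp [α, G, Matrix.toLin'_apply, hy, con_pt, hψ₀]
  have hαu : IsUnit (LinearMap.toMatrix' α) := Matrix.mulVec_injective_iff_isUnit.1 fun x y hxy => by
    rw [LinearMap.toMatrix'_mulVec, LinearMap.toMatrix'_mulVec] at hxy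
    exact ptR_injective hv (gl_mulVec_injective g (by simp [hα, hxy]))
  set αG : GL (Fin a) F := hαu.unit with hαG
  have hαv : ∀ x, (αG : Matrix (Fin a) (Fin a) F) *ᵥ x = α x := fun x => by
    rw [hαG, IsUnit.unit_spec, LinearMap.toMatrix'_mulVec]
  set g₁ : GL (Fin a × Fin b) F := kronGL αG⁻¹ 1 * g with hg₁
  have hg₁v : ∀ x, (g₁ : Matrix (Fin a × Fin b) (Fin a × Fin b) F) *ᵥ pt x v = pt x v := fun x => by
    rw [hg₁, gl_mulVec_mul, hα, kronGL_pt, ← hαv, gl_inv_mulVec_mulVec, Units.val_one, one_mulVec]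
  have hcon : ∀ (χ : Fin b → F) (z : Fin a × Fin b → F),
      con χ ((kronGL αG⁻¹ (1 : GL (Fin b) F) : Matrix (Fin a × Fin b) (Fin a × Fin b) F) *ᵥ z) =
        ((αG⁻¹ : GL (Fin a) F) : Matrix (Fin a) (Fin a) F) *ᵥ con χ z := fun χ z => by
    have := linear_ext
      (f := con χ ∘ₗ Matrix.toLin' (kronGL αG⁻¹ (1 : GL (Fin b) F) : Matrix (Fin a × Fin b) (Fin a × Fin b) F))
      (g := Matrix.toLin' ((αG⁻¹ : GL (Fin a) F) : Matrix (Fin a) (Fin a) F) ∘ₗ con χ) fun x w => by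
        simp [Matrix.toLin'_apply, kronGL_pt, con_pt, mulVec_smul]
    simpa [Matrix.toLin'_apply] using LinearMap.congr_fun this z
  have hσ : ∀ φ : Fin b → F, φ ⬝ᵥ v = 0 → ∃ φ', ∀ z,
      con φ' ((g₁ : Matrix (Fin a × Fin b) (Fin a × Fin b) F) *ᵥ z) = con φ z := by
    intro φ hφ
    let A := α ∘ₗ con φ ∘ₗ
      Matrix.toLin' ((g⁻¹ : GL (Fin a × Fin b) F) : Matrix (Fin a × Fin b) (Fin a × Fin b) F)
    have hR : Rt M v A := by
      refine ⟨fun x => ?_, g * root v φ * g⁻¹,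
        M.mul_mem (M.mul_mem hg (root_mem H v φ)) (M.inv_mem hg), fun z => ?_⟩
      · have e : ((g⁻¹ : GL (Fin a × Fin b) F) : Matrix (Fin a × Fin b) (Fin a × Fin b) F) *ᵥ pt x v
            = pt (((αG⁻¹ : GL (Fin a) F) : Matrix (Fin a) (Fin a) F) *ᵥ x) v :=
          gl_mulVec_injective g (by simp [hα, ← hαv])
        simp only [A, LinearMap.comp_apply, Matrix.toLin'_apply]
        rw [e, con_pt, hφ, zero_smul, map_zero]
      · rw [gl_mulVec_mul, gl_mulVec_mul, root_mulVec hφ, mulVec_add, gl_mulVec_inv_mulVec, hα]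
        simp [A, Matrix.toLin'_apply]
    obtain ⟨φ', -, hA⟩ := hS v A hv hR
    refine ⟨φ', fun z => ?_⟩
    have := LinearMap.congr_fun hA ((g : Matrix (Fin a × Fin b) (Fin a × Fin b) F) *ᵥ z)
    simp only [A, LinearMap.comp_apply, Matrix.toLin'_apply, gl_inv_mulVec_mulVec] at this
    rw [hg₁, gl_mulVec_mul, hcon, ← this, ← hαv, gl_inv_mulVec_mulVec]
  obtain ⟨x₀, η, hη⟩ : ∃ x₀ η : Fin a → F, η ⬝ᵥ x₀ = 1 := by
    have hx : (Pi.single ⟨0, by have := H.two_le; omega⟩ 1 : Fin a → F) ≠ 0 := fun h =>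
      one_ne_zero (α := F) (by simpa using congrFun h ⟨0, by have := H.two_le; omega⟩)
    exact ⟨_, exists_sum_dot hx⟩
  let B : (Fin b → F) →ₗ[F] (Fin b → F) :=
    lcon η ∘ₗ Matrix.toLin' (g₁ : Matrix (Fin a × Fin b) (Fin a × Fin b) F) ∘ₗ
      { toFun := fun w => pt x₀ w
        map_add' := pt_add_right x₀
        map_smul' := fun t w => pt_smul_right t x₀ w }
  have hBv : B v = v := by simp [B, Matrix.toLin'_apply, hg₁v, lcon_pt, hη]
  have hBd : ∀ φ φ' : Fin b → F,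
      (∀ z, con φ' ((g₁ : Matrix (Fin a × Fin b) (Fin a × Fin b) F) *ᵥ z) = con φ z) →
      ∀ w, φ' ⬝ᵥ B w = φ ⬝ᵥ w := by
    intro φ φ' h w
    simp only [B, LinearMap.comp_apply, Matrix.toLin'_apply, LinearMap.coe_mk, AddHom.coe_mk]
    rw [← dot_lcon, dot_con, h, con_pt, dotProduct_smul, hη, smul_eq_mul, mul_one]
  have hBu : IsUnit (LinearMap.toMatrix' B) := Matrix.mulVec_injective_iff_isUnit.1 fun w w' hw => by
    rw [LinearMap.toMatrix'_mulVec, LinearMap.toMatrix'_mulVec] at hw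
    have hd : B (w - w') = 0 := by rw [map_sub, hw, sub_self]
    have hmem : w - w' ∈ Submodule.span F {v} := by
      by_contra hn
      obtain ⟨φ, h1, h2⟩ := exists_dot_eq hn
      obtain ⟨φ', h'⟩ := hσ φ h1
      have := hBd φ φ' h' (w - w')
      rw [hd, dotProduct_zero, h2] at this
      exact zero_ne_one this
    obtain ⟨t, ht⟩ := Submodule.mem_span_singleton.1 hmem
    rw [← ht, map_smul, hBv, smul_eq_zero, or_iff_left hv] at hd
    rw [hd, zero_smul] at ht
    exact sub_eq_zero.1 ht.symm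
  set BG : GL (Fin b) F := hBu.unit with hBG
  have hBw : ∀ w, (BG : Matrix (Fin b) (Fin b) F) *ᵥ w = B w := fun w => by
    rw [hBG, IsUnit.unit_spec, LinearMap.toMatrix'_mulVec]
  set h := kronGL αG BG with hh
  set u := h⁻¹ * g with hu
  have hg₁u : g₁ = kronGL 1 BG * u := by
    rw [hu, hh, ← mul_assoc, kronGL_inv, kronGL_mul, hg₁, one_mul, mul_inv_cancel]
  have huv : ∀ x, (u : Matrix (Fin a × Fin b) (Fin a × Fin b) F) *ᵥ pt x v = pt x v := by
    intro x
    refine gl_mulVec_injective (kronGL 1 BG) ?_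
    show _ *ᵥ _ = _ *ᵥ _
    rw [← gl_mulVec_mul, ← hg₁u, hg₁v, kronGL_pt, Units.val_one, one_mulVec, hBw, hBv]
  have huc : ∀ φ : Fin b → F, φ ⬝ᵥ v = 0 → ∀ z,
      con φ ((u : Matrix (Fin a × Fin b) (Fin a × Fin b) F) *ᵥ z) = con φ z := by
    intro φ hφ z
    obtain ⟨φ', h'⟩ := hσ φ hφ
    have hc := linear_ext
      (f := con φ' ∘ₗ Matrix.toLin' (kronGL (1 : GL (Fin a) F) BG : Matrix (Fin a × Fin b) (Fin a × Fin b) F))
      (g := con φ) fun x w => by
        simp [Matrix.toLin'_apply, kronGL_pt, con_pt, hBw, hBd φ φ' h']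
    have := LinearMap.congr_fun hc ((u : Matrix (Fin a × Fin b) (Fin a × Fin b) F) *ᵥ z)
    simp only [LinearMap.comp_apply, Matrix.toLin'_apply] at this
    rw [← this, ← gl_mulVec_mul, ← hg₁u, h']
  let A : (Fin a × Fin b → F) →ₗ[F] (Fin a → F) :=
    con ψ₀ ∘ₗ (Matrix.toLin' (u : Matrix (Fin a × Fin b) (Fin a × Fin b) F) - LinearMap.id)
  have hAu : ∀ z, (u : Matrix (Fin a × Fin b) (Fin a × Fin b) F) *ᵥ z = z + pt (A z) v := by
    intro z
    set D := (u : Matrix (Fin a × Fin b) (Fin a × Fin b) F) *ᵥ z - z with hD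
    have hDc : ∀ φ : Fin b → F, φ ⬝ᵥ v = 0 → con φ D = 0 := fun φ hφ => by
      rw [hD, map_sub, huc φ hφ, sub_self]
    have hrow : ∀ i, (fun j => D (i, j)) = (ψ₀ ⬝ᵥ fun j => D (i, j)) • v := by
      intro i
      by_cases hm : (fun j => D (i, j)) ∈ Submodule.span F {v}
      · obtain ⟨t, ht⟩ := Submodule.mem_span_singleton.1 hm
        rw [← ht, dotProduct_smul, hψ₀, smul_eq_mul, mul_one]
      · obtain ⟨φ, h1, h2⟩ := exists_dot_eq hm
        exact absurd ((congrFun (hDc φ h1) i).symm.trans h2) zero_ne_one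
    have hDe : D = pt (con ψ₀ D) v := funext fun s => congrFun (hrow s.1) s.2
    have hAz : A z = con ψ₀ D := by simp [A, hD, Matrix.toLin'_apply]
    rw [hAz, ← hDe, hD, add_sub_cancel]
  have hAv : ∀ x, A (pt x v) = 0 := fun x => by
    simp only [A, LinearMap.comp_apply, LinearMap.sub_apply, Matrix.toLin'_apply, huv,
      LinearMap.id_coe, id_eq, sub_self, map_zero]
  have hdu : Matrix.det (u : Matrix (Fin a × Fin b) (Fin a × Fin b) F) = 1 := by
    rw [show (u : Matrix (Fin a × Fin b) (Fin a × Fin b) F) = 1 + ((u : Matrix _ _ F) - 1) by abel]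
    refine det_one_add_sq_zero (Matrix.ext_of_mulVec_single fun i => ?_)
    rw [← mulVec_mulVec, zero_mulVec, sub_mulVec, sub_mulVec, one_mulVec, one_mulVec, hAu,
      add_sub_cancel_left, hAu, add_sub_cancel_left, hAv, pt_zero_left]
  have hhM : h ∈ M := H.mem _ _ (by
    have e := H.sl g hg
    rw [show g = h * u by rw [hu, mul_inv_cancel_left], Units.val_mul, det_mul, hdu, mul_one] at e
    exact e)
  obtain ⟨φ, hφ, hAφ⟩ := hS v A hv ⟨hAv, u, by rw [hu]; exact M.mul_mem (M.inv_mem hhM) hg, hAu⟩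
  have hur : u = root v φ := gl_ext_mulVec fun z => by rw [hAu, root_mulVec hφ, hAφ]
  rw [show g = h * u by rw [hu, mul_inv_cancel_left], hur]
  exact InH.mul ⟨_, _, hh⟩ ⟨_, _, rfl⟩

/-- A tensor differing from the identity only inside a small subspace has a scalar first factor. -/
lemma exists_scalar {A : GL (Fin a) F} {B : GL (Fin b) F} {Z : Submodule F (Fin a × Fin b → F)}
    (hZ : finrank F Z ≤ a)
    (h : ∀ z, (kronGL A B : Matrix (Fin a × Fin b) (Fin a × Fin b) F) *ᵥ z - z ∈ Z) :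
    ∃ c : F, ∀ x, (A : Matrix (Fin a) (Fin a) F) *ᵥ x = c • x := by
  have heig : ∀ x : Fin a → F, x ≠ 0 → (A : Matrix (Fin a) (Fin a) F) *ᵥ x ∈ Submodule.span F {x} := by
    intro x _
    by_contra hn
    obtain ⟨η, h1, h2⟩ := exists_dot_eq hn
    let f : (Fin b → F) →ₗ[F] Z :=
      { toFun := fun w => ⟨_, h (pt x w)⟩
        map_add' := fun w w' => Subtype.ext (by
          simp [pt_add_right, mulVec_add]; abel)
        map_smul' := fun t w => Subtype.ext (by simp [pt_smul_right, mulVec_smul, smul_sub]) }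
    have hf : Function.Injective f := (injective_iff_map_eq_zero f).2 fun w hw => by
      have h3 : (kronGL A B : Matrix (Fin a × Fin b) (Fin a × Fin b) F) *ᵥ pt x w - pt x w = 0 :=
        congrArg Subtype.val hw
      have := congrArg (lcon η) h3
      rw [kronGL_pt, map_sub, lcon_pt, lcon_pt, h1, h2, zero_smul, one_smul, sub_zero, map_zero] at this
      exact gl_mulVec_injective B (this.trans (mulVec_zero _).symm)
    have := LinearMap.finrank_le_finrank_of_injective hf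
    rw [finrank_fin_fun] at this
    have := H.lt
    omega
  obtain ⟨x₀, hx₀⟩ : ∃ x₀ : Fin a → F, x₀ ≠ 0 := ⟨Pi.single ⟨0, by have := H.two_le; omega⟩ 1,
    fun h => one_ne_zero (α := F) (by simpa using congrFun h ⟨0, by have := H.two_le; omega⟩)⟩
  obtain ⟨c, hc⟩ := Submodule.mem_span_singleton.1 (heig x₀ hx₀)
  refine ⟨c, fun x => ?_⟩
  rcases eq_or_ne x 0 with rfl | hx
  · simp
  by_cases hxs : x ∈ Submodule.span F {x₀}
  · obtain ⟨t, rfl⟩ := Submodule.mem_span_singleton.1 hxs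
    rw [mulVec_smul, ← hc, smul_comm]
  obtain ⟨d, hd⟩ := Submodule.mem_span_singleton.1 (heig x hx)
  have hs : x + x₀ ≠ 0 := fun e => hxs (Submodule.mem_span_singleton.2 ⟨-1, by
    rw [neg_one_smul, eq_neg_of_add_eq_zero_left e]⟩)
  obtain ⟨k, hk⟩ := Submodule.mem_span_singleton.1 (heig _ hs)
  rw [mulVec_add, ← hd, ← hc, smul_add] at hk
  have h1 : (k - d) • x = (c - k) • x₀ := by linear_combination (norm := module) hk
  have hkd : k - d = 0 := by
    by_contra hne
    exact hxs (Submodule.mem_span_singleton.2 ⟨(k - d)⁻¹ * (c - k), by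
      rw [mul_smul, ← h1, inv_smul_smul₀ hne]⟩)
  rw [hkd, zero_smul] at h1
  rw [← hd, ← sub_eq_zero.1 hkd, ← sub_eq_zero.1 ((smul_eq_zero.1 h1.symm).resolve_right hx₀)]

/-- If a conjugate of a root element is a tensor then so is the conjugating element. -/
lemma inH_of_root (hS : OnlyScalar M) {g : GL (Fin a × Fin b) F} (hg : g ∈ M) {v φ : Fin b → F}
    (hv : v ≠ 0) (hφ : φ ⬝ᵥ v = 0) (hφ0 : φ ≠ 0) (h : InH (g⁻¹ * root v φ * g)) : InH g := by
  obtain ⟨A, B, hx⟩ := h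
  let Z : Submodule F (Fin a × Fin b → F) := LinearMap.range (Matrix.toLin'
    ((g⁻¹ : GL (Fin a × Fin b) F) : Matrix (Fin a × Fin b) (Fin a × Fin b) F) ∘ₗ ptR v)
  have hxz : ∀ z, (kronGL A B : Matrix (Fin a × Fin b) (Fin a × Fin b) F) *ᵥ z - z ∈ Z := fun z => by
    refine ⟨con φ ((g : Matrix (Fin a × Fin b) (Fin a × Fin b) F) *ᵥ z), ?_⟩
    rw [← hx, gl_mulVec_mul, gl_mulVec_mul, root_mulVec hφ, mulVec_add, gl_inv_mulVec_mulVec,
      add_sub_cancel_left]
    simp [Matrix.toLin'_apply]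
  have hZ : finrank F Z ≤ a := (LinearMap.finrank_range_le _).trans (by rw [finrank_fin_fun])
  obtain ⟨c, hc⟩ := exists_scalar H hZ hxz
  have hmem : ∀ x w, pt x (c • ((B : Matrix (Fin b) (Fin b) F) *ᵥ w) - w) ∈ Z := fun x w => by
    have := hxz (pt x w)
    rw [kronGL_pt, hc, pt_smul_left] at this
    rwa [pt_sub_right, pt_smul_right]
  obtain ⟨w₀, hw₀⟩ : ∃ w₀, c • ((B : Matrix (Fin b) (Fin b) F) *ᵥ w₀) - w₀ ≠ 0 := by
    by_contra hcon
    push Not at hcon
    have h1 : g⁻¹ * root v φ * g = 1 := by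
      rw [hx]
      refine gl_ext_pt fun x w => ?_
      rw [kronGL_pt, hc, pt_smul_left, ← pt_smul_right, sub_eq_zero.1 (hcon w), Units.val_one,
        one_mulVec]
    have h2 : root (a := a) v φ = 1 := by
      have := congrArg (fun t => g * t * g⁻¹) h1
      simpa [mul_assoc] using this
    obtain ⟨w, hw⟩ : ∃ w, φ ⬝ᵥ w = 1 := by
      obtain ⟨w, hw⟩ := exists_sum_dot hφ0
      exact ⟨w, by rw [dotProduct_comm]; exact hw⟩
    have hx0 : (Pi.single ⟨0, by have := H.two_le; omega⟩ 1 : Fin a → F) ≠ 0 := fun h =>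
      one_ne_zero (α := F) (by simpa using congrFun h ⟨0, by have := H.two_le; omega⟩)
    have h3 := root_mulVec (a := a) hφ (pt (Pi.single ⟨0, by have := H.two_le; omega⟩ 1) w)
    rw [h2, Units.val_one, one_mulVec, con_pt, hw, one_smul, left_eq_add] at h3
    exact pt_ne_zero hx0 hv h3
  set v' := c • ((B : Matrix (Fin b) (Fin b) F) *ᵥ w₀) - w₀
  have hgv : ∀ x, ∃ y, (g : Matrix (Fin a × Fin b) (Fin a × Fin b) F) *ᵥ pt x v' = pt y v := fun x => by
    obtain ⟨y, hy⟩ := hmem x w₀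
    exact ⟨y, by rw [← hy]; simp [Matrix.toLin'_apply]⟩
  have hb : 2 ≤ b := by have := three_le H; omega
  obtain ⟨C, hC, hCv⟩ := exists_sl_map hb hv hw₀
  have hm := kron_one_mem H C hC
  have := inH_of_line H hS (M.mul_mem hg hm) hv fun x => by
    obtain ⟨y, hy⟩ := hgv x
    exact ⟨y, by rw [gl_mulVec_mul, kronGL_pt, Units.val_one, one_mulVec, hCv, hy]⟩
  simpa using InH.mul this (InH.inv ⟨_, _, rfl⟩ : InH (kronGL (1 : GL (Fin a) F) C)⁻¹)

/-- With only scalar root sets, every member is a tensor. -/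
theorem inH_of_mem (hS : OnlyScalar M) : ∀ g ∈ M, InH g := by
  have hb := H.lt
  have ha := H.two_le
  have key : ∀ (k : ℕ) (E : Submodule F (Fin a → F)), finrank F E + k = a →
      ∀ v : Fin b → F, v ≠ 0 → ∀ g ∈ M,
      (∀ x ∈ E, ∃ y ∈ E, (g : Matrix (Fin a × Fin b) (Fin a × Fin b) F) *ᵥ pt x v = pt y v) →
      InH g := by
    intro k
    induction k with
    | zero =>
      intro E hE v hv g hg h
      have hE' : E = ⊤ := Submodule.eq_top_of_finrank_eq (by rw [finrank_fin_fun]; omega)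
      exact inH_of_line H hS hg hv fun x => by
        obtain ⟨y, -, hy⟩ := h x (hE' ▸ Submodule.mem_top)
        exact ⟨y, hy⟩
    | succ k ih =>
      intro E hE v hv g hg hstab
      obtain ⟨e, he⟩ : ∃ e, e ∉ E := by
        by_contra hcon
        push Not at hcon
        rw [Submodule.eq_top_iff'.2 hcon, finrank_top, finrank_fin_fun] at hE
        omega
      have hE' : finrank F (E ⊔ Submodule.span F {e} : Submodule F (Fin a → F)) + k = a := by
        rw [Submodule.finrank_sup_span_singleton he]; omega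
      set q := (g : Matrix (Fin a × Fin b) (Fin a × Fin b) F) *ᵥ pt e v
      let cq : (Fin b → F) →ₗ[F] (Fin a → F) :=
        { toFun := fun φ => con φ q
          map_add' := fun φ ψ => funext fun i => add_dotProduct φ ψ (fun j => q (i, j))
          map_smul' := fun t φ => funext fun i => smul_dotProduct t φ (fun j => q (i, j)) }
      by_cases hE0 : E = ⊥
      · -- the image of a point is fixed by a root element
        obtain ⟨φ, hφq, hφ0⟩ := Submodule.exists_mem_ne_zero_of_ne_bot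
          (LinearMap.ker_ne_bot_of_finrank_lt (f := cq) (by rw [finrank_fin_fun, finrank_fin_fun]; exact hb))
        obtain ⟨vr, hvr, hvr'⟩ := exists_kernel_notMem φ (0 : Fin b → F) (Or.inl (three_le H))
        have hvr0 : vr ≠ 0 := fun h0 => hvr' (by rw [h0]; exact Submodule.zero_mem _)
        refine inH_of_root H hS hg hvr0 hvr hφ0 (ih _ hE' v hv _
          (M.mul_mem (M.mul_mem (M.inv_mem hg) (root_mem H vr φ)) hg) fun x hx => ⟨x, hx, ?_⟩)
        rw [hE0, bot_sup_eq] at hx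
        obtain ⟨t, rfl⟩ := Submodule.mem_span_singleton.1 hx
        have hq0 : con φ q = 0 := hφq
        rw [pt_smul_left, gl_mulVec_mul, gl_mulVec_mul, mulVec_smul, root_mulVec hvr, map_smul,
          show (g : Matrix (Fin a × Fin b) (Fin a × Fin b) F) *ᵥ pt e v = q from rfl, hq0,
          smul_zero, pt_zero_left, add_zero, mulVec_smul, gl_inv_mulVec_mulVec]
      have hpos : 1 ≤ finrank F E := Submodule.one_le_finrank_iff.2 hE0
      let T : (Fin b → F) →ₗ[F] F × ((Fin a → F) ⧸ E) :=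
        LinearMap.prod
          { toFun := fun φ => φ ⬝ᵥ v
            map_add' := fun φ ψ => add_dotProduct φ ψ v
            map_smul' := fun t φ => smul_dotProduct t φ v }
          (E.mkQ ∘ₗ cq)
      obtain ⟨φ, hφT, hφ0⟩ := Submodule.exists_mem_ne_zero_of_ne_bot
        (LinearMap.ker_ne_bot_of_finrank_lt (f := T) (by
          have h1 := E.finrank_quotient_add_finrank
          rw [finrank_fin_fun] at h1
          rw [finrank_prod, finrank_self, finrank_fin_fun]
          omega))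
      rw [LinearMap.mem_ker] at hφT
      have hφv : φ ⬝ᵥ v = 0 := congrArg Prod.fst hφT
      have hφq : con φ q ∈ E := (Submodule.Quotient.mk_eq_zero E).1 (congrArg Prod.snd hφT)
      choose f hf hfe using hstab
      have hsurj : ∀ y ∈ E, ∃ x ∈ E,
          (g : Matrix (Fin a × Fin b) (Fin a × Fin b) F) *ᵥ pt x v = pt y v := by
        let φE : E → E := fun x => ⟨f x x.2, hf x x.2⟩
        have hinj : Function.Injective φE := fun x y hxy => Subtype.ext <| ptR_injective hv <|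
          gl_mulVec_injective g (by
            simp only [ptR_apply, hfe x x.2, hfe y y.2]
            rw [show f x x.2 = f y y.2 from congrArg Subtype.val hxy])
        intro y hy
        obtain ⟨x, hx⟩ := Finite.injective_iff_surjective.1 hinj ⟨y, hy⟩
        refine ⟨x, x.2, ?_⟩
        rw [hfe x x.2, show f x x.2 = y from congrArg Subtype.val hx]
      refine inH_of_root H hS hg hv hφv hφ0 (ih _ hE' v hv _
        (M.mul_mem (M.mul_mem (M.inv_mem hg) (root_mem H v φ)) hg) fun x hx => ?_)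
      obtain ⟨x₁, hx₁, x₂, hx₂, rfl⟩ := Submodule.mem_sup.1 hx
      obtain ⟨t, rfl⟩ := Submodule.mem_span_singleton.1 hx₂
      obtain ⟨c', hc', hc'e⟩ := hsurj (t • con φ q) (E.smul_mem t hφq)
      refine ⟨x₁ + t • e + c', Submodule.add_mem _ hx (Submodule.mem_sup_left hc'), ?_⟩
      rw [gl_mulVec_mul, gl_mulVec_mul, root_mulVec hφv]
      have e1 : con φ ((g : Matrix (Fin a × Fin b) (Fin a × Fin b) F) *ᵥ pt (x₁ + t • e) v)
          = t • con φ q := by
        rw [pt_add_left, mulVec_add, hfe x₁ hx₁, pt_smul_left, mulVec_smul, map_add, con_pt, hφv,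
          zero_smul, zero_add, map_smul]
      rw [e1, ← hc'e, mulVec_add, gl_inv_mulVec_mulVec, gl_inv_mulVec_mulVec, ← pt_add_left]
  intro g hg
  obtain ⟨v, hv⟩ : ∃ v : Fin b → F, v ≠ 0 := ⟨Pi.single ⟨0, by omega⟩ 1,
    fun h => one_ne_zero (α := F) (by simpa using congrFun h ⟨0, by omega⟩)⟩
  exact key a ⊥ (by rw [finrank_bot, zero_add]) v hv g hg fun x hx => ⟨0, Submodule.zero_mem _, by
    rw [(Submodule.mem_bot F).1 hx, pt_zero_left, mulVec_zero]⟩

omit [Finite F] in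
/-- A non-scalar root set yields transvections. -/
lemma exists_axes (hns : ¬ OnlyScalar M) (hex : 3 ≤ a ∨ ∃ t : F, t ≠ 0 ∧ t ≠ 1) :
    ∃ (x η : Fin a → F) (v χ : Fin b → F), x ≠ 0 ∧ η ≠ 0 ∧ v ≠ 0 ∧ χ ≠ 0 ∧ η ⬝ᵥ x = 0 ∧
      χ ⬝ᵥ v = 0 ∧ ∀ c : F, c • pt η χ ∈ ax M (pt x v) := by
  simp only [OnlyScalar, not_forall] at hns
  obtain ⟨v, A, hv, ⟨hAv, g, hg, hgA⟩, hne⟩ := hns
  have hx1 : (Pi.single ⟨0, by have := H.two_le; omega⟩ 1 : Fin a → F) ≠ 0 := fun h =>
    one_ne_zero (α := F) (by simpa using congrFun h ⟨0, by have := H.two_le; omega⟩)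
  obtain ⟨w₀, hw₀⟩ : ∃ w₀, ¬ ∃ c : F, ∀ x, A (pt x w₀) = c • x := by
    by_contra hcon
    push Not at hcon
    choose φ hφ using fun j => hcon (Pi.single j 1)
    have hA : ∀ x w, A (pt x w) = (φ ⬝ᵥ w) • x := by
      intro x w
      conv_lhs => rw [pi_eq_sum_univ' w]
      rw [show pt x (∑ i, w i • Pi.single i (1 : F)) = ∑ i, w i • pt x (Pi.single i 1) from
        (map_sum ({ toFun := fun w => pt x w
                    map_add' := pt_add_right x
                    map_smul' := fun t w => pt_smul_right t x w } :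
          (Fin b → F) →ₗ[F] (Fin a × Fin b → F)) _ _).trans (Finset.sum_congr rfl fun i _ =>
            pt_smul_right _ _ _), map_sum, dotProduct, Finset.sum_smul]
      exact Finset.sum_congr rfl fun i _ => by rw [map_smul, hφ, smul_smul, mul_comm]
    refine hne ⟨φ, ?_, linear_ext fun x w => by rw [hA, con_pt]⟩
    have h := hAv (Pi.single ⟨0, by have := H.two_le; omega⟩ 1)
    rw [hA] at h
    exact (smul_eq_zero.1 h).resolve_right hx1
  let T₀ : (Fin a → F) →ₗ[F] (Fin a → F) := A ∘ₗ ptR w₀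
  have hw₀v : w₀ ∉ Submodule.span F {v} := fun hm => hw₀ ⟨0, fun x => by
    obtain ⟨t, rfl⟩ := Submodule.mem_span_singleton.1 hm
    rw [pt_smul_right, map_smul, hAv, smul_zero, zero_smul]⟩
  obtain ⟨χ, hχv, hχw, hχ0⟩ : ∃ χ : Fin b → F, χ ⬝ᵥ v = 0 ∧ χ ⬝ᵥ w₀ = 0 ∧ χ ≠ 0 := by
    let f : (Fin b → F) →ₗ[F] F × F :=
      { toFun := fun χ => (χ ⬝ᵥ v, χ ⬝ᵥ w₀)
        map_add' := fun φ ψ => Prod.ext (add_dotProduct φ ψ v) (add_dotProduct φ ψ w₀)
        map_smul' := fun t φ => Prod.ext (smul_dotProduct t φ v) (smul_dotProduct t φ w₀) }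
    obtain ⟨χ, hχ, hχ0⟩ := Submodule.exists_mem_ne_zero_of_ne_bot
      (LinearMap.ker_ne_bot_of_finrank_lt (f := f) (by
        rw [finrank_prod, finrank_self, finrank_fin_fun]; have := three_le H; omega))
    exact ⟨χ, congrArg Prod.fst hχ, congrArg Prod.snd hχ, hχ0⟩
  -- the linear maps occurring with the functional `χ`
  let S : AddSubgroup ((Fin a → F) →ₗ[F] (Fin a → F)) :=
    { carrier := {T | ∃ g ∈ M, ∀ z,
        (g : Matrix (Fin a × Fin b) (Fin a × Fin b) F) *ᵥ z = z + pt (T (con χ z)) v}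
      zero_mem' := ⟨1, M.one_mem, fun z => by simp [pt_zero_left]⟩
      add_mem' := by
        rintro T T' ⟨g, hg, hgx⟩ ⟨g', hg', hgx'⟩
        refine ⟨g * g', M.mul_mem hg hg', fun z => ?_⟩
        rw [gl_mulVec_mul, hgx, hgx', map_add, con_pt, hχv, zero_smul, add_zero, LinearMap.add_apply,
          pt_add_left]
        abel
      neg_mem' := by
        rintro T ⟨g, hg, hgx⟩
        refine ⟨g⁻¹, M.inv_mem hg, fun z => gl_mulVec_injective g ?_⟩
        show _ *ᵥ _ = _ *ᵥ _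
        rw [gl_mulVec_inv_mulVec, hgx, map_add, con_pt, hχv, zero_smul, add_zero,
          LinearMap.neg_apply, ← neg_one_smul F (T (con χ z)), pt_smul_left]
        module }
  have hT₀ : ∀ t : F, t • T₀ ∈ S := by
    intro t
    have hβ : t • χ ⬝ᵥ w₀ = 0 := by rw [smul_dotProduct, hχw, smul_zero]
    have hm : kronGL 1 (tvGL w₀ (t • χ)) ∈ M := kron_one_mem H _ (det_tvGL _ _)
    set m := kronGL (1 : GL (Fin a) F) (tvGL w₀ (t • χ))
    refine ⟨g⁻¹ * (m⁻¹ * g * m), M.mul_mem (M.inv_mem hg)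
      (M.mul_mem (M.mul_mem (M.inv_mem hm) hg) hm), fun z => gl_mulVec_injective g ?_⟩
    show _ *ᵥ _ = _ *ᵥ _
    have hmv : ∀ x, ((m⁻¹ : GL (Fin a × Fin b) F) : Matrix (Fin a × Fin b) (Fin a × Fin b) F) *ᵥ pt x v
        = pt x v := fun x => gl_mulVec_injective m (by
      show _ *ᵥ _ = _ *ᵥ _
      rw [gl_mulVec_inv_mulVec, kronGL_pt, Units.val_one, one_mulVec, tvGL_mulVec hβ,
        smul_dotProduct, hχv, smul_zero, zero_smul, add_zero])
    have hAm := linear_ext
      (f := A ∘ₗ Matrix.toLin' (m : Matrix (Fin a × Fin b) (Fin a × Fin b) F))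
      (g := A + t • (T₀ ∘ₗ con χ)) fun x w => by
        simp only [m, LinearMap.comp_apply, Matrix.toLin'_apply, kronGL_pt, Units.val_one, one_mulVec,
          tvGL_mulVec hβ, LinearMap.add_apply, LinearMap.smul_apply, smul_dotProduct, smul_eq_mul,
          pt_add_right, pt_smul_right, map_add, map_smul, con_pt, T₀, ptR_apply, smul_smul]
    have hAmz := LinearMap.congr_fun hAm z
    simp only [LinearMap.comp_apply, Matrix.toLin'_apply, LinearMap.add_apply,
      LinearMap.smul_apply] at hAmz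
    rw [gl_mulVec_mul, gl_mulVec_inv_mulVec, gl_mulVec_mul, gl_mulVec_mul, hgA, mulVec_add,
      gl_inv_mulVec_mulVec, hmv, hAmz, hgA, map_add, LinearMap.smul_apply, hAv, add_zero,
      pt_add_left, pt_smul_left]
    module
  obtain ⟨u, hu⟩ : ∃ u, T₀ u ∉ Submodule.span F {u} := by
    by_contra hcon
    push Not at hcon
    obtain ⟨c, hc⟩ := Submodule.mem_span_singleton.1 (hcon (Pi.single ⟨0, by have := H.two_le; omega⟩ 1))
    refine hw₀ ⟨c, fun x => ?_⟩
    set x₀ : Fin a → F := Pi.single ⟨0, by have := H.two_le; omega⟩ 1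
    show T₀ x = c • x
    rcases eq_or_ne x 0 with rfl | hx
    · simp
    by_cases hxs : x ∈ Submodule.span F {x₀}
    · obtain ⟨t, rfl⟩ := Submodule.mem_span_singleton.1 hxs
      rw [map_smul, ← hc, smul_comm]
    obtain ⟨d, hd⟩ := Submodule.mem_span_singleton.1 (hcon x)
    obtain ⟨k, hk⟩ := Submodule.mem_span_singleton.1 (hcon (x + x₀))
    rw [map_add, ← hd, ← hc, smul_add] at hk
    have h1 : (k - d) • x = (c - k) • x₀ := by linear_combination (norm := module) hk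
    have hkd : k - d = 0 := by
      by_contra hne
      exact hxs (Submodule.mem_span_singleton.2 ⟨(k - d)⁻¹ * (c - k), by
        rw [mul_smul, ← h1, inv_smul_smul₀ hne]⟩)
    rw [hkd, zero_smul] at h1
    rw [← hd, ← sub_eq_zero.1 hkd, ← sub_eq_zero.1 ((smul_eq_zero.1 h1.symm).resolve_right hx1)]
  have hu0 : u ≠ 0 := fun e => hu (by rw [e, map_zero]; exact Submodule.zero_mem _)
  obtain ⟨η, hηu, hηT⟩ := exists_dot_eq hu
  -- the differences under a transvection at `u`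
  let E : (Fin a → F) → ((Fin a → F) →ₗ[F] (Fin a → F)) := fun ξ =>
    { toFun := fun x => (ξ ⬝ᵥ x) • u
      map_add' := fun x y => by rw [dotProduct_add, add_smul]
      map_smul' := fun r x => by rw [dotProduct_smul, smul_eq_mul, mul_smul]; rfl }
  let D : (Fin a → F) → F → ((Fin a → F) →ₗ[F] (Fin a → F)) := fun ξ t =>
    t • (E ξ ∘ₗ T₀ - T₀ ∘ₗ E ξ - E ξ ∘ₗ T₀ ∘ₗ E ξ)
  have hD : ∀ ξ t, ξ ⬝ᵥ u = 0 → D ξ t ∈ S := by
    intro ξ t hξ
    obtain ⟨k, hk, hkx⟩ := hT₀ t
    have hm : kronGL (tvGL u ξ) 1 ∈ M := kron_mem_left H _ (det_tvGL _ _)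
    set m := kronGL (tvGL u ξ) (1 : GL (Fin b) F)
    have hmem : m * k * m⁻¹ ∈ M := M.mul_mem (M.mul_mem hm hk) (M.inv_mem hm)
    have h1 : ∃ g ∈ M, ∀ z, (g : Matrix (Fin a × Fin b) (Fin a × Fin b) F) *ᵥ z = z + pt
        ((D ξ t + t • T₀) (con χ z)) v := by
      refine ⟨_, hmem, fun z => ?_⟩
      have hci := linear_ext (f := con χ ∘ₗ Matrix.toLin'
          ((m⁻¹ : GL (Fin a × Fin b) F) : Matrix (Fin a × Fin b) (Fin a × Fin b) F))
        (g := (LinearMap.id - E ξ) ∘ₗ con χ) fun x w => by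
          simp [m, kronGL_inv, Matrix.toLin'_apply, kronGL_pt, con_pt, ← tvGL_neg_right hξ,
            tvGL_mulVec (show (-ξ) ⬝ᵥ u = 0 by rw [neg_dotProduct, hξ, neg_zero]), E, smul_sub,
            smul_smul, mul_comm, sub_eq_add_neg]
      have hciz := LinearMap.congr_fun hci z
      simp only [LinearMap.comp_apply, Matrix.toLin'_apply] at hciz
      rw [gl_mulVec_mul, gl_mulVec_mul, hkx, mulVec_add, gl_mulVec_inv_mulVec, hciz, kronGL_pt,
        Units.val_one, one_mulVec]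
      congr 2
      rw [tvGL_mulVec hξ]
      simp only [D, E, LinearMap.add_apply, LinearMap.smul_apply, LinearMap.sub_apply,
        LinearMap.comp_apply, LinearMap.coe_mk, AddHom.coe_mk, LinearMap.id_coe, id_eq, map_sub,
        dotProduct_sub, dotProduct_smul, smul_eq_mul, map_smul]
      module
    have h2 : D ξ t + t • T₀ ∈ S := h1
    simpa using S.sub_mem h2 (hT₀ t)
  obtain ⟨η₁, hη₁, hη₁0, hfin⟩ : ∃ η₁, η₁ ⬝ᵥ u = 0 ∧ η₁ ≠ 0 ∧ ∀ c : F, c • E η₁ ∈ S := by
    have hη0 : η ≠ 0 := fun e => by rw [e, zero_dotProduct] at hηT; exact zero_ne_one hηT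
    by_cases ha3 : 3 ≤ a
    · let f : (Fin a → F) →ₗ[F] F × F :=
        { toFun := fun χ => (χ ⬝ᵥ u, χ ⬝ᵥ T₀ u)
          map_add' := fun φ ψ => Prod.ext (add_dotProduct φ ψ u) (add_dotProduct φ ψ (T₀ u))
          map_smul' := fun t φ => Prod.ext (smul_dotProduct t φ u) (smul_dotProduct t φ (T₀ u)) }
      obtain ⟨η₂, hη₂, hη₂0⟩ := Submodule.exists_mem_ne_zero_of_ne_bot
        (LinearMap.ker_ne_bot_of_finrank_lt (f := f) (by
          rw [finrank_prod, finrank_self, finrank_fin_fun]; omega))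
      have h2u : η₂ ⬝ᵥ u = 0 := congrArg Prod.fst hη₂
      have h2T : η₂ ⬝ᵥ T₀ u = 0 := congrArg Prod.snd hη₂
      refine ⟨η₂, h2u, hη₂0, fun c => ?_⟩
      have hs := S.sub_mem (S.sub_mem (hD (η + η₂) (-c) (by rw [add_dotProduct, hηu, h2u, add_zero]))
        (hD η (-c) hηu)) (hD η₂ (-c) h2u)
      convert hs using 1
      refine LinearMap.ext fun x => ?_
      simp only [D, E, LinearMap.smul_apply, LinearMap.sub_apply, LinearMap.comp_apply,
        LinearMap.coe_mk, AddHom.coe_mk, map_smul, dotProduct_smul, smul_eq_mul, add_dotProduct,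
        hηT, h2T]
      module
    · obtain ⟨l, hl0, hl1⟩ := hex.resolve_left ha3
      refine ⟨η, hηu, hη0, fun c => ?_⟩
      have hl : l - l * l ≠ 0 := fun e => by
        rw [sub_eq_zero, left_eq_mul₀ hl0] at e; exact hl1 e
      set d := c / (l - l * l)
      have hd : d * (l - l * l) = c := div_mul_cancel₀ c hl
      have hs := S.sub_mem (hD (l • η) d (by rw [smul_dotProduct, hηu, smul_zero])) (hD η (d * l) hηu)
      convert hs using 1
      refine LinearMap.ext fun x => ?_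
      simp only [D, E, LinearMap.smul_apply, LinearMap.sub_apply, LinearMap.comp_apply,
        LinearMap.coe_mk, AddHom.coe_mk, map_smul, dotProduct_smul, smul_eq_mul, smul_dotProduct,
        hηT]
      linear_combination (norm := module) (-(hd)) • ((η ⬝ᵥ x) • u)
  refine ⟨u, η₁, v, χ, hu0, hη₁0, hv, hχ0, hη₁, hχv, fun c => ?_⟩
  have hd : (c • pt η₁ χ) ⬝ᵥ pt u v = 0 := by rw [smul_dotProduct, dot_pt, hη₁, zero_mul, smul_zero]
  obtain ⟨k, hk, hkx⟩ := hfin c
  refine ⟨hd, ?_⟩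
  rw [show tvGL (pt u v) (c • pt η₁ χ) = k from gl_ext_mulVec fun z => by
    rw [tvGL_mulVec hd, hkx, smul_dotProduct, dot_con, LinearMap.smul_apply, pt_smul_left,
      smul_eq_mul, mul_smul]
    simp [E, pt_smul_left]]
  exact hk

/-- From the axes at one centre to the special linear group. -/
lemma sl_le {x₀ η₀ : Fin a → F} {v₀ χ₀ : Fin b → F} (hx₀ : x₀ ≠ 0) (hη₀0 : η₀ ≠ 0) (hv₀ : v₀ ≠ 0)
    (hχ₀0 : χ₀ ≠ 0) (hη₀ : η₀ ⬝ᵥ x₀ = 0) (hχ₀ : χ₀ ⬝ᵥ v₀ = 0)
    (hax : ∀ c : F, c • pt η₀ χ₀ ∈ ax M (pt x₀ v₀)) :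
    specialLinear (Fin a × Fin b) F ≤ M := by
  haveI := Fintype.ofFinite F
  have ha := H.two_le
  have hb := three_le H
  -- every pair of functionals vanishing at the factors
  have h1 : ∀ μ, μ ⬝ᵥ x₀ = 0 → ∀ c : F, c • pt μ χ₀ ∈ ax M (pt x₀ v₀) := by
    intro μ hμ c
    by_cases hs : μ ∈ Submodule.span F {η₀}
    · obtain ⟨d, rfl⟩ := Submodule.mem_span_singleton.1 hs
      rw [pt_smul_left, smul_smul]; exact hax _
    have hs' : η₀ ∉ Submodule.span F {μ} := fun e => by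
      obtain ⟨d, hd⟩ := Submodule.mem_span_singleton.1 e
      have hd0 : d ≠ 0 := fun e0 => hη₀0 (by rw [← hd, e0, zero_smul])
      exact hs (Submodule.mem_span_singleton.2 ⟨d⁻¹, by rw [← hd, inv_smul_smul₀ hd0]⟩)
    obtain ⟨y, hy, hy'⟩ := exists_dot_eq hs'
    have hμy : μ ⬝ᵥ y = 0 := by rw [dotProduct_comm]; exact hy
    have hm : kronGL (tvGL y μ) 1 ∈ M := kron_mem_left H _ (det_tvGL _ _)
    have h := ax_conj (hax c) hm
    rw [kronGL_pt, tvGL_mulVec hμy, hμ, zero_smul, add_zero, Units.val_one, one_mulVec, kronGL_inv,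
      inv_one, smul_vecMul] at h
    rw [show pt η₀ χ₀ ᵥ* ((kronGL (tvGL y μ)⁻¹ (1 : GL (Fin b) F) : GL (Fin a × Fin b) F) :
        Matrix (Fin a × Fin b) (Fin a × Fin b) F) = pt η₀ χ₀ - pt μ χ₀ by
      show pt η₀ χ₀ ᵥ* (_ ⊗ₖ _) = _
      rw [pt_vecMul, vecMul_tv_inv hμy, dotProduct_comm η₀ y, hy', one_smul, Units.val_one,
        vecMul_one, sub_eq_add_neg, pt_add_left, ← neg_one_smul F μ, pt_smul_left, neg_one_smul,
        sub_eq_add_neg]] at h
    have := (ax M (pt x₀ v₀)).sub_mem (hax c) h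
    rwa [smul_sub, sub_sub_cancel] at this
  have h2 : ∀ μ ν, μ ⬝ᵥ x₀ = 0 → ν ⬝ᵥ v₀ = 0 → pt μ ν ∈ ax M (pt x₀ v₀) := by
    intro μ ν hμ hν
    by_cases hs : ν ∈ Submodule.span F {χ₀}
    · obtain ⟨d, rfl⟩ := Submodule.mem_span_singleton.1 hs
      rw [pt_smul_right]; exact h1 μ hμ d
    have hs' : χ₀ ∉ Submodule.span F {ν} := fun e => by
      obtain ⟨d, hd⟩ := Submodule.mem_span_singleton.1 e
      have hd0 : d ≠ 0 := fun e0 => hχ₀0 (by rw [← hd, e0, zero_smul])
      exact hs (Submodule.mem_span_singleton.2 ⟨d⁻¹, by rw [← hd, inv_smul_smul₀ hd0]⟩)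
    obtain ⟨y, hy, hy'⟩ := exists_dot_eq hs'
    have hνy : ν ⬝ᵥ y = 0 := by rw [dotProduct_comm]; exact hy
    have hm : kronGL 1 (tvGL y ν) ∈ M := kron_one_mem H _ (det_tvGL _ _)
    have hax1 := h1 μ hμ 1
    rw [one_smul] at hax1
    have h := ax_conj hax1 hm
    rw [kronGL_pt, tvGL_mulVec hνy, hν, zero_smul, add_zero, Units.val_one, one_mulVec, kronGL_inv,
      inv_one] at h
    rw [show pt μ χ₀ ᵥ* ((kronGL (1 : GL (Fin a) F) (tvGL y ν)⁻¹ : GL (Fin a × Fin b) F) :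
        Matrix (Fin a × Fin b) (Fin a × Fin b) F) = pt μ χ₀ - pt μ ν by
      show pt μ χ₀ ᵥ* (_ ⊗ₖ _) = _
      rw [pt_vecMul, vecMul_tv_inv hνy, dotProduct_comm χ₀ y, hy', one_smul, Units.val_one,
        vecMul_one, sub_eq_add_neg, pt_add_right, ← neg_one_smul F ν, pt_smul_right, neg_one_smul,
        sub_eq_add_neg]] at h
    have := (ax M (pt x₀ v₀)).sub_mem hax1 h
    rwa [sub_sub_cancel] at this
  have h3 : ∀ x v, x ≠ 0 → v ≠ 0 → ∀ μ ν, μ ⬝ᵥ x = 0 → ν ⬝ᵥ v = 0 → pt μ ν ∈ ax M (pt x v) := by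
    intro x v hx hv μ ν hμ hν
    obtain ⟨A, hA, hAx⟩ := exists_sl_map ha hx₀ hx
    obtain ⟨B, hB, hBv⟩ := exists_sl_map (by omega) hv₀ hv
    have hm : kronGL A B ∈ M := H.mem _ _ (by rw [det_kronGL, hA, hB]; simp)
    have h := ax_conj (h2 (μ ᵥ* (A : Matrix (Fin a) (Fin a) F)) (ν ᵥ* (B : Matrix (Fin b) (Fin b) F))
      (by rw [← dotProduct_mulVec, hAx, hμ]) (by rw [← dotProduct_mulVec, hBv, hν])) hm
    rw [kronGL_pt, hAx, hBv, kronGL_inv] at h
    rw [show pt (μ ᵥ* (A : Matrix (Fin a) (Fin a) F)) (ν ᵥ* (B : Matrix (Fin b) (Fin b) F)) ᵥ*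
        ((kronGL A⁻¹ B⁻¹ : GL (Fin a × Fin b) F) : Matrix (Fin a × Fin b) (Fin a × Fin b) F) = pt μ ν by
      show _ ᵥ* (_ ⊗ₖ _) = _
      rw [pt_vecMul, vecMul_vecMul, vecMul_vecMul, ← Units.val_mul, ← Units.val_mul, mul_inv_cancel,
        mul_inv_cancel, Units.val_one, Units.val_one, vecMul_one, vecMul_one]] at h
    exact h
  have h4 : ∀ x v, x ≠ 0 → v ≠ 0 → ∀ μ ν, ν ⬝ᵥ v = 0 → pt μ ν ∈ ax M (pt x v) := by
    intro x v hx hv μ ν hν
    by_cases hμ : μ ⬝ᵥ x = 0
    · exact h3 x v hx hv μ ν hμ hν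
    obtain ⟨x', hμx', hx'⟩ := exists_kernel_notMem μ x (Or.inr ⟨ha, hμ⟩)
    obtain ⟨v', hνv', hv'⟩ := exists_kernel_notMem ν v (Or.inl hb)
    obtain ⟨η₂, e1, e2⟩ := exists_dot_eq hx'
    obtain ⟨χ₂, e3, e4⟩ := exists_dot_eq hv'
    have := ax_comm (h3 x v hx hv η₂ χ₂ e1 e3)
      (h3 x' v' (fun e => hx' (e ▸ Submodule.zero_mem _)) (fun e => hv' (e ▸ Submodule.zero_mem _))
        μ ν hμx' hνv') (by rw [dot_pt, hν, mul_zero])
    rwa [dot_pt, e2, e4, one_mul, one_smul] at this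
  have h5 : ∀ x v, x ≠ 0 → v ≠ 0 → ∀ μ ν, μ ⬝ᵥ x = 0 → pt μ ν ∈ ax M (pt x v) := by
    intro x v hx hv μ ν hμ
    obtain ⟨v', hνv', hv'⟩ := exists_kernel_notMem ν v (Or.inl hb)
    obtain ⟨x', hx'⟩ : ∃ x', x' ∉ Submodule.span F {x} := by
      by_contra hcon
      push Not at hcon
      have h4 : finrank F (Submodule.span F ({x} : Set (Fin a → F))) ≤ 1 :=
        (finrank_span_le_card _).trans (by simp)
      rw [Submodule.eq_top_iff'.2 hcon, finrank_top, finrank_fin_fun] at h4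
      omega
    obtain ⟨η₂, e1, e2⟩ := exists_dot_eq hx'
    obtain ⟨χ₂, e3, e4⟩ := exists_dot_eq hv'
    have := ax_comm (h3 x v hx hv η₂ χ₂ e1 e3)
      (h4 x' v' (fun e => hx' (e ▸ Submodule.zero_mem _)) (fun e => hv' (e ▸ Submodule.zero_mem _))
        μ ν hνv') (by rw [dot_pt, hμ, zero_mul])
    rwa [dot_pt, e2, e4, one_mul, one_smul] at this
  have hcentre : ∀ x v, pt x v ∈ Unit.centres M := by
    intro x v φ hφ
    rcases eq_or_ne x 0 with rfl | hx
    · rw [pt_zero_left, tvGL_zero_left]; exact M.one_mem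
    rcases eq_or_ne v 0 with rfl | hv
    · rw [pt_zero_right, tvGL_zero_left]; exact M.one_mem
    obtain ⟨χ₁, hχ₁⟩ := exists_sum_dot hv
    set w : Fin a → F := fun i => (fun j => φ (i, j)) ⬝ᵥ v with hw
    have hdec : φ = pt w χ₁ + ∑ i, pt (Pi.single i 1) ((fun j => φ (i, j)) - w i • χ₁) := by
      funext s
      simp [Finset.sum_apply, pt, Pi.single_apply, mul_sub]
    have hν : ∀ i, ((fun j => φ (i, j)) - w i • χ₁) ⬝ᵥ v = 0 := fun i => by
      rw [sub_dotProduct, smul_dotProduct, hχ₁, smul_eq_mul, mul_one, sub_eq_zero]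
    have hwx : w ⬝ᵥ x = 0 := by
      have h := hφ
      rw [hdec, add_dotProduct, sum_dotProduct] at h
      simpa [dot_pt, hν, hχ₁] using h
    have hmem : φ ∈ ax M (pt x v) := by
      rw [hdec]
      exact (ax M _).add_mem (h5 x v hx hv w χ₁ hwx)
        ((ax M _).sum_mem fun i _ => h4 x v hx hv _ _ (hν i))
    exact hmem.2
  refine sl_le_of_tvGL fun u φ hφ => ?_
  have hu : u ∈ Unit.centres M := by
    rw [pt_sum_left u]
    exact Submodule.sum_mem _ fun i _ => hcentre _ _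
  exact hu φ hφ

/-- A group above the tensor stabiliser with a further member contains the special linear group. -/
theorem sl_le_of_notInH (hex : 3 ≤ a ∨ ∃ t : F, t ≠ 0 ∧ t ≠ 1) {g : GL (Fin a × Fin b) F}
    (hg : g ∈ M) (hgH : ¬ InH g) : specialLinear (Fin a × Fin b) F ≤ M := by
  have hns : ¬ OnlyScalar M := fun hS => hgH (inH_of_mem H hS g hg)
  obtain ⟨x, η, v, χ, hx, hη, hv, hχ, h1, h2, h3⟩ := exists_axes H hns hex
  exact sl_le H hx hη hv hχ h1 h2 h3

omit H in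
lemma inH_iff {ι : Type} [Fintype ι] [DecidableEq ι] (e : ι ≃ Fin a × Fin b) (P : GL ι F)
    {g : GL (Fin a × Fin b) F} :
    ((glReindex e.symm).trans (MulAut.conj P)) g ∈ tensorProductSubgroup a b e P ↔ InH g := by
  constructor
  · rintro ⟨_, ⟨k, ⟨A, B, hk⟩, rfl⟩, hy⟩
    refine ⟨A, B, ?_⟩
    have hkg : k = g := ((glReindex e.symm).trans (MulAut.conj P)).injective hy
    exact hkg ▸ Units.ext hk
  · rintro ⟨A, B, rfl⟩
    exact ⟨_, ⟨_, ⟨A, B, rfl⟩, rfl⟩, rfl⟩

omit H in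
/-- Stabilisers of tensor products are maximal in the special linear group. -/
theorem tensor_maximal {ι : Type} [Fintype ι] [DecidableEq ι] (e : ι ≃ Fin a × Fin b) (P : GL ι F)
    (ha : 2 ≤ a) (hab : a < b) (hex : 3 ≤ a ∨ ∃ t : F, t ≠ 0 ∧ t ≠ 1) :
    IsMaximalIn (specialLinear ι F) (tensorProductSubgroup a b e P ⊓ specialLinear ι F) := by
  classical
  set Φ : GL (Fin a × Fin b) F ≃* GL ι F := (glReindex e.symm).trans (MulAut.conj P) with hΦ
  have hdet : ∀ g : GL (Fin a × Fin b) F, Φ g ∈ specialLinear ι F ↔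
      Matrix.det (g : Matrix (Fin a × Fin b) (Fin a × Fin b) F) = 1 := by
    intro g
    rw [specialLinear, MonoidHom.mem_ker, Units.ext_iff, GeneralLinearGroup.val_det_apply,
      Units.val_one]
    have : Matrix.det (Φ g : Matrix ι ι F) = Matrix.det (g : Matrix (Fin a × Fin b) (Fin a × Fin b) F) := by
      rw [hΦ, MulEquiv.trans_apply, MulAut.conj_apply, Units.val_mul, Units.val_mul,
        Matrix.det_units_conj]
      show Matrix.det (Matrix.reindex e.symm e.symm _) = _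
      rw [Matrix.det_reindex_self]
    rw [this]
  refine isMaximalIn_of inf_le_right ?_ ?_
  · -- a transvection with pure centre and axis
    have H0 : Hyp (M := specialLinear (Fin a × Fin b) F) := by
      refine ⟨ha, hab, fun g hg => ?_, fun A B h => ?_⟩
      · simpa [specialLinear, MonoidHom.mem_ker, Units.ext_iff] using hg
      · simpa [specialLinear, MonoidHom.mem_ker, Units.ext_iff] using h
    obtain ⟨i, j, hij⟩ : ∃ i j : Fin a, i ≠ j :=
      ⟨⟨0, by omega⟩, ⟨1, by omega⟩, by simp [Fin.ext_iff]⟩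
    set v : Fin b → F := Pi.single ⟨0, by omega⟩ 1
    have hv : v ⬝ᵥ v = 1 := by simp [v]
    have hv0 : v ≠ 0 := fun h => by rw [h, zero_dotProduct] at hv; exact zero_ne_one hv
    set p := pt (Pi.single i (1 : F)) v
    set φ := pt (Pi.single j (1 : F)) v
    have hd : φ ⬝ᵥ p = 0 := by
      rw [dot_pt, single_dotProduct, Pi.single_eq_of_ne (Ne.symm hij), mul_zero, zero_mul]
    refine ⟨Φ (tvGL p φ), (hdet _).2 (det_tvGL _ _), fun hmem => ?_⟩
    obtain ⟨A, B, hAB⟩ := (inH_iff e P).1 hmem.1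
    have hxz : ∀ z, (kronGL A B : Matrix (Fin a × Fin b) (Fin a × Fin b) F) *ᵥ z - z
        ∈ Submodule.span F {p} := fun z => by
      rw [← hAB, tvGL_mulVec hd, add_sub_cancel_left]
      exact Submodule.smul_mem _ _ (Submodule.mem_span_singleton_self p)
    have hfr : finrank F (Submodule.span F ({p} : Set (Fin a × Fin b → F))) ≤ 1 :=
      (finrank_span_le_card _).trans (by simp)
    obtain ⟨c, hc⟩ := exists_scalar H0 (hfr.trans (by omega)) hxz
    set w₀ := c • ((B : Matrix (Fin b) (Fin b) F) *ᵥ v) - v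
    have hdiff : ∀ x, (tvGL p φ : Matrix (Fin a × Fin b) (Fin a × Fin b) F) *ᵥ pt x v - pt x v
        = pt x w₀ := fun x => by
      rw [hAB, kronGL_pt, hc, pt_smul_left, ← pt_smul_right, ← pt_sub_right]
    have h1 := hdiff (Pi.single i 1)
    rw [tvGL_mulVec hd, add_sub_cancel_left, show φ ⬝ᵥ pt (Pi.single i (1 : F)) v = 0 from hd,
      zero_smul] at h1
    have hw : w₀ = 0 := by
      by_contra hw
      exact pt_ne_zero (fun h => one_ne_zero (α := F) (by simpa using congrFun h i)) hw h1.symm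
    have h2 := hdiff (Pi.single j 1)
    rw [tvGL_mulVec hd, add_sub_cancel_left, hw, pt_zero_right, dot_pt, single_dotProduct,
      Pi.single_eq_same, hv, mul_one, mul_one, one_smul] at h2
    exact pt_ne_zero (fun h => one_ne_zero (α := F) (by simpa using congrFun h i)) hv0 h2
  intro M hHM hMK g hgM hgH
  have H' : Hyp (M := M.comap Φ.toMonoidHom) := by
    refine ⟨ha, hab, fun k hk => (hdet k).1 (hMK hk), fun A B h => hHM ⟨?_, (hdet _).2 h⟩⟩
    exact (inH_iff e P).2 ⟨A, B, rfl⟩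
  have hgg : Φ (Φ.symm g) = g := Φ.apply_symm_apply g
  have hsl := sl_le_of_notInH H' hex (g := Φ.symm g) (show Φ (Φ.symm g) ∈ M by rw [hgg]; exact hgM)
    fun hin => hgH ⟨by rw [← hgg]; exact (inH_iff e P).2 hin, hMK hgM⟩
  intro y hy
  have hs : Φ.symm y ∈ specialLinear (Fin a × Fin b) F := by
    rw [specialLinear, MonoidHom.mem_ker]
    refine Units.ext ?_
    rw [GeneralLinearGroup.val_det_apply, Units.val_one]
    exact (hdet _).1 (by rw [Φ.apply_symm_apply]; exact hy)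
  have := hsl hs
  rwa [Subgroup.mem_comap, MulEquiv.coe_toMonoidHom, Φ.apply_symm_apply] at this

end CfsgLib.ClassicalMax.TensorSL
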