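/-
The normaliser of a quadratic overfield acting by similarities is maximal in `Ω`.

The field is `F[J]`; the Siegel elements along the lines `⟨u, J u⟩`, `u` singular, commute with `J`.
-/
import Cfsg.Agent.Lib.ClassicalMax.OrthSubfieldBase
import Cfsg.Agent.Lib.ClassicalMax.OrthLines
import Cfsg.Agent.Lib.ClassicalMax.OrthEven
set_option autoImplicit false
set_option linter.unusedSectionVars false

namespace CfsgLib.ClassicalMax.OmU

open Matrix Cfsg.Geo QuadraticMap Module
open CfsgLib.Classical.Quad (NDPolar Frame)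
open CfsgLib.ClassicalMax.OmSub

variable {ι : Type} [Fintype ι] [DecidableEq ι] {F : Type*} [Field F] [Fintype F]
  {Q : QuadraticForm F (ι → F)} {J : Matrix ι ι F} {s c : F} {M : Subgroup (GL ι F)}

/-- `J` generates a quadratic field of similarities of `Q` with adjoint `s - J`. -/
structure Str (Q : QuadraticForm F (ι → F)) (J : Matrix ι ι F) (s c : F) : Prop where
  nd : NDPolar Q
  adj : ∀ v w, polar Q (J *ᵥ v) w = s * polar Q v w - polar Q v (J *ᵥ w)
  sq : ∀ v, J *ᵥ (J *ᵥ v) = s • (J *ᵥ v) - c • v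
  map : ∀ v, Q (J *ᵥ v) = c * Q v
  self : ∀ v, Q v = 0 → polar Q v (J *ᵥ v) = 0
  selfQ : ∀ v, polar Q v (J *ᵥ v) = s * Q v
  noeig : ∀ (a : F) (v : ι → F), J *ᵥ v = a • v → v = 0

/-- Orthogonality over the extension field. -/
def KO (Q : QuadraticForm F (ι → F)) (J : Matrix ι ι F) (u y : ι → F) : Prop :=
  polar Q u y = 0 ∧ polar Q (J *ᵥ u) y = 0

/-- A linearly independent family spanning an invariant subspace. -/
def Fam (J : Matrix ι ι F) {k : ℕ} (v : Fin k → ι → F) : Prop :=
  LinearIndependent F v ∧ ∀ i, J *ᵥ v i ∈ Submodule.span F (Set.range v)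

/-- The group contains all Siegel elements along the `J`-lines. -/
def Base (Q : QuadraticForm F (ι → F)) (J : Matrix ι ι F) (M : Subgroup (GL ι F)) : Prop :=
  ∀ u, Q u = 0 → ∀ t : F, SG Q M u (t • (J *ᵥ u))

/-- All root elements at `u` orthogonal over the extension field. -/
def Full (Q : QuadraticForm F (ι → F)) (J : Matrix ι ι F) (M : Subgroup (GL ι F)) (u : ι → F) :
    Prop :=
  ∀ y, Q y = 0 → KO Q J u y → SG Q M u y

variable (S : Str Q J s c) (hn : 10 ≤ Fintype.card ι)

include S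

lemma polar_map (v w : ι → F) : polar Q (J *ᵥ v) (J *ᵥ w) = c * polar Q v w := by
  simp only [polar, ← mulVec_add, S.map]; ring

lemma polar_right (v w : ι → F) :
    polar Q v (J *ᵥ w) = s * polar Q v w - polar Q (J *ᵥ v) w := by
  rw [S.adj]; ring

lemma KO.symm {u y : ι → F} (h : KO Q J u y) : KO Q J y u := by
  refine ⟨by rw [polar_comm]; exact h.1, ?_⟩
  rw [S.adj, polar_comm Q y u, h.1, polar_comm Q y (J *ᵥ u), h.2]; simp

lemma KO.right {u y : ι → F} (h : KO Q J u y) : polar Q u (J *ᵥ y) = 0 := by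
  rw [polar_comm]; exact (KO.symm S h).2

lemma c_ne {v : ι → F} (hv : v ≠ 0) : c ≠ 0 := fun hc => hv (by
  have h := S.sq v
  rw [hc, zero_smul, sub_zero] at h
  exact S.noeig 0 v (by rw [S.noeig s _ h, zero_smul]))

lemma fam_indep {k : ℕ} {v : Fin k → ι → F} (hv : Fam J v) {y : ι → F}
    (hy : y ∉ Submodule.span F (Set.range v)) {a b : F}
    (h : a • y + b • (J *ᵥ y) ∈ Submodule.span F (Set.range v)) : a = 0 ∧ b = 0 := by
  set W := Submodule.span F (Set.range v) with hW
  have hJ : ∀ w ∈ W, J *ᵥ w ∈ W := fun w hw => by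
    induction hw using Submodule.span_induction with
    | mem z hz => obtain ⟨i, rfl⟩ := hz; exact hv.2 i
    | zero => rw [mulVec_zero]; exact W.zero_mem
    | add z z' _ _ h h' => rw [mulVec_add]; exact W.add_mem h h'
    | smul t z _ h => rw [mulVec_smul]; exact W.smul_mem t h
  have hy0 : y ≠ 0 := fun e => hy (e ▸ W.zero_mem)
  have hb : b = 0 := by
    by_contra hb
    have h1 : J *ᵥ y + (a / b) • y ∈ W := by
      have h' := W.smul_mem b⁻¹ h
      rwa [smul_add, smul_smul, smul_smul, inv_mul_cancel₀ hb, one_smul, inv_mul_eq_div,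
        add_comm] at h'
    set d := a / b
    have h2 := hJ _ h1
    rw [mulVec_add, mulVec_smul, S.sq] at h2
    have h3 := W.sub_mem h2 (W.smul_mem (s + d) h1)
    have h4 : (c + (s + d) * d) • y ∈ W := by
      have := W.neg_mem h3
      convert this using 1
      module
    have h5 : c + (s + d) * d = 0 := by
      by_contra h0
      exact hy ((W.smul_mem_iff h0).1 h4)
    have h6 : J *ᵥ (J *ᵥ y - (s + d) • y) = (-d) • (J *ᵥ y - (s + d) • y) := by
      rw [mulVec_sub, mulVec_smul, S.sq, show c = -((s + d) * d) by linear_combination h5]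
      module
    exact hy0 (S.noeig (s + d) y (sub_eq_zero.1 (S.noeig _ _ h6)))
  refine ⟨?_, hb⟩
  by_contra ha
  rw [hb, zero_smul, add_zero] at h
  exact hy ((W.smul_mem_iff ha).1 h)

lemma Fam.cons {k : ℕ} {v : Fin k → ι → F} (hv : Fam J v) {y : ι → F}
    (hy : y ∉ Submodule.span F (Set.range v)) :
    Fam J (Matrix.vecCons y (Matrix.vecCons (J *ᵥ y) v)) := by
  refine ⟨?_, fun i => ?_⟩
  · refine linearIndependent_finCons.2 ⟨linearIndependent_finCons.2 ⟨hv.1, fun h => ?_⟩, fun h => ?_⟩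
    · exact one_ne_zero (fam_indep S hv hy (a := 0) (b := 1) (by simpa using h)).2
    · rw [Matrix.range_cons, Set.singleton_union, Submodule.mem_span_insert] at h
      obtain ⟨a, z, hz, he⟩ := h
      refine one_ne_zero (fam_indep S hv hy (a := 1) (b := -a) ?_).1
      rw [one_smul]
      convert hz using 1
      linear_combination (norm := module) he
  · have hsub : ∀ z ∈ Submodule.span F (Set.range v),
        z ∈ Submodule.span F (Set.range (Matrix.vecCons y (Matrix.vecCons (J *ᵥ y) v))) :=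
      fun z hz => Submodule.span_mono (by
        rintro _ ⟨j, rfl⟩
        exact ⟨j.succ.succ, by simp⟩) hz
    refine Fin.cases ?_ (fun j => Fin.cases ?_ (fun l => ?_) j) i
    · exact Submodule.subset_span ⟨Fin.succ 0, by simp⟩
    · simp only [Matrix.cons_val_succ, Matrix.cons_val_zero]
      rw [S.sq]
      exact Submodule.sub_mem _ (Submodule.smul_mem _ _ (Submodule.subset_span ⟨Fin.succ 0, by simp⟩))
        (Submodule.smul_mem _ _ (Submodule.subset_span ⟨0, by simp⟩))
    · simpa using hsub _ (hv.2 l)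

lemma fam_two {u : ι → F} (hu : u ≠ 0) : Fam J ![u, J *ᵥ u] :=
  Fam.cons S ⟨linearIndependent_empty_type, fun i => i.elim0⟩ (by simpa using hu)

lemma fam_four {x u : ι → F} (hu : u ≠ 0) (hx : x ∉ Submodule.span F (Set.range ![u, J *ᵥ u])) :
    Fam J ![x, J *ᵥ x, u, J *ᵥ u] :=
  Fam.cons S (fam_two S hu) hx

omit S in
lemma mem_span_two {u z : ι → F} :
    z ∈ Submodule.span F (Set.range ![u, J *ᵥ u]) ↔ ∃ a b : F, a • u + b • (J *ᵥ u) = z := by
  rw [Matrix.range_cons_cons_empty, Submodule.mem_span_pair]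

omit S in
lemma le_span_four {x u z : ι → F} (h : z ∈ Submodule.span F (Set.range ![u, J *ᵥ u])) :
    z ∈ Submodule.span F (Set.range ![x, J *ᵥ x, u, J *ᵥ u]) :=
  Submodule.span_mono (by rintro _ ⟨j, rfl⟩; exact ⟨j.succ.succ, by simp⟩) h

lemma exists_values {k : ℕ} {v : Fin k → ι → F} (hv : LinearIndependent F v) (a : Fin k → F) :
    ∃ y, ∀ i, polar Q (v i) y = a i := by
  obtain ⟨g, hg⟩ := LinearMap.exists_extend (Finsupp.linearCombination F a ∘ₗ hv.repr)
  obtain ⟨y, hy⟩ := Classical.Quad.exists_polar S.nd g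
  refine ⟨y, fun i => ?_⟩
  rw [polar_comm, hy]
  have := LinearMap.congr_fun hg ⟨v i, Submodule.subset_span ⟨i, rfl⟩⟩
  simp only [LinearMap.comp_apply, Submodule.subtype_apply] at this
  rw [this, hv.repr_eq_single i _ rfl]
  simp

omit S in
/-- A singular vector orthogonal to few vectors and outside their span; one dimension less is
needed when two of the vectors are not orthogonal. -/
lemma exists_sing_orth {k : ℕ} (v : Fin k → ι → F)
    (hk : 2 * k + 3 ≤ Fintype.card ι ∨
      (2 * k + 2 ≤ Fintype.card ι ∧ ∃ i j, polar Q (v i) (v j) ≠ 0)) :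
    ∃ r, Q r = 0 ∧ (∀ i, polar Q (v i) r = 0) ∧ r ∉ Submodule.span F (Set.range v) := by
  have hN : Module.finrank F (ι → F) = Fintype.card ι := finrank_fintype_fun_eq_card F
  rcases hk with hk | ⟨hk, i, j, hij⟩
  · exact exists_singular_orth Q v (by omega)
  let L : (ι → F) →ₗ[F] (Fin k → F) := LinearMap.pi fun i => polarBilin Q (v i)
  set W := LinearMap.ker L with hW
  set T := Submodule.span F (Set.range v) with hT
  obtain ⟨C, hC⟩ := Submodule.exists_isCompl (T.comap W.subtype)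
  have h1 := LinearMap.finrank_range_add_finrank_ker L
  rw [← hW] at h1
  have h2 : finrank F (LinearMap.range L) ≤ k := by
    simpa using Submodule.finrank_le (LinearMap.range L)
  have h3 : finrank F T ≤ k := (finrank_range_le_card v).trans (by simp)
  have h4 := Submodule.finrank_add_eq_of_isCompl hC
  have h5 : finrank F (T.comap W.subtype) < finrank F T := by
    rw [← Submodule.finrank_map_subtype_eq W (T.comap W.subtype)]
    refine Submodule.finrank_lt_finrank_of_lt
      (lt_of_le_of_ne (Submodule.map_comap_le _ _) fun e => hij ?_)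
    have hj : v j ∈ Submodule.map W.subtype (T.comap W.subtype) := by
      rw [e]; exact Submodule.subset_span ⟨j, rfl⟩
    obtain ⟨y, -, hy⟩ := hj
    rw [← hy]
    exact congrFun (LinearMap.mem_ker.1 y.2) i
  have h6 : 3 ≤ finrank F C := by omega
  let Qc : QuadraticForm F C := Q.comp (W.subtype.comp C.subtype)
  obtain ⟨w, hw0, hwQ⟩ := FormsDisc.exists_singular_of_three (V := C) Qc h6
  refine ⟨((w : W) : ι → F), hwQ, fun i => congrFun (LinearMap.mem_ker.1 (w : W).2) i,
    fun hmem => hw0 ?_⟩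
  have : (w : W) ∈ T.comap W.subtype ⊓ C := ⟨hmem, w.2⟩
  rw [hC.inf_eq_bot, Submodule.mem_bot] at this
  exact Subtype.ext this

lemma exists_singular_values {k : ℕ} {v : Fin k → ι → F} (hv : LinearIndependent F v)
    (hk : 2 * k + 3 ≤ Fintype.card ι ∨
      (2 * k + 2 ≤ Fintype.card ι ∧ ∃ i j, polar Q (v i) (v j) ≠ 0)) (a : Fin k → F) :
    ∃ z, Q z = 0 ∧ ∀ i, polar Q (v i) z = a i := by
  obtain ⟨r, hr, hro, hrs⟩ := exists_sing_orth v hk
  obtain ⟨y, hy⟩ := exists_values S (linearIndependent_finCons.2 ⟨hv, hrs⟩ :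
    LinearIndependent F (Fin.cons r v : Fin (k + 1) → ι → F)) (Fin.cons 1 a)
  have h0 := hy 0
  rw [Fin.cons_zero, Fin.cons_zero] at h0
  refine ⟨y + (-(Q y)) • r, ?_, fun i => ?_⟩
  · rw [Classical.Quad.Q_comb1, hr, polar_comm Q y r, h0]; ring
  · have hi := hy i.succ
    rw [Fin.cons_succ, Fin.cons_succ] at hi
    rw [polar_add_right, polar_smul_right, hro, hi, smul_zero, add_zero]

/-- A non-singular vector is not orthogonal to both itself and its `J`-image. -/
lemma polar_ne {w : ι → F} (hw : Q w ≠ 0) :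
    polar Q w w ≠ 0 ∨ polar Q w (J *ᵥ w) ≠ 0 := by
  by_contra h
  push Not at h
  obtain ⟨hww, hwJ⟩ := h
  rw [Classical.Quad.polar_self'] at hww
  rw [S.selfQ] at hwJ
  have h2 : (2 : F) = 0 := (mul_eq_zero.1 hww).resolve_right hw
  have hs : s = 0 := (mul_eq_zero.1 hwJ).resolve_right hw
  haveI : CharP F 2 := CfsgLib.OrthCrit.charP_two_of h2
  obtain ⟨r, hr⟩ := FiniteField.isSquare_of_char_two (ringChar.eq F 2) c
  have h1 : J *ᵥ (J *ᵥ w - r • w) = (-r) • (J *ᵥ w - r • w) := by
    rw [mulVec_sub, mulVec_smul, S.sq, hs, hr]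
    linear_combination (norm := module) -(h2 • ((r * r) • w))
  have hw0 : w ≠ 0 := fun e => hw (by rw [e, map_zero Q])
  exact hw0 (S.noeig r w (sub_eq_zero.1 (S.noeig _ _ h1)))

/-- Moving a root element along a `J`-line. -/
lemma diff_line (hM : M ≤ omegaGL ⇑Q) (hB : Base Q J M) {u x y : ι → F} (hu : Q u = 0)
    (hy : Q y = 0) (hux : polar Q u x = 0) (huy : KO Q J u y) (h : SG Q M u x) (t : F) :
    SG Q M u (t • (polar Q x y • (J *ᵥ y) - polar Q x (J *ᵥ y) • y)) := by
  obtain ⟨g, hg, hgx⟩ := hB y hy t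
  have hgu : (g : Matrix ι ι F) *ᵥ u = u :=
    sg_fix hgx huy.1 (by rw [polar_smul_right, KO.right S huy, smul_zero])
  have h1 := h.diff hM hg hu hux hgu
  rw [hgx, QuadraticMap.map_smul, S.map, hy, mul_zero, smul_zero, polar_smul_right, smul_eq_mul] at h1
  convert h1 using 1
  module

/-- Passing between two lines orthogonal over the extension field. -/
lemma step (hM : M ≤ omegaGL ⇑Q) (hB : Base Q J M) {u x y : ι → F} (hu : Q u = 0) (hx : Q x = 0)
    (hy : Q y = 0) (hux : KO Q J u x) (huy : KO Q J u y) (hxy : KO Q J x y)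
    (hfam : Fam J ![y, J *ᵥ y, x, J *ᵥ x, u, J *ᵥ u]) (h : SG Q M u x) : SG Q M u y := by
  obtain ⟨y₀, hy₀⟩ := exists_values S hfam.1 ![0, 1, 0, 1, 0, 0]
  have b0 : polar Q y y₀ = 0 := hy₀ 0
  have b1 : polar Q (J *ᵥ y) y₀ = 1 := hy₀ 1
  have b2 : polar Q x y₀ = 0 := hy₀ 2
  have b3 : polar Q (J *ᵥ x) y₀ = 1 := hy₀ 3
  have b4 : polar Q u y₀ = 0 := hy₀ 4
  have b5 : polar Q (J *ᵥ u) y₀ = 0 := hy₀ 5
  set z := y₀ + (-(Q y₀)) • (J *ᵥ x) with hz
  have hQJx : Q (J *ᵥ x) = 0 := by rw [S.map, hx, mul_zero]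
  have hxx : polar Q x x = 0 := Classical.Quad.polar_singular_self hx
  have hQz : Q z = 0 := by
    rw [hz, Classical.Quad.Q_comb1, hQJx, polar_comm Q y₀, b3]; ring
  have e0 : polar Q y (J *ᵥ x) = 0 := by rw [polar_comm]; exact hxy.2
  have e1 : polar Q (J *ᵥ y) (J *ᵥ x) = 0 := by
    rw [polar_map S, polar_comm Q y x, hxy.1, mul_zero]
  have e2 : polar Q x (J *ᵥ x) = 0 := S.self x hx
  have e3 : polar Q (J *ᵥ x) (J *ᵥ x) = 0 := by rw [polar_map S, hxx, mul_zero]
  have e5 : polar Q (J *ᵥ u) (J *ᵥ x) = 0 := by rw [polar_map S, hux.1, mul_zero]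
  have a0 : polar Q y z = 0 := by rw [hz, polar_add_right, polar_smul_right, b0, e0]; simp
  have a1 : polar Q (J *ᵥ y) z = 1 := by rw [hz, polar_add_right, polar_smul_right, b1, e1]; simp
  have a2 : polar Q x z = 0 := by rw [hz, polar_add_right, polar_smul_right, b2, e2]; simp
  have a3 : polar Q (J *ᵥ x) z = 1 := by rw [hz, polar_add_right, polar_smul_right, b3, e3]; simp
  have hko : KO Q J u z := by
    constructor
    · rw [hz, polar_add_right, polar_smul_right, b4, KO.right S hux]; simp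
    · rw [hz, polar_add_right, polar_smul_right, b5, e5]; simp
  have h1 := diff_line S hM hB hu hQz hux.1 hko h 1
  rw [a2, polar_right S, a2, a3] at h1
  have h2 : SG Q M u z := by
    convert h1 using 1
    module
  have h3 := diff_line S hM hB hu hy hko.1 huy h2 (-1)
  rw [polar_comm Q z y, a0, polar_comm Q z (J *ᵥ y), a1] at h3
  convert h3 using 1
  module

include hn

/-- The root elements at `u` along a line are stable under multiplication by the extension field. -/
lemma scal (hM : M ≤ omegaGL ⇑Q) (hB : Base Q J M) {u x : ι → F} (hu : Q u = 0) (hu0 : u ≠ 0)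
    (hx : Q x = 0) (hux : KO Q J u x) (hxW : x ∉ Submodule.span F (Set.range ![u, J *ᵥ u]))
    (h : SG Q M u x) (a b : F) : SG Q M u (a • x + b • (J *ᵥ x)) := by
  have h4 := fam_four S hu0 hxW
  have hQJx : Q (J *ᵥ x) = 0 := by rw [S.map, hx, mul_zero]
  have hxx : polar Q x x = 0 := Classical.Quad.polar_singular_self hx
  have huu : polar Q u u = 0 := Classical.Quad.polar_singular_self hu
  have e2 : polar Q x (J *ᵥ x) = 0 := S.self x hx
  have e2' : polar Q (J *ᵥ x) x = 0 := by rw [polar_comm]; exact e2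
  have e3 : polar Q (J *ᵥ x) (J *ᵥ x) = 0 := by rw [polar_map S, hxx, mul_zero]
  have eux : polar Q u (J *ᵥ x) = 0 := KO.right S hux
  have e5 : polar Q (J *ᵥ u) (J *ᵥ x) = 0 := by rw [polar_map S, hux.1, mul_zero]
  obtain ⟨y₀, hy₀⟩ := exists_values S h4.1 ![0, 1, 0, 0]
  set z := y₀ + (-(Q y₀)) • (J *ᵥ x) with hz
  have hQz : Q z = 0 := by
    rw [hz, Classical.Quad.Q_comb1, hQJx, polar_comm Q y₀, show polar Q (J *ᵥ x) y₀ = 1 from hy₀ 1]
    ring
  have a2 : polar Q x z = 0 := by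
    rw [hz, polar_add_right, polar_smul_right, show polar Q x y₀ = 0 from hy₀ 0, e2]; simp
  have a3 : polar Q (J *ᵥ x) z = 1 := by
    rw [hz, polar_add_right, polar_smul_right, show polar Q (J *ᵥ x) y₀ = 1 from hy₀ 1, e3]; simp
  have hko : KO Q J u z := by
    constructor
    · rw [hz, polar_add_right, polar_smul_right, show polar Q u y₀ = 0 from hy₀ 2, eux]; simp
    · rw [hz, polar_add_right, polar_smul_right, show polar Q (J *ᵥ u) y₀ = 0 from hy₀ 3, e5]; simp
  have hz4 : z ∉ Submodule.span F (Set.range ![x, J *ᵥ x, u, J *ᵥ u]) := fun e => by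
    have hle : Submodule.span F (Set.range ![x, J *ᵥ x, u, J *ᵥ u]) ≤
        LinearMap.ker (polarBilin Q (J *ᵥ x)) := Submodule.span_le.2 (by
      rintro _ ⟨i, rfl⟩
      fin_cases i
      exacts [e2', e3, (polar_comm Q (J *ᵥ x) u).trans eux, (polar_comm Q (J *ᵥ x) _).trans e5])
    have : polar Q (J *ᵥ x) z = 0 := hle e
    rw [a3] at this
    exact one_ne_zero this
  have h6 := Fam.cons S h4 hz4
  have ezx : polar Q z x = 0 := by rw [polar_comm]; exact a2
  have ezJx : polar Q z (J *ᵥ x) = 1 := by rw [polar_comm]; exact a3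
  have eJzx : polar Q (J *ᵥ z) x = -1 := by rw [S.adj, ezx, ezJx]; ring
  have ezz : polar Q z z = 0 := Classical.Quad.polar_singular_self hQz
  have hz1 : SG Q M u z := by
    have h1 := diff_line S hM hB hu hQz hux.1 hko h 1
    rw [a2, polar_right S, a2, a3] at h1
    convert h1 using 1
    module
  have hxt : ∀ t : F, SG Q M u (t • x) := fun t => by
    have h1 := diff_line S hM hB hu hx hko.1 hux hz1 (-t)
    rw [ezx, ezJx] at h1
    convert h1 using 1
    module
  -- a vector orthogonal to all six and outside their span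
  set six : Fin 6 → ι → F := ![z, J *ᵥ z, x, J *ᵥ x, u, J *ᵥ u] with hsix
  obtain ⟨v, hvo, hvs⟩ : ∃ v, (∀ i, polar Q (six i) v = 0) ∧
      v ∉ Submodule.span F (Set.range six) := by
    let L : (ι → F) →ₗ[F] (Fin 6 → F) := LinearMap.pi fun i => polarBilin Q (six i)
    have h1 := LinearMap.finrank_range_add_finrank_ker L
    rw [finrank_fintype_fun_eq_card] at h1
    have h2 : finrank F (LinearMap.range L) ≤ 6 := by
      simpa using Submodule.finrank_le (LinearMap.range L)
    have h3 : finrank F (Submodule.span F (Set.range ![u, J *ᵥ u])) ≤ 2 :=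
      (finrank_range_le_card _).trans (by simp)
    obtain ⟨v, hv, hvW⟩ : ∃ v ∈ LinearMap.ker L, v ∉ Submodule.span F (Set.range ![u, J *ᵥ u]) := by
      by_contra hcon
      push Not at hcon
      have := Submodule.finrank_mono (show LinearMap.ker L ≤ _ from hcon)
      omega
    have hvo : ∀ i, polar Q (six i) v = 0 := fun i => congrFun (LinearMap.mem_ker.1 hv) i
    refine ⟨v, hvo, fun hmem => hvW ?_⟩
    obtain ⟨co, hco⟩ := (Submodule.mem_span_range_iff_exists_fun F).1 hmem
    rw [Fin.sum_univ_six] at hco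
    simp only [six, Matrix.cons_val] at hco
    have hval : ∀ p, polar Q p v = co 0 * polar Q p z + co 1 * polar Q p (J *ᵥ z) +
        co 2 * polar Q p x + co 3 * polar Q p (J *ᵥ x) + co 4 * polar Q p u +
        co 5 * polar Q p (J *ᵥ u) := fun p => by
      rw [← hco]; simp only [polar_add_right, polar_smul_right, smul_eq_mul]
    have k3 := hval (J *ᵥ x)
    have k2 := hval x
    have k0 := hval z
    have k1 := hval (J *ᵥ z)
    rw [show polar Q (J *ᵥ x) v = 0 from hvo 3, a3, polar_map S, a2, e2', e3,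
      polar_comm Q (J *ᵥ x) u, eux, polar_map S, polar_comm Q x u, hux.1] at k3
    rw [show polar Q x v = 0 from hvo 2, a2, polar_right S, a2, a3, hxx, e2, polar_comm Q x u,
      hux.1, polar_comm Q x (J *ᵥ u), hux.2] at k2
    have hc0 : co 0 = 0 := by linear_combination -k3
    have hc1 : co 1 = 0 := by linear_combination k2
    rw [show polar Q z v = 0 from hvo 0, hc0, hc1, ezx, ezJx, polar_comm Q z u, hko.1,
      polar_comm Q z (J *ᵥ u), hko.2] at k0
    have eJJ : polar Q (J *ᵥ z) (J *ᵥ x) = 0 := by rw [polar_map S, ezx, mul_zero]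
    have eJu : polar Q (J *ᵥ z) (J *ᵥ u) = 0 := by
      rw [polar_map S, polar_comm Q z u, hko.1, mul_zero]
    rw [show polar Q (J *ᵥ z) v = 0 from hvo 1, hc0, hc1, eJzx, eJJ, eJu,
      polar_comm Q (J *ᵥ z) u, KO.right S hko] at k1
    have hc3 : co 3 = 0 := by linear_combination -k0
    have hc2 : co 2 = 0 := by linear_combination k1
    exact mem_span_two.2 ⟨co 4, co 5, by rw [← hco, hc0, hc1, hc2, hc3]; module⟩
  obtain ⟨v', hv'⟩ := exists_values S (linearIndependent_finCons.2 ⟨h6.1, hvs⟩ :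
    LinearIndependent F (Fin.cons v six : Fin 7 → ι → F)) (Fin.cons 1 0)
  have hvv' : polar Q v v' = 1 := by have := hv' 0; rwa [Fin.cons_zero, Fin.cons_zero] at this
  have hv'o : ∀ i, polar Q (six i) v' = 0 := fun i => by
    have := hv' i.succ; rwa [Fin.cons_succ, Fin.cons_succ] at this
  obtain ⟨w₀, hw₀⟩ := exists_values S h6.1 ![0, 0, 1, 0, 0, 0]
  -- adjust the value of the form
  obtain ⟨d, hdo, hd⟩ : ∃ d, (∀ i, polar Q (six i) d = 0) ∧ Q (w₀ + d) ≠ 0 := by
    by_contra hcon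
    push Not at hcon
    have q0 := hcon 0 fun i => polar_zero_right _ _
    have q1 := hcon v hvo
    have q2 := hcon v' hv'o
    have q3 := hcon (v + v') fun i => by rw [polar_add_right, hvo, hv'o, add_zero]
    rw [add_zero] at q0
    rw [QuadraticMap.map_add (⇑Q)] at q1 q2 q3
    rw [QuadraticMap.map_add (⇑Q) v v', hvv', polar_add_right] at q3
    exact one_ne_zero (α := F) (by linear_combination q3 - q1 - q2 + q0)
  set w₁ := w₀ + d with hw₁
  have hw₁v : ∀ i, polar Q (six i) w₁ = (![0, 0, 1, 0, 0, 0] : Fin 6 → F) i := fun i => by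
    rw [hw₁, polar_add_right, hdo, add_zero]; exact hw₀ i
  set w := w₁ + (-(Q w₁)) • x with hw
  have hQw : Q w = 0 := by
    rw [hw, Classical.Quad.Q_comb1, hx, polar_comm Q w₁, show polar Q x w₁ = 1 from hw₁v 2]; ring
  have b2 : polar Q x w = 1 := by
    rw [hw, polar_add_right, polar_smul_right, show polar Q x w₁ = 1 from hw₁v 2, hxx]; simp
  have b3 : polar Q (J *ᵥ x) w = 0 := by
    rw [hw, polar_add_right, polar_smul_right, show polar Q (J *ᵥ x) w₁ = 0 from hw₁v 3, e2']; simp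
  have hkw : KO Q J u w := by
    constructor
    · rw [hw, polar_add_right, polar_smul_right, show polar Q u w₁ = 0 from hw₁v 4, hux.1]; simp
    · rw [hw, polar_add_right, polar_smul_right, show polar Q (J *ᵥ u) w₁ = 0 from hw₁v 5, hux.2]
      simp
  have hA : polar Q (J *ᵥ z) w = Q w₁ := by
    rw [hw, polar_add_right, polar_smul_right, show polar Q (J *ᵥ z) w₁ = 0 from hw₁v 1, eJzx,
      smul_eq_mul]
    ring
  have h2 := diff_line S hM hB hu hQw hko.1 hkw hz1 1
  rw [one_smul] at h2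
  set A := polar Q (J *ᵥ z) w with hAdef
  set w₂ := polar Q z w • (J *ᵥ w) - polar Q z (J *ᵥ w) • w with hw₂
  have huw₂ : polar Q u w₂ = 0 := by
    rw [hw₂, polar_sub_right, polar_smul_right, polar_smul_right, KO.right S hkw, hkw.1]; simp
  have eA : polar Q w₂ x = A := by
    rw [hw₂, polar_sub_left, polar_smul_left, polar_smul_left, S.adj w x, polar_comm Q w x, b2,
      polar_comm Q w (J *ᵥ x), b3, polar_right S z w, hAdef]
    simp only [smul_eq_mul]
    ring
  have h3 := diff_line S hM hB hu hx huw₂ hux h2 (b / A)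
  rw [eA] at h3
  set B := polar Q w₂ (J *ᵥ x)
  have hA0 : A ≠ 0 := by rw [hA]; exact hd
  have hP : polar Q u ((b / A) • (A • (J *ᵥ x) - B • x)) = 0 := by
    rw [polar_smul_right, polar_sub_right, polar_smul_right, polar_smul_right, eux, hux.1]; simp
  have := (hxt (a + b / A * B)).add hu h3 (by rw [polar_smul_right, hux.1, smul_zero]) hP
  convert this using 1
  rw [smul_sub, smul_smul, smul_smul, div_mul_cancel₀ _ hA0]
  module

/-- Passing between orthogonal lines, possibly dependent. -/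
lemma via (hM : M ≤ omegaGL ⇑Q) (hB : Base Q J M) {u x y : ι → F} (hu : Q u = 0) (hu0 : u ≠ 0)
    (hx : Q x = 0) (hy : Q y = 0) (hux : KO Q J u x) (huy : KO Q J u y) (hxy : KO Q J x y)
    (hxW : x ∉ Submodule.span F (Set.range ![u, J *ᵥ u]))
    (hyW : y ∉ Submodule.span F (Set.range ![u, J *ᵥ u])) (h : SG Q M u x) : SG Q M u y := by
  have h4 := fam_four S hu0 hxW
  by_cases hy4 : y ∈ Submodule.span F (Set.range ![x, J *ᵥ x, u, J *ᵥ u])
  swap
  · exact step S hM hB hu hx hy hux huy hxy (Fam.cons S h4 hy4) h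
  obtain ⟨co, hco⟩ := (Submodule.mem_span_range_iff_exists_fun F).1 hy4
  rw [Fin.sum_univ_four] at hco
  simp only [Matrix.cons_val] at hco
  rw [← hco, add_assoc]
  have huu : polar Q u u = 0 := Classical.Quad.polar_singular_self hu
  have p1 : polar Q u (co 0 • x + co 1 • (J *ᵥ x)) = 0 := by
    rw [polar_add_right, polar_smul_right, polar_smul_right, hux.1, KO.right S hux]; simp
  have p2 : polar Q u (co 2 • u + co 3 • (J *ᵥ u)) = 0 := by
    rw [polar_add_right, polar_smul_right, polar_smul_right, huu, S.self u hu]; simp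
  exact (scal S hn hM hB hu hu0 hx hux hxW h (co 0) (co 1)).add hu
    ((SG.self_smul hu _).add hu (hB u hu _) (by rw [polar_smul_right, huu, smul_zero])
      (by rw [polar_smul_right, S.self u hu, smul_zero])) p1 p2

lemma full_of (hM : M ≤ omegaGL ⇑Q) (hB : Base Q J M) {u x : ι → F} (hu : Q u = 0) (hu0 : u ≠ 0)
    (hx : Q x = 0) (hux : KO Q J u x) (hxW : x ∉ Submodule.span F (Set.range ![u, J *ᵥ u]))
    (h : SG Q M u x) : Full Q J M u := by
  intro y hy huy
  by_cases hyW : y ∈ Submodule.span F (Set.range ![u, J *ᵥ u])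
  · obtain ⟨a, b, rfl⟩ := mem_span_two.1 hyW
    exact (SG.self_smul hu a).add hu (hB u hu b)
      (by rw [polar_smul_right, Classical.Quad.polar_singular_self hu, smul_zero])
      (by rw [polar_smul_right, S.self u hu, smul_zero])
  by_cases hp : polar Q x y = 0
  · by_cases hq : polar Q (J *ᵥ x) y = 0
    · exact via S hn hM hB hu hu0 hx hy hux huy ⟨hp, hq⟩ hxW hyW h
    · have h1 := diff_line S hM hB hu hy hux.1 huy h (polar Q (J *ᵥ x) y)⁻¹
      rw [hp, polar_right S, hp] at h1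
      convert h1 using 1
      simp only [mul_zero, zero_sub, zero_smul, neg_smul, sub_neg_eq_add, zero_add, smul_smul,
        inv_mul_cancel₀ hq, one_smul]
  set p := polar Q x y
  set e := polar Q x (J *ᵥ y)
  set y₁ := p • (J *ᵥ y) - e • y with hy₁
  have h1 : SG Q M u y₁ := by
    have h1 := diff_line S hM hB hu hy hux.1 huy h 1
    rwa [one_smul] at h1
  have hyy : polar Q y y = 0 := Classical.Quad.polar_singular_self hy
  have hJy : polar Q (J *ᵥ y) y = 0 := by rw [polar_comm]; exact S.self y hy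
  have hQ₁ : Q y₁ = 0 := by
    rw [hy₁, sub_eq_add_neg, ← neg_smul, QuadraticMap.map_add (⇑Q), QuadraticMap.map_smul,
      QuadraticMap.map_smul, S.map, hy, polar_smul_left, polar_smul_right, hJy]
    simp
  have hu₁ : KO Q J u y₁ := by
    refine ⟨?_, ?_⟩
    · rw [hy₁, polar_sub_right, polar_smul_right, polar_smul_right, huy.1, KO.right S huy]; simp
    · rw [hy₁, polar_sub_right, polar_smul_right, polar_smul_right, huy.2, polar_map S, huy.1]; simp
  have h₁y : KO Q J y₁ y := by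
    refine ⟨?_, ?_⟩
    · rw [hy₁, polar_sub_left, polar_smul_left, polar_smul_left, hJy, hyy]; simp
    · rw [hy₁, mulVec_sub, mulVec_smul, mulVec_smul, S.sq, polar_sub_left, polar_smul_left,
        polar_smul_left, polar_sub_left, polar_smul_left, polar_smul_left, hJy, hyy]
      simp
  refine via S hn hM hB hu hu0 hQ₁ hy hu₁ huy h₁y (fun hmem => hp ?_) hyW h1
  have := fam_indep S (fam_two S hu0) hyW (a := -e) (b := p) (by
    convert hmem using 1
    rw [hy₁]
    module)
  exact this.2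

lemma full_all (hM : M ≤ omegaGL ⇑Q) (hB : Base Q J M) {u₀ : ι → F} (hu₀ : Q u₀ = 0)
    (hu₀0 : u₀ ≠ 0) (hf : Full Q J M u₀) {u : ι → F} (hu : Q u = 0) (hu0 : u ≠ 0) :
    Full Q J M u := by
  have key : ∀ {a b : ι → F}, Q a = 0 → Q b = 0 → b ≠ 0 → KO Q J a b →
      a ∉ Submodule.span F (Set.range ![b, J *ᵥ b]) → Full Q J M a → Full Q J M b := by
    intro a b ha hb hb0 hab haW hfa
    have h1 := (hfa b hb hab).swap ha hb
    refine full_of S hn hM hB hb hb0 (x := -a) (by rw [QuadraticMap.map_neg, ha])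
      ⟨by rw [polar_neg_right, (KO.symm S hab).1, neg_zero],
        by rw [polar_neg_right, (KO.symm S hab).2, neg_zero]⟩
      (fun e => haW (by simpa using Submodule.neg_mem _ e)) h1
  have flip : ∀ {z : ι → F}, z ∉ Submodule.span F (Set.range ![u₀, J *ᵥ u₀]) →
      u₀ ∉ Submodule.span F (Set.range ![z, J *ᵥ z]) := by
    intro z hzW e
    obtain ⟨a, b, hab⟩ := mem_span_two.1 e
    obtain ⟨ha, hb⟩ := fam_indep S (fam_two S hu₀0) hzW (a := a) (b := b)
      (by rw [hab]; exact Submodule.subset_span ⟨0, rfl⟩)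
    exact hu₀0 (by rw [← hab, ha, hb, zero_smul, zero_smul, add_zero])
  by_cases hk : KO Q J u₀ u
  · by_cases huW : u ∈ Submodule.span F (Set.range ![u₀, J *ᵥ u₀])
    · obtain ⟨z, hz, hzo, hzs⟩ := exists_sing_orth (Q := Q) ![u₀, J *ᵥ u₀] (Or.inl (by omega))
      obtain ⟨p, q, hpq⟩ := mem_span_two.1 huW
      have h0z : KO Q J u₀ z := ⟨hzo 0, hzo 1⟩
      have hz0 : z ≠ 0 := fun e => hzs (e ▸ Submodule.zero_mem _)
      have hzu : KO Q J z u := by
        have h' := KO.symm S h0z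
        refine ⟨?_, ?_⟩ <;>
          rw [← hpq, polar_add_right, polar_smul_right, polar_smul_right]
        · rw [h'.1, KO.right S h']; simp
        · rw [h'.2, polar_map S, h'.1]; simp
      refine key hz hu hu0 hzu (fun e => hzs (Submodule.span_le.2 ?_ e))
        (key hu₀ hz hz0 h0z (flip hzs) hf)
      rintro _ ⟨i, rfl⟩
      fin_cases i
      · exact huW
      · show J *ᵥ u ∈ _
        rw [← hpq, mulVec_add, mulVec_smul, mulVec_smul, S.sq]
        exact mem_span_two.2 ⟨-(q * c), p + q * s, by module⟩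
    · exact key hu₀ hu hu0 hk (flip huW) hf
  obtain ⟨z, hz, hzo, hzs⟩ := exists_sing_orth (Q := Q) ![u₀, J *ᵥ u₀, u, J *ᵥ u] (Or.inr ⟨by omega, by
    by_cases h : polar Q u₀ u = 0
    · exact ⟨1, 2, fun e => hk ⟨h, e⟩⟩
    · exact ⟨0, 2, h⟩⟩)
  have hz0 : z ≠ 0 := fun e => hzs (e ▸ Submodule.zero_mem _)
  have h0z : KO Q J u₀ z := ⟨hzo 0, hzo 1⟩
  have huz : KO Q J u z := ⟨hzo 2, hzo 3⟩
  have hzW : z ∉ Submodule.span F (Set.range ![u₀, J *ᵥ u₀]) := fun e => hzs
    (Submodule.span_mono (by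
      rintro _ ⟨j, rfl⟩
      fin_cases j
      exacts [⟨0, rfl⟩, ⟨1, rfl⟩]) e)
  refine key hz hu hu0 (KO.symm S huz) (fun e => hzs (Submodule.span_mono (by
    rintro _ ⟨j, rfl⟩
    fin_cases j
    exacts [⟨2, rfl⟩, ⟨3, rfl⟩]) e)) (key hu₀ hz hz0 h0z (flip hzW) hf)

lemma mem_SS (hM : M ≤ omegaGL ⇑Q) (hB : Base Q J M)
    (hF : ∀ u, Q u = 0 → u ≠ 0 → Full Q J M u) {v : ι → F} (hv : Q v = 0) (hv0 : v ≠ 0) :
    v ∈ OmS.SS Q M := by
  refine ⟨hv, fun w hw => ?_⟩
  have hvv : polar Q v v = 0 := Classical.Quad.polar_singular_self hv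
  have h2 := fam_two S hv0
  -- orthogonal over the extension field
  have hKO : ∀ y, KO Q J v y → SG Q M v y := by
    intro y hy
    by_cases hyW : y ∈ Submodule.span F (Set.range ![v, J *ᵥ v])
    · obtain ⟨a, b, rfl⟩ := mem_span_two.1 hyW
      exact (SG.self_smul hv a).add hv (hB v hv b)
        (by rw [polar_smul_right, hvv, smul_zero]) (by rw [polar_smul_right, S.self v hv, smul_zero])
    have h3 : LinearIndependent F ![y, v, J *ᵥ v] := linearIndependent_finCons.2 ⟨h2.1, hyW⟩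
    obtain ⟨z, hz, hzv⟩ := exists_singular_values S h3 (Or.inl (by omega)) ![1, 0, 0]
    have hyz : polar Q y z = 1 := hzv 0
    have hkz : KO Q J v z := ⟨hzv 1, hzv 2⟩
    have hkz' : KO Q J v (Q y • z) :=
      ⟨by rw [polar_smul_right, hkz.1, smul_zero], by rw [polar_smul_right, hkz.2, smul_zero]⟩
    have hk2 : KO Q J v (y + (-(Q y)) • z) :=
      ⟨by rw [polar_add_right, polar_smul_right, hkz.1, hy.1]; simp,
        by rw [polar_add_right, polar_smul_right, hkz.2, hy.2]; simp⟩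
    have h1 := hF v hv hv0 (y + (-(Q y)) • z) (by rw [Classical.Quad.Q_comb1, hz, hyz]; ring) hk2
    have := h1.add hv (hF v hv hv0 (Q y • z) (by rw [QuadraticMap.map_smul, hz, smul_zero]) hkz')
      hk2.1 hkz'.1
    rwa [add_assoc, ← add_smul, neg_add_cancel, zero_smul, add_zero] at this
  -- one root element that is not orthogonal over the extension field
  obtain ⟨a, ha, hav⟩ := exists_singular_values S h2.1 (Or.inl (by omega)) ![0, 1]
  have hva : polar Q v a = 0 := hav 0
  have hJva : polar Q (J *ᵥ v) a = 1 := hav 1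
  have haW : a ∉ Submodule.span F (Set.range ![v, J *ᵥ v]) := fun e => by
    obtain ⟨p, q, hpq⟩ := mem_span_two.1 e
    rw [← hpq, polar_add_right, polar_smul_right, polar_smul_right, polar_map S, hvv,
      polar_comm Q (J *ᵥ v) v, S.self v hv] at hJva
    simp at hJva
  have ha0 : a ≠ 0 := fun e => haW (e ▸ Submodule.zero_mem _)
  obtain ⟨b, hb, hbo, hbs⟩ := exists_sing_orth (Q := Q) ![a, J *ᵥ a, v, J *ᵥ v]
    (Or.inr ⟨by omega, 3, 0, show polar Q (J *ᵥ v) a ≠ 0 by rw [hJva]; exact one_ne_zero⟩)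
  have hli : LinearIndependent F ![b, a, v, J *ᵥ v] := by
    refine linearIndependent_finCons.2 ⟨linearIndependent_finCons.2 ⟨h2.1, haW⟩, fun e => hbs ?_⟩
    exact Submodule.span_mono (by
      rintro _ ⟨j, rfl⟩
      fin_cases j
      exacts [⟨0, rfl⟩, ⟨2, rfl⟩, ⟨3, rfl⟩]) e
  set t := -(polar Q (J *ᵥ v) w)
  obtain ⟨x, hx, hxo⟩ := exists_singular_values S hli
    (Or.inr ⟨by omega, 3, 1, show polar Q (J *ᵥ v) a ≠ 0 by rw [hJva]; exact one_ne_zero⟩) ![t, 0, 0, 0]
  have hbx : polar Q x b = t := by rw [polar_comm]; exact hxo 0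
  have hax : polar Q x a = 0 := by rw [polar_comm]; exact hxo 1
  have hkx : KO Q J v x := ⟨hxo 2, hxo 3⟩
  obtain ⟨g, hg, hgx⟩ := hF a ha ha0 b hb ⟨hbo 0, hbo 1⟩
  have hgv : (g : Matrix ι ι F) *ᵥ v = v := sg_fix hgx hva (hbo 2)
  have h1 := (hF v hv hv0 x hx hkx).conj hM hg
  rw [hgv, show (g : Matrix ι ι F) *ᵥ x = x + (-t) • a by rw [hgx, hax, hbx]; simp] at h1
  set w₁ := x + (-t) • a
  have hw₁ : polar Q v w₁ = 0 := by
    simp only [w₁, polar_add_right, polar_smul_right, hkx.1, hva, smul_zero, add_zero]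
  have h3 : KO Q J v (w - w₁) := by
    refine ⟨by rw [polar_sub_right, hw, hw₁, sub_zero], ?_⟩
    simp only [w₁, polar_sub_right, polar_add_right, polar_smul_right, hkx.2, hJva, smul_eq_mul]
    simp only [t]; ring
  have := h1.add hv (hKO _ h3) hw₁ h3.1
  rwa [add_sub_cancel] at this

lemma exists_full (hM : M ≤ omegaGL ⇑Q) (hB : Base Q J M) {u w : ι → F} (hu : Q u = 0)
    (hu0 : u ≠ 0) (hw : w ∉ Submodule.span F (Set.range ![u, J *ᵥ u])) (huw : polar Q u w = 0)
    (h : SG Q M u w) : Full Q J M u := by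
  by_cases hsk : Q w = 0 ∧ polar Q (J *ᵥ u) w = 0
  · exact full_of S hn hM hB hu hu0 hsk.1 ⟨huw, hsk.2⟩ hw h
  have hpair : 2 * 4 + 3 ≤ Fintype.card ι ∨ (2 * 4 + 2 ≤ Fintype.card ι ∧
      ∃ i j, polar Q (![w, J *ᵥ w, u, J *ᵥ u] i) (![w, J *ᵥ w, u, J *ᵥ u] j) ≠ 0) := by
    refine Or.inr ⟨by omega, ?_⟩
    by_cases hJ : polar Q (J *ᵥ u) w = 0
    · rcases polar_ne S (fun e => hsk ⟨e, hJ⟩) with h' | h'
      exacts [⟨0, 0, h'⟩, ⟨0, 1, h'⟩]
    · exact ⟨3, 0, hJ⟩
  obtain ⟨z₀, hz₀, hzv⟩ := exists_singular_values S (fam_four S hu0 hw).1 hpair ![0, 1, 0, 0]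
  obtain ⟨r, hr, hro, hrs⟩ := exists_sing_orth (Q := Q) ![w, J *ᵥ w, u, J *ᵥ u] hpair
  obtain ⟨z, hz, a0, a1, hko, hzW⟩ : ∃ z, Q z = 0 ∧ polar Q w z = 0 ∧ polar Q (J *ᵥ w) z = 1 ∧
      KO Q J u z ∧ z ∉ Submodule.span F (Set.range ![u, J *ᵥ u]) := by
    by_cases h0 : z₀ ∈ Submodule.span F (Set.range ![u, J *ᵥ u])
    swap
    · exact ⟨z₀, hz₀, hzv 0, hzv 1, ⟨hzv 2, hzv 3⟩, h0⟩
    refine ⟨z₀ + r, ?_, ?_, ?_, ⟨?_, ?_⟩, fun e => hrs (le_span_four ?_)⟩
    · obtain ⟨p, q, hpq⟩ := mem_span_two.1 h0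
      have : polar Q z₀ r = 0 := by
        rw [← hpq, polar_add_left, polar_smul_left, polar_smul_left,
          show polar Q u r = 0 from hro 2, show polar Q (J *ᵥ u) r = 0 from hro 3]
        simp
      rw [QuadraticMap.map_add (⇑Q), hz₀, hr, this]; simp
    · rw [polar_add_right, show polar Q w z₀ = 0 from hzv 0, show polar Q w r = 0 from hro 0,
        add_zero]
    · rw [polar_add_right, show polar Q (J *ᵥ w) z₀ = 1 from hzv 1,
        show polar Q (J *ᵥ w) r = 0 from hro 1, add_zero]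
    · rw [polar_add_right, show polar Q u z₀ = 0 from hzv 2, show polar Q u r = 0 from hro 2,
        add_zero]
    · rw [polar_add_right, show polar Q (J *ᵥ u) z₀ = 0 from hzv 3,
        show polar Q (J *ᵥ u) r = 0 from hro 3, add_zero]
    · simpa using Submodule.sub_mem _ e h0
  have h1 := diff_line S hM hB hu hz huw hko h 1
  rw [a0, polar_right S, a0, a1] at h1
  refine full_of S hn hM hB hu hu0 hz hko hzW ?_
  convert h1 using 1
  module

lemma coeff_const {A : Matrix ι ι F}
    (h : ∀ u, Q u = 0 → A *ᵥ u ∈ Submodule.span F (Set.range ![u, J *ᵥ u])) :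
    ∃ a b : F, A = a • 1 + b • J := by
  have h' : ∀ u, Q u = 0 → ∃ a b : F, a • u + b • (J *ᵥ u) = A *ᵥ u :=
    fun u hu => mem_span_two.1 (h u hu)
  choose a b hab using h'
  have hstep : ∀ u v (hu : Q u = 0) (hv : Q v = 0), u ≠ 0 →
      v ∉ Submodule.span F (Set.range ![u, J *ᵥ u]) → polar Q u v = 0 →
      a u hu = a v hv ∧ b u hu = b v hv := by
    intro u v hu hv hu0 hvW huv
    have hs : Q (u + v) = 0 := by rw [QuadraticMap.map_add (⇑Q), hu, hv, huv]; simp
    have e1 : (a (u + v) hs - a v hv) • v + (b (u + v) hs - b v hv) • (J *ᵥ v)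
        = (a u hu - a (u + v) hs) • u + (b u hu - b (u + v) hs) • (J *ᵥ u) := by
      have e := hab (u + v) hs
      rw [mulVec_add, mulVec_add, ← hab u hu, ← hab v hv] at e
      linear_combination (norm := module) e
    obtain ⟨p, q⟩ := fam_indep S (fam_two S hu0) hvW
      (a := a (u + v) hs - a v hv) (b := b (u + v) hs - b v hv)
      (mem_span_two.2 ⟨_, _, e1.symm⟩)
    rw [p, q, zero_smul, zero_smul, add_zero] at e1
    have hrz : u ∉ Submodule.span F (Set.range (![] : Fin 0 → ι → F)) := by simpa using hu0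
    obtain ⟨p', q'⟩ := fam_indep S (v := ![]) ⟨linearIndependent_empty_type, fun i => i.elim0⟩ hrz
      (a := a u hu - a (u + v) hs) (b := b u hu - b (u + v) hs)
      (by rw [← e1]; exact Submodule.zero_mem _)
    exact ⟨(sub_eq_zero.1 p').trans (sub_eq_zero.1 p), (sub_eq_zero.1 q').trans (sub_eq_zero.1 q)⟩
  have hall : ∀ u v (hu : Q u = 0) (hv : Q v = 0), u ≠ 0 → v ≠ 0 →
      a u hu = a v hv ∧ b u hu = b v hv := by
    intro u v hu hv hu0 hv0
    by_cases hk : KO Q J u v
    · by_cases hvW : v ∈ Submodule.span F (Set.range ![u, J *ᵥ u])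
      · obtain ⟨z, hz, hzo, hzs⟩ := exists_sing_orth (Q := Q) ![u, J *ᵥ u] (Or.inl (by omega))
        obtain ⟨e, f, hef⟩ := mem_span_two.1 hvW
        obtain ⟨p, q⟩ := hstep u z hu hz hu0 hzs (hzo 0)
        obtain ⟨p', q'⟩ := hstep v z hv hz hv0 (fun h => hzs (Submodule.span_le.2 (by
            rintro _ ⟨i, rfl⟩
            fin_cases i
            · exact hvW
            · show J *ᵥ v ∈ _
              rw [← hef, mulVec_add, mulVec_smul, mulVec_smul, S.sq]
              exact mem_span_two.2 ⟨-(f * c), e + f * s, by module⟩) h)) (by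
          rw [← hef, polar_add_left, polar_smul_left, polar_smul_left,
            show polar Q u z = 0 from hzo 0, show polar Q (J *ᵥ u) z = 0 from hzo 1]; simp)
        exact ⟨p.trans p'.symm, q.trans q'.symm⟩
      · exact hstep u v hu hv hu0 hvW hk.1
    obtain ⟨z, hz, hzo, hzs⟩ := exists_sing_orth (Q := Q) ![u, J *ᵥ u, v, J *ᵥ v] (Or.inr ⟨by omega, by
      by_cases h : polar Q u v = 0
      · exact ⟨1, 2, fun e => hk ⟨h, e⟩⟩
      · exact ⟨0, 2, h⟩⟩)
    obtain ⟨p, q⟩ := hstep u z hu hz hu0 (fun e => hzs (Submodule.span_mono (by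
      rintro _ ⟨j, rfl⟩; fin_cases j; exacts [⟨0, rfl⟩, ⟨1, rfl⟩]) e)) (hzo 0)
    obtain ⟨p', q'⟩ := hstep v z hv hz hv0 (fun e => hzs (Submodule.span_mono (by
      rintro _ ⟨j, rfl⟩; fin_cases j; exacts [⟨2, rfl⟩, ⟨3, rfl⟩]) e)) (hzo 2)
    exact ⟨p.trans p'.symm, q.trans q'.symm⟩
  obtain ⟨u₀, hu₀, -, hu₀s⟩ := exists_singular_orth Q (k := 0) ![]
    (by rw [finrank_fintype_fun_eq_card]; omega)
  have hu₀0 : u₀ ≠ 0 := fun e => hu₀s (e ▸ Submodule.zero_mem _)
  refine ⟨a u₀ hu₀, b u₀ hu₀, ?_⟩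
  obtain ⟨⟨Fr⟩, -⟩ := OmE.exists_frame S.nd (by omega)
  set B := a u₀ hu₀ • (1 : Matrix ι ι F) + b u₀ hu₀ • J with hB
  have hW : LinearMap.ker (Matrix.toLin' (A - B)) = ⊤ :=
    Asch.eq_top_of_singular S.nd Fr fun x hx => by
      rw [LinearMap.mem_ker, Matrix.toLin'_apply, sub_mulVec, sub_eq_zero]
      rcases eq_or_ne x 0 with rfl | hx0
      · simp
      rw [hB, add_mulVec, smul_mulVec, smul_mulVec, one_mulVec, ← hab x hx,
        (hall u₀ x hu₀ hx hu₀0 hx0).1, (hall u₀ x hu₀ hx hu₀0 hx0).2]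
  exact sub_eq_zero.1 (Matrix.toLin'.injective (by rw [map_zero]; exact LinearMap.ker_eq_top.1 hW))

omit S hn

/-- The normaliser of a quadratic overfield of similarities is maximal in `Ω`. -/
theorem unitary_normalizer_maximal (hnd : NDPolar Q) (hn : 10 ≤ Fintype.card ι)
    (K : Subalgebra F (Matrix ι ι F)) (hK : IsFieldSubalgebra 2 K)
    (hac : IsAdjointClosedFor (polar ⇑Q) K) (hnsa : ¬ IsSelfAdjointFor (polar ⇑Q) K)
    (hsc : ∀ k ∈ K, ∃ c : F, ∀ v : ι → F, Q (k *ᵥ v) = c * Q v) :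
    IsMaximalIn (omegaGL ⇑Q) (subalgebraNormalizer K ⊓ omegaGL ⇑Q) := by
  classical
  haveI : Nonempty ι := Fintype.card_pos_iff.1 (by omega)
  rw [IsSelfAdjointFor] at hnsa
  push Not at hnsa
  obtain ⟨J, hJK, p₁, p₂, hJns⟩ := hnsa
  obtain ⟨J', hJ'K, hadj⟩ := hac J hJK
  have hnsc : ∀ t : F, J ≠ t • 1 := fun t ht => hJns (by
    rw [ht, smul_mulVec, smul_mulVec, one_mulVec, one_mulVec, polar_smul_left, polar_smul_right])
  have hcoef : ∀ {x y : F}, x • (1 : Matrix ι ι F) + y • J = 0 → x = 0 ∧ y = 0 := by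
    intro x y h
    have hy : y = 0 := by
      by_contra hy
      refine hnsc (-(y⁻¹ * x)) ?_
      have h' := congrArg (y⁻¹ • ·) h
      simp only [smul_add, smul_smul, inv_mul_cancel₀ hy, one_smul, smul_zero] at h'
      linear_combination (norm := module) h'
    rw [hy, zero_smul, add_zero] at h
    exact ⟨(smul_eq_zero.1 h).resolve_right one_ne_zero, hy⟩
  have hgen : ∀ k ∈ K, ∃ a b : F, k = a • 1 + b • J := by
    haveI : FiniteDimensional F K :=
      FiniteDimensional.of_injective K.val.toLinearMap Subtype.val_injective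
    have hli : LinearIndependent F ![(1 : K), ⟨J, hJK⟩] := LinearIndependent.pair_iff.2 fun x y h =>
      hcoef (congrArg Subtype.val h)
    have hspan : Submodule.span F (Set.range ![(1 : K), ⟨J, hJK⟩]) = ⊤ :=
      hli.span_eq_top_of_card_eq_finrank (by rw [Fintype.card_fin, hK.finrank_eq])
    intro k hk
    obtain ⟨co, hco⟩ := (Submodule.mem_span_range_iff_exists_fun F).1
      (hspan ▸ Submodule.mem_top : (⟨k, hk⟩ : K) ∈ Submodule.span F (Set.range ![(1 : K), ⟨J, hJK⟩]))
    refine ⟨co 0, co 1, ?_⟩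
    have := congrArg Subtype.val hco
    simpa [Fin.sum_univ_two] using this.symm
  obtain ⟨α, β, hJ'⟩ := hgen _ hJ'K
  obtain ⟨ρ, σ, hJJ⟩ := hgen _ (K.mul_mem hJK hJK)
  obtain ⟨c, hc⟩ := hsc J hJK
  have hpolJ : ∀ v w, polar Q (J *ᵥ v) (J *ᵥ w) = c * polar Q v w := fun v w => by
    simp only [polar, ← mulVec_add, hc]; ring
  have heq : ∀ A B : Matrix ι ι F, (∀ v w, polar Q v (A *ᵥ w) = polar Q v (B *ᵥ w)) → A = B := by
    intro A B h
    refine Matrix.ext_of_mulVec_single fun i => sub_eq_zero.1 (hnd _ fun v => ?_)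
    rw [polar_sub_left, polar_comm Q _ v, polar_comm Q _ v, h, sub_self]
  have hkey : J' * J = c • 1 := heq _ _ fun v w => by
    rw [← mulVec_mulVec, ← hadj, hpolJ, smul_mulVec, one_mulVec, polar_smul_right, smul_eq_mul]
  have hk' : α • J + β • (ρ • 1 + σ • J) = c • (1 : Matrix ι ι F) := by
    rw [← hkey, hJ', add_mul, smul_mul_assoc, smul_mul_assoc, one_mul, ← hJJ]
  obtain ⟨e1, e2⟩ := hcoef (x := β * ρ - c) (y := α + β * σ)
    (by linear_combination (norm := module) hk')
  have hback : J = α • 1 + β • J' := heq _ _ fun v w => by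
    rw [add_mulVec, smul_mulVec, smul_mulVec, one_mulVec, polar_add_right, polar_smul_right,
      polar_smul_right, ← hadj, polar_comm Q v (J *ᵥ w), hadj, hJ', add_mulVec, smul_mulVec,
      smul_mulVec, one_mulVec, polar_add_right, polar_smul_right, polar_smul_right, polar_comm Q w v,
      polar_comm Q w (J *ᵥ v)]
  rw [hJ'] at hback
  obtain ⟨e3, e4⟩ := hcoef (x := α + β * α) (y := β * β - 1)
    (by linear_combination (norm := module) -(1 : F) • hback)
  have hβ : β = -1 := by
    have h0 : (β - 1) * (β + 1) = 0 := by linear_combination e4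
    rcases mul_eq_zero.1 h0 with h | h
    · have hb : β = 1 := sub_eq_zero.1 h
      have h2a : (2 : F) * α = 0 := by rw [hb] at e3; linear_combination e3
      rcases mul_eq_zero.1 h2a with h2 | ha
      · rw [hb]; linear_combination h2
      · exact absurd (by rw [hadj, hJ', ha, hb, zero_smul, zero_add, one_smul]) hJns
    · linear_combination h
  have hασ : α = σ := by rw [hβ] at e2; linear_combination e2
  have hρc : ρ = -c := by rw [hβ] at e1; linear_combination -e1
  have hadj' : ∀ v w, polar Q (J *ᵥ v) w = σ * polar Q v w - polar Q v (J *ᵥ w) := fun v w => by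
    rw [hadj, hJ', hασ, hβ, add_mulVec, smul_mulVec, smul_mulVec, one_mulVec, polar_add_right,
      polar_smul_right, polar_smul_right, smul_eq_mul, smul_eq_mul]
    ring
  have hnoeig : ∀ (a : F) (v : ι → F), J *ᵥ v = a • v → v = 0 := by
    intro a v h
    obtain ⟨y, -, hy⟩ := hK.inv (J - a • 1) (K.sub_mem hJK (K.smul_mem K.one_mem a))
      (fun e => hnsc a (sub_eq_zero.1 e))
    rw [← one_mulVec v, ← mul_eq_one_comm.1 hy, ← mulVec_mulVec, sub_mulVec, smul_mulVec,
      one_mulVec, h, sub_self, mulVec_zero]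
  obtain ⟨d, hd⟩ := hsc (1 + J) (K.add_mem K.one_mem hJK)
  have hself : ∀ v, polar Q v (J *ᵥ v) = σ * Q v := by
    have he : ∀ v, polar Q v (J *ᵥ v) = (d - 1 - c) * Q v := fun v => by
      have h := hd v
      rw [add_mulVec, one_mulVec, QuadraticMap.map_add (⇑Q), hc] at h
      linear_combination h
    obtain ⟨i⟩ := ‹Nonempty ι›
    obtain ⟨y, hy⟩ : ∃ y, polar Q (Pi.single i (1 : F)) y ≠ 0 := by
      by_contra hcon
      push Not at hcon
      simpa using congrFun (hnd _ hcon) i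
    set x : ι → F := Pi.single i 1
    have h := he (x + y)
    rw [mulVec_add, polar_add_left, polar_add_right, polar_add_right,
      QuadraticMap.map_add (⇑Q), he, he, polar_comm Q y (J *ᵥ x), hadj'] at h
    have hes : (σ - (d - 1 - c)) * polar Q x y = 0 := by linear_combination h
    intro v
    rw [he, sub_eq_zero.1 ((mul_eq_zero.1 hes).resolve_right hy)]
  have S : Str Q J σ c := ⟨hnd, hadj', fun v => by
      rw [mulVec_mulVec, hJJ, hρc, add_mulVec, smul_mulVec, smul_mulVec, one_mulVec]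
      module, hc, fun v hv => by
      have h := hd v
      rw [add_mulVec, one_mulVec, QuadraticMap.map_add (⇑Q), hv, hc, hv] at h
      simpa using h, hself, hnoeig⟩
  obtain ⟨⟨Fr⟩, -⟩ := OmE.exists_frame hnd (by omega)
  -- Siegel elements along the `J`-lines
  have hH : Base Q J (subalgebraNormalizer K ⊓ omegaGL ⇑Q) := by
    intro u hu t
    obtain ⟨h, hh, hhx⟩ := OmS.exists_sg hnd Fr (w := t • (J *ᵥ u)) hu
      (by rw [polar_smul_right, S.self u hu, smul_zero])
    refine ⟨h, ⟨?_, hh⟩, hhx⟩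
    have hcom : (h : Matrix ι ι F) * J = J * (h : Matrix ι ι F) :=
      Matrix.ext_of_mulVec_single fun i => by
        set x : ι → F := Pi.single i 1
        rw [← mulVec_mulVec, ← mulVec_mulVec, hhx, hhx]
        simp only [QuadraticMap.map_smul, hc, hu, mul_zero, smul_zero, polar_smul_right, smul_eq_mul,
          mulVec_add, mulVec_smul, hpolJ, S.sq, hadj' x u]
        module
    have hk : ∀ k ∈ K, (h : Matrix ι ι F) * k = k * (h : Matrix ι ι F) := by
      intro k hk
      obtain ⟨a, b, rfl⟩ := hgen k hk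
      rw [mul_add, add_mul, mul_smul_comm, mul_smul_comm, smul_mul_assoc, smul_mul_assoc, hcom,
        one_mul, mul_one]
    intro k
    constructor
    · intro hkK
      rwa [hk k hkK, mul_assoc, ← Units.val_mul, mul_inv_cancel, Units.val_one, mul_one]
    · intro hkK
      have e : ((h⁻¹ : GL ι F) : Matrix ι ι F) * ((h : Matrix ι ι F) * k *
          ((h⁻¹ : GL ι F) : Matrix ι ι F)) * (h : Matrix ι ι F) = k := by
        simp [mul_assoc]
      rw [← e, mul_assoc, ← hk _ hkK, ← mul_assoc, ← Units.val_mul, inv_mul_cancel, Units.val_one,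
        one_mul]
      exact hkK
  obtain ⟨u, hu, -, hus⟩ := exists_singular_orth Q (k := 0) ![]
    (by rw [finrank_fintype_fun_eq_card]; omega)
  have hu0 : u ≠ 0 := fun e => hus (e ▸ Submodule.zero_mem _)
  refine isMaximalIn_of inf_le_right ?_ ?_
  · obtain ⟨w, hw, hwv⟩ := exists_singular_values S (fam_two S hu0).1 (Or.inl (by omega)) ![0, 1]
    have huw : polar Q u w = 0 := hwv 0
    have hJuw : polar Q (J *ᵥ u) w = 1 := hwv 1
    obtain ⟨h, hh, hhx⟩ := OmS.exists_sg hnd Fr hu huw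
    refine ⟨h, hh, fun hmem => ?_⟩
    obtain ⟨a, b, hab⟩ := hgen _ ((hmem.1 J).1 hJK)
    obtain ⟨v, hv, hvo, hvs⟩ := exists_sing_orth (Q := Q) ![u, J *ᵥ u, w, J *ᵥ w]
      (Or.inr ⟨by omega, 1, 2, show polar Q (J *ᵥ u) w ≠ 0 by rw [hJuw]; exact one_ne_zero⟩)
    have hv0 : v ≠ 0 := fun e => hvs (e ▸ Submodule.zero_mem _)
    have hA : ∀ x, (h : Matrix ι ι F) *ᵥ (J *ᵥ x) =
        a • ((h : Matrix ι ι F) *ᵥ x) + b • (J *ᵥ ((h : Matrix ι ι F) *ᵥ x)) := by
      intro x
      have := congrArg (· *ᵥ ((h : Matrix ι ι F) *ᵥ x)) hab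
      simp only [← mulVec_mulVec, gl_inv_mulVec_mulVec, add_mulVec, smul_mulVec, one_mulVec] at this
      exact this
    have hfv : (h : Matrix ι ι F) *ᵥ v = v :=
      sg_fix hhx (by rw [polar_comm]; exact hvo 0) (by rw [polar_comm]; exact hvo 2)
    have hfJv : (h : Matrix ι ι F) *ᵥ (J *ᵥ v) = J *ᵥ v := by
      refine sg_fix hhx ?_ ?_
      · rw [hadj', polar_comm Q v u, show polar Q u v = 0 from hvo 0, polar_comm Q v,
          show polar Q (J *ᵥ u) v = 0 from hvo 1]; simp
      · rw [hadj', polar_comm Q v w, show polar Q w v = 0 from hvo 2, polar_comm Q v,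
          show polar Q (J *ᵥ w) v = 0 from hvo 3]; simp
    have h1 := hA v
    rw [hfv, hfJv] at h1
    have hv1 : v ∉ Submodule.span F (Set.range (![] : Fin 0 → ι → F)) := by simpa using hv0
    obtain ⟨ha, hb⟩ := fam_indep S (v := ![]) ⟨linearIndependent_empty_type, fun i => i.elim0⟩ hv1
      (a := a) (b := b - 1) (by
        have : a • v + (b - 1) • (J *ᵥ v) = 0 := by linear_combination (norm := module) -(1 : F) • h1
        rw [this]; exact Submodule.zero_mem _)
    have h2 := hA u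
    rw [hhx, sg_fix hhx (Classical.Quad.polar_singular_self hu) huw, ha, sub_eq_zero.1 hb, hJuw,
      hw, polar_comm Q (J *ᵥ u) u, S.self u hu] at h2
    refine hu0 ?_
    linear_combination (norm := module) -(1 : F) • h2
  intro M hHM hMK g hgM hgH
  have hB : Base Q J M := fun x hx t => by
    obtain ⟨h, hh, hhx⟩ := hH x hx t
    exact ⟨h, hHM hh, hhx⟩
  set A := (g : Matrix ι ι F) * J * ((g⁻¹ : GL ι F) : Matrix ι ι F) with hA
  obtain ⟨v, hv, hvW⟩ : ∃ v, Q v = 0 ∧ A *ᵥ v ∉ Submodule.span F (Set.range ![v, J *ᵥ v]) := by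
    by_contra hcon
    push Not at hcon
    obtain ⟨a, b, hab⟩ := coeff_const S hn hcon
    refine hgH ⟨?_, hMK hgM⟩
    have hmap : ∀ k ∈ K, (g : Matrix ι ι F) * k * ((g⁻¹ : GL ι F) : Matrix ι ι F) ∈ K := by
      intro k hk
      obtain ⟨p, q, rfl⟩ := hgen k hk
      rw [mul_add, add_mul, mul_smul_comm, mul_smul_comm, smul_mul_assoc, smul_mul_assoc, mul_one,
        ← Units.val_mul, mul_inv_cancel, Units.val_one, ← hA, hab]
      exact K.add_mem (K.smul_mem K.one_mem p)
        (K.smul_mem (K.add_mem (K.smul_mem K.one_mem a) (K.smul_mem hJK b)) q)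
    intro k
    refine ⟨hmap k, fun hk => ?_⟩
    let φ : K → K := fun y => ⟨_, hmap y y.2⟩
    have hφ : Function.Injective φ := fun y y' hyy => Subtype.ext (by
      have := congrArg Subtype.val hyy
      simp only [φ] at this
      exact (g.mul_right_inj).1 ((g⁻¹).mul_left_inj.1 this))
    obtain ⟨y, hy⟩ := (Finite.injective_iff_surjective.1 hφ) ⟨_, hk⟩
    have := congrArg Subtype.val hy
    simp only [φ, Units.mul_left_inj, Units.mul_right_inj] at this
    exact this ▸ y.2
  have hv0 : v ≠ 0 := fun e => hvW (by simp [e])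
  set v' := ((g⁻¹ : GL ι F) : Matrix ι ι F) *ᵥ v with hv'
  have hgv : (g : Matrix ι ι F) *ᵥ v' = v := gl_mulVec_inv_mulVec g v
  have hQv' : Q v' = 0 := by rw [← OmS.omega_iso (hMK hgM), hgv, hv]
  have hAv : A *ᵥ v = (g : Matrix ι ι F) *ᵥ (J *ᵥ v') := by rw [hA, ← mulVec_mulVec, ← mulVec_mulVec]
  have hsg : SG Q M v (A *ᵥ v) := by
    have := (hB v' hQv' 1).conj hMK hgM
    rwa [one_smul, hgv, ← hAv] at this
  have hvA : polar Q v (A *ᵥ v) = 0 := by
    rw [hAv]
    conv_lhs => arg 2; rw [← hgv]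
    rw [OmS.omega_polar (hMK hgM), S.self v' hQv']
  have hF : ∀ x, Q x = 0 → x ≠ 0 → Full Q J M x := fun x hx hx0 =>
    full_all S hn hMK hB hv hv0 (exists_full S hn hMK hB hv hv0 hvW hvA hsg) hx hx0
  obtain ⟨x, hx, hxv⟩ := exists_singular_values S (fam_two S hu0).1 (Or.inl (by omega)) ![1, 0]
  have hux : polar Q u x = 1 := hxv 0
  refine OmS.omega_le_of_pair hnd Fr hMK (mem_SS S hn hMK hB hF hu hu0)
    (mem_SS S hn hMK hB hF hx (fun e => one_ne_zero (α := F) (by rw [← hux, e, polar_zero_right])))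
    fun h => one_ne_zero (hux.symm.trans h)

end CfsgLib.ClassicalMax.OmU
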