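/-
Maximality of orthogonal similarity groups in special linear groups of dimension at least six.
-/
import Cfsg.Agent.Lib.ClassicalMax.QuadSim
set_option autoImplicit false

namespace CfsgLib.ClassicalMax.QuadSmall

open Matrix Cfsg.Geo QuadraticMap
open CfsgLib.Classical.Quad (NDPolar Orth Frame IsHPair)
open CfsgLib.ClassicalMax.OmS
open CfsgLib.ClassicalMax.QuadSim (tq tq_mulVec tq_conj omega_le_sl exists_dual_vec perpOf mem_perpOf
  finrank_perpOf finrank_span_two_le finrank_span_three_le exists_singular_avoid perp_le_of_singular)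

variable {ι : Type} [Fintype ι] [DecidableEq ι] {F : Type*} [Field F] [Fintype F]
  {Q : QuadraticForm F (ι → F)}

/-- A singular point in the orthogonal of a subspace of small dimension. -/
lemma exists_perp_three (h2 : (2 : F) ≠ 0) (D : Submodule F (ι → F))
    (hdim : Module.finrank F D + 3 ≤ Fintype.card ι) :
    ∃ v, Q v = 0 ∧ v ≠ 0 ∧ ∀ d ∈ D, polar Q v d = 0 := by
  have h := finrank_perpOf (Q := Q) D
  obtain ⟨v, hv, hv0, hQv⟩ := exists_singular_of_three (Q := Q) h2 (S := perpOf Q D) (by omega)
  exact ⟨v, hQv, hv0, mem_perpOf.1 hv⟩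

omit [Fintype ι] [DecidableEq ι] [Fintype F] in
/-- A hyperbolic plane has no radical. -/
lemma eq_zero_of_mem_pair {e f x : ι → F} (p : IsHPair Q e f)
    (hx : x ∈ Submodule.span F {e, f}) (h : ∀ d ∈ Submodule.span F {e, f}, polar Q x d = 0) :
    x = 0 := by
  obtain ⟨a, b, rfl⟩ := Submodule.mem_span_pair.1 hx
  have he := h e (Submodule.subset_span (by simp))
  have hf := h f (Submodule.subset_span (by simp))
  simp only [polar_add_left, polar_smul_left, Classical.Quad.polar_singular_self p.1,
    Classical.Quad.polar_singular_self p.2.1, p.2.2, polar_comm Q f e, smul_eq_mul, mul_zero,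
    zero_add, add_zero, mul_one] at he hf
  rw [he, hf, zero_smul, zero_smul, add_zero]

omit [Fintype F] in
/-- The singular vectors generate an orthogonal that has a singular point off the subspace. -/
lemma perp_le_of_point (hnd : NDPolar Q) {D : Submodule F (ι → F)} {v : ι → F} (hQv : Q v = 0)
    (hvD : v ∉ D) (hv : ∀ d ∈ D, polar Q v d = 0) (S : AddSubgroup (ι → F))
    (hS : ∀ x, Q x = 0 → (∀ d ∈ D, polar Q x d = 0) → x ∈ S) {x : ι → F}
    (hx : ∀ d ∈ D, polar Q x d = 0) : x ∈ S := by
  obtain ⟨y, hvy, hy⟩ := exists_dual_vec hnd hvD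
  set z := y + (-(Q y)) • v with hz
  have hQz : Q z = 0 := by rw [hz, Classical.Quad.Q_comb1, hQv, polar_comm Q y v, hvy]; ring
  have hvz : polar Q v z = 1 := by
    rw [hz, polar_add_right, polar_smul_right, Classical.Quad.polar_singular_self hQv, hvy]; simp
  have hzD : ∀ d ∈ D, polar Q z d = 0 := fun d hd => by
    rw [hz, polar_add_left, polar_smul_left, hv d hd, polar_comm, hy d hd]; simp
  set t := 1 - polar Q v x with ht
  set x₁ := x + t • z with hx₁
  have e1 : polar Q v x₁ = 1 := by
    rw [hx₁, polar_add_right, polar_smul_right, hvz, ht, smul_eq_mul]; ring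
  have hx₁D : ∀ d ∈ D, polar Q x₁ d = 0 := fun d hd => by
    rw [hx₁, polar_add_left, polar_smul_left, hx d hd, hzD d hd]; simp
  clear_value x₁ z
  have m1 := hS (x₁ + (-(Q x₁)) • v) (by rw [Classical.Quad.Q_comb1, hQv, polar_comm Q x₁ v, e1]; ring)
    fun d hd => by rw [polar_add_left, polar_smul_left, hx₁D d hd, hv d hd]; simp
  have m2 := hS (Q x₁ • v) (by rw [QuadraticMap.map_smul, hQv, smul_zero])
    fun d hd => by rw [polar_smul_left, hv d hd, smul_zero]
  have m3 := hS (t • z) (by rw [QuadraticMap.map_smul, hQz, smul_zero])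
    fun d hd => by rw [polar_smul_left, hzD d hd, smul_zero]
  have h := S.sub_mem (S.add_mem m1 m2) m3
  rwa [show x₁ + -Q x₁ • v + Q x₁ • v - t • z = x by rw [hx₁]; module] at h

/-- A hyperbolic pair orthogonal to a small nondegenerate subspace. -/
lemma exists_hpair (hnd : NDPolar Q) (h2 : (2 : F) ≠ 0) (D : Submodule F (ι → F))
    (hdim : Module.finrank F D + 3 ≤ Fintype.card ι)
    (hrad : ∀ x ∈ D, (∀ d ∈ D, polar Q x d = 0) → x = 0) :
    ∃ u v, IsHPair Q u v ∧ (∀ d ∈ D, polar Q u d = 0) ∧ ∀ d ∈ D, polar Q v d = 0 := by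
  obtain ⟨u, hQu, hu0, hu⟩ := exists_perp_three (Q := Q) h2 D hdim
  obtain ⟨y, huy, hy⟩ := exists_dual_vec hnd (fun h => hu0 (hrad u h hu))
  refine ⟨u, y + (-(Q y)) • u, ⟨hQu, ?_, ?_⟩, hu, fun d hd => ?_⟩
  · rw [Classical.Quad.Q_comb1, hQu, polar_comm Q y u, huy]; ring
  · rw [polar_add_right, polar_smul_right, Classical.Quad.polar_singular_self hQu, huy]; simp
  · rw [polar_add_left, polar_smul_left, hu d hd, polar_comm, hy d hd]; simp

omit [Fintype F] in
/-- The orthogonal of a small subspace is not totally singular. -/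
lemma exists_nonsing_perp (hnd : NDPolar Q) (D : Submodule F (ι → F))
    (hdim : 2 * Module.finrank F D < Fintype.card ι) :
    ∃ w, Q w ≠ 0 ∧ ∀ d ∈ D, polar Q w d = 0 := by
  by_contra hcon
  push Not at hcon
  set S := perpOf Q D with hS
  have hz : ∀ a ∈ S, Q a = 0 := fun a ha => by
    by_contra h
    obtain ⟨d, hd, hne⟩ := hcon a h
    exact hne (mem_perpOf.1 ha d hd)
  have h1 := finrank_perpOf (Q := Q) D
  have h3 : S.map (polarBilin Q) ≤ S.dualAnnihilator := by
    rintro _ ⟨a, ha, rfl⟩
    refine (Submodule.mem_dualAnnihilator _).2 fun b hb => ?_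
    change polar Q a b = 0
    rw [polar, hz a ha, hz b hb, hz _ (S.add_mem ha hb), sub_zero, sub_zero]
  have h4 := Submodule.finrank_mono h3
  rw [← (Submodule.equivMapOfInjective _
    (Classical.Quad.polarBilin_bijective hnd).1 S).finrank_eq] at h4
  have h5 := Subspace.finrank_add_finrank_dualAnnihilator_eq S
  rw [Module.finrank_fintype_fun_eq_card] at h5
  have h6 : Module.finrank F S + Module.finrank F S.dualAnnihilator = Fintype.card ι := h5
  have h7 : Module.finrank F S ≤ Module.finrank F S.dualAnnihilator := h4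
  have h8 : Fintype.card ι ≤ Module.finrank F S + Module.finrank F D := h1
  clear h1 h4 h5
  omega

/-- A frame in dimension at least six. -/
lemma exists_frame (hnd : NDPolar Q) (h2 : (2 : F) ≠ 0) (hn : 6 ≤ Fintype.card ι) :
    Nonempty (Frame Q) := by
  classical
  obtain ⟨e₁, f₁, p₁, -, -⟩ := exists_hpair hnd h2 ⊥ (by rw [finrank_bot]; omega)
    (fun x hx _ => (Submodule.mem_bot F).1 hx)
  obtain ⟨e₂, f₂, p₂, he₂, hf₂⟩ := exists_hpair hnd h2 (Submodule.span F {e₁, f₁})
    (by have := finrank_span_two_le e₁ f₁; omega) (fun x hx h => eq_zero_of_mem_pair p₁ hx h)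
  have m1 : e₁ ∈ Submodule.span F {e₁, f₁} := Submodule.subset_span (by simp)
  have m2 : f₁ ∈ Submodule.span F {e₁, f₁} := Submodule.subset_span (by simp)
  have n1 : e₂ ∈ Submodule.span F {e₂, f₂} := Submodule.subset_span (by simp)
  have n2 : f₂ ∈ Submodule.span F {e₂, f₂} := Submodule.subset_span (by simp)
  have h12 : polar Q e₁ e₂ = 0 := by rw [polar_comm]; exact he₂ _ m1
  have h14 : polar Q e₁ f₂ = 0 := by rw [polar_comm]; exact hf₂ _ m1
  have h32 : polar Q f₁ e₂ = 0 := by rw [polar_comm]; exact he₂ _ m2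
  have h34 : polar Q f₁ f₂ = 0 := by rw [polar_comm]; exact hf₂ _ m2
  set D := Submodule.span F {e₁, f₁} ⊔ Submodule.span F {e₂, f₂}
  obtain ⟨a, ha, hQa⟩ : ∃ a, (∀ d ∈ D, polar Q a d = 0) ∧ Q a ≠ 0 := by
    by_contra hcon
    push Not at hcon
    have hpos : perpOf Q D ≠ ⊥ := fun h => by
      have h1 := finrank_perpOf (Q := Q) D
      rw [h, finrank_bot] at h1
      have := finrank_span_two_le e₁ f₁
      have := finrank_span_two_le e₂ f₂
      have : Module.finrank F D ≤ _ :=
        Submodule.finrank_add_le_finrank_add_finrank (Submodule.span F {e₁, f₁})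
          (Submodule.span F {e₂, f₂})
      omega
    obtain ⟨s, hs, hs0⟩ := Submodule.exists_mem_ne_zero_of_ne_bot hpos
    have hsD := mem_perpOf.1 hs
    obtain ⟨z, hsz, -⟩ := exists_dual_vec hnd (D := ⊥) (x := s) (by simpa using hs0)
    set z' := z - (polar Q z f₁ • e₁ + polar Q z e₁ • f₁ + polar Q z f₂ • e₂ + polar Q z e₂ • f₂)
      with hz'
    have hz'D : z' ∈ perpOf Q D := by
      have hle : D ≤ LinearMap.ker (polarBilin Q z') := by
        refine sup_le (Submodule.span_le.2 ?_) (Submodule.span_le.2 ?_) <;> intro d hd <;>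
          rcases hd with h | h <;> rw [SetLike.mem_coe, LinearMap.mem_ker, h] <;>
          simp only [polarBilin_apply_apply, hz', polar_sub_left, polar_add_left, polar_smul_left,
            smul_eq_mul, Classical.Quad.polar_singular_self p₁.1,
            Classical.Quad.polar_singular_self p₁.2.1, Classical.Quad.polar_singular_self p₂.1,
            Classical.Quad.polar_singular_self p₂.2.1, p₁.2.2, p₂.2.2, h12, h14, h32, h34,
            polar_comm Q f₁ e₁, polar_comm Q f₂ e₂, polar_comm Q e₂ e₁, polar_comm Q f₂ f₁,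
            polar_comm Q e₂ f₁, polar_comm Q f₂ e₁] <;>
          ring
      exact mem_perpOf.2 fun d hd => LinearMap.mem_ker.1 (hle hd)
    have hsz' : polar Q s z' = 1 := by
      simp only [hz', polar_sub_right, polar_add_right, polar_smul_right,
        hsD _ (Submodule.mem_sup_left m1), hsD _ (Submodule.mem_sup_left m2),
        hsD _ (Submodule.mem_sup_right n1), hsD _ (Submodule.mem_sup_right n2), smul_zero,
        add_zero, sub_zero, hsz]
    refine one_ne_zero (α := F) ?_
    rw [← hsz', polar, hcon _ hsD, hcon _ (mem_perpOf.1 hz'D),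
      hcon _ (mem_perpOf.1 ((perpOf Q D).add_mem hs hz'D)), sub_zero, sub_zero]
  exact ⟨{
    e₁ := e₁, f₁ := f₁, e₂ := e₂, f₂ := f₂, a := a, pair₁ := p₁, pair₂ := p₂
    e₁e₂ := h12, e₁f₂ := h14, f₁e₂ := h32, f₁f₂ := h34
    ae₁ := ha _ (Submodule.mem_sup_left m1)
    af₁ := ha _ (Submodule.mem_sup_left m2)
    ae₂ := ha _ (Submodule.mem_sup_right n1)
    af₂ := ha _ (Submodule.mem_sup_right n2)
    Qa := hQa }⟩

variable [DecidableEq F] {M : Subgroup (GL ι F)}

/-- The orthogonal group and one transvection of singular type generate. -/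
lemma sl_le_of_tq (hnd : NDPolar Q) (h2 : (2 : F) ≠ 0) (hn : 6 ≤ Fintype.card ι) (P : Frame Q)
    (hO : omegaGL ⇑Q ≤ M) {v₀ r₀ : ι → F} (hr₀ : Q r₀ = 0) (hr₀0 : r₀ ≠ 0) (hv₀ : v₀ ≠ 0)
    (hvr : polar Q v₀ r₀ = 0) (ht₀ : tq Q v₀ r₀ ∈ M) : specialLinear ι F ≤ M := by
  classical
  have hconj : ∀ h ∈ omegaGL ⇑Q, ∀ v r : ι → F, polar Q v r = 0 → tq Q v r ∈ M →
      tq Q ((h : Matrix ι ι F) *ᵥ v) ((h : Matrix ι ι F) *ᵥ r) ∈ M := fun h hh v r hvr ht => by
    rw [← tq_conj hnd hh hvr]
    exact M.mul_mem (M.mul_mem (hO hh) ht) (M.inv_mem (hO hh))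
  have hmove : ∀ r r' : ι → F, Q r = 0 → r ≠ 0 → Q r' = 0 → r' ≠ 0 →
      ∃ h ∈ omegaGL ⇑Q, (h : Matrix ι ι F) *ᵥ r = r' := fun r r' h h0 h' h0' => by
    obtain ⟨a, ha, har⟩ := Asch.omega_move_singular hnd P h h0
    obtain ⟨b, hb, hbr⟩ := Asch.omega_move_singular hnd P h' h0'
    exact ⟨b⁻¹ * a, mul_mem (inv_mem hb) ha, by rw [gl_mulVec_mul, har, ← hbr, gl_inv_mulVec_mulVec]⟩
  have hadd : ∀ v v' r : ι → F, polar Q v r = 0 → polar Q v' r = 0 → tq Q v r ∈ M → tq Q v' r ∈ M →
      tq Q (v + v') r ∈ M := fun v v' r h h' m m' => by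
    have : tq Q (v + v') r = tq Q v r * tq Q v' r := gl_ext_mulVec fun x => by
      rw [gl_mulVec_mul, tq_mulVec hnd h', tq_mulVec hnd h, tq_mulVec hnd
        (by rw [polar_add_left, h, h', add_zero]), polar_add_left, polar_smul_left, h', smul_zero,
        add_zero, smul_add]
      abel
    rw [this]; exact M.mul_mem m m'
  have hneg : ∀ v r : ι → F, polar Q v r = 0 → tq Q v r ∈ M → tq Q (-v) r ∈ M := fun v r h m => by
    have : tq Q (-v) r = (tq Q v r)⁻¹ := by
      refine eq_inv_of_mul_eq_one_left (gl_ext_mulVec fun x => ?_)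
      rw [gl_mulVec_mul, tq_mulVec hnd h, tq_mulVec hnd (by rw [polar_neg_left, h, neg_zero]),
        polar_add_left, polar_smul_left, h, Units.val_one, one_mulVec]
      simp
    rw [this]; exact M.inv_mem m
  -- a transvection whose two vectors are independent
  obtain ⟨r, v, hr, hr0, hvr, ht, hv⟩ : ∃ r v, Q r = 0 ∧ r ≠ 0 ∧ polar Q v r = 0 ∧ tq Q v r ∈ M ∧
      ∀ l : F, v ≠ l • r := by
    by_cases hl : ∃ l : F, v₀ = l • r₀
    swap
    · push Not at hl; exact ⟨r₀, v₀, hr₀, hr₀0, hvr, ht₀, hl⟩
    obtain ⟨c, hc⟩ := hl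
    have hc0 : c ≠ 0 := fun h => hv₀ (by rw [hc, h, zero_smul])
    set e := r₀
    have hall : ∀ p : ι → F, Q p = 0 → p ≠ 0 → tq Q (c • p) p ∈ M := fun p hp hp0 => by
      obtain ⟨h, hh, hhe⟩ := hmove e p hr₀ hr₀0 hp hp0
      have := hconj h hh v₀ e hvr ht₀
      rwa [hc, mulVec_smul, hhe] at this
    obtain ⟨y, hey, -⟩ := exists_dual_vec hnd (D := ⊥) (x := e) (by simpa using hr₀0)
    set f := y + (-(Q y)) • e with hf
    have hQf : Q f = 0 := by rw [hf, Classical.Quad.Q_comb1, hr₀, polar_comm Q y e, hey]; ring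
    have hef : polar Q e f = 1 := by
      rw [hf, polar_add_right, polar_smul_right, Classical.Quad.polar_singular_self hr₀, hey]; simp
    clear_value f
    have hee := Classical.Quad.polar_singular_self hr₀
    have hff := Classical.Quad.polar_singular_self hQf
    have hfe : polar Q f e = 1 := by rw [polar_comm, hef]
    obtain ⟨p, hQp, hp0, hp⟩ := exists_perp_three (Q := Q) h2 (Submodule.span F {e, f})
      (by have := finrank_span_two_le e f; omega)
    have hpD : p ∉ Submodule.span F {e, f} := fun h =>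
      hp0 (eq_zero_of_mem_pair ⟨hr₀, hQf, hef⟩ h hp)
    obtain ⟨q, hpq, hq⟩ := exists_dual_vec hnd hpD
    have me : e ∈ Submodule.span F {e, f} := Submodule.subset_span (by simp)
    have mf : f ∈ Submodule.span F {e, f} := Submodule.subset_span (by simp)
    set g₀ := q + (c - Q q) • p with hg₀
    have hQg : Q g₀ = c := by rw [hg₀, Classical.Quad.Q_comb1, hQp, polar_comm Q q p, hpq]; ring
    have hge : polar Q g₀ e = 0 := by
      rw [hg₀, polar_add_left, polar_smul_left, hp e me, polar_comm Q q e, hq e me]; simp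
    have hgf : polar Q g₀ f = 0 := by
      rw [hg₀, polar_add_left, polar_smul_left, hp f mf, polar_comm Q q f, hq f mf]; simp
    clear_value g₀
    set h := g₀ + (1 : F) • e + (-c) • f with hh
    have hQh : Q h = 0 := by
      rw [hh, Classical.Quad.Q_comb, hQg, hr₀, hQf, hge, hgf, hef]; ring
    have hhe : polar Q h e = -c := by
      simp only [hh, polar_add_left, polar_smul_left, hge, hee, hfe, smul_eq_mul]; ring
    have hhf : polar Q h f = 1 := by
      simp only [hh, polar_add_left, polar_smul_left, hgf, hef, hff, smul_eq_mul]; ring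
    clear_value h
    have hh0 : h ≠ 0 := fun e' => one_ne_zero (α := F) (by rw [← hhf, e', polar_zero_left])
    have hf0 : f ≠ 0 := fun e' => one_ne_zero (α := F) (by rw [← hef, e', polar_zero_right])
    set β := e - c • f with hβ
    set a := c • e + (c * c) • f with ha
    have hββ : ∀ x, polar Q x β = polar Q x e - c * polar Q x f := fun x => by
      rw [hβ, polar_sub_right, polar_smul_right, smul_eq_mul]
    have hab : polar Q a β = 0 := by
      simp only [hββ, ha, polar_add_left, polar_smul_left, hee, hfe, hef, hff, smul_eq_mul]; ring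
    have hha : polar Q a h = 0 := by
      simp only [ha, polar_add_left, polar_smul_left, polar_comm Q e h, polar_comm Q f h, hhe, hhf,
        smul_eq_mul]
      ring
    have hcf : polar Q (c • f) f = 0 := by rw [polar_smul_left, hff, smul_zero]
    have hce : polar Q (c • e) e = 0 := by rw [polar_smul_left, hee, smul_zero]
    have hch : polar Q (c • h) h = 0 := by
      rw [polar_smul_left, Classical.Quad.polar_singular_self hQh, smul_zero]
    have hs2 : tq Q a β ∈ M := by
      have : tq Q a β = tq Q (c • f) f * tq Q (c • e) e * (tq Q (c • f) f)⁻¹ := by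
        rw [eq_mul_inv_iff_mul_eq]
        refine gl_ext_mulVec fun x => ?_
        simp only [gl_mulVec_mul, tq_mulVec hnd hcf, tq_mulVec hnd hce, tq_mulVec hnd hab]
        simp only [hββ, ha, polar_add_left, polar_smul_left, hfe, hef, hff, smul_eq_mul]
        module
      rw [this]
      exact M.mul_mem (M.mul_mem (hall f hQf hf0) (hall e hr₀ hr₀0)) (M.inv_mem (hall f hQf hf0))
    set k := c * polar Q h β with hk
    have hkv : polar Q (k • a) h = 0 := by rw [polar_smul_left, hha, smul_zero]
    have hk0 : k ≠ 0 := by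
      rw [hk, hββ, hhe, hhf]
      refine mul_ne_zero hc0 ?_
      intro e'
      exact mul_ne_zero h2 hc0 (by linear_combination -e')
    refine ⟨h, k • a, hQh, hh0, hkv, ?_, fun l hl => ?_⟩
    · have : tq Q (k • a) h = tq Q a β * tq Q (c • h) h * (tq Q (c • h) h * tq Q a β)⁻¹ := by
        rw [eq_mul_inv_iff_mul_eq]
        refine gl_ext_mulVec fun x => ?_
        simp only [gl_mulVec_mul, tq_mulVec hnd hkv, tq_mulVec hnd hab, tq_mulVec hnd hch]
        simp only [polar_add_left, polar_smul_left, hha, hab, Classical.Quad.polar_singular_self hQh,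
          smul_eq_mul, mul_zero, add_zero, hk]
        module
      rw [this]
      have m := hall h hQh hh0
      exact M.mul_mem (M.mul_mem hs2 m) (M.inv_mem (M.mul_mem m hs2))
    · have h' := congrArg (fun z => polar Q z β) hl
      simp only [polar_smul_left, hab, smul_eq_mul, mul_zero] at h'
      have hl0 : l = 0 := (mul_eq_zero.1 h'.symm).resolve_right fun e' => hk0 (by rw [hk, e', mul_zero])
      rw [hl0, zero_smul, smul_eq_zero] at hl
      have := congrArg (fun z => polar Q z f) (hl.resolve_left hk0)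
      simp only [ha, polar_add_left, polar_smul_left, hef, hff, smul_eq_mul, polar_zero_left] at this
      exact hc0 (by linear_combination this)
  -- the whole hyperplane
  have hrr := Classical.Quad.polar_singular_self hr
  have hvr' : v ∉ Submodule.span F {r} := fun h => by
    obtain ⟨l, hl⟩ := Submodule.mem_span_singleton.1 h
    exact hv l hl.symm
  obtain ⟨y, hvy, hy⟩ := exists_dual_vec hnd hvr'
  have hyr : polar Q r y = 0 := hy r (Submodule.mem_span_singleton_self r)
  have hFr : ∀ s : F, tq Q (s • r) r ∈ M := by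
    intro s
    have hw : polar Q r (s • y) = 0 := by rw [polar_smul_right, hyr, smul_zero]
    obtain ⟨k, hk, hkx⟩ := exists_sg hnd P hr hw
    have e1 : (k : Matrix ι ι F) *ᵥ v = v + (-s) • r := by
      rw [hkx, hvr, polar_smul_right, hvy]; simp
    have e2 : (k : Matrix ι ι F) *ᵥ r = r := by
      rw [hkx, hrr, hw]; simp
    have h1 := hconj k hk v r hvr ht
    rw [e1, e2] at h1
    have h' : polar Q (v + (-s) • r) r = 0 := by rw [polar_add_left, polar_smul_left, hvr, hrr]; simp
    have h3 := hadd _ _ r hvr (by rw [polar_neg_left, h', neg_zero]) ht (hneg _ _ h' h1)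
    rwa [show v + -(v + -s • r) = s • r by module] at h3
  let S : AddSubgroup (ι → F) :=
    { carrier := {x | polar Q x r = 0 ∧ tq Q x r ∈ M}
      add_mem' := fun {a b} ha hb => ⟨by rw [polar_add_left, ha.1, hb.1, add_zero],
        hadd a b r ha.1 hb.1 ha.2 hb.2⟩
      zero_mem' := ⟨polar_zero_left Q r, by simpa using hFr 0⟩
      neg_mem' := fun {a} ha => ⟨by rw [polar_neg_left, ha.1, neg_zero], hneg a r ha.1 ha.2⟩ }
  -- one vector gives every singular line not in its span with `r`
  have hmult : ∀ x ∈ S, ∀ p, Q p = 0 → polar Q p r = 0 → x ∉ Submodule.span F {p, r} →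
      ∀ s : F, s • p ∈ S := by
    intro x hx p hp hpr hxn s
    have mp : p ∈ Submodule.span F {p, r} := Submodule.subset_span (by simp)
    have mr : r ∈ Submodule.span F {p, r} := Submodule.subset_span (by simp)
    have himg : ∀ w, polar Q p w = 0 → polar Q r w = 0 →
        x + polar Q x p • w + (-(polar Q x w) - Q w * polar Q x p) • p ∈ S := by
      intro w hpw hrw
      obtain ⟨k, hk, hkx⟩ := exists_sg hnd P hp hpw
      have e2 : (k : Matrix ι ι F) *ᵥ r = r := by
        rw [hkx, polar_comm Q r p, hpr, hrw]; simp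
      have h1 := hconj k hk x r hx.1 hx.2
      rw [e2, hkx] at h1
      refine ⟨?_, h1⟩
      simp [polar_add_left, polar_smul_left, hx.1, polar_comm Q w r, hrw, hpr]
    by_cases hxp : polar Q x p = 0
    · obtain ⟨w, hxw, hw⟩ := exists_dual_vec hnd hxn
      have h1 := himg ((-s) • w) (by rw [polar_smul_right, hw p mp, smul_zero])
        (by rw [polar_smul_right, hw r mr, smul_zero])
      have := S.sub_mem h1 hx
      simpa [hxp, polar_smul_right, hxw] using this
    · obtain ⟨w, hQw, hw⟩ := exists_nonsing_perp hnd (Submodule.span F {p, r})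
        (by have := finrank_span_two_le p r; omega)
      set K := -(2 * Q w * polar Q x p) with hK
      have hK0 : K ≠ 0 := neg_ne_zero.2 (mul_ne_zero (mul_ne_zero h2 hQw) hxp)
      have h1 : ∀ t : F, x + polar Q x p • (t • w)
          + (-(polar Q x (t • w)) - Q (t • w) * polar Q x p) • p ∈ S := fun t =>
        himg _ (by rw [polar_smul_right, polar_comm, hw p mp, smul_zero])
          (by rw [polar_smul_right, polar_comm, hw r mr, smul_zero])
      have hsq : ∀ t : F, (K * (t * t)) • p ∈ S := by
        intro t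
        have h3 := S.sub_mem (S.sub_mem (S.add_mem (h1 t) (h1 (-t))) hx) hx
        simp only [polar_smul_right, QuadraticMap.map_smul, smul_eq_mul] at h3
        refine (Eq.mp (congrArg (· ∈ S) ?_) h3)
        rw [hK]; module
      have h3 := S.sub_mem (hsq ((s / K + 1) / 2)) (hsq ((s / K - 1) / 2))
      rw [← sub_smul] at h3
      convert h3 using 2
      field_simp
      ring
  have hvS : v ∈ S := ⟨hvr, ht⟩
  have hsing : ∀ p, Q p = 0 → polar Q p r = 0 → p ∈ S := by
    intro p hp hpr
    by_cases hvp : v ∈ Submodule.span F {p, r}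
    swap
    · simpa using hmult v hvS p hp hpr hvp 1
    by_cases hpn : p ∈ Submodule.span F {r}
    · obtain ⟨l, rfl⟩ := Submodule.mem_span_singleton.1 hpn
      exact ⟨by rw [polar_smul_left, hrr, smul_zero], hFr l⟩
    obtain ⟨p', hp', hp'n, hp'r⟩ := exists_singular_avoid (Q := Q) h2 (Submodule.span F {r})
      (Submodule.span F {p, r}) (by
        have := finrank_span_two_le p r
        rw [finrank_span_singleton hr0]; omega)
    have hp'r' := hp'r r (Submodule.mem_span_singleton_self r)
    obtain ⟨a, b, hab⟩ := Submodule.mem_span_pair.1 hvp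
    have ha : a ≠ 0 := fun h => hv b (by rw [← hab, h, zero_smul, zero_add])
    have hpn' : p ∉ Submodule.span F {p', r} := fun h => by
      obtain ⟨c, d, hcd⟩ := Submodule.mem_span_pair.1 h
      rcases eq_or_ne c 0 with rfl | hc
      · exact hpn (Submodule.mem_span_singleton.2 ⟨d, by rw [← hcd, zero_smul, zero_add]⟩)
      · exact hp'n (Submodule.mem_span_pair.2 ⟨c⁻¹, -(c⁻¹ * d), by
          rw [← hcd, smul_add, smul_smul, smul_smul, inv_mul_cancel₀ hc]; module⟩)
    have hvp' : v ∉ Submodule.span F {p', r} := fun h => hpn' (by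
      have e : p = a⁻¹ • v - (a⁻¹ * b) • r := by
        rw [← hab, smul_add, smul_smul, smul_smul, inv_mul_cancel₀ ha, one_smul, add_sub_cancel_right]
      rw [e]
      exact Submodule.sub_mem _ (Submodule.smul_mem _ _ h)
        (Submodule.smul_mem _ _ (Submodule.subset_span (by simp))))
    have h1 := hmult v hvS p' hp' hp'r' hvp' 1
    rw [one_smul] at h1
    simpa using hmult p' h1 p hp hpr hp'n 1
  have hfull : ∀ x, polar Q x r = 0 → tq Q x r ∈ M := by
    intro x hx
    refine (perp_le_of_singular hnd h2 (D := Submodule.span F {r})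
      (by rw [finrank_span_singleton hr0]; omega) S
      (fun p hp hpD => hsing p hp (hpD r (Submodule.mem_span_singleton_self r)))
      (x := x) fun d hd => ?_).2
    obtain ⟨a, rfl⟩ := Submodule.mem_span_singleton.1 hd
    rw [polar_smul_right, hx, smul_zero]
  have hsingall : ∀ r', Q r' = 0 → ∀ x, polar Q x r' = 0 → tq Q x r' ∈ M := by
    intro r' hr' x hx
    rcases eq_or_ne r' 0 with rfl | hr'0
    · have : tq Q x (0 : ι → F) = 1 := gl_ext_mulVec fun z => by simp [tq_mulVec hnd hx]
      rw [this]; exact M.one_mem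
    obtain ⟨h, hh, hhr⟩ := hmove r r' hr hr0 hr' hr'0
    set x' := ((h⁻¹ : GL ι F) : Matrix ι ι F) *ᵥ x with hx'
    have e : (h : Matrix ι ι F) *ᵥ x' = x := gl_mulVec_inv_mulVec h x
    have e' : polar Q x' r = 0 := by rw [← omega_polar hh, e, hhr, hx]
    have := hconj h hh x' r e' (hfull x' e')
    rwa [e, hhr] at this
  refine sl_le_of_tvGL fun u φ hφ => ?_
  let L : (ι → F) →ₗ[F] F :=
    { toFun := fun z => φ ⬝ᵥ z
      map_add' := fun a b => dotProduct_add φ a b
      map_smul' := fun a b => by simp [dotProduct_smul] }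
  obtain ⟨w, hw⟩ := Classical.Quad.exists_polar hnd L
  have huw : polar Q u w = 0 := by rw [polar_comm, hw]; exact hφ
  suffices tq Q u w ∈ M by
    have e : tvGL u φ = tq Q u w := gl_ext_mulVec fun z => by
      rw [tvGL_mulVec hφ, tq_mulVec hnd huw, polar_comm Q z w, hw]; rfl
    rw [e]; exact this
  let R : AddSubgroup (ι → F) :=
    { carrier := {z | polar Q u z = 0 ∧ tq Q u z ∈ M}
      add_mem' := fun {a b} ha hb => ⟨by rw [polar_add_right, ha.1, hb.1, add_zero], by
        have : tq Q u (a + b) = tq Q u a * tq Q u b := gl_ext_mulVec fun z => by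
          rw [gl_mulVec_mul, tq_mulVec hnd hb.1, tq_mulVec hnd ha.1, tq_mulVec hnd
            (by rw [polar_add_right, ha.1, hb.1, add_zero]), polar_add_left, polar_smul_left, ha.1,
            smul_zero, add_zero, polar_add_right, add_smul]
          abel
        rw [this]; exact M.mul_mem ha.2 hb.2⟩
      zero_mem' := ⟨polar_zero_right Q u, by
        rw [show tq Q u (0 : ι → F) = 1 from gl_ext_mulVec fun z => by
          simp [tq_mulVec hnd (polar_zero_right Q u)]]
        exact M.one_mem⟩
      neg_mem' := fun {a} ha => ⟨by rw [polar_neg_right, ha.1, neg_zero], by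
        rw [show tq Q u (-a) = (tq Q u a)⁻¹ from eq_inv_of_mul_eq_one_left (gl_ext_mulVec fun z => by
          rw [gl_mulVec_mul, tq_mulVec hnd ha.1, tq_mulVec hnd (by rw [polar_neg_right, ha.1, neg_zero]),
            polar_neg_right, polar_add_left, polar_smul_left, ha.1, Units.val_one, one_mulVec]
          simp)]
        exact M.inv_mem ha.2⟩ }
  have hdim : Module.finrank F (Submodule.span F {u}) ≤ 1 := by
    simpa using finrank_span_le_card (R := F) ({u} : Set (ι → F))
  refine (perp_le_of_singular hnd h2 (D := Submodule.span F {u}) (by omega) R (fun p hp hpD => ?_)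
    (x := w) fun d hd => ?_).2
  · have hpu := hpD u (Submodule.mem_span_singleton_self u)
    exact ⟨by rw [polar_comm, hpu], hsingall p hp u (by rw [polar_comm, hpu])⟩
  · obtain ⟨a, rfl⟩ := Submodule.mem_span_singleton.1 hd
    rw [polar_smul_right, polar_comm, huw, smul_zero]

omit [DecidableEq F] in
/-- Orthogonal similarities form a maximal subgroup of the special linear group. -/
theorem similarity_maximal (hnd : NDPolar Q) (h2 : (2 : F) ≠ 0) (hn : 6 ≤ Fintype.card ι) :
    IsMaximalIn (specialLinear ι F) (quadSimilarityGroup ⇑Q ⊓ specialLinear ι F) := by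
  classical
  obtain ⟨P⟩ := exists_frame hnd h2 hn
  refine CfsgLib.ClassicalMax.isMaximalIn_of inf_le_right ?_ ?_
  · -- a transvection which is not a similarity
    have hEF : polar Q P.e₁ (P.e₁) = 0 := Classical.Quad.polar_singular_self P.pair₁.1
    have hb : polar Q (P.e₂ + P.f₂) P.e₁ = 0 := by
      rw [polar_add_left, polar_comm Q P.e₂, P.e₁e₂, polar_comm Q P.f₂, P.e₁f₂, add_zero]
    refine ⟨tq Q (P.e₂ + P.f₂) P.e₁, tvGL_mem_sl _ _, fun h => ?_⟩
    obtain ⟨c, hc⟩ := h.1
    have h1 := hc P.f₁
    have h2' := hc (P.e₁ + P.f₁)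
    have hfe : polar Q P.f₁ P.e₁ = 1 := by rw [polar_comm, P.pair₁.2.2]
    rw [tq_mulVec hnd hb, hfe, one_smul, QuadraticMap.map_add Q, QuadraticMap.map_add Q P.e₂,
      P.pair₁.2.1, P.pair₂.1, P.pair₂.2.1, P.pair₂.2.2, polar_add_right, P.f₁e₂, P.f₁f₂] at h1
    simp at h1
  intro M hHM hMK g hgM hgH
  have hO : omegaGL ⇑Q ≤ M := fun h hh =>
    hHM ⟨⟨1, fun x => by rw [Units.val_one, one_mul]; exact omega_iso hh x⟩, omega_le_sl _ hh⟩
  -- the pulled back form
  let Qg : QuadraticForm F (ι → F) := Q.comp (Matrix.toLin' (g : Matrix ι ι F))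
  have hQg : ∀ x, Qg x = Q ((g : Matrix ι ι F) *ᵥ x) := fun x => rfl
  have hpol : ∀ x y, polar Qg x y
      = polar Q ((g : Matrix ι ι F) *ᵥ x) ((g : Matrix ι ι F) *ᵥ y) := fun x y => by
    simp only [polar, hQg, mulVec_add]
  have hndg : NDPolar Qg := fun x hx => by
    refine gl_mulVec_injective g ?_
    change (g : Matrix ι ι F) *ᵥ x = (g : Matrix ι ι F) *ᵥ 0
    rw [mulVec_zero]
    refine hnd _ fun y => ?_
    have := hx (((g⁻¹ : GL ι F) : Matrix ι ι F) *ᵥ y)
    rwa [hpol, gl_mulVec_inv_mulVec] at this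
  obtain ⟨p, hgp, hQp⟩ : ∃ p, Qg p = 0 ∧ Q p ≠ 0 := by
    by_contra hcon
    push Not at hcon
    obtain ⟨e, f, hp, -, -⟩ := exists_hpair hndg h2 ⊥ (by rw [finrank_bot]; omega)
      (fun x hx _ => (Submodule.mem_bot F).1 hx)
    set D := Submodule.span F {e, f}
    have me : e ∈ D := Submodule.subset_span (by simp)
    have mf : f ∈ D := Submodule.subset_span (by simp)
    have hQe := hcon e hp.1
    have hQf := hcon f hp.2.1
    set c := polar Q e f with hc
    have key : ∀ x, (∀ d ∈ D, polar Qg x d = 0) →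
        Q x = c * Qg x ∧ polar Q x e = Qg x * polar Q x f ∧ polar Q x f = Qg x * polar Q x e := by
      intro x hx
      have h : ∀ a b : F, a * b = -Qg x →
          Q x + a * polar Q x e + b * polar Q x f + a * b * c = 0 := fun a b hab => by
        have h1 : Qg (x + a • e + b • f) = 0 := by
          rw [Classical.Quad.Q_comb, hp.1, hp.2.1, hx e me, hx f mf, hp.2.2]
          linear_combination hab
        have h1' := hcon _ h1
        rw [Classical.Quad.Q_comb, hQe, hQf, ← hc] at h1'
        linear_combination h1'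
      have a1 := h 1 (-Qg x) (by ring)
      have a2 := h (-1) (Qg x) (by ring)
      have a3 := h (-Qg x) 1 (by ring)
      have a4 := h (Qg x) (-1) (by ring)
      exact ⟨mul_left_cancel₀ h2 (by linear_combination a1 + a2),
        mul_left_cancel₀ h2 (by linear_combination a1 - a2),
        mul_left_cancel₀ h2 (by linear_combination a3 - a4)⟩
    obtain ⟨v, hQv, hv0, hv⟩ := exists_perp_three (Q := Qg) h2 D
      (by have : Module.finrank F D ≤ 2 := finrank_span_two_le e f; omega)
    have hW : ∀ x, (∀ d ∈ D, polar Qg x d = 0) → polar Q x e = 0 ∧ polar Q x f = 0 := fun x hx => by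
      have := perp_le_of_point hndg hQv (fun h => hv0 (eq_zero_of_mem_pair hp h hv)) hv
        (LinearMap.ker ((polarBilin Q).flip e) ⊓ LinearMap.ker ((polarBilin Q).flip f)).toAddSubgroup
        (fun z hz hzD => by
          obtain ⟨-, k1, k2⟩ := key z hzD
          refine ⟨LinearMap.mem_ker.2 ?_, LinearMap.mem_ker.2 ?_⟩
          · change polar Q z e = 0
            rw [k1, hz, zero_mul]
          · change polar Q z f = 0
            rw [k2, hz, zero_mul]) hx
      exact ⟨LinearMap.mem_ker.1 this.1, LinearMap.mem_ker.1 this.2⟩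
    have hall : ∀ y, Q y = c * Qg y := by
      intro y
      set a := polar Qg y f with ha
      set b := polar Qg y e with hb
      set x := y - a • e - b • f with hx
      have hxD : ∀ d ∈ D, polar Qg x d = 0 := by
        intro d hd
        obtain ⟨s, t, rfl⟩ := Submodule.mem_span_pair.1 hd
        simp only [hx, polar_add_right, polar_smul_right, polar_sub_left, polar_smul_left,
          Classical.Quad.polar_singular_self hp.1, Classical.Quad.polar_singular_self hp.2.1,
          hp.2.2, polar_comm Qg f e, smul_eq_mul, ← ha, ← hb]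
        ring
      obtain ⟨k0, -, -⟩ := key x hxD
      obtain ⟨k1, k2⟩ := hW x hxD
      have e1 : y = x + a • e + b • f := by rw [hx]; abel
      rw [e1, Classical.Quad.Q_comb, Classical.Quad.Q_comb, hp.1, hp.2.1, hQe, hQf, hp.2.2, ← hc,
        hxD e me, hxD f mf, k0, k1, k2]
      ring
    have hc0 : c ≠ 0 := fun h => P.Qa (by rw [hall, h, zero_mul])
    exact hgH ⟨⟨(Units.mk0 c hc0)⁻¹, fun y => by
      rw [hall y, Units.val_inv_eq_inv_val, Units.val_mk0, inv_mul_cancel_left₀ hc0, hQg]⟩, hMK hgM⟩
  have hp0 : p ≠ 0 := fun h => hQp (by rw [h, QuadraticMap.map_zero])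
  obtain ⟨p', hp'⟩ := Classical.Quad.exists_polar hnd ((polarBilin Qg).flip p)
  replace hp' : ∀ x, polar Q x p' = polar Qg x p := fun x => by
    rw [polar_comm]; exact hp' x
  obtain ⟨u, hQu, hun, hu⟩ := exists_singular_avoid (Q := Q) h2 (Submodule.span F {p, p'})
    (Submodule.span F {p'}) (by
      have := finrank_span_two_le p p'
      have : Module.finrank F (Submodule.span F {p'}) ≤ 1 := by
        simpa using finrank_span_le_card (R := F) ({p'} : Set (ι → F))
      omega)
  have hu0 : u ≠ 0 := fun h => hun (by rw [h]; exact Submodule.zero_mem _)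
  have hup : polar Q u p = 0 := hu p (Submodule.subset_span (by simp))
  have hgup : polar Qg u p = 0 := by rw [← hp']; exact hu p' (Submodule.subset_span (by simp))
  have hup' : u ∉ Submodule.span F {p} := fun h => by
    obtain ⟨l, rfl⟩ := Submodule.mem_span_singleton.1 h
    rw [QuadraticMap.map_smul, smul_eq_zero, or_iff_left hQp] at hQu
    exact hu0 (by rw [mul_self_eq_zero.1 hQu, zero_smul])
  obtain ⟨y, huy, hy⟩ := exists_dual_vec hnd hup'
  have hyp : polar Q p y = 0 := hy p (Submodule.mem_span_singleton_self p)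
  obtain ⟨v, hQv, hv0, hv⟩ := exists_perp_three (Q := Q) h2 (Submodule.span F {u, y, p})
    (by have := finrank_span_three_le u y p; omega)
  obtain ⟨w, hQw, hwu, hwp, hgwp⟩ : ∃ w, Q w = 0 ∧ polar Q w u = 0 ∧ polar Q w p = 0 ∧
      polar Qg w p ≠ 0 := by
    by_contra hcon
    push Not at hcon
    have hp'n : p' ∉ Submodule.span F {u, p} := fun h => by
      obtain ⟨a, b, hab⟩ := Submodule.mem_span_pair.1 h
      have h1 : polar Q p p' = 0 := by
        rw [hp', Classical.Quad.polar_singular_self hgp]
      rw [← hab, polar_add_right, polar_smul_right, polar_smul_right, polar_comm Q p u, hup,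
        smul_zero, zero_add, Classical.Quad.polar_self', smul_eq_mul] at h1
      obtain rfl : b = 0 := (mul_eq_zero.1 h1).resolve_right (mul_ne_zero h2 hQp)
      rw [zero_smul, add_zero] at hab
      rcases eq_or_ne a 0 with rfl | ha
      · rw [zero_smul] at hab
        obtain ⟨z, hz, -⟩ := exists_dual_vec hndg (D := ⊥) (x := p) (by simpa using hp0)
        have := hp' z
        rw [← hab, polar_zero_right, polar_comm, hz] at this
        exact zero_ne_one this
      · exact hun (Submodule.mem_span_singleton.2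
          ⟨a⁻¹, by rw [← hab, smul_smul, inv_mul_cancel₀ ha, one_smul]⟩)
    obtain ⟨x, hxp', hx⟩ := exists_dual_vec hnd hp'n
    have := perp_le_of_point hnd (D := Submodule.span F {u, p}) hQv (fun h => hv0 (by
        obtain ⟨a, b, rfl⟩ := Submodule.mem_span_pair.1 h
        have h1 := hv y (Submodule.subset_span (by simp))
        rw [polar_add_left, polar_smul_left, polar_smul_left, huy, hyp] at h1
        simp only [smul_eq_mul, mul_one, mul_zero, add_zero] at h1
        rw [h1, zero_smul, zero_add, QuadraticMap.map_smul, smul_eq_zero, or_iff_left hQp,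
          mul_self_eq_zero] at hQv
        rw [h1, hQv, zero_smul, zero_smul, add_zero]))
      (fun d hd => hv d (Submodule.span_mono (by rintro z (rfl | rfl) <;> simp) hd))
      (LinearMap.ker ((polarBilin Qg).flip p)).toAddSubgroup
      (fun z hz hzD => LinearMap.mem_ker.2 (hcon z hz (hzD u (Submodule.subset_span (by simp)))
        (hzD p (Submodule.subset_span (by simp)))))
      (x := x) (fun d hd => by rw [polar_comm]; exact hx d hd)
    have h2' : polar Qg x p = 0 := LinearMap.mem_ker.1 this
    rw [← hp', polar_comm, hxp'] at h2'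
    exact one_ne_zero h2'
  obtain ⟨r, hr, hrn⟩ : ∃ r, (polar Q r u = 0 ∧ polar Q r w = 0 ∧ polar Qg r u = 0 ∧
      polar Qg r p = 0) ∧ r ∉ Submodule.span F {p} := by
    let L : (ι → F) →ₗ[F] (F × F × F × F) :=
      ((polarBilin Q).flip u).prod (((polarBilin Q).flip w).prod
        (((polarBilin Qg).flip u).prod ((polarBilin Qg).flip p)))
    obtain ⟨r, hr, hrn⟩ := SetLike.not_le_iff_exists.1
      (fun h : LinearMap.ker L ≤ Submodule.span F {p} => by
        have h1 := Submodule.finrank_mono h
        rw [finrank_span_singleton hp0] at h1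
        have h3 := LinearMap.finrank_range_add_finrank_ker L
        have h4 := Submodule.finrank_le (LinearMap.range L)
        simp only [Module.finrank_prod, Module.finrank_self] at h4
        rw [Module.finrank_fintype_fun_eq_card] at h3
        omega)
    simp only [L, LinearMap.mem_ker, LinearMap.prod_apply, Function.prod, Prod.mk_eq_zero,
      LinearMap.flip_apply, polarBilin_apply_apply] at hr
    exact ⟨r, hr, hrn⟩
  obtain ⟨hru, hrw, hgru, hgrp⟩ := hr
  have hgp' : Q ((g : Matrix ι ι F) *ᵥ p) = 0 := by rw [← hQg]; exact hgp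
  obtain ⟨τ, hτ, hτx⟩ := exists_sg hnd P hQu (w := w) (by rw [polar_comm]; exact hwu)
  obtain ⟨η₀, hη₀, hη₀x⟩ := exists_sg hnd P hgp'
    (w := (g : Matrix ι ι F) *ᵥ r) (by rw [← hpol, polar_comm, hgrp])
  set η := g⁻¹ * η₀ * g with hη
  have hηM : η ∈ M := M.mul_mem (M.mul_mem (M.inv_mem hgM) (hO hη₀)) hgM
  have hηx : ∀ x, (η : Matrix ι ι F) *ᵥ x = x + polar Qg x p • r
      + (-(polar Qg x r) - Qg r * polar Qg x p) • p := fun x => by
    rw [hη, gl_mulVec_mul, gl_mulVec_mul, hη₀x, mulVec_add, mulVec_add, mulVec_smul, mulVec_smul,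
      gl_inv_mulVec_mulVec, gl_inv_mulVec_mulVec, gl_inv_mulVec_mulVec, ← hpol, ← hpol, hQg]
  set z := polar Qg w p • r + (-(polar Qg w r) - Qg r * polar Qg w p) • p with hz
  have hzu : polar Q z u = 0 := by
    rw [hz, polar_add_left, polar_smul_left, polar_smul_left, hru, polar_comm Q p u, hup]; simp
  have hz0 : z ≠ 0 := fun h => hrn (by
    have h' : polar Qg w p • r ∈ Submodule.span F {p} := by
      rw [eq_neg_of_add_eq_zero_left h]
      exact Submodule.neg_mem _ (Submodule.smul_mem _ _ (Submodule.mem_span_singleton_self p))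
    exact (Submodule.smul_mem_iff _ hgwp).1 h')
  refine sl_le_of_tq hnd h2 hn P hO (v₀ := z) (r₀ := u) hQu hu0 hz0 hzu ?_
  have hτM := hO hτ
  have : tq Q z u = η * τ * (τ * η)⁻¹ := by
    rw [eq_mul_inv_iff_mul_eq]
    refine gl_ext_mulVec fun x => ?_
    simp only [gl_mulVec_mul, tq_mulVec hnd hzu, hτx _, hηx, hQw]
    simp only [polar_add_left, polar_smul_left, smul_eq_mul, hru, hrw, hwu,
      Classical.Quad.polar_singular_self hQu, Classical.Quad.polar_singular_self hQw,
      polar_comm Q p u, hup, polar_comm Q p w, hwp, polar_comm Qg u r, hgru, hgup, hz,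
      polar_comm Q u w]
    module
  rw [this]
  exact M.mul_mem (M.mul_mem hηM hτM) (M.inv_mem (M.mul_mem hτM hηM))

end CfsgLib.ClassicalMax.QuadSmall
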