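/-
Orthogonal similarities form a maximal subgroup of the special linear group in dimension four,
odd characteristic, either sign. Only products of two reflections are used.
-/
import Cfsg.Agent.Lib.ClassicalMax.QuadSimSmall
import Cfsg.Agent.Lib.ClassicalMax.UnitInSL
import Cfsg.Agent.Lib.ClassicalMax.MonBase
set_option autoImplicit false
set_option maxHeartbeats 1000000

namespace CfsgLib.ClassicalMax.QuadFour

open Matrix Cfsg.Geo QuadraticMap
open CfsgLib.Classical.Quad (NDPolar IsHPair)
open CfsgLib.ClassicalMax.OmS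
open CfsgLib.ClassicalMax.QuadSim (tq tq_mulVec exists_dual_vec perpOf mem_perpOf finrank_perpOf
  finrank_span_two_le)

variable {ι : Type} [Fintype ι] [DecidableEq ι] {F : Type*} [Field F]
  {Q : QuadraticForm F (ι → F)}

omit [DecidableEq ι] [Fintype ι] in
lemma polar_of_iso {G : (ι → F) →ₗ[F] (ι → F)} (h : ∀ x, Q (G x) = Q x) (x y : ι → F) :
    polar Q (G x) (G y) = polar Q x y := by
  simp only [polar, ← map_add, h]

omit [DecidableEq ι] [Fintype ι] in
lemma polar_self2 (a : ι → F) : polar Q a a = 2 * Q a := by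
  rw [Classical.Quad.polar_self']

/-- Two vectors, the first one non-singular: a non-singular vector orthogonal to both. -/
lemma exists_nonsing_pair (hnd : NDPolar Q) (hn : Fintype.card ι = 4) {p : ι → F} (hp : Q p ≠ 0)
    (d : ι → F) : ∃ a, Q a ≠ 0 ∧ polar Q a p = 0 ∧ polar Q a d = 0 := by
  by_contra hcon
  push Not at hcon
  set D := Submodule.span F {p, d}
  set S := perpOf Q D
  have hSm : ∀ a ∈ S, polar Q a p = 0 ∧ polar Q a d = 0 := fun a ha =>
    ⟨mem_perpOf.1 ha p (Submodule.subset_span (by simp)), mem_perpOf.1 ha d (Submodule.subset_span (by simp))⟩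
  have hz : ∀ a ∈ S, Q a = 0 := fun a ha => by
    by_contra h
    exact hcon a h (hSm a ha).1 (hSm a ha).2
  have hle : (S ⊔ Submodule.span F {p}).map (polarBilin Q) ≤ S.dualAnnihilator := by
    rw [Submodule.map_le_iff_le_comap]
    refine sup_le (fun a ha => ?_) ((Submodule.span_singleton_le_iff_mem _ _).2 ?_)
    · refine (Submodule.mem_dualAnnihilator _).2 fun b hb => ?_
      change polar Q a b = 0
      rw [polar, hz a ha, hz b hb, hz _ (S.add_mem ha hb), sub_zero, sub_zero]
    · refine (Submodule.mem_dualAnnihilator _).2 fun b hb => ?_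
      change polar Q p b = 0
      rw [polar_comm, (hSm b hb).1]
  have h1 := finrank_perpOf (Q := Q) D
  have h2 := finrank_span_two_le p d
  have h3 := Submodule.finrank_mono hle
  rw [← (Submodule.equivMapOfInjective _
    (Classical.Quad.polarBilin_bijective hnd).1 _).finrank_eq] at h3
  have h4 := Subspace.finrank_add_finrank_dualAnnihilator_eq S
  rw [Module.finrank_fintype_fun_eq_card] at h4
  have hpS : Disjoint S (Submodule.span F {p}) := by
    rw [disjoint_iff, Submodule.eq_bot_iff]
    rintro x ⟨hx1, hx2⟩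
    obtain ⟨c, rfl⟩ := Submodule.mem_span_singleton.1 hx2
    have := hz _ hx1
    rw [QuadraticMap.map_smul, smul_eq_mul, mul_eq_zero, or_iff_left hp, mul_self_eq_zero] at this
    rw [this, zero_smul]
  have h5 := Submodule.finrank_sup_add_finrank_inf_eq S (Submodule.span F {p})
  rw [disjoint_iff.1 hpS, finrank_bot, finrank_span_singleton (fun e => hp (by rw [e,
    QuadraticMap.map_zero]))] at h5
  have h1' : Fintype.card ι ≤ Module.finrank F S + Module.finrank F D := h1
  have h2' : Module.finrank F D ≤ 2 := h2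
  have h3' : Module.finrank F ↥(S ⊔ Submodule.span F {p}) ≤ Module.finrank F S.dualAnnihilator := h3
  have h4' : Module.finrank F S + Module.finrank F S.dualAnnihilator = Fintype.card ι := h4
  clear h1 h2 h3 h4
  omega

/-- An additive group containing the singular vectors of a non-singular hyperplane contains it. -/
lemma perp_mem [Fintype F] (hnd : NDPolar Q) (h2 : (2 : F) ≠ 0) (hn : Fintype.card ι = 4)
    {r : ι → F} (hr : Q r ≠ 0) (S : AddSubgroup (ι → F))
    (hS : ∀ z, Q z = 0 → polar Q z r = 0 → z ∈ S) {x : ι → F} (hx : polar Q x r = 0) : x ∈ S := by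
  have hd : ∀ z, polar Q z r = 0 → ∀ d ∈ Submodule.span F {r}, polar Q z d = 0 := fun z hz d hd => by
    obtain ⟨c, rfl⟩ := Submodule.mem_span_singleton.1 hd
    rw [polar_smul_right, hz, smul_zero]
  obtain ⟨v, hQv, hv0, hv⟩ := QuadSmall.exists_perp_three (Q := Q) h2 (Submodule.span F {r})
    (by rw [finrank_span_singleton (fun e => hr (by rw [e, QuadraticMap.map_zero]))]; omega)
  refine QuadSmall.perp_le_of_point hnd hQv (fun h => hv0 ?_) hv S
    (fun z hz hzd => hS z hz (hzd r (Submodule.mem_span_singleton_self r))) (hd x hx)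
  obtain ⟨c, rfl⟩ := Submodule.mem_span_singleton.1 h
  rw [QuadraticMap.map_smul, smul_eq_mul, mul_eq_zero, or_iff_left hr, mul_self_eq_zero] at hQv
  rw [hQv, zero_smul]

variable [DecidableEq F]

/-- The reflection in a non-singular vector. -/
def refl (Q : QuadraticForm F (ι → F)) (a : ι → F) : GL ι F :=
  MonG.psGL a ((2 * Q a)⁻¹ • Om.dual (⇑Q) a) (-1)

lemma refl_dot (hnd : NDPolar Q) (h2 : (2 : F) ≠ 0) {a : ι → F} (ha : Q a ≠ 0) :
    ((2 * Q a)⁻¹ • Om.dual (⇑Q) a) ⬝ᵥ a = 1 := by
  rw [smul_dotProduct, Om.dual_dot (isNondegenerateQuadraticForm hnd), polar_self2, smul_eq_mul,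
    inv_mul_cancel₀ (mul_ne_zero h2 ha)]

lemma refl_mulVec (hnd : NDPolar Q) (h2 : (2 : F) ≠ 0) {a : ι → F} (ha : Q a ≠ 0) (x : ι → F) :
    (refl Q a : Matrix ι ι F) *ᵥ x = x - (polar Q x a / Q a) • a := by
  rw [refl, MonG.psGL_mulVec (refl_dot hnd h2 ha) (neg_ne_zero.2 one_ne_zero), smul_dotProduct,
    Om.dual_dot (isNondegenerateQuadraticForm hnd), smul_eq_mul, sub_eq_add_neg x, ← neg_smul]
  congr 2
  field_simp
  ring

lemma refl_iso (hnd : NDPolar Q) (h2 : (2 : F) ≠ 0) {a : ι → F} (ha : Q a ≠ 0) (x : ι → F) :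
    Q ((refl Q a : Matrix ι ι F) *ᵥ x) = Q x := by
  rw [refl_mulVec hnd h2 ha, sub_eq_add_neg, ← neg_smul, QuadraticMap.map_add Q,
    QuadraticMap.map_smul, polar_smul_right, smul_eq_mul, smul_eq_mul]
  field_simp
  ring

lemma refl_det (hnd : NDPolar Q) (h2 : (2 : F) ≠ 0) {a : ι → F} (ha : Q a ≠ 0) :
    Matrix.det (refl Q a : Matrix ι ι F) = -1 := by
  rw [refl, MonG.psGL, dif_pos ⟨refl_dot hnd h2 ha, neg_ne_zero.2 one_ne_zero⟩]
  change Matrix.det (1 + ((-1 : F) - 1) • vecMulVec a ((2 * Q a)⁻¹ • Om.dual (⇑Q) a)) = -1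
  rw [← smul_vecMulVec, vecMulVec_eq Unit, det_one_add_replicateCol_mul_replicateRow,
    dotProduct_smul, refl_dot hnd h2 ha, smul_eq_mul, mul_one]
  ring

/-- The special orthogonal group is in `M`. -/
def HasSO (Q : QuadraticForm F (ι → F)) (M : Subgroup (GL ι F)) : Prop :=
  ∀ h : GL ι F, (∀ x, Q ((h : Matrix ι ι F) *ᵥ x) = Q x) → h ∈ specialLinear ι F → h ∈ M

variable {M : Subgroup (GL ι F)}

lemma pair_sl (hnd : NDPolar Q) (h2 : (2 : F) ≠ 0) {a b : ι → F} (ha : Q a ≠ 0) (hb : Q b ≠ 0) :
    refl Q a * refl Q b ∈ specialLinear ι F := by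
  rw [specialLinear, MonoidHom.mem_ker]
  refine Units.ext ?_
  simp [refl_det hnd h2 ha, refl_det hnd h2 hb]

lemma pair_mem (hnd : NDPolar Q) (h2 : (2 : F) ≠ 0) (hSO : HasSO Q M) {a b : ι → F} (ha : Q a ≠ 0)
    (hb : Q b ≠ 0) : refl Q a * refl Q b ∈ M :=
  hSO _ (fun x => by rw [gl_mulVec_mul, refl_iso hnd h2 ha, refl_iso hnd h2 hb])
    (pair_sl hnd h2 ha hb)

lemma tq_pair (hnd : NDPolar Q) (h2 : (2 : F) ≠ 0) (hSO : HasSO Q M) {v r a b : ι → F}
    (hvr : polar Q v r = 0) (ht : tq Q v r ∈ M) (ha : Q a ≠ 0) (hb : Q b ≠ 0) :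
    tq Q ((refl Q a * refl Q b : GL ι F) *ᵥ v) ((refl Q a * refl Q b : GL ι F) *ᵥ r) ∈ M := by
  set h := refl Q a * refl Q b
  have hiso : ∀ x, Q ((h : Matrix ι ι F) *ᵥ x) = Q x := fun x => by
    rw [gl_mulVec_mul, refl_iso hnd h2 ha, refl_iso hnd h2 hb]
  have hpol : ∀ x y, polar Q ((h : Matrix ι ι F) *ᵥ x) ((h : Matrix ι ι F) *ᵥ y) = polar Q x y :=
    fun x y => polar_of_iso (G := Matrix.mulVecLin (h : Matrix ι ι F)) hiso x y
  have hmem : h ∈ M := pair_mem hnd h2 hSO ha hb
  clear_value h
  have : tq Q ((h : Matrix ι ι F) *ᵥ v) ((h : Matrix ι ι F) *ᵥ r) = h * tq Q v r * h⁻¹ := by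
    refine gl_ext_mulVec fun x => ?_
    rw [gl_mulVec_mul, gl_mulVec_mul, tq_mulVec hnd (by rw [hpol, hvr]), tq_mulVec hnd hvr,
      mulVec_add, mulVec_smul, gl_mulVec_inv_mulVec]
    conv_lhs => rw [← gl_mulVec_inv_mulVec h x, hpol]
    rw [gl_mulVec_inv_mulVec]
  rw [this]
  exact M.mul_mem (M.mul_mem hmem ht) (M.inv_mem hmem)

lemma tq_swap_smul (hnd : NDPolar Q) {v r : ι → F} (h : polar Q v r = 0) (c : F) :
    tq Q (c • v) r = tq Q v (c • r) := by
  refine gl_ext_mulVec fun x => ?_
  rw [tq_mulVec hnd (by rw [polar_smul_left, h, smul_zero]), tq_mulVec hnd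
    (by rw [polar_smul_right, h, smul_zero]), polar_smul_right, smul_smul, smul_eq_mul, mul_comm]

/-- An additive group stable under the reflection rule is the whole hyperplane. -/
lemma rule_all [Fintype F] (hnd : NDPolar Q) (h2 : (2 : F) ≠ 0) (hn : Fintype.card ι = 4)
    {r : ι → F} (hr : Q r ≠ 0) (S : AddSubgroup (ι → F)) (hperp : ∀ z ∈ S, polar Q z r = 0)
    (hrule : ∀ z ∈ S, ∀ b, Q b ≠ 0 → polar Q b r = 0 → (polar Q z b / Q b) • b ∈ S)
    {x₀ : ι → F} (hx₀ : x₀ ∈ S) (hx₀0 : x₀ ≠ 0) {x : ι → F} (hx : polar Q x r = 0) : x ∈ S := by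
  have hsing : ∀ z ∈ S, ∀ e, Q e = 0 → polar Q e r = 0 → polar Q z e ≠ 0 → ∀ s : F, s • e ∈ S := by
    intro z hz e he her hze s
    obtain ⟨g₀, hg, hgr, hge⟩ := exists_nonsing_pair hnd hn hr e
    set K := 2 * polar Q z e / Q g₀ with hK
    have hK0 : K ≠ 0 := div_ne_zero (mul_ne_zero h2 hze) hg
    have hb : ∀ t : F, (polar Q z (g₀ + t • e) / Q g₀) • (g₀ + t • e) ∈ S := fun t => by
      have hQ : Q (g₀ + t • e) = Q g₀ := by
        rw [Classical.Quad.Q_comb1, he, hge]; ring
      have := hrule z hz (g₀ + t • e) (by rw [hQ]; exact hg)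
        (by rw [polar_add_left, polar_smul_left, hgr, her, smul_zero, add_zero])
      rwa [hQ] at this
    have hsq : ∀ t : F, (K * (t * t)) • e ∈ S := by
      intro t
      have h3 := S.sub_mem (S.sub_mem (S.add_mem (hb t) (hb (-t))) (hb 0)) (hb 0)
      simp only [polar_add_right, polar_smul_right, smul_eq_mul] at h3
      refine (Eq.mp (congrArg (· ∈ S) ?_) h3)
      rw [hK]; module
    have h3 := S.sub_mem (hsq ((s / K + 1) / 2)) (hsq ((s / K - 1) / 2))
    rw [← sub_smul] at h3
    convert h3 using 2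
    field_simp
    ring
  obtain ⟨e, he, her, hxe⟩ : ∃ e, Q e = 0 ∧ polar Q e r = 0 ∧ polar Q x₀ e ≠ 0 := by
    by_contra hcon
    push Not at hcon
    refine hx₀0 (hnd x₀ fun y => ?_)
    have h1 := perp_mem hnd h2 hn hr (LinearMap.ker ((polarBilin Q) x₀)).toAddSubgroup
      (fun z hz hzr => LinearMap.mem_ker.2 (hcon z hz hzr))
      (x := y - (polar Q y r / (2 * Q r)) • r)
      (by rw [polar_sub_left, polar_smul_left, polar_self2, smul_eq_mul,
        div_mul_cancel₀ _ (mul_ne_zero h2 hr), sub_self])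
    have h1' : polar Q x₀ (y - (polar Q y r / (2 * Q r)) • r) = 0 := LinearMap.mem_ker.1 h1
    rwa [polar_sub_right, polar_smul_right, hperp x₀ hx₀, smul_zero, sub_zero] at h1'
  have heS : e ∈ S := by simpa using hsing x₀ hx₀ e he her hxe 1
  have he0 : e ≠ 0 := fun h => hxe (by rw [h, polar_zero_right])
  refine perp_mem hnd h2 hn hr S (fun z hz hzr => ?_) hx
  by_cases hez : polar Q e z = 0
  swap
  · simpa using hsing e heS z hz hzr hez 1
  by_cases hzS : z ∈ Submodule.span F {e}
  · obtain ⟨c, rfl⟩ := Submodule.mem_span_singleton.1 hzS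
    exact hsing x₀ hx₀ e he her hxe c
  exfalso
  obtain ⟨y, hzy, hy⟩ := exists_dual_vec hnd (D := Submodule.span F {e, r}) (x := z) (fun h => hzS (by
    obtain ⟨a, b, rfl⟩ := Submodule.mem_span_pair.1 h
    rw [polar_add_left, polar_smul_left, polar_smul_left, her, polar_self2, smul_eq_mul,
      smul_eq_mul, mul_zero, zero_add, mul_eq_zero, or_iff_left (mul_ne_zero h2 hr)] at hzr
    exact Submodule.mem_span_singleton.2 ⟨a, by rw [hzr, zero_smul, add_zero]⟩))
  have hey : polar Q e y = 0 := hy e (Submodule.subset_span (by simp))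
  have hry : polar Q r y = 0 := hy r (Submodule.subset_span (by simp))
  -- `e, z, y, r` would give a totally singular plane in a non-degenerate three-space
  obtain ⟨g₀, hg, hgr, hge⟩ := exists_nonsing_pair hnd hn hr e
  obtain ⟨w, hew, hw⟩ := exists_dual_vec hnd (D := Submodule.span F {r, g₀}) (x := e) (fun h => he0 (by
    obtain ⟨a, b, rfl⟩ := Submodule.mem_span_pair.1 h
    have h1 := her
    have h3 := hge
    rw [polar_add_left, polar_smul_left, polar_smul_left, hgr, polar_self2, smul_eq_mul,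
      smul_eq_mul, mul_zero, add_zero, mul_eq_zero, or_iff_left (mul_ne_zero h2 hr)] at h1
    rw [polar_add_right, polar_smul_right, polar_smul_right, h1, polar_self2, smul_eq_mul,
      smul_eq_mul, zero_mul, zero_add, mul_eq_zero, or_iff_left (mul_ne_zero h2 hg)] at h3
    rw [h1, h3, zero_smul, zero_smul, add_zero]))
  have hrw : polar Q r w = 0 := hw r (Submodule.subset_span (by simp))
  have hgw : polar Q g₀ w = 0 := hw g₀ (Submodule.subset_span (by simp))
  have hee := Classical.Quad.polar_singular_self he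
  have hli : LinearIndependent F ![e, w, g₀, r] := by
    refine Fintype.linearIndependent_iff.2 fun c hc => ?_
    simp only [Fin.sum_univ_four, Matrix.cons_val_zero, Matrix.cons_val_one, Matrix.cons_val_two,
      Matrix.cons_val_three, Matrix.head_cons, Matrix.tail_cons] at hc
    have k1 := congrArg (fun u => polar Q u e) hc
    simp [polar_add_left, polar_smul_left, hee, polar_comm Q w e, hew, hge, polar_comm Q r e, her] at k1
    have k2 := congrArg (fun u => polar Q u g₀) hc
    simp [polar_add_left, polar_smul_left, polar_comm Q e g₀, hge, polar_comm Q w g₀, hgw,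
      polar_comm Q r g₀, hgr, polar_self2, h2, hg] at k2
    have k3 := congrArg (fun u => polar Q u r) hc
    simp [polar_add_left, polar_smul_left, her, polar_comm Q w r, hrw, hgr, polar_self2, h2, hr] at k3
    rw [k1, k2, k3, zero_smul, zero_smul, zero_smul, add_zero, add_zero, add_zero, smul_eq_zero,
      or_iff_left he0] at hc
    intro i
    fin_cases i <;> assumption
  have htop := hli.span_eq_top_of_card_eq_finrank' (by
    rw [Module.finrank_fintype_fun_eq_card, hn, Fintype.card_fin])
  obtain ⟨c, hc⟩ := (Submodule.mem_span_range_iff_exists_fun F).1 (htop ▸ Submodule.mem_top : z ∈ _)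
  simp only [Fin.sum_univ_four, Matrix.cons_val_zero, Matrix.cons_val_one, Matrix.cons_val_two,
    Matrix.cons_val_three, Matrix.head_cons, Matrix.tail_cons] at hc
  have k1 := congrArg (fun u => polar Q u e) hc
  simp [polar_add_left, polar_smul_left, hee, polar_comm Q w e, hew, hge, polar_comm Q r e, her,
    polar_comm Q z e, hez] at k1
  have k3 := congrArg (fun u => polar Q u r) hc
  simp [polar_add_left, polar_smul_left, her, polar_comm Q w r, hrw, hgr, polar_self2, h2, hr, hzr] at k3
  rw [k1, k3, zero_smul, zero_smul, add_zero, add_zero] at hc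
  rw [← hc, QuadraticMap.map_add Q, QuadraticMap.map_smul, QuadraticMap.map_smul, he,
    polar_smul_left, polar_smul_right, polar_comm Q e g₀, hge] at hz
  simp [hg] at hz
  rw [hz, zero_smul, add_zero] at hc
  exact hzS (Submodule.mem_span_singleton.2 ⟨c 0, hc⟩)

lemma tq_add_left (hnd : NDPolar Q) {v v' r : ι → F} (h : polar Q v r = 0) (h' : polar Q v' r = 0) :
    tq Q (v + v') r = tq Q v r * tq Q v' r := gl_ext_mulVec fun x => by
  rw [gl_mulVec_mul, tq_mulVec hnd h', tq_mulVec hnd h, tq_mulVec hnd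
    (by rw [polar_add_left, h, h', add_zero]), polar_add_left, polar_smul_left, h', smul_zero,
    add_zero, smul_add]
  abel

lemma tq_add_right (hnd : NDPolar Q) {v r r' : ι → F} (h : polar Q v r = 0) (h' : polar Q v r' = 0) :
    tq Q v (r + r') = tq Q v r * tq Q v r' := gl_ext_mulVec fun x => by
  rw [gl_mulVec_mul, tq_mulVec hnd h', tq_mulVec hnd h, tq_mulVec hnd
    (by rw [polar_add_right, h, h', add_zero]), polar_add_left, polar_smul_left, h, smul_zero,
    add_zero, polar_add_right, add_smul]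
  abel

lemma tq_zero_left (hnd : NDPolar Q) (r : ι → F) : tq Q 0 r = 1 :=
  gl_ext_mulVec fun x => by simp [tq_mulVec hnd (polar_zero_left Q r)]

lemma tq_zero_right (hnd : NDPolar Q) (v : ι → F) : tq Q v 0 = 1 :=
  gl_ext_mulVec fun x => by simp [tq_mulVec hnd (polar_zero_right Q v)]

/-- With a non-singular axis vector, the centres fill the hyperplane. -/
lemma fill_left [Fintype F] (hnd : NDPolar Q) (h2 : (2 : F) ≠ 0) (hn : Fintype.card ι = 4)
    (hSO : HasSO Q M) {v r : ι → F} (hr : Q r ≠ 0) (hv : v ≠ 0) (hvr : polar Q v r = 0)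
    (ht : tq Q v r ∈ M) {x : ι → F} (hx : polar Q x r = 0) : tq Q x r ∈ M := by
  let S : AddSubgroup (ι → F) :=
    { carrier := {z | polar Q z r = 0 ∧ tq Q z r ∈ M}
      add_mem' := fun {a b} ha hb => ⟨by rw [polar_add_left, ha.1, hb.1, add_zero],
        tq_add_left hnd ha.1 hb.1 ▸ M.mul_mem ha.2 hb.2⟩
      zero_mem' := ⟨polar_zero_left Q r, by rw [tq_zero_left hnd]; exact M.one_mem⟩
      neg_mem' := fun {a} ha => ⟨by rw [polar_neg_left, ha.1, neg_zero], by
        have h := tq_add_left hnd ha.1 (show polar Q (-a) r = 0 by rw [polar_neg_left, ha.1, neg_zero])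
        rw [add_neg_cancel, tq_zero_left hnd] at h
        rw [← inv_eq_of_mul_eq_one_right h.symm]
        exact M.inv_mem ha.2⟩ }
  refine (rule_all hnd h2 hn hr S (fun z hz => hz.1) (fun z hz b hb hbr => ?_) (x₀ := v) ⟨hvr, ht⟩ hv hx).2
  have h1 := tq_pair hnd h2 hSO hz.1 hz.2 hr hb
  have e1 : (refl Q r * refl Q b : GL ι F) *ᵥ z = z - (polar Q z b / Q b) • b := by
    rw [gl_mulVec_mul, refl_mulVec hnd h2 hb, refl_mulVec hnd h2 hr, polar_sub_left,
      polar_smul_left, hz.1, hbr]
    simp
  have e2 : (refl Q r * refl Q b : GL ι F) *ᵥ r = (-1 : F) • r := by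
    rw [gl_mulVec_mul, refl_mulVec hnd h2 hb, polar_comm Q r b, hbr, zero_div, zero_smul, sub_zero,
      refl_mulVec hnd h2 hr, polar_self2, mul_div_assoc, div_self hr, mul_one]
    module
  have hp : polar Q (z - (polar Q z b / Q b) • b) r = 0 := by
    rw [polar_sub_left, polar_smul_left, hz.1, hbr, smul_zero, sub_zero]
  rw [e1, e2, ← tq_swap_smul hnd hp] at h1
  have hmem : ((-1 : F) • (z - (polar Q z b / Q b) • b)) ∈ S :=
    ⟨by rw [polar_smul_left, hp, smul_zero], h1⟩
  have := S.add_mem hz hmem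
  rwa [show z + (-1 : F) • (z - (polar Q z b / Q b) • b) = (polar Q z b / Q b) • b by module] at this

/-- With a non-singular centre, the axes fill the hyperplane. -/
lemma fill_right [Fintype F] (hnd : NDPolar Q) (h2 : (2 : F) ≠ 0) (hn : Fintype.card ι = 4)
    (hSO : HasSO Q M) {v r : ι → F} (hv : Q v ≠ 0) (hr : r ≠ 0) (hvr : polar Q v r = 0)
    (ht : tq Q v r ∈ M) {x : ι → F} (hx : polar Q v x = 0) : tq Q v x ∈ M := by
  let S : AddSubgroup (ι → F) :=
    { carrier := {z | polar Q v z = 0 ∧ tq Q v z ∈ M}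
      add_mem' := fun {a b} ha hb => ⟨by rw [polar_add_right, ha.1, hb.1, add_zero],
        tq_add_right hnd ha.1 hb.1 ▸ M.mul_mem ha.2 hb.2⟩
      zero_mem' := ⟨polar_zero_right Q v, by rw [tq_zero_right hnd]; exact M.one_mem⟩
      neg_mem' := fun {a} ha => ⟨by rw [polar_neg_right, ha.1, neg_zero], by
        have h := tq_add_right hnd ha.1 (show polar Q v (-a) = 0 by rw [polar_neg_right, ha.1, neg_zero])
        rw [add_neg_cancel, tq_zero_right hnd] at h
        rw [← inv_eq_of_mul_eq_one_right h.symm]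
        exact M.inv_mem ha.2⟩ }
  refine (rule_all hnd h2 hn hv S (fun z hz => by rw [polar_comm]; exact hz.1)
    (fun z hz b hb hbv => ?_) (x₀ := r) ⟨hvr, ht⟩ hr (x := x) (by rw [polar_comm]; exact hx)).2
  have h1 := tq_pair hnd h2 hSO hz.1 hz.2 hv hb
  have e1 : (refl Q v * refl Q b : GL ι F) *ᵥ z = z - (polar Q z b / Q b) • b := by
    rw [gl_mulVec_mul, refl_mulVec hnd h2 hb, refl_mulVec hnd h2 hv, polar_sub_left,
      polar_smul_left, polar_comm Q z v, hz.1, hbv]
    simp
  have e2 : (refl Q v * refl Q b : GL ι F) *ᵥ v = (-1 : F) • v := by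
    rw [gl_mulVec_mul, refl_mulVec hnd h2 hb, polar_comm Q v b, hbv, zero_div, zero_smul, sub_zero,
      refl_mulVec hnd h2 hv, polar_self2, mul_div_assoc, div_self hv, mul_one]
    module
  have hp : polar Q v (z - (polar Q z b / Q b) • b) = 0 := by
    rw [polar_sub_right, polar_smul_right, hz.1, polar_comm Q v b, hbv, smul_zero, sub_zero]
  rw [e1, e2, tq_swap_smul hnd hp] at h1
  have hmem : ((-1 : F) • (z - (polar Q z b / Q b) • b)) ∈ S :=
    ⟨by rw [polar_smul_right, hp, smul_zero], h1⟩
  have := S.add_mem hz hmem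
  rwa [show z + (-1 : F) • (z - (polar Q z b / Q b) • b) = (polar Q z b / Q b) • b by module] at this

/-- One transvection and the special orthogonal group generate. -/
theorem sl_le_of_tq [Fintype F] (hnd : NDPolar Q) (h2 : (2 : F) ≠ 0) (hn : Fintype.card ι = 4)
    (hSO : HasSO Q M) {v₀ r₀ : ι → F} (hv₀ : v₀ ≠ 0) (hr₀ : r₀ ≠ 0) (hvr : polar Q v₀ r₀ = 0)
    (ht : tq Q v₀ r₀ ∈ M) : specialLinear ι F ≤ M := by
  -- a non-singular centre
  obtain ⟨v, r, hv, hr, hvr', ht'⟩ : ∃ v r, Q v ≠ 0 ∧ r ≠ 0 ∧ polar Q v r = 0 ∧ tq Q v r ∈ M := by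
    by_cases hQv : Q v₀ ≠ 0
    · exact ⟨v₀, r₀, hQv, hr₀, hvr, ht⟩
    push Not at hQv
    by_cases hQr : Q r₀ ≠ 0
    · obtain ⟨a, ha, har, -⟩ := exists_nonsing_pair hnd hn hQr r₀
      exact ⟨a, r₀, ha, hr₀, har, fill_left hnd h2 hn hSO hQr hv₀ hvr ht har⟩
    push Not at hQr
    have hrr := Classical.Quad.polar_singular_self hQr
    obtain ⟨c, hc, htc⟩ : ∃ c : F, c ≠ 0 ∧ tq Q (c • r₀) r₀ ∈ M := by
      by_cases hl : v₀ ∈ Submodule.span F {r₀}
      · obtain ⟨c, rfl⟩ := Submodule.mem_span_singleton.1 hl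
        exact ⟨c, fun e => hv₀ (by rw [e, zero_smul]), ht⟩
      obtain ⟨y, hvy, hy⟩ := exists_dual_vec hnd hl
      have hyr : polar Q r₀ y = 0 := hy r₀ (Submodule.mem_span_singleton_self r₀)
      obtain ⟨a, ha, har, hva⟩ : ∃ a, Q a ≠ 0 ∧ polar Q r₀ a = 0 ∧ polar Q v₀ a = 1 := by
        by_cases hQy : Q y = 0
        · refine ⟨y + (1 : F) • v₀, ?_, ?_, ?_⟩
          · rw [Classical.Quad.Q_comb1, hQy, hQv, polar_comm Q y v₀, hvy]; simp
          · rw [polar_add_right, polar_smul_right, hyr, polar_comm Q r₀ v₀, hvr]; simp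
          · rw [polar_add_right, polar_smul_right, hvy, Classical.Quad.polar_singular_self hQv]; simp
        · exact ⟨y, hQy, hyr, hvy⟩
      have hra : polar Q a r₀ = 0 := by rw [polar_comm, har]
      set b := a + (1 : F) • r₀
      have hQb : Q b = Q a := by
        simp only [b]; rw [Classical.Quad.Q_comb1, hQr, hra]; ring
      have hb : Q b ≠ 0 := hQb ▸ ha
      have h1 := tq_pair hnd h2 hSO hvr ht ha hb
      have e1 : (refl Q a * refl Q b : GL ι F) *ᵥ r₀ = r₀ := by
        rw [gl_mulVec_mul, refl_mulVec hnd h2 hb]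
        simp only [b, polar_add_right, polar_smul_right, har, hrr, smul_zero, add_zero, zero_div,
          zero_smul, sub_zero]
        rw [refl_mulVec hnd h2 ha, har, zero_div, zero_smul, sub_zero]
      have e2 : (refl Q a * refl Q b : GL ι F) *ᵥ v₀ = v₀ + (-(Q a)⁻¹) • r₀ := by
        rw [gl_mulVec_mul, refl_mulVec hnd h2 hb, refl_mulVec hnd h2 ha, hQb]
        simp only [b, polar_sub_left, polar_smul_left, polar_add_right, polar_smul_right,
          polar_add_left, hva, hvr, hra, har, polar_self2, smul_eq_mul]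
        rw [show (1 + 1 * 0 : F) = 1 by ring]
        match_scalars <;> field_simp <;> ring
      rw [e1, e2, tq_add_left hnd hvr (by rw [polar_smul_left, hrr, smul_zero])] at h1
      refine ⟨-(Q a)⁻¹, neg_ne_zero.2 (inv_ne_zero ha), ?_⟩
      simpa using M.mul_mem (M.inv_mem ht) h1
    obtain ⟨y, hey, -⟩ := exists_dual_vec hnd (D := ⊥) (x := r₀) (by simpa using hr₀)
    set f := y + (-(Q y)) • r₀ with hf
    have hQf : Q f = 0 := by rw [hf, Classical.Quad.Q_comb1, hQr, polar_comm Q y r₀, hey]; ring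
    have hef : polar Q r₀ f = 1 := by
      rw [hf, polar_add_right, polar_smul_right, hrr, hey]; simp
    have hff := Classical.Quad.polar_singular_self hQf
    clear_value f
    set d := r₀ + (-1 : F) • f with hd
    have hQd : Q d = -1 := by
      rw [hd, Classical.Quad.Q_comb1, hQr, hQf, hef]; ring
    have hd0 : Q d ≠ 0 := by rw [hQd]; exact neg_ne_zero.2 one_ne_zero
    obtain ⟨g₀, hg, -, hgf⟩ := exists_nonsing_pair hnd hn hd0 f
    have hce : polar Q (c • r₀) r₀ = 0 := by rw [polar_smul_left, hrr, smul_zero]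
    have h1 := tq_pair hnd h2 hSO hce htc hg hd0
    have e1 : (refl Q g₀ * refl Q d : GL ι F) *ᵥ r₀ = f := by
      rw [gl_mulVec_mul, refl_mulVec hnd h2 hd0,
        show polar Q r₀ d = -1 by rw [hd, polar_add_right, polar_smul_right, hrr, hef]; simp,
        hQd, show r₀ - ((-1 : F) / -1) • d = f by rw [hd, div_self (neg_ne_zero.2 one_ne_zero)]; module,
        refl_mulVec hnd h2 hg, polar_comm Q f g₀, hgf, zero_div, zero_smul, sub_zero]
    rw [mulVec_smul, e1] at h1
    -- conjugate the first transvection by the second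
    have hcf : polar Q (c • f) f = 0 := by rw [polar_smul_left, hff, smul_zero]
    set a := c • r₀ + (c * c) • f
    set β := r₀ + (-c) • f
    have hab : polar Q a β = 0 := by
      simp only [a, β, polar_add_left, polar_add_right, polar_smul_left, polar_smul_right, hrr, hef,
        hff, polar_comm Q f r₀, smul_eq_mul]
      ring
    refine ⟨a, β, ?_, fun e => ?_, hab, ?_⟩
    · simp only [a]
      rw [QuadraticMap.map_add Q, QuadraticMap.map_smul, QuadraticMap.map_smul, hQr, hQf,
        polar_smul_left, polar_smul_right, hef]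
      simp [hc]
    · have := congrArg (fun u => polar Q u f) e
      simp [β, polar_add_left, polar_smul_left, hef, hff] at this
    · have : tq Q a β = tq Q (c • f) f * tq Q (c • r₀) r₀ * (tq Q (c • f) f)⁻¹ := by
        rw [eq_mul_inv_iff_mul_eq]
        refine gl_ext_mulVec fun x => ?_
        simp only [gl_mulVec_mul, tq_mulVec hnd hcf, tq_mulVec hnd hce, tq_mulVec hnd hab]
        simp only [a, β, polar_add_left, polar_add_right, polar_smul_left, polar_smul_right, hef,
          hff, polar_comm Q f r₀, smul_eq_mul]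
        module
      rw [this]
      exact M.mul_mem (M.mul_mem h1 htc) (M.inv_mem h1)
  have hQ := isNondegenerateQuadraticForm hnd
  have hvC : v ∈ Unit.centres M := by
    intro φ hφ
    let L : (ι → F) →ₗ[F] F :=
      { toFun := fun z => φ ⬝ᵥ z
        map_add' := fun a b => dotProduct_add φ a b
        map_smul' := fun a b => by simp [dotProduct_smul] }
    obtain ⟨w, hw⟩ := Classical.Quad.exists_polar hnd L
    have hvw : polar Q v w = 0 := by rw [polar_comm, hw]; exact hφ
    have e : tvGL v φ = tq Q v w := gl_ext_mulVec fun z => by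
      rw [tvGL_mulVec hφ, tq_mulVec hnd hvw, polar_comm Q z w, hw]; rfl
    rw [e]
    exact fill_right hnd h2 hn hSO hv hr hvr' ht' hvw
  have hmove : ∀ a, Q a ≠ 0 → polar Q v a ≠ 0 → a ∈ Unit.centres M := by
    intro a ha hva
    obtain ⟨b, hb, hbv, -⟩ := exists_nonsing_pair hnd hn hv v
    have h1 := Submodule.sub_mem _ hvC
      (Unit.mulVec_mem_centres (pair_mem hnd h2 hSO ha hb) hvC)
    rw [gl_mulVec_mul, refl_mulVec hnd h2 hb, polar_comm Q v b, hbv, zero_div, zero_smul, sub_zero,
      refl_mulVec hnd h2 ha, sub_sub_cancel] at h1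
    exact (Submodule.smul_mem_iff _ (div_ne_zero hva ha)).1 h1
  have htop : Unit.centres M = ⊤ := by
    rw [eq_top_iff]
    intro y _
    set k := polar Q y v / (2 * Q v)
    have h1 := perp_mem hnd h2 hn hv (Unit.centres M).toAddSubgroup (fun z hz hzv => by
        have h := hmove (z + (1 : F) • v)
          (by rw [Classical.Quad.Q_comb1, hz, hzv]; simpa using hv)
          (by rw [polar_add_right, polar_smul_right, polar_comm Q v z, hzv, polar_self2]
              simpa using mul_ne_zero h2 hv)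
        rw [one_smul] at h
        exact (Submodule.add_mem_iff_left _ hvC).1 h)
      (x := y - k • v) (by rw [polar_sub_left, polar_smul_left, polar_self2, smul_eq_mul,
        div_mul_cancel₀ _ (mul_ne_zero h2 hv), sub_self])
    simpa using Submodule.add_mem _ (h1 : y - k • v ∈ Unit.centres M) (Submodule.smul_mem _ k hvC)
  exact sl_le_of_tvGL fun u φ hφ => (htop ▸ Submodule.mem_top : u ∈ Unit.centres M) φ hφ

/-- The pullback of `Q` by `g`. -/
def pull (Q : QuadraticForm F (ι → F)) (g : GL ι F) : QuadraticForm F (ι → F) :=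
  Q.comp (Matrix.toLin' (g : Matrix ι ι F))

lemma pull_apply (g : GL ι F) (x : ι → F) : pull Q g x = Q ((g : Matrix ι ι F) *ᵥ x) := rfl

lemma pull_polar (g : GL ι F) (x y : ι → F) :
    polar (pull Q g) x y = polar Q ((g : Matrix ι ι F) *ᵥ x) ((g : Matrix ι ι F) *ᵥ y) := by
  simp only [polar, pull_apply, mulVec_add]

lemma pull_nd (hnd : NDPolar Q) (g : GL ι F) : NDPolar (pull Q g) := fun x hx => by
  refine gl_mulVec_injective g ?_
  change (g : Matrix ι ι F) *ᵥ x = (g : Matrix ι ι F) *ᵥ 0
  rw [mulVec_zero]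
  refine hnd _ fun y => ?_
  have := hx (((g⁻¹ : GL ι F) : Matrix ι ι F) *ᵥ y)
  rwa [pull_polar, gl_mulVec_inv_mulVec] at this

lemma hasSO_pull (hSO : HasSO Q M) {g : GL ι F} (hg : g ∈ M) : HasSO (pull Q g) M := by
  intro h hh hsl
  have h1 : g * h * g⁻¹ ∈ M := by
    refine hSO _ (fun x => ?_) ?_
    · rw [gl_mulVec_mul, gl_mulVec_mul, ← pull_apply, hh, pull_apply, gl_mulVec_inv_mulVec]
    · rw [specialLinear, MonoidHom.mem_ker] at hsl ⊢
      rw [map_mul, map_mul, hsl, mul_one, ← map_mul, mul_inv_cancel, map_one]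
  have := M.mul_mem (M.mul_mem (M.inv_mem hg) h1) hg
  simpa [mul_assoc] using this

/-- Two common orthogonal vectors give a transvection. -/
theorem sl_le_of_pair [Fintype F] (hnd : NDPolar Q) (h2 : (2 : F) ≠ 0) (hn : Fintype.card ι = 4)
    (hSO : HasSO Q M) {G : QuadraticForm F (ι → F)} (hndG : NDPolar G) (hSG : HasSO G M)
    {p a : ι → F} (hGp : G p = 0) (hQp : Q p ≠ 0) (hpa : polar Q p a = 0) (hpaG : polar G p a = 0)
    (hQa : Q a ≠ 0) (hGa : G a ≠ 0) : specialLinear ι F ≤ M := by
  set k := G a with hk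
  obtain ⟨p', hp'⟩ := Classical.Quad.exists_polar hnd ((polarBilin G).flip p)
  replace hp' : ∀ x, polar Q x p' = polar G x p := fun x => by
    rw [polar_comm]; exact hp' x
  have hpp := Classical.Quad.polar_singular_self hGp
  have hGb : G (a + (1 : F) • p) = k := by
    rw [Classical.Quad.Q_comb1, hGp, polar_comm G a p, hpaG]; ring
  set η := refl G a * refl G (a + (1 : F) • p)
  have hηM : η ∈ M := pair_mem hndG h2 hSG hGa (hGb.symm ▸ hGa)
  have hap : polar G a p = 0 := by rw [polar_comm, hpaG]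
  have hηx : ∀ x, (η : Matrix ι ι F) *ᵥ x
      = x + (polar G x p / k) • a + (-((polar G x a + polar G x p) / k)) • p := fun x => by
    simp only [η, gl_mulVec_mul, refl_mulVec hndG h2 hGa, refl_mulVec hndG h2 (hGb.symm ▸ hGa),
      hGb, polar_sub_left, polar_smul_left, polar_add_left, polar_add_right, polar_smul_right,
      polar_self2, hap, hpaG, smul_eq_mul, ← hk]
    match_scalars <;> field_simp <;> ring
  set h := refl Q p * refl Q a
  have hhM : h ∈ M := pair_mem hnd h2 hSO hQp hQa
  have hhx : ∀ x, (h : Matrix ι ι F) *ᵥ x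
      = x - (polar Q x a / Q a) • a - (polar Q x p / Q p) • p := fun x => by
    simp only [h, gl_mulVec_mul, refl_mulVec hnd h2 hQa, refl_mulVec hnd h2 hQp, polar_sub_left,
      polar_smul_left, polar_comm Q a p, hpa, smul_zero, sub_zero]
  set r₀ := (-2 : F) • (k⁻¹ • p' + (Q a)⁻¹ • a) with hr₀
  have hpp' : polar Q p p' = 0 := by rw [hp', hpp]
  have hpr : polar Q p r₀ = 0 := by
    simp [r₀, polar_smul_right, polar_add_right, hpp', hpa]
  refine sl_le_of_tq hnd h2 hn hSO (v₀ := p) (r₀ := r₀)
    (fun e => hQp (by rw [e, QuadraticMap.map_zero])) (fun e => ?_) hpr ?_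
  · have h1 := congrArg (fun u => polar Q a u) e
    simp [r₀, polar_smul_right, polar_add_right, hp', hap, polar_self2, hQa, h2] at h1
  have key : h * η * h * η = tq Q p r₀ := by
    refine gl_ext_mulVec fun x => ?_
    rw [tq_mulVec hnd hpr, hr₀, polar_smul_right, polar_add_right, polar_smul_right,
      polar_smul_right, hp']
    simp only [gl_mulVec_mul, hhx, hηx, polar_sub_left, polar_add_left, polar_smul_left,
      polar_self2, hpa, polar_comm Q a p, hap, hpaG, hpp, hGp, smul_eq_mul, ← hk]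
    match_scalars <;> field_simp <;> ring
  rw [← key]
  exact M.mul_mem (M.mul_mem (M.mul_mem hhM hηM) hhM) hηM

omit [DecidableEq F] in
/-- Orthogonal similarities form a maximal subgroup of the special linear group. -/
theorem similarity_maximal [Fintype F] (hnd : NDPolar Q) (h2 : (2 : F) ≠ 0)
    (hn : Fintype.card ι = 4) :
    IsMaximalIn (specialLinear ι F) (quadSimilarityGroup ⇑Q ⊓ specialLinear ι F) := by
  classical
  obtain ⟨u₀, -, hu₀, hu₀v⟩ := QuadSmall.exists_perp_three (Q := Q) h2 ⊥ (by rw [finrank_bot]; omega)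
  obtain ⟨v, hv⟩ : ∃ v, Q v ≠ 0 := by
    by_contra hcon
    push Not at hcon
    exact hu₀ (hnd u₀ fun y => by simp [polar, hcon])
  refine CfsgLib.ClassicalMax.isMaximalIn_of inf_le_right ?_ ?_
  · obtain ⟨r, hr, hrv, -⟩ := exists_nonsing_pair hnd hn hv v
    have hvr : polar Q v r = 0 := by rw [polar_comm, hrv]
    refine ⟨tq Q v r, tvGL_mem_sl _ _, fun h => ?_⟩
    obtain ⟨c, hc⟩ := h.1
    have h1 := hc v
    have h3 := hc r
    rw [tq_mulVec hnd hvr, hvr, zero_smul, add_zero] at h1
    rw [tq_mulVec hnd hvr, polar_self2, Classical.Quad.Q_comb1, hrv] at h3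
    have hc1 : (c : F) = 1 := mul_right_cancel₀ hv (h1.symm.trans (one_mul _).symm)
    rw [hc1] at h3
    exact mul_ne_zero (mul_ne_zero (mul_ne_zero h2 hr) (mul_ne_zero h2 hr)) hv
      (by linear_combination h3)
  intro M hHM hMK g hgM hgH
  have hSO : HasSO Q M := fun h hh hsl =>
    hHM ⟨⟨1, fun x => by rw [Units.val_one, one_mul]; exact hh x⟩, hsl⟩
  set Qg := pull Q g
  have hndg : NDPolar Qg := pull_nd hnd g
  have hSG : HasSO Qg M := hasSO_pull hSO hgM
  obtain ⟨p, hgp, hQp⟩ : ∃ p, Qg p = 0 ∧ Q p ≠ 0 := by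
    by_contra hcon
    push Not at hcon
    obtain ⟨e, f, hp, -, -⟩ := QuadSmall.exists_hpair hndg h2 ⊥ (by rw [finrank_bot]; omega)
      (fun x hx _ => (Submodule.mem_bot F).1 hx)
    have hQe := hcon e hp.1
    have hQf := hcon f hp.2.1
    set c := polar Q e f with hc
    have key : ∀ x, polar Qg x e = 0 → polar Qg x f = 0 →
        Q x = c * Qg x ∧ polar Q x e = Qg x * polar Q x f ∧ polar Q x f = Qg x * polar Q x e := by
      intro x hxe hxf
      have h : ∀ a b : F, a * b = -Qg x →
          Q x + a * polar Q x e + b * polar Q x f + a * b * c = 0 := fun a b hab => by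
        have h1 : Qg (x + a • e + b • f) = 0 := by
          rw [Classical.Quad.Q_comb, hp.1, hp.2.1, hxe, hxf, hp.2.2]
          linear_combination hab
        have h1' := hcon _ h1
        rw [Classical.Quad.Q_comb, hQe, hQf, ← hc] at h1'
        linear_combination h1'
      have a1 := h 1 (-Qg x) (by ring)
      have a2 := h (-1) (Qg x) (by ring)
      have a3 := h (-Qg x) 1 (by ring)
      have a4 := h (Qg x) (-1) (by ring)
      exact ⟨mul_left_cancel₀ h2 (by linear_combination a1 + a2),
        mul_left_cancel₀ h2 (by linear_combination a1 - a2),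
        mul_left_cancel₀ h2 (by linear_combination a3 - a4)⟩
    have hee := Classical.Quad.polar_singular_self (Q := Qg) hp.1
    have hff := Classical.Quad.polar_singular_self (Q := Qg) hp.2.1
    have hfe : polar Qg f e = 1 := by rw [polar_comm, hp.2.2]
    have hW : ∀ x, polar Qg x e = 0 → polar Qg x f = 0 → polar Q x e = 0 ∧ polar Q x f = 0 := by
      intro x hxe hxf
      obtain ⟨-, k1, k2⟩ := key x hxe hxf
      by_cases hqx : Qg x = 0
      · rw [k1, k2, hqx]; simp
      obtain ⟨b, hbx, hb⟩ : ∃ b, (polar Qg b e = 0 ∧ polar Qg b f = 0 ∧ polar Qg b x = 0) ∧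
          Qg b ≠ 0 := by
        by_contra hcon'
        push Not at hcon'
        set D := Submodule.span F {e, f, x}
        have hne : perpOf Qg D ≠ ⊥ := fun h => by
          have h1 := finrank_perpOf (Q := Qg) D
          rw [h, finrank_bot] at h1
          have h3 : Module.finrank F D ≤ 3 := QuadSim.finrank_span_three_le e f x
          omega
        obtain ⟨s, hs, hs0⟩ := Submodule.exists_mem_ne_zero_of_ne_bot hne
        have hse : polar Qg s e = 0 := mem_perpOf.1 hs e (Submodule.subset_span (by simp))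
        have hsf : polar Qg s f = 0 := mem_perpOf.1 hs f (Submodule.subset_span (by simp))
        have hsx : polar Qg s x = 0 := mem_perpOf.1 hs x (Submodule.subset_span (by simp))
        refine hs0 (hndg s fun y => ?_)
        set y' := y - polar Qg y f • e - polar Qg y e • f
        set y'' := y' - (polar Qg y' x / (2 * Qg x)) • x
        have m1 : polar Qg y'' e = 0 ∧ polar Qg y'' f = 0 ∧ polar Qg y'' x = 0 := by
          refine ⟨?_, ?_, ?_⟩
          · simp [y'', y', polar_sub_left, polar_smul_left, hee, hfe, hxe]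
          · simp [y'', y', polar_sub_left, polar_smul_left, hff, hp.2.2, hxf]
          · simp only [y'', polar_sub_left, polar_smul_left, polar_self2, smul_eq_mul]
            rw [div_mul_cancel₀ _ (mul_ne_zero h2 hqx), sub_self]
        have m2 := hcon' s ⟨hse, hsf, hsx⟩
        have m3 := hcon' y'' m1
        have m4 := hcon' (s + y'') ⟨by rw [polar_add_left, hse, m1.1, add_zero],
          by rw [polar_add_left, hsf, m1.2.1, add_zero], by rw [polar_add_left, hsx, m1.2.2, add_zero]⟩
        have m5 : polar Qg s y'' = 0 := by rw [polar, m4, m2, m3]; ring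
        simpa [y'', y', polar_sub_right, polar_smul_right, hse, hsf, hsx] using m5
      obtain ⟨hbe, hbf, hbx⟩ := hbx
      have hxb : polar Qg x b = 0 := by rw [polar_comm, hbx]
      obtain ⟨-, l1, l2⟩ := key b hbe hbf
      obtain ⟨-, s1, s2⟩ := key (x + (1 : F) • b)
        (by rw [polar_add_left, polar_smul_left, hxe, hbe, smul_zero, add_zero])
        (by rw [polar_add_left, polar_smul_left, hxf, hbf, smul_zero, add_zero])
      obtain ⟨-, t1, t2⟩ := key (x + (-1 : F) • b)
        (by rw [polar_add_left, polar_smul_left, hxe, hbe, smul_zero, add_zero])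
        (by rw [polar_add_left, polar_smul_left, hxf, hbf, smul_zero, add_zero])
      rw [Classical.Quad.Q_comb1, hxb] at s1 s2 t1 t2
      simp only [polar_add_left, polar_smul_left, smul_eq_mul] at s1 s2 t1 t2
      constructor
      · exact (mul_eq_zero.1 (show (2 * Qg b) * polar Q x e = 0 by
          linear_combination -s2 - t2 + 2 * k2)).resolve_left (mul_ne_zero h2 hb)
      · exact (mul_eq_zero.1 (show (2 * Qg b) * polar Q x f = 0 by
          linear_combination -s1 - t1 + 2 * k1)).resolve_left (mul_ne_zero h2 hb)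
    have hall : ∀ y, Q y = c * Qg y := by
      intro y
      set a := polar Qg y f with ha
      set b := polar Qg y e with hb
      set x := y - a • e - b • f with hx
      have hxe : polar Qg x e = 0 := by
        simp [hx, polar_sub_left, polar_smul_left, hee, hfe, ← hb]
      have hxf : polar Qg x f = 0 := by
        simp [hx, polar_sub_left, polar_smul_left, hff, hp.2.2, ← ha]
      obtain ⟨k0, -, -⟩ := key x hxe hxf
      obtain ⟨k1, k2⟩ := hW x hxe hxf
      have e1 : y = x + a • e + b • f := by rw [hx]; abel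
      rw [e1, Classical.Quad.Q_comb, Classical.Quad.Q_comb, hp.1, hp.2.1, hQe, hQf, hp.2.2, ← hc,
        hxe, hxf, k0, k1, k2]
      ring
    have hc0 : c ≠ 0 := fun h => hv (by rw [hall, h, zero_mul])
    exact hgH ⟨⟨(Units.mk0 c hc0)⁻¹, fun y => by
      rw [hall y, Units.val_inv_eq_inv_val, Units.val_mk0, inv_mul_cancel_left₀ hc0]; rfl⟩, hMK hgM⟩
  obtain ⟨p', hp'⟩ := Classical.Quad.exists_polar hnd ((polarBilin Qg).flip p)
  replace hp' : ∀ x, polar Q x p' = polar Qg x p := fun x => by
    rw [polar_comm]; exact hp' x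
  have hgpp := Classical.Quad.polar_singular_self hgp
  by_cases hgood : ∃ a, polar Q p a = 0 ∧ polar Qg p a = 0 ∧ Q a ≠ 0 ∧ Qg a ≠ 0
  · obtain ⟨a, h1, h3, h4, h5⟩ := hgood
    exact sl_le_of_pair hnd h2 hn hSO hndg hSG hgp hQp h1 h3 h4 h5
  push Not at hgood
  obtain ⟨a, hQa, hap, hap'⟩ := exists_nonsing_pair hnd hn hQp p'
  rw [hp'] at hap'
  have hpa : polar Q p a = 0 := by rw [polar_comm, hap]
  have hgpa : polar Qg p a = 0 := by rw [polar_comm, hap']
  have hga : Qg a = 0 := hgood a hpa hgpa hQa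
  obtain ⟨b, hbp, hbp', hba, hγ⟩ : ∃ b, polar Q p b = 0 ∧ polar Qg p b = 0 ∧ polar Q a b = 0 ∧
      polar Qg a b ≠ 0 := by
    by_contra hcon
    push Not at hcon
    have hH : ∀ y, polar Qg p y = 0 → polar Qg a y = 0 := by
      intro y hy
      set y' := y - (polar Q p y / (2 * Q p)) • p
      set b := y' - (polar Q a y' / (2 * Q a)) • a
      have e1 : polar Q p y' = 0 := by
        simp only [y', polar_sub_right, polar_smul_right, polar_self2, smul_eq_mul]
        rw [div_mul_cancel₀ _ (mul_ne_zero h2 hQp), sub_self]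
      have e2 : polar Qg p y' = 0 := by simp [y', polar_sub_right, polar_smul_right, hy, hgpp]
      have := hcon b (by simp [b, polar_sub_right, polar_smul_right, e1, hpa])
        (by simp [b, polar_sub_right, polar_smul_right, e2, hgpa])
        (by simp only [b, polar_sub_right, polar_smul_right, polar_self2, smul_eq_mul]
            rw [div_mul_cancel₀ _ (mul_ne_zero h2 hQa), sub_self])
      simpa [b, y', polar_sub_right, polar_smul_right, hga, polar_self2, hap'] using this
    obtain ⟨z, hpz, -⟩ := exists_dual_vec hndg (D := ⊥) (x := p)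
      (by simpa using fun e : p = 0 => hQp (by rw [e, QuadraticMap.map_zero]))
    have h0 : a - polar Qg a z • p = 0 := hndg _ fun y => by
      have := hH (y - polar Qg p y • z) (by
        rw [polar_sub_right, polar_smul_right, hpz, smul_eq_mul, mul_one, sub_self])
      rw [polar_sub_right, polar_smul_right] at this
      rw [polar_sub_left, polar_smul_left]
      linear_combination this
    have h1 := congrArg (fun u => polar Q p u) h0
    simp [polar_sub_right, polar_smul_right, hpa, polar_self2, h2, hQp] at h1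
    rw [h1, zero_smul, sub_zero] at h0
    exact hQa (by rw [h0, QuadraticMap.map_zero])
  have hsum : ∀ t : F, Qg (a + t • b) = t * t * Qg b + t * polar Qg a b ∧
      Q (a + t • b) = Q a + t * t * Q b := fun t => by
    constructor
    · rw [Classical.Quad.Q_comb1, hga]; ring
    · rw [Classical.Quad.Q_comb1, hba]; ring
  have hcase : ∀ t : F, t * t * Qg b + t * polar Qg a b ≠ 0 → Q a + t * t * Q b = 0 := by
    intro t ht
    by_contra h
    obtain ⟨e1, e2⟩ := hsum t
    exact ht (e1 ▸ hgood (a + t • b) (by simp [polar_add_right, polar_smul_right, hpa, hbp])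
      (by simp [polar_add_right, polar_smul_right, hgpa, hbp']) (e2 ▸ h))
  have hQb : Q b ≠ 0 := by
    intro h
    have c1 : ¬ ((1 : F) * 1 * Qg b + 1 * polar Qg a b ≠ 0) := fun ht =>
      hQa (by simpa [h] using hcase 1 ht)
    have c2 : ¬ ((-1 : F) * -1 * Qg b + -1 * polar Qg a b ≠ 0) := fun ht =>
      hQa (by simpa [h] using hcase (-1) ht)
    push Not at c1 c2
    exact hγ (mul_left_cancel₀ h2 (by linear_combination c1 - c2))
  have hgb : Qg b = 0 := hgood b hbp hbp' hQb
  have hsq : ∀ t : F, t ≠ 0 → Q a + t * t * Q b = 0 := fun t ht => hcase t (by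
    rw [hgb, mul_zero, zero_add]; exact mul_ne_zero ht hγ)
  have hab : Q a + Q b = 0 := by simpa using hsq 1 one_ne_zero
  have hone : ∀ t : F, t ≠ 0 → t * t = 1 := fun t ht =>
    mul_right_cancel₀ hQb (by linear_combination hsq t ht - hab)
  -- one of `a`, `b` has the value of `p`
  obtain ⟨a, b, hpa, hbp, hgpa, hbp', hba, hga, hgb, hγ, hQb, hQa, hval⟩ : ∃ a b : ι → F,
      polar Q p a = 0 ∧ polar Q p b = 0 ∧ polar Qg p a = 0 ∧ polar Qg p b = 0 ∧
      polar Q a b = 0 ∧ Qg a = 0 ∧ Qg b = 0 ∧ polar Qg a b ≠ 0 ∧ Q b ≠ 0 ∧ Q a ≠ 0 ∧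
      Q b + Q p = 0 := by
    have h1 := hone (Q p / Q a) (div_ne_zero hQp hQa)
    field_simp at h1
    rcases mul_eq_zero.1 (show (Q p - Q a) * (Q p + Q a) = 0 by linear_combination h1) with h | h
    · exact ⟨a, b, hpa, hbp, hgpa, hbp', hba, hga, hgb, hγ, hQb, hQa, by linear_combination hab + h⟩
    · exact ⟨b, a, hbp, hpa, hbp', hgpa, by rw [polar_comm, hba], hgb, hga,
        by rw [polar_comm]; exact hγ, hQa, hQb, by linear_combination h⟩
  -- a Siegel element of the second form, with respect to which `b` becomes singular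
  have hQG := isNondegenerateQuadraticForm hndg
  have hap : polar Qg a p = 0 := by rw [polar_comm, hgpa]
  have hnpa : polar Qg (-p) a = 0 := by rw [polar_neg_left, hgpa, neg_zero]
  set η := tq Qg a p * tq Qg (-p) a
  have hηx : ∀ x, (η : Matrix ι ι F) *ᵥ x = x + polar Qg x p • a - polar Qg x a • p := fun x => by
    simp only [η, gl_mulVec_mul, tq_mulVec hndg hap, tq_mulVec hndg hnpa, polar_add_left,
      polar_smul_left, polar_neg_left, hgpp]
    module
  have hηM : η ∈ M := hSG _ (fun x => by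
    rw [hηx, sub_eq_add_neg, ← neg_smul, Classical.Quad.Q_comb, hga, hgp, hap]; ring)
    (mul_mem (tvGL_mem_sl _ _) (tvGL_mem_sl _ _))
  have hb' : (η : Matrix ι ι F) *ᵥ b = b + (-polar Qg a b) • p := by
    rw [hηx, polar_comm Qg b p, hbp', polar_comm Qg b a]; module
  have ha' : (η : Matrix ι ι F) *ᵥ a = a := by
    rw [hηx, hap, Classical.Quad.polar_singular_self hga]; module
  refine sl_le_of_pair hnd h2 hn hSO (pull_nd hnd η) (hasSO_pull hSO hηM) (p := b) (a := a) ?_ hQb
    (by rw [polar_comm, hba]) ?_ hQa ?_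
  · rw [pull_apply, hb', Classical.Quad.Q_comb1, polar_comm Q b p, hbp]
    linear_combination hval + Q p * hone _ (neg_ne_zero.2 hγ)
  · rw [pull_polar, hb', ha', polar_add_left, polar_smul_left, polar_comm Q b a, hba, hpa]
    simp
  · rw [pull_apply, ha']; exact hQa

end CfsgLib.ClassicalMax.QuadFour
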