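/-
Two square zero endomorphisms: the group generated by the two unipotents contains an involution
commuting with both, unless their product is nilpotent.
-/
import Mathlib
import Cfsg.Agent.Lib.PSL2Sub.Generation
set_option autoImplicit false
set_option linter.unusedSectionVars false

namespace CfsgLib.ClassicalMax.STens

open Polynomial Matrix

variable {F : Type*} [Field F] {W : Type*} [AddCommGroup W] [Module F W]

/-- The anticommutator. -/
def cc (R K : Module.End F W) : Module.End F W := R * K + K * R

/-- The general element of the algebra of two square zero maps. -/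
noncomputable def frm (R K : Module.End F W) (a b c d : F[X]) : Module.End F W :=
  1 + aeval (cc R K) a * cc R K + aeval (cc R K) b * R + aeval (cc R K) c * K
    + aeval (cc R K) d * (R * K)

/-- Its inverse when it comes from the group. -/
noncomputable def frm' (R K : Module.End F W) (a b c d : F[X]) : Module.End F W :=
  1 + aeval (cc R K) (a + d) * cc R K - aeval (cc R K) b * R - aeval (cc R K) c * K
    - aeval (cc R K) d * (R * K)

variable {R K : Module.End F W} (hR : R * R = 0) (hK : K * K = 0)

lemma frm_zero : frm R K 0 0 0 0 = 1 ∧ frm' R K 0 0 0 0 = 1 := by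
  constructor <;> simp [frm, frm']

include hR in
lemma cc_comm_left : cc R K * R = R * cc R K := by
  rw [cc, add_mul, mul_add, mul_assoc K R R, hR, mul_zero, ← mul_assoc R R K, hR, zero_mul,
    zero_add, add_zero, mul_assoc]

include hK in
lemma cc_comm_right : cc R K * K = K * cc R K := by
  rw [cc, add_mul, mul_add, mul_assoc R K K, hK, mul_zero, ← mul_assoc K K R, hK, zero_mul,
    zero_add, add_zero, mul_assoc]

lemma aeval_comm {S C : Module.End F W} (h : C * S = S * C) (p : F[X]) :
    aeval C p * S = S * aeval C p := by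
  induction p using Polynomial.induction_on with
  | C r => rw [aeval_C, Algebra.commutes]
  | add p q hp hq => rw [map_add, add_mul, mul_add, hp, hq]
  | monomial n r hn =>
    rw [pow_succ, ← mul_assoc, map_mul, aeval_X, mul_assoc, h, ← mul_assoc, hn, mul_assoc]

include hR in
lemma rkr : R * K * R = cc R K * R := by
  rw [cc, add_mul, mul_assoc K R R, hR, mul_zero, add_zero]

include hK in
lemma krk : K * R * K = cc R K * K := by
  rw [cc, add_mul, mul_assoc R K K, hK, mul_zero, zero_add]

lemma kr : K * R = cc R K - R * K := by rw [cc, add_sub_cancel_left]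

include hR hK

lemma stepR (a b c d : F[X]) (s : F) :
    frm R K a b c d * (1 + s • R) =
        frm R K (a + C s * c) (b + C s * (1 + (a + d) * X)) c (d - C s * c) ∧
      (1 - s • R) * frm' R K a b c d =
        frm' R K (a + C s * c) (b + C s * (1 + (a + d) * X)) c (d - C s * c) := by
  have hφ := fun p => aeval_comm (cc_comm_left (K := K) hR) p
  have h1 : frm R K a b c d * R = aeval (cc R K) (1 + (a + d) * X) * R + aeval (cc R K) c * cc R K
      - aeval (cc R K) c * (R * K) := by
    rw [frm]
    simp only [add_mul, one_mul, mul_assoc, hR, mul_zero, add_zero, map_add, map_one, map_mul,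
      aeval_X]
    rw [← mul_assoc R K R, rkr hR, kr (R := R) (K := K), mul_sub]
    abel
  have h2 : R * frm' R K a b c d =
      aeval (cc R K) (1 + (a + d) * X) * R - aeval (cc R K) c * (R * K) := by
    rw [frm']
    simp only [mul_add, mul_sub, mul_one, ← mul_assoc, ← hφ, map_add, map_one, map_mul, aeval_X,
      add_mul, one_mul]
    simp only [mul_assoc]
    rw [← cc_comm_left hR]
    simp only [← mul_assoc R R, hR, zero_mul, mul_zero, sub_zero]
  constructor
  · rw [mul_add, mul_one, mul_smul_comm, h1, frm, frm]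
    simp only [map_add, map_sub, map_mul, map_one, aeval_X, aeval_C, Algebra.algebraMap_eq_smul_one,
      smul_mul_assoc, one_mul, add_mul, sub_mul, smul_add, smul_sub]
    abel
  · rw [sub_mul, one_mul, smul_mul_assoc, h2, frm', frm']
    simp only [map_add, map_sub, map_mul, map_one, aeval_X, aeval_C, Algebra.algebraMap_eq_smul_one,
      smul_mul_assoc, one_mul, add_mul, sub_mul, smul_add, smul_sub]
    abel

lemma stepK (a b c d : F[X]) (s : F) :
    frm R K a b c d * (1 + s • K) =
        frm R K a b (c + C s * (1 + a * X)) (d + C s * b) ∧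
      (1 - s • K) * frm' R K a b c d =
        frm' R K a b (c + C s * (1 + a * X)) (d + C s * b) := by
  have hφ := fun p => aeval_comm (cc_comm_right (R := R) hK) p
  have h1 : frm R K a b c d * K = aeval (cc R K) (1 + a * X) * K + aeval (cc R K) b * (R * K) := by
    rw [frm]
    simp only [add_mul, one_mul, mul_assoc, hK, mul_zero, add_zero, map_add, map_one, map_mul,
      aeval_X]
  have h2 : K * frm' R K a b c d = aeval (cc R K) (1 + a * X) * K - aeval (cc R K) b * cc R K
      + aeval (cc R K) b * (R * K) := by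
    rw [frm']
    simp only [mul_add, mul_sub, mul_one, ← mul_assoc, ← hφ, map_add, map_one, map_mul, aeval_X,
      add_mul, one_mul]
    simp only [mul_assoc]
    rw [← cc_comm_right hK, ← mul_assoc K R K, krk hK, kr (R := R) (K := K), mul_sub]
    simp only [hK, mul_zero, sub_zero]
    abel
  constructor
  · rw [mul_add, mul_one, mul_smul_comm, h1, frm, frm]
    simp only [map_add, map_sub, map_mul, map_one, aeval_X, aeval_C, Algebra.algebraMap_eq_smul_one,
      smul_mul_assoc, one_mul, add_mul, sub_mul, smul_add, smul_sub]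
    abel
  · rw [sub_mul, one_mul, smul_mul_assoc, h2, frm', frm']
    simp only [map_add, map_mul, map_one, aeval_X, aeval_C, Algebra.algebraMap_eq_smul_one,
      smul_mul_assoc, one_mul, add_mul, smul_add, smul_sub]
    abel

omit hR hK in
lemma frm_comm (h2 : (2 : F) ≠ 0) {S : Module.End F W} (hS : cc R K * S = S * cc R K)
    {a b c d : F[X]} (h : frm R K a b c d = frm' R K a b c d) :
    frm R K a b c d * S = S * frm R K a b c d := by
  have e : (2 : F) • frm R K a b c d = (2 : F) • (1 : Module.End F W)
      + aeval (cc R K) (a + (a + d)) * cc R K := by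
    rw [two_smul, two_smul]
    nth_rw 2 [h]
    rw [frm, frm']
    simp only [map_add, add_mul]
    abel
  refine smul_right_injective (Module.End F W) h2 ?_
  show (2 : F) • _ = (2 : F) • _
  rw [← smul_mul_assoc, ← mul_smul_comm, e, add_mul, mul_add, smul_mul_assoc, mul_smul_comm, one_mul,
    mul_one, mul_assoc, hS, ← mul_assoc, aeval_comm hS, mul_assoc]

omit hR hK in
/-- The common fixed space. -/
lemma frm_fix (a b c d : F[X]) {x : W} (hx : R x = 0) (hx' : K x = 0) : frm R K a b c d x = x := by
  simp [frm, cc, hx, hx', LinearMap.add_apply, Module.End.mul_apply, Module.End.one_apply]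

/-- The element is only trivial with trivial evaluation. -/
lemma eval_of_frm {E : Type*} [Field E] [Algebra F E] {t : E} (ht : t ≠ 0) {ξ : W} (hξ : R ξ = 0)
    (hev : ∀ p : F[X], aeval (cc R K) p ξ = 0 ↔ aeval t p = 0) {a b c d : F[X]}
    (h : frm R K a b c d = 1) :
    aeval t (a + d) = 0 ∧ aeval t a = 0 ∧ aeval t b = 0 ∧ aeval t c = 0 := by
  have hCR : ∀ p x, R (aeval (cc R K) p x) = aeval (cc R K) p (R x) := fun p x => by
    simpa [Module.End.mul_apply] using
      (LinearMap.congr_fun (aeval_comm (cc_comm_left (K := K) hR) p) x).symm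
  have hCK : ∀ p x, K (aeval (cc R K) p x) = aeval (cc R K) p (K x) := fun p x => by
    simpa [Module.End.mul_apply] using
      (LinearMap.congr_fun (aeval_comm (cc_comm_right (R := R) hK) p) x).symm
  have hCR1 : ∀ x, R (cc R K x) = cc R K (R x) := fun x => by
    simpa using hCR X x
  have hCK1 : ∀ x, K (cc R K x) = cc R K (K x) := fun x => by
    simpa using hCK X x
  have hRK : R (K ξ) = cc R K ξ := by
    simp [cc, hξ, LinearMap.add_apply, Module.End.mul_apply]
  have hRR : ∀ x, R (R x) = 0 := fun x => by
    simpa [Module.End.mul_apply] using LinearMap.congr_fun hR x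
  have hKK : ∀ x, K (K x) = 0 := fun x => by
    simpa [Module.End.mul_apply] using LinearMap.congr_fun hK x
  have happ : ∀ x, x + aeval (cc R K) a (cc R K x) + aeval (cc R K) b (R x)
      + aeval (cc R K) c (K x) + aeval (cc R K) d (R (K x)) = x := fun x => by
    simpa [frm, LinearMap.add_apply, Module.End.mul_apply, Module.End.one_apply]
      using LinearMap.congr_fun h x
  have e1 := happ ξ
  rw [hξ, map_zero, add_zero, hRK] at e1
  have hc : aeval t c = 0 := by
    have e2 := congrArg (fun x => R x) e1
    simp only [map_add, hCR, hCR1, hξ, hRK, map_zero, zero_add, add_zero] at e2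
    have := (hev (c * X)).1 (by simpa [Module.End.mul_apply] using e2)
    rw [map_mul, aeval_X] at this
    exact (mul_eq_zero.1 this).resolve_right ht
  rw [← hCK c, (hev c).2 hc, map_zero, add_zero, add_assoc, add_eq_left] at e1
  have had : aeval t (a + d) = 0 := by
    have := (hev ((a + d) * X)).1 (by
      simpa [Module.End.mul_apply, add_mul, LinearMap.add_apply] using e1)
    rw [map_mul, aeval_X] at this
    exact (mul_eq_zero.1 this).resolve_right ht
  have e3 := happ (K ξ)
  rw [hKK, map_zero, add_zero, map_zero, map_zero, add_zero, hRK, add_assoc, add_eq_left] at e3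
  have ha : aeval t a = 0 := by
    have e2 := congrArg (fun x => R x) e3
    simp only [map_add, hCR, hCR1, hRK, hξ, map_zero, add_zero] at e2
    have := (hev (a * X * X)).1 (by simpa [Module.End.mul_apply] using e2)
    rw [map_mul, map_mul, aeval_X, mul_assoc] at this
    exact (mul_eq_zero.1 this).resolve_right (mul_ne_zero ht ht)
  have hb : aeval t b = 0 := by
    rw [← hCK1, ← hCK a, show aeval (cc R K) a (cc R K ξ) = 0 from ?_, map_zero, zero_add] at e3
    · have := (hev (b * X)).1 (by simpa [Module.End.mul_apply] using e3)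
      rw [map_mul, aeval_X] at this
      exact (mul_eq_zero.1 this).resolve_right ht
    have := (hev (a * X)).2 (by rw [map_mul, ha, zero_mul])
    simpa [Module.End.mul_apply] using this
  exact ⟨had, ha, hb, hc⟩

omit hR hK in
/-- Over a finite field of odd characteristic two transvections generate a group of even order. -/
lemma two_dvd_closure {L : Type*} [Field L] [Finite L] (h2 : (2 : L) ≠ 0) (lam : L) (hlam : lam ≠ 0)
    (hgen : Subfield.closure ({lam} : Set L) = ⊤) :
    2 ∣ Nat.card (Subgroup.closure
      ({PSL2Sub.genLower, PSL2Sub.genUpper lam} : Set (SpecialLinearGroup (Fin 2) L))) := by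
  by_cases h9 : Nat.card L = 9 ∧ lam ^ 2 = -1
  · rw [PSL2Sub.card_closure_nine lam h9.1 h9.2]
    norm_num
  rw [PSL2Sub.closure_eq_top h2 lam hlam hgen h9, Subgroup.card_top]
  have h1 : orderOf (-1 : SpecialLinearGroup (Fin 2) L) = 2 := by
    refine orderOf_eq_prime (by simp) fun e => h2 ?_
    have e2 := congrArg (fun g : SpecialLinearGroup (Fin 2) L => (g : Matrix (Fin 2) (Fin 2) L) 0 0) e
    simp at e2
    linear_combination -e2
  have h3 := orderOf_dvd_natCard (-1 : SpecialLinearGroup (Fin 2) L)
  rwa [h1] at h3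

variable [FiniteDimensional F W] [Finite F]

/-- An involution in the group of two unipotents commutes with both. -/
theorem exists_involution {G : Type*} [Group G] [Finite G] (ι : G →* Module.End F W)
    (hι : Function.Injective ι) {r k : G} (hr : ι r = 1 + R) (hk : ι k = 1 + K)
    (h2 : (2 : F) ≠ 0) {E : Type*} [Field E] [Algebra F E] [Finite E] {t : E} (ht : t ≠ 0)
    {ξ : W} (hξ : R ξ = 0) (hev : ∀ p : F[X], aeval (cc R K) p ξ = 0 ↔ aeval t p = 0) :
    ∃ z ∈ Subgroup.closure ({r, k} : Set G), z * z = 1 ∧ z ≠ 1 ∧ z * r = r * z ∧ z * k = k * z ∧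
      ∀ x, R x = 0 → K x = 0 → ι z x = x := by
  classical
  have h2E : (2 : E) ≠ 0 := fun h => h2 ((algebraMap F E).injective (by
    rw [map_ofNat, h, map_zero]))
  let U : SpecialLinearGroup (Fin 2) E := PSL2Sub.genUpper t
  let L : SpecialLinearGroup (Fin 2) E := PSL2Sub.genLower
  let S : Subgroup (G × SpecialLinearGroup (Fin 2) E) := Subgroup.closure {(k, L), (r, U)}
  let Q : G × SpecialLinearGroup (Fin 2) E → Prop := fun p => ∃ a b c d : F[X],
    ι p.1 = frm R K a b c d ∧ ι p.1⁻¹ = frm' R K a b c d ∧
      (p.2 : Matrix (Fin 2) (Fin 2) E) =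
        !![1 + aeval t (a + d) * t, aeval t b * t; aeval t c, 1 + aeval t a * t]
  have hinv : ∀ {g : G} {N : Module.End F W}, ι g = 1 + N → N * N = 0 → ι g⁻¹ = 1 - N := by
    intro g N hg hN
    have e1 : ι g⁻¹ * (1 + N) = 1 := by rw [← hg, ← map_mul, inv_mul_cancel, map_one]
    have e2 : (1 + N) * (1 - N) = 1 := by
      rw [add_mul, one_mul, mul_sub, mul_one, hN, sub_zero, sub_add_cancel]
    calc ι g⁻¹ = ι g⁻¹ * ((1 + N) * (1 - N)) := by rw [e2, mul_one]
      _ = 1 - N := by rw [← mul_assoc, e1, one_mul]
  have hrstep : ∀ (p : G × SpecialLinearGroup (Fin 2) E) (g : G) (M : SpecialLinearGroup (Fin 2) E)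
      (s : F), ι g = 1 + s • R → (M : Matrix (Fin 2) (Fin 2) E) = !![1, algebraMap F E s * t; 0, 1] →
      Q p → Q (p * (g, M)) := by
    rintro p g M s hg hM ⟨a, b, c, d, h1, h1', h3⟩
    refine ⟨a + C s * c, b + C s * (1 + (a + d) * X), c, d - C s * c, ?_, ?_, ?_⟩
    · rw [Prod.fst_mul, map_mul, h1, hg, (stepR hR hK a b c d s).1]
    · rw [Prod.fst_mul, _root_.mul_inv_rev, map_mul, h1', hinv hg (by
        rw [smul_mul_smul_comm, hR, smul_zero]), (stepR hR hK a b c d s).2]
    · show p.2.1 * M.1 = _
      rw [h3, hM]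
      ext i j
      fin_cases i <;> fin_cases j <;> simp [Matrix.mul_apply, Fin.sum_univ_two] <;> ring
  have hkstep : ∀ (p : G × SpecialLinearGroup (Fin 2) E) (g : G) (M : SpecialLinearGroup (Fin 2) E)
      (s : F), ι g = 1 + s • K → (M : Matrix (Fin 2) (Fin 2) E) = !![1, 0; algebraMap F E s, 1] →
      Q p → Q (p * (g, M)) := by
    rintro p g M s hg hM ⟨a, b, c, d, h1, h1', h3⟩
    refine ⟨a, b, c + C s * (1 + a * X), d + C s * b, ?_, ?_, ?_⟩
    · rw [Prod.fst_mul, map_mul, h1, hg, (stepK hR hK a b c d s).1]
    · rw [Prod.fst_mul, _root_.mul_inv_rev, map_mul, h1', hinv hg (by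
        rw [smul_mul_smul_comm, hK, smul_zero]), (stepK hR hK a b c d s).2]
    · show p.2.1 * M.1 = _
      rw [h3, hM]
      ext i j
      fin_cases i <;> fin_cases j <;> simp [Matrix.mul_apply, Fin.sum_univ_two] <;> ring
  have hQ : ∀ p ∈ S, Q p := by
    intro p hp
    induction hp using Subgroup.closure_induction_right with
    | one => exact ⟨0, 0, 0, 0, by rw [Prod.fst_one, map_one, frm_zero.1],
        by rw [Prod.fst_one, inv_one, map_one, frm_zero.2], by
        show (1 : Matrix (Fin 2) (Fin 2) E) = _
        ext i j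
        fin_cases i <;> fin_cases j <;> simp⟩
    | mul_right x hx y hy ih =>
      rcases hy with rfl | rfl
      · exact hkstep x k L 1 (by rw [one_smul, hk]) (by
          simp [L, PSL2Sub.genLower, SL2Trace.coe_mk2]) ih
      · exact hrstep x r U 1 (by rw [one_smul, hr]) (by
          simp [U, PSL2Sub.genUpper, SL2Trace.coe_mk2]) ih
    | mul_inv_cancel x hx y hy ih =>
      rcases hy with rfl | rfl
      · refine hkstep x k⁻¹ L⁻¹ (-1) (by rw [hinv hk hK, neg_one_smul, sub_eq_add_neg]) ?_ ih
        show Matrix.adjugate L.1 = _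
        rw [Matrix.adjugate_fin_two]
        simp [L, PSL2Sub.genLower, SL2Trace.coe_mk2]
      · refine hrstep x r⁻¹ U⁻¹ (-1) (by rw [hinv hr hR, neg_one_smul, sub_eq_add_neg]) ?_ ih
        show Matrix.adjugate U.1 = _
        rw [Matrix.adjugate_fin_two]
        simp [U, PSL2Sub.genUpper, SL2Trace.coe_mk2]
  have hinj : ∀ p ∈ S, p.1 = 1 → p = 1 := by
    intro p hp h1
    obtain ⟨a, b, c, d, e1, -, e3⟩ := hQ p hp
    rw [h1, map_one] at e1
    obtain ⟨f1, f2, f3, f4⟩ := eval_of_frm hR hK ht hξ hev e1.symm
    refine Prod.ext h1 (Subtype.ext ?_)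
    show p.2.1 = (1 : Matrix (Fin 2) (Fin 2) E)
    rw [e3, f1, f2, f3, f4]
    ext i j
    fin_cases i <;> fin_cases j <;> simp
  -- the projection has even order
  let L₀ : Subfield E := Subfield.closure {t}
  let t₀ : L₀ := ⟨t, Subfield.subset_closure rfl⟩
  have hgen : Subfield.closure ({t₀} : Set L₀) = ⊤ := by
    have h := RingHom.map_field_closure L₀.subtype ({t₀} : Set L₀)
    rw [Set.image_singleton] at h
    refine SetLike.ext fun x => ⟨fun _ => trivial, fun _ => ?_⟩
    have hx : (x : E) ∈ Subfield.map L₀.subtype (Subfield.closure {t₀}) := by rw [h]; exact x.2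
    obtain ⟨y, hy, hyx⟩ := Subfield.mem_map.1 hx
    rwa [← Subtype.ext hyx]
  have heven := two_dvd_closure (fun h => h2E ((map_ofNat L₀.subtype 2).symm.trans (by rw [h, map_zero]))) t₀
    (fun h => ht (congrArg Subtype.val h)) hgen
  let μ : SpecialLinearGroup (Fin 2) L₀ →* SpecialLinearGroup (Fin 2) E :=
    SpecialLinearGroup.map L₀.subtype
  have hμ : Function.Injective μ := fun g g' h => Subtype.ext (Matrix.ext fun i j =>
    Subtype.ext (congrFun (congrFun (congrArg Subtype.val h) i) j))
  have himg : Subgroup.map (MonoidHom.snd G (SpecialLinearGroup (Fin 2) E)) S = Subgroup.map μ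
      (Subgroup.closure {PSL2Sub.genLower, PSL2Sub.genUpper t₀}) := by
    rw [MonoidHom.map_closure, MonoidHom.map_closure, Set.image_pair, Set.image_pair]
    congr 1
    have e1 : μ PSL2Sub.genLower = L := Subtype.ext (by
      show (PSL2Sub.genLower : SpecialLinearGroup (Fin 2) L₀).1.map L₀.subtype = L.1
      ext i j; fin_cases i <;> fin_cases j <;> simp [L, PSL2Sub.genLower, SL2Trace.coe_mk2])
    have e2 : μ (PSL2Sub.genUpper t₀) = U := Subtype.ext (by
      show (PSL2Sub.genUpper t₀).1.map L₀.subtype = U.1
      ext i j; fin_cases i <;> fin_cases j <;> simp [U, t₀, PSL2Sub.genUpper, SL2Trace.coe_mk2])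
    rw [e1, e2]
    rfl
  have hS : 2 ∣ Nat.card S := by
    refine heven.trans ?_
    rw [← Subgroup.card_map_of_injective hμ, ← himg]
    exact S.card_map_dvd _
  obtain ⟨s, hs⟩ := exists_prime_orderOf_dvd_card' 2 hS
  have hs2 : (s : G × SpecialLinearGroup (Fin 2) E) * s = 1 := by
    have h := pow_orderOf_eq_one s
    rw [hs, sq] at h
    exact congrArg Subtype.val h
  obtain ⟨a, b, c, d, e1, e1', -⟩ := hQ _ s.2
  have hz : s.1.1 * s.1.1 = 1 := by rw [← Prod.fst_mul, hs2, Prod.fst_one]
  have hsym : frm R K a b c d = frm' R K a b c d := by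
    rw [← e1, ← e1', inv_eq_of_mul_eq_one_right hz]
  refine ⟨s.1.1, ?_, hz, fun h => ?_, ?_, ?_, fun x hx hx' => by rw [e1, frm_fix a b c d hx hx']⟩
  · have := Subgroup.mem_map_of_mem (MonoidHom.fst G (SpecialLinearGroup (Fin 2) E)) s.2
    rw [MonoidHom.map_closure, Set.image_pair] at this
    rwa [Set.pair_comm]
  · have : s = 1 := Subtype.ext (hinj _ s.2 h)
    rw [this, orderOf_one] at hs
    exact absurd hs (by norm_num)
  · refine hι ?_
    rw [map_mul, map_mul, e1, hr, mul_add, add_mul, mul_one, one_mul,
      frm_comm h2 (cc_comm_left hR) hsym]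
  · refine hι ?_
    rw [map_mul, map_mul, e1, hk, mul_add, add_mul, mul_one, one_mul,
      frm_comm h2 (cc_comm_right hK) hsym]

end CfsgLib.ClassicalMax.STens
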