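/-
Products of a symplectic and a symmetric form: contractions, isometries of the symmetric factor and
its isotropic vectors.
-/
import Cfsg.Agent.Lib.ClassicalMax.SympShort
import Cfsg.Agent.Lib.ClassicalMax.KronTools
import Cfsg.Agent.Lib.ClassicalMax.TensorSL
set_option autoImplicit false
set_option linter.unusedSectionVars false

namespace CfsgLib.ClassicalMax.STens

open Matrix Kronecker Module Cfsg.Geo
open CfsgLib.ClassicalMax.Kron
open CfsgLib.ClassicalMax.TensorSL (InH lcon lcon_pt)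

variable {F : Type*} [Field F] [DecidableEq F] {a b : ℕ}

/-- The action of an element on a vector. -/
local notation:80 g:81 " •ᵥ " z:80 => Matrix.mulVec (Units.val g) z

/-- The embedding of the second factor at a vector of the first, linearly. -/
def ptL (u : Fin a → F) : (Fin b → F) →ₗ[F] (Fin a × Fin b → F) where
  toFun w := pt u w
  map_add' := pt_add_right u
  map_smul' c w := pt_smul_right c u w

@[simp] lemma ptL_apply (u : Fin a → F) (w : Fin b → F) : ptL u w = pt u w := rfl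

lemma pt_sub_left (x y : Fin a → F) (w : Fin b → F) : pt (x - y) w = pt x w - pt y w :=
  funext fun _ => sub_mul _ _ _

lemma pt_neg_right (x : Fin a → F) (w : Fin b → F) : pt x (-w) = -pt x w :=
  funext fun _ => mul_neg _ _

lemma ptL_injective {u : Fin a → F} (hu : u ≠ 0) : Function.Injective (ptL (b := b) u) :=
  (injective_iff_map_eq_zero _).2 fun w hw => by
    by_contra h
    exact pt_ne_zero hu h hw

/-- A symplectic and a symmetric form with their product. -/
structure Pair (B : (Fin a × Fin b → F) → (Fin a × Fin b → F) → F)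
    (f₁ : (Fin a → F) → (Fin a → F) → F) (f₂ : (Fin b → F) → (Fin b → F) → F) : Prop where
  hB : IsSymplecticForm B
  hf₁ : IsSymplecticForm f₁
  hf₂ : IsSymmetricForm f₂
  B_pt : ∀ x x' w w', B (pt x w) (pt x' w') = f₁ x x' * f₂ w w'
  two : (2 : F) ≠ 0
  three_le : 3 ≤ b

/-- A map respecting a form up to a non-zero factor, as an invertible matrix. -/
lemma exists_gl {k : ℕ} {f : (Fin k → F) → (Fin k → F) → F} (hb : IsBilinearForm f)
    (hn : IsNondegenerateForm f) (T : (Fin k → F) →ₗ[F] (Fin k → F)) {μ : F} (hμ : μ ≠ 0)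
    (h : ∀ x y, f (T x) (T y) = μ * f x y) : ∃ g : GL (Fin k) F, ∀ x, g •ᵥ x = T x := by
  have hu : IsUnit (LinearMap.toMatrix' T) := Matrix.mulVec_injective_iff_isUnit.1 fun x y hxy => by
    rw [LinearMap.toMatrix'_mulVec, LinearMap.toMatrix'_mulVec] at hxy
    refine sub_eq_zero.1 (eq_zero_of_form_left hn fun z => ?_)
    have h1 := h (x - y) z
    rw [map_sub, hxy, sub_self, form_zero_left hb] at h1
    exact (mul_eq_zero.1 h1.symm).resolve_left hμ
  exact ⟨hu.unit, fun x => by rw [IsUnit.unit_spec, LinearMap.toMatrix'_mulVec]⟩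

lemma closure_sTv_le {k : ℕ} {f : (Fin k → F) → (Fin k → F) → F} (hf : IsSymplecticForm f)
    {g : GL (Fin k) F} (hg : g ∈ Subgroup.closure {t | ∃ v c, t = sTv f v c}) : g ∈ isoOf f :=
  (Subgroup.closure_le (isoOf f)).2 (by rintro _ ⟨v, c, rfl⟩; exact sTv_mem_isoOf hf v c) hg

/-- A symplectic partner of a vector. -/
lemma exists_partner {k : ℕ} {f : (Fin k → F) → (Fin k → F) → F} (hf : IsSymplecticForm f)
    {u : Fin k → F} (hu : u ≠ 0) : ∃ v, f u v = 1 ∧ f v u = -1 := by
  obtain ⟨x, hx⟩ := (hf.nondegenerate u hu).2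
  have h1 : f u ((f u x)⁻¹ • x) = 1 := by rw [hf.bilinear.smul_right, inv_mul_cancel₀ hx]
  exact ⟨(f u x)⁻¹ • x, h1, by rw [hf.skew, h1]⟩

variable {B : (Fin a × Fin b → F) → (Fin a × Fin b → F) → F}
  {f₁ : (Fin a → F) → (Fin a → F) → F} {f₂ : (Fin b → F) → (Fin b → F) → F}

/-- Contraction against a vector of the first factor. -/
def lc (f₁ : (Fin a → F) → (Fin a → F) → F) (u : Fin a → F) :
    (Fin a × Fin b → F) →ₗ[F] (Fin b → F) := lcon (formDual f₁ u)

/-- Contraction against a vector of the second factor. -/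
def cv (f₂ : (Fin b → F) → (Fin b → F) → F) (v : Fin b → F) :
    (Fin a × Fin b → F) →ₗ[F] (Fin a → F) := con (formDual f₂ v)

variable (P : Pair B f₁ f₂)
include P

lemma symm₂ (v w : Fin b → F) : f₂ v w = f₂ w v := P.hf₂.symm v w

lemma add_left₂ (x y z : Fin b → F) : f₂ (x + y) z = f₂ x z + f₂ y z := P.hf₂.bilinear.add_left x y z

lemma add_right₂ (z x y : Fin b → F) : f₂ z (x + y) = f₂ z x + f₂ z y :=
  P.hf₂.bilinear.add_right z x y

lemma smul_left₂ (c : F) (x z : Fin b → F) : f₂ (c • x) z = c * f₂ x z :=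
  P.hf₂.bilinear.smul_left c x z

lemma smul_right₂ (c : F) (z x : Fin b → F) : f₂ z (c • x) = c * f₂ z x :=
  P.hf₂.bilinear.smul_right c z x

lemma sub_left₂ (x y z : Fin b → F) : f₂ (x - y) z = f₂ x z - f₂ y z :=
  form_sub_left P.hf₂.bilinear x y z

lemma sub_right₂ (z x y : Fin b → F) : f₂ z (x - y) = f₂ z x - f₂ z y :=
  form_sub_right P.hf₂.bilinear z x y

lemma ext₂ {s t : Fin b → F} (h : ∀ x, f₂ s x = f₂ t x) : s = t :=
  sub_eq_zero.1 (eq_zero_of_form_left P.hf₂.nondegenerate fun x => by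
    rw [sub_left₂ P, h, sub_self])

lemma ext₁ {s t : Fin a → F} (h : ∀ x, f₁ s x = f₁ t x) : s = t :=
  sub_eq_zero.1 (eq_zero_of_form_left P.hf₁.nondegenerate fun x => by
    rw [form_sub_left P.hf₁.bilinear, h, sub_self])

lemma lc_pt (u x : Fin a → F) (w : Fin b → F) : lc f₁ u (pt x w) = f₁ x u • w := by
  rw [lc, lcon_pt, formDual_dot P.hf₁.bilinear]

lemma cv_pt (v : Fin b → F) (x : Fin a → F) (w : Fin b → F) :
    cv f₂ v (pt x w) = f₂ w v • x := by
  rw [cv, con_pt, formDual_dot P.hf₂.bilinear]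

lemma lc_pt_self (u : Fin a → F) (w : Fin b → F) : lc f₁ u (pt u w) = 0 := by
  rw [lc_pt P, P.hf₁.alternating, zero_smul]

lemma B_lc (z : Fin a × Fin b → F) (u : Fin a → F) (w : Fin b → F) :
    B z (pt u w) = f₂ (lc f₁ u z) w := by
  have h := linear_ext (f := (bilinOf P.hB.bilinear).flip (pt u w))
    (g := ((bilinOf P.hf₂.bilinear).flip w).comp (lc f₁ u)) fun x w' => by
      simp only [LinearMap.flip_apply, bilinOf_apply, LinearMap.comp_apply, lc_pt P, P.B_pt,
        P.hf₂.bilinear.smul_left]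
  simpa using LinearMap.congr_fun h z

lemma B_cv (z : Fin a × Fin b → F) (x : Fin a → F) (v : Fin b → F) :
    B z (pt x v) = f₁ (cv f₂ v z) x := by
  have h := linear_ext (f := (bilinOf P.hB.bilinear).flip (pt x v))
    (g := ((bilinOf P.hf₁.bilinear).flip x).comp (cv f₂ v)) fun u w' => by
      simp only [LinearMap.flip_apply, bilinOf_apply, LinearMap.comp_apply, cv_pt P, P.B_pt,
        P.hf₁.bilinear.smul_left]
      ring
  simpa using LinearMap.congr_fun h z

lemma ext_B {z z' : Fin a × Fin b → F} (h : ∀ x w, B z (pt x w) = B z' (pt x w)) : z = z' := by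
  refine sub_eq_zero.1 (eq_zero_of_form_left P.hB.nondegenerate fun y => ?_)
  have := linear_ext (f := bilinOf P.hB.bilinear (z - z')) (g := 0) fun x w => by
    simp [h x w]
  rw [← bilinOf_apply P.hB.bilinear, LinearMap.congr_fun this y, LinearMap.zero_apply]

lemma lc_add (u u' : Fin a → F) (z : Fin a × Fin b → F) :
    lc f₁ (u + u') z = lc f₁ u z + lc f₁ u' z :=
  ext₂ P fun w => by rw [add_left₂ P, ← B_lc P, ← B_lc P, ← B_lc P, pt_add_left, P.hB.bilinear.add_right]

lemma lc_smul (c : F) (u : Fin a → F) (z : Fin a × Fin b → F) :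
    lc f₁ (c • u) z = c • lc f₁ u z :=
  ext₂ P fun w => by rw [smul_left₂ P, ← B_lc P, ← B_lc P, pt_smul_left, P.hB.bilinear.smul_right]

lemma cv_add (v v' : Fin b → F) (z : Fin a × Fin b → F) :
    cv f₂ (v + v') z = cv f₂ v z + cv f₂ v' z :=
  ext₁ P fun x => by
    rw [P.hf₁.bilinear.add_left, ← B_cv P, ← B_cv P, ← B_cv P, pt_add_right, P.hB.bilinear.add_right]

lemma cv_smul (c : F) (v : Fin b → F) (z : Fin a × Fin b → F) :
    cv f₂ (c • v) z = c • cv f₂ v z :=
  ext₁ P fun x => by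
    rw [P.hf₁.bilinear.smul_left, ← B_cv P, ← B_cv P, pt_smul_right, P.hB.bilinear.smul_right]

/-- A vector killed by the contractions orthogonal to `u` lies in the line of `u`. -/
lemma eq_ptL {u v : Fin a → F} (huv : f₁ u v = 1) {z : Fin a × Fin b → F}
    (h : ∀ y, f₁ y u = 0 → lc f₁ y z = 0) : z = pt u (lc f₁ v z) := by
  refine ext_B P fun x w => ?_
  obtain ⟨y, c, hy, rfl⟩ : ∃ y c, f₁ y u = 0 ∧ x = y + c • v :=
    ⟨x - (-f₁ x u) • v, -f₁ x u, by
      rw [form_sub_left P.hf₁.bilinear, P.hf₁.bilinear.smul_left, P.hf₁.skew v u, huv]; ring,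
      by rw [sub_add_cancel]⟩
  rw [B_lc P, P.B_pt, lc_add P, lc_smul P, h y hy, zero_add, P.hf₁.bilinear.add_right,
    P.hf₁.bilinear.smul_right, huv, smul_left₂ P, P.hf₁.skew u y, hy]
  ring

/-- A vector killed by the contractions orthogonal to `v` lies in the line of `v`. -/
lemma eq_ptR {v v' : Fin b → F} (hvv : f₂ v v' = 1) {z : Fin a × Fin b → F}
    (h : ∀ y, f₂ y v = 0 → cv f₂ y z = 0) : z = pt (cv f₂ v' z) v := by
  refine ext_B P fun x w => ?_
  obtain ⟨y, c, hy, rfl⟩ : ∃ y c, f₂ y v = 0 ∧ w = y + c • v' :=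
    ⟨w - f₂ w v • v', f₂ w v, by rw [sub_left₂ P, smul_left₂ P, symm₂ P v' v, hvv, mul_one, sub_self],
      by rw [sub_add_cancel]⟩
  rw [B_cv P, P.B_pt, cv_add P, cv_smul P, h y hy, zero_add, add_right₂ P,
    smul_right₂ P, hvv, P.hf₁.bilinear.smul_left, symm₂ P v y, hy]
  ring

/-- A product of isometries is an isometry. -/
lemma kron_iso {A : GL (Fin a) F} {C : GL (Fin b) F} (hA : A ∈ isoOf f₁) (hC : C ∈ isoOf f₂) :
    kronGL A C ∈ isoOf B := by
  refine mem_isoOf.2 fun z z' => ?_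
  have h : ∀ x w, B (kronGL A C •ᵥ z) (kronGL A C •ᵥ pt x w) = B z (pt x w) := fun x w => by
    have h1 := linear_ext
      (f := ((bilinOf P.hB.bilinear).flip (kronGL A C •ᵥ pt x w)).comp
        (Matrix.toLin' (kronGL A C).val))
      (g := (bilinOf P.hB.bilinear).flip (pt x w)) fun x' w' => by
        simp only [LinearMap.comp_apply, LinearMap.flip_apply, bilinOf_apply, Matrix.toLin'_apply,
          kronGL_pt, P.B_pt, mem_isoOf.1 hA, mem_isoOf.1 hC]
    simpa [Matrix.toLin'_apply] using LinearMap.congr_fun h1 z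
  have h2 := linear_ext
    (f := (bilinOf P.hB.bilinear (kronGL A C •ᵥ z)).comp (Matrix.toLin' (kronGL A C).val))
    (g := bilinOf P.hB.bilinear z) fun x w => by
      simpa [Matrix.toLin'_apply] using h x w
  simpa [Matrix.toLin'_apply] using LinearMap.congr_fun h2 z'

/-- A root element along the first factor. -/
lemma root_act (u : Fin a → F) (c : F) (z : Fin a × Fin b → F) :
    kronGL (sTv f₁ u c) (1 : GL (Fin b) F) •ᵥ z = z + pt u (c • lc f₁ u z) := by
  have h := linear_ext (f := Matrix.toLin' (kronGL (sTv f₁ u c) (1 : GL (Fin b) F)).val)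
    (g := LinearMap.id + (ptL u).comp (c • lc f₁ u)) fun x w => by
      simp [Matrix.toLin'_apply, kronGL_pt, sTv_mulVec P.hf₁, pt_add_left, lc_pt P,
        pt_smul_left, smul_smul]
  exact LinearMap.congr_fun h z

/-- The reflection along a non-isotropic vector. -/
lemma exists_refl {d : Fin b → F} (hd : f₂ d d ≠ 0) :
    ∃ g ∈ isoOf f₂, g * g = 1 ∧ ∀ x, g •ᵥ x = x - (2 * f₂ x d / f₂ d d) • d := by
  let T : (Fin b → F) →ₗ[F] (Fin b → F) :=
    LinearMap.id - (((2 : F) / f₂ d d) • (bilinOf P.hf₂.bilinear).flip d).smulRight d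
  have hT : ∀ x, T x = x - (2 * f₂ x d / f₂ d d) • d := fun x => by
    simp [T, div_mul_eq_mul_div]
  have hiso : ∀ x y, f₂ (T x) (T y) = 1 * f₂ x y := fun x y => by
    rw [hT, hT, sub_left₂ P, sub_right₂ P, sub_right₂ P, smul_left₂ P, smul_left₂ P, smul_right₂ P,
      smul_right₂ P, symm₂ P d y]
    field_simp
    ring
  obtain ⟨g, hg⟩ := exists_gl P.hf₂.bilinear P.hf₂.nondegenerate T one_ne_zero hiso
  refine ⟨g, mem_isoOf.2 fun x y => by rw [hg, hg, hiso, one_mul], gl_ext_mulVec fun x => ?_,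
    fun x => by rw [hg, hT]⟩
  rw [gl_mulVec_mul, hg, hg, Units.val_one, one_mulVec, hT, hT, sub_left₂ P, smul_left₂ P]
  match_scalars
  · ring
  · field_simp
    ring

/-- A Siegel transformation. -/
lemma exists_siegel {e y : Fin b → F} (he : f₂ e e = 0) (hey : f₂ e y = 0) :
    ∃ g ∈ isoOf f₂, ∀ x,
      g •ᵥ x = x + f₂ x e • y - f₂ x y • e - ((1 / 2 : F) * f₂ y y * f₂ x e) • e := by
  let T : (Fin b → F) →ₗ[F] (Fin b → F) :=
    LinearMap.id + ((bilinOf P.hf₂.bilinear).flip e).smulRight y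
      - ((bilinOf P.hf₂.bilinear).flip y).smulRight e
      - (((1 / 2 : F) * f₂ y y) • (bilinOf P.hf₂.bilinear).flip e).smulRight e
  have hT : ∀ x, T x = x + f₂ x e • y - f₂ x y • e - ((1 / 2 : F) * f₂ y y * f₂ x e) • e := fun x => by
    simp [T]
  have hye : f₂ y e = 0 := by rw [symm₂ P, hey]
  have hiso : ∀ x x', f₂ (T x) (T x') = 1 * f₂ x x' := fun x x' => by
    simp only [hT, sub_left₂ P, add_left₂ P, sub_right₂ P, add_right₂ P, smul_left₂ P, smul_right₂ P,
      he, hey, hye, symm₂ P y x', symm₂ P e x']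
    have := P.two
    field_simp
    ring
  obtain ⟨g, hg⟩ := exists_gl P.hf₂.bilinear P.hf₂.nondegenerate T one_ne_zero hiso
  exact ⟨g, mem_isoOf.2 fun x y => by rw [hg, hg, hiso, one_mul], fun x => by rw [hg, hT]⟩

/-- A vector orthogonal to two given ones outside a line. -/
lemma exists_orth₂ (d d' : Fin b → F) :
    ∃ z, z ≠ 0 ∧ f₂ z d = 0 ∧ f₂ z d' = 0 := by
  let L : (Fin b → F) →ₗ[F] F × F :=
    LinearMap.prod ((bilinOf P.hf₂.bilinear).flip d) ((bilinOf P.hf₂.bilinear).flip d')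
  obtain ⟨z, hz, hz0⟩ := Submodule.exists_mem_ne_zero_of_ne_bot
    (LinearMap.ker_ne_bot_of_finrank_lt (f := L) (by
      rw [finrank_prod, finrank_self, finrank_fin_fun]
      have := P.three_le
      omega))
  rw [LinearMap.mem_ker] at hz
  exact ⟨z, hz0, congrArg Prod.fst hz, congrArg Prod.snd hz⟩

/-- Some vector is not isotropic, against any non-zero functional. -/
lemma exists_aniso {z : Fin b → F} (hz : z ≠ 0) : ∃ v, f₂ v v ≠ 0 ∧ f₂ v z ≠ 0 := by
  obtain ⟨x, hx⟩ := (P.hf₂.nondegenerate z hz).1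
  by_cases hzz : f₂ z z = 0
  · by_cases hxx : f₂ x x = 0
    · refine ⟨x + z, ?_, ?_⟩
      · rw [add_left₂ P, add_right₂ P, add_right₂ P, hzz, hxx, symm₂ P z x]
        intro h
        refine mul_ne_zero P.two hx ?_
        linear_combination h
      · rw [add_left₂ P, hzz, add_zero]
        exact hx
    · exact ⟨x, hxx, hx⟩
  · exact ⟨z, hzz, hzz⟩

variable [Fintype F]

/-- A square plus a multiple of a square represents everything. -/
lemma exists_two_sq {α β : F} (hα : α ≠ 0) (hβ : β ≠ 0) (γ : F) :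
    ∃ s t, α * s ^ 2 + β * t ^ 2 + γ = 0 := by
  have hF : Fintype.card F % 2 = 1 :=
    FiniteField.odd_card_of_char_ne_two fun h => P.two (by
      haveI := ringChar.of_eq h
      exact_mod_cast CharP.cast_eq_zero F 2)
  obtain ⟨s, t, h⟩ := FiniteField.exists_root_sum_quadratic
    (f := Polynomial.C α * Polynomial.X ^ 2) (g := Polynomial.C β * Polynomial.X ^ 2 + Polynomial.C γ)
    (Polynomial.degree_C_mul_X_pow 2 hα)
    (by
      rw [Polynomial.degree_add_eq_left_of_degree_lt]
      · exact Polynomial.degree_C_mul_X_pow 2 hβ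
      · rw [Polynomial.degree_C_mul_X_pow 2 hβ]
        exact lt_of_le_of_lt Polynomial.degree_C_le (by decide)) hF
  refine ⟨s, t, ?_⟩
  simp only [Polynomial.eval_mul, Polynomial.eval_C, Polynomial.eval_pow, Polynomial.eval_X,
    Polynomial.eval_add] at h
  linear_combination h

/-- The symmetric form has isotropic vectors. -/
lemma exists_isotropic : ∃ e : Fin b → F, e ≠ 0 ∧ f₂ e e = 0 := by
  classical
  by_contra hcon
  push Not at hcon
  obtain ⟨d, hd⟩ : ∃ d : Fin b → F, d ≠ 0 :=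
    ⟨Pi.single ⟨0, by have := P.three_le; omega⟩ 1, by simp⟩
  obtain ⟨z, hz, hzd, -⟩ := exists_orth₂ P d d
  obtain ⟨w, hw, hwd, hwz⟩ := exists_orth₂ P d z
  obtain ⟨s, t, h⟩ := exists_two_sq P (hcon d hd) (hcon z hz) (f₂ w w)
  refine hcon (s • d + t • z + w) (fun h0 => hcon w hw ?_) ?_
  · have h1 := congrArg (fun y => f₂ y w) h0
    simp only [add_left₂ P, smul_left₂ P, symm₂ P d w, symm₂ P z w, hwd, hwz,
      form_zero_left P.hf₂.bilinear, mul_zero, zero_add] at h1
    exact h1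
  · simp only [add_left₂ P, add_right₂ P, smul_left₂ P, smul_right₂ P, symm₂ P d w, symm₂ P z w,
      symm₂ P d z, hzd, hwd, hwz]
    linear_combination h

omit [Fintype F]

/-- An isotropic partner of an isotropic vector. -/
lemma exists_iso_partner {e : Fin b → F} (he0 : e ≠ 0) (he : f₂ e e = 0) :
    ∃ f, f₂ f f = 0 ∧ f₂ e f = 1 := by
  obtain ⟨x, hx⟩ := (P.hf₂.nondegenerate e he0).1
  set v := (f₂ x e)⁻¹ • x
  have hve : f₂ v e = 1 := by rw [smul_left₂ P, inv_mul_cancel₀ hx]
  have hev : f₂ e v = 1 := by rw [symm₂ P, hve]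
  have := P.two
  refine ⟨v - (f₂ v v / 2) • e, ?_, ?_⟩
  · simp only [sub_left₂ P, sub_right₂ P, smul_left₂ P, smul_right₂ P, he, hve, hev]
    field_simp
    ring
  · simp only [sub_right₂ P, smul_right₂ P, he, hev]
    ring

/-- Isotropic vectors detect every non-zero functional. -/
lemma exists_iso_not_orth {e : Fin b → F} (he0 : e ≠ 0) (he : f₂ e e = 0) {x : Fin b → F}
    (hx : x ≠ 0) : ∃ e', f₂ e' e' = 0 ∧ f₂ e' x ≠ 0 := by
  by_cases h1 : f₂ e x = 0
  · obtain ⟨f, hf, hef⟩ := exists_iso_partner P he0 he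
    have hfe : f₂ f e = 1 := by rw [symm₂ P, hef]
    by_cases h2 : f₂ f x = 0
    · obtain ⟨v, hv⟩ := (P.hf₂.nondegenerate x hx).1
      set y := v - f₂ v f • e - f₂ v e • f
      have hye : f₂ y e = 0 := by
        simp only [y, sub_left₂ P, smul_left₂ P, he, hfe]; ring
      have hyf : f₂ y f = 0 := by
        simp only [y, sub_left₂ P, smul_left₂ P, hf, hef]; ring
      refine ⟨y + f - (f₂ y y / 2) • e, ?_, ?_⟩
      · have := P.two
        simp only [sub_left₂ P, add_left₂ P, sub_right₂ P, add_right₂ P, smul_left₂ P, smul_right₂ P,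
          symm₂ P e y, symm₂ P f y, hye, hyf, he, hf, hef, hfe]
        field_simp
        ring
      · simp only [y, sub_left₂ P, add_left₂ P, smul_left₂ P, h1, h2]
        simpa using hv
    · exact ⟨f, hf, h2⟩
  · exact ⟨e, he, h1⟩

end CfsgLib.ClassicalMax.STens
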