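/-
One transvection with centre a pure tensor gives the whole symplectic group of the product.
-/
import Cfsg.Agent.Lib.ClassicalMax.STensBase
set_option autoImplicit false
set_option linter.unusedSectionVars false

namespace CfsgLib.ClassicalMax.STens

open Matrix Kronecker Module Cfsg.Geo
open CfsgLib.ClassicalMax.Kron

variable {F : Type*} [Field F] [DecidableEq F] {a b : ℕ}

/-- The action of an element on a vector. -/
local notation:80 g:81 " •ᵥ " z:80 => Matrix.mulVec (Units.val g) z

variable {B : (Fin a × Fin b → F) → (Fin a × Fin b → F) → F}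
  {f₁ : (Fin a → F) → (Fin a → F) → F} {f₂ : (Fin b → F) → (Fin b → F) → F}
  {M : Subgroup (GL (Fin a × Fin b) F)}

/-- A subgroup of the symplectic group containing the tensors. -/
structure Over (B : (Fin a × Fin b → F) → (Fin a × Fin b → F) → F)
    (f₁ : (Fin a → F) → (Fin a → F) → F) (f₂ : (Fin b → F) → (Fin b → F) → F)
    (M : Subgroup (GL (Fin a × Fin b) F)) : Prop where
  pair : Pair B f₁ f₂
  le : M ≤ isoOf B
  mem : ∀ A C, kronGL A C ∈ isoOf B → kronGL A C ∈ M
  big : 4 ≤ b ∨ 5 ≤ Nat.card F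

variable (H : Over B f₁ f₂ M)
include H

lemma kron_left_mem {A : GL (Fin a) F} (hA : A ∈ isoOf f₁) : kronGL A (1 : GL (Fin b) F) ∈ M :=
  H.mem _ _ (kron_iso H.pair hA (one_mem _))

lemma kron_right_mem {C : GL (Fin b) F} (hC : C ∈ isoOf f₂) : kronGL (1 : GL (Fin a) F) C ∈ M :=
  H.mem _ _ (kron_iso H.pair (one_mem _) hC)

lemma tvSet_zero : (0 : Fin a × Fin b → F) ∈ tvSet B M := fun c => by
  rw [sTv, tvGL_zero_left]
  exact M.one_mem

lemma tvSet_left {A : GL (Fin a) F} (hA : A ∈ isoOf f₁) {x : Fin a → F} {w : Fin b → F}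
    (h : pt x w ∈ tvSet B M) : pt (A •ᵥ x) w ∈ tvSet B M := by
  have := tvSet_mulVec H.pair.hB (kron_left_mem H hA) (H.le (kron_left_mem H hA)) h
  rwa [kronGL_pt, Units.val_one, one_mulVec] at this

/-- One transvection gives all those with centre on the same second factor. -/
lemma seed {u : Fin a → F} {e : Fin b → F} {c : F} (hu : u ≠ 0) (hc : c ≠ 0)
    (h : sTv B (pt u e) c ∈ M) (x : Fin a → F) : pt x e ∈ tvSet B M := by
  have P := H.pair
  have hmul : ∀ l : F, sTv B (pt u e) (l ^ 2 * c) ∈ M := fun l => by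
    rcases eq_or_ne l 0 with rfl | hl
    · rw [zero_pow two_ne_zero, zero_mul, sTv_zero]; exact M.one_mem
    obtain ⟨A, hA, hAu⟩ := exists_iso_mulVec P.hf₁ hu (smul_ne_zero hl hu)
    have hAM := kron_left_mem H (closure_sTv_le P.hf₁ hA)
    have h1 := M.mul_mem (M.mul_mem hAM h) (M.inv_mem hAM)
    rwa [sTv_conj P.hB (H.le hAM), kronGL_pt, Units.val_one, one_mulVec, hAu, pt_smul_left,
      sTv_smul_vec P.hB] at h1
  have hall : pt u e ∈ tvSet B M := fun d => by
    have e1 : d = ((d / c + 1) / 2) ^ 2 * c + -(((d / c - 1) / 2) ^ 2 * c) := by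
      have := P.two
      field_simp
      ring
    rw [e1, ← sTv_add P.hB, ← sTv_inv P.hB]
    exact M.mul_mem (hmul _) (M.inv_mem (hmul _))
  rcases eq_or_ne x 0 with rfl | hx
  · rw [pt_zero_left]; exact tvSet_zero H
  obtain ⟨A, hA, hAx⟩ := exists_iso_mulVec P.hf₁ hu hx
  exact hAx ▸ tvSet_left H (closure_sTv_le P.hf₁ hA) hall

/-- Reflections move isotropic lines. -/
lemma iso_step {e e' : Fin b → F} (he : f₂ e e = 0) (he' : f₂ e' e' = 0) (hee : f₂ e e' ≠ 0)
    (h : ∀ x, pt x e ∈ tvSet B M) : ∀ x, pt x e' ∈ tvSet B M := by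
  have P := H.pair
  have hvv : f₂ (e - e') (e - e') = -2 * f₂ e e' := by
    rw [sub_left₂ P, sub_right₂ P, sub_right₂ P, he, he', symm₂ P e' e]; ring
  obtain ⟨g, hg, -, hgx⟩ := exists_refl P (d := e - e')
    (by rw [hvv]; exact mul_ne_zero (neg_ne_zero.2 P.two) hee)
  have hge : g •ᵥ e = e' := by
    rw [hgx, hvv, sub_right₂ P, he]
    have := P.two
    rw [show 2 * (0 - f₂ e e') / (-2 * f₂ e e') = 1 by field_simp; ring, one_smul, sub_sub_cancel]
  intro x
  have := tvSet_mulVec P.hB (kron_right_mem H hg) (H.le (kron_right_mem H hg)) (h x)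
  rwa [kronGL_pt, Units.val_one, one_mulVec, hge] at this

/-- All isotropic second factors follow from one. -/
lemma iso_all {e : Fin b → F} (he0 : e ≠ 0) (he : f₂ e e = 0) (h : ∀ x, pt x e ∈ tvSet B M)
    {e' : Fin b → F} (he'0 : e' ≠ 0) (he' : f₂ e' e' = 0) : ∀ x, pt x e' ∈ tvSet B M := by
  have P := H.pair
  by_cases hee : f₂ e e' = 0
  · obtain ⟨f, hf, hef⟩ := exists_iso_partner P he0 he
    have hfall := iso_step H he hf (by rw [hef]; exact one_ne_zero) h
    by_cases hfe' : f₂ f e' = 0
    · obtain ⟨g, hg, heg⟩ := exists_iso_partner P he'0 he'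
      by_cases hegz : f₂ e g = 0
      · have hs : f₂ (e + e') (e + e') = 0 := by
          rw [add_left₂ P, add_right₂ P, add_right₂ P, he, he', symm₂ P e' e, hee]; ring
        have h1 := iso_step H hf hs (by
          rw [add_right₂ P, hfe', add_zero, symm₂ P, hef]; exact one_ne_zero) hfall
        have h2 := iso_step H hs hg (by rw [add_left₂ P, hegz, zero_add, heg]; exact one_ne_zero) h1
        exact iso_step H hg he' (by rw [symm₂ P, heg]; exact one_ne_zero) h2
      · exact iso_step H hg he' (by rw [symm₂ P, heg]; exact one_ne_zero) (iso_step H he hg hegz h)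
    · exact iso_step H hf he' hfe' hfall
  · exact iso_step H he he' hee h

/-- Combining two second factors. -/
lemma join_factor {w w' : Fin b → F} (h : ∀ x, pt x w ∈ tvSet B M) (h' : ∀ x, pt x w' ∈ tvSet B M)
    (hww : f₂ w w' ≠ 0) {l : F} (hl : f₂ w w' + l * f₂ w' w' ≠ 0) :
    ∀ x, pt x (w + l • w') ∈ tvSet B M := by
  have P := H.pair
  intro x
  rcases eq_or_ne x 0 with rfl | hx
  · rw [pt_zero_left]; exact tvSet_zero H
  obtain ⟨x', hx', hx''⟩ := exists_partner P.hf₁ hx
  have hz : pt x w + (1 : F) • pt x' w' ∈ tvSet B M :=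
    tvSet_add_smul P.hB (h x) (h' x') (by rw [P.B_pt, hx', one_mul]; exact hww) 1
  have h1 := tvSet_add_smul P.hB hz (h' (l • x - x')) (by
    rw [P.hB.bilinear.add_left, one_smul, P.B_pt, P.B_pt, form_sub_right P.hf₁.bilinear,
      form_sub_right P.hf₁.bilinear, P.hf₁.bilinear.smul_right, P.hf₁.bilinear.smul_right,
      P.hf₁.alternating, P.hf₁.alternating, hx', hx'']
    intro h0
    exact hl (by linear_combination -h0)) 1
  rwa [one_smul, one_smul, pt_sub_left, pt_smul_left, ← pt_smul_right, add_assoc, add_sub_cancel,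
    ← pt_add_right] at h1

/-- Pure centres give all second factors. -/
lemma pure_all {u : Fin a → F} {e : Fin b → F} {c : F} (hu : u ≠ 0) (he0 : e ≠ 0) (he : f₂ e e = 0)
    (hc : c ≠ 0) (h : sTv B (pt u e) c ∈ M) (x : Fin a → F) (v : Fin b → F) :
    pt x v ∈ tvSet B M := by
  have P := H.pair
  have hiso : ∀ e', f₂ e' e' = 0 → ∀ x, pt x e' ∈ tvSet B M := fun e' he' => by
    rcases eq_or_ne e' 0 with rfl | h0
    · intro x; rw [pt_zero_right]; exact tvSet_zero H
    · exact iso_all H he0 he (seed H hu hc h) h0 he'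
  by_cases hvv : f₂ v v = 0
  · exact hiso v hvv x
  obtain ⟨e', he', he'v⟩ := exists_iso_not_orth P he0 he (x := v) fun h0 => hvv (by
    rw [h0, form_zero_left P.hf₂.bilinear])
  set l := f₂ v v / (2 * f₂ e' v) with hl
  set f := v - l • e' with hf
  have hff : f₂ f f = 0 := by
    simp only [hf, sub_left₂ P, sub_right₂ P, smul_left₂ P, smul_right₂ P, he', symm₂ P v e', hl]
    have := P.two
    field_simp
    ring
  have hfe : f₂ f e' = f₂ e' v := by
    rw [hf, sub_left₂ P, smul_left₂ P, he', mul_zero, sub_zero, symm₂ P]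
  have := join_factor H (hiso f hff) (hiso e' he') (by rw [hfe]; exact he'v) (l := l)
    (by rw [he', mul_zero, add_zero, hfe]; exact he'v) x
  rwa [hf, sub_add_cancel] at this

/-- A dual vector of an independent family. -/
lemma exists_dual₂ {k : ℕ} {w : Fin k → Fin b → F} (hli : LinearIndependent F w) (c : Fin k → F) :
    ∃ z, ∀ i, f₂ (w i) z = c i := by
  obtain ⟨g, hg⟩ := LinearMap.exists_extend ((Finsupp.linearCombination F c).comp
    (hli.repr : Submodule.span F (Set.range w) →ₗ[F] (Fin k →₀ F)))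
  obtain ⟨z, hz⟩ := exists_form_eq H.pair.hf₂.bilinear H.pair.hf₂.nondegenerate g
  refine ⟨z, fun i => ?_⟩
  have := LinearMap.congr_fun hg ⟨w i, Submodule.subset_span ⟨i, rfl⟩⟩
  rw [hz]
  simpa [hli.repr_eq_single i ⟨w i, Submodule.subset_span ⟨i, rfl⟩⟩ rfl] using this

/-- Sums of pure centres are centres. -/
lemma sum_mem (hp : ∀ (x : Fin a → F) v, pt x v ∈ tvSet B M) :
    ∀ (r : ℕ) (x : Fin r → Fin a → F) (w : Fin r → Fin b → F),
      ∑ i, pt (x i) (w i) ∈ tvSet B M := by
  have P := H.pair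
  intro r
  induction r with
  | zero => intro x w; rw [Finset.univ_eq_empty, Finset.sum_empty]; exact tvSet_zero H
  | succ r ih =>
    have caseA : ∀ (x : Fin (r + 1) → Fin a → F) (w : Fin (r + 1) → Fin b → F) (i : Fin (r + 1)),
        lc f₁ (x i) (∑ j, pt (x j) (w j)) ≠ 0 → ∑ j, pt (x j) (w j) ∈ tvSet B M := by
      intro x w i hi
      set y := ∑ j, pt (x j) (w j) with hy
      set s := ∑ j, pt (x (i.succAbove j)) (w (i.succAbove j)) with hs
      have hys : y = pt (x i) (w i) + s := Fin.sum_univ_succAbove _ i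
      have hsm : s ∈ tvSet B M := ih _ _
      by_cases h0 : B y (pt (x i) (w i)) = 0
      · obtain ⟨w', hw'⟩ := (P.hf₂.nondegenerate _ hi).2
        set p := pt (x i) w' with hp'
        have hyp : B y p ≠ 0 := by rw [B_lc P]; exact hw'
        have hpz : B (pt (x i) (w i)) p = 0 := by
          rw [P.B_pt, P.hf₁.alternating, zero_mul]
        have hsy : B s p = B y p := by rw [hys, P.hB.bilinear.add_left, hpz, zero_add]
        have h1 : s + (1 : F) • pt (x i) (w i + w') ∈ tvSet B M :=
          tvSet_add_smul P.hB hsm (hp _ _) (by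
            rw [pt_add_right, P.hB.bilinear.add_right, hsy]
            have : B s (pt (x i) (w i)) = B y (pt (x i) (w i)) := by
              rw [hys, P.hB.bilinear.add_left, P.hB.alternating, zero_add]
            rw [this, h0, zero_add]
            exact hyp) 1
        have h2 := tvSet_add_smul P.hB h1 (hp (x i) w') (by
          rw [one_smul, pt_add_right, P.hB.bilinear.add_left, P.hB.bilinear.add_left, hsy, hpz,
            P.hB.alternating, add_zero, add_zero]
          exact hyp) (-1)
        rw [one_smul, pt_add_right, neg_one_smul] at h2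
        rwa [show y = s + (pt (x i) (w i) + pt (x i) w') + -pt (x i) w' by rw [hys]; abel]
      · have h1 := tvSet_add_smul P.hB hsm (hp (x i) (w i)) (by
          rwa [hys, P.hB.bilinear.add_left, P.hB.alternating, zero_add] at h0) 1
        rwa [one_smul, add_comm, ← hys] at h1
    intro x w
    by_cases hA : ∃ i, lc f₁ (x i) (∑ j, pt (x j) (w j)) ≠ 0
    · obtain ⟨i, hi⟩ := hA
      exact caseA x w i hi
    push Not at hA
    by_cases hx : ∃ i, x i = 0
    · obtain ⟨i, hi⟩ := hx
      rw [Fin.sum_univ_succAbove _ i, hi, pt_zero_left, zero_add]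
      exact ih _ _
    push Not at hx
    by_cases hli : LinearIndependent F w
    swap
    · obtain ⟨g, hg, i, hi⟩ := Fintype.not_linearIndependent_iff.1 hli
      rw [Fin.sum_univ_succAbove _ i] at hg
      have hwi : w i = ∑ j, (-(g i)⁻¹ * g (i.succAbove j)) • w (i.succAbove j) := by
        rw [← inv_smul_smul₀ hi (w i), eq_neg_of_add_eq_zero_left hg, smul_neg, Finset.smul_sum,
          ← Finset.sum_neg_distrib]
        exact Finset.sum_congr rfl fun j _ => by rw [smul_smul, neg_mul, neg_smul]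
      have he : ∑ j, pt (x j) (w j) = ∑ j, pt (x (i.succAbove j) +
          (-(g i)⁻¹ * g (i.succAbove j)) • x i) (w (i.succAbove j)) := by
        rw [Fin.sum_univ_succAbove _ i, hwi, ← ptL_apply, map_sum, ← Finset.sum_add_distrib]
        exact Finset.sum_congr rfl fun j _ => by
          rw [ptL_apply, pt_add_left, pt_smul_left, pt_smul_right]; abel
      rw [he]
      exact ih _ _
    obtain _ | r := r
    · rw [Fin.sum_univ_one]; exact hp _ _
    have hxx : ∀ i j, f₁ (x i) (x j) = 0 := fun i j => by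
      have h1 := hA j
      rw [map_sum] at h1
      simp only [lc_pt P] at h1
      exact Fintype.linearIndependent_iff.1 hli _ h1 i
    obtain ⟨w', hw'⟩ := exists_dual₂ H hli (fun i => if i = 0 then 1 else 0)
    obtain ⟨x', -, hx0, hx1⟩ := exists_both_ne_zero (bilinOf P.hf₁.bilinear (x 0))
      (bilinOf P.hf₁.bilinear (x 1)) ⊤
      (let ⟨z, hz⟩ := (P.hf₁.nondegenerate _ (hx 0)).2; ⟨z, Submodule.mem_top, hz⟩)
      (let ⟨z, hz⟩ := (P.hf₁.nondegenerate _ (hx 1)).2; ⟨z, Submodule.mem_top, hz⟩)
    rw [bilinOf_apply] at hx0 hx1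
    set y := ∑ j, pt (x j) (w j) with hy
    set p := pt x' w' with hp'
    have hyp : B y p = f₁ (x 0) x' := by
      have : B y p = ∑ j, f₁ (x j) x' * f₂ (w j) w' := by
        rw [hy, hp', ← bilinOf_apply P.hB.bilinear, map_sum, LinearMap.sum_apply]
        exact Finset.sum_congr rfl fun j _ => P.B_pt _ _ _ _
      rw [this, Finset.sum_eq_single 0]
      · rw [hw', if_pos rfl, mul_one]
      · intro j _ hj; rw [hw', if_neg hj, mul_zero]
      · simp
    let x₂ : Fin (r + 2) → Fin a → F := Fin.cons x' (fun i => x i.succ)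
    let w₂ : Fin (r + 2) → Fin b → F := Fin.cons w' (fun i => w i.succ)
    set v := ∑ j, pt (x₂ j) (w₂ j) with hv
    have hv' : v = pt x' w' + ∑ i : Fin (r + 1), pt (x i.succ) (w i.succ) := by
      rw [hv, Fin.sum_univ_succ]; simp [x₂, w₂]
    have hys : y = pt (x 0) (w 0) + ∑ i : Fin (r + 1), pt (x i.succ) (w i.succ) := Fin.sum_univ_succ _
    have hvy : v = y + p - pt (x 0) (w 0) := by rw [hv', hys, hp']; abel
    have hvm : v ∈ tvSet B M := by
      refine caseA x₂ w₂ (Fin.succ 0) ?_
      rw [← hv, show x₂ (Fin.succ 0) = x (Fin.succ 0) from Fin.cons_succ _ _ _, hvy, map_sub, map_add, hA, hp', lc_pt P, lc_pt P, hxx, zero_smul,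
        sub_zero, zero_add]
      refine smul_ne_zero (fun h0 => hx1 ?_) fun h0 => one_ne_zero (α := F) ?_
      · rw [Fin.succ_zero_eq_one] at h0
        rw [P.hf₁.skew, h0, neg_zero]
      · have := hw' 0
        rwa [h0, form_zero_right P.hf₂.bilinear, if_pos rfl, eq_comm] at this
    have hy0 : B y (pt (x 0) (w 0)) = 0 := by
      rw [B_lc P, hA, form_zero_left P.hf₂.bilinear]
    have h1 := tvSet_add_smul P.hB hvm (hp (x 0) (w 0)) (by
      rw [hvy, form_sub_left P.hB.bilinear, P.hB.bilinear.add_left, hy0, P.hB.alternating, hp',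
        P.B_pt, symm₂ P, hw', if_pos rfl, P.hf₁.skew]
      simpa using hx0) 1
    have h2 := tvSet_add_smul P.hB h1 (hp x' w') (by
      rw [one_smul, hvy, sub_add_cancel, P.hB.bilinear.add_left, hp', P.hB.alternating, add_zero,
        ← hp', hyp]
      exact hx0) (-1)
    rwa [one_smul, hvy, sub_add_cancel, hp', neg_one_smul, add_neg_cancel_right] at h2

/-- One transvection with a pure isotropic centre gives everything. -/
theorem isoOf_le {u : Fin a → F} {e : Fin b → F} {c : F} (hu : u ≠ 0) (he0 : e ≠ 0) (he : f₂ e e = 0)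
    (hc : c ≠ 0) (h : sTv B (pt u e) c ∈ M) : isoOf B ≤ M :=
  isoOf_le_of_tvSet H.pair.hB fun z => by
    rw [pt_sum_left z]
    exact sum_mem H (fun x v => pure_all H hu he0 he hc h x v) a _ _

end CfsgLib.ClassicalMax.STens
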