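/-
Without a transvection with pure centre only scalar root elements act along a line of the
symplectic factor.
-/
import Cfsg.Agent.Lib.ClassicalMax.STensTv
set_option autoImplicit false
set_option linter.unusedSectionVars false

namespace CfsgLib.ClassicalMax.STens

open Matrix Kronecker Module Cfsg.Geo
open CfsgLib.ClassicalMax.Kron

variable {F : Type*} [Field F] [DecidableEq F] {a b : ℕ}

/-- The action of an element on a vector. -/
local notation:80 g:81 " •ᵥ " z:80 => Matrix.mulVec (Units.val g) z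

variable {B : (Fin a × Fin b → F) → (Fin a × Fin b → F) → F}
  {f₁ : (Fin a → F) → (Fin a → F) → F} {f₂ : (Fin b → F) → (Fin b → F) → F}
  {M : Subgroup (GL (Fin a × Fin b) F)}

/-- No transvection with pure isotropic centre. -/
def NoTv (B : (Fin a × Fin b → F) → (Fin a × Fin b → F) → F)
    (f₂ : (Fin b → F) → (Fin b → F) → F) (M : Subgroup (GL (Fin a × Fin b) F)) : Prop :=
  ∀ (u : Fin a → F) (e : Fin b → F) (c : F), u ≠ 0 → e ≠ 0 → f₂ e e = 0 → c ≠ 0 →
    sTv B (pt u e) c ∉ M

/-- The elements acting as the given map along a line of the first factor. -/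
def Up (f₁ : (Fin a → F) → (Fin a → F) → F) (M : Subgroup (GL (Fin a × Fin b) F)) (u : Fin a → F)
    (S : (Fin b → F) →ₗ[F] (Fin b → F)) : Prop :=
  ∃ g ∈ M, ∀ z, g •ᵥ z = z + pt u (S (lc f₁ u z))

/-- The symmetric map of two vectors. -/
def symMap (hb : IsBilinearForm f₂) (d x : Fin b → F) : (Fin b → F) →ₗ[F] (Fin b → F) :=
  ((bilinOf hb).flip x).smulRight d + ((bilinOf hb).flip d).smulRight x

lemma symMap_apply (hb : IsBilinearForm f₂) (d x w : Fin b → F) :
    symMap hb d x w = f₂ w x • d + f₂ w d • x := by simp [symMap]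

/-- A linear map with only eigenvectors is a scalar. -/
lemma scalar_of_eig {k : ℕ} (hk : 1 ≤ k) (S : (Fin k → F) →ₗ[F] (Fin k → F))
    (h : ∀ x, S x ∈ Submodule.span F {x}) : ∃ c : F, ∀ x, S x = c • x := by
  set x₀ : Fin k → F := Pi.single ⟨0, by omega⟩ 1
  have hx₀ : x₀ ≠ 0 := fun e => one_ne_zero (α := F) (by simpa [x₀] using congrFun e ⟨0, by omega⟩)
  obtain ⟨c, hc⟩ := Submodule.mem_span_singleton.1 (h x₀)
  refine ⟨c, fun x => ?_⟩
  by_cases hxs : x ∈ Submodule.span F {x₀}
  · obtain ⟨t, rfl⟩ := Submodule.mem_span_singleton.1 hxs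
    rw [map_smul, ← hc, smul_comm]
  obtain ⟨d, hd⟩ := Submodule.mem_span_singleton.1 (h x)
  obtain ⟨m, hm⟩ := Submodule.mem_span_singleton.1 (h (x + x₀))
  rw [map_add, ← hd, ← hc, smul_add] at hm
  have h1 : (m - d) • x = (c - m) • x₀ := by linear_combination (norm := module) hm
  have hmd : m - d = 0 := by
    by_contra hne
    exact hxs (Submodule.mem_span_singleton.2 ⟨(m - d)⁻¹ * (c - m), by
      rw [mul_smul, ← h1, inv_smul_smul₀ hne]⟩)
  rw [hmd, zero_smul] at h1
  rw [← hd, ← sub_eq_zero.1 hmd, ← sub_eq_zero.1 ((smul_eq_zero.1 h1.symm).resolve_right hx₀)]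

variable (H : Over B f₁ f₂ M) {u : Fin a → F}
include H

lemma Up.congr {S S' : (Fin b → F) →ₗ[F] (Fin b → F)} (h : Up f₁ M u S) (e : ∀ w, S w = S' w) :
    Up f₁ M u S' := by
  obtain ⟨g, hg, hgz⟩ := h
  exact ⟨g, hg, fun z => by rw [hgz, e]⟩

lemma Up.add {S S' : (Fin b → F) →ₗ[F] (Fin b → F)} (h : Up f₁ M u S) (h' : Up f₁ M u S') :
    Up f₁ M u (S + S') := by
  obtain ⟨g, hg, hgz⟩ := h
  obtain ⟨g', hg', hgz'⟩ := h'
  refine ⟨g * g', M.mul_mem hg hg', fun z => ?_⟩
  rw [gl_mulVec_mul, hgz, hgz', map_add, lc_pt_self H.pair, add_zero, LinearMap.add_apply,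
    pt_add_right]
  abel

lemma Up.neg {S : (Fin b → F) →ₗ[F] (Fin b → F)} (h : Up f₁ M u S) : Up f₁ M u (-S) := by
  obtain ⟨g, hg, hgz⟩ := h
  refine ⟨g⁻¹, M.inv_mem hg, fun z => gl_mulVec_injective g ?_⟩
  show g •ᵥ (g⁻¹ •ᵥ z) = g •ᵥ _
  rw [gl_mulVec_inv_mulVec, hgz, map_add, lc_pt_self H.pair, add_zero, LinearMap.neg_apply,
    pt_neg_right, neg_add_cancel_right]

lemma Up.sub {S S' : (Fin b → F) →ₗ[F] (Fin b → F)} (h : Up f₁ M u S) (h' : Up f₁ M u S') :
    Up f₁ M u (S - S') := by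
  rw [sub_eq_add_neg]
  exact Up.add H h (Up.neg H h')

lemma lc_kron_right (C : GL (Fin b) F) (v : Fin a → F) (z : Fin a × Fin b → F) :
    lc f₁ v (kronGL (1 : GL (Fin a) F) C •ᵥ z) = C •ᵥ lc f₁ v z := by
  have h := linear_ext (f := (lc f₁ v).comp (Matrix.toLin' (kronGL (1 : GL (Fin a) F) C).val))
    (g := (Matrix.toLin' C.val).comp (lc f₁ v)) fun x w => by
      simp [Matrix.toLin'_apply, kronGL_pt, lc_pt H.pair]
  simpa [Matrix.toLin'_apply] using LinearMap.congr_fun h z

lemma Up.conj {S S' : (Fin b → F) →ₗ[F] (Fin b → F)} (h : Up f₁ M u S) {C : GL (Fin b) F}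
    (hC : C ∈ isoOf f₂) (e : ∀ w, S' (C •ᵥ w) = C •ᵥ S w) : Up f₁ M u S' := by
  obtain ⟨g, hg, hgz⟩ := h
  set K := kronGL (1 : GL (Fin a) F) C
  refine ⟨K * g * K⁻¹, M.mul_mem (M.mul_mem (kron_right_mem H hC) hg)
    (M.inv_mem (kron_right_mem H hC)), fun z => ?_⟩
  rw [gl_mulVec_mul, gl_mulVec_mul, hgz, mulVec_add, gl_mulVec_inv_mulVec]
  show _ + kronGL (1 : GL (Fin a) F) C •ᵥ pt u _ = _
  rw [kronGL_pt, Units.val_one, one_mulVec, ← e, ← lc_kron_right H, gl_mulVec_inv_mulVec]

lemma Up.sub_sym {d x y : Fin b → F} (h : Up f₁ M u (symMap H.pair.hf₂.bilinear d x))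
    (h' : Up f₁ M u (symMap H.pair.hf₂.bilinear d y)) :
    Up f₁ M u (symMap H.pair.hf₂.bilinear d (x - y)) :=
  Up.congr H (Up.sub H h h') fun w => by
    simp only [LinearMap.sub_apply, symMap_apply, sub_right₂ H.pair]
    module

/-- Isometries move symmetric maps. -/
lemma Up.move {d x : Fin b → F} (h : Up f₁ M u (symMap H.pair.hf₂.bilinear d x))
    {C : GL (Fin b) F} (hC : C ∈ isoOf f₂) :
    Up f₁ M u (symMap H.pair.hf₂.bilinear (C •ᵥ d) (C •ᵥ x)) :=
  Up.conj H h hC fun w => by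
    rw [symMap_apply, symMap_apply, mem_isoOf.1 hC, mem_isoOf.1 hC, mulVec_add, mulVec_smul,
      mulVec_smul]

variable (hno : NoTv B f₂ M) (hu : u ≠ 0)
include hno hu

/-- No symmetric map of a vector and an orthogonal isotropic one. -/
lemma no_sym_iso {d e : Fin b → F} (hd : f₂ d d ≠ 0) (he0 : e ≠ 0) (he : f₂ e e = 0)
    (hde : f₂ d e = 0) : ¬ Up f₁ M u (symMap H.pair.hf₂.bilinear d e) := by
  intro h
  have P := H.pair
  have hed : f₂ e d = 0 := by rw [symm₂ P, hde]
  obtain ⟨C, hC, hCx⟩ := exists_siegel P he hed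
  have h1 := Up.move H h hC
  have hCd : C •ᵥ d = d - f₂ d d • e := by rw [hCx, hde]; simp
  have hCe : C •ᵥ e = e := by rw [hCx, he, hed]; simp
  rw [hCd, hCe] at h1
  obtain ⟨g, hg, hgz⟩ := Up.congr H (Up.sub H h1 h)
    (S' := ((-2 * f₂ d d) • (bilinOf P.hf₂.bilinear).flip e).smulRight e) fun w => by
      simp only [LinearMap.sub_apply, symMap_apply, sub_right₂ P, smul_right₂ P,
        LinearMap.smulRight_apply, LinearMap.smul_apply, LinearMap.flip_apply, bilinOf_apply,
        smul_eq_mul]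
      module
  refine hno u e (-2 * f₂ d d) hu he0 he (mul_ne_zero (neg_ne_zero.2 P.two) hd) ?_
  rwa [show sTv B (pt u e) (-2 * f₂ d d) = g from gl_ext_mulVec fun z => ?_]
  rw [sTv_mulVec P.hB, hgz, B_lc P, LinearMap.smulRight_apply, LinearMap.smul_apply,
    LinearMap.flip_apply, bilinOf_apply, smul_eq_mul, pt_smul_right]

variable [Fintype F]

/-- No symmetric map of orthogonal vectors detected by an isotropic vector. -/
lemma no_sym_orth {d d' e : Fin b → F} (hd : f₂ d d ≠ 0) (hdd : f₂ d d' = 0) (he : f₂ e e = 0)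
    (hde : f₂ d e = 0) (hne : f₂ d' e ≠ 0) : ¬ Up f₁ M u (symMap H.pair.hf₂.bilinear d d') := by
  intro h
  have P := H.pair
  have hed : f₂ e d = 0 := by rw [symm₂ P, hde]
  have he0 : e ≠ 0 := fun e0 => hne (by rw [e0, form_zero_right P.hf₂.bilinear])
  set v := (f₂ d' e)⁻¹ • d'
  set f := v - (f₂ v v / 2) • e with hf
  have hve : f₂ v e = 1 := by rw [smul_left₂ P, inv_mul_cancel₀ hne]
  have hfe : f₂ f e = 1 := by simp only [hf, sub_left₂ P, smul_left₂ P, he, hve]; ring
  have hef : f₂ e f = 1 := by rw [symm₂ P, hfe]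
  have hdf : f₂ d f = 0 := by
    rw [hf, sub_right₂ P, smul_right₂ P, smul_right₂ P, hdd, hde]; ring
  have hff : f₂ f f = 0 := by
    simp only [hf, sub_left₂ P, sub_right₂ P, smul_left₂ P, smul_right₂ P, he, hve, symm₂ P e v]
    have := P.two
    field_simp
    ring
  rcases H.big with hb | hq
  · -- a non-isotropic vector orthogonal to `d`, `e` and `f`
    obtain ⟨y, hy, hyd, hye, hyf⟩ : ∃ y, f₂ y y ≠ 0 ∧ f₂ y d = 0 ∧ f₂ y e = 0 ∧ f₂ y f = 0 := by
      let L : (Fin b → F) →ₗ[F] F × F × F := LinearMap.prod ((bilinOf P.hf₂.bilinear).flip d)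
        (LinearMap.prod ((bilinOf P.hf₂.bilinear).flip e) ((bilinOf P.hf₂.bilinear).flip f))
      obtain ⟨z, hz, hz0⟩ := Submodule.exists_mem_ne_zero_of_ne_bot
        (LinearMap.ker_ne_bot_of_finrank_lt (f := L) (by
          rw [finrank_prod, finrank_prod, finrank_self, finrank_fin_fun]
          omega))
      rw [LinearMap.mem_ker] at hz
      have hzd : f₂ z d = 0 := congrArg Prod.fst hz
      have hze : f₂ z e = 0 := congrArg (fun t => t.2.1) hz
      have hzf : f₂ z f = 0 := congrArg (fun t => t.2.2) hz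
      by_cases hzz : f₂ z z = 0
      swap
      · exact ⟨z, hzz, hzd, hze, hzf⟩
      obtain ⟨x, hx⟩ := (P.hf₂.nondegenerate z hz0).1
      set x' := x - (f₂ x d / f₂ d d) • d - f₂ x f • e - f₂ x e • f with hx'
      have h1 : f₂ x' d = 0 := by
        simp only [hx', sub_left₂ P, smul_left₂ P, hed, symm₂ P f d, hdf]
        field_simp
        ring
      have h2 : f₂ x' e = 0 := by
        simp only [hx', sub_left₂ P, smul_left₂ P, hde, he, hfe]; ring
      have h3 : f₂ x' f = 0 := by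
        simp only [hx', sub_left₂ P, smul_left₂ P, hdf, hef, hff]; ring
      have h4 : f₂ x' z = f₂ x z := by
        simp only [hx', sub_left₂ P, smul_left₂ P, symm₂ P d z, symm₂ P e z, symm₂ P f z, hzd, hze,
          hzf]
        ring
      by_cases hxx : f₂ x' x' = 0
      · refine ⟨x' + z, ?_, by rw [add_left₂ P, h1, hzd, add_zero],
          by rw [add_left₂ P, h2, hze, add_zero], by rw [add_left₂ P, h3, hzf, add_zero]⟩
        rw [add_left₂ P, add_right₂ P, add_right₂ P, hzz, hxx, symm₂ P z x', h4]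
        intro h0
        refine mul_ne_zero P.two hx ?_
        linear_combination h0
      · exact ⟨x', hxx, h1, h2, h3⟩
    have hey : f₂ e y = 0 := by rw [symm₂ P, hye]
    obtain ⟨C, hC, hCx⟩ := exists_siegel P he hey
    have hCd : C •ᵥ d = d := by rw [hCx, hde, symm₂ P d y, hyd]; simp
    have h1 := Up.sub_sym H (hCd ▸ Up.move H h hC) h
    set X := C •ᵥ d' - d' with hX
    have h2 := Up.sub_sym H (hCd ▸ Up.move H h1 hC) h1
    have hXe : f₂ X e = 0 := by
      simp only [hX, hCx d', sub_left₂ P, add_left₂ P, smul_left₂ P, hye, he]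
      ring
    have hXy : f₂ X y = f₂ d' e * f₂ y y := by
      simp only [hX, hCx d', sub_left₂ P, add_left₂ P, smul_left₂ P, hey]
      ring
    have e2 : C •ᵥ X - X = (-(f₂ d' e * f₂ y y)) • e := by
      rw [hCx X, hXe, hXy]
      module
    rw [e2] at h2
    exact no_sym_iso H hno hu hd (smul_ne_zero (neg_ne_zero.2 (mul_ne_zero hne hy)) he0)
      (by rw [smul_left₂ P, smul_right₂ P, he, mul_zero, mul_zero])
      (by rw [smul_right₂ P, hde, mul_zero]) h2
  · -- a torus element
    classical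
    obtain ⟨l, hl⟩ : ∃ l : F, l ∉ ({0, 1, -1, -2} : Finset F) := by
      by_contra hcon
      push Not at hcon
      have h1 := Finset.card_le_card (s := Finset.univ) (fun x _ => hcon x)
      have h2 : ({0, 1, -1, -2} : Finset F).card ≤ 4 := Finset.card_le_four
      rw [Nat.card_eq_fintype_card] at hq
      rw [Finset.card_univ] at h1
      omega
    simp only [Finset.mem_insert, Finset.mem_singleton, not_or] at hl
    obtain ⟨hl0, hl1, hlm, hl2⟩ := hl
    have key : ∀ s : F, s ≠ 0 → Up f₁ M u (symMap P.hf₂.bilinear d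
        (((s - 1) * f₂ d' f) • e + ((s⁻¹ - 1) * f₂ d' e) • f)) := by
      intro s hs
      let T : (Fin b → F) →ₗ[F] (Fin b → F) := LinearMap.id
        + ((s - 1) • (bilinOf P.hf₂.bilinear).flip f).smulRight e
        + ((s⁻¹ - 1) • (bilinOf P.hf₂.bilinear).flip e).smulRight f
      have hT : ∀ x, T x = x + ((s - 1) * f₂ x f) • e + ((s⁻¹ - 1) * f₂ x e) • f := fun x => by
        simp [T]
      obtain ⟨C, hC⟩ := exists_gl P.hf₂.bilinear P.hf₂.nondegenerate T one_ne_zero fun x x' => by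
        simp only [hT, add_left₂ P, add_right₂ P, smul_left₂ P, smul_right₂ P, he, hff, hef, hfe,
          symm₂ P e x', symm₂ P f x']
        field_simp
        ring
      have hCi : C ∈ isoOf f₂ := mem_isoOf.2 fun x x' => by
        rw [hC, hC]
        simp only [hT, add_left₂ P, add_right₂ P, smul_left₂ P, smul_right₂ P, he, hff, hef, hfe,
          symm₂ P e x', symm₂ P f x']
        field_simp
        ring
      have hCd : C •ᵥ d = d := by rw [hC, hT, hdf, hde]; simp
      have h1 := Up.sub_sym H (hCd ▸ Up.move H h hCi) h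
      rwa [hC, hT, add_assoc, add_sub_cancel_left] at h1
    have hl01 : l + 1 ≠ 0 := fun h0 => hlm (eq_neg_of_add_eq_zero_left h0)
    have h1 := Up.sub_sym H (Up.sub_sym H (key (l + 1) hl01) (key l hl0)) (key 2 P.two)
    refine no_sym_iso H hno hu hd ?_ ?_ ?_ (e := (((l + 1)⁻¹ - l⁻¹ + 1 - (2 : F)⁻¹) * f₂ d' e) • f)
      (Up.congr H h1 fun w => ?_)
    · refine smul_ne_zero (mul_ne_zero ?_ hne) fun h0 => one_ne_zero (α := F) (by
        rw [← hef, h0, form_zero_right P.hf₂.bilinear])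
      intro h0
      have := P.two
      field_simp at h0
      have h3 : (l + 2) * (l - 1) = 0 := by linear_combination h0
      rcases mul_eq_zero.1 h3 with h4 | h4
      · exact hl2 (eq_neg_of_add_eq_zero_left h4)
      · exact hl1 (sub_eq_zero.1 h4)
    · rw [smul_left₂ P, smul_right₂ P, hff, mul_zero, mul_zero]
    · rw [smul_right₂ P, hdf, mul_zero]
    · simp only [symMap_apply, sub_right₂ P, add_right₂ P, smul_right₂ P]
      module

/-- No symmetric map of two orthogonal vectors. -/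
lemma no_sym {d d' : Fin b → F} (hd : f₂ d d ≠ 0) (hd'0 : d' ≠ 0) (hdd : f₂ d d' = 0) :
    ¬ Up f₁ M u (symMap H.pair.hf₂.bilinear d d') := by
  intro h
  have P := H.pair
  by_cases hd' : f₂ d' d' = 0
  · exact no_sym_iso H hno hu hd hd'0 hd' hdd h
  have hd'd : f₂ d' d = 0 := by rw [symm₂ P, hdd]
  by_cases hiso : ∃ e, e ≠ 0 ∧ f₂ e e = 0 ∧ f₂ d e = 0
  · obtain ⟨e, he0, he, hde⟩ := hiso
    by_cases hne : f₂ d' e = 0
    swap
    · exact no_sym_orth H hno hu hd hdd he hde hne h
    obtain ⟨x, hx⟩ := (P.hf₂.nondegenerate e he0).1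
    set v := x - (f₂ x d / f₂ d d) • d with hv
    have hvd : f₂ v d = 0 := by
      simp only [hv, sub_left₂ P, smul_left₂ P]
      field_simp
      ring
    have hve : f₂ v e = f₂ x e := by
      simp only [hv, sub_left₂ P, smul_left₂ P, hde]; ring
    set v' := (f₂ x e)⁻¹ • v with hv'
    set f := v' - (f₂ v' v' / 2) • e with hf
    have hfd : f₂ d f = 0 := by
      simp only [hf, hv', sub_right₂ P, smul_right₂ P, symm₂ P d v, hvd, hde]; ring
    have hv'e : f₂ v' e = 1 := by rw [hv', smul_left₂ P, hve, inv_mul_cancel₀ hx]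
    have hff : f₂ f f = 0 := by
      simp only [hf, sub_left₂ P, sub_right₂ P, smul_left₂ P, smul_right₂ P, he, hv'e, symm₂ P e v']
      have := P.two
      field_simp
      ring
    by_cases hnf : f₂ d' f = 0
    swap
    · exact no_sym_orth H hno hu hd hdd hff hfd hnf h
    have hfe : f₂ f e = 1 := by simp only [hf, sub_left₂ P, smul_left₂ P, he, hv'e]; ring
    refine no_sym_orth H hno hu hd hdd (e := d' + f - (f₂ d' d' / 2) • e) ?_ ?_ ?_ h
    · simp only [sub_left₂ P, add_left₂ P, sub_right₂ P, add_right₂ P, smul_left₂ P, smul_right₂ P,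
        he, hff, hne, hnf, hfe, symm₂ P e d', symm₂ P f d', symm₂ P e f]
      have := P.two
      field_simp
      ring
    · simp only [sub_right₂ P, add_right₂ P, smul_right₂ P, hdd, hfd, hde]; ring
    · simp only [sub_right₂ P, add_right₂ P, smul_right₂ P, hnf, hne]
      simpa using hd'
  push Not at hiso
  obtain ⟨z, hz0, hzd, hzd'⟩ := exists_orth₂ P d d'
  have hzz : f₂ z z ≠ 0 := fun h0 => hiso z hz0 h0 (by rw [symm₂ P, hzd])
  have hdz : f₂ d z = 0 := by rw [symm₂ P, hzd]
  have hd'z : f₂ d' z = 0 := by rw [symm₂ P, hzd']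
  obtain ⟨t, β, htβ⟩ := exists_two_sq P hd (mul_ne_zero (mul_ne_zero hzz hzz) hd')
    (f₂ d' d' ^ 2 * f₂ z z)
  set v := d' + β • z with hv
  set v' := (β * f₂ z z) • d' - f₂ d' d' • z with hv'
  have hv'0 : v' ≠ 0 := fun h0 => by
    have := congrArg (fun y => f₂ y z) h0
    simp only [hv', sub_left₂ P, smul_left₂ P, hd'z, form_zero_left P.hf₂.bilinear, mul_zero,
      zero_sub, neg_eq_zero, mul_eq_zero] at this
    rcases this with h1 | h1
    · exact hd' h1
    · exact hzz h1
  have hv'd : f₂ d v' = 0 := by simp only [hv', sub_right₂ P, smul_right₂ P, hdd, hdz]; ring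
  have hvv' : f₂ v v' = 0 := by
    simp only [hv, hv', add_left₂ P, sub_right₂ P, smul_left₂ P, smul_right₂ P, hd'z, hzd']; ring
  have hdv : f₂ d v = 0 := by simp only [hv, add_right₂ P, smul_right₂ P, hdd, hdz]; ring
  have hvd' : f₂ v d' = f₂ d' d' := by simp only [hv, add_left₂ P, smul_left₂ P, hzd']; ring
  have hv0 : v ≠ 0 := fun h0 => hd' (by rw [← hvd', h0, form_zero_left P.hf₂.bilinear])
  have hvv : f₂ v v ≠ 0 := fun h0 => hiso v hv0 h0 hdv
  have ht : t ≠ 0 := fun h0 => hiso v' hv'0 (by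
    simp only [hv', sub_left₂ P, sub_right₂ P, smul_left₂ P, smul_right₂ P, hd'z, hzd']
    rw [h0] at htβ
    linear_combination htβ) hv'd
  obtain ⟨g, hg, -, hgx⟩ := exists_refl P hvv
  have hgd : g •ᵥ d = d := by rw [hgx, hdv]; simp
  have h1 := Up.sub_sym H h (hgd ▸ Up.move H h hg)
  rw [hgx d', sub_sub_cancel, symm₂ P d' v, hvd'] at h1
  set x := (2 * f₂ d' d' / f₂ v v) • v with hx
  have hx0 : (2 * f₂ d' d' / f₂ v v) ≠ 0 := div_ne_zero (mul_ne_zero P.two hd') hvv
  refine no_sym_orth H hno hu (d := x) (d' := d) (e := t • d + v') ?_ ?_ ?_ ?_ ?_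
    (Up.congr H h1 fun w => ?_)
  · rw [hx, smul_left₂ P, smul_right₂ P]
    exact mul_ne_zero hx0 (mul_ne_zero hx0 hvv)
  · rw [hx, smul_left₂ P, symm₂ P v d, hdv, mul_zero]
  · simp only [add_left₂ P, add_right₂ P, smul_left₂ P, smul_right₂ P, symm₂ P v' d, hv'd]
    simp only [hv', sub_left₂ P, sub_right₂ P, smul_left₂ P, smul_right₂ P, hd'z, hzd']
    linear_combination htβ
  · simp only [hx, add_right₂ P, smul_left₂ P, smul_right₂ P, symm₂ P v d, hdv, hvv']; ring
  · simp only [add_right₂ P, smul_right₂ P, hv'd, add_zero]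
    exact mul_ne_zero ht hd
  · simp only [symMap_apply, add_comm]

/-- Only scalar maps. -/
theorem only_scalar {S : (Fin b → F) →ₗ[F] (Fin b → F)} (h : Up f₁ M u S) :
    ∃ c : F, ∀ w, S w = c • w := by
  have P := H.pair
  obtain ⟨v, huv, hvu⟩ := exists_partner P.hf₁ hu
  have hsym : ∀ w w', f₂ (S w) w' = f₂ w (S w') := by
    intro w w'
    obtain ⟨g, hg, hgz⟩ := h
    have h1 := mem_isoOf.1 (H.le hg) (pt v w) (pt v w')
    rw [hgz, hgz, lc_pt P, lc_pt P, map_smul, map_smul, hvu] at h1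
    simp only [P.hB.bilinear.add_left, P.hB.bilinear.add_right, P.B_pt, P.hf₁.alternating, huv, hvu,
      smul_left₂ P, smul_right₂ P, zero_mul, zero_add, add_zero] at h1
    linear_combination -h1
  have heig : ∀ d, f₂ d d ≠ 0 → S d ∈ Submodule.span F {d} := by
    intro d hd
    by_contra hn
    obtain ⟨r, hr, hrr, hrx⟩ := exists_refl P hd
    let S' : (Fin b → F) →ₗ[F] (Fin b → F) :=
      (Matrix.toLin' r.val).comp (S.comp (Matrix.toLin' r.val))
    have hrinv : ∀ w, r •ᵥ (r •ᵥ w) = w := fun w => by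
      rw [← gl_mulVec_mul, hrr, Units.val_one, one_mulVec]
    have hS' : Up f₁ M u S' := Up.conj H h hr fun w => by
      simp [S', Matrix.toLin'_apply, hrinv]
    set c := f₂ (S d) d / f₂ d d with hc
    set d' := (2 / f₂ d d) • (S d - c • d) with hd'
    refine no_sym H hno hu hd (d' := d') ?_ ?_ (Up.congr H (Up.sub H h hS') fun w => ?_)
    · refine smul_ne_zero (div_ne_zero P.two hd) fun h0 => hn ?_
      exact Submodule.mem_span_singleton.2 ⟨c, (sub_eq_zero.1 h0).symm⟩
    · rw [hd', smul_right₂ P, sub_right₂ P, smul_right₂ P, symm₂ P d (S d), hc, div_mul_cancel₀ _ hd,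
        sub_self, mul_zero]
    · simp only [LinearMap.sub_apply, S', LinearMap.comp_apply, Matrix.toLin'_apply, hrx,
        map_sub S, map_smul S, symMap_apply, hd', hc, sub_left₂ P, smul_left₂ P, smul_right₂ P,
        sub_right₂ P, hsym w d]
      match_scalars <;> field_simp <;> ring
  refine scalar_of_eig (by have := P.three_le; omega) S fun x => ?_
  by_cases hx : f₂ x x = 0
  swap
  · exact heig x hx
  rcases eq_or_ne x 0 with rfl | hx0
  · rw [map_zero]; exact Submodule.zero_mem _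
  obtain ⟨f, hf, hxf⟩ := exists_iso_partner P hx0 hx
  obtain ⟨z, hz0, hzx, hzf⟩ := exists_orth₂ P x f
  obtain ⟨w, hw, hwz⟩ := exists_aniso P hz0
  set v := w - f₂ w f • x - f₂ w x • f with hv
  have hfx : f₂ f x = 1 := by rw [symm₂ P, hxf]
  have hvx : f₂ v x = 0 := by simp only [hv, sub_left₂ P, smul_left₂ P, hx, hfx]; ring
  have hvf : f₂ v f = 0 := by simp only [hv, sub_left₂ P, smul_left₂ P, hf, hxf]; ring
  have hvz : f₂ v z = f₂ w z := by
    simp only [hv, sub_left₂ P, smul_left₂ P, symm₂ P x z, symm₂ P f z, hzx, hzf]; ring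
  obtain ⟨y, hy, hyx, hyn⟩ : ∃ y, f₂ y y ≠ 0 ∧ f₂ y x = 0 ∧ y ∉ Submodule.span F {x} := by
    by_cases hzz : f₂ z z = 0
    · by_cases hvv : f₂ v v = 0
      · refine ⟨v + z, ?_, by rw [add_left₂ P, hvx, hzx, add_zero], fun hs => ?_⟩
        · rw [add_left₂ P, add_right₂ P, add_right₂ P, hzz, hvv, symm₂ P z v, hvz]
          intro h0
          refine mul_ne_zero P.two hwz ?_
          linear_combination h0
        · obtain ⟨t, ht⟩ := Submodule.mem_span_singleton.1 hs
          have h1 : f₂ (v + z) z = 0 := by rw [← ht, smul_left₂ P, symm₂ P x z, hzx, mul_zero]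
          rw [add_left₂ P, hzz, add_zero, hvz] at h1
          exact hwz h1
      · refine ⟨v, hvv, hvx, fun hs => hvv ?_⟩
        obtain ⟨t, ht⟩ := Submodule.mem_span_singleton.1 hs
        rw [← ht, smul_left₂ P, smul_right₂ P, hx, mul_zero, mul_zero]
    · refine ⟨z, hzz, hzx, fun hs => hzz ?_⟩
      obtain ⟨t, ht⟩ := Submodule.mem_span_singleton.1 hs
      rw [← ht, smul_left₂ P, smul_right₂ P, hx, mul_zero, mul_zero]
  have hxy : f₂ x y = 0 := by rw [symm₂ P, hyx]
  obtain ⟨α, hα⟩ := Submodule.mem_span_singleton.1 (heig y hy)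
  obtain ⟨β, hβ⟩ := Submodule.mem_span_singleton.1 (heig (y + x) (by
    rw [add_left₂ P, add_right₂ P, add_right₂ P, hyx, hxy, hx]; simpa using hy))
  obtain ⟨γ, hγ⟩ := Submodule.mem_span_singleton.1 (heig (y - x) (by
    rw [sub_left₂ P, sub_right₂ P, sub_right₂ P, hyx, hxy, hx]; simpa using hy))
  rw [map_add, ← hα] at hβ
  rw [map_sub, ← hα] at hγ
  have e1 : (2 * α - β - γ) • y = (β - γ) • x := by linear_combination (norm := module) -hβ - hγ
  have e2 : β = γ := by
    by_contra hne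
    have e3 := congrArg (fun t => f₂ t y) e1
    simp only [smul_left₂ P, hxy, mul_zero, mul_eq_zero, or_iff_left hy] at e3
    rw [e3, zero_smul] at e1
    exact hx0 ((smul_eq_zero.1 e1.symm).resolve_left (sub_ne_zero.2 hne))
  subst e2
  have e4 : α = β := by
    rw [sub_self, zero_smul, smul_eq_zero] at e1
    rcases e1 with e1 | e1
    · refine mul_left_cancel₀ P.two ?_
      linear_combination e1
    · exact absurd (by rw [e1, form_zero_left P.hf₂.bilinear]) hy
  subst e4
  exact Submodule.mem_span_singleton.2 ⟨α, by linear_combination (norm := module) hβ⟩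

end CfsgLib.ClassicalMax.STens
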