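/-
Elements fixing a line of the symplectic factor and translating its orthogonal into it act there
by scalars.
-/
import Cfsg.Agent.Lib.ClassicalMax.STensOS
set_option autoImplicit false
set_option linter.unusedSectionVars false

namespace CfsgLib.ClassicalMax.STens

open Matrix Kronecker Module Cfsg.Geo
open CfsgLib.ClassicalMax.Kron

variable {F : Type*} [Field F] [DecidableEq F] {a b : ℕ}

/-- The action of an element on a vector. -/
local notation:80 g:81 " •ᵥ " z:80 => Matrix.mulVec (Units.val g) z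

variable {B : (Fin a × Fin b → F) → (Fin a × Fin b → F) → F}
  {f₁ : (Fin a → F) → (Fin a → F) → F} {f₂ : (Fin b → F) → (Fin b → F) → F}
  {M : Subgroup (GL (Fin a × Fin b) F)}

/-- An element fixing the line of `u` and translating its orthogonal into it. -/
def Rad (f₁ : (Fin a → F) → (Fin a → F) → F) (M : Subgroup (GL (Fin a × Fin b) F)) (u : Fin a → F)
    (x : GL (Fin a × Fin b) F) (L : (Fin a → F) → ((Fin b → F) →ₗ[F] (Fin b → F))) : Prop :=
  x ∈ M ∧ (∀ w, x •ᵥ pt u w = pt u w) ∧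
    ∀ y, f₁ y u = 0 → ∀ w, x •ᵥ pt y w = pt y w + pt u (L y w)

/-- A translation concentrated at one vector. -/
def Cl (f₁ : (Fin a → F) → (Fin a → F) → F) (M : Subgroup (GL (Fin a × Fin b) F)) (u d : Fin a → F)
    (K : (Fin b → F) →ₗ[F] (Fin b → F)) : Prop :=
  ∃ x, Rad f₁ M u x fun y => f₁ y d • K

variable (H : Over B f₁ f₂ M) {u : Fin a → F}
include H

lemma B_act {g : GL (Fin a × Fin b) F} (hg : g ∈ M) (z z' : Fin a × Fin b → F) :
    B (g •ᵥ z) (g •ᵥ z') = B z z' :=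
  mem_isoOf.1 (H.le hg) z z'

lemma sh_act {y : Fin a → F} (hy : f₁ y u = 0) (z : Fin a × Fin b → F) :
    kronGL (sh f₁ y u 1) (1 : GL (Fin b) F) •ᵥ z = z + pt y (lc f₁ u z) + pt u (lc f₁ y z) := by
  have := linear_ext (f := Matrix.toLin' (kronGL (sh f₁ y u 1) (1 : GL (Fin b) F)).val)
    (g := LinearMap.id + (ptL y).comp (lc f₁ u) + (ptL u).comp (lc f₁ y)) fun x w => by
      simp [Matrix.toLin'_apply, kronGL_pt, sh_mulVec H.pair.hf₁ hy, pt_add_left, lc_pt H.pair,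
        pt_smul_left]
  exact LinearMap.congr_fun this z

lemma Rad.congr {x : GL (Fin a × Fin b) F} {L L' : (Fin a → F) → ((Fin b → F) →ₗ[F] (Fin b → F))}
    (h : Rad f₁ M u x L) (e : ∀ y, f₁ y u = 0 → ∀ w, L y w = L' y w) : Rad f₁ M u x L' :=
  ⟨h.1, h.2.1, fun y hy w => by rw [h.2.2 y hy, e y hy]⟩

lemma Rad.mul {x x' : GL (Fin a × Fin b) F} {L L' : (Fin a → F) → ((Fin b → F) →ₗ[F] (Fin b → F))}
    (h : Rad f₁ M u x L) (h' : Rad f₁ M u x' L') : Rad f₁ M u (x * x') fun y => L y + L' y := by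
  refine ⟨M.mul_mem h.1 h'.1, fun w => by rw [gl_mulVec_mul, h'.2.1, h.2.1], fun y hy w => ?_⟩
  rw [gl_mulVec_mul, h'.2.2 y hy, mulVec_add, h.2.1, h.2.2 y hy, LinearMap.add_apply, pt_add_right]
  abel

lemma Rad.inv {x : GL (Fin a × Fin b) F} {L : (Fin a → F) → ((Fin b → F) →ₗ[F] (Fin b → F))}
    (h : Rad f₁ M u x L) : Rad f₁ M u x⁻¹ fun y => -L y := by
  refine ⟨M.inv_mem h.1, fun w => gl_mulVec_injective x ?_, fun y hy w => gl_mulVec_injective x ?_⟩
  · show _ *ᵥ _ = _ *ᵥ _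
    rw [gl_mulVec_inv_mulVec, h.2.1]
  · show _ *ᵥ _ = _ *ᵥ _
    rw [gl_mulVec_inv_mulVec, mulVec_add, h.2.1, h.2.2 y hy, LinearMap.neg_apply, pt_neg_right]
    abel

lemma Rad.of_sh {y' : Fin a → F} (hy' : f₁ y' u = 0) :
    Rad f₁ M u (kronGL (sh f₁ y' u 1) (1 : GL (Fin b) F)) fun y => f₁ y y' • LinearMap.id := by
  refine ⟨kron_left_mem H (sh_mem_isoOf H.pair.hf₁ _ _ _), fun w => ?_, fun y hy w => ?_⟩
  · rw [sh_act H hy', lc_pt_self H.pair, lc_pt H.pair, pt_zero_right, add_zero,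
      (form_symplectic_eq_zero_comm H.pair.hf₁).1 hy', zero_smul, pt_zero_right, add_zero]
  · rw [sh_act H hy', lc_pt H.pair, lc_pt H.pair, hy, zero_smul, pt_zero_right, add_zero]
    rfl

lemma Rad.conjL {x : GL (Fin a × Fin b) F} {L : (Fin a → F) → ((Fin b → F) →ₗ[F] (Fin b → F))}
    (h : Rad f₁ M u x L) {A : GL (Fin a) F} (hA : A ∈ isoOf f₁) (hAu : A •ᵥ u = u) :
    Rad f₁ M u (kronGL A 1 * x * (kronGL A 1)⁻¹) fun y => L ((A⁻¹ : GL (Fin a) F) •ᵥ y) := by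
  have hmi : (kronGL A (1 : GL (Fin b) F))⁻¹ = kronGL A⁻¹ (1 : GL (Fin b) F) := by
    rw [kronGL_inv, inv_one]
  have hAi : (A⁻¹ : GL (Fin a) F) •ᵥ u = u := gl_mulVec_injective A (by
    show _ *ᵥ _ = _ *ᵥ _
    rw [gl_mulVec_inv_mulVec, hAu])
  refine ⟨M.mul_mem (M.mul_mem (kron_left_mem H hA) h.1) (M.inv_mem (kron_left_mem H hA)),
    fun w => ?_, fun y hy w => ?_⟩
  · rw [gl_mulVec_mul, gl_mulVec_mul, hmi, kronGL_pt, Units.val_one, one_mulVec, hAi, h.2.1,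
      kronGL_pt, Units.val_one, one_mulVec, hAu]
  · have hy' : f₁ ((A⁻¹ : GL (Fin a) F) •ᵥ y) u = 0 := by
      conv_lhs => rw [← hAi]
      rw [mem_isoOf.1 (inv_mem hA), hy]
    rw [gl_mulVec_mul, gl_mulVec_mul, hmi, kronGL_pt, Units.val_one, one_mulVec, h.2.2 _ hy',
      mulVec_add, kronGL_pt, kronGL_pt, gl_mulVec_inv_mulVec, Units.val_one, one_mulVec, one_mulVec,
      hAu]

lemma Rad.conjR {x : GL (Fin a × Fin b) F} {L : (Fin a → F) → ((Fin b → F) →ₗ[F] (Fin b → F))}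
    (h : Rad f₁ M u x L) {C : GL (Fin b) F} (hC : C ∈ isoOf f₂) :
    Rad f₁ M u (kronGL 1 C * x * (kronGL 1 C)⁻¹) fun y =>
      (Matrix.toLin' C.val).comp ((L y).comp (Matrix.toLin' (C⁻¹ : GL (Fin b) F).val)) := by
  have hmi : (kronGL (1 : GL (Fin a) F) C)⁻¹ = kronGL (1 : GL (Fin a) F) C⁻¹ := by
    rw [kronGL_inv, inv_one]
  refine ⟨M.mul_mem (M.mul_mem (kron_right_mem H hC) h.1) (M.inv_mem (kron_right_mem H hC)),
    fun w => ?_, fun y hy w => ?_⟩
  · rw [gl_mulVec_mul, gl_mulVec_mul, hmi, kronGL_pt, Units.val_one, one_mulVec, h.2.1,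
      kronGL_pt, Units.val_one, one_mulVec, gl_mulVec_inv_mulVec]
  · rw [gl_mulVec_mul, gl_mulVec_mul, hmi, kronGL_pt, Units.val_one, one_mulVec, h.2.2 _ hy,
      mulVec_add, kronGL_pt, kronGL_pt, gl_mulVec_inv_mulVec, Units.val_one, one_mulVec, one_mulVec]
    simp [Matrix.toLin'_apply]

lemma Rad.lin {x : GL (Fin a × Fin b) F} {L : (Fin a → F) → ((Fin b → F) →ₗ[F] (Fin b → F))}
    (h : Rad f₁ M u x L) (hu : u ≠ 0) {y y' : Fin a → F} (hy : f₁ y u = 0) (hy' : f₁ y' u = 0)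
    (c : F) (w : Fin b → F) : L (y + c • y') w = L y w + c • L y' w := by
  refine ptL_injective hu ?_
  have h1 := h.2.2 (y + c • y') (by
    rw [H.pair.hf₁.bilinear.add_left, H.pair.hf₁.bilinear.smul_left, hy, hy']; simp) w
  rw [pt_add_left, pt_smul_left, mulVec_add, mulVec_smul, h.2.2 y hy, h.2.2 y' hy'] at h1
  simp only [ptL_apply, pt_add_right, pt_smul_right]
  linear_combination (norm := module) -h1

lemma Rad.lc_self {x : GL (Fin a × Fin b) F} {L : (Fin a → F) → ((Fin b → F) →ₗ[F] (Fin b → F))}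
    (h : Rad f₁ M u x L) (z : Fin a × Fin b → F) : lc f₁ u (x •ᵥ z) = lc f₁ u z := by
  refine ext₂ H.pair fun w => ?_
  rw [← B_lc H.pair, ← B_lc H.pair]
  conv_lhs => rw [← h.2.1 w]
  rw [B_act H h.1]

lemma Rad.lc_orth {x : GL (Fin a × Fin b) F} {L : (Fin a → F) → ((Fin b → F) →ₗ[F] (Fin b → F))}
    (h : Rad f₁ M u x L) {y : Fin a → F} (hy : f₁ y u = 0) (z : Fin a × Fin b → F) (w : Fin b → F) :
    f₂ (lc f₁ y (x •ᵥ z) - lc f₁ y z) w = -f₂ (lc f₁ u z) (L y w) := by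
  have P := H.pair
  have h1 := B_act H h.1 z (pt y w)
  rw [h.2.2 y hy, P.hB.bilinear.add_right, B_lc P, B_lc P, B_lc P, Rad.lc_self H h] at h1
  rw [sub_left₂ P]
  linear_combination h1

variable (hno : NoTv B f₂ M) (hu : u ≠ 0) [Fintype F]
include hno hu

/-- The symmetric part is scalar. -/
lemma Rad.sym {x : GL (Fin a × Fin b) F} {L : (Fin a → F) → ((Fin b → F) →ₗ[F] (Fin b → F))}
    (h : Rad f₁ M u x L) {y : Fin a → F} (hy : f₁ y u = 0) :
    ∃ c : F, ∀ w w', f₂ (L y w) w' + f₂ w (L y w') = c * f₂ w w' := by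
  have P := H.pair
  obtain ⟨v, huv, hvu⟩ := exists_partner P.hf₁ hu
  set E := kronGL (sh f₁ y u 1) (1 : GL (Fin b) F) with hE
  have hEM : E ∈ M := kron_left_mem H (sh_mem_isoOf P.hf₁ _ _ _)
  let Ls : (Fin b → F) →ₗ[F] (Fin b → F) :=
    (lc f₁ y - (lc f₁ y).comp (Matrix.toLin' x.val)).comp (-ptL v)
  have hadj : ∀ s t, f₂ (Ls s) t = f₂ s (L y t) := fun s t => by
    have h1 := Rad.lc_orth H h hy (-pt v s) t
    rw [map_neg (lc f₁ u), lc_pt P, hvu, neg_one_smul, neg_neg] at h1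
    have e : Ls s = -(lc f₁ y (x •ᵥ (-pt v s)) - lc f₁ y (-pt v s)) := by
      simp only [Ls, LinearMap.comp_apply, LinearMap.sub_apply, LinearMap.neg_apply, ptL_apply,
        Matrix.toLin'_apply, map_neg, mulVec_neg]
      abel
    rw [e, ← neg_one_smul F (lc f₁ y _ - _), smul_left₂ P, h1]
    ring
  have hLs : ∀ z, lc f₁ y z - lc f₁ y (x •ᵥ z) = Ls (lc f₁ u z) := fun z => by
    refine ext₂ P fun t => ?_
    have h1 := Rad.lc_orth H h hy z t
    rw [hadj, sub_left₂ P]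
    rw [sub_left₂ P] at h1
    linear_combination -h1
  obtain ⟨c, hc⟩ := only_scalar H hno hu (S := L y + Ls)
    ⟨x * E * x⁻¹ * E⁻¹, M.mul_mem (M.mul_mem (M.mul_mem h.1 hEM) (M.inv_mem h.1)) (M.inv_mem hEM),
      fun z => by
        obtain ⟨z, rfl⟩ : ∃ z', z = E •ᵥ (x •ᵥ z') :=
          ⟨x⁻¹ •ᵥ (E⁻¹ •ᵥ z), by rw [gl_mulVec_inv_mulVec, gl_mulVec_inv_mulVec]⟩
        have hlE : lc f₁ u (E •ᵥ (x •ᵥ z)) = lc f₁ u z := by
          rw [hE, sh_act H hy, map_add, map_add, lc_pt P, hy, zero_smul, add_zero, lc_pt_self P,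
            add_zero, Rad.lc_self H h]
        rw [gl_mulVec_mul, gl_mulVec_mul, gl_mulVec_mul, gl_inv_mulVec_mulVec, gl_inv_mulVec_mulVec,
          hlE, hE, sh_act H hy, sh_act H hy, Rad.lc_self H h, mulVec_add, mulVec_add, h.2.1,
          h.2.2 y hy, LinearMap.add_apply, pt_add_right, ← hLs, pt_sub_right]
        abel⟩
  refine ⟨c, fun s t => ?_⟩
  rw [← hadj, ← add_left₂ P, ← LinearMap.add_apply, hc, smul_left₂ P]

omit hno [Fintype F] in
/-- The action of a concentrated translation. -/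
lemma Cl.expand {d : Fin a → F} {K : (Fin b → F) →ₗ[F] (Fin b → F)}
    (hK : ∀ w w', f₂ (K w) w' + f₂ w (K w') = 0) {x : GL (Fin a × Fin b) F}
    (h : Rad f₁ M u x fun y => f₁ y d • K) (z : Fin a × Fin b → F) :
    ∃ t, x •ᵥ z = z - pt d (K (lc f₁ u z)) + pt u t := by
  have P := H.pair
  obtain ⟨v, huv, -⟩ := exists_partner P.hf₁ hu
  refine ⟨lc f₁ v (x •ᵥ z - z + pt d (K (lc f₁ u z))), ?_⟩
  rw [← eq_ptL P huv (z := x •ᵥ z - z + pt d (K (lc f₁ u z))) fun y hy => ext₂ P fun w => ?_]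
  · abel
  rw [map_add, map_sub, lc_pt P, add_left₂ P, Rad.lc_orth H h hy, smul_left₂ P,
    LinearMap.smul_apply, smul_right₂ P, form_zero_left P.hf₂.bilinear, P.hf₁.skew d y]
  linear_combination (-f₁ y d) * hK (lc f₁ u z) w

/-- Commutators of concentrated translations. -/
lemma Cl.comm {d d' : Fin a → F} (hd : f₁ d u = 0) (hd' : f₁ d' u = 0) (hdd : f₁ d d' ≠ 0)
    {K K' : (Fin b → F) →ₗ[F] (Fin b → F)}
    (hK : ∀ w w', f₂ (K w) w' + f₂ w (K w') = 0) (hK' : ∀ w w', f₂ (K' w) w' + f₂ w (K' w') = 0)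
    (h : Cl f₁ M u d K) (h' : Cl f₁ M u d' K') :
    ∃ c : F, ∀ w, K (K' w) + K' (K w) = c • w := by
  have P := H.pair
  obtain ⟨x, hx⟩ := h
  obtain ⟨x', hx'⟩ := h'
  obtain ⟨c, hc⟩ := only_scalar H hno hu (S := f₁ d d' • (K.comp K' + K'.comp K))
    ⟨x * x' * x⁻¹ * x'⁻¹,
      M.mul_mem (M.mul_mem (M.mul_mem hx.1 hx'.1) (M.inv_mem hx.1)) (M.inv_mem hx'.1), fun z => by
      obtain ⟨z, rfl⟩ : ∃ z', z = x' •ᵥ (x •ᵥ z') :=
        ⟨x⁻¹ •ᵥ (x'⁻¹ •ᵥ z), by rw [gl_mulVec_inv_mulVec, gl_mulVec_inv_mulVec]⟩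
      rw [Rad.lc_self H hx', Rad.lc_self H hx, gl_mulVec_mul, gl_mulVec_mul, gl_mulVec_mul,
        gl_inv_mulVec_mulVec, gl_inv_mulVec_mulVec]
      obtain ⟨t, ht⟩ := Cl.expand H hu hK hx z
      obtain ⟨t', ht'⟩ := Cl.expand H hu hK' hx' z
      rw [ht', mulVec_add, mulVec_sub, hx.2.1, hx.2.2 d' hd', ht, mulVec_add, mulVec_sub, hx'.2.1,
        hx'.2.2 d hd, ht']
      simp only [LinearMap.smul_apply, LinearMap.add_apply, LinearMap.comp_apply, P.hf₁.skew d' d,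
        smul_add, pt_add_right, neg_smul, pt_neg_right]
      abel⟩
  refine ⟨(f₁ d d')⁻¹ * c, fun w => ?_⟩
  rw [mul_smul, ← hc w]
  simp [inv_smul_smul₀ hdd]

omit hno [Fintype F] in
lemma exists_not_orth {d : Fin a → F} (hdu : d ∉ Submodule.span F {u}) :
    ∃ d', f₁ d' u = 0 ∧ f₁ d d' ≠ 0 := by
  have P := H.pair
  obtain ⟨v, huv, hvu⟩ := exists_partner P.hf₁ hu
  by_contra hcon
  push Not at hcon
  refine hdu (Submodule.mem_span_singleton.2 ⟨f₁ d v, (ext₁ P fun x => ?_).symm⟩)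
  have h1 := hcon (x + f₁ x u • v) (by
    rw [P.hf₁.bilinear.add_left, P.hf₁.bilinear.smul_left, hvu]; ring)
  rw [P.hf₁.bilinear.add_right, P.hf₁.bilinear.smul_right] at h1
  rw [P.hf₁.bilinear.smul_left, P.hf₁.skew u x]
  linear_combination h1

/-- Concentrated skew translations are trivial. -/
lemma Cl.eq_zero {d : Fin a → F} (hd : f₁ d u = 0) (hdu : d ∉ Submodule.span F {u})
    {K : (Fin b → F) →ₗ[F] (Fin b → F)} (hK : ∀ w w', f₂ (K w) w' + f₂ w (K w') = 0)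
    (h : Cl f₁ M u d K) : ∀ w, K w = 0 := by
  have P := H.pair
  obtain ⟨d', hd', hdd⟩ := exists_not_orth H hu hdu
  set A := sTv f₁ (d' - d) (f₁ d d')⁻¹
  have hA : A ∈ isoOf f₁ := sTv_mem_isoOf P.hf₁ _ _
  have hAd : A •ᵥ d = d' := sTv_sub_mulVec P.hf₁ hdd
  have hAu : A •ᵥ u = u := sTv_mulVec_of_orth P.hf₁ _ (by
    rw [form_sub_right P.hf₁.bilinear, P.hf₁.skew u d', P.hf₁.skew u d, hd', hd]; ring)
  have htrans : ∀ K', Cl f₁ M u d K' → Cl f₁ M u d' K' := fun K' h' => by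
    obtain ⟨x, hx⟩ := h'
    refine ⟨_, Rad.congr H (Rad.conjL H hx hA hAu) fun y hy w => ?_⟩
    rw [← hAd]
    conv_rhs => rw [← gl_mulVec_inv_mulVec A y, mem_isoOf.1 hA]
  have haniso : ∀ p, f₂ p p ≠ 0 → K p = 0 := by
    intro p hp
    obtain ⟨r, hr, hrr, hrx⟩ := exists_refl P hp
    have hri : r⁻¹ = r := inv_eq_of_mul_eq_one_right hrr
    let K' : (Fin b → F) →ₗ[F] (Fin b → F) :=
      (2 / f₂ p p) • (((bilinOf P.hf₂.bilinear).flip p).smulRight (K p)
        - ((bilinOf P.hf₂.bilinear).flip (K p)).smulRight p)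
    have hK'x : ∀ w, K' w = (2 / f₂ p p) • (f₂ w p • K p - f₂ w (K p) • p) := fun w => by simp [K']
    have hKp : f₂ (K p) p = 0 := by
      have h1 := hK p p
      rw [symm₂ P p (K p)] at h1
      exact (mul_eq_zero.1 (by linear_combination h1 : (2 : F) * f₂ (K p) p = 0)).resolve_left P.two
    have hpK : f₂ p (K p) = 0 := by rw [symm₂ P, hKp]
    have hK'sk : ∀ w w', f₂ (K' w) w' + f₂ w (K' w') = 0 := fun w w' => by
      simp only [hK'x, smul_left₂ P, smul_right₂ P, sub_left₂ P, sub_right₂ P, symm₂ P (K p) w',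
        symm₂ P p w']
      ring
    have hC : Cl f₁ M u d K' := by
      obtain ⟨x, hx⟩ := h
      refine ⟨_, Rad.congr H (Rad.mul H hx (Rad.inv H (Rad.conjR H hx hr))) fun y hy w => ?_⟩
      have e : f₂ (K w) p = -f₂ w (K p) := eq_neg_of_add_eq_zero_left (hK w p)
      simp only [hri, LinearMap.add_apply, LinearMap.neg_apply, LinearMap.comp_apply,
        LinearMap.smul_apply, Matrix.toLin'_apply, hrx, hK'x, map_sub K, map_smul K,
        sub_left₂ P, smul_left₂ P, hKp, e, mul_zero, sub_zero, smul_sub]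
      match_scalars <;> ring
    obtain ⟨c, hc⟩ := Cl.comm H hno hu hd hd' hdd hK'sk hK'sk hC (htrans _ hC)
    have hc0 : c = 0 := by
      obtain ⟨z, hz, hzp, hzK⟩ := exists_orth₂ P p (K p)
      have h1 := hc z
      rw [show K' z = 0 by rw [hK'x, hzp, hzK]; simp, map_zero, add_zero] at h1
      exact (smul_eq_zero.1 h1.symm).resolve_right hz
    have hsq : ∀ w, K' (K' w) = 0 := fun w => by
      have h1 := hc w
      rw [hc0, zero_smul, ← two_smul F] at h1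
      exact (smul_eq_zero.1 h1).resolve_left P.two
    by_contra hne
    obtain ⟨y, hy⟩ := (P.hf₂.nondegenerate (K p) hne).1
    have h2 := hsq y
    simp only [hK'x, smul_left₂ P, sub_left₂ P, hKp, hpK] at h2
    have h3 : f₂ (K p) (K p) = 0 := by
      have h4 := congrArg (fun t => f₂ t p) (hsq p)
      simp only [hK'x, smul_left₂ P, sub_left₂ P, hKp, hpK,
        form_zero_left P.hf₂.bilinear] at h4
      have h5 : 2 * (2 : F) * f₂ p p * f₂ (K p) (K p) = 0 := by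
        have := P.two
        field_simp at h4
        linear_combination -h4
      exact (mul_eq_zero.1 h5).resolve_left (mul_ne_zero (mul_ne_zero P.two P.two) hp)
    have h6 := congrArg (fun t => f₂ t y) h2
    simp only [smul_left₂ P, sub_left₂ P, h3, symm₂ P (K p) y, form_zero_left P.hf₂.bilinear] at h6
    field_simp at h6
    refine mul_ne_zero (mul_ne_zero (mul_ne_zero P.two P.two) hp) (mul_ne_zero hy hy) ?_
    linear_combination -h6
  intro w
  rcases eq_or_ne w 0 with rfl | hw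
  · rw [map_zero]
  by_cases hww : f₂ w w = 0
  · obtain ⟨p, hp, hpw⟩ := exists_aniso P hw
    by_cases h1 : f₂ (w + p) (w + p) = 0
    · have h2 : f₂ (w - p) (w - p) ≠ 0 := fun h2 => hp (by
        simp only [add_left₂ P, add_right₂ P, sub_left₂ P, sub_right₂ P, hww, symm₂ P w p] at h1 h2
        exact (mul_eq_zero.1 (by linear_combination h1 + h2 : (2 : F) * f₂ p p = 0)).resolve_left
          P.two)
      have h3 := haniso _ h2
      rwa [map_sub, haniso p hp, sub_zero] at h3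
    · have h3 := haniso _ h1
      rwa [map_add, haniso p hp, add_zero] at h3
  · exact haniso w hww

/-- Radical elements act by scalars. -/
theorem Rad.scalar {x : GL (Fin a × Fin b) F} {L : (Fin a → F) → ((Fin b → F) →ₗ[F] (Fin b → F))}
    (h : Rad f₁ M u x L) {d : Fin a → F} (hd : f₁ d u = 0) :
    ∃ c : F, ∀ w, L d w = c • w := by
  have P := H.pair
  by_cases hdu : d ∈ Submodule.span F {u}
  · obtain ⟨c, rfl⟩ := Submodule.mem_span_singleton.1 hdu
    refine ⟨0, fun w => ptL_injective hu ?_⟩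
    have h1 := h.2.2 _ hd w
    rw [pt_smul_left, mulVec_smul, h.2.1, left_eq_add] at h1
    rw [zero_smul, map_zero, ptL_apply, h1]
  obtain ⟨c, hc⟩ := Rad.sym H hno hu h hd
  set A := sTv f₁ d (-1)
  have hA : A ∈ isoOf f₁ := sTv_mem_isoOf P.hf₁ _ _
  have hud : f₁ u d = 0 := (form_symplectic_eq_zero_comm P.hf₁).1 hd
  have hAu : A •ᵥ u = u := sTv_mulVec_of_orth P.hf₁ _ hud
  have hAi : ∀ y, (A⁻¹ : GL (Fin a) F) •ᵥ y = y + f₁ y d • d := fun y => by
    rw [show A⁻¹ = sTv f₁ d 1 by rw [sTv_inv P.hf₁, neg_neg], sTv_mulVec P.hf₁, one_mul]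
  have hd2 : f₁ ((-c / 2) • d) u = 0 := by rw [P.hf₁.bilinear.smul_left, hd, mul_zero]
  set K := L d - (c / 2) • LinearMap.id with hKdef
  have hKsk : ∀ w w', f₂ (K w) w' + f₂ w (K w') = 0 := fun w w' => by
    simp only [hKdef, LinearMap.sub_apply, LinearMap.smul_apply, LinearMap.id_apply, sub_left₂ P,
      sub_right₂ P, smul_left₂ P, smul_right₂ P]
    have := P.two
    field_simp
    linear_combination 2 * hc w w'
  have hK : Cl f₁ M u d K := by
    refine ⟨_, Rad.congr H (Rad.mul H (Rad.mul H (Rad.conjL H h hA hAu) (Rad.inv H h))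
      (Rad.of_sh H hd2)) fun y hy w => ?_⟩
    simp only [LinearMap.add_apply, LinearMap.neg_apply, LinearMap.smul_apply, LinearMap.id_apply,
      hAi, Rad.lin H h hu hy hd, hKdef, LinearMap.sub_apply, P.hf₁.bilinear.smul_right]
    module
  refine ⟨c / 2, fun w => sub_eq_zero.1 ?_⟩
  simpa [hKdef] using Cl.eq_zero H hno hu hd hdu hKsk hK w

end CfsgLib.ClassicalMax.STens
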