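/-
An element mapping a line of the symplectic factor onto another one is a tensor.
-/
import Cfsg.Agent.Lib.ClassicalMax.STensRad
set_option autoImplicit false
set_option linter.unusedSectionVars false

namespace CfsgLib.ClassicalMax.STens

open Matrix Kronecker Module Cfsg.Geo
open CfsgLib.ClassicalMax.Kron
open CfsgLib.ClassicalMax.TensorSL (InH)

variable {F : Type*} [Field F] [DecidableEq F] {a b : ℕ}

/-- The action of an element on a vector. -/
local notation:80 g:81 " •ᵥ " z:80 => Matrix.mulVec (Units.val g) z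

variable {B : (Fin a × Fin b → F) → (Fin a × Fin b → F) → F}
  {f₁ : (Fin a → F) → (Fin a → F) → F} {f₂ : (Fin b → F) → (Fin b → F) → F}
  {M : Subgroup (GL (Fin a × Fin b) F)}

variable (H : Over B f₁ f₂ M) (hno : NoTv B f₂ M) [Fintype F]
include H hno

/-- The stabiliser of a line of the first factor consists of tensors. -/
theorem inH_of_stab {g : GL (Fin a × Fin b) F} (hg : g ∈ M) {u : Fin a → F} (hu : u ≠ 0)
    (hline : ∀ w, ∃ w', g •ᵥ pt u w = pt u w') : InH g := by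
  classical
  have P := H.pair
  have hf₁ := P.hf₁
  obtain ⟨v, huv, hvu⟩ := exists_partner hf₁ hu
  have hlcv : ∀ w : Fin b → F, lc f₁ v (pt u w) = w := fun w => by rw [lc_pt P, huv, one_smul]
  have hlcu : ∀ s : Fin b → F, lc f₁ u (-pt v s) = s := fun s => by
    rw [map_neg, lc_pt P, hvu, neg_one_smul, neg_neg]
  let α : (Fin b → F) →ₗ[F] (Fin b → F) := (lc f₁ v).comp ((Matrix.toLin' g.val).comp (ptL u))
  have hα : ∀ w, g •ᵥ pt u w = pt u (α w) := by
    intro w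
    obtain ⟨y, hy⟩ := hline w
    simp [α, Matrix.toLin'_apply, hy, hlcv]
  have hαinj : Function.Injective α := fun x y hxy => by
    refine ptL_injective hu (gl_mulVec_injective g ?_)
    show g •ᵥ pt u x = g •ᵥ pt u y
    rw [hα, hα, hxy]
  have hαu : IsUnit (LinearMap.toMatrix' α) := Matrix.mulVec_injective_iff_isUnit.1 fun x y hxy =>
    hαinj (by rwa [LinearMap.toMatrix'_mulVec, LinearMap.toMatrix'_mulVec] at hxy)
  set αG : GL (Fin b) F := hαu.unit with hαG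
  have hαv : ∀ x, αG •ᵥ x = α x := fun x => by
    rw [hαG, IsUnit.unit_spec, LinearMap.toMatrix'_mulVec]
  let β : (Fin b → F) →ₗ[F] (Fin b → F) :=
    (lc f₁ u).comp ((Matrix.toLin' (g⁻¹ : GL (Fin a × Fin b) F).val).comp (-ptL v))
  have hβf : ∀ z w, f₂ (lc f₁ u (g⁻¹ •ᵥ z)) w = f₂ (lc f₁ u z) (α w) := fun z w => by
    rw [← B_lc P, ← B_lc P]
    have := B_act H hg (g⁻¹ •ᵥ z) (pt u w)
    rw [gl_mulVec_inv_mulVec, hα] at this
    exact this.symm
  have hβ : ∀ z, lc f₁ u (g⁻¹ •ᵥ z) = β (lc f₁ u z) := fun z => ext₂ P fun w => by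
    rw [hβf]
    have h1 := hβf (-pt v (lc f₁ u z)) w
    rw [hlcu] at h1
    simpa [β, Matrix.toLin'_apply, mulVec_neg] using h1.symm
  have hβa : ∀ s w, f₂ (β s) w = f₂ s (α w) := fun s w => by
    have h1 := hβf (-pt v s) w
    rwa [hlcu, hβ, hlcu] at h1
  obtain ⟨μ, hμ⟩ : ∃ μ : F, ∀ s, α (β s) = μ • s := by
    refine only_scalar H hno hu (S := α.comp β)
      ⟨g * kronGL (sTv f₁ u 1) 1 * g⁻¹,
        M.mul_mem (M.mul_mem hg (kron_left_mem H (sTv_mem_isoOf hf₁ u 1))) (M.inv_mem hg),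
        fun z => ?_⟩
    rw [gl_mulVec_mul, gl_mulVec_mul, root_act P, one_smul, mulVec_add, gl_mulVec_inv_mulVec, hα, hβ]
    rfl
  have hβα : ∀ r, β (α r) = μ • r := fun r => hαinj (by rw [hμ, map_smul])
  have hsim : ∀ r w, f₂ (α r) (α w) = μ * f₂ r w := fun r w => by
    rw [← hβa, hβα, smul_left₂ P]
  have hαs : ∀ y, ∃ x, α x = y := fun y =>
    ⟨(αG⁻¹ : GL (Fin b) F) •ᵥ y, by rw [← hαv, gl_mulVec_inv_mulVec]⟩
  obtain ⟨w₀, hw₀, -⟩ := exists_aniso P
    (z := (Pi.single ⟨0, by have := P.three_le; omega⟩ 1 : Fin b → F)) (by simp)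
  have hμ0 : μ ≠ 0 := fun h0 => by
    obtain ⟨x, hx⟩ := hαs w₀
    have h1 := hsim x x
    rw [hx, h0, zero_mul] at h1
    exact hw₀ h1
  have hker : ∀ z, lc f₁ u z = 0 → lc f₁ u (g •ᵥ z) = 0 := fun z hz => by
    have h1 := hβ (g •ᵥ z)
    rw [gl_inv_mulVec_mulVec, hz] at h1
    have h2 := hμ (lc f₁ u (g •ᵥ z))
    rw [← h1, map_zero] at h2
    exact (smul_eq_zero.1 h2.symm).resolve_left hμ0
  set η := (μ * f₂ w₀ w₀)⁻¹ • α w₀ with hη
  have hη1 : f₂ (α w₀) η = 1 := by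
    rw [hη, smul_right₂ P, hsim, inv_mul_cancel₀ (mul_ne_zero hμ0 hw₀)]
  let A : (Fin a → F) →ₗ[F] (Fin a → F) := (cv f₂ η).comp ((Matrix.toLin' g.val).comp (ptR w₀))
  have hAdef : ∀ y, A y = cv f₂ η (g •ᵥ pt y w₀) := fun y => rfl
  have hAu : A u = u := by rw [hAdef, hα, cv_pt P, hη1, one_smul]
  have hlc0 : ∀ y, f₁ y u = 0 → ∀ w : Fin b → F, lc f₁ u (g •ᵥ pt y w) = 0 := fun y hy w =>
    hker _ (by rw [lc_pt P, hy, zero_smul])
  have hAperp : ∀ y, f₁ y u = 0 → f₁ (A y) u = 0 := fun y hy => by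
    rw [hAdef, ← B_cv P, B_lc P, hlc0 y hy, form_zero_left P.hf₂.bilinear]
  have hdec : ∀ y, f₁ y u = 0 → ∀ w, ∃ t, g •ᵥ pt y w = pt (A y) (α w) + pt u t := by
    intro y hy w
    refine ⟨lc f₁ v (g •ᵥ pt y w - pt (A y) (α w)), ?_⟩
    rw [← eq_ptL P huv (z := g •ᵥ pt y w - pt (A y) (α w)) fun z hz => ?_]
    · abel
    set E := kronGL (sh f₁ z u 1) (1 : GL (Fin b) F) with hE
    have hEM : E ∈ M := kron_left_mem H (sh_mem_isoOf hf₁ _ _ _)
    have huz : f₁ u z = 0 := (form_symplectic_eq_zero_comm hf₁).1 hz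
    have hgi : ∀ t, g⁻¹ •ᵥ pt u t = pt u ((αG⁻¹ : GL (Fin b) F) •ᵥ t) := fun t =>
      gl_mulVec_injective g (by
        show _ *ᵥ _ = _ *ᵥ _
        rw [gl_mulVec_inv_mulVec, hα, ← hαv, gl_mulVec_inv_mulVec])
    have hx : Rad f₁ M u (g⁻¹ * E * g) fun y' => (Matrix.toLin' (αG⁻¹ : GL (Fin b) F).val).comp
        ((lc f₁ z).comp ((Matrix.toLin' g.val).comp (ptL y'))) := by
      refine ⟨M.mul_mem (M.mul_mem (M.inv_mem hg) hEM) hg, fun t => ?_, fun y' hy' t => ?_⟩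
      · rw [gl_mulVec_mul, gl_mulVec_mul, hα, hE, sh_act H hz, lc_pt_self P, pt_zero_right, add_zero,
          lc_pt P, huz, zero_smul, pt_zero_right, add_zero, ← hα, gl_inv_mulVec_mulVec]
      · rw [gl_mulVec_mul, gl_mulVec_mul, hE, sh_act H hz, hlc0 y' hy', pt_zero_right, add_zero,
          mulVec_add, gl_inv_mulVec_mulVec, hgi]
        simp [Matrix.toLin'_apply]
    obtain ⟨l, hl⟩ := Rad.scalar H hno hu hx hy
    have hl' : ∀ t, lc f₁ z (g •ᵥ pt y t) = l • α t := fun t => by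
      have h1 := congrArg (fun s => αG •ᵥ s) (hl t)
      simp only [LinearMap.comp_apply, Matrix.toLin'_apply, ptL_apply, hαv] at h1
      rwa [← hαv (_ *ᵥ _), gl_mulVec_inv_mulVec, map_smul] at h1
    have hAz : f₁ (A y) z = l := by
      rw [hAdef, ← B_cv P, B_lc P, hl', smul_left₂ P, hη1, mul_one]
    rw [map_sub, hl', lc_pt P, hAz, sub_self]
  have hAsim : ∀ y y', f₁ y u = 0 → f₁ y' u = 0 → μ * f₁ (A y) (A y') = f₁ y y' := by
    intro y y' hy hy'
    obtain ⟨t, ht⟩ := hdec y hy w₀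
    obtain ⟨t', ht'⟩ := hdec y' hy' w₀
    have h1 := B_act H hg (pt y w₀) (pt y' w₀)
    rw [ht, ht'] at h1
    simp only [P.hB.bilinear.add_left, P.hB.bilinear.add_right, P.B_pt, hsim, hAperp y hy,
      hf₁.alternating, hf₁.skew u (A y'), hAperp y' hy', neg_zero, zero_mul, add_zero] at h1
    refine mul_right_cancel₀ hw₀ ?_
    linear_combination h1
  let Pp : (Fin a → F) →ₗ[F] (Fin a → F) :=
    LinearMap.id - ((bilinOf hf₁.bilinear).flip v).smulRight u
      + ((bilinOf hf₁.bilinear).flip u).smulRight v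
  have hPp : ∀ x, Pp x = x - f₁ x v • u + f₁ x u • v := fun x => by simp [Pp]
  have hPu : ∀ x, f₁ (Pp x) u = 0 := fun x => by
    rw [hPp, hf₁.bilinear.add_left, form_sub_left hf₁.bilinear, hf₁.bilinear.smul_left,
      hf₁.bilinear.smul_left, hvu, hf₁.alternating]; ring
  have hPv : ∀ x, f₁ (Pp x) v = 0 := fun x => by
    rw [hPp, hf₁.bilinear.add_left, form_sub_left hf₁.bilinear, hf₁.bilinear.smul_left,
      hf₁.bilinear.smul_left, huv, hf₁.alternating]; ring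
  let A' : (Fin a → F) →ₗ[F] (Fin a → F) :=
    ((bilinOf hf₁.bilinear).flip v).smulRight u
      - μ⁻¹ • ((bilinOf hf₁.bilinear).flip u).smulRight v + Pp.comp (A.comp Pp)
  have hA' : ∀ x, A' x = f₁ x v • u - (μ⁻¹ * f₁ x u) • v + Pp (A (Pp x)) := fun x => by
    simp [A', smul_smul]
  have hPP : ∀ z z', f₁ z u = 0 → f₁ z' u = 0 → f₁ (Pp z) (Pp z') = f₁ z z' := by
    intro z z' hz hz'
    rw [hPp, hPp, hz, hz', zero_smul, add_zero, add_zero]
    simp only [form_sub_left hf₁.bilinear, form_sub_right hf₁.bilinear, hf₁.bilinear.smul_left,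
      hf₁.bilinear.smul_right, hf₁.alternating, hz, hf₁.skew u z', hz']
    ring
  have hA'sim : ∀ x y, f₁ (A' x) (A' y) = μ⁻¹ * f₁ x y := by
    intro x y
    have e1 : ∀ z, f₁ u (Pp z) = 0 := fun z => by rw [hf₁.skew, hPu, neg_zero]
    have e2 : ∀ z, f₁ v (Pp z) = 0 := fun z => by rw [hf₁.skew, hPv, neg_zero]
    have h1 : f₁ (Pp (A (Pp x))) (Pp (A (Pp y))) = μ⁻¹ * f₁ (Pp x) (Pp y) := by
      rw [hPP _ _ (hAperp _ (hPu x)) (hAperp _ (hPu y)), ← hAsim _ _ (hPu x) (hPu y), ← mul_assoc,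
        inv_mul_cancel₀ hμ0, one_mul]
    have h2 : f₁ (Pp x) (Pp y) = f₁ x y - f₁ x u * f₁ y v + f₁ x v * f₁ y u := by
      simp only [hPp, hf₁.bilinear.add_left, hf₁.bilinear.add_right, form_sub_left hf₁.bilinear,
        form_sub_right hf₁.bilinear, hf₁.bilinear.smul_left, hf₁.bilinear.smul_right, hf₁.alternating,
        huv, hvu, hf₁.skew u y, hf₁.skew v y]
      ring
    simp only [hA', hf₁.bilinear.add_left, hf₁.bilinear.add_right, form_sub_left hf₁.bilinear,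
      form_sub_right hf₁.bilinear, hf₁.bilinear.smul_left, hf₁.bilinear.smul_right, hf₁.alternating,
      huv, hvu, hPu, hPv, e1, e2, h1, h2]
    ring
  obtain ⟨AG, hAG⟩ := exists_gl hf₁.bilinear hf₁.nondegenerate A' (inv_ne_zero hμ0) hA'sim
  set h := kronGL AG αG with hh
  have hpt : ∀ x w, h •ᵥ pt x w = pt (A' x) (α w) := fun x w => by rw [kronGL_pt, hαv, hAG]
  have hiso : h ∈ isoOf B := mem_isoOf.2 fun z z' => by
    have h2 := linear_ext
      (f := (bilinOf P.hB.bilinear (h •ᵥ z)).comp (Matrix.toLin' h.val))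
      (g := bilinOf P.hB.bilinear z) fun x w => by
        have h1 := linear_ext
          (f := ((bilinOf P.hB.bilinear).flip (h •ᵥ pt x w)).comp (Matrix.toLin' h.val))
          (g := (bilinOf P.hB.bilinear).flip (pt x w)) fun x' w' => by
            simp only [LinearMap.comp_apply, LinearMap.flip_apply, bilinOf_apply, Matrix.toLin'_apply,
              hpt, P.B_pt, hA'sim, hsim]
            field_simp
        simpa [Matrix.toLin'_apply] using LinearMap.congr_fun h1 z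
    simpa [Matrix.toLin'_apply] using LinearMap.congr_fun h2 z'
  have hhM : h ∈ M := H.mem _ _ hiso
  have hA'u : A' u = u := by
    have e : Pp u = 0 := by rw [hPp, hf₁.alternating, huv]; simp
    rw [hA', e, map_zero, map_zero, hf₁.alternating, huv]; simp
  set x := h⁻¹ * g with hx
  have hxM : x ∈ M := M.mul_mem (M.inv_mem hhM) hg
  have hxfix : ∀ w, x •ᵥ pt u w = pt u w := fun w => gl_mulVec_injective h (by
    show _ *ᵥ _ = _ *ᵥ _
    rw [gl_mulVec_mul, gl_mulVec_inv_mulVec, hα, hpt, hA'u])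
  have hxker : ∀ y, f₁ y u = 0 → ∀ w, ∃ t, x •ᵥ pt y w = pt y w + pt u t := by
    intro y hy w
    obtain ⟨t, ht⟩ := hdec y hy w
    have e : A' y = A y + (f₁ y v - f₁ (A y) v) • u := by
      have eP : Pp y = y - f₁ y v • u := by rw [hPp, hy, zero_smul, add_zero]
      have ePu : Pp u = 0 := by rw [hPp, hf₁.alternating, huv]; simp
      rw [hA', hy, eP, map_sub A, map_smul A, hAu, map_sub Pp, map_smul Pp, ePu, hPp (A y),
        hAperp y hy]
      module
    refine ⟨(αG⁻¹ : GL (Fin b) F) •ᵥ (t - (f₁ y v - f₁ (A y) v) • α w), gl_mulVec_injective h ?_⟩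
    show _ *ᵥ _ = _ *ᵥ _
    rw [gl_mulVec_mul, gl_mulVec_inv_mulVec, ht, mulVec_add, hpt, hpt, hA'u, e, ← hαv (_ *ᵥ _),
      gl_mulVec_inv_mulVec, pt_add_left, pt_smul_left, pt_sub_right, pt_smul_right]
    abel
  let N := Matrix.toLin' x.val - LinearMap.id
  have hN : ∀ z, N z = x •ᵥ z - z := fun z => by simp [N, Matrix.toLin'_apply]
  have hR : Rad f₁ M u x fun y => (lc f₁ v).comp (N.comp (ptL y)) := ⟨hxM, hxfix, fun y hy w => by
    obtain ⟨t, ht⟩ := hxker y hy w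
    simp [hN, ht, hlcv]⟩
  set w₁ := (f₂ w₀ w₀)⁻¹ • w₀ with hw₁
  let φ : (Fin a → F) →ₗ[F] F :=
    ((bilinOf P.hf₂.bilinear).flip w₁).comp ((lc f₁ v).comp (N.comp (ptR w₀)))
  obtain ⟨y₀, hy₀⟩ := exists_form_eq hf₁.bilinear hf₁.nondegenerate φ
  have hy₀u : f₁ y₀ u = 0 := by
    rw [hf₁.skew, hy₀]
    simp [φ, hN, hxfix]
  set E := kronGL (sh f₁ y₀ u 1) (1 : GL (Fin b) F)
  have hEM : E ∈ M := kron_left_mem H (sh_mem_isoOf hf₁ _ _ _)
  set x' := E⁻¹ * x
  have hx' : Rad f₁ M u x' fun y => f₁ y u • (0 : (Fin b → F) →ₗ[F] (Fin b → F)) := by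
    refine Rad.congr H (Rad.mul H (Rad.inv H (Rad.of_sh H hy₀u)) hR) fun y hy w => ?_
    obtain ⟨c, hc⟩ := Rad.scalar H hno hu hR hy
    have hcy : f₁ y y₀ = c := by
      rw [hy₀]
      show f₂ (lc f₁ v (N (pt y w₀))) w₁ = c
      rw [show lc f₁ v (N (pt y w₀)) = c • w₀ from hc w₀, smul_left₂ P, hw₁, smul_right₂ P,
        inv_mul_cancel₀ hw₀, mul_one]
    simp only [LinearMap.add_apply, LinearMap.neg_apply, LinearMap.smul_apply, LinearMap.id_apply,
      hc, hcy, LinearMap.zero_apply, smul_zero, neg_add_cancel]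
  have hx'M : x' ∈ M := hx'.1
  have hexp : ∀ {y : GL (Fin a × Fin b) F}, (Rad f₁ M u y fun y' => f₁ y' u • (0 : (Fin b → F) →ₗ[F] (Fin b → F))) →
      ∀ z, ∃ t, y •ᵥ z = z + pt u t := fun hy' z => by
    obtain ⟨t, ht⟩ := Cl.expand H hu (K := 0) (fun w w' => by
      simp [form_zero_left P.hf₂.bilinear, form_zero_right P.hf₂.bilinear]) hy' z
    exact ⟨t, by rw [ht]; simp [pt_zero_right]⟩
  have hx'i : Rad f₁ M u x'⁻¹ fun y' => f₁ y' u • (0 : (Fin b → F) →ₗ[F] (Fin b → F)) :=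
    Rad.congr H (Rad.inv H hx') fun y _ w => by simp
  let D : (Fin a × Fin b → F) →ₗ[F] (Fin b → F) :=
    (lc f₁ v).comp (Matrix.toLin' x'.val - LinearMap.id)
  have hD : ∀ z, x' •ᵥ z = z + pt u (D z) := fun z => by
    obtain ⟨t, ht⟩ := hexp hx' z
    simp [D, Matrix.toLin'_apply, ht, hlcv]
  have hDker : ∀ z, lc f₁ u z = 0 → D z = 0 := fun z hz => by
    refine ptL_injective hu (ext_B P fun y w => ?_)
    obtain ⟨t, ht⟩ := hexp hx'i (pt y w)
    have h1 := B_act H hx'M z (x'⁻¹ •ᵥ pt y w)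
    rw [gl_mulVec_inv_mulVec, ht, hD, P.hB.bilinear.add_left, P.hB.bilinear.add_right, B_lc P z u,
      hz, form_zero_left P.hf₂.bilinear] at h1
    rw [ptL_apply, ptL_apply, pt_zero_right, form_zero_left P.hB.bilinear]
    linear_combination h1
  obtain ⟨c, hc⟩ := only_scalar H hno hu (S := D.comp (-ptL v)) ⟨x', hx'M, fun z => by
    have h0 := hDker (z - -pt v (lc f₁ u z)) (by rw [map_sub, hlcu, sub_self])
    rw [map_sub, sub_eq_zero] at h0
    rw [hD, h0]
    rfl⟩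
  have hx'root : x' = kronGL (sTv f₁ u c) 1 := gl_ext_mulVec fun z => by
    have h0 := hDker (z - -pt v (lc f₁ u z)) (by rw [map_sub, hlcu, sub_self])
    rw [map_sub, sub_eq_zero] at h0
    rw [root_act P, hD, h0, ← hc]
    rfl
  have hg' : g = h * (E * x') := by rw [mul_inv_cancel_left, hx, mul_inv_cancel_left]
  rw [hg', hx'root]
  exact InH.mul ⟨_, _, hh⟩ (InH.mul ⟨_, _, rfl⟩ ⟨_, _, rfl⟩)

/-- An element mapping a line of the first factor into another one is a tensor. -/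
theorem inH_of_line {g : GL (Fin a × Fin b) F} (hg : g ∈ M) {u u' : Fin a → F} (hu : u ≠ 0)
    (hu' : u' ≠ 0) (hline : ∀ w, ∃ w', g •ᵥ pt u w = pt u' w') : InH g := by
  obtain ⟨A, hA, hAu⟩ := exists_iso_mulVec H.pair.hf₁ hu' hu
  have hm := kron_left_mem H (closure_sTv_le H.pair.hf₁ hA)
  have := inH_of_stab H hno (M.mul_mem hm hg) hu fun w => by
    obtain ⟨w', hw'⟩ := hline w
    exact ⟨w', by rw [gl_mulVec_mul, hw', kronGL_pt, hAu, Units.val_one, one_mulVec]⟩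
  simpa using InH.mul (InH.inv ⟨_, _, rfl⟩ : InH (kronGL A (1 : GL (Fin b) F))⁻¹) this

end CfsgLib.ClassicalMax.STens
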