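/-
Root elements along the symplectic factor as endomorphisms, tensors with square zero translation
part and subspaces of pure tensors.
-/
import Cfsg.Agent.Lib.ClassicalMax.STensLine
set_option autoImplicit false
set_option linter.unusedSectionVars false

namespace CfsgLib.ClassicalMax.STens

open Matrix Kronecker Module Cfsg.Geo
open CfsgLib.ClassicalMax.Kron
open CfsgLib.ClassicalMax.TensorSL (InH lcon lcon_pt)

variable {F : Type*} [Field F] [DecidableEq F] {a b : ℕ}

/-- The action of an element on a vector. -/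
local notation:80 g:81 " •ᵥ " z:80 => Matrix.mulVec (Units.val g) z

/-- Invertible matrices as endomorphisms. -/
def act {ι : Type} [Fintype ι] [DecidableEq ι] : GL ι F →* Module.End F (ι → F) :=
  (MonoidHomClass.toMonoidHom (Matrix.toLinAlgEquiv' : Matrix ι ι F ≃ₐ[F] _)).comp
    (Units.coeHom (Matrix ι ι F))

@[simp] lemma act_apply {ι : Type} [Fintype ι] [DecidableEq ι] (g : GL ι F) (z : ι → F) :
    act g z = g •ᵥ z := by simp [act]

lemma act_injective {ι : Type} [Fintype ι] [DecidableEq ι] :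
    Function.Injective (act : GL ι F →* Module.End F (ι → F)) := fun g g' h =>
  gl_ext_mulVec fun z => by simpa using LinearMap.congr_fun h z

lemma act_inv_of {ι : Type} [Fintype ι] [DecidableEq ι] {g : GL ι F}
    {N : Module.End F (ι → F)} (hg : act g = 1 + N) (hN : N * N = 0) : act g⁻¹ = 1 - N := by
  have e1 : act g⁻¹ * (1 + N) = 1 := by rw [← hg, ← map_mul, inv_mul_cancel, map_one]
  have e2 : (1 + N) * (1 - N) = 1 := by
    rw [add_mul, one_mul, mul_sub, mul_one, hN, sub_zero, sub_add_cancel]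
  calc act g⁻¹ = act g⁻¹ * ((1 + N) * (1 - N)) := by rw [e2, mul_one]
    _ = 1 - N := by rw [← mul_assoc, e1, one_mul]

/-- A multiple of an invertible matrix. -/
lemma exists_smul_gl {k : ℕ} {c : F} (hc : c ≠ 0) (C : GL (Fin k) F) :
    ∃ C' : GL (Fin k) F, ∀ x, C' •ᵥ x = c • (C •ᵥ x) :=
  ⟨⟨c • C.val, c⁻¹ • (C⁻¹ : GL (Fin k) F).val, by
      rw [smul_mul_smul_comm, mul_inv_cancel₀ hc, Units.mul_inv, one_smul], by
      rw [smul_mul_smul_comm, inv_mul_cancel₀ hc, Units.inv_mul, one_smul]⟩,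
    fun x => Matrix.smul_mulVec _ _ _⟩

/-- An invertible matrix that is not scalar moves some line. -/
lemma scalar_or {k : ℕ} (hk : 1 ≤ k) (A : GL (Fin k) F) :
    (∃ c : F, c ≠ 0 ∧ ∀ x, A •ᵥ x = c • x) ∨ ∃ x, A •ᵥ x ∉ Submodule.span F {x} := by
  by_cases h : ∀ x, A •ᵥ x ∈ Submodule.span F {x}
  · obtain ⟨c, hc⟩ := scalar_of_eig hk (Matrix.toLin' A.val) fun x => by
      rw [Matrix.toLin'_apply]; exact h x
    refine Or.inl ⟨c, fun h0 => ?_, fun x => by rw [← hc, Matrix.toLin'_apply]⟩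
    have h1 : A •ᵥ (Pi.single ⟨0, by omega⟩ 1 : Fin k → F) = A •ᵥ 0 := by
      rw [← Matrix.toLin'_apply, hc, h0, zero_smul, mulVec_zero]
    simpa using congrFun (gl_mulVec_injective A h1) ⟨0, by omega⟩
  · exact Or.inr (not_forall.1 h)

/-- A tensor with square zero translation part is a tensor with the identity. -/
lemma sq_zero_kron (ha : 1 ≤ a) (hb : 1 ≤ b) (h2 : (2 : F) ≠ 0) {k : GL (Fin a × Fin b) F}
    (hH : InH k) (hsq : (act k - 1) * (act k - 1) = 0) :
    (∃ A, k = kronGL A (1 : GL (Fin b) F)) ∨ ∃ C, k = kronGL (1 : GL (Fin a) F) C := by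
  obtain ⟨A, C, rfl⟩ := hH
  rcases scalar_or ha A with ⟨c, hc0, hc⟩ | ⟨x, hx⟩
  · obtain ⟨C', hC'⟩ := exists_smul_gl hc0 C
    exact Or.inr ⟨C', gl_ext_pt fun x w => by
      rw [kronGL_pt, kronGL_pt, hc, hC', Units.val_one, one_mulVec, pt_smul_left, pt_smul_right]⟩
  rcases scalar_or hb C with ⟨c, hc0, hc⟩ | ⟨w, hw⟩
  · obtain ⟨A', hA'⟩ := exists_smul_gl hc0 A
    exact Or.inl ⟨A', gl_ext_pt fun x w => by
      rw [kronGL_pt, kronGL_pt, hc, hA', Units.val_one, one_mulVec, pt_smul_left, pt_smul_right]⟩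
  exfalso
  obtain ⟨η, h1, h2'⟩ := exists_dot_eq hx
  have hx' : x ∉ Submodule.span F {A •ᵥ x} := fun e => by
    obtain ⟨c, hc⟩ := Submodule.mem_span_singleton.1 e
    rcases eq_or_ne c 0 with rfl | hc0
    · rw [zero_smul] at hc
      exact hx (by rw [← hc, mulVec_zero]; exact Submodule.zero_mem _)
    · exact hx (Submodule.mem_span_singleton.2 ⟨c⁻¹, by nth_rw 1 [← hc]; rw [inv_smul_smul₀ hc0]⟩)
  obtain ⟨η', h3, h4⟩ := exists_dot_eq hx'
  have key := LinearMap.congr_fun hsq (pt x w)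
  rw [Module.End.mul_apply, LinearMap.sub_apply, LinearMap.sub_apply, Module.End.one_apply,
    Module.End.one_apply, LinearMap.zero_apply, act_apply, act_apply, kronGL_pt, mulVec_sub,
    kronGL_pt, kronGL_pt] at key
  have e1 := congrArg (lcon η') key
  have e2 := congrArg (lcon η) key
  simp only [map_sub, lcon_pt, h1, h2', h3, h4, map_zero, zero_smul, one_smul, sub_zero, zero_sub,
    sub_neg_eq_add] at e1 e2
  set d := η ⬝ᵥ (A •ᵥ (A •ᵥ x))
  set d' := η' ⬝ᵥ (A •ᵥ (A •ᵥ x))
  have hd' : d' ≠ 0 := fun h0 => by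
    rw [h0, zero_smul, zero_add] at e1
    exact hw (by rw [e1, mulVec_zero]; exact Submodule.zero_mem _)
  have e3 : d • (C •ᵥ (C •ᵥ w)) = (2 : F) • (C •ᵥ w) := by
    linear_combination (norm := module) e2
  rw [show C •ᵥ (C •ᵥ w) = (-d'⁻¹) • w by
    rw [neg_smul, ← inv_smul_smul₀ hd' (C •ᵥ (C •ᵥ w)), eq_neg_of_add_eq_zero_left e1, smul_neg],
    smul_smul] at e3
  exact hw (Submodule.mem_span_singleton.2 ⟨(2 : F)⁻¹ * (d * -d'⁻¹), by
    rw [mul_smul, e3, inv_smul_smul₀ h2]⟩)

/-- An eigenspace. -/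
def ev {ι : Type} [Fintype ι] [DecidableEq ι] (g : GL ι F) (s : F) : Submodule F (ι → F) :=
  LinearMap.ker (act g - s • (1 : Module.End F (ι → F)))

lemma mem_ev {ι : Type} [Fintype ι] [DecidableEq ι] {g : GL ι F} {s : F} {x : ι → F} :
    x ∈ ev g s ↔ g •ᵥ x = s • x := by
  simp [ev, LinearMap.mem_ker, sub_eq_zero]

lemma ev_disjoint {ι : Type} [Fintype ι] [DecidableEq ι] (g : GL ι F) (h2 : (2 : F) ≠ 0)
    {x : ι → F} (h : x ∈ ev g 1) (h' : x ∈ ev g (-1)) : x = 0 := by
  rw [mem_ev] at h h'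
  rw [h, neg_one_smul, one_smul, ← add_eq_zero_iff_eq_neg, ← two_smul F] at h'
  exact (smul_eq_zero.1 h').resolve_left h2

lemma finrank_ev {ι : Type} [Fintype ι] [DecidableEq ι] (g : GL ι F) (hg : g * g = 1)
    (h2 : (2 : F) ≠ 0) : finrank F (ev g 1) + finrank F (ev g (-1)) = Fintype.card ι := by
  have hsq : ∀ x, g •ᵥ (g •ᵥ x) = x := fun x => by
    rw [← gl_mulVec_mul, hg, Units.val_one, one_mulVec]
  rw [← Submodule.finrank_sup_add_finrank_inf_eq,
    show ev g 1 ⊓ ev g (-1) = ⊥ from (Submodule.eq_bot_iff _).2 fun x hx =>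
      ev_disjoint g h2 hx.1 hx.2,
    show ev g 1 ⊔ ev g (-1) = ⊤ from Submodule.eq_top_iff'.2 fun x => ?_, finrank_bot, finrank_top,
    add_zero, finrank_fintype_fun_eq_card]
  refine Submodule.mem_sup.2 ⟨(2 : F)⁻¹ • (x + g •ᵥ x), mem_ev.2 ?_,
    (2 : F)⁻¹ • (x - g •ᵥ x), mem_ev.2 ?_, ?_⟩
  · rw [mulVec_smul, mulVec_add, hsq, one_smul, add_comm]
  · rw [mulVec_smul, mulVec_sub, hsq, neg_one_smul, ← smul_neg, neg_sub]
  · rw [← smul_add, add_add_sub_cancel, ← two_smul F, inv_smul_smul₀ h2]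

/-- Sums of pure tensors from two subspaces. -/
lemma exists_tens (P : Submodule F (Fin a → F)) (Q : Submodule F (Fin b → F)) :
    ∃ S : Submodule F (Fin a × Fin b → F), finrank F S = finrank F P * finrank F Q ∧
      ∀ N : Submodule F (Fin a × Fin b → F), (∀ x ∈ P, ∀ w ∈ Q, pt x w ∈ N) → S ≤ N := by
  let p := Module.finBasis F P
  let Φ : (Fin (finrank F P) → Q) →ₗ[F] (Fin a × Fin b → F) :=
    ∑ i, ((ptL (p i : Fin a → F)).comp Q.subtype).comp (LinearMap.proj i)
  have hΦ : ∀ s, Φ s = ∑ i, pt (p i : Fin a → F) (s i : Fin b → F) := fun s => by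
    simp [Φ, LinearMap.sum_apply]
  have hinj : Function.Injective Φ := (injective_iff_map_eq_zero Φ).2 fun s hs => by
    funext i
    refine Subtype.ext (funext fun j => ?_)
    have hli := Fintype.linearIndependent_iff.1 (p.linearIndependent.map' P.subtype
      (Submodule.ker_subtype P)) (fun i => (s i : Fin b → F) j) ?_ i
    · simpa using hli
    funext t
    have := congrFun ((hΦ s).symm.trans hs) (t, j)
    simp only [Finset.sum_apply, pt, Pi.zero_apply] at this ⊢
    simp only [Function.comp_apply, Submodule.subtype_apply, Pi.smul_apply, smul_eq_mul]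
    rw [← this]
    exact Finset.sum_congr rfl fun i _ => mul_comm _ _
  refine ⟨LinearMap.range Φ, ?_, fun N h => ?_⟩
  · rw [LinearMap.finrank_range_of_inj hinj, Module.finrank_pi_fintype, Finset.sum_const,
      Finset.card_univ, Fintype.card_fin, smul_eq_mul]
  · rintro _ ⟨s, rfl⟩
    rw [hΦ]
    exact N.sum_mem fun i _ => h _ (p i).2 _ (s i).2

/-- The vectors with all rows in a subspace. -/
def rowSub (I : Submodule F (Fin b → F)) : Submodule F (Fin a × Fin b → F) where
  carrier := {z | ∀ i, (fun j => z (i, j)) ∈ I}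
  add_mem' := fun h h' i => I.add_mem (h i) (h' i)
  zero_mem' := fun _ => I.zero_mem
  smul_mem' := fun c _ h i => I.smul_mem c (h i)

lemma finrank_rowSub (I : Submodule F (Fin b → F)) :
    finrank F (rowSub (a := a) I) = a * finrank F I := by
  let e : rowSub (a := a) I ≃ₗ[F] (Fin a → I) :=
    { toFun := fun z i => ⟨fun j => z.1 (i, j), z.2 i⟩
      invFun := fun s => ⟨fun p => (s p.1).1 p.2, fun i => (s i).2⟩
      map_add' := fun _ _ => rfl
      map_smul' := fun _ _ => rfl
      left_inv := fun _ => rfl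
      right_inv := fun _ => rfl }
  rw [e.finrank_eq, Module.finrank_pi_fintype, Finset.sum_const, Finset.card_univ,
    Fintype.card_fin, smul_eq_mul]

lemma range_kron_right (C : GL (Fin b) F) :
    LinearMap.range (act (kronGL (1 : GL (Fin a) F) C) - 1)
      = rowSub (LinearMap.range (act C - 1)) := by
  refine le_antisymm ?_ fun z hz => ?_
  · rintro _ ⟨z, rfl⟩
    rw [pt_sum_left z, map_sum]
    refine Submodule.sum_mem _ fun i _ => fun i' => ?_
    refine ⟨(Pi.single i 1 : Fin a → F) i' • fun j => z (i, j), funext fun j => ?_⟩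
    simp only [map_smul, LinearMap.sub_apply, Module.End.one_apply, act_apply, kronGL_pt,
      Units.val_one, one_mulVec, ← pt_sub_right]
    rfl
  · rw [pt_sum_left z]
    refine Submodule.sum_mem _ fun i _ => ?_
    obtain ⟨t, ht⟩ := hz i
    refine ⟨pt (Pi.single i 1) t, ?_⟩
    rw [← ht]
    simp only [LinearMap.sub_apply, Module.End.one_apply, act_apply, kronGL_pt, Units.val_one, one_mulVec,
      pt_sub_right]

variable {B : (Fin a × Fin b → F) → (Fin a × Fin b → F) → F}
  {f₁ : (Fin a → F) → (Fin a → F) → F} {f₂ : (Fin b → F) → (Fin b → F) → F}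
  {M : Subgroup (GL (Fin a × Fin b) F)}

/-- The root element along a vector of the first factor. -/
def rt (f₁ : (Fin a → F) → (Fin a → F) → F) (u : Fin a → F) : GL (Fin a × Fin b) F :=
  kronGL (sTv f₁ u 1) 1

/-- Its translation part. -/
def rR (f₁ : (Fin a → F) → (Fin a → F) → F) (u : Fin a → F) :
    Module.End F (Fin a × Fin b → F) := (ptL u).comp (lc f₁ u)

@[simp] lemma rR_apply (u : Fin a → F) (z : Fin a × Fin b → F) :
    rR f₁ u z = pt u (lc f₁ u z) := rfl

section
variable (P : Pair B f₁ f₂)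
include P

lemma act_rt (u : Fin a → F) : act (rt f₁ u : GL (Fin a × Fin b) F) = 1 + rR f₁ u :=
  LinearMap.ext fun z => by simp [rt, root_act P]

lemma rR_sq (u : Fin a → F) : rR f₁ u * rR f₁ u = (0 : Module.End F (Fin a × Fin b → F)) :=
  LinearMap.ext fun z => by simp [Module.End.mul_apply, lc_pt_self P, pt_zero_right]

lemma zero_of_aniso {N : (Fin b → F) →ₗ[F] (Fin b → F)} (h : ∀ p, f₂ p p ≠ 0 → N p = 0)
    (w : Fin b → F) : N w = 0 := by
  rcases eq_or_ne w 0 with rfl | hw
  · rw [map_zero]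
  by_cases hww : f₂ w w = 0
  · obtain ⟨p, hp, hpw⟩ := exists_aniso P hw
    by_cases h1 : f₂ (w + p) (w + p) = 0
    · have h2 : f₂ (w - p) (w - p) ≠ 0 := fun h2 => hp (by
        simp only [add_left₂ P, add_right₂ P, sub_left₂ P, sub_right₂ P, hww, symm₂ P w p] at h1 h2
        exact (mul_eq_zero.1 (by linear_combination h1 + h2 : (2 : F) * f₂ p p = 0)).resolve_left
          P.two)
      have h3 := h _ h2
      rwa [map_sub, h p hp, sub_zero] at h3
    · have h3 := h _ h1
      rwa [map_add, h p hp, add_zero] at h3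
  · exact h w hww

lemma exists_lc {u : Fin a → F} (hu : u ≠ 0) (s : Fin b → F) :
    ∃ z : Fin a × Fin b → F, lc f₁ u z = s := by
  obtain ⟨v, -, hvu⟩ := exists_partner P.hf₁ hu
  exact ⟨-pt v s, by rw [map_neg, lc_pt P, hvu, neg_one_smul, neg_neg]⟩

lemma rt_ne_one {u : Fin a → F} (hu : u ≠ 0) : (rt f₁ u : GL (Fin a × Fin b) F) ≠ 1 := by
  intro h
  have hw : (Pi.single ⟨0, by have := P.three_le; omega⟩ 1 : Fin b → F) ≠ 0 := by simp
  obtain ⟨z, hz⟩ := exists_lc P hu (Pi.single ⟨0, by have := P.three_le; omega⟩ 1 : Fin b → F)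
  have := LinearMap.congr_fun ((act_rt P u).symm.trans (by rw [h, map_one])) z
  rw [LinearMap.add_apply, add_eq_left, rR_apply, hz] at this
  exact pt_ne_zero hu hw this

/-- The translation part of a conjugate. -/
lemma act_conj_rt (g : GL (Fin a × Fin b) F) (u : Fin a → F) :
    act (g * rt f₁ u * g⁻¹) = 1 + act g * rR f₁ u * act g⁻¹ := by
  rw [map_mul, map_mul, act_rt P, mul_add, mul_one, add_mul, ← map_mul, mul_inv_cancel, map_one]

lemma conj_sq (g : GL (Fin a × Fin b) F) (u : Fin a → F) :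
    act g * rR f₁ u * act g⁻¹ * (act g * rR f₁ u * act g⁻¹) = 0 := by
  simp only [mul_assoc]
  rw [← mul_assoc (act g⁻¹) (act g), ← map_mul, inv_mul_cancel, map_one, one_mul,
    ← mul_assoc (rR f₁ u), rR_sq P]
  simp

lemma finrank_range_conj (g : GL (Fin a × Fin b) F) {u : Fin a → F} (hu : u ≠ 0) :
    finrank F (LinearMap.range (act (g * rt f₁ u * g⁻¹) - 1)) = b := by
  have e : LinearMap.range (act (g * rt f₁ u * g⁻¹) - 1)
      = LinearMap.range ((act g).comp (ptL (b := b) u)) := by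
    rw [act_conj_rt P, add_sub_cancel_left]
    refine le_antisymm ?_ ?_
    · rintro _ ⟨z, rfl⟩; exact ⟨lc f₁ u (act g⁻¹ z), rfl⟩
    · rintro _ ⟨s, rfl⟩
      obtain ⟨z, hz⟩ := exists_lc P hu s
      exact ⟨g •ᵥ z, by simp [Module.End.mul_apply, hz]⟩
  have hinj : Function.Injective ((act g).comp (ptL (b := b) u)) := fun s t h =>
    ptL_injective hu (gl_mulVec_injective g (by simpa using h))
  rw [e, LinearMap.finrank_range_of_inj hinj, finrank_fin_fun]

end

end CfsgLib.ClassicalMax.STens
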