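/-
With at least four dimensions in the symplectic factor every element above the stabiliser of the
product is a tensor, unless a transvection with pure centre occurs.
-/
import Cfsg.Agent.Lib.ClassicalMax.STensTools
import Cfsg.Agent.Lib.ClassicalMax.STensAlg
set_option autoImplicit false
set_option linter.unusedSectionVars false

namespace CfsgLib.ClassicalMax.STens

open Matrix Kronecker Module Cfsg.Geo Polynomial
open CfsgLib.ClassicalMax.Kron
open CfsgLib.ClassicalMax.TensorSL (InH lcon lcon_pt)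

variable {F : Type*} [Field F] [DecidableEq F] {a b : ℕ}

/-- The action of an element on a vector. -/
local notation:80 g:81 " •ᵥ " z:80 => Matrix.mulVec (Units.val g) z

variable {B : (Fin a × Fin b → F) → (Fin a × Fin b → F) → F}
  {f₁ : (Fin a → F) → (Fin a → F) → F} {f₂ : (Fin b → F) → (Fin b → F) → F}
  {M : Subgroup (GL (Fin a × Fin b) F)}

/-- The compression of an endomorphism to a line of the first factor. -/
def tp (f₁ : (Fin a → F) → (Fin a → F) → F) (u : Fin a → F)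
    (K : Module.End F (Fin a × Fin b → F)) : Module.End F (Fin b → F) :=
  (lc f₁ u).comp ((K : (Fin a × Fin b → F) →ₗ[F] (Fin a × Fin b → F)).comp (ptL u))

lemma tp_apply (u : Fin a → F) (K : Module.End F (Fin a × Fin b → F)) (s : Fin b → F) :
    tp f₁ u K s = lc f₁ u (K (pt u s)) := rfl

/-- Two square zero elements with vanishing product give commuting unipotents. -/
lemma unip_comm {A : Type*} [Ring A] {R K : A} (hR : R * R = 0) (hK : K * K = 0)
    (h : R * K * R = 0) :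
    (1 + K) * (1 + R) * (1 - K) * (1 + R) = (1 + R) * ((1 + K) * (1 + R) * (1 - K)) := by
  simp only [mul_assoc] at h
  have e : ∀ x, R * (R * x) = 0 := fun x => by rw [← mul_assoc, hR, zero_mul]
  have e' : ∀ x, R * (K * (R * x)) = 0 := fun x => by
    rw [← mul_assoc K R, ← mul_assoc R, h, zero_mul]
  simp only [add_mul, mul_add, sub_mul, mul_sub, one_mul, mul_one, mul_assoc, hR, hK, h, e, e', mul_zero,
    zero_sub, add_zero, zero_add]
  abel

/-- Two conjugates commuting with a unipotent. -/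
lemma four_rkr {A : Type*} [Ring A] {R K : A} (hR : R * R = 0)
    (e1 : (1 + R) * ((1 + K) * (1 + R) * (1 - K)) = (1 + K) * (1 + R) * (1 - K) * (1 + R))
    (e2 : (1 + R) * ((1 - K) * (1 + R) * (1 + K)) = (1 - K) * (1 + R) * (1 + K) * (1 + R)) :
    R * K * R + R * K * R + (R * K * R + R * K * R) = 0 := by
  have e : ∀ x, R * (R * x) = 0 := fun x => by rw [← mul_assoc, hR, zero_mul]
  simp only [add_mul, mul_add, sub_mul, mul_sub, one_mul, mul_one, mul_assoc, hR, e, mul_zero,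
    sub_zero, zero_sub, add_zero] at e1 e2 ⊢
  linear_combination (norm := abel) e1 - e2

variable (H : Over B f₁ f₂ M) (hno : NoTv B f₂ M) [Fintype F]
include H hno

/-- An element commuting with a root element is a tensor. -/
lemma inH_of_comm {k : GL (Fin a × Fin b) F} (hk : k ∈ M) {u : Fin a → F} (hu : u ≠ 0)
    (h : k * rt f₁ u = rt f₁ u * k) : InH k := by
  refine inH_of_stab H hno hk hu fun w => ?_
  obtain ⟨z, hz⟩ := exists_lc H.pair hu w
  refine ⟨lc f₁ u (k •ᵥ z), ?_⟩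
  have h1 := LinearMap.congr_fun (congrArg act h) z
  rw [map_mul, map_mul, act_rt H.pair, Module.End.mul_apply, Module.End.mul_apply,
    LinearMap.add_apply, LinearMap.add_apply, Module.End.one_apply, Module.End.one_apply, map_add,
    rR_apply, rR_apply, act_apply, act_apply, hz] at h1
  exact add_left_cancel h1

omit hno [Fintype F] in
lemma rt_mem {u : Fin a → F} : (rt f₁ u : GL (Fin a × Fin b) F) ∈ M :=
  kron_left_mem H (sTv_mem_isoOf H.pair.hf₁ u 1)

omit hno [Fintype F] in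
lemma conj_rt_mem {g : GL (Fin a × Fin b) F} (hg : g ∈ M) {u : Fin a → F} :
    g * rt f₁ u * g⁻¹ ∈ M :=
  M.mul_mem (M.mul_mem hg (rt_mem H)) (M.inv_mem hg)

/-- A conjugate root element in the first factor comes from a tensor. -/
lemma inH_of_rootA {g : GL (Fin a × Fin b) F} (hg : g ∈ M) {u₀ : Fin a → F} (hu₀ : u₀ ≠ 0)
    {A : GL (Fin a) F} (h : g * rt f₁ u₀ * g⁻¹ = kronGL A 1) : InH g := by
  have P := H.pair
  obtain ⟨v, huv, -⟩ := exists_partner P.hf₁ hu₀
  obtain ⟨x, hx⟩ : ∃ x, A •ᵥ x - x ≠ 0 := by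
    by_contra hcon
    push Not at hcon
    refine rt_ne_one P hu₀ (b := b) (conj_eq_one_iff.1 (h.trans (gl_ext_pt fun x w => ?_)))
    rw [kronGL_pt, sub_eq_zero.1 (hcon x), Units.val_one, one_mulVec, Units.val_one, one_mulVec]
  set y := A •ᵥ x - x with hy
  have himg : ∀ w, ∃ t, g •ᵥ pt u₀ t = pt y w := fun w => by
    refine ⟨lc f₁ u₀ (g⁻¹ •ᵥ pt x w), ?_⟩
    have h1 := LinearMap.congr_fun ((congrArg act h).symm.trans (act_conj_rt P g u₀)) (pt x w)
    simp only [act_apply, LinearMap.add_apply, Module.End.one_apply, Module.End.mul_apply, rR_apply,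
      kronGL_pt, Units.val_one, one_mulVec] at h1
    rw [hy, pt_sub_left, h1, add_sub_cancel_left]
  let σ : (Fin b → F) →ₗ[F] (Fin b → F) :=
    (lc f₁ v).comp ((act g⁻¹ : (Fin a × Fin b → F) →ₗ[F] _).comp (ptL y))
  have hσ : ∀ w, g •ᵥ pt u₀ (σ w) = pt y w := fun w => by
    obtain ⟨t, ht⟩ := himg w
    have : σ w = t := by
      simp only [σ, LinearMap.comp_apply, ptL_apply, act_apply]
      rw [← ht, gl_inv_mulVec_mulVec, lc_pt P, huv, one_smul]
    rw [this, ht]
  have hinj : Function.Injective σ := fun w w' e => ptL_injective hx (by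
    rw [ptL_apply, ptL_apply, ← hσ, ← hσ, e])
  refine inH_of_line H hno hg hu₀ hx fun t => ?_
  obtain ⟨w, rfl⟩ := LinearMap.surjective_of_injective hinj t
  exact ⟨w, hσ w⟩

omit hno [Fintype F] in
lemma kron_left_comm (A : GL (Fin a) F) (C : GL (Fin b) F) :
    kronGL A (1 : GL (Fin b) F) * kronGL 1 C = kronGL 1 C * kronGL A 1 := by
  rw [kronGL_mul, kronGL_mul, one_mul, mul_one, one_mul, mul_one]

lemma inH_of_rkr {g : GL (Fin a × Fin b) F} (hg : g ∈ M) {u₀ u : Fin a → F} (hu : u ≠ 0)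
    (h : rR f₁ u * (act g * rR f₁ u₀ * act g⁻¹) * rR f₁ u = 0) : InH (g * rt f₁ u₀ * g⁻¹) := by
  have P := H.pair
  set k := g * rt f₁ u₀ * g⁻¹ with hk
  set R := rR (b := b) f₁ u
  set K := act g * rR f₁ u₀ * act g⁻¹ with hKdef
  have hkM : k ∈ M := conj_rt_mem H hg
  have hR : R * R = 0 := rR_sq P u
  have hK : K * K = 0 := conj_sq P g u₀
  have hak : act k = 1 + K := act_conj_rt P g u₀
  have hki : act k⁻¹ = 1 - K := act_inv_of hak hK
  have hcomm : k * rt f₁ u * k⁻¹ * rt f₁ u = rt f₁ u * (k * rt f₁ u * k⁻¹) := by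
    refine act_injective ?_
    simp only [map_mul, hak, hki, act_rt P]
    exact unip_comm hR hK h
  have hk'M : k * rt f₁ u * k⁻¹ ∈ M := conj_rt_mem H hkM
  have hk'H := inH_of_comm H hno hk'M hu hcomm
  have hsq : (act (k * rt f₁ u * k⁻¹) - 1) * (act (k * rt f₁ u * k⁻¹) - 1) = 0 := by
    rw [act_conj_rt P, add_sub_cancel_left, conj_sq P]
  have hb := P.three_le
  obtain ⟨v, huv, hvu⟩ := exists_partner P.hf₁ hu
  have ha : 1 ≤ a := by
    by_contra h0
    exact hu (funext fun i => absurd i.2 (by omega))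
  rcases sq_zero_kron ha (by omega) P.two hk'H hsq with ⟨A, hA⟩ | ⟨C, hC⟩
  · exact inH_of_rootA H hno hkM hu hA
  exfalso
  have hT : ∀ t, lc f₁ u (k •ᵥ pt u t) = 0 := fun t => by
    obtain ⟨z, hz⟩ := exists_lc P hu t
    have h1 := congrArg (lc f₁ v) (LinearMap.congr_fun h z)
    simp only [R, Module.End.mul_apply, rR_apply, hz, lc_pt P, huv, one_smul, LinearMap.zero_apply,
      map_zero] at h1
    rw [← act_apply, hak, LinearMap.add_apply, map_add, Module.End.one_apply, lc_pt_self P, zero_add]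
    simpa [K, Module.End.mul_apply] using h1
  refine rt_ne_one P hu (b := b) (conj_eq_one_iff.1 (hC.trans (gl_ext_pt fun x w => ?_)))
  have h1 := LinearMap.congr_fun ((congrArg act hC).symm.trans (act_conj_rt P k u)) (pt v w)
  simp only [act_apply, LinearMap.add_apply, Module.End.one_apply, Module.End.mul_apply, rR_apply,
    kronGL_pt, Units.val_one, one_mulVec] at h1
  have h2 := congrArg (lc f₁ u) h1
  rw [map_add, hT, add_zero, lc_pt P, lc_pt P, hvu, neg_one_smul, neg_one_smul, neg_inj] at h2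
  rw [kronGL_pt, h2, Units.val_one, Units.val_one, one_mulVec, one_mulVec]

omit hno [Fintype F] in
lemma tp_conj {g : GL (Fin a × Fin b) F} {u₀ u : Fin a → F} :
    (∀ s, tp f₁ u (act (g * rt f₁ u₀ * g⁻¹) * rR f₁ u * act (g * rt f₁ u₀ * g⁻¹)⁻¹) s =
        -(tp f₁ u (act g * rR f₁ u₀ * act g⁻¹) (tp f₁ u (act g * rR f₁ u₀ * act g⁻¹) s))) ∧
      ∀ s, tp f₁ u (act (g * rt f₁ u₀ * g⁻¹)⁻¹ * rR f₁ u *
          act ((g * rt f₁ u₀ * g⁻¹)⁻¹)⁻¹) s =
        -(tp f₁ u (act g * rR f₁ u₀ * act g⁻¹) (tp f₁ u (act g * rR f₁ u₀ * act g⁻¹) s)) := by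
  have P := H.pair
  rw [inv_inv]
  rw [act_inv_of (act_conj_rt P g u₀) (conj_sq P g u₀), act_conj_rt P]
  set K := act g * rR f₁ u₀ * act g⁻¹
  constructor <;> intro s <;>
    simp [tp_apply, Module.End.mul_apply, lc_pt_self P, pt_neg_right]

/-- Both derived conjugates being tensors, so is the conjugate. -/
lemma inH_of_derived {g : GL (Fin a × Fin b) F} (hg : g ∈ M) {u₀ u : Fin a → F} (hu : u ≠ 0)
    (h1 : InH (g * rt f₁ u₀ * g⁻¹ * rt f₁ u * (g * rt f₁ u₀ * g⁻¹)⁻¹))
    (h2 : InH ((g * rt f₁ u₀ * g⁻¹)⁻¹ * rt f₁ u * (g * rt f₁ u₀ * g⁻¹))) :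
    InH (g * rt f₁ u₀ * g⁻¹) := by
  have P := H.pair
  set k := g * rt f₁ u₀ * g⁻¹ with hk
  set R := rR (b := b) f₁ u
  set K := act g * rR f₁ u₀ * act g⁻¹ with hKdef
  have hkM : k ∈ M := conj_rt_mem H hg
  have hR : R * R = 0 := rR_sq P u
  have hK : K * K = 0 := conj_sq P g u₀
  have hak : act k = 1 + K := act_conj_rt P g u₀
  have hki : act k⁻¹ = 1 - K := act_inv_of hak hK
  have hb := P.three_le
  have ha : 1 ≤ a := by
    by_contra h0
    exact hu (funext fun i => absurd i.2 (by omega))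
  have hsq : ∀ g' : GL (Fin a × Fin b) F,
      (act (g' * rt f₁ u * g'⁻¹) - 1) * (act (g' * rt f₁ u * g'⁻¹) - 1) = 0 := fun g' => by
    rw [act_conj_rt P, add_sub_cancel_left, conj_sq P]
  rcases sq_zero_kron ha (by omega) P.two h1 (hsq k) with ⟨A, hA⟩ | ⟨C₁, hC₁⟩
  · exact inH_of_rootA H hno hkM hu hA
  have hsq2 := hsq k⁻¹
  rw [inv_inv] at hsq2
  rcases sq_zero_kron ha (by omega) P.two h2 hsq2 with ⟨A, hA⟩ | ⟨C₂, hC₂⟩
  · have h3 := InH.inv (inH_of_rootA H hno (M.inv_mem hkM) hu (A := A) (by rw [inv_inv]; exact hA))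
    rwa [inv_inv] at h3
  have e1 : act (rt f₁ u) * act (k * rt f₁ u * k⁻¹) = act (k * rt f₁ u * k⁻¹) * act (rt f₁ u) := by
    rw [← map_mul, ← map_mul, hC₁, rt, kron_left_comm H]
  have e2 : act (rt f₁ u) * act (k⁻¹ * rt f₁ u * k) = act (k⁻¹ * rt f₁ u * k) * act (rt f₁ u) := by
    rw [← map_mul, ← map_mul, hC₂, rt, kron_left_comm H]
  simp only [map_mul, hak, hki, act_rt P] at e1 e2
  have e3 : (4 : F) • (R * K * R) = 0 := by
    rw [show (4 : F) = 1 + 1 + (1 + 1) by norm_num]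
    simp only [add_smul, one_smul]
    exact four_rkr hR e1 e2
  refine inH_of_rkr H hno hg hu ((smul_eq_zero.1 e3).resolve_left ?_)
  rw [show (4 : F) = 2 * 2 by norm_num]
  exact mul_ne_zero P.two P.two

/-- Nilpotent compressions. -/
lemma inH_nilp : ∀ (n : ℕ) {g : GL (Fin a × Fin b) F}, g ∈ M → ∀ {u₀ u : Fin a → F}, u ≠ 0 →
    tp f₁ u (act g * rR f₁ u₀ * act g⁻¹) ^ (n + 1) = 0 → InH (g * rt f₁ u₀ * g⁻¹) := by
  intro n
  induction n with
  | zero =>
    intro g hg u₀ u hu h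
    refine inH_of_rkr H hno hg hu (LinearMap.ext fun z => ?_)
    rw [zero_add, pow_one] at h
    have := LinearMap.congr_fun h (lc f₁ u z)
    rw [tp_apply] at this
    simp only [Module.End.mul_apply, rR_apply] at this ⊢
    rw [this]
    simp [pt_zero_right]
  | succ n ih =>
    intro g hg u₀ u hu h
    have hkM : g * rt f₁ u₀ * g⁻¹ ∈ M := conj_rt_mem H hg
    obtain ⟨t1, t2⟩ := tp_conj H (g := g) (u₀ := u₀) (u := u) (b := b)
    set T := tp f₁ u (act g * rR f₁ u₀ * act g⁻¹) with hT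
    have key : ∀ T' : Module.End F (Fin b → F), (∀ s, T' s = -(T (T s))) → T' ^ (n + 1) = 0 := by
      intro T' hT'
      rw [show T' = -(T * T) from LinearMap.ext hT', neg_pow (T * T) (n + 1), ← sq, ← pow_mul,
        pow_eq_zero_of_le (by omega) h, mul_zero]
    refine inH_of_derived H hno hg hu (ih hkM hu (key _ t1)) ?_
    have h2 := ih (M.inv_mem hkM) hu (key _ t2)
    rwa [inv_inv] at h2

omit hno [Fintype F] in
/-- An involutory tensor commuting with a root element. -/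
lemma inv_frame {z : GL (Fin a × Fin b) F} (hz : z ∈ M) (hH : InH z) (hz2 : z * z = 1)
    {u : Fin a → F} (hu : u ≠ 0) (hzu : z * rt f₁ u = rt f₁ u * z) :
    ∃ A C, z = kronGL A C ∧ A •ᵥ u = u ∧ A * A = 1 ∧ C * C = 1 ∧ A ∈ isoOf f₁ ∧
      ∀ x, lc f₁ u (z •ᵥ x) = C •ᵥ lc f₁ u x := by
  have P := H.pair
  obtain ⟨A₀, C₀, hAC⟩ := hH
  obtain ⟨v, huv, hvu⟩ := exists_partner P.hf₁ hu
  set w₁ : Fin b → F := Pi.single ⟨0, by have := P.three_le; omega⟩ 1
  have hw₁ : w₁ ≠ 0 := by simp [w₁]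
  have hcomm : ∀ x, z •ᵥ pt u (lc f₁ u x) = pt u (lc f₁ u (z •ᵥ x)) := fun x => by
    have h1 := LinearMap.congr_fun (congrArg act hzu) x
    rw [map_mul, map_mul, act_rt P, Module.End.mul_apply, Module.End.mul_apply,
      LinearMap.add_apply, LinearMap.add_apply, Module.End.one_apply, Module.End.one_apply, map_add,
      rR_apply, rR_apply, act_apply, act_apply] at h1
    exact add_left_cancel h1
  obtain ⟨c, hc⟩ : ∃ c : F, A₀ •ᵥ u = c • u := by
    obtain ⟨x, hx⟩ := exists_lc P hu w₁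
    have h1 := hcomm x
    rw [hx, hAC, kronGL_pt] at h1
    obtain ⟨χ, hχ⟩ := (P.hf₂.nondegenerate (C₀ •ᵥ w₁) (gl_mulVec_ne_zero C₀ hw₁)).2
    have h2 := congrArg (cv f₂ χ) h1
    rw [cv_pt P, cv_pt P] at h2
    exact ⟨(f₂ (C₀ •ᵥ w₁) χ)⁻¹ * f₂ (lc f₁ u (kronGL A₀ C₀ •ᵥ x)) χ, by
      rw [mul_smul, ← h2, inv_smul_smul₀ hχ]⟩
  have hc0 : c ≠ 0 := fun h0 => gl_mulVec_ne_zero A₀ hu (by rw [hc, h0, zero_smul])
  obtain ⟨A, hA⟩ := exists_smul_gl (inv_ne_zero hc0) A₀
  obtain ⟨C, hC⟩ := exists_smul_gl hc0 C₀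
  have hzAC : z = kronGL A C := by
    rw [hAC]
    refine gl_ext_pt fun x w => ?_
    rw [kronGL_pt, kronGL_pt, hA, hC, pt_smul_left, pt_smul_right, inv_smul_smul₀ hc0]
  have hAu : A •ᵥ u = u := by rw [hA, hc, inv_smul_smul₀ hc0]
  have hlc : ∀ x, lc f₁ u (z •ᵥ x) = C •ᵥ lc f₁ u x := fun x => by
    have h1 := hcomm x
    rw [hzAC, kronGL_pt, hAu] at h1
    rw [hzAC]
    exact (ptL_injective hu h1).symm
  have hCC : C * C = 1 := gl_ext_mulVec fun s => by
    obtain ⟨x, rfl⟩ := exists_lc P hu s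
    rw [gl_mulVec_mul, ← hlc, ← hlc, ← gl_mulVec_mul, hz2, Units.val_one, Units.val_one, one_mulVec,
      one_mulVec]
  have hAA : A * A = 1 := gl_ext_mulVec fun x => ptR_injective hw₁ (by
    have h1 : (z * z) •ᵥ pt x w₁ = pt x w₁ := by rw [hz2, Units.val_one, one_mulVec]
    rw [hzAC, kronGL_mul, kronGL_pt, hCC, Units.val_one, one_mulVec] at h1
    rw [ptR_apply, ptR_apply, h1, Units.val_one, one_mulVec])
  have hAv : f₁ (A •ᵥ u) (A •ᵥ v) = 1 := by
    have h1 := hlc (pt v w₁)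
    rw [hzAC, kronGL_pt, lc_pt P, lc_pt P, hvu, mulVec_smul] at h1
    have h2 : f₁ (A •ᵥ v) u = -1 := smul_left_injective F (gl_mulVec_ne_zero C hw₁) h1
    rw [hAu, P.hf₁.skew, h2, neg_neg]
  have hiso : ∀ x y w w', f₁ (A •ᵥ x) (A •ᵥ y) * f₂ (C •ᵥ w) (C •ᵥ w') = f₁ x y * f₂ w w' := by
    intro x y w w'
    rw [← P.B_pt, ← P.B_pt, ← B_act H hz (pt x w), hzAC, kronGL_pt, kronGL_pt]
  obtain ⟨w₀, hw₀, -⟩ := exists_aniso P hw₁
  refine ⟨A, C, hzAC, hAu, hAA, hCC, mem_isoOf.2 fun x y => ?_, hlc⟩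
  have h1 := hiso u v w₀ w₀
  rw [hAv, huv, one_mul, one_mul] at h1
  have h2 := hiso x y w₀ w₀
  rw [h1] at h2
  exact mul_right_cancel₀ hw₀ h2

omit hno [Fintype F] in
/-- An eigenspace meeting a vector has dimension at least two. -/
lemma two_le_ev {A : GL (Fin a) F} (hA : A ∈ isoOf f₁) (hAA : A * A = 1) {s : F}
    (hs : s = 1 ∨ s = -1) {x : Fin a → F} (hx : x ∈ ev A s) (hx0 : x ≠ 0) :
    2 ≤ finrank F (ev A s) := by
  have P := H.pair
  obtain ⟨y, hy, -⟩ := exists_partner P.hf₁ hx0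
  have hss : s * s = 1 := by rcases hs with rfl | rfl <;> ring
  rw [mem_ev] at hx
  set y' := (2 : F)⁻¹ • (y + s • (A •ᵥ y))
  have hy' : y' ∈ ev A s := mem_ev.2 (by
    rw [mulVec_smul, mulVec_add, mulVec_smul, ← gl_mulVec_mul, hAA, Units.val_one, one_mulVec,
      smul_comm s, smul_add s, smul_smul s s, hss, one_smul, add_comm])
  have hAy : f₁ x (A •ᵥ y) = s := by
    have h1 := mem_isoOf.1 hA x y
    rw [hx, P.hf₁.bilinear.smul_left, hy] at h1
    linear_combination s * h1 - f₁ x (A •ᵥ y) * hss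
  have hxy : f₁ x y' = 1 := by
    rw [P.hf₁.bilinear.smul_right, P.hf₁.bilinear.add_right, P.hf₁.bilinear.smul_right, hy, hAy, hss]
    have := P.two
    field_simp
    ring
  have hy'n : y' ∉ Submodule.span F {x} := fun h => by
    obtain ⟨c, hc⟩ := Submodule.mem_span_singleton.1 h
    rw [← hc, P.hf₁.bilinear.smul_right, P.hf₁.alternating, mul_zero] at hxy
    exact zero_ne_one hxy
  calc 2 = finrank F (Submodule.span F {x}) + 1 := by rw [finrank_span_singleton hx0]
    _ = finrank F (Submodule.span F {x} ⊔ Submodule.span F {y'} : Submodule F (Fin a → F)) :=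
        (Submodule.finrank_sup_span_singleton hy'n).symm
    _ ≤ finrank F (ev A s) := Submodule.finrank_mono (sup_le
        (by rw [Submodule.span_singleton_le_iff_mem, mem_ev]; exact hx)
        (by rw [Submodule.span_singleton_le_iff_mem]; exact hy'))

omit hno [Fintype F] in
/-- The negative eigenspace of the involution is small. -/
lemma frame_bound {g z : GL (Fin a × Fin b) F} {u u₀ : Fin a → F}
    {A : GL (Fin a) F} {C C' : GL (Fin b) F} (hzAC : z = kronGL A C)
    (hlc : ∀ x, lc f₁ u (z •ᵥ x) = C •ᵥ lc f₁ u x)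
    (hlc' : ∀ x, lc f₁ u₀ ((g⁻¹ * z * g) •ᵥ x) = C' •ᵥ lc f₁ u₀ x)
    (hfix : ∀ x, lc f₁ u x = 0 → lc f₁ u₀ (g⁻¹ •ᵥ x) = 0 → z •ᵥ x = x) :
    finrank F (ev A 1) * finrank F (ev C (-1)) + finrank F (ev A (-1)) * finrank F (ev C 1)
      ≤ finrank F (ev C (-1)) + finrank F (ev C' (-1)) := by
  have P := H.pair
  obtain ⟨S₁, hS₁, hS₁'⟩ := exists_tens (ev A 1) (ev C (-1))
  obtain ⟨S₂, hS₂, hS₂'⟩ := exists_tens (ev A (-1)) (ev C 1)
  have h1 : S₁ ≤ ev (kronGL A (1 : GL (Fin b) F)) 1 ⊓ ev z (-1) := hS₁' _ fun x hx w hw =>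
    ⟨mem_ev.2 (by rw [kronGL_pt, mem_ev.1 hx, one_smul, Units.val_one, one_mulVec, one_smul]),
      mem_ev.2 (by rw [hzAC, kronGL_pt, mem_ev.1 hx, mem_ev.1 hw, one_smul, pt_smul_right])⟩
  have h2 : S₂ ≤ ev (kronGL A (1 : GL (Fin b) F)) (-1) ⊓ ev z (-1) := hS₂' _ fun x hx w hw =>
    ⟨mem_ev.2 (by rw [kronGL_pt, mem_ev.1 hx, Units.val_one, one_mulVec, pt_smul_left]),
      mem_ev.2 (by rw [hzAC, kronGL_pt, mem_ev.1 hx, mem_ev.1 hw, one_smul, pt_smul_left])⟩
  have hdisj : S₁ ⊓ S₂ = ⊥ := (Submodule.eq_bot_iff _).2 fun x hx =>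
    ev_disjoint _ P.two (h1 hx.1).1 (h2 hx.2).1
  rw [← hS₁, ← hS₂, ← Submodule.finrank_sup_add_finrank_inf_eq, hdisj, finrank_bot, add_zero]
  have hev : ∀ x ∈ ev z (-1), lc f₁ u x ∈ ev C (-1) ∧ lc f₁ u₀ (g⁻¹ •ᵥ x) ∈ ev C' (-1) := by
    intro x hx
    rw [mem_ev] at hx
    refine ⟨mem_ev.2 (by rw [← hlc, hx, map_smul]), mem_ev.2 ?_⟩
    rw [← hlc', gl_mulVec_mul, gl_mulVec_mul, gl_mulVec_inv_mulVec, hx, mulVec_smul, map_smul]
  let Φ : ev z (-1) →ₗ[F] ev C (-1) × ev C' (-1) :=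
    LinearMap.prod (((lc f₁ u).comp (ev z (-1)).subtype).codRestrict _ fun x => (hev _ x.2).1)
      ((((lc f₁ u₀).comp (act g⁻¹)).comp (ev z (-1)).subtype).codRestrict _ fun x => by
        simpa using (hev _ x.2).2)
  have hinj : Function.Injective Φ := (injective_iff_map_eq_zero Φ).2 fun x hx => by
    have e1 : lc f₁ u (x : Fin a × Fin b → F) = 0 := congrArg (fun p => (p.1 : Fin b → F)) hx
    have e2 : lc f₁ u₀ (g⁻¹ •ᵥ (x : Fin a × Fin b → F)) = 0 := by
      simpa [Φ] using congrArg (fun p => (p.2 : Fin b → F)) hx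
    exact Subtype.ext (ev_disjoint z P.two (mem_ev.2 (by rw [hfix _ e1 e2, one_smul])) x.2)
  calc finrank F (S₁ ⊔ S₂ : Submodule F (Fin a × Fin b → F)) ≤ finrank F (ev z (-1)) :=
        Submodule.finrank_mono (sup_le (h1.trans inf_le_right) (h2.trans inf_le_right))
    _ ≤ _ := by
        rw [← finrank_prod (R := F)]
        exact LinearMap.finrank_le_finrank_of_injective hinj

omit H hno [DecidableEq F] [Fintype F] in
/-- The dimensions. -/
lemma bound_arith {a b a₁ a₂ b₁ b₂ a₁' a₂' b₁' b₂' : ℕ} (ha : 4 ≤ a) (ha₁ : a₁ + a₂ = a)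
    (hb₁ : b₁ + b₂ = b) (ha₁' : a₁' + a₂' = a) (hb₁' : b₁' + b₂' = b) (h1 : 2 ≤ a₁)
    (h1' : 2 ≤ a₁') (h2 : a₂ = 0 ∨ 2 ≤ a₂) (h2' : a₂' = 0 ∨ 2 ≤ a₂') (hz : a₂ ≠ 0 ∨ b₂ ≠ 0)
    (hI : a₁ * b₂ + a₂ * b₁ ≤ b₂ + b₂') (hI' : a₁' * b₂' + a₂' * b₁' ≤ b₂' + b₂) :
    b₁ = 0 ∧ b₂' = b ∧ a₂ ≠ 0 := by
  rcases h2 with rfl | h2
  · exfalso
    have e1 : 4 * b₂ ≤ b₂ + b₂' := by
      have := Nat.mul_le_mul_right b₂ (show 4 ≤ a₁ by omega); omega
    rcases h2' with rfl | h2'
    · have := Nat.mul_le_mul_right b₂' (show 4 ≤ a₁' by omega); omega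
    · have := Nat.mul_le_mul_right b₂' h1'
      have := Nat.mul_le_mul_right b₁' h2'
      omega
  · have := Nat.mul_le_mul_right b₂ h1
    have := Nat.mul_le_mul_right b₁ h2
    omega

/-- The compression is nilpotent or an involution gives a tensor. -/
lemma inH_invol (ha : 4 ≤ a) {g : GL (Fin a × Fin b) F} (hg : g ∈ M) {u₀ u : Fin a → F}
    (hu₀ : u₀ ≠ 0) (hu : u ≠ 0) {z : GL (Fin a × Fin b) F} (hz : z ∈ M) (hz2 : z * z = 1)
    (hz1 : z ≠ 1) (hzr : z * rt f₁ u = rt f₁ u * z)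
    (hzk : z * (g * rt f₁ u₀ * g⁻¹) = g * rt f₁ u₀ * g⁻¹ * z)
    (hfix : ∀ x, lc f₁ u x = 0 → lc f₁ u₀ (g⁻¹ •ᵥ x) = 0 → z •ᵥ x = x) :
    InH (g * rt f₁ u₀ * g⁻¹) := by
  have P := H.pair
  set z' := g⁻¹ * z * g with hz'
  have hz'M : z' ∈ M := M.mul_mem (M.mul_mem (M.inv_mem hg) hz) hg
  have hz'2 : z' * z' = 1 := by
    rw [hz', show g⁻¹ * z * g * (g⁻¹ * z * g) = g⁻¹ * (z * z) * g by group, hz2]
    group
  have hz'r : z' * rt f₁ u₀ = rt f₁ u₀ * z' := by
    calc z' * rt f₁ u₀ = g⁻¹ * (z * (g * rt f₁ u₀ * g⁻¹)) * g := by rw [hz']; group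
      _ = g⁻¹ * (g * rt f₁ u₀ * g⁻¹ * z) * g := by rw [hzk]
      _ = rt f₁ u₀ * z' := by rw [hz']; group
  obtain ⟨A, C, hzAC, hAu, hAA, hCC, hAi, hlc⟩ :=
    inv_frame H hz (inH_of_comm H hno hz hu hzr) hz2 hu hzr
  obtain ⟨A', C', hzAC', hAu', hAA', hCC', hAi', hlc'⟩ :=
    inv_frame H hz'M (inH_of_comm H hno hz'M hu₀ hz'r) hz'2 hu₀ hz'r
  have hI := frame_bound H (g := g) hzAC hlc hlc' hfix
  have hI' := frame_bound H (g := g⁻¹) (z := z') (u := u₀) (u₀ := u) (C' := C) hzAC' hlc'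
    (fun x => by rw [hz', show g⁻¹⁻¹ * (g⁻¹ * z * g) * g⁻¹ = z by group]; exact hlc x)
    (fun x h1 h2 => by
      rw [inv_inv] at h2
      rw [hz', gl_mulVec_mul, gl_mulVec_mul, hfix _ h2 (by rw [gl_inv_mulVec_mulVec]; exact h1),
        gl_inv_mulVec_mulVec])
  have hsumA := finrank_ev A hAA P.two
  have hsumA' := finrank_ev A' hAA' P.two
  have hsumC := finrank_ev C hCC P.two
  have hsumC' := finrank_ev C' hCC' P.two
  simp only [Fintype.card_fin] at hsumA hsumA' hsumC hsumC'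
  have hpos : ∀ {A : GL (Fin a) F} {u : Fin a → F}, A ∈ isoOf f₁ → A * A = 1 → A •ᵥ u = u → u ≠ 0 →
      2 ≤ finrank F (ev A 1) ∧ (finrank F (ev A (-1)) = 0 ∨ 2 ≤ finrank F (ev A (-1))) := by
    intro A u hA hAA hAu hu
    refine ⟨two_le_ev H hA hAA (Or.inl rfl) (mem_ev.2 (by rw [hAu, one_smul])) hu, ?_⟩
    by_cases h : ev A (-1) = ⊥
    · exact Or.inl (by rw [h, finrank_bot])
    · obtain ⟨x, hx, hx0⟩ := Submodule.exists_mem_ne_zero_of_ne_bot h
      exact Or.inr (two_le_ev H hA hAA (Or.inr rfl) hx hx0)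
  obtain ⟨hA1, hA2⟩ := hpos hAi hAA hAu hu
  obtain ⟨hA1', hA2'⟩ := hpos hAi' hAA' hAu' hu₀
  have hne : finrank F (ev A (-1)) ≠ 0 ∨ finrank F (ev C (-1)) ≠ 0 := by
    by_contra hcon
    push Not at hcon
    refine hz1 ?_
    have eA : ev A 1 = ⊤ := Submodule.eq_top_of_finrank_eq (by rw [finrank_fin_fun]; omega)
    have eC : ev C 1 = ⊤ := Submodule.eq_top_of_finrank_eq (by rw [finrank_fin_fun]; omega)
    rw [hzAC]
    refine gl_ext_pt fun x w => ?_
    rw [kronGL_pt, mem_ev.1 (eA ▸ Submodule.mem_top : x ∈ ev A 1),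
      mem_ev.1 (eC ▸ Submodule.mem_top : w ∈ ev C 1), one_smul, one_smul, Units.val_one, one_mulVec]
  obtain ⟨hb₁, hb₂', ha₂⟩ := bound_arith ha hsumA hsumC hsumA' hsumC' hA1 hA1' hA2 hA2' hne hI hI'
  have eC : ev C (-1) = ⊤ := Submodule.eq_top_of_finrank_eq (by rw [finrank_fin_fun]; omega)
  have eC' : ev C' (-1) = ⊤ := Submodule.eq_top_of_finrank_eq (by rw [finrank_fin_fun]; omega)
  obtain ⟨x, hx, hx0⟩ := Submodule.exists_mem_ne_zero_of_ne_bot (p := ev A (-1)) fun h =>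
    ha₂ (by rw [h, finrank_bot])
  refine inH_of_stab H hno (conj_rt_mem H hg) hx0 fun w => ⟨w, ?_⟩
  have hfix' : z •ᵥ pt x w = pt x w := by
    rw [hzAC, kronGL_pt, mem_ev.1 hx, mem_ev.1 (eC ▸ Submodule.mem_top : w ∈ ev C (-1)), neg_one_smul,
      neg_one_smul, pt_neg_right, ← neg_one_smul F x, pt_smul_left, neg_one_smul, neg_neg]
  have h0 : lc f₁ u₀ (g⁻¹ •ᵥ pt x w) = 0 := by
    have h1 := hlc' (g⁻¹ •ᵥ pt x w)
    rw [hz', gl_mulVec_mul, gl_mulVec_mul, gl_mulVec_inv_mulVec, hfix',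
      mem_ev.1 (eC' ▸ Submodule.mem_top : _ ∈ ev C' (-1)), neg_one_smul, ← add_eq_zero_iff_eq_neg,
      ← two_smul F] at h1
    exact (smul_eq_zero.1 h1).resolve_left P.two
  rw [← act_apply, act_conj_rt P, LinearMap.add_apply, Module.End.one_apply, Module.End.mul_apply,
    Module.End.mul_apply, rR_apply, act_apply, act_apply, h0, pt_zero_right, mulVec_zero, add_zero]

/-- All conjugate root elements are tensors. -/
theorem inH_conj (ha : 4 ≤ a) {g : GL (Fin a × Fin b) F} (hg : g ∈ M) {u₀ : Fin a → F}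
    (hu₀ : u₀ ≠ 0) : InH (g * rt f₁ u₀ * g⁻¹) := by
  classical
  have P := H.pair
  obtain ⟨u, hu⟩ : ∃ u : Fin a → F, u ≠ 0 := ⟨u₀, hu₀⟩
  obtain ⟨v, huv, hvu⟩ := exists_partner P.hf₁ hu
  set k := g * rt f₁ u₀ * g⁻¹ with hk
  set R := rR (b := b) f₁ u with hRdef
  set K := act g * rR f₁ u₀ * act g⁻¹ with hKdef
  set T := tp f₁ u K with hTdef
  by_cases hnil : IsNilpotent T
  · obtain ⟨n, hn⟩ := hnil
    exact inH_nilp H hno n hg hu (pow_eq_zero_of_le (Nat.le_succ n) hn)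
  have hint : IsIntegral F T := Algebra.IsIntegral.isIntegral T
  have hp0 : minpoly F T ≠ 0 := minpoly.ne_zero hint
  obtain ⟨q, hq, hXq⟩ := Polynomial.exists_eq_pow_rootMultiplicity_mul_and_not_dvd _ hp0 (0 : F)
  rw [map_zero, sub_zero] at hq hXq
  set n := (minpoly F T).rootMultiplicity 0
  have hq0 : q ≠ 0 := fun h => hp0 (by rw [hq, h, mul_zero])
  have hqu : ¬ IsUnit q := fun hu' => hnil ⟨n, by
    have h0 := minpoly.aeval F T
    rw [hq, map_mul, map_pow, aeval_X] at h0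
    exact (IsUnit.mul_left_eq_zero (hu'.map (aeval T))).1 h0⟩
  obtain ⟨π, hπ, hπq⟩ := WfDvdMonoid.exists_irreducible_factor hqu hq0
  have : Fact (Irreducible π) := ⟨hπ⟩
  have hπX : ¬ π ∣ Polynomial.X := fun h =>
    hXq (((hπ.associated_of_dvd Polynomial.irreducible_X h).symm.dvd).trans hπq)
  have ht : AdjoinRoot.root π ≠ 0 := fun h => hπX (AdjoinRoot.mk_eq_zero.1 (by rw [AdjoinRoot.mk_X, h]))
  obtain ⟨s, hs⟩ : π ∣ minpoly F T := hπq.trans (by rw [hq]; exact dvd_mul_left _ _)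
  obtain ⟨x₀, hx₀⟩ : ∃ x₀, aeval T s x₀ ≠ 0 := by
    by_contra hcon
    push Not at hcon
    have h1 := minpoly.dvd F T (p := s) (LinearMap.ext hcon)
    rw [hs] at h1
    have hs0 : s ≠ 0 := fun h => hp0 (by rw [hs, h, mul_zero])
    obtain ⟨r, hr⟩ := h1
    exact hπ.not_isUnit (IsUnit.of_mul_eq_one r (mul_right_cancel₀ hs0 (by
      rw [one_mul]; linear_combination -hr)))
  set y := aeval T s x₀ with hy
  have hπy : aeval T π y = 0 := by
    rw [hy, ← Module.End.mul_apply, ← map_mul, ← hs, minpoly.aeval, LinearMap.zero_apply]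
  have hR : R * R = 0 := rR_sq P u
  have hK : K * K = 0 := conj_sq P g u₀
  have hcc : ∀ w, cc R K (pt u w) = pt u (T w) := fun w => by
    simp [cc, R, T, tp_apply, Module.End.mul_apply, lc_pt_self P, pt_zero_right]
  have hpol : ∀ (p : F[X]) w, aeval (cc R K) p (pt u w) = pt u (aeval T p w) := by
    intro p
    induction p using Polynomial.induction_on with
    | C r => intro w; simp [Module.algebraMap_end_apply, pt_smul_right]
    | add p q hp hq => intro w; rw [map_add, map_add, LinearMap.add_apply, LinearMap.add_apply,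
        pt_add_right, hp, hq]
    | monomial n r hn =>
      intro w
      rw [pow_succ, ← mul_assoc]
      simp only [map_mul (aeval _) (_ * _) X, aeval_X, Module.End.mul_apply, hcc, hn]
  have hev : ∀ p : F[X], aeval (cc R K) p (pt u y) = 0 ↔ aeval (AdjoinRoot.root π) p = 0 := by
    intro p
    rw [hpol, AdjoinRoot.aeval_eq, AdjoinRoot.mk_eq_zero]
    constructor
    · intro h
      have h1 : aeval T p y = 0 := ptL_injective hu (by rw [ptL_apply, h, map_zero])
      by_contra hnd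
      obtain ⟨c₁, c₂, hc⟩ := hπ.coprime_iff_not_dvd.2 hnd
      have h2 := LinearMap.congr_fun (congrArg (aeval T) hc) y
      rw [map_add, map_mul, map_mul, map_one, LinearMap.add_apply, Module.End.mul_apply,
        Module.End.mul_apply, hπy, h1, map_zero, map_zero, add_zero, Module.End.one_apply] at h2
      exact hx₀ h2.symm
    · rintro ⟨r, rfl⟩
      rw [mul_comm, map_mul, Module.End.mul_apply, hπy, map_zero, pt_zero_right]
  have : Module.Finite F (AdjoinRoot π) := (AdjoinRoot.powerBasis hπ.ne_zero).finite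
  have : Finite (AdjoinRoot π) := Module.finite_of_finite F
  obtain ⟨z, hzc, hz2, hz1, hzr, hzk, hfix⟩ := exists_involution hR hK act act_injective
    (act_rt P u) (act_conj_rt P g u₀) P.two ht (ξ := pt u y)
    (by simp [R, lc_pt_self P, pt_zero_right]) hev
  have hzM : z ∈ M := (Subgroup.closure_le M).2 (by
    rintro w (rfl | rfl)
    · exact rt_mem H
    · exact conj_rt_mem H hg) hzc
  refine inH_invol H hno ha hg hu₀ hu hzM hz2 hz1 hzr hzk fun x h1 h2 => ?_
  rw [← act_apply]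
  refine hfix x (by simp [R, h1, pt_zero_right]) ?_
  simp only [K, Module.End.mul_apply, act_apply, rR_apply, h2, pt_zero_right, mulVec_zero]

omit hno [Fintype F] in
/-- The translation part of a unipotent isometry of the symmetric factor is not of rank one. -/
lemma finrank_ne_one {C : GL (Fin b) F} (hC : C ∈ isoOf f₂)
    (hsq : (act C - 1) * (act C - 1) = 0) : finrank F (LinearMap.range (act C - 1)) ≠ 1 := by
  have P := H.pair
  intro h
  set N := act C - 1 with hN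
  obtain ⟨e, he0, he⟩ := finrank_eq_one_iff'.1 h
  choose φ hφ using fun x => he ⟨N x, LinearMap.mem_range_self N x⟩
  have hNx : ∀ x, N x = φ x • (e : Fin b → F) := fun x => (congrArg Subtype.val (hφ x)).symm
  have he' : (e : Fin b → F) ≠ 0 := fun h0 => he0 (Subtype.ext h0)
  obtain ⟨x₁, hx₁⟩ := LinearMap.mem_range.1 e.2
  have hNe : N e = 0 := by
    rw [← hx₁, ← Module.End.mul_apply, hsq, LinearMap.zero_apply]
  have hCx : ∀ x, C •ᵥ x = x + φ x • (e : Fin b → F) := fun x => by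
    rw [← hNx, hN, LinearMap.sub_apply, Module.End.one_apply, act_apply, add_sub_cancel]
  have hq : ∀ x, 2 * φ x * f₂ x e + φ x * φ x * f₂ (e : Fin b → F) e = 0 := fun x => by
    have h1 := mem_isoOf.1 hC x x
    simp only [hCx, add_left₂ P, add_right₂ P, smul_left₂ P, smul_right₂ P,
      symm₂ P (e : Fin b → F) x] at h1
    linear_combination h1
  have hpair : ∀ x, φ x * f₂ (e : Fin b → F) e = 0 := fun x => by
    have h1 := mem_isoOf.1 hC x (e : Fin b → F)
    rw [show C •ᵥ (e : Fin b → F) = e by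
      rw [hCx, ← hNx, hNe, add_zero], hCx, add_left₂ P, smul_left₂ P] at h1
    linear_combination h1
  have hφ1 : φ x₁ = 1 := smul_left_injective F he' (show φ x₁ • (e : Fin b → F) = (1 : F) • _ by
    rw [← hNx, hx₁, one_smul])
  have hee : f₂ (e : Fin b → F) e = 0 := by simpa [hφ1] using hpair x₁
  have hq' : ∀ x, φ x * f₂ x e = 0 := fun x => by
    have h1 := hq x
    rw [hee] at h1
    exact (mul_eq_zero.1 (by linear_combination h1 : (2 : F) * (φ x * f₂ x e) = 0)).resolve_left P.two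
  obtain ⟨y, hy⟩ := (P.hf₂.nondegenerate (e : Fin b → F) he').1
  have hφy : φ y = 0 := (mul_eq_zero.1 (hq' y)).resolve_right hy
  have hx₁e : f₂ x₁ e = 0 := by simpa [hφ1] using hq' x₁
  have hφadd : φ (x₁ + y) = 1 := by
    refine smul_left_injective F he' (show φ (x₁ + y) • (e : Fin b → F) = (1 : F) • _ from ?_)
    rw [← hNx, map_add, hNx x₁, hNx y, hφy, hφ1, zero_smul, add_zero]
  have h1 := hq' (x₁ + y)
  rw [hφadd, one_mul, add_left₂ P, hx₁e, zero_add] at h1
  exact hy h1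

/-- Every element above the stabiliser is a tensor. -/
theorem inH_of_four (ha : 4 ≤ a) {g : GL (Fin a × Fin b) F} (hg : g ∈ M) : InH g := by
  classical
  have P := H.pair
  have hb := P.three_le
  set u₀ : Fin a → F := Pi.single ⟨0, by omega⟩ 1
  have hu₀ : u₀ ≠ 0 := by simp [u₀]
  have hsq : ∀ g' : GL (Fin a × Fin b) F,
      (act (g' * rt f₁ u₀ * g'⁻¹) - 1) * (act (g' * rt f₁ u₀ * g'⁻¹) - 1) = 0 := fun g' => by
    rw [act_conj_rt P, add_sub_cancel_left, conj_sq P]
  rcases sq_zero_kron (by omega) (by omega) P.two (inH_conj H hno ha hg hu₀) (hsq g) with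
    ⟨A, hA⟩ | ⟨C, hC⟩
  · exact inH_of_rootA H hno hg hu₀ hA
  exfalso
  obtain ⟨v, huv, hvu⟩ := exists_partner P.hf₁ hu₀
  have hkM : kronGL (1 : GL (Fin a) F) C ∈ M := hC ▸ conj_rt_mem H hg
  have hCi : C ∈ isoOf f₂ := mem_isoOf.2 fun w w' => by
    have h1 := B_act H hkM (pt u₀ w) (pt v w')
    rw [kronGL_pt, kronGL_pt, Units.val_one, one_mulVec, one_mulVec, P.B_pt, P.B_pt, huv, one_mul,
      one_mul] at h1
    exact h1
  set N := act C - 1 with hN
  have hNN : N * N = 0 := by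
    refine LinearMap.ext fun w => ptL_injective hu₀ ?_
    have h1 := LinearMap.congr_fun (hC ▸ hsq g) (pt u₀ w)
    simpa [N, Module.End.mul_apply, kronGL_pt, pt_sub_right, pt_zero_right, mulVec_sub] using h1
  set I := LinearMap.range N with hI
  have hdim : a * finrank F I = b := by
    rw [← finrank_rowSub, ← range_kron_right, ← hC, finrank_range_conj P g hu₀]
  have hi2 : 2 ≤ finrank F I := by
    have h1 := finrank_ne_one H hCi hNN
    rw [← hN, ← hI] at h1
    rcases Nat.lt_or_ge (finrank F I) 1 with h0 | h0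
    · rw [show finrank F I = 0 by omega, mul_zero] at hdim; omega
    · omega
  -- a reflection moving `C`
  obtain ⟨w, hw, hNw⟩ : ∃ w, f₂ w w ≠ 0 ∧ N w ∉ Submodule.span F {w} := by
    by_contra hcon
    push Not at hcon
    have h0 : ∀ w, N w = 0 := zero_of_aniso P fun w hw => by
      obtain ⟨c, hc⟩ := Submodule.mem_span_singleton.1 (hcon w hw)
      have h1 := LinearMap.congr_fun hNN w
      rw [Module.End.mul_apply, LinearMap.zero_apply, ← hc, map_smul, ← hc, smul_smul] at h1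
      have h2 := (smul_eq_zero.1 h1).resolve_right fun h => hw (by rw [h, form_zero_left P.hf₂.bilinear])
      rw [← hc, mul_self_eq_zero.1 h2, zero_smul]
    rw [show I = ⊥ from LinearMap.range_eq_bot.2 (LinearMap.ext h0), finrank_bot] at hi2
    omega
  obtain ⟨r, hr, hrr, hrx⟩ := exists_refl P hw
  have hri : r⁻¹ = r := inv_eq_of_mul_eq_one_right hrr
  set h := kronGL (1 : GL (Fin a) F) r with hh
  have hhM : h ∈ M := kron_right_mem H hr
  have hhi : h⁻¹ = h := by rw [hh, kronGL_inv, inv_one, hri]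
  set g' := g⁻¹ * h * g with hg'
  have hg'M : g' ∈ M := M.mul_mem (M.mul_mem (M.inv_mem hg) hhM) hg
  rcases sq_zero_kron (by omega) (by omega) P.two (inH_conj H hno ha hg'M hu₀) (hsq g') with
    ⟨A', hA'⟩ | ⟨C', hC'⟩
  · -- the reflection would commute with `C`
    obtain ⟨A₂, C₂, hx⟩ := inH_of_rootA H hno hg'M hu₀ hA'
    let Z : Submodule F (Fin a × Fin b → F) := LinearMap.range ((act g⁻¹).comp (ptR w))
    have hxz : ∀ z, kronGL A₂ C₂ •ᵥ z - z ∈ Z := fun z => by
      refine ⟨(-2 / f₂ w w) • cv f₂ w (g •ᵥ z), ?_⟩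
      have h2 := linear_ext (f := (act h - 1 : Module.End F (Fin a × Fin b → F)))
        (g := (ptR w).comp ((-2 / f₂ w w) • cv f₂ w)) fun x y => by
          simp only [hh, LinearMap.sub_apply, Module.End.one_apply, act_apply, kronGL_pt, hrx,
            LinearMap.comp_apply, LinearMap.smul_apply, cv_pt P, Units.val_one, one_mulVec,
            pt_sub_right, sub_sub_cancel_left, ptR_apply, pt_smul_left, pt_smul_right, smul_smul,
            ← neg_smul]
          congr 1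
          ring
      have h3 := LinearMap.congr_fun h2 (g •ᵥ z)
      simp only [LinearMap.comp_apply, LinearMap.smul_apply, LinearMap.sub_apply,
        Module.End.one_apply, act_apply] at h3
      rw [LinearMap.comp_apply, act_apply, ← h3, ← hx, hg', gl_mulVec_mul, gl_mulVec_mul, mulVec_sub,
        gl_inv_mulVec_mulVec]
    have hlt : a < b := by
      have := Nat.mul_le_mul_left a hi2
      omega
    have hsl : TensorSL.Hyp (M := specialLinear (Fin a × Fin b) F) := by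
      refine ⟨by omega, hlt, fun g hg => ?_, fun A B h => ?_⟩
      · simpa [specialLinear, MonoidHom.mem_ker, Units.ext_iff] using hg
      · simpa [specialLinear, MonoidHom.mem_ker, Units.ext_iff] using h
    obtain ⟨c, hc⟩ := TensorSL.exists_scalar hsl
      (((LinearMap.finrank_range_le _).trans (by rw [finrank_fin_fun]) : finrank F Z ≤ a)) hxz
    have hcomm : g' * rt f₁ u₀ = rt f₁ u₀ * g' := by
      rw [hx, rt]
      refine gl_ext_pt fun x y => ?_
      rw [gl_mulVec_mul, gl_mulVec_mul]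
      simp [kronGL_pt, hc, mulVec_smul]
    have hCr : kronGL (1 : GL (Fin a) F) r * kronGL 1 C = kronGL 1 C * kronGL (1 : GL (Fin a) F) r := by
      rw [← hC, ← hh]
      calc h * (g * rt f₁ u₀ * g⁻¹) = g * (g' * rt f₁ u₀) * g⁻¹ := by rw [hg']; group
        _ = g * (rt f₁ u₀ * g') * g⁻¹ := by rw [hcomm]
        _ = g * rt f₁ u₀ * g⁻¹ * h := by rw [hg']; group
    have h2 := congrArg (fun t : GL (Fin a × Fin b) F => t •ᵥ pt u₀ w) hCr
    simp only [gl_mulVec_mul, kronGL_pt, Units.val_one, one_mulVec] at h2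
    have h3 : r •ᵥ (C •ᵥ w) = C •ᵥ (r •ᵥ w) := ptL_injective hu₀ h2
    have hrw : r •ᵥ w = -w := by
      rw [hrx, mul_div_assoc, div_self hw, mul_one, two_smul]; abel
    rw [hrw, mulVec_neg, hrx] at h3
    refine hNw (Submodule.mem_span_singleton.2 ⟨f₂ (C •ᵥ w) w / f₂ w w - 1, ?_⟩)
    simp only [N, LinearMap.sub_apply, Module.End.one_apply, act_apply, sub_smul, one_smul]
    have h4 : (2 : F) • (C •ᵥ w) = (2 * f₂ (C •ᵥ w) w / f₂ w w) • w := by
      linear_combination (norm := module) h3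
    rw [mul_div_assoc, mul_smul] at h4
    exact congrArg (· - w) (smul_right_injective (Fin b → F) P.two h4).symm
  · -- dimensions
    set J := LinearMap.range (act C' - 1) with hJ
    have hJdim : a * finrank F J = b := by
      rw [← finrank_rowSub, ← range_kron_right, ← hC', finrank_range_conj P g' hu₀]
    set φ : (Fin b → F) →ₗ[F] F := (bilinOf P.hf₂.bilinear).flip w with hφdef
    let I₀ : Submodule F (Fin b → F) := I ⊓ LinearMap.ker φ
    have hI₀ : finrank F I ≤ finrank F I₀ + 1 := by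
      have h1 := Submodule.finrank_sup_add_finrank_inf_eq I (LinearMap.ker φ)
      have h2 := LinearMap.finrank_range_add_finrank_ker φ
      have h3 : finrank F (LinearMap.range φ) ≤ 1 := (Submodule.finrank_le _).trans (by rw [finrank_self])
      have h4 : finrank F (I ⊔ LinearMap.ker φ : Submodule F (Fin b → F)) ≤ b :=
        (Submodule.finrank_le _).trans (by rw [finrank_fin_fun])
      rw [finrank_fin_fun] at h2
      show finrank F I ≤ finrank F (I ⊓ LinearMap.ker φ : Submodule F (Fin b → F)) + 1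
      omega
    have hmap : ∀ z ∈ rowSub (a := a) I₀, (∃ s, g⁻¹ •ᵥ z = pt u₀ s) ∧ g⁻¹ •ᵥ z ∈ rowSub J := by
      intro z hz
      have hz1 : z ∈ LinearMap.range (act (g * rt f₁ u₀ * g⁻¹) - 1) := by
        rw [hC, range_kron_right]; exact fun i => (hz i).1
      obtain ⟨y, hy⟩ := hz1
      rw [act_conj_rt P, add_sub_cancel_left] at hy
      refine ⟨⟨lc f₁ u₀ (g⁻¹ •ᵥ y), by rw [← hy]; simp [Module.End.mul_apply]⟩, ?_⟩
      rw [hJ, ← range_kron_right, ← hC']
      refine ⟨g⁻¹ •ᵥ (h •ᵥ y), ?_⟩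
      have e : act (g' * rt f₁ u₀ * g'⁻¹) - 1 = act g⁻¹ * act h *
          (act g * rR f₁ u₀ * act g⁻¹) * act h * act g := by
        rw [act_conj_rt P, add_sub_cancel_left, hg', _root_.mul_inv_rev, _root_.mul_inv_rev, inv_inv,
          hhi]
        simp only [map_mul, mul_assoc]
      rw [e]
      simp only [Module.End.mul_apply, act_apply, gl_mulVec_inv_mulVec]
      rw [← gl_mulVec_mul h h, show h * h = 1 by nth_rw 1 [← hhi]; exact inv_mul_cancel h, Units.val_one,
        one_mulVec]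
      have hfx : h •ᵥ z = z := by
        rw [pt_sum_left z, ← act_apply h, map_sum]
        refine Finset.sum_congr rfl fun i _ => ?_
        have hfw : f₂ (fun j => z (i, j)) w = 0 := by simpa [φ] using (hz i).2
        rw [act_apply, hh, kronGL_pt, Units.val_one, one_mulVec, hrx, hfw]
        simp
      have hy' : g •ᵥ pt u₀ (lc f₁ u₀ (g⁻¹ •ᵥ y)) = z := by
        rw [← hy]; simp [Module.End.mul_apply]
      simp only [rR_apply]
      rw [hy', hfx]
    let ψ : rowSub (a := a) I₀ →ₗ[F] J := LinearMap.codRestrict J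
      ((lc f₁ v).comp ((act g⁻¹).comp (rowSub I₀).subtype)) fun z => by
        obtain ⟨⟨s, hs⟩, h2⟩ := hmap _ z.2
        obtain ⟨i, hi⟩ : ∃ i, u₀ i ≠ 0 := Function.ne_iff.1 hu₀
        have h3 : (fun j => (g⁻¹ •ᵥ (z : Fin a × Fin b → F)) (i, j)) ∈ J := h2 i
        rw [hs, show (fun j => pt u₀ s (i, j)) = u₀ i • s from rfl] at h3
        simp only [LinearMap.comp_apply, Submodule.subtype_apply, act_apply, hs, lc_pt P, huv,
          one_smul]
        have h5 := J.smul_mem (u₀ i)⁻¹ h3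
        rwa [inv_smul_smul₀ hi] at h5
    have hψ : Function.Injective ψ := (injective_iff_map_eq_zero ψ).2 fun z hz => by
      obtain ⟨⟨s, hs⟩, -⟩ := hmap _ z.2
      have h1 : lc f₁ v (g⁻¹ •ᵥ (z : Fin a × Fin b → F)) = 0 := by
        simpa [ψ] using congrArg Subtype.val hz
      rw [hs, lc_pt P, huv, one_smul] at h1
      rw [h1, pt_zero_right] at hs
      exact Subtype.ext (gl_mulVec_injective g⁻¹ (by
        show _ *ᵥ _ = _ *ᵥ _
        rw [hs, ZeroMemClass.coe_zero, mulVec_zero]))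
    have h5 := LinearMap.finrank_le_finrank_of_injective hψ
    rw [finrank_rowSub] at h5
    have h6 := Nat.eq_of_mul_eq_mul_left (show 0 < a by omega) (hJdim.trans hdim.symm)
    have h7 := Nat.mul_le_mul_right (finrank F I₀) ha
    omega

end CfsgLib.ClassicalMax.STens
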