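/-
A two-dimensional symplectic factor: without a transvection with pure centre every element above
the stabiliser of the product is a tensor.
-/
import Cfsg.Agent.Lib.ClassicalMax.STensPair
set_option autoImplicit false
set_option linter.unusedSectionVars false

namespace CfsgLib.ClassicalMax.STens

open Matrix Kronecker Module Cfsg.Geo Polynomial
open CfsgLib.ClassicalMax.Kron
open CfsgLib.ClassicalMax.TensorSL (InH lcon lcon_pt)

variable {F : Type*} [Field F] [DecidableEq F] {b : ℕ}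

/-- The action of an element on a vector. -/
local notation:80 g:81 " •ᵥ " z:80 => Matrix.mulVec (Units.val g) z

variable {B : (Fin 2 × Fin b → F) → (Fin 2 × Fin b → F) → F}
  {f₁ : (Fin 2 → F) → (Fin 2 → F) → F} {f₂ : (Fin b → F) → (Fin b → F) → F}
  {M : Subgroup (GL (Fin 2 × Fin b) F)}

variable (H : Over B f₁ f₂ M) (hno : NoTv B f₂ M)
include H

lemma expand_two {u v : Fin 2 → F} (huv : f₁ u v = 1) (hvu : f₁ v u = -1) (c : Fin 2 → F) :
    c = f₁ c v • u - f₁ c u • v := by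
  have P := H.pair
  have hli : LinearIndependent F ![u, v] := by
    refine LinearIndependent.pair_iff.2 fun s t h => ?_
    have h1 := congrArg (fun y => f₁ y v) h
    have h2 := congrArg (fun y => f₁ y u) h
    simp only [P.hf₁.bilinear.add_left, P.hf₁.bilinear.smul_left, P.hf₁.alternating, huv, hvu,
      form_zero_left P.hf₁.bilinear] at h1 h2
    exact ⟨by linear_combination h1, by linear_combination -h2⟩
  have hs := hli.span_eq_top_of_card_eq_finrank (by simp)
  have hc : c ∈ Submodule.span F (Set.range ![u, v]) := hs ▸ Submodule.mem_top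
  rw [Matrix.range_cons_cons_empty, Submodule.mem_span_pair] at hc
  obtain ⟨s, t, rfl⟩ := hc
  simp only [P.hf₁.bilinear.add_left, P.hf₁.bilinear.smul_left, P.hf₁.alternating, huv, hvu]
  module

omit H in
lemma isotropic_in [Fintype F] (P : Pair B f₁ f₂) {k : ℕ} (L : (Fin b → F) →ₗ[F] (Fin k → F))
    (hk : k + 3 ≤ b) : ∃ e, e ≠ 0 ∧ f₂ e e = 0 ∧ L e = 0 := by
  classical
  by_contra hcon
  push Not at hcon
  have hker : ∀ d d' : Fin b → F, ∃ z, z ≠ 0 ∧ L z = 0 ∧ f₂ z d = 0 ∧ f₂ z d' = 0 := by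
    intro d d'
    let T : (Fin b → F) →ₗ[F] (Fin k → F) × F × F := LinearMap.prod L
      (LinearMap.prod ((bilinOf P.hf₂.bilinear).flip d) ((bilinOf P.hf₂.bilinear).flip d'))
    obtain ⟨z, hz, hz0⟩ := Submodule.exists_mem_ne_zero_of_ne_bot
      (LinearMap.ker_ne_bot_of_finrank_lt (f := T) (by
        rw [finrank_prod, finrank_prod, finrank_self, finrank_fin_fun, finrank_fin_fun]
        omega))
    rw [LinearMap.mem_ker] at hz
    exact ⟨z, hz0, congrArg Prod.fst hz, congrArg (fun t => t.2.1) hz, congrArg (fun t => t.2.2) hz⟩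
  obtain ⟨d, hd, hLd, -, -⟩ := hker 0 0
  obtain ⟨z, hz, hLz, hzd, -⟩ := hker d d
  obtain ⟨w, hw, hLw, hwd, hwz⟩ := hker d z
  have haniso : ∀ x, x ≠ 0 → L x = 0 → f₂ x x ≠ 0 := fun x hx hLx h => hcon x hx h hLx
  obtain ⟨s, t, h⟩ := exists_two_sq P (haniso d hd hLd) (haniso z hz hLz) (f₂ w w)
  refine haniso (s • d + t • z + w) (fun h0 => haniso w hw hLw ?_)
    (by rw [map_add, map_add, map_smul, map_smul, hLd, hLz, hLw]; simp) ?_
  · have h1 := congrArg (fun y => f₂ y w) h0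
    simp only [add_left₂ P, smul_left₂ P, symm₂ P d w, symm₂ P z w, hwd, hwz,
      form_zero_left P.hf₂.bilinear, mul_zero, zero_add] at h1
    exact h1
  · simp only [add_left₂ P, add_right₂ P, smul_left₂ P, smul_right₂ P, symm₂ P d w, symm₂ P z w,
      symm₂ P d z, hzd, hwd, hwz]
    linear_combination h

omit H in
lemma row_kron (C : GL (Fin b) F) (y : Fin 2 × Fin b → F) (i : Fin 2) :
    (fun j => (kronGL (1 : GL (Fin 2) F) C •ᵥ y) (i, j)) = C •ᵥ fun j => y (i, j) := by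
  have := linear_ext
    (f := (LinearMap.funLeft F F fun j => (i, j)).comp
      (Matrix.toLin' (kronGL (1 : GL (Fin 2) F) C).val))
    (g := (Matrix.toLin' C.val).comp (LinearMap.funLeft F F fun j => (i, j))) fun x w => by
      simp only [LinearMap.comp_apply, Matrix.toLin'_apply, kronGL_pt, Units.val_one, one_mulVec]
      show x i • (C •ᵥ w) = C •ᵥ (x i • w)
      rw [mulVec_smul]
  exact LinearMap.congr_fun this y

/-- The translations towards a pure isotropic second factor. -/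
def Tr (f₂ : (Fin b → F) → (Fin b → F) → F) (M : Subgroup (GL (Fin 2 × Fin b) F)) (e : Fin b → F)
    (L : (Fin 2 → F) →ₗ[F] (Fin 2 → F)) : Prop :=
  ∃ g ∈ M, ∀ z, g •ᵥ z = z + pt (L (cv f₂ e z)) e

lemma Tr.conj_sub {e : Fin b → F} (he : f₂ e e = 0) {L : (Fin 2 → F) →ₗ[F] (Fin 2 → F)}
    (h : Tr f₂ M e L) {A : GL (Fin 2) F} (hA : A ∈ isoOf f₁) :
    Tr f₂ M e ((Matrix.toLin' A.val).comp (L.comp (Matrix.toLin' (A⁻¹ : GL (Fin 2) F).val)) - L) := by
  have P := H.pair
  obtain ⟨g, hg, hgz⟩ := h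
  set m := kronGL A (1 : GL (Fin b) F)
  have hm : m ∈ M := kron_left_mem H hA
  have hcvm : ∀ z, cv f₂ e (m⁻¹ •ᵥ z) = (A⁻¹ : GL (Fin 2) F) •ᵥ cv f₂ e z := fun z => by
    have := linear_ext (f := (cv f₂ e).comp (Matrix.toLin' (m⁻¹ : GL (Fin 2 × Fin b) F).val))
      (g := (Matrix.toLin' (A⁻¹ : GL (Fin 2) F).val).comp (cv f₂ e)) fun x w => by
        simp only [m, kronGL_inv, inv_one, LinearMap.comp_apply, Matrix.toLin'_apply, kronGL_pt,
          cv_pt P, Units.val_one, one_mulVec, mulVec_smul]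
    simpa [Matrix.toLin'_apply] using LinearMap.congr_fun this z
  have hcv0 : ∀ t, cv f₂ e (pt t e) = 0 := fun t => by rw [cv_pt P, he, zero_smul]
  refine ⟨m * g * m⁻¹ * g⁻¹, M.mul_mem (M.mul_mem (M.mul_mem hm hg) (M.inv_mem hm)) (M.inv_mem hg),
    fun z => ?_⟩
  obtain ⟨y, rfl⟩ : ∃ y, z = g •ᵥ y := ⟨g⁻¹ •ᵥ z, (gl_mulVec_inv_mulVec _ _).symm⟩
  rw [gl_mulVec_mul, gl_mulVec_mul, gl_mulVec_mul, gl_inv_mulVec_mulVec, hgz, hgz, mulVec_add,
    gl_mulVec_inv_mulVec, hcvm, kronGL_pt, Units.val_one, one_mulVec, map_add (cv f₂ e), hcv0, add_zero,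
    LinearMap.sub_apply, LinearMap.comp_apply, LinearMap.comp_apply, Matrix.toLin'_apply,
    Matrix.toLin'_apply, pt_sub_left]
  abel

include hno

/-- Only the trivial Hamiltonian translation. -/
lemma Tr.eq_zero {e : Fin b → F} (he0 : e ≠ 0) (he : f₂ e e = 0)
    {L : (Fin 2 → F) →ₗ[F] (Fin 2 → F)} (hL : ∀ c c', f₁ (L c) c' + f₁ c (L c') = 0)
    (h : Tr f₂ M e L) (u : Fin 2 → F) : f₁ (L u) u = 0 := by
  by_contra hσ
  have P := H.pair
  have hu : u ≠ 0 := fun h0 => hσ (by rw [h0, form_zero_right P.hf₁.bilinear])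
  set A := sTv f₁ u 1
  have hA : A ∈ isoOf f₁ := sTv_mem_isoOf P.hf₁ u 1
  obtain ⟨g, hg, hgz⟩ := Tr.conj_sub H he (Tr.conj_sub H he h hA) hA
  refine hno u e (-2 * f₁ (L u) u) hu he0 he (mul_ne_zero (neg_ne_zero.2 P.two) hσ) ?_
  rwa [show sTv B (pt u e) (-2 * f₁ (L u) u) = g from gl_ext_mulVec fun z => ?_]
  rw [hgz, sTv_mulVec P.hB, B_cv P]
  set c := cv f₂ e z
  have hLc : f₁ c (L u) = -f₁ (L c) u := eq_neg_of_add_eq_zero_right (hL c u)
  have hAi : ∀ x, (A⁻¹ : GL (Fin 2) F) •ᵥ x = x - f₁ x u • u := fun x => by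
    rw [show A⁻¹ = sTv f₁ u (-1) from sTv_inv P.hf₁ u 1, sTv_mulVec P.hf₁]
    module
  have hAx : ∀ x, A •ᵥ x = x + f₁ x u • u := fun x => by rw [sTv_mulVec P.hf₁]; module
  simp only [LinearMap.sub_apply, LinearMap.comp_apply, Matrix.toLin'_apply, hAi, hAx, map_sub,
    map_smul, P.hf₁.bilinear.add_left, form_sub_left P.hf₁.bilinear, P.hf₁.bilinear.smul_left,
    P.hf₁.alternating, mulVec_sub, mulVec_smul, hLc]
  rw [← pt_smul_left]
  congr 1
  congr 1
  module

variable [Fintype F]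

/-- An element supported on a small nondegenerate part of the symmetric factor is a tensor. -/
lemma inH_of_support {x : GL (Fin 2 × Fin b) F} (hx : x ∈ M) {α β : Fin b → F}
    (hδ : f₂ α β * f₂ α β - f₂ α α * f₂ β β ≠ 0) (hb : 5 ≤ b)
    (hfix : ∀ c s, f₂ s α = 0 → f₂ s β = 0 → x •ᵥ pt c s = pt c s) : InH x := by
  classical
  have P := H.pair
  set δ := f₂ α β * f₂ α β - f₂ α α * f₂ β β with hδdef
  obtain ⟨u, hu⟩ : ∃ u : Fin 2 → F, u ≠ 0 := ⟨Pi.single 0 1, by simp⟩
  obtain ⟨v, huv, hvu⟩ := exists_partner P.hf₁ hu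
  obtain ⟨e, he0, he, hLe⟩ := isotropic_in P (k := 2)
    (LinearMap.pi ![(bilinOf P.hf₂.bilinear).flip α, (bilinOf P.hf₂.bilinear).flip β]) hb
  have heα : f₂ e α = 0 := by simpa using congrFun hLe 0
  have heβ : f₂ e β = 0 := by simpa using congrFun hLe 1
  have hxi : ∀ c s, f₂ s α = 0 → f₂ s β = 0 → x⁻¹ •ᵥ pt c s = pt c s := fun c s h1 h2 =>
    gl_mulVec_injective x (by
      show _ *ᵥ _ = _ *ᵥ _
      rw [gl_mulVec_inv_mulVec, hfix c s h1 h2])
  have hcvx : ∀ s, f₂ s α = 0 → f₂ s β = 0 → ∀ z, cv f₂ s (x •ᵥ z) = cv f₂ s z := fun s h1 h2 z =>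
    ext₁ P fun c => by
      rw [← B_cv P, ← B_cv P]
      conv_lhs => rw [← hfix c s h1 h2]
      rw [B_act H hx]
  have hcvi : ∀ s, f₂ s α = 0 → f₂ s β = 0 → ∀ z, cv f₂ s (x⁻¹ •ᵥ z) = cv f₂ s z := fun s h1 h2 z => by
    have h3 := hcvx s h1 h2 (x⁻¹ •ᵥ z)
    rw [gl_mulVec_inv_mulVec] at h3
    exact h3.symm
  -- the commutator of two translations
  have key : ∀ d d', f₂ e d = 0 → f₂ e d' = 0 →
      ∀ c, f₁ (cv f₂ d' (x •ᵥ pt c d)) c = 0 := by
    intro d d' hd hd' c
    obtain ⟨S, hS, hSx⟩ := exists_siegel P he hd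
    obtain ⟨S', hS', hSx'⟩ := exists_siegel P he hd'
    have hact : ∀ {d : Fin b → F} {S : GL (Fin b) F},
        (∀ w, S •ᵥ w = w + f₂ w e • d - f₂ w d • e - ((1 / 2 : F) * f₂ d d * f₂ w e) • e) →
        ∀ z, kronGL (1 : GL (Fin 2) F) S •ᵥ z = z + pt (cv f₂ e z) d - pt (cv f₂ d z) e
          - ((1 / 2 : F) * f₂ d d) • pt (cv f₂ e z) e := by
      intro d S hS z
      have := linear_ext (f := Matrix.toLin' (kronGL (1 : GL (Fin 2) F) S).val)
        (g := LinearMap.id + (ptR d).comp (cv f₂ e) - (ptR e).comp (cv f₂ d)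
          - ((1 / 2 : F) * f₂ d d) • (ptR e).comp (cv f₂ e)) fun y w => by
          simp [Matrix.toLin'_apply, kronGL_pt, hS, cv_pt P, pt_add_right, pt_sub_right,
            pt_smul_right, smul_smul]
      exact LinearMap.congr_fun this z
    set s := kronGL (1 : GL (Fin 2) F) S
    set s' := kronGL (1 : GL (Fin 2) F) S'
    have hsM : s ∈ M := kron_right_mem H hS
    have hs'M : s' ∈ M := kron_right_mem H hS'
    set y := x * s * x⁻¹
    have hyM : y ∈ M := M.mul_mem (M.mul_mem hx hsM) (M.inv_mem hx)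
    set q : F := (1 / 2) * f₂ d d
    set q' : F := (1 / 2) * f₂ d' d'
    have hy : ∀ z, y •ᵥ z = z + x •ᵥ pt (cv f₂ e z) d - pt (cv f₂ d (x⁻¹ •ᵥ z)) e
        - q • pt (cv f₂ e z) e := fun z => by
      rw [gl_mulVec_mul, gl_mulVec_mul, hact hSx, hcvi e heα heβ, mulVec_sub, mulVec_sub, mulVec_add,
        mulVec_smul, gl_mulVec_inv_mulVec, hfix _ e heα heβ, hfix _ e heα heβ]
    have hde : f₂ d e = 0 := by rw [symm₂ P, hd]
    have hd'e : f₂ d' e = 0 := by rw [symm₂ P, hd']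
    let P' : (Fin 2 → F) →ₗ[F] (Fin 2 → F) :=
      (cv f₂ d').comp ((Matrix.toLin' x.val).comp (ptR d))
    let Q' : (Fin 2 → F) →ₗ[F] (Fin 2 → F) :=
      (cv f₂ d).comp ((Matrix.toLin' (x⁻¹ : GL (Fin 2 × Fin b) F).val).comp (ptR d'))
    have hadj : ∀ c c', f₁ c (Q' c') = f₁ (P' c) c' := fun c c' => by
      simp only [P', Q', LinearMap.comp_apply, Matrix.toLin'_apply, ptR_apply]
      rw [P.hf₁.skew c, ← B_cv P, ← B_cv P, P.hB.skew (x •ᵥ pt c d),
        ← B_act H hx (x⁻¹ •ᵥ pt c' d'), gl_mulVec_inv_mulVec]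
    have hTr : Tr f₂ M e (P' - Q') := by
      refine ⟨y * s' * y⁻¹ * s'⁻¹,
        M.mul_mem (M.mul_mem (M.mul_mem hyM hs'M) (M.inv_mem hyM)) (M.inv_mem hs'M), fun z => ?_⟩
      obtain ⟨z, rfl⟩ : ∃ z', z = s' •ᵥ (y •ᵥ z') :=
        ⟨y⁻¹ •ᵥ (s'⁻¹ •ᵥ z), by rw [gl_mulVec_inv_mulVec, gl_mulVec_inv_mulVec]⟩
      have hex : cv f₂ e (x •ᵥ pt (cv f₂ e z) d) = 0 := by
        rw [hcvx e heα heβ, cv_pt P, hde, zero_smul]
      have hey : cv f₂ e (y •ᵥ z) = cv f₂ e z := by
        rw [hy, map_sub, map_sub, map_add, map_smul, hex, cv_pt P, cv_pt P, he]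
        simp
      have hes : cv f₂ e (s' •ᵥ (y •ᵥ z)) = cv f₂ e z := by
        rw [hact hSx', map_sub, map_sub, map_add, map_smul, cv_pt P, cv_pt P, cv_pt P, hd'e, he, hey]
        simp
      rw [gl_mulVec_mul, gl_mulVec_mul, gl_mulVec_mul, gl_inv_mulVec_mulVec, gl_inv_mulVec_mulVec, hes]
      have hye : ∀ t, y •ᵥ pt t e = pt t e := fun t => by
        rw [hy, hxi t e heα heβ, cv_pt P, cv_pt P, he, hd, zero_smul, pt_zero_left,
          pt_zero_left, mulVec_zero, smul_zero, add_zero, sub_zero, sub_zero]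
      have hse : ∀ t, s' •ᵥ pt t e = pt t e := fun t => by
        rw [hact hSx', cv_pt P, cv_pt P, he, hd', zero_smul, pt_zero_left,
          pt_zero_left, smul_zero, add_zero, sub_zero, sub_zero]
      have h1 : y •ᵥ pt (cv f₂ e z) d' = pt (cv f₂ e z) d' - pt (Q' (cv f₂ e z)) e := by
        rw [hy, cv_pt P, hd'e, zero_smul, pt_zero_left, pt_zero_left, mulVec_zero, smul_zero, add_zero,
          sub_zero]
        rfl
      have h2 : s' •ᵥ (x •ᵥ pt (cv f₂ e z) d)
          = x •ᵥ pt (cv f₂ e z) d - pt (P' (cv f₂ e z)) e := by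
        rw [hact hSx', hex, pt_zero_left, pt_zero_left, smul_zero, add_zero, sub_zero]
        rfl
      rw [hact hSx' z, hy z]
      simp only [mulVec_add, mulVec_sub, mulVec_smul, hye, hse, h1, h2]
      rw [hy z, hact hSx' z, LinearMap.sub_apply, pt_sub_left]
      abel
    have h3 := Tr.eq_zero H hno he0 he (fun c c' => by
      rw [LinearMap.sub_apply, LinearMap.sub_apply, form_sub_left P.hf₁.bilinear,
        form_sub_right P.hf₁.bilinear, hadj, P.hf₁.skew (Q' c), hadj, P.hf₁.skew (P' c') c]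
      ring) hTr c
    rw [LinearMap.sub_apply, form_sub_left P.hf₁.bilinear, P.hf₁.skew (Q' c), hadj, sub_neg_eq_add,
      ← two_mul] at h3
    exact (mul_eq_zero.1 h3).resolve_left P.two
  have hdec : ∀ w : Fin b → F, ∃ (s : Fin b → F) (l l' : F), w = s + l • α + l' • β ∧ f₂ s α = 0 ∧ f₂ s β = 0 := by
    intro w
    refine ⟨w - ((f₂ w β * f₂ α β - f₂ w α * f₂ β β) / δ) • α
      - ((f₂ w α * f₂ α β - f₂ w β * f₂ α α) / δ) • β,
      (f₂ w β * f₂ α β - f₂ w α * f₂ β β) / δ, (f₂ w α * f₂ α β - f₂ w β * f₂ α α) / δ, by abel, ?_, ?_⟩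
    all_goals
      simp only [sub_left₂ P, smul_left₂ P, symm₂ P β α]
      field_simp
      rw [hδdef]
      ring
  have hscal : ∀ d, f₂ e d = 0 → f₂ d e = 0 → (∀ s, f₂ s α = 0 → f₂ s β = 0 → f₂ d s = 0) →
      ∀ c, x •ᵥ pt c d = pt c (lc f₁ v (x •ᵥ pt u d)) := by
    intro d hd _ hdorth
    have hlin : ∀ d', ∃ κ : F, ∀ c, cv f₂ d' (x •ᵥ pt c d) = κ • c := by
      intro d'
      obtain ⟨s, l, l', rfl, hs1, hs2⟩ := hdec d'
      have hs0 : ∀ c, cv f₂ s (x •ᵥ pt c d) = 0 := fun c => by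
        rw [hcvx s hs1 hs2, cv_pt P, hdorth s hs1 hs2, zero_smul]
      have hk : ∀ c, f₁ (cv f₂ (s + l • α + l' • β) (x •ᵥ pt c d)) c = 0 := fun c => by
        rw [cv_add P, cv_add P, cv_smul P, cv_smul P, hs0, zero_add, P.hf₁.bilinear.add_left,
          P.hf₁.bilinear.smul_left, P.hf₁.bilinear.smul_left, key d α hd heα, key d β hd heβ]
        ring
      refine (scalar_of_eig (k := 2) (by omega)
        ((cv f₂ (s + l • α + l' • β)).comp ((Matrix.toLin' x.val).comp (ptR d))) fun c => ?_).imp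
        fun κ hκ c => hκ c
      rcases eq_or_ne c 0 with rfl | hc
      · rw [map_zero]; exact Submodule.zero_mem _
      obtain ⟨c', hc', hc''⟩ := exists_partner P.hf₁ hc
      refine Submodule.mem_span_singleton.2
        ⟨f₁ ((cv f₂ (s + l • α + l' • β)) (x •ᵥ pt c d)) c', ?_⟩
      show _ = (cv f₂ (s + l • α + l' • β)) (x •ᵥ pt c d)
      conv_rhs => rw [expand_two H hc' hc'' (cv f₂ (s + l • α + l' • β) (x •ᵥ pt c d)), hk c, zero_smul,
        sub_zero]
    intro c
    refine ext_B P fun t d' => ?_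
    obtain ⟨κ, hκ⟩ := hlin d'
    rw [B_cv P, hκ, P.B_pt, symm₂ P (lc f₁ v _) d', P.hf₁.bilinear.smul_left]
    have h1 : f₂ (lc f₁ v (x •ᵥ pt u d)) d' = κ := by
      rw [← B_lc P, B_cv P, hκ, P.hf₁.bilinear.smul_left, huv, mul_one]
    rw [symm₂ P, h1]
    ring
  have hσ : ∀ w c, x •ᵥ pt c w = pt c (lc f₁ v (x •ᵥ pt u w)) := by
    intro w c
    obtain ⟨s, l, l', rfl, hs1, hs2⟩ := hdec w
    have hα : f₂ α e = 0 := by rw [symm₂ P, heα]
    have hβ : f₂ β e = 0 := by rw [symm₂ P, heβ]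
    have e1 := hscal α heα hα (fun s h1 _ => by rw [symm₂ P, h1]) c
    have e2 := hscal β heβ hβ (fun s _ h2 => by rw [symm₂ P, h2]) c
    simp only [pt_add_right, pt_smul_right, mulVec_add, mulVec_smul, map_add, map_smul,
      hfix _ s hs1 hs2, lc_pt P, huv, one_smul, e1, e2]
  let C₀ : (Fin b → F) →ₗ[F] (Fin b → F) := (lc f₁ v).comp ((Matrix.toLin' x.val).comp (ptL u))
  have hC₀ : ∀ w, C₀ w = lc f₁ v (x •ᵥ pt u w) := fun w => rfl
  have hinj : Function.Injective C₀ := fun w w' h => ptL_injective hu (gl_mulVec_injective x (by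
    show x •ᵥ pt u w = x •ᵥ pt u w'
    rw [hσ w u, hσ w' u, ← hC₀, ← hC₀, h]))
  have hCu : IsUnit (LinearMap.toMatrix' C₀) := Matrix.mulVec_injective_iff_isUnit.1 fun y y' h =>
    hinj (by rwa [LinearMap.toMatrix'_mulVec, LinearMap.toMatrix'_mulVec] at h)
  exact ⟨1, hCu.unit, gl_ext_pt fun c w => by
    rw [hσ, kronGL_pt, IsUnit.unit_spec, LinearMap.toMatrix'_mulVec, Units.val_one, one_mulVec, hC₀]⟩

/-- A conjugate reflection is a tensor, or it moves a nondegenerate plane only. -/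
lemma conj_refl_cases (hb4 : b ≠ 4) {g : GL (Fin 2 × Fin b) F} (hg : g ∈ M) {w : Fin b → F}
    (hw : f₂ w w ≠ 0) {r : GL (Fin b) F} (hr : r ∈ isoOf f₂) (hrr : r * r = 1)
    (hrx : ∀ y, r •ᵥ y = y - (2 * f₂ y w / f₂ w w) • w)
    {u v : Fin 2 → F} (huv : f₁ u v = 1) (hvu : f₁ v u = -1) :
    InH (g⁻¹ * kronGL 1 r * g) ∨ ∃ (α β : Fin b → F) (κ : F), κ ≠ 0 ∧
      f₂ α β * f₂ α β - f₂ α α * f₂ β β ≠ 0 ∧
      (∀ c s, f₂ s α = 0 → f₂ s β = 0 → (g⁻¹ * kronGL 1 r * g) •ᵥ pt c s = pt c s) ∧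
      (∀ s, lc f₁ u ((g⁻¹ * kronGL 1 r * g) •ᵥ pt u s) = κ • (f₂ s β • α - f₂ s α • β)) ∧
      α = lc f₁ u (g⁻¹ •ᵥ pt u w) ∧
      g⁻¹ •ᵥ pt u w ∈ rowSub (a := 2) (Submodule.span F {α, β}) ∧
      g⁻¹ •ᵥ pt v w ∈ rowSub (a := 2) (Submodule.span F {α, β}) := by
  classical
  have P := H.pair
  have hb3 := P.three_le
  have hu : u ≠ 0 := fun h => one_ne_zero (huv.symm.trans (by rw [h, form_zero_left P.hf₁.bilinear]))
  set h := kronGL (1 : GL (Fin 2) F) r with hh
  set x := g⁻¹ * h * g with hx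
  have hxM : x ∈ M := M.mul_mem (M.mul_mem (M.inv_mem hg) (kron_right_mem H hr)) hg
  have hxx : x * x = 1 := by
    rw [hx, show g⁻¹ * h * g * (g⁻¹ * h * g) = g⁻¹ * (h * h) * g by group, hh, kronGL_mul, hrr,
      one_mul, kronGL_one]
    group
  have hxi : x⁻¹ = x := inv_eq_of_mul_eq_one_right hxx
  set p := g⁻¹ •ᵥ pt u w with hp
  set p' := g⁻¹ •ᵥ pt v w with hp'
  set κ : F := 2 / f₂ w w with hκ
  have hκ0 : κ ≠ 0 := div_ne_zero P.two hw
  have hxact : ∀ z, x •ᵥ z = z - κ • (B z p' • p - B z p • p') := by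
    intro z
    have h1 := linear_ext (f := Matrix.toLin' h.val)
      (g := LinearMap.id - κ • ((ptR w).comp (cv f₂ w))) fun y s => by
        simp only [hh, Matrix.toLin'_apply, kronGL_pt, hrx, hκ, Units.val_one, one_mulVec,
          LinearMap.sub_apply, LinearMap.id_apply, LinearMap.smul_apply, LinearMap.comp_apply,
          ptR_apply, cv_pt P, pt_sub_right, pt_smul_left, pt_smul_right, smul_smul]
        congr 2
        ring
    have h2 := LinearMap.congr_fun h1 (g •ᵥ z)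
    simp only [Matrix.toLin'_apply, LinearMap.sub_apply, LinearMap.id_apply, LinearMap.smul_apply,
      LinearMap.comp_apply, ptR_apply] at h2
    have e1 : f₁ (cv f₂ w (g •ᵥ z)) v = B z p' := by
      rw [← B_cv P, hp', ← B_act H hg z, gl_mulVec_inv_mulVec]
    have e2 : f₁ (cv f₂ w (g •ᵥ z)) u = B z p := by
      rw [← B_cv P, hp, ← B_act H hg z, gl_mulVec_inv_mulVec]
    rw [expand_two H huv hvu (cv f₂ w (g •ᵥ z)), e1, e2, pt_sub_left, pt_smul_left, pt_smul_left] at h2
    rw [hx, gl_mulVec_mul, gl_mulVec_mul, h2, mulVec_sub, mulVec_smul, mulVec_sub, mulVec_smul,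
      mulVec_smul, gl_inv_mulVec_mulVec]
  set α := lc f₁ u p with hα
  set β := lc f₁ u p' with hβ
  have hBu : ∀ s, B (pt u s) p = -f₂ s α ∧ B (pt u s) p' = -f₂ s β := fun s => by
    constructor <;> rw [P.hB.skew, B_lc P, symm₂ P]
  set δ := f₂ α β * f₂ α β - f₂ α α * f₂ β β with hδdef
  set S := tp f₁ u (act x) with hSdef
  have hS : ∀ s, S s = κ • (f₂ s β • α - f₂ s α • β) := fun s => by
    rw [hSdef, tp_apply, act_apply, hxact, map_sub, lc_pt_self P, zero_sub, map_smul, map_sub,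
      map_smul, map_smul, (hBu s).1, (hBu s).2, ← hα, ← hβ]
    module
  set T := tp f₁ u (act x * rR f₁ u * act x⁻¹) with hTdef
  have hT : ∀ s, T s = S (S s) := fun s => by
    simp [hTdef, hSdef, tp_apply, Module.End.mul_apply, hxi]
  have hSS : ∀ s, S (S (S s)) = (κ * κ * δ) • S s := fun s => by
    simp only [hS, smul_left₂ P, sub_left₂ P, symm₂ P β α, hδdef, map_sub, map_smul]
    module
  have hb1 : 1 ≤ b := by omega
  by_cases hδ : δ = 0
  · left
    have hnil : T ^ (1 + 1) = 0 := LinearMap.ext fun s => by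
      rw [pow_succ, pow_one, Module.End.mul_apply, hT, hT, hSS, hδ, mul_zero, zero_smul,
        LinearMap.zero_apply]
    have hk := inH_nilp H hno 1 hxM hu hnil
    have hsq : (act (x * rt f₁ u * x⁻¹) - 1) * (act (x * rt f₁ u * x⁻¹) - 1) = 0 := by
      rw [act_conj_rt P, add_sub_cancel_left, conj_sq P]
    rcases sq_zero_kron (by omega) hb1 P.two hk hsq with ⟨A, hA⟩ | ⟨C, hC⟩
    · exact inH_of_rootA H hno hxM hu hA
    exfalso
    set I := LinearMap.range (act C - 1) with hI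
    have hdim : 2 * finrank F I = b := by
      rw [← finrank_rowSub (a := 2), ← range_kron_right, ← hC, finrank_range_conj P x hu]
    let L : (Fin b → F) →ₗ[F] F × F :=
      LinearMap.prod ((bilinOf P.hf₂.bilinear).flip α) ((bilinOf P.hf₂.bilinear).flip β)
    have hker : LinearMap.ker L ≤ I := fun s hs => by
      rw [LinearMap.mem_ker] at hs
      have h1 : f₂ s α = 0 := congrArg Prod.fst hs
      have h2 : f₂ s β = 0 := congrArg Prod.snd hs
      have hfx : x •ᵥ pt u s = pt u s := by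
        rw [hxact, (hBu s).1, (hBu s).2, h1, h2]
        simp
      have h3 : pt u s ∈ LinearMap.range (act (x * rt f₁ u * x⁻¹) - 1) := by
        obtain ⟨z, hz⟩ := exists_lc P hu s
        refine ⟨x •ᵥ z, ?_⟩
        rw [act_conj_rt P, add_sub_cancel_left]
        simp [Module.End.mul_apply, hz, hfx]
      rw [hC, range_kron_right] at h3
      obtain ⟨i, hi⟩ : ∃ i, u i ≠ 0 := Function.ne_iff.1 hu
      have h4 : u i • s ∈ I := h3 i
      have h5 := I.smul_mem (u i)⁻¹ h4
      rwa [inv_smul_smul₀ hi] at h5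
    have h4 := LinearMap.finrank_range_add_finrank_ker L
    have h5 : finrank F (LinearMap.range L) ≤ 2 := (Submodule.finrank_le _).trans (by
      rw [finrank_prod, finrank_self])
    have h6 := Submodule.finrank_mono hker
    rw [finrank_fin_fun] at h4
    omega
  -- the semisimple case
  have hαβ : ∀ l l' : F, l • α + l' • β = 0 → l = 0 ∧ l' = 0 := fun l l' h0 => by
    have h1 := congrArg (fun y => f₂ y α) h0
    have h2 := congrArg (fun y => f₂ y β) h0
    simp only [add_left₂ P, smul_left₂ P, symm₂ P β α, form_zero_left P.hf₂.bilinear] at h1 h2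
    constructor
    · refine (mul_eq_zero.1 (?_ : l * δ = 0)).resolve_right hδ
      rw [hδdef]; linear_combination (f₂ α β) * h2 - (f₂ β β) * h1
    · refine (mul_eq_zero.1 (?_ : l' * δ = 0)).resolve_right hδ
      rw [hδdef]; linear_combination (f₂ α β) * h1 - (f₂ α α) * h2
  have hTα : T α = (κ * κ * δ) • α := by
    simp only [hT, hS, smul_left₂ P, sub_left₂ P, symm₂ P β α, hδdef]
    module
  have hα0 : α ≠ 0 := fun h0 => one_ne_zero ((hαβ 1 0 (by rw [h0, smul_zero, zero_smul, add_zero])).1)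
  set R := rR (b := b) f₁ u with hRdef
  set K := act x * rR f₁ u * act x⁻¹ with hKdef
  have hR : R * R = 0 := rR_sq P u
  have hK : K * K = 0 := conj_sq P x u
  have hξ : Module.End.HasEigenvector (cc R K) (κ * κ * δ) (pt u α) := by
    refine ⟨Module.End.mem_eigenspace_iff.2 ?_, pt_ne_zero hu hα0⟩
    rw [← pt_smul_right, ← hTα]
    simp [cc, R, K, hTdef, tp_apply, Module.End.mul_apply, lc_pt_self P, pt_zero_right]
  obtain ⟨z, hzc, hz2, hz1, hzr, hzk, hfixz⟩ := exists_involution hR hK act act_injective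
    (act_rt P u) (act_conj_rt P x u) P.two (t := κ * κ * δ)
    (mul_ne_zero (mul_ne_zero hκ0 hκ0) hδ) (ξ := pt u α)
    (by simp [R, lc_pt_self P, pt_zero_right]) fun q => by
      rw [Module.End.aeval_apply_of_hasEigenvector hξ, Polynomial.coe_aeval_eq_eval, smul_eq_zero,
        or_iff_left (pt_ne_zero hu hα0)]
  have hzM : z ∈ M := (Subgroup.closure_le M).2 (by
    rintro y (rfl | rfl)
    · exact rt_mem H
    · exact conj_rt_mem H hxM) hzc
  set z' := x * z * x with hz'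
  have hz'M : z' ∈ M := M.mul_mem (M.mul_mem hxM hzM) hxM
  have hz'2 : z' * z' = 1 := by
    rw [hz', show x * z * x * (x * z * x) = x * (z * (x * x) * z) * x by group, hxx, mul_one, hz2,
      mul_one, hxx]
  have hz'r : z' * rt f₁ u = rt f₁ u * z' := by
    have h1 := congrArg (fun t => x * t * x) hzk
    simp only [hxi] at h1
    calc z' * rt f₁ u = x * (z * (x * rt f₁ u * x)) * x := by
          rw [hz']
          simp only [mul_assoc]
          rw [hxx, mul_one]
      _ = x * (x * rt f₁ u * x * z) * x := h1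
      _ = rt f₁ u * z' := by
          rw [hz']
          simp only [← mul_assoc]
          rw [hxx, one_mul]
  have hA1 : ∀ {A : GL (Fin 2) F}, A ∈ isoOf f₁ → A * A = 1 → A •ᵥ u = u → A = 1 := by
    intro A hAi hAA hAu
    have h1 := two_le_ev H hAi hAA (Or.inl rfl) (mem_ev.2 (by rw [hAu, one_smul])) hu
    have h2 : ev A 1 = ⊤ := Submodule.eq_top_of_finrank_eq (le_antisymm (Submodule.finrank_le _)
      (by rw [finrank_fin_fun]; exact h1))
    exact gl_ext_mulVec fun c => by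
      rw [mem_ev.1 (h2 ▸ Submodule.mem_top : c ∈ ev A 1), one_smul, Units.val_one, one_mulVec]
  obtain ⟨A, C, hzAC, hAu, hAA, hCC, hAi, hlc⟩ :=
    inv_frame H hzM (inH_of_comm H hno hzM hu hzr) hz2 hu hzr
  obtain ⟨A', C', hzAC', hAu', hAA', hCC', hAi', hlc'⟩ :=
    inv_frame H hz'M (inH_of_comm H hno hz'M hu hz'r) hz'2 hu hz'r
  obtain rfl := hA1 hAi hAA hAu
  obtain rfl := hA1 hAi' hAA' hAu'
  -- the moved part of the second factor
  have hfx : ∀ s, f₂ s α = 0 → f₂ s β = 0 → x •ᵥ pt u s = pt u s := fun s h1 h2 => by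
    rw [hxact, (hBu s).1, (hBu s).2, h1, h2]
    simp
  have hCs : ∀ s, f₂ s α = 0 → f₂ s β = 0 → C •ᵥ s = s ∧ C' •ᵥ s = s := fun s h1 h2 => by
    have e : z •ᵥ pt u s = pt u s := by
      rw [← act_apply]
      refine hfixz _ (by simp [R, lc_pt_self P, pt_zero_right]) ?_
      simp [K, Module.End.mul_apply, hxi, hfx s h1 h2, lc_pt_self P, pt_zero_right]
    have e' : z' •ᵥ pt u s = pt u s := by
      rw [hz', gl_mulVec_mul, gl_mulVec_mul, hfx s h1 h2, e, hfx s h1 h2]
    rw [hzAC, kronGL_pt, Units.val_one, one_mulVec] at e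
    rw [hzAC', kronGL_pt, Units.val_one, one_mulVec] at e'
    exact ⟨ptL_injective hu e, ptL_injective hu e'⟩
  set D := Submodule.span F {α, β} with hD
  have hiso : ∀ {C : GL (Fin b) F} {y : GL (Fin 2 × Fin b) F}, y ∈ M → y = kronGL 1 C →
      C ∈ isoOf f₂ := fun {C y} hy hyC => mem_isoOf.2 fun s s' => by
    have h1 := B_act H hy (pt u s) (pt v s')
    rw [hyC, kronGL_pt, kronGL_pt, Units.val_one, one_mulVec, one_mulVec, P.B_pt, P.B_pt, huv,
      one_mul, one_mul] at h1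
    exact h1
  have hsub : ∀ {C : GL (Fin b) F}, C ∈ isoOf f₂ →
      (∀ s, f₂ s α = 0 → f₂ s β = 0 → C •ᵥ s = s) → ev C (-1) ≤ D := by
    intro C hC hfix t ht
    rw [mem_ev] at ht
    set l := (f₂ t β * f₂ α β - f₂ t α * f₂ β β) / δ with hl
    set l' := (f₂ t α * f₂ α β - f₂ t β * f₂ α α) / δ with hl'
    have e : t - l • α - l' • β = 0 := by
      set t₀ := t - l • α - l' • β with ht₀
      have h1 : f₂ t₀ α = 0 := by
        simp only [ht₀, hl, hl', sub_left₂ P, smul_left₂ P, symm₂ P β α]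
        field_simp
        rw [hδdef]
        ring
      have h2 : f₂ t₀ β = 0 := by
        simp only [ht₀, hl, hl', sub_left₂ P, smul_left₂ P, symm₂ P β α]
        field_simp
        rw [hδdef]
        ring
      -- orthogonal to everything
      refine eq_zero_of_form_left P.hf₂.nondegenerate fun y => ?_
      set y₀ := y - ((f₂ y β * f₂ α β - f₂ y α * f₂ β β) / δ) • α
        - ((f₂ y α * f₂ α β - f₂ y β * f₂ α α) / δ) • β with hy₀
      have h3 : f₂ y₀ α = 0 := by
        simp only [hy₀, sub_left₂ P, smul_left₂ P, symm₂ P β α]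
        field_simp
        rw [hδdef]
        ring
      have h4 : f₂ y₀ β = 0 := by
        simp only [hy₀, sub_left₂ P, smul_left₂ P, symm₂ P β α]
        field_simp
        rw [hδdef]
        ring
      have h5 := mem_isoOf.1 hC t y₀
      rw [ht, hfix y₀ h3 h4, smul_left₂ P] at h5
      have h6 : f₂ t y₀ = 0 := (mul_eq_zero.1
        (by linear_combination -h5 : (2 : F) * f₂ t y₀ = 0)).resolve_left P.two
      have h7 : f₂ t₀ y₀ = 0 := by
        simp only [ht₀, sub_left₂ P, smul_left₂ P, symm₂ P α y₀, symm₂ P β y₀, h3, h4, h6]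
        ring
      rw [show y = y₀ + ((f₂ y β * f₂ α β - f₂ y α * f₂ β β) / δ) • α
          + ((f₂ y α * f₂ α β - f₂ y β * f₂ α α) / δ) • β by rw [hy₀]; abel,
        add_right₂ P, add_right₂ P, smul_right₂ P, smul_right₂ P, h1, h2, h7]
      ring
    exact Submodule.mem_span_pair.2 ⟨l, l', by linear_combination (norm := module) -e⟩
  have hBD : ev C (-1) ≤ D := hsub (hiso hzM hzAC) fun s h1 h2 => (hCs s h1 h2).1
  have hBD' : ev C' (-1) ≤ D := hsub (hiso hz'M hzAC') fun s h1 h2 => (hCs s h1 h2).2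
  have hxmap : ∀ c t, C •ᵥ t = -t → x •ᵥ pt c t ∈ rowSub (a := 2) (ev C' (-1)) := by
    intro c t ht
    have h1 : z' •ᵥ (x •ᵥ pt c t) = -(x •ᵥ pt c t) := by
      rw [hz', gl_mulVec_mul, gl_mulVec_mul, ← gl_mulVec_mul x x, hxx, Units.val_one, one_mulVec,
        hzAC, kronGL_pt, ht, Units.val_one, one_mulVec, pt_neg_right, mulVec_neg]
    intro i
    rw [mem_ev, neg_one_smul, ← row_kron, ← hzAC', h1]
    rfl
  have hrowD : ∀ c t, t ∈ D → pt c t ∈ rowSub (a := 2) D := fun c t ht i => D.smul_mem (c i) ht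
  -- both translation vectors lie in the moved part
  have hPD : p ∈ rowSub (a := 2) D ∧ p' ∈ rowSub (a := 2) D := by
    have hdiff : ∀ c t, C •ᵥ t = -t → κ • (B (pt c t) p' • p - B (pt c t) p • p') ∈
        rowSub (a := 2) D := fun c t ht => by
      have h1 : x •ᵥ pt c t ∈ rowSub (a := 2) D := fun i => hBD' (hxmap c t ht i)
      have h2 := (rowSub (a := 2) D).sub_mem (hrowD c t (hBD (mem_ev.2 (by rw [ht, neg_one_smul])))) h1
      rwa [hxact, sub_sub_cancel] at h2
    have hdiff' : ∀ c t, C' •ᵥ t = -t → κ • (B (pt c t) p' • p - B (pt c t) p • p') ∈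
        rowSub (a := 2) D := fun c t ht => by
      have hm : x •ᵥ pt c t ∈ rowSub (a := 2) (ev C (-1)) := by
        have h1 : z •ᵥ (x •ᵥ pt c t) = -(x •ᵥ pt c t) := by
          refine gl_mulVec_injective x ?_
          show _ *ᵥ _ = _ *ᵥ _
          rw [← gl_mulVec_mul, ← gl_mulVec_mul, ← hz', hzAC', kronGL_pt, ht, Units.val_one,
            one_mulVec, pt_neg_right, mulVec_neg, ← gl_mulVec_mul, hxx, Units.val_one, one_mulVec]
        intro i
        rw [mem_ev, neg_one_smul, ← row_kron, ← hzAC, h1]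
        rfl
      have h1 : x •ᵥ pt c t ∈ rowSub (a := 2) D := fun i => hBD (hm i)
      have h2 := (rowSub (a := 2) D).sub_mem (hrowD c t (hBD' (mem_ev.2 (by rw [ht, neg_one_smul])))) h1
      rwa [hxact, sub_sub_cancel] at h2
    -- surjective case
    have hsur : ∀ C₁ : GL (Fin b) F, ev C₁ (-1) = D →
        (∀ c t, C₁ •ᵥ t = -t → κ • (B (pt c t) p' • p - B (pt c t) p • p') ∈ rowSub (a := 2) D) →
        p ∈ rowSub (a := 2) D ∧ p' ∈ rowSub (a := 2) D := by
      intro C₁ hC₁ hd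
      have hget : ∀ l l' : F, κ • ((-f₂ (l • α + l' • β) β) • p - (-f₂ (l • α + l' • β) α) • p') ∈
          rowSub (a := 2) D := fun l l' => by
        have hm : l • α + l' • β ∈ ev C₁ (-1) := hC₁ ▸ Submodule.mem_span_pair.2 ⟨l, l', rfl⟩
        rw [mem_ev, neg_one_smul] at hm
        have h1 := hd u _ hm
        rwa [(hBu _).1, (hBu _).2] at h1
      have e1 : κ • ((-f₂ (f₂ α β • α + -f₂ α α • β) β) • p
          - (-f₂ (f₂ α β • α + -f₂ α α • β) α) • p') = (-(κ * δ)) • p := by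
        simp only [add_left₂ P, smul_left₂ P, symm₂ P β α, hδdef]
        module
      have e2 : κ • ((-f₂ (-f₂ β β • α + f₂ α β • β) β) • p
          - (-f₂ (-f₂ β β • α + f₂ α β • β) α) • p') = (κ * δ) • p' := by
        simp only [add_left₂ P, smul_left₂ P, symm₂ P β α, hδdef]
        module
      have g1 := (rowSub (a := 2) D).smul_mem (-(κ * δ))⁻¹ (e1 ▸ hget (f₂ α β) (-f₂ α α))
      have g2 := (rowSub (a := 2) D).smul_mem (κ * δ)⁻¹ (e2 ▸ hget (-f₂ β β) (f₂ α β))
      rw [inv_smul_smul₀ (neg_ne_zero.2 (mul_ne_zero hκ0 hδ))] at g1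
      rw [inv_smul_smul₀ (mul_ne_zero hκ0 hδ)] at g2
      exact ⟨g1, g2⟩
    by_cases hC1 : ev C (-1) = D
    · exact hsur C hC1 hdiff
    by_cases hC2 : ev C' (-1) = D
    · exact hsur C' hC2 hdiff'
    obtain ⟨t, ht, ht0⟩ : ∃ t, C •ᵥ t = -t ∧ t ≠ 0 := by
      by_contra hcon
      push Not at hcon
      refine hz1 (gl_ext_pt fun c s => ?_)
      have h1 := finrank_ev C hCC P.two
      have h2 : ev C (-1) = ⊥ := (Submodule.eq_bot_iff _).2 fun t ht =>
        hcon t (by rw [mem_ev.1 ht, neg_one_smul])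
      rw [h2, finrank_bot, add_zero] at h1
      have h3 : ev C 1 = ⊤ := Submodule.eq_top_of_finrank_eq (by rw [finrank_fin_fun, h1, Fintype.card_fin])
      rw [hzAC, kronGL_pt, mem_ev.1 (h3 ▸ Submodule.mem_top : s ∈ ev C 1), one_smul, Units.val_one,
        Units.val_one, one_mulVec, one_mulVec]
    set a₁ := B (pt u t) p'
    set b₁ := B (pt u t) p
    set a₂ := B (pt v t) p'
    set b₂ := B (pt v t) p
    have hab : a₁ ≠ 0 ∨ b₁ ≠ 0 := by
      by_contra hcon
      push Not at hcon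
      obtain ⟨l, l', hl⟩ := Submodule.mem_span_pair.1 (hBD (mem_ev.2 (by rw [ht, neg_one_smul])) : t ∈ D)
      have e1 : f₂ t β = 0 := neg_eq_zero.1 ((hBu t).2.symm.trans hcon.1)
      have e2 : f₂ t α = 0 := neg_eq_zero.1 ((hBu t).1.symm.trans hcon.2)
      rw [← hl, add_left₂ P, smul_left₂ P, smul_left₂ P, symm₂ P β α] at e2
      rw [← hl, add_left₂ P, smul_left₂ P, smul_left₂ P] at e1
      have f1 : l = 0 := (mul_eq_zero.1 (by
        rw [hδdef]; linear_combination (f₂ α β) * e1 - (f₂ β β) * e2 : l * δ = 0)).resolve_right hδ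
      have f2 : l' = 0 := (mul_eq_zero.1 (by
        rw [hδdef]; linear_combination (f₂ α β) * e2 - (f₂ α α) * e1 : l' * δ = 0)).resolve_right hδ
      exact ht0 (by rw [← hl, f1, f2, zero_smul, zero_smul, add_zero])
    have g1 := hdiff u t ht
    have g2 := hdiff v t ht
    by_cases hdet : a₁ * b₂ - a₂ * b₁ = 0
    · exfalso
      obtain ⟨c, hc1, hc2, hc0⟩ : ∃ c, B (pt c t) p' = 0 ∧ B (pt c t) p = 0 ∧ f₁ u c ≠ 0 := by
        rcases hab with ha | hb'
        · exact ⟨a₁ • v - a₂ • u, by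
            simp only [pt_sub_left, pt_smul_left, form_sub_left P.hB.bilinear, P.hB.bilinear.smul_left]
            show a₁ * a₂ - a₂ * a₁ = 0
            ring, by
            simp only [pt_sub_left, pt_smul_left, form_sub_left P.hB.bilinear, P.hB.bilinear.smul_left]
            exact hdet, by
            simpa [form_sub_right P.hf₁.bilinear, P.hf₁.bilinear.smul_right, huv, P.hf₁.alternating]
              using ha⟩
        · exact ⟨b₁ • v - b₂ • u, by
            simp only [pt_sub_left, pt_smul_left, form_sub_left P.hB.bilinear, P.hB.bilinear.smul_left]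
            show b₁ * a₂ - b₂ * a₁ = 0
            linear_combination -hdet, by
            simp only [pt_sub_left, pt_smul_left, form_sub_left P.hB.bilinear, P.hB.bilinear.smul_left]
            show b₁ * b₂ - b₂ * b₁ = 0
            ring, by
            simpa [form_sub_right P.hf₁.bilinear, P.hf₁.bilinear.smul_right, huv, P.hf₁.alternating]
              using hb'⟩
      have hxc : x •ᵥ pt c t = pt c t := by rw [hxact, hc1, hc2]; simp
      have hc : c ≠ 0 := fun h0 => hc0 (by rw [h0, form_zero_right P.hf₁.bilinear])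
      obtain ⟨i, hi⟩ : ∃ i, c i ≠ 0 := Function.ne_iff.1 hc
      have htC' : t ∈ ev C' (-1) := by
        have h1 := hxmap c t ht i
        rw [hxc] at h1
        have h2 := (ev C' (-1)).smul_mem (c i)⁻¹ (show c i • t ∈ ev C' (-1) from h1)
        rwa [inv_smul_smul₀ hi] at h2
      have hline : ev C' (-1) = Submodule.span F {t} := by
        refine (Submodule.eq_of_le_of_finrank_le ((Submodule.span_singleton_le_iff_mem _ _).2 htC') ?_).symm
        rw [finrank_span_singleton ht0]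
        have h1 := Submodule.finrank_lt_finrank_of_lt (lt_of_le_of_ne hBD' hC2)
        have h2 : finrank F D ≤ 2 := by
          classical
          refine (finrank_span_le_card _).trans ?_
          simp only [Set.toFinset_insert, Set.toFinset_singleton]
          exact Finset.card_le_two
        omega
      -- the image of `u ⊗ t` is pure
      obtain ⟨c', hc'⟩ : ∃ c', x •ᵥ pt u t = pt c' t := by
        have h1 : ∀ i, ∃ m : F, m • t = fun j => (x •ᵥ pt u t) (i, j) := fun i =>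
          Submodule.mem_span_singleton.1 (hline ▸ hxmap u t ht i)
        choose m hm using h1
        exact ⟨m, funext fun ij => (congrFun (hm ij.1) ij.2).symm⟩
      obtain ⟨χ, hχ⟩ := (P.hf₂.nondegenerate t ht0).2
      have hq : f₂ t t ≠ 0 := fun h0 => by
        have h1 := (hsub (hiso hzM hzAC) fun s h1 h2 => (hCs s h1 h2).1) (mem_ev.2 (by rw [ht, neg_one_smul]))
        obtain ⟨y, hy⟩ := (P.hf₂.nondegenerate t ht0).2
        have hy2 := Submodule.mem_sup.1 ((show ev C 1 ⊔ ev C (-1) = ⊤ from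
          Submodule.eq_top_of_finrank_eq (by
            have h3 := Submodule.finrank_sup_add_finrank_inf_eq (ev C 1) (ev C (-1))
            rw [finrank_ev C hCC P.two, show ev C 1 ⊓ ev C (-1) = ⊥ from
              (Submodule.eq_bot_iff _).2 fun s hs => ev_disjoint C P.two hs.1 hs.2, finrank_bot,
              Fintype.card_fin] at h3
            rw [finrank_fin_fun]; omega)) ▸ Submodule.mem_top : y ∈ ev C 1 ⊔ ev C (-1))
        obtain ⟨y₁, hy₁, y₂, hy₂, rfl⟩ := hy2
        have h4 : f₂ t y₁ = 0 := by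
          have h5 := mem_isoOf.1 (hiso hzM hzAC) t y₁
          rw [ht, mem_ev.1 hy₁, one_smul, ← neg_one_smul F t, smul_left₂ P] at h5
          exact (mul_eq_zero.1 (by linear_combination -h5 : (2 : F) * f₂ t y₁ = 0)).resolve_left P.two
        have hC1' : ev C (-1) = Submodule.span F {t} := by
          refine (Submodule.eq_of_le_of_finrank_le ((Submodule.span_singleton_le_iff_mem _ _).2
            (mem_ev.2 (by rw [ht, neg_one_smul]))) ?_).symm
          rw [finrank_span_singleton ht0]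
          have h5 := Submodule.finrank_lt_finrank_of_lt (lt_of_le_of_ne hBD hC1)
          have h6 : finrank F D ≤ 2 := by
            classical
            refine (finrank_span_le_card _).trans ?_
            simp only [Set.toFinset_insert, Set.toFinset_singleton]
            exact Finset.card_le_two
          omega
        rw [hC1'] at hy₂
        obtain ⟨m, rfl⟩ := Submodule.mem_span_singleton.1 hy₂
        rw [add_right₂ P, smul_right₂ P, h4, h0, mul_zero, add_zero] at hy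
        exact hy rfl
      have hcc' : f₁ c' c = f₁ u c := by
        have h1 := B_act H hxM (pt u t) (pt c t)
        rw [hc', hxc, P.B_pt, P.B_pt] at h1
        exact mul_right_cancel₀ hq h1
      -- so the image differs by a multiple of `c`
      have hmult : ∃ m : F, c' = u + m • c := by
        obtain ⟨c₁, hc₁, hc₁'⟩ := exists_partner P.hf₁ hc
        refine ⟨f₁ (c' - u) c₁, ?_⟩
        have h1 := expand_two H hc₁ hc₁' (c' - u)
        rw [form_sub_left P.hf₁.bilinear c' u c, hcc', sub_self, zero_smul, sub_zero] at h1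
        rw [← h1, add_sub_cancel]
      obtain ⟨m, rfl⟩ := hmult
      rw [pt_add_left, pt_smul_left] at hc'
      have h2 := congrArg (fun y => x •ᵥ y) hc'
      simp only [← gl_mulVec_mul, hxx, Units.val_one, one_mulVec] at h2
      rw [mulVec_add, mulVec_smul, hxc, hc', add_assoc, left_eq_add, ← two_smul F, smul_smul,
        smul_eq_zero, or_iff_left (pt_ne_zero hc ht0), mul_eq_zero, or_iff_right P.two] at h2
      rw [h2, zero_smul, add_zero, hxact, sub_eq_self, smul_eq_zero, or_iff_right hκ0] at hc'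
      -- linear independence of the two translation vectors
      have h3 : a₁ • p - b₁ • p' = 0 := hc'
      have h4 := congrArg (lc f₁ u) h3
      rw [map_sub, map_smul, map_smul, map_zero, ← hα, ← hβ, sub_eq_add_neg, ← neg_smul] at h4
      obtain ⟨f1, f2⟩ := hαβ _ _ h4
      rcases hab with h | h
      · exact h f1
      · exact h (neg_eq_zero.1 f2)
    · have k1 := (rowSub (a := 2) D).sub_mem ((rowSub (a := 2) D).smul_mem b₂ g1)
        ((rowSub (a := 2) D).smul_mem b₁ g2)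
      have k2 := (rowSub (a := 2) D).sub_mem ((rowSub (a := 2) D).smul_mem a₂ g1)
        ((rowSub (a := 2) D).smul_mem a₁ g2)
      have hdd : κ * (a₁ * b₂ - a₂ * b₁) ≠ 0 := mul_ne_zero hκ0 hdet
      constructor
      · have := (rowSub (a := 2) D).smul_mem (κ * (a₁ * b₂ - a₂ * b₁))⁻¹ k1
        convert this using 1
        rw [show b₂ • κ • (a₁ • p - b₁ • p') - b₁ • κ • (a₂ • p - b₂ • p')
          = (κ * (a₁ * b₂ - a₂ * b₁)) • p by module, inv_smul_smul₀ hdd]
      · have := (rowSub (a := 2) D).smul_mem (κ * (a₁ * b₂ - a₂ * b₁))⁻¹ k2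
        convert this using 1
        rw [show a₂ • κ • (a₁ • p - b₁ • p') - a₁ • κ • (a₂ • p - b₂ • p')
          = (κ * (a₁ * b₂ - a₂ * b₁)) • p' by module, inv_smul_smul₀ hdd]
  refine Or.inr ⟨α, β, κ, hκ0, hδ, fun c s h1 h2 => ?_, fun s => ?_, rfl, hPD.1, hPD.2⟩
  swap
  · have h1 := hS s
    rwa [hSdef, tp_apply, act_apply] at h1
  have hzero : ∀ y ∈ rowSub (a := 2) D, B (pt c s) y = 0 := fun y hy => by
    rw [pt_sum_left y, ← bilinOf_apply P.hB.bilinear, map_sum]
    refine Finset.sum_eq_zero fun i _ => ?_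
    obtain ⟨l, l', hl⟩ := Submodule.mem_span_pair.1 (hy i)
    rw [bilinOf_apply, P.B_pt, ← hl, add_right₂ P, smul_right₂ P, smul_right₂ P, h1, h2]
    ring
  rw [hxact, hzero p hPD.1, hzero p' hPD.2]
  simp

section Plane

omit hno [Fintype F] in
/-- Coordinates with respect to a hyperbolic pair of the first factor. -/
lemma expand_pt {u v : Fin 2 → F} (huv : f₁ u v = 1) (hvu : f₁ v u = -1) (z : Fin 2 × Fin b → F) :
    z = pt u (lc f₁ v z) - pt v (lc f₁ u z) := by
  have h := linear_ext (f := (LinearMap.id : (Fin 2 × Fin b → F) →ₗ[F] (Fin 2 × Fin b → F)))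
    (g := (ptL u).comp (lc f₁ v) - (ptL v).comp (lc f₁ u)) fun c w => by
      simp only [LinearMap.id_apply, LinearMap.sub_apply, LinearMap.comp_apply, ptL_apply, lc_pt H.pair,
        pt_smul_right]
      have e := expand_two H huv hvu c
      rw [← pt_smul_left, ← pt_smul_left, ← pt_sub_left, ← e]
  exact LinearMap.congr_fun h z

omit hno [Fintype F] in
lemma lc_mem_rowSub {D : Submodule F (Fin b → F)} {z : Fin 2 × Fin b → F}
    (hz : z ∈ rowSub (a := 2) D) (t : Fin 2 → F) : lc f₁ t z ∈ D := by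
  rw [pt_sum_left z, map_sum]
  exact D.sum_mem fun i _ => by rw [lc_pt H.pair]; exact D.smul_mem _ (hz i)

omit hno [Fintype F] in
/-- Orthogonal decomposition with respect to a nondegenerate plane. -/
lemma dec₂ {α β : Fin b → F} (hδ : f₂ α β * f₂ α β - f₂ α α * f₂ β β ≠ 0) (w : Fin b → F) :
    ∃ (s : Fin b → F) (l l' : F), w = s + l • α + l' • β ∧ f₂ s α = 0 ∧ f₂ s β = 0 := by
  have P := H.pair
  set δ := f₂ α β * f₂ α β - f₂ α α * f₂ β β with hδdef
  refine ⟨w - ((f₂ w β * f₂ α β - f₂ w α * f₂ β β) / δ) • α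
    - ((f₂ w α * f₂ α β - f₂ w β * f₂ α α) / δ) • β,
    (f₂ w β * f₂ α β - f₂ w α * f₂ β β) / δ, (f₂ w α * f₂ α β - f₂ w β * f₂ α α) / δ, by abel, ?_, ?_⟩
  all_goals
    simp only [sub_left₂ P, smul_left₂ P, symm₂ P β α]
    field_simp
    rw [hδdef]
    ring

omit hno [Fintype F] in
lemma mem_span_of_orth {α β t : Fin b → F} (hδ : f₂ α β * f₂ α β - f₂ α α * f₂ β β ≠ 0)
    (h : ∀ s, f₂ s α = 0 → f₂ s β = 0 → f₂ t s = 0) : t ∈ Submodule.span F {α, β} := by
  have P := H.pair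
  obtain ⟨s, l, l', rfl, hs1, hs2⟩ := dec₂ H hδ t
  have hs : s = 0 := eq_zero_of_form_left P.hf₂.nondegenerate fun y => by
    obtain ⟨y', m, m', rfl, hy1, hy2⟩ := dec₂ H hδ y
    have h1 := h y' hy1 hy2
    simp only [add_left₂ P, smul_left₂ P, symm₂ P α y', symm₂ P β y', hy1, hy2, mul_zero,
      add_zero] at h1
    simp only [add_right₂ P, smul_right₂ P, h1, hs1, hs2, mul_zero, add_zero]
  exact Submodule.mem_span_pair.2 ⟨l, l', by rw [hs, zero_add]⟩

omit hno [Fintype F] in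
lemma exists_aniso_perp {α β : Fin b → F} (hδ : f₂ α β * f₂ α β - f₂ α α * f₂ β β ≠ 0) :
    ∃ s, f₂ s s ≠ 0 ∧ f₂ s α = 0 ∧ f₂ s β = 0 := by
  have P := H.pair
  obtain ⟨z, hz0, hzα, hzβ⟩ := exists_orth₂ P α β
  by_cases hzz : f₂ z z = 0
  swap
  · exact ⟨z, hzz, hzα, hzβ⟩
  obtain ⟨y, hy⟩ := (P.hf₂.nondegenerate z hz0).1
  obtain ⟨s, l, l', rfl, hs1, hs2⟩ := dec₂ H hδ y
  simp only [add_left₂ P, smul_left₂ P, symm₂ P α z, symm₂ P β z, hzα, hzβ, mul_zero, add_zero] at hy
  by_cases hss : f₂ s s = 0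
  swap
  · exact ⟨s, hss, hs1, hs2⟩
  refine ⟨s + z, fun h0 => hy ?_, by rw [add_left₂ P, hs1, hzα, add_zero],
    by rw [add_left₂ P, hs2, hzβ, add_zero]⟩
  simp only [add_left₂ P, add_right₂ P, hss, hzz, symm₂ P z s] at h0
  exact (mul_eq_zero.1 (by linear_combination h0 : (2 : F) * f₂ s z = 0)).resolve_left P.two

omit hno in
/-- A tensor conjugate to a reflection acts on the second factor only. -/
lemma right_of_conj {g : GL (Fin 2 × Fin b) F} {w : Fin b → F} {r : GL (Fin b) F}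
    (hrx : ∀ y, r •ᵥ y = y - (2 * f₂ y w / f₂ w w) • w)
    (hx : InH (g⁻¹ * kronGL 1 r * g)) :
    ∃ T : (Fin b → F) →ₗ[F] (Fin b → F),
      (∀ c s, (g⁻¹ * kronGL 1 r * g) •ᵥ pt c s = pt c (T s)) ∧
      finrank F (LinearMap.range (T - LinearMap.id)) ≤ 2 := by
  classical
  have P := H.pair
  obtain ⟨A, C, hxAC⟩ := hx
  set h := kronGL (1 : GL (Fin 2) F) r with hh
  let Z : Submodule F (Fin 2 × Fin b → F) := LinearMap.range ((act g⁻¹).comp (ptR w))
  have hxz : ∀ z, kronGL A C •ᵥ z - z ∈ Z := fun z => by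
    refine ⟨(-2 / f₂ w w) • cv f₂ w (g •ᵥ z), ?_⟩
    have h2 := linear_ext (f := (act h - 1 : Module.End F (Fin 2 × Fin b → F)))
      (g := (ptR w).comp ((-2 / f₂ w w) • cv f₂ w)) fun x y => by
        simp only [hh, LinearMap.sub_apply, Module.End.one_apply, act_apply, kronGL_pt, hrx,
          LinearMap.comp_apply, LinearMap.smul_apply, cv_pt P, Units.val_one, one_mulVec,
          pt_sub_right, sub_sub_cancel_left, ptR_apply, pt_smul_left, pt_smul_right, smul_smul,
          ← neg_smul]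
        congr 1
        ring
    have h3 := LinearMap.congr_fun h2 (g •ᵥ z)
    simp only [LinearMap.comp_apply, LinearMap.smul_apply, LinearMap.sub_apply,
      Module.End.one_apply, act_apply] at h3
    rw [LinearMap.comp_apply, act_apply, ← h3, ← hxAC, gl_mulVec_mul, gl_mulVec_mul, mulVec_sub,
      gl_inv_mulVec_mulVec]
  have hsl : TensorSL.Hyp (M := specialLinear (Fin 2 × Fin b) F) := by
    refine ⟨le_rfl, by have := P.three_le; omega, fun g hg => ?_, fun A B h => ?_⟩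
    · simpa [specialLinear, MonoidHom.mem_ker, Units.ext_iff] using hg
    · simpa [specialLinear, MonoidHom.mem_ker, Units.ext_iff] using h
  have hZ : finrank F Z ≤ 2 := (LinearMap.finrank_range_le _).trans (by rw [finrank_fin_fun])
  obtain ⟨c, hc⟩ := TensorSL.exists_scalar hsl hZ hxz
  let T : (Fin b → F) →ₗ[F] (Fin b → F) := c • Matrix.toLin' C.val
  have hT : ∀ c' s, kronGL A C •ᵥ pt c' s = pt c' (T s) := fun c' s => by
    rw [kronGL_pt, hc, pt_smul_left]
    simp [T, Matrix.toLin'_apply, pt_smul_right]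
  refine ⟨T, fun c' s => by rw [hxAC, hT], ?_⟩
  have hu : (Pi.single 0 1 : Fin 2 → F) ≠ 0 := by simp
  rw [(Submodule.equivMapOfInjective _ (ptL_injective (b := b) hu) _).finrank_eq]
  refine (Submodule.finrank_mono ?_).trans hZ
  rintro _ ⟨_, ⟨s, rfl⟩, rfl⟩
  rw [ptL_apply, LinearMap.sub_apply, LinearMap.id_apply, pt_sub_right, ← hT]
  exact hxz _

variable (hb4 : b ≠ 4)
include hb4

/-- The images of an anisotropic column lie over a plane of the second factor. -/
lemma exists_plane {y : GL (Fin 2 × Fin b) F} (hy : y ∈ M) {u v : Fin 2 → F} (huv : f₁ u v = 1)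
    (hvu : f₁ v u = -1) {d : Fin b → F} (hd : f₂ d d ≠ 0) :
    ∃ E : Submodule F (Fin b → F), finrank F E ≤ 2 ∧
      ∀ c ∈ ({u, v} : Set (Fin 2 → F)), ∀ t, lc f₁ t (y •ᵥ pt c d) ∈ E := by
  classical
  have P := H.pair
  obtain ⟨r, hr, hrr, hrx⟩ := exists_refl P hd
  rcases conj_refl_cases H hno hb4 (M.inv_mem hy) hd hr hrr hrx huv hvu with
    hH | ⟨α, β, κ, -, -, -, -, -, hp, hp'⟩
  · obtain ⟨T, hT, hr2⟩ := right_of_conj H hrx hH
    refine ⟨_, hr2, fun c _ t => ?_⟩
    have hlc : ∀ z, lc f₁ t ((y⁻¹⁻¹ * kronGL 1 r * y⁻¹) •ᵥ z) = T (lc f₁ t z) := fun z => by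
      have := linear_ext (f := (lc f₁ t).comp (Matrix.toLin' (y⁻¹⁻¹ * kronGL 1 r * y⁻¹).val))
        (g := T.comp (lc f₁ t)) fun x s => by
          simp only [LinearMap.comp_apply, Matrix.toLin'_apply, hT, lc_pt P, map_smul]
      have h := LinearMap.congr_fun this z
      simp only [LinearMap.comp_apply, Matrix.toLin'_apply] at h
      exact h
    have hrd : r •ᵥ d = -d := by
      rw [hrx, mul_div_assoc, div_self hd, mul_one, two_smul]; abel
    have h1 := hlc (y •ᵥ pt c d)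
    rw [inv_inv, gl_mulVec_mul, gl_mulVec_mul, gl_inv_mulVec_mulVec, kronGL_pt, hrd, Units.val_one,
      one_mulVec, pt_neg_right, mulVec_neg, map_neg] at h1
    refine ⟨(-(1 / 2) : F) • lc f₁ t (y •ᵥ pt c d), ?_⟩
    rw [map_smul, LinearMap.sub_apply, LinearMap.id_apply, ← h1]
    match_scalars
    field_simp [P.two]
    ring
  · refine ⟨Submodule.span F {α, β}, ?_, fun c hc t => ?_⟩
    · refine (finrank_span_le_card _).trans ?_
      simp only [Set.toFinset_insert, Set.toFinset_singleton]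
      exact Finset.card_le_two
    rw [inv_inv] at hp hp'
    rcases hc with rfl | rfl
    · exact lc_mem_rowSub H hp t
    · exact lc_mem_rowSub H hp' t

variable (hq : 5 ≤ Nat.card F)
include hq

/-- An element moving a nondegenerate plane only maps it onto a pure plane. -/
lemma plane_pure {x : GL (Fin 2 × Fin b) F} (hx : x ∈ M) (hxx : x * x = 1) {α β : Fin b → F}
    (hδ : f₂ α β * f₂ α β - f₂ α α * f₂ β β ≠ 0) {κ : F} (hκ : κ ≠ 0) {u v : Fin 2 → F}
    (huv : f₁ u v = 1) (hvu : f₁ v u = -1)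
    (hfix : ∀ c s, f₂ s α = 0 → f₂ s β = 0 → x •ᵥ pt c s = pt c s)
    (hS : ∀ s, lc f₁ u (x •ᵥ pt u s) = κ • (f₂ s β • α - f₂ s α • β)) :
    ∃ μ : F, ∀ d ∈ Submodule.span F {α, β},
      lc f₁ v (x •ᵥ pt u d) = μ • lc f₁ u (x •ᵥ pt u d) := by
  classical
  have P := H.pair
  set δ := f₂ α β * f₂ α β - f₂ α α * f₂ β β with hδdef
  set k := κ * κ * δ with hk
  have hk0 : k ≠ 0 := mul_ne_zero (mul_ne_zero hκ hκ) hδ
  set D := Submodule.span F {α, β} with hD
  let S : (Fin b → F) →ₗ[F] (Fin b → F) := (lc f₁ u).comp ((Matrix.toLin' x.val).comp (ptL u))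
  let N : (Fin b → F) →ₗ[F] (Fin b → F) := (lc f₁ v).comp ((Matrix.toLin' x.val).comp (ptL u))
  have hSd : ∀ s, S s = κ • (f₂ s β • α - f₂ s α • β) := fun s => hS s
  have hSD : ∀ s, S s ∈ D := fun s => by
    rw [hSd]
    exact D.smul_mem _ (D.sub_mem (D.smul_mem _ (Submodule.subset_span (by simp)))
      (D.smul_mem _ (Submodule.subset_span (by simp))))
  have hSS : ∀ d ∈ D, S (S d) = k • d := fun d hd => by
    obtain ⟨l, l', rfl⟩ := Submodule.mem_span_pair.1 hd
    simp only [hSd, add_left₂ P, smul_left₂ P, sub_left₂ P, symm₂ P β α, hk, hδdef, map_sub, map_smul]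
    module
  have horth : ∀ d ∈ D, ∀ s, f₂ s α = 0 → f₂ s β = 0 → f₂ d s = 0 := fun d hd s h1 h2 => by
    obtain ⟨l, l', rfl⟩ := Submodule.mem_span_pair.1 hd
    simp only [add_left₂ P, smul_left₂ P, symm₂ P α s, symm₂ P β s, h1, h2]; ring
  have hmem : ∀ (t c : Fin 2 → F) (d : Fin b → F), d ∈ D → lc f₁ t (x •ᵥ pt c d) ∈ D := fun t c d hd =>
    mem_span_of_orth H hδ fun s h1 h2 => by
      rw [← B_lc P]
      conv_lhs => rw [← hfix t s h1 h2]
      rw [B_act H hx, P.B_pt, horth d hd s h1 h2, mul_zero]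
  obtain ⟨s₀, hs₀, hs₀α, hs₀β⟩ := exists_aniso_perp H hδ
  have hs₀D : ∀ d ∈ D, f₂ d s₀ = 0 := fun d hd => horth d hd s₀ hs₀α hs₀β
  have hxi : ∀ c, x •ᵥ pt c s₀ = pt c s₀ := fun c => hfix c s₀ hs₀α hs₀β
  have hline : ∀ d₀ ∈ D, ∃ m : F, N (S d₀) = m • d₀ := by
    intro d₀ hd₀
    rcases eq_or_ne d₀ 0 with rfl | hd₀0
    · exact ⟨0, by rw [map_zero, map_zero, smul_zero]⟩
    obtain ⟨l, hl0, hl⟩ : ∃ l : F, l ≠ 0 ∧ f₂ d₀ d₀ + l * l * f₂ s₀ s₀ ≠ 0 := by
      by_contra hcon
      push Not at hcon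
      have h1 := hcon 1 one_ne_zero
      have hsub : (Finset.univ : Finset F) ⊆ {0, 1, -1} := fun l _ => by
        simp only [Finset.mem_insert, Finset.mem_singleton]
        rcases eq_or_ne l 0 with h | h
        · exact Or.inl h
        · have h2 := hcon l h
          have h3 : (l - 1) * (l + 1) * f₂ s₀ s₀ = 0 := by linear_combination h2 - h1
          rcases mul_eq_zero.1 ((mul_eq_zero.1 h3).resolve_right hs₀) with h4 | h4
          · exact Or.inr (Or.inl (sub_eq_zero.1 h4))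
          · exact Or.inr (Or.inr (eq_neg_of_add_eq_zero_left h4))
      have h4 := (Finset.card_le_card hsub).trans Finset.card_le_three
      rw [Finset.card_univ, ← Nat.card_eq_fintype_card] at h4
      omega
    set d := d₀ + l • s₀ with hd
    have hdd : f₂ d d ≠ 0 := by
      simp only [hd, add_left₂ P, add_right₂ P, smul_left₂ P, smul_right₂ P, symm₂ P s₀ d₀,
        hs₀D d₀ hd₀]
      exact fun h => hl (by linear_combination h)
    set G := lc f₁ u (x •ᵥ pt v d₀) with hG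
    have hkey : ∀ c : F, c ≠ 0 → ∃ m : F, N G + c • N (S d₀) = m • d₀ := by
      intro c hc
      set e := kronGL (sTv f₁ u c) (1 : GL (Fin b) F)
      have he : e ∈ M := kron_left_mem H (sTv_mem_isoOf P.hf₁ u c)
      obtain ⟨E, hE, hcol⟩ := exists_plane H hno hb4 (M.mul_mem (M.mul_mem hx he) hx) huv hvu hdd
      have hyc : ∀ c', (x * e * x) •ᵥ pt c' d
          = pt c' d + c • x •ᵥ pt u (lc f₁ u (x •ᵥ pt c' d)) := fun c' => by
        rw [gl_mulVec_mul, gl_mulVec_mul, root_act P, mulVec_add, ← gl_mulVec_mul, hxx,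
          Units.val_one, one_mulVec, pt_smul_right, mulVec_smul]
      have h1 := hcol u (by simp) u
      have h2 := hcol u (by simp) v
      have h3 := hcol v (by simp) v
      have hu' : lc f₁ u (x •ᵥ pt u d) = S d₀ := by
        simp [hd, S, Matrix.toLin'_apply, pt_add_right, pt_smul_right, mulVec_add, mulVec_smul, hxi,
          lc_pt_self P]
      have hv' : lc f₁ u (x •ᵥ pt v d) = G - l • s₀ := by
        simp [hd, hG, pt_add_right, pt_smul_right, mulVec_add, mulVec_smul, hxi, lc_pt P, hvu,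
          sub_eq_add_neg]
      rw [hyc, hu', map_add, lc_pt_self P, zero_add, map_smul] at h1
      rw [hyc, hu', map_add, lc_pt P, huv, one_smul, map_smul] at h2
      rw [hyc, hv', map_add, lc_pt_self P, zero_add, map_smul] at h3
      change c • S (S d₀) ∈ E at h1
      change d + c • N (S d₀) ∈ E at h2
      change c • N (G - l • s₀) ∈ E at h3
      rw [hSS d₀ hd₀, smul_smul] at h1
      have hd₀E : d₀ ∈ E := by
        have := E.smul_mem (c * k)⁻¹ h1
        rwa [inv_smul_smul₀ (mul_ne_zero hc hk0)] at this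
      have hBE : l • s₀ + c • N (S d₀) ∈ E := by
        have := E.sub_mem h2 hd₀E
        rwa [hd, show d₀ + l • s₀ + c • N (S d₀) - d₀ = l • s₀ + c • N (S d₀) by abel] at this
      have hNs : N s₀ = s₀ := by simp [N, Matrix.toLin'_apply, hxi, lc_pt P, huv]
      have hCE : N G - l • s₀ ∈ E := by
        have := E.smul_mem c⁻¹ h3
        rwa [inv_smul_smul₀ hc, map_sub, map_smul, hNs] at this
      have hND : ∀ z ∈ D, f₂ (N z) s₀ = 0 := fun z hz => hs₀D _ (hmem v u z hz)
      have hne : l * f₂ s₀ s₀ ≠ 0 := mul_ne_zero hl0 hs₀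
      have hli : LinearIndependent F ![d₀, l • s₀ + c • N (S d₀)] := by
        refine LinearIndependent.pair_iff.2 fun a a' h => ?_
        have h' := congrArg (fun t => f₂ t s₀) h
        simp only [add_left₂ P, smul_left₂ P, hs₀D d₀ hd₀, hND _ (hSD d₀),
          form_zero_left P.hf₂.bilinear, mul_zero, add_zero, zero_add] at h'
        have ha' : a' = 0 := (mul_eq_zero.1 h').resolve_right hne
        rw [ha', zero_smul, add_zero, smul_eq_zero] at h
        exact ⟨h.resolve_right hd₀0, ha'⟩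
      have hEeq : Submodule.span F (Set.range ![d₀, l • s₀ + c • N (S d₀)]) = E :=
        Submodule.eq_of_le_of_finrank_le (Submodule.span_le.2 (by
          rw [Matrix.range_cons_cons_empty, Set.insert_subset_iff, Set.singleton_subset_iff]
          exact ⟨hd₀E, hBE⟩)) (by rw [finrank_span_eq_card hli, Fintype.card_fin]; exact hE)
      rw [← hEeq, Matrix.range_cons_cons_empty, Submodule.mem_span_pair] at hCE
      obtain ⟨a, a', h⟩ := hCE
      have h' := congrArg (fun t => f₂ t s₀) h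
      simp only [add_left₂ P, sub_left₂ P, smul_left₂ P, hs₀D d₀ hd₀, hND _ (hSD d₀),
        hND G (hmem u v d₀ hd₀), mul_zero, add_zero, zero_add] at h'
      have ha' : a' = -1 := by
        have : (a' + 1) * (l * f₂ s₀ s₀) = 0 := by linear_combination h'
        exact eq_neg_of_add_eq_zero_left ((mul_eq_zero.1 this).resolve_right hne)
      subst ha'
      exact ⟨a, by linear_combination (norm := module) -h⟩
    obtain ⟨m, hm⟩ := hkey 1 one_ne_zero
    obtain ⟨m', hm'⟩ := hkey (-1) (neg_ne_zero.2 one_ne_zero)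
    refine ⟨(m - m') / 2, ?_⟩
    have h3 : (2 : F) • N (S d₀) = (m - m') • d₀ := by linear_combination (norm := module) hm - hm'
    rw [div_eq_inv_mul, mul_smul, ← h3, inv_smul_smul₀ P.two]
  have hαD : α ∈ D := Submodule.subset_span (by simp)
  have hβD : β ∈ D := Submodule.subset_span (by simp)
  obtain ⟨ma, hma⟩ := hline α hαD
  obtain ⟨mb, hmb⟩ := hline β hβD
  obtain ⟨ms, hms⟩ := hline (α + β) (D.add_mem hαD hβD)
  rw [map_add, map_add, hma, hmb] at hms
  have hli : ∀ a a' : F, a • α + a' • β = 0 → a = 0 ∧ a' = 0 := fun a a' h0 => by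
    have h1 := congrArg (fun y => f₂ y α) h0
    have h2 := congrArg (fun y => f₂ y β) h0
    simp only [add_left₂ P, smul_left₂ P, symm₂ P β α, form_zero_left P.hf₂.bilinear] at h1 h2
    constructor
    · refine (mul_eq_zero.1 (?_ : a * δ = 0)).resolve_right hδ
      rw [hδdef]; linear_combination (f₂ α β) * h2 - (f₂ β β) * h1
    · refine (mul_eq_zero.1 (?_ : a' * δ = 0)).resolve_right hδ
      rw [hδdef]; linear_combination (f₂ α β) * h1 - (f₂ α α) * h2
  obtain ⟨e1, e2⟩ := hli (ma - ms) (mb - ms) (by linear_combination (norm := module) hms)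
  rw [sub_eq_zero] at e1 e2
  rw [← e2] at e1
  rw [← e1] at hmb
  refine ⟨ma / k, fun d hd => ?_⟩
  show N d = _ • S d
  obtain ⟨a, a', hdl⟩ := Submodule.mem_span_pair.1 (hSD d)
  have h1 : N (S (S d)) = ma • S d := by
    rw [← hdl, map_add, map_add, map_smul, map_smul, map_smul, map_smul, hma, hmb]; module
  rw [hSS d hd, map_smul] at h1
  rw [div_eq_inv_mul, mul_smul, ← h1, inv_smul_smul₀ hk0]

/-- No conjugate reflection moves a nondegenerate plane only. -/
lemma not_plane {x : GL (Fin 2 × Fin b) F} (hx : x ∈ M) (hxx : x * x = 1) {α β : Fin b → F}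
    (hδ : f₂ α β * f₂ α β - f₂ α α * f₂ β β ≠ 0) {κ : F} (hκ : κ ≠ 0) {u v : Fin 2 → F}
    (huv : f₁ u v = 1) (hvu : f₁ v u = -1)
    (hfix : ∀ c s, f₂ s α = 0 → f₂ s β = 0 → x •ᵥ pt c s = pt c s)
    (hS : ∀ s, lc f₁ u (x •ᵥ pt u s) = κ • (f₂ s β • α - f₂ s α • β)) : False := by
  classical
  have P := H.pair
  obtain ⟨μ, hμ⟩ := plane_pure H hno hb4 hq hx hxx hδ hκ huv hvu hfix hS
  set δ := f₂ α β * f₂ α β - f₂ α α * f₂ β β with hδdef
  set k := κ * κ * δ with hk
  have hk0 : k ≠ 0 := mul_ne_zero (mul_ne_zero hκ hκ) hδ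
  set D := Submodule.span F {α, β} with hD
  have hαD : α ∈ D := Submodule.subset_span (by simp)
  have hβD : β ∈ D := Submodule.subset_span (by simp)
  obtain ⟨s₀, hs₀, hs₀α, hs₀β⟩ := exists_aniso_perp H hδ
  -- a vector of a chosen length in the plane
  obtain ⟨ρ, hρ0, hρ1, hρ2⟩ : ∃ ρ : F, ρ ≠ 0 ∧ ρ ≠ f₂ s₀ s₀ ∧ ρ ≠ -f₂ s₀ s₀ := by
    by_contra hcon
    push Not at hcon
    have hsub : (Finset.univ : Finset F) ⊆ {0, f₂ s₀ s₀, -f₂ s₀ s₀} := fun l _ => by
      simp only [Finset.mem_insert, Finset.mem_singleton]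
      by_cases h : l = 0
      · exact Or.inl h
      by_cases h' : l = f₂ s₀ s₀
      · exact Or.inr (Or.inl h')
      exact Or.inr (Or.inr (hcon l h h'))
    have h4 := (Finset.card_le_card hsub).trans Finset.card_le_three
    rw [Finset.card_univ, ← Nat.card_eq_fintype_card] at h4
    omega
  obtain ⟨w₁, hw₁D, hw₁, w₂, hw₂D, hw₂, hw₁₂⟩ : ∃ w₁ ∈ D, f₂ w₁ w₁ ≠ 0 ∧
      ∃ w₂ ∈ D, f₂ w₂ w₂ ≠ 0 ∧ f₂ w₁ w₂ = 0 := by
    have key : ∀ p ∈ D, ∀ q ∈ D, f₂ p p ≠ 0 → f₂ p q * f₂ p q - f₂ p p * f₂ q q ≠ 0 →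
        ∃ w₁ ∈ D, f₂ w₁ w₁ ≠ 0 ∧ ∃ w₂ ∈ D, f₂ w₂ w₂ ≠ 0 ∧ f₂ w₁ w₂ = 0 := by
      intro p hp q hq hpp hpq
      refine ⟨p, hp, hpp, f₂ p q • p - f₂ p p • q, D.sub_mem (D.smul_mem _ hp) (D.smul_mem _ hq), ?_, ?_⟩
      · simp only [sub_left₂ P, sub_right₂ P, smul_left₂ P, smul_right₂ P, symm₂ P q p]
        exact fun h => mul_ne_zero hpp hpq (by linear_combination -h)
      · simp only [sub_right₂ P, smul_right₂ P]; ring
    by_cases h1 : f₂ α α ≠ 0
    · exact key α hαD β hβD h1 hδ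
    by_cases h2 : f₂ β β ≠ 0
    · refine key β hβD α hαD h2 ?_
      rw [symm₂ P β α, mul_comm (f₂ β β)]; exact hδ
    push Not at h1 h2
    refine key (α + β) (D.add_mem hαD hβD) α hαD ?_ ?_
    · simp only [add_left₂ P, add_right₂ P, symm₂ P β α, h1, h2]
      intro h
      exact hδ (by rw [hδdef, h1, (mul_eq_zero.1 (by linear_combination h : (2 : F) * f₂ α β = 0)).resolve_left P.two]; ring)
    · simp only [add_left₂ P, add_right₂ P, symm₂ P β α, h1, h2]
      intro h
      exact hδ (by rw [hδdef, h1]; linear_combination h)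
  obtain ⟨a₁, a₂, ha⟩ := exists_two_sq P hw₁ hw₂ (-ρ)
  set d₀ := a₁ • w₁ + a₂ • w₂ with hd₀
  have hd₀D : d₀ ∈ D := D.add_mem (D.smul_mem _ hw₁D) (D.smul_mem _ hw₂D)
  have hq₀ : f₂ d₀ d₀ = ρ := by
    simp only [hd₀, add_left₂ P, add_right₂ P, smul_left₂ P, smul_right₂ P, symm₂ P w₂ w₁, hw₁₂]
    linear_combination ha
  have hd₀s : f₂ d₀ s₀ = 0 := by
    obtain ⟨l, l', hl⟩ := Submodule.mem_span_pair.1 hd₀D
    simp only [← hl, add_left₂ P, smul_left₂ P, symm₂ P α s₀, symm₂ P β s₀, hs₀α, hs₀β]; ring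
  set d := d₀ + s₀ with hd
  have hdd : f₂ d d = ρ + f₂ s₀ s₀ := by
    simp only [hd, add_left₂ P, add_right₂ P, symm₂ P s₀ d₀, hd₀s, hq₀]; ring
  have hdd0 : f₂ d d ≠ 0 := fun h => hρ2 (by linear_combination h - hdd)
  obtain ⟨r, hr, hrr, hrx⟩ := exists_refl P hdd0
  set θ := 2 * ρ / f₂ d d with hθ
  have hθ0 : θ ≠ 0 := div_ne_zero (mul_ne_zero P.two hρ0) hdd0
  have hrd₀ : r •ᵥ d₀ = (1 - θ) • d₀ - θ • s₀ := by
    rw [hrx, show f₂ d₀ d = ρ by simp only [hd, add_right₂ P, hq₀, hd₀s, add_zero], ← hθ, hd]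
    module
  set t := lc f₁ u (x •ᵥ pt u d₀) with ht
  have htD : t ∈ D := by
    rw [ht, hS]
    exact D.smul_mem _ (D.sub_mem (D.smul_mem _ hαD) (D.smul_mem _ hβD))
  have htt : lc f₁ u (x •ᵥ pt u t) = k • d₀ := by
    rw [hS, ht, hS]
    obtain ⟨l, l', hl⟩ := Submodule.mem_span_pair.1 hd₀D
    simp only [← hl, add_left₂ P, smul_left₂ P, sub_left₂ P, symm₂ P β α, hk, hδdef]
    module
  have hxxv : ∀ z, x •ᵥ (x •ᵥ z) = z := fun z => by
    rw [← gl_mulVec_mul, hxx, Units.val_one, one_mulVec]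
  set u' := μ • u - v with hu'
  have hxt : x •ᵥ pt u t = k • pt u' d₀ := by
    rw [expand_pt H huv hvu (x •ᵥ pt u t), hμ t htD, htt, hu', pt_sub_left, pt_smul_left]
    simp only [pt_smul_right]
    module
  have hxu' : x •ᵥ pt u' d₀ = k⁻¹ • pt u t := by
    refine gl_mulVec_injective x ?_
    show _ *ᵥ _ = _ *ᵥ _
    rw [hxxv, mulVec_smul, hxt, inv_smul_smul₀ hk0]
  set h := kronGL (1 : GL (Fin 2) F) r with hh
  have hx1t : (x⁻¹ * h * x) •ᵥ pt u t = (1 - θ) • pt u t - (k * θ) • pt u' s₀ := by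
    rw [inv_eq_of_mul_eq_one_right hxx, gl_mulVec_mul, gl_mulVec_mul, hxt, hh, mulVec_smul, kronGL_pt,
      Units.val_one, one_mulVec, hrd₀, pt_sub_right, pt_smul_right, pt_smul_right]
    simp only [mulVec_smul, mulVec_sub, hxu', hfix _ _ hs₀α hs₀β]
    rw [smul_sub, smul_comm k (1 - θ), smul_inv_smul₀ hk0, smul_smul]
  have hu'u : f₁ u' u = 1 := by
    simp [hu', form_sub_left P.hf₁.bilinear, P.hf₁.bilinear.smul_left, P.hf₁.alternating, hvu]
  have hu'v : f₁ u' v = μ := by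
    simp [hu', form_sub_left P.hf₁.bilinear, P.hf₁.bilinear.smul_left, P.hf₁.alternating, huv]
  have hS1 : lc f₁ u ((x⁻¹ * h * x) •ᵥ pt u t) = -((k * θ) • s₀) := by
    rw [hx1t, map_sub, map_smul, map_smul, lc_pt_self P, lc_pt P, hu'u, one_smul, smul_zero, zero_sub]
  rcases conj_refl_cases H hno hb4 hx hdd0 hr hrr hrx huv hvu with
    hH | ⟨α₁, β₁, κ₁, hκ₁, hδ₁, hfix₁, hS₁, hα₁, -, -⟩
  · obtain ⟨T, hT, -⟩ := right_of_conj H hrx hH
    rw [hh, hT, lc_pt_self P, eq_comm, neg_eq_zero, smul_eq_zero] at hS1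
    exact hs₀ (by rw [hS1.resolve_left (mul_ne_zero hk0 hθ0), form_zero_left P.hf₂.bilinear])
  have hhh : h * h = 1 := by rw [hh, kronGL_mul, hrr, one_mul, kronGL_one]
  have hxM₁ : x⁻¹ * h * x ∈ M :=
    M.mul_mem (M.mul_mem (M.inv_mem hx) (kron_right_mem H hr)) hx
  obtain ⟨μ₁, hμ₁⟩ := plane_pure H hno hb4 hq hxM₁
    (by rw [show x⁻¹ * h * x * (x⁻¹ * h * x) = x⁻¹ * (h * h) * x by group, hhh]; group)
    hδ₁ hκ₁ huv hvu hfix₁ hS₁
  have htα : α₁ = t := by
    rw [hα₁, inv_eq_of_mul_eq_one_right hxx, ht, hd, pt_add_right, mulVec_add, map_add,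
      hfix _ _ hs₀α hs₀β, lc_pt_self P, add_zero]
  have h1 := hμ₁ t (htα ▸ Submodule.subset_span (by simp))
  rw [hS1, hx1t, map_sub, map_smul, map_smul, lc_pt P, lc_pt P, huv, hu'v, one_smul] at h1
  have hts : f₂ t s₀ = 0 := by
    obtain ⟨l, l', hl⟩ := Submodule.mem_span_pair.1 htD
    simp only [← hl, add_left₂ P, smul_left₂ P, symm₂ P α s₀, symm₂ P β s₀, hs₀α, hs₀β]; ring
  have hθ1 : θ ≠ 1 := fun h => by
    rw [hθ, div_eq_one_iff_eq hdd0, hdd] at h
    exact hρ1 (by linear_combination h)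
  have h2 : t = 0 := by
    have e := congrArg (fun z => f₂ z s₀) h1
    simp only [sub_left₂ P, smul_left₂ P, hts, ← neg_smul, mul_zero, zero_sub] at e
    have e' : μ₁ * (k * θ) = μ * (k * θ) := by
      refine mul_right_cancel₀ hs₀ ?_
      linear_combination e
    have e3 : (1 - θ) • t = 0 := by
      linear_combination (norm := module) h1 + congrArg (fun c : F => -(c • s₀)) e'
    exact (smul_eq_zero.1 e3).resolve_left (sub_ne_zero.2 (Ne.symm hθ1))
  rw [h2, pt_zero_right, mulVec_zero, eq_comm, smul_eq_zero, or_iff_right hk0] at hxt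
  have hd₀0 : d₀ ≠ 0 := fun h => hρ0 (by rw [← hq₀, h, form_zero_left P.hf₂.bilinear])
  exact pt_ne_zero (fun h => one_ne_zero (hu'u.symm.trans (by rw [h, form_zero_left P.hf₁.bilinear])))
    hd₀0 hxt

/-- A conjugate reflection is a tensor. -/
lemma inH_conj_refl' {g : GL (Fin 2 × Fin b) F} (hg : g ∈ M) {w : Fin b → F}
    (hw : f₂ w w ≠ 0) {r : GL (Fin b) F} (hr : r ∈ isoOf f₂) (hrr : r * r = 1)
    (hrx : ∀ y, r •ᵥ y = y - (2 * f₂ y w / f₂ w w) • w) :
    InH (g⁻¹ * kronGL 1 r * g) := by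
  have P := H.pair
  obtain ⟨v, huv, hvu⟩ := exists_partner P.hf₁ (u := Pi.single 0 1) (by simp)
  refine (conj_refl_cases H hno hb4 hg hw hr hrr hrx huv hvu).elim id ?_
  rintro ⟨α, β, κ, hκ, hδ, hfix, hS, -, -, -⟩
  set x := g⁻¹ * kronGL 1 r * g
  have hxx : x * x = 1 := by
    simp only [x]
    rw [show g⁻¹ * kronGL 1 r * g * (g⁻¹ * kronGL 1 r * g) = g⁻¹ * (kronGL 1 r * kronGL 1 r) * g by
      group, kronGL_mul, hrr, one_mul, kronGL_one]
    group
  exact (not_plane H hno hb4 hq (M.mul_mem (M.mul_mem (M.inv_mem hg) (kron_right_mem H hr)) hg) hxx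
    hδ hκ huv hvu hfix hS).elim

end Plane

/-- A conjugate reflection is a tensor. -/
lemma inH_conj_refl (hb4 : b ≠ 4) (hbq : 5 ≤ b ∨ 5 ≤ Nat.card F) {g : GL (Fin 2 × Fin b) F}
    (hg : g ∈ M) {w : Fin b → F}
    (hw : f₂ w w ≠ 0) {r : GL (Fin b) F} (hr : r ∈ isoOf f₂) (hrr : r * r = 1)
    (hrx : ∀ y, r •ᵥ y = y - (2 * f₂ y w / f₂ w w) • w) :
    InH (g⁻¹ * kronGL 1 r * g) := by
  rcases hbq with hb | hq
  · obtain ⟨v, huv, hvu⟩ := exists_partner H.pair.hf₁ (u := Pi.single 0 1) (by simp)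
    refine (conj_refl_cases H hno hb4 hg hw hr hrr hrx huv hvu).elim id ?_
    rintro ⟨α, β, κ, -, hδ, hfix, -, -, -, -⟩
    exact inH_of_support H hno
      (M.mul_mem (M.mul_mem (M.inv_mem hg) (kron_right_mem H hr)) hg) hδ hb hfix
  · exact inH_conj_refl' H hno hb4 hq hg hw hr hrr hrx

omit hno [Fintype F] in
/-- An anisotropic vector orthogonal to an orthogonal pair. -/
lemma exists_aniso_orth {w w' : Fin b → F} (hw : f₂ w w ≠ 0) (hw' : f₂ w' w' ≠ 0)
    (hww : f₂ w w' = 0) : ∃ y, f₂ y y ≠ 0 ∧ f₂ y w = 0 ∧ f₂ y w' = 0 := by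
  have P := H.pair
  obtain ⟨z, hz, hzw, hzw'⟩ := exists_orth₂ P w w'
  by_cases hzz : f₂ z z = 0
  swap
  · exact ⟨z, hzz, hzw, hzw'⟩
  obtain ⟨x, hx⟩ := (P.hf₂.nondegenerate z hz).1
  set x' := x - (f₂ x w / f₂ w w) • w - (f₂ x w' / f₂ w' w') • w' with hx'
  have h1 : f₂ x' w = 0 := by
    simp only [hx', sub_left₂ P, smul_left₂ P, symm₂ P w' w, hww]
    field_simp
    ring
  have h2 : f₂ x' w' = 0 := by
    simp only [hx', sub_left₂ P, smul_left₂ P, hww]
    field_simp
    ring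
  have h3 : f₂ x' z = f₂ x z := by
    simp only [hx', sub_left₂ P, smul_left₂ P, symm₂ P w z, symm₂ P w' z, hzw, hzw']
    ring
  by_cases hxx : f₂ x' x' = 0
  · refine ⟨x' + z, ?_, by rw [add_left₂ P, h1, hzw, add_zero], by rw [add_left₂ P, h2, hzw', add_zero]⟩
    rw [add_left₂ P, add_right₂ P, add_right₂ P, hzz, hxx, symm₂ P z x', h3]
    intro h0
    refine mul_ne_zero P.two hx ?_
    linear_combination h0
  · exact ⟨x', hxx, h1, h2⟩

/-- Every element above the stabiliser is a tensor. -/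
theorem inH_of_two (hb4 : b ≠ 4) (hbq : 5 ≤ b ∨ 5 ≤ Nat.card F) {g : GL (Fin 2 × Fin b) F} (hg : g ∈ M) : InH g := by
  classical
  have P := H.pair
  obtain ⟨u, hu⟩ : ∃ u : Fin 2 → F, u ≠ 0 := ⟨Pi.single 0 1, by simp⟩
  obtain ⟨v, huv, hvu⟩ := exists_partner P.hf₁ hu
  set k := g * rt f₁ u * g⁻¹ with hk
  have hcomm : ∀ w, f₂ w w ≠ 0 → ∃ r : GL (Fin b) F,
      (∀ y, r •ᵥ y = y - (2 * f₂ y w / f₂ w w) • w) ∧
        kronGL (1 : GL (Fin 2) F) r * k = k * kronGL 1 r := by
    intro w hw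
    obtain ⟨r, hr, hrr, hrx⟩ := exists_refl P hw
    refine ⟨r, hrx, ?_⟩
    set h := kronGL (1 : GL (Fin 2) F) r with hh
    obtain ⟨A, C, hxAC⟩ := inH_conj_refl H hno hb4 hbq hg hw hr hrr hrx
    rw [← hh] at hxAC
    let Z : Submodule F (Fin 2 × Fin b → F) := LinearMap.range ((act g⁻¹).comp (ptR w))
    have hxz : ∀ z, kronGL A C •ᵥ z - z ∈ Z := fun z => by
      refine ⟨(-2 / f₂ w w) • cv f₂ w (g •ᵥ z), ?_⟩
      have h2 := linear_ext (f := (act h - 1 : Module.End F (Fin 2 × Fin b → F)))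
        (g := (ptR w).comp ((-2 / f₂ w w) • cv f₂ w)) fun x y => by
          simp only [hh, LinearMap.sub_apply, Module.End.one_apply, act_apply, kronGL_pt, hrx,
            LinearMap.comp_apply, LinearMap.smul_apply, cv_pt P, Units.val_one, one_mulVec,
            pt_sub_right, sub_sub_cancel_left, ptR_apply, pt_smul_left, pt_smul_right, smul_smul,
            ← neg_smul]
          congr 1
          ring
      have h3 := LinearMap.congr_fun h2 (g •ᵥ z)
      simp only [LinearMap.comp_apply, LinearMap.smul_apply, LinearMap.sub_apply,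
        Module.End.one_apply, act_apply] at h3
      rw [LinearMap.comp_apply, act_apply, ← h3, ← hxAC, gl_mulVec_mul, gl_mulVec_mul, mulVec_sub,
        gl_inv_mulVec_mulVec]
    have hsl : TensorSL.Hyp (M := specialLinear (Fin 2 × Fin b) F) := by
      refine ⟨le_rfl, by have := P.three_le; omega, fun g hg => ?_, fun A B h => ?_⟩
      · simpa [specialLinear, MonoidHom.mem_ker, Units.ext_iff] using hg
      · simpa [specialLinear, MonoidHom.mem_ker, Units.ext_iff] using h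
    obtain ⟨c, hc⟩ := TensorSL.exists_scalar hsl
      (((LinearMap.finrank_range_le _).trans (by rw [finrank_fin_fun]) : finrank F Z ≤ 2)) hxz
    have hc' : g⁻¹ * h * g * rt f₁ u = rt f₁ u * (g⁻¹ * h * g) := by
      rw [hxAC, rt]
      refine gl_ext_pt fun x y => ?_
      rw [gl_mulVec_mul, gl_mulVec_mul]
      simp [kronGL_pt, hc, mulVec_smul]
    calc h * k = g * (g⁻¹ * h * g * rt f₁ u) * g⁻¹ := by rw [hk]; group
      _ = g * (rt f₁ u * (g⁻¹ * h * g)) * g⁻¹ := by rw [hc']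
      _ = k * h := by rw [hk]; group
  -- the action on each anisotropic column
  let Aw : (Fin b → F) → (Fin 2 → F) →ₗ[F] (Fin 2 → F) := fun w =>
    (cv f₂ ((f₂ w w)⁻¹ • w)).comp ((Matrix.toLin' k.val).comp (ptR w))
  have hAw : ∀ w, f₂ w w ≠ 0 → ∀ c, k •ᵥ pt c w = pt (Aw w c) w := by
    intro w hw c
    obtain ⟨r, hrx, hrk⟩ := hcomm w hw
    have hrw : r •ᵥ w = -w := by
      rw [hrx, mul_div_assoc, div_self hw, mul_one, two_smul]; abel
    have h1 := congrArg (fun t : GL (Fin 2 × Fin b) F => t •ᵥ pt c w) hrk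
    simp only [gl_mulVec_mul, kronGL_pt, Units.val_one, one_mulVec, hrw, pt_neg_right, mulVec_neg] at h1
    refine ext_B P fun t s => ?_
    have h2 : B (k •ᵥ pt c w) (pt t (r •ᵥ s)) = -B (k •ᵥ pt c w) (pt t s) := by
      have h3 := kron_iso P (one_mem (isoOf f₁)) (C := r) (mem_isoOf.2 fun y y' => by
        rw [hrx, hrx, sub_left₂ P, sub_right₂ P, sub_right₂ P, smul_left₂ P, smul_left₂ P,
          smul_right₂ P, smul_right₂ P, symm₂ P w y']
        field_simp
        ring)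
      have h4 := mem_isoOf.1 h3 (k •ᵥ pt c w) (pt t s)
      rw [h1, kronGL_pt, Units.val_one, one_mulVec, ← neg_one_smul F (k •ᵥ pt c w),
        P.hB.bilinear.smul_left] at h4
      linear_combination -h4
    rw [hrx, pt_sub_right, pt_smul_right, form_sub_right P.hB.bilinear, P.hB.bilinear.smul_right] at h2
    simp only [Aw, LinearMap.comp_apply, Matrix.toLin'_apply, ptR_apply, P.B_pt, cv_smul P,
      P.hf₁.bilinear.smul_left]
    rw [← B_cv P, symm₂ P w s]
    have := P.two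
    field_simp at h2 ⊢
    refine mul_left_cancel₀ P.two ?_
    linear_combination h2
  have hstep : ∀ w w', f₂ w w ≠ 0 → f₂ w' w' ≠ 0 → f₂ w' w ≠ 0 → ∀ c, Aw w' c = Aw w c := by
    intro w w' hw hw' hne c
    obtain ⟨r, hrx, hrk⟩ := hcomm w hw
    have h1 := congrArg (fun t : GL (Fin 2 × Fin b) F => t •ᵥ pt c w') hrk
    simp only [gl_mulVec_mul, kronGL_pt, Units.val_one, one_mulVec, hAw w' hw', hrx, pt_sub_right,
      pt_smul_right, mulVec_sub, mulVec_smul, hAw w hw] at h1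
    have h2 := sub_right_injective h1
    have h0 : w ≠ 0 := fun h0 => hw (by rw [h0, form_zero_left P.hf₂.bilinear])
    exact ptR_injective h0 (smul_right_injective _
      (div_ne_zero (mul_ne_zero P.two hne) hw) h2)
  have hall : ∀ w w', f₂ w w ≠ 0 → f₂ w' w' ≠ 0 → ∀ c, Aw w' c = Aw w c := by
    intro w w' hw hw' c
    by_cases hww : f₂ w w' = 0
    swap
    · exact hstep w w' hw hw' (by rwa [symm₂ P]) c
    obtain ⟨y, hy, hyw, hyw'⟩ := exists_aniso_orth H hw hw' hww
    by_cases hsum : f₂ w w + f₂ w' w' = 0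
    · set z := w + w' + y with hz
      have e1 : f₂ z z = f₂ y y := by
        simp only [hz, add_left₂ P, add_right₂ P, symm₂ P w' w, symm₂ P w y, symm₂ P w' y, hww, hyw,
          hyw']
        linear_combination hsum
      have e2 : f₂ z w = f₂ w w := by
        simp only [hz, add_left₂ P, symm₂ P w' w, hww, hyw]; ring
      have e3 : f₂ w' z = f₂ w' w' := by
        simp only [hz, add_right₂ P, symm₂ P w' w, symm₂ P w' y, hww, hyw']; ring
      rw [hstep z w' (e1 ▸ hy) hw' (by rw [e3]; exact hw') c,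
        hstep w z hw (e1 ▸ hy) (by rw [e2]; exact hw) c]
    · set z := w + w' with hz
      have e1 : f₂ z z = f₂ w w + f₂ w' w' := by
        simp only [hz, add_left₂ P, add_right₂ P, symm₂ P w' w, hww]; ring
      have e2 : f₂ z w = f₂ w w := by
        simp only [hz, add_left₂ P, symm₂ P w' w, hww]; ring
      have e3 : f₂ w' z = f₂ w' w' := by
        simp only [hz, add_right₂ P, symm₂ P w' w, hww]; ring
      rw [hstep z w' (e1 ▸ hsum) hw' (by rw [e3]; exact hw') c,
        hstep w z hw (e1 ▸ hsum) (by rw [e2]; exact hw) c]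
  obtain ⟨w₀, hw₀, -⟩ := exists_aniso P
    (z := (Pi.single ⟨0, by have := P.three_le; omega⟩ 1 : Fin b → F)) (by simp)
  have hk1 : ∀ c w, k •ᵥ pt c w = pt (Aw w₀ c) w := by
    intro c w
    refine sub_eq_zero.1 ?_
    have hu0 := zero_of_aniso P
      (N := (lc f₁ u).comp ((Matrix.toLin' k.val).comp (ptL c) - ptL (Aw w₀ c))) (fun y hy => by
        simp [Matrix.toLin'_apply, hAw y hy, hall w₀ y hw₀ hy]) w
    have hv0 := zero_of_aniso P
      (N := (lc f₁ v).comp ((Matrix.toLin' k.val).comp (ptL c) - ptL (Aw w₀ c))) (fun y hy => by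
        simp [Matrix.toLin'_apply, hAw y hy, hall w₀ y hw₀ hy]) w
    simp only [LinearMap.comp_apply, LinearMap.sub_apply, Matrix.toLin'_apply, ptL_apply] at hu0 hv0
    refine ext_B P fun t s => ?_
    rw [B_lc P, form_zero_left P.hB.bilinear, expand_two H huv hvu t, sub_eq_add_neg, ← neg_smul,
      lc_add P, lc_smul P, lc_smul P, hu0, hv0]
    simp [form_zero_left P.hf₂.bilinear]
  let A₀ := Aw w₀
  have hinj : Function.Injective A₀ := fun c c' h => by
    have hne : w₀ ≠ 0 := fun h0 => hw₀ (by rw [h0, form_zero_left P.hf₂.bilinear])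
    refine ptR_injective hne (gl_mulVec_injective k ?_)
    show k •ᵥ pt c w₀ = k •ᵥ pt c' w₀
    rw [hk1, hk1, show Aw w₀ c = Aw w₀ c' from h]
  have hAu : IsUnit (LinearMap.toMatrix' A₀) := Matrix.mulVec_injective_iff_isUnit.1 fun y y' h =>
    hinj (by rwa [LinearMap.toMatrix'_mulVec, LinearMap.toMatrix'_mulVec] at h)
  refine inH_of_rootA H hno hg hu (A := hAu.unit) (gl_ext_pt fun c w => ?_)
  rw [← hk, hk1, kronGL_pt, IsUnit.unit_spec, LinearMap.toMatrix'_mulVec, Units.val_one, one_mulVec]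

end CfsgLib.ClassicalMax.STens
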