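/-
Tensor products of two symplectic forms: contractions, pairings and long root elements.
-/
import Cfsg.Agent.Lib.ClassicalMax.KronTools
import Cfsg.Agent.Lib.ClassicalMax.SympShort
import Cfsg.Agent.Lib.ClassicalMax.OrthNondeg
import Cfsg.Agent.Lib.ClassicalMax.TensorSL
set_option autoImplicit false
set_option linter.unusedSectionVars false

namespace CfsgLib.ClassicalMax.TensorSymp

open Matrix Kronecker Module Cfsg.Geo QuadraticMap
open CfsgLib.ClassicalMax.Kron
open CfsgLib.Classical.Quad (NDPolar Frame)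

variable {F : Type*} [Field F] [DecidableEq F] {a b : ℕ}

/-- The embedding of the second factor at a vector of the first. -/
def ptL (u : Fin a → F) : (Fin b → F) →ₗ[F] (Fin a × Fin b → F) where
  toFun w := pt u w
  map_add' := pt_add_right u
  map_smul' c w := pt_smul_right c u w

@[simp] lemma ptL_apply (u : Fin a → F) (w : Fin b → F) : ptL u w = pt u w := rfl

lemma pt_neg_left (x : Fin a → F) (w : Fin b → F) : pt (-x) w = -pt x w :=
  funext fun _ => neg_mul _ _

lemma pt_neg_right (x : Fin a → F) (w : Fin b → F) : pt x (-w) = -pt x w :=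
  funext fun _ => mul_neg _ _

lemma pt_sub_left (x y : Fin a → F) (w : Fin b → F) : pt (x - y) w = pt x w - pt y w :=
  funext fun _ => sub_mul _ _ _

/-- The separation of a vector from a subspace by a symplectic form. -/
lemma exists_form_sep {k : ℕ} {f : (Fin k → F) → (Fin k → F) → F} (hf : IsSymplecticForm f)
    {S : Submodule F (Fin k → F)} {w : Fin k → F} (hw : w ∉ S) :
    ∃ z, (∀ x ∈ S, f x z = 0) ∧ f w z = 1 := by
  obtain ⟨φ, hφ, hφm⟩ := Submodule.exists_dual_map_eq_bot_of_notMem hw inferInstance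
  obtain ⟨z, hz⟩ := exists_form_eq hf.bilinear hf.nondegenerate φ
  refine ⟨(φ w)⁻¹ • z, fun x hx => ?_, ?_⟩
  · rw [hf.bilinear.smul_right, hz, show φ x = 0 from
      (Submodule.mem_bot F).1 (hφm ▸ Submodule.mem_map_of_mem hx), mul_zero]
  · rw [hf.bilinear.smul_right, hz, inv_mul_cancel₀ hφ]

/-- Two vectors with equal pairings are equal. -/
lemma form_ext {k : ℕ} {f : (Fin k → F) → (Fin k → F) → F} (hf : IsSymplecticForm f)
    {s t : Fin k → F} (h : ∀ x, f s x = f t x) : s = t :=
  sub_eq_zero.1 (eq_zero_of_form_left hf.nondegenerate fun x => by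
    rw [form_sub_left hf.bilinear, h, sub_self])

/-- A partner in a hyperbolic pair. -/
lemma exists_partner {k : ℕ} {f : (Fin k → F) → (Fin k → F) → F} (hf : IsSymplecticForm f)
    {v : Fin k → F} (hv : v ≠ 0) : ∃ v', f v' v = 1 ∧ f v v' = -1 := by
  obtain ⟨x, hx⟩ := (hf.nondegenerate v hv).1
  have h1 : f ((f x v)⁻¹ • x) v = 1 := by rw [hf.bilinear.smul_left, inv_mul_cancel₀ hx]
  exact ⟨(f x v)⁻¹ • x, h1, by rw [hf.skew, h1]⟩

/-- Symplectic forms on the factors and the quadratic form of the product. -/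
structure Pair (Q : QuadraticForm F (Fin a × Fin b → F)) (f₁ : (Fin a → F) → (Fin a → F) → F)
    (f₂ : (Fin b → F) → (Fin b → F) → F) : Prop where
  hf₁ : IsSymplecticForm f₁
  hf₂ : IsSymplecticForm f₂
  polar_pt : ∀ x x' w w', polar Q (pt x w) (pt x' w') = f₁ x x' * f₂ w w'
  Q_pt : ∀ x w, Q (pt x w) = 0
  two_le : 2 ≤ a
  lt : a < b
  gap : a + 2 ≤ b
  five_le : 5 ≤ b

/-- Contraction against a vector of the second factor. -/
def cv (f₂ : (Fin b → F) → (Fin b → F) → F) (v : Fin b → F) :
    (Fin a × Fin b → F) →ₗ[F] (Fin a → F) := con (formDual f₂ v)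

lemma contraction_comm (η : Fin a → F) (φ : Fin b → F) (z : Fin a × Fin b → F) :
    η ⬝ᵥ con φ z = φ ⬝ᵥ TensorSL.lcon η z := by
  rw [← dot_con, TensorSL.dot_lcon]

variable {Q : QuadraticForm F (Fin a × Fin b → F)} {f₁ : (Fin a → F) → (Fin a → F) → F}
  {f₂ : (Fin b → F) → (Fin b → F) → F} (P : Pair Q f₁ f₂)
include P

lemma cv_pt (v : Fin b → F) (x : Fin a → F) (w : Fin b → F) :
    cv f₂ v (pt x w) = f₂ w v • x := by
  rw [cv, con_pt, formDual_dot P.hf₂.bilinear]

lemma cv_add_vec (v w : Fin b → F) (z : Fin a × Fin b → F) :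
    cv f₂ (v + w) z = cv f₂ v z + cv f₂ w z := by
  funext i
  simp only [cv, con, LinearMap.coe_mk, AddHom.coe_mk, Pi.add_apply]
  rw [formDual_add P.hf₂.bilinear, add_dotProduct]

lemma cv_smul_vec (c : F) (v : Fin b → F) (z : Fin a × Fin b → F) :
    cv f₂ (c • v) z = c • cv f₂ v z := by
  funext i
  simp only [cv, con, LinearMap.coe_mk, AddHom.coe_mk, Pi.smul_apply]
  rw [formDual_smul P.hf₂.bilinear, smul_dotProduct]

lemma cv_apply (v : Fin b → F) (z : Fin a × Fin b → F) (i : Fin a) :
    cv f₂ v z i = f₂ (fun j => z (i, j)) v := by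
  simp only [cv, con, LinearMap.coe_mk, AddHom.coe_mk]
  rw [formDual_dot P.hf₂.bilinear]

lemma polar_ptv (z : Fin a × Fin b → F) (x : Fin a → F) (v : Fin b → F) :
    polar Q z (pt x v) = f₁ (cv f₂ v z) x := by
  have h := linear_ext (f := (polarBilin Q).flip (pt x v))
    (g := ((bilinOf P.hf₁.bilinear).flip x).comp (cv f₂ v)) fun u w => by
      simp only [LinearMap.flip_apply, polarBilin_apply_apply, LinearMap.comp_apply, bilinOf_apply,
        cv_pt P, P.polar_pt, P.hf₁.bilinear.smul_left]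
      ring
  simpa using LinearMap.congr_fun h z

lemma polar_ptv' (z : Fin a × Fin b → F) (x : Fin a → F) (v : Fin b → F) :
    polar Q (pt x v) z = f₁ (cv f₂ v z) x := by rw [polar_comm, polar_ptv P]

lemma Q_add_pt (z : Fin a × Fin b → F) (x : Fin a → F) (v : Fin b → F) :
    Q (z + pt x v) = Q z + f₁ (cv f₂ v z) x := by
  rw [QuadraticMap.map_add (⇑Q), P.Q_pt, add_zero, polar_ptv P]

lemma cv_pt_self (v : Fin b → F) (x : Fin a → F) : cv f₂ v (pt x v) = 0 := by
  rw [cv_pt P, P.hf₂.alternating, zero_smul]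

lemma three_le : 3 ≤ b := by have := P.five_le; omega

/-- A tensor with vanishing contractions against `v⊥` lies on the line. -/
lemma eq_ptv {v v' : Fin b → F} (hv : f₂ v v' = 1) {z : Fin a × Fin b → F}
    (h : ∀ y, f₂ y v = 0 → cv f₂ y z = 0) : z = pt (cv f₂ v' z) v := by
  funext s
  have hrow : (fun j => z (s.1, j)) - f₂ (fun j => z (s.1, j)) v' • v = 0 := by
    refine eq_zero_of_form_left P.hf₂.nondegenerate fun y => ?_
    have hv'v : f₂ v' v = -1 := by rw [P.hf₂.skew, hv]
    have hy0 : f₂ (y + f₂ y v • v') v = 0 := by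
      rw [P.hf₂.bilinear.add_left, P.hf₂.bilinear.smul_left, hv'v]; ring
    have h1 := congrFun (h _ hy0) s.1
    rw [cv_apply P, P.hf₂.bilinear.add_right, P.hf₂.bilinear.smul_right, Pi.zero_apply] at h1
    rw [form_sub_left P.hf₂.bilinear, P.hf₂.bilinear.smul_left, P.hf₂.skew v y]
    linear_combination h1
  have := congrFun (sub_eq_zero.1 hrow) s.2
  simpa [pt, cv_apply P] using this

/-- Tensors killed by the contraction are sums of pure tensors from the orthogonal. -/
lemma rows_orth {v : Fin b → F} {z : Fin a × Fin b → F} (h : cv f₂ v z = 0) (i : Fin a) :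
    f₂ (fun j => z (i, j)) v = 0 := by
  rw [← cv_apply P, h]; rfl

/-- A linear map preserving the polar form and sending pure tensors to pure tensors is an isometry. -/
lemma iso_of_pt {g : GL (Fin a × Fin b) F}
    (hg : ∀ x w x' w', polar Q ((g : Matrix (Fin a × Fin b) (Fin a × Fin b) F) *ᵥ pt x w)
      ((g : Matrix (Fin a × Fin b) (Fin a × Fin b) F) *ᵥ pt x' w') = polar Q (pt x w) (pt x' w'))
    (hp : ∀ x w, ∃ x' w', (g : Matrix (Fin a × Fin b) (Fin a × Fin b) F) *ᵥ pt x w = pt x' w')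
    (z : Fin a × Fin b → F) : Q ((g : Matrix (Fin a × Fin b) (Fin a × Fin b) F) *ᵥ z) = Q z := by
  classical
  set G := Matrix.toLin' (g : Matrix (Fin a × Fin b) (Fin a × Fin b) F)
  have hpol : ∀ z z', polar Q (G z) (G z') = polar Q z z' := by
    have h1 : ∀ x w z', polar Q (G (pt x w)) (G z') = polar Q (pt x w) z' := by
      intro x w z'
      have := linear_ext (f := (polarBilin Q (G (pt x w))).comp G) (g := polarBilin Q (pt x w))
        fun x' w' => by simpa [G, Matrix.toLin'_apply] using hg x w x' w'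
      simpa using LinearMap.congr_fun this z'
    intro z z'
    have := linear_ext (f := ((polarBilin Q).flip (G z')).comp G) (g := (polarBilin Q).flip z')
      fun x w => by simpa using h1 x w z'
    simpa using LinearMap.congr_fun this z
  have key : ∀ s : Finset (Fin a), Q (G (∑ i ∈ s, pt (Pi.single i 1) fun j => z (i, j))) =
      Q (∑ i ∈ s, pt (Pi.single i 1) fun j => z (i, j)) := by
    intro s
    induction s using Finset.induction_on with
    | empty => simp
    | @insert i s his ih =>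
      obtain ⟨x', w', hxw⟩ := hp (Pi.single i 1) fun j => z (i, j)
      rw [Finset.sum_insert his, map_add, QuadraticMap.map_add (⇑Q), QuadraticMap.map_add (⇑Q), ih,
        hpol, P.Q_pt, show G (pt (Pi.single i 1) fun j => z (i, j)) = pt x' w' by
          simpa [G, Matrix.toLin'_apply] using hxw, P.Q_pt]
  have h := key Finset.univ
  rw [← pt_sum_left z] at h
  simpa [G, Matrix.toLin'_apply] using h

omit P

/-- A root element with the given pair lies in the group. -/
def RT (Q : QuadraticForm F (Fin a × Fin b → F)) (M : Subgroup (GL (Fin a × Fin b) F))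
    (p z : Fin a × Fin b → F) : Prop :=
  polar Q p z = 0 ∧ ∃ h ∈ M, OmS.IsSg Q h p z

variable {M : Subgroup (GL (Fin a × Fin b) F)}

/-- The second vectors at a singular point form a subgroup. -/
def rts (Q : QuadraticForm F (Fin a × Fin b → F)) (M : Subgroup (GL (Fin a × Fin b) F))
    {p : Fin a × Fin b → F} (hp : Q p = 0) : AddSubgroup (Fin a × Fin b → F) where
  carrier := {z | RT Q M p z}
  zero_mem' := ⟨polar_zero_right _ _, 1, M.one_mem, fun x => by simp⟩
  add_mem' := by
    rintro z z' ⟨hz, h, hh, hx⟩ ⟨hz', h', hh', hx'⟩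
    exact ⟨by rw [polar_add_right, hz, hz', add_zero], h * h', M.mul_mem hh hh',
      OmS.IsSg.mul hp hz hz' hx hx'⟩
  neg_mem' := by
    rintro z ⟨hz, h, hh, hx⟩
    refine ⟨by rw [polar_neg_right, hz, neg_zero], h⁻¹, M.inv_mem hh, fun x => ?_⟩
    refine gl_mulVec_injective h ?_
    show _ *ᵥ _ = _ *ᵥ _
    rw [gl_mulVec_inv_mulVec, hx]
    have hcancel := Classical.Quad.siegelFun_add hp hz
      (show polar Q p (-z) = 0 by rw [polar_neg_right, hz, neg_zero]) x
    simp only [Classical.Quad.siegelFun, add_neg_cancel, polar_zero_right, map_zero, zero_mul,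
      smul_zero, neg_zero, sub_zero, zero_smul, add_zero] at hcancel
    exact hcancel.symm

lemma mem_rts {p z : Fin a × Fin b → F} {hp : Q p = 0} : z ∈ rts Q M hp ↔ RT Q M p z := Iff.rfl

lemma RT.self {p : Fin a × Fin b → F} (hp : Q p = 0) (c : F) : RT Q M p (c • p) := by
  have hpp : polar Q p p = 0 := Classical.Quad.polar_singular_self hp
  refine ⟨by rw [polar_smul_right, hpp, smul_zero], 1, M.one_mem, fun x => ?_⟩
  simp only [Units.val_one, one_mulVec, polar_smul_right, smul_eq_mul, QuadraticMap.map_smul, hp,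
    mul_zero, zero_mul, sub_zero]
  module

lemma RT.conj (hM : M ≤ omegaGL ⇑Q) {m : GL (Fin a × Fin b) F} (hm : m ∈ M)
    {p z : Fin a × Fin b → F} (h : RT Q M p z) :
    RT Q M ((m : Matrix (Fin a × Fin b) (Fin a × Fin b) F) *ᵥ p)
      ((m : Matrix (Fin a × Fin b) (Fin a × Fin b) F) *ᵥ z) := by
  obtain ⟨hz, g, hg, hx⟩ := h
  exact ⟨by rw [OmS.omega_polar (hM hm), hz], m * g * m⁻¹, M.mul_mem (M.mul_mem hm hg) (M.inv_mem hm),
    OmS.IsSg.conj (hM hm) hx⟩

lemma RT.swap {p z : Fin a × Fin b → F} (hp : Q p = 0) (hz : Q z = 0) (h : RT Q M p z) :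
    RT Q M z p := by
  obtain ⟨hpz, g, hg, hx⟩ := (rts Q M hp).neg_mem (mem_rts.2 h)
  refine ⟨by rw [polar_comm, h.1], g, hg, fun x => ?_⟩
  rw [hx x]
  simp only [polar_neg_right, QuadraticMap.map_neg, hz, hp, zero_mul, sub_zero, neg_neg]
  module

/-- A root element moves a second vector. -/
lemma RT.move (hM : M ≤ omegaGL ⇑Q) {p z p₂ z₂ : Fin a × Fin b → F} (hp : Q p = 0) (hz₂ : Q z₂ = 0)
    (h : RT Q M p z) (h₂ : RT Q M p₂ z₂) (e₁ : polar Q p p₂ = 0) (e₂ : polar Q p z₂ = 0) :
    RT Q M p (polar Q z p₂ • z₂ - polar Q z z₂ • p₂) := by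
  obtain ⟨g, hg, hx⟩ := h₂.2
  have h' := RT.conj hM hg h
  rw [hx p, hx z] at h'
  simp only [e₁, e₂, hz₂, zero_mul, sub_zero, zero_smul, neg_zero, add_zero, smul_zero] at h'
  have := (rts Q M hp).sub_mem (mem_rts.2 h') (mem_rts.2 h)
  rw [mem_rts] at this
  convert this using 1
  module

end CfsgLib.ClassicalMax.TensorSymp
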