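/-
A group above a symplectic tensor stabiliser with one long root element outside it contains the
whole of the simple orthogonal group.
-/
import Cfsg.Agent.Lib.ClassicalMax.TensorSympBase
set_option autoImplicit false
set_option linter.unusedSectionVars false

namespace CfsgLib.ClassicalMax.TensorSymp

open Matrix Kronecker Module Cfsg.Geo QuadraticMap
open CfsgLib.ClassicalMax.Kron
open CfsgLib.Classical.Quad (NDPolar Frame)

variable {F : Type*} [Field F] [DecidableEq F] {a b : ℕ}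
  {Q : QuadraticForm F (Fin a × Fin b → F)} {f₁ : (Fin a → F) → (Fin a → F) → F}
  {f₂ : (Fin b → F) → (Fin b → F) → F} {M : Subgroup (GL (Fin a × Fin b) F)}

/-- A subgroup of `Ω` containing the isometries of both factors. -/
structure Hyp (Q : QuadraticForm F (Fin a × Fin b → F)) (f₁ : (Fin a → F) → (Fin a → F) → F)
    (f₂ : (Fin b → F) → (Fin b → F) → F) (M : Subgroup (GL (Fin a × Fin b) F)) : Prop where
  pair : Pair Q f₁ f₂
  le : M ≤ omegaGL ⇑Q
  memU : ∀ A ∈ isoOf f₁, kronGL A 1 ∈ M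
  memW : ∀ B ∈ isoOf f₂, kronGL 1 B ∈ M
  lift : ∀ A B, ∀ g ∈ M,
    (∀ z, Q ((kronGL A B : Matrix (Fin a × Fin b) (Fin a × Fin b) F) *ᵥ z) = Q z) →
    ((((kronGL A B)⁻¹ * g : GL (Fin a × Fin b) F) : Matrix (Fin a × Fin b) (Fin a × Fin b) F) - 1) ^ 3 = 0 →
    kronGL A B ∈ M
  hex : 3 ≤ a ∨ ∃ t : F, t ≠ 0 ∧ t ≠ 1

/-- A long root element moving along the second factor. -/
def HasRoot (Q : QuadraticForm F (Fin a × Fin b → F)) (f₂ : (Fin b → F) → (Fin b → F) → F)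
    (M : Subgroup (GL (Fin a × Fin b) F)) : Prop :=
  ∃ (e : Fin a → F) (v w : Fin b → F), e ≠ 0 ∧ v ≠ 0 ∧ w ∉ Submodule.span F {v} ∧ f₂ w v = 0 ∧
    RT Q M (pt e v) (pt e w)

variable (H : Hyp Q f₁ f₂ M)
include H

lemma conjU {p z : Fin a → F} {A : GL (Fin a) F} (hA : A ∈ isoOf f₁) {v w : Fin b → F}
    (h : RT Q M (pt p v) (pt z w)) :
    RT Q M (pt ((A : Matrix (Fin a) (Fin a) F) *ᵥ p) v) (pt ((A : Matrix (Fin a) (Fin a) F) *ᵥ z) w) := by
  simpa [kronGL_pt] using RT.conj H.le (H.memU A hA) h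

lemma conjW {p z : Fin a → F} {B : GL (Fin b) F} (hB : B ∈ isoOf f₂) {v w : Fin b → F}
    (h : RT Q M (pt p v) (pt z w)) :
    RT Q M (pt p ((B : Matrix (Fin b) (Fin b) F) *ᵥ v)) (pt z ((B : Matrix (Fin b) (Fin b) F) *ᵥ w)) := by
  simpa [kronGL_pt] using RT.conj H.le (H.memW B hB) h

omit H in
lemma closure_sTv_le {k : ℕ} {f : (Fin k → F) → (Fin k → F) → F} (hf : IsSymplecticForm f)
    {g : GL (Fin k) F} (hg : g ∈ Subgroup.closure {t | ∃ v c, t = sTv f v c}) : g ∈ isoOf f :=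
  (Subgroup.closure_le (isoOf f)).2 (by rintro _ ⟨v, c, rfl⟩; exact sTv_mem_isoOf hf v c) hg

/-- A root element along the first factor yields one along the second. -/
lemma hasRoot_of_left {u k : Fin a → F} {v : Fin b → F} (hu : u ≠ 0) (hv : v ≠ 0)
    (hk : k ∉ Submodule.span F {u}) (hku : f₁ k u = 0) (h : RT Q M (pt u v) (pt k v)) :
    HasRoot Q f₂ M := by
  have P := H.pair
  have hf₁ := P.hf₁
  have hf₂ := P.hf₂
  set p := pt u v with hp
  have hQp : Q p = 0 := P.Q_pt u v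
  obtain ⟨e₂, he, hke⟩ := exists_form_sep hf₁ hk
  have hue : f₁ u e₂ = 0 := he u (Submodule.mem_span_singleton_self u)
  have heu : f₁ e₂ u = 0 := by rw [hf₁.skew, hue, neg_zero]
  have hue₂ : RT Q M p (pt e₂ v) := by
    have h1 := conjU H (sTv_mem_isoOf hf₁ e₂ 1) h
    rw [sTv_mulVec_of_orth hf₁ _ hue, sTv_mulVec hf₁, hke, mul_one, one_smul, pt_add_left] at h1
    have := (rts Q M hQp).sub_mem (mem_rts.2 h1) (mem_rts.2 h)
    rwa [add_sub_cancel_left, mem_rts] at this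
  have key : ∀ v₂, f₂ v v₂ = 1 → RT Q M p (pt u v₂) := by
    intro v₂ hv₂
    have hv₂0 : v₂ ≠ 0 := fun e => one_ne_zero (α := F) (by
      rw [← hv₂, e, form_zero_right hf₂.bilinear])
    obtain ⟨B, hB, hBv⟩ := exists_iso_mulVec hf₂ hv hv₂0
    have hs := RT.swap hQp (P.Q_pt e₂ v) hue₂
    have hs' := conjW H (closure_sTv_le hf₂ hB) hs
    rw [hBv] at hs'
    have := RT.move H.le hQp (P.Q_pt u v₂) h hs' (by rw [P.polar_pt, hue, zero_mul])
      (by rw [P.polar_pt, hf₁.alternating, zero_mul])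
    rw [P.polar_pt, P.polar_pt, hke, hku, hv₂, one_mul, one_smul, zero_mul, zero_smul, sub_zero] at this
    exact this
  obtain ⟨v', -, hvv'⟩ := exists_partner hf₂ hv
  obtain ⟨r, hr, hrn⟩ := exists_orth_extend hf₂.bilinear ![v] (by
    simp only [Fintype.card_fin]; have := P.five_le; omega)
  have hvr : f₂ v r = 0 := hr 0
  have hrv : f₂ r v = 0 := by rw [hf₂.skew, hvr, neg_zero]
  have hv1 : f₂ v (-v') = 1 := by rw [form_neg_right hf₂.bilinear, hvv', neg_neg]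
  have h1 := key (-v') hv1
  have h2 := key (r + -v') (by rw [hf₂.bilinear.add_right, hvr, hv1, zero_add])
  have h3 := (rts Q M hQp).sub_mem (mem_rts.2 h2) (mem_rts.2 h1)
  rw [mem_rts, pt_add_right, add_sub_cancel_right] at h3
  exact ⟨u, v, r, hu, hv, fun e => hrn (by simpa using e), hrv, h3⟩

/-- One root element along the second factor gives all of them. -/
lemma root_all (hroot : HasRoot Q f₂ M) {e : Fin a → F} (he : e ≠ 0) {v w : Fin b → F} (hv : v ≠ 0)
    (hw : f₂ w v = 0) : RT Q M (pt e v) (pt e w) := by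
  obtain ⟨e₀, v₀, w₀, he₀, hv₀, hw₀, hwv₀, h⟩ := hroot
  have P := H.pair
  have hf₂ := P.hf₂
  set p := pt e₀ v₀ with hp
  have hQp : Q p = 0 := P.Q_pt e₀ v₀
  have step : ∀ r, f₂ r v₀ = 0 → f₂ w₀ r ≠ 0 → RT Q M p (pt e₀ r) := by
    intro r hr hr'
    have hvr : f₂ v₀ r = 0 := by rw [hf₂.skew, hr, neg_zero]
    have h1 := conjW H (sTv_mem_isoOf hf₂ r (f₂ w₀ r)⁻¹) h
    rw [sTv_mulVec_of_orth hf₂ _ hvr, sTv_mulVec hf₂, inv_mul_cancel₀ hr', one_smul, pt_add_right] at h1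
    have := (rts Q M hQp).sub_mem (mem_rts.2 h1) (mem_rts.2 h)
    rwa [add_sub_cancel_left, mem_rts] at this
  obtain ⟨r₀, hr₀, hr₀'⟩ := exists_form_sep hf₂ hw₀
  have hr₀v : f₂ r₀ v₀ = 0 := by
    rw [hf₂.skew, hr₀ v₀ (Submodule.mem_span_singleton_self v₀), neg_zero]
  have hall : ∀ r, f₂ r v₀ = 0 → RT Q M p (pt e₀ r) := by
    intro r hr
    by_cases hr' : f₂ w₀ r = 0
    · have h1 := step (r + r₀) (by rw [hf₂.bilinear.add_left, hr, hr₀v, add_zero])
        (by rw [hf₂.bilinear.add_right, hr', hr₀', zero_add]; exact one_ne_zero)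
      have h2 := step r₀ hr₀v (by rw [hr₀']; exact one_ne_zero)
      have := (rts Q M hQp).sub_mem (mem_rts.2 h1) (mem_rts.2 h2)
      rwa [pt_add_right, add_sub_cancel_right, mem_rts] at this
    · exact step r hr hr'
  obtain ⟨A, hA, hAe⟩ := exists_iso_mulVec P.hf₁ he₀ he
  obtain ⟨B, hB, hBv⟩ := exists_iso_mulVec hf₂ hv₀ hv
  have hBi := closure_sTv_le hf₂ hB
  have hw' : f₂ (((B⁻¹ : GL (Fin b) F) : Matrix (Fin b) (Fin b) F) *ᵥ w) v₀ = 0 := by
    rw [form_mulVec_left ((isoOf f₂).inv_mem hBi), inv_inv, hBv, hw]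
  have h' := conjW H hBi (conjU H (closure_sTv_le P.hf₁ hA) (hall _ hw'))
  rwa [hAe, hBv, gl_mulVec_inv_mulVec] at h'

/-- One root element along the second factor gives a point with its whole root group. -/
lemma mem_SS (hroot : HasRoot Q f₂ M) {e : Fin a → F} (he : e ≠ 0) {v : Fin b → F} (hv : v ≠ 0) :
    pt e v ∈ OmS.SS Q M := by
  have P := H.pair
  have hf₁ := P.hf₁
  have hf₂ := P.hf₂
  have hb := P.five_le
  set p := pt e v with hp
  have hQp : Q p = 0 := P.Q_pt e v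
  have hall := fun {e : Fin a → F} (he : e ≠ 0) {v w : Fin b → F} (hv : v ≠ 0) (hw : f₂ w v = 0) =>
    root_all H hroot he hv hw
  obtain ⟨e', he'1, he'2⟩ := exists_partner hf₁ he
  have hne : ∀ w₂, f₂ w₂ v = 0 → ∀ e₂, f₁ e e₂ ≠ 0 → RT Q M p (pt e₂ w₂) := by
    intro w₂ hw₂ e₂ hee
    have he₂ : e₂ ≠ 0 := fun h0 => hee (by rw [h0, form_zero_right hf₁.bilinear])
    have main : ∀ w₂, f₂ w₂ v = 0 → w₂ ∉ Submodule.span F {v} → RT Q M p (pt e₂ w₂) := by
      intro w₂ hw₂ hn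
      obtain ⟨v₂, hv₂, hv₂n⟩ := exists_orth_extend hf₂.bilinear ![v, w₂] (by
        simp only [Fintype.card_fin]; omega)
      have hvv₂ : f₂ v v₂ = 0 := hv₂ 0
      have hwv₂ : f₂ w₂ v₂ = 0 := hv₂ 1
      obtain ⟨z, hz, hz1⟩ := exists_form_sep hf₂ hv₂n
      have hvz : f₂ v z = 0 := hz v (Submodule.subset_span ⟨0, rfl⟩)
      have hw2z : f₂ w₂ z = 0 := hz w₂ (Submodule.subset_span ⟨1, rfl⟩)
      have hzv : f₂ z v = 0 := by rw [hf₂.skew, hvz, neg_zero]
      have hzw : f₂ z w₂ = 0 := by rw [hf₂.skew, hw2z, neg_zero]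
      have hzv₂ : f₂ z v₂ = -1 := by rw [hf₂.skew, hz1]
      have hv₂0 : v₂ ≠ 0 := fun h0 => hv₂n (h0 ▸ Submodule.zero_mem _)
      set c := -(f₁ e e₂)⁻¹ with hc
      have := RT.move H.le hQp (P.Q_pt e₂ (c • w₂)) (hall he hv hzv)
        (hall he₂ hv₂0 (show f₂ (c • w₂) v₂ = 0 by rw [hf₂.bilinear.smul_left, hwv₂, mul_zero]))
        (by rw [P.polar_pt, hvv₂, mul_zero])
        (by rw [P.polar_pt, hf₂.bilinear.smul_right, hf₂.skew v w₂, hw₂, neg_zero, mul_zero, mul_zero])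
      rw [P.polar_pt, P.polar_pt, hzv₂, hf₂.bilinear.smul_right, hzw, mul_zero, mul_zero, zero_smul,
        sub_zero, pt_smul_right, smul_smul, show f₁ e e₂ * -1 * c = 1 by
          rw [hc]; field_simp, one_smul] at this
      exact this
    by_cases hn : w₂ ∈ Submodule.span F {v}
    · obtain ⟨r, hr, hrn⟩ := exists_orth_extend hf₂.bilinear ![v] (by
        simp only [Fintype.card_fin]; omega)
      have hrv : f₂ r v = 0 := by rw [hf₂.skew, show f₂ v r = 0 from hr 0, neg_zero]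
      have hrn' : r ∉ Submodule.span F {v} := fun h => hrn (by simpa using h)
      have h1 := main (w₂ + r) (by rw [hf₂.bilinear.add_left, hw₂, hrv, add_zero])
        (fun h => hrn' (by simpa using Submodule.sub_mem _ h hn))
      have h2 := main r hrv hrn'
      have := (rts Q M hQp).sub_mem (mem_rts.2 h1) (mem_rts.2 h2)
      rwa [pt_add_right, add_sub_cancel_right, mem_rts] at this
    · exact main w₂ hw₂ hn
  have horth : ∀ w₂, f₂ w₂ v = 0 → ∀ e₂, RT Q M p (pt e₂ w₂) := by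
    intro w₂ hw₂ e₂
    by_cases hee : f₁ e e₂ = 0
    · have h1 := hne w₂ hw₂ (e₂ + e') (by rw [hf₁.bilinear.add_right, hee, he'2, zero_add]; simp)
      have h2 := hne w₂ hw₂ e' (by rw [he'2]; simp)
      have := (rts Q M hQp).sub_mem (mem_rts.2 h1) (mem_rts.2 h2)
      rwa [pt_add_left, add_sub_cancel_right, mem_rts] at this
    · exact hne w₂ hw₂ e₂ hee
  have hperp : ∀ e₃, f₁ e₃ e = 0 → ∀ w₃, RT Q M p (pt e₃ w₃) := by
    intro e₃ he₃ w₃
    rcases eq_or_ne e₃ 0 with rfl | he₃0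
    · rw [pt_zero_left, ← zero_smul F p]; exact RT.self hQp 0
    obtain ⟨w, hw, hwn⟩ := exists_orth_extend hf₂.bilinear ![v, w₃] (by
      simp only [Fintype.card_fin]; omega)
    have hwv : f₂ w v = 0 := by rw [hf₂.skew, show f₂ v w = 0 from hw 0, neg_zero]
    have hww₃ : f₂ w w₃ = 0 := by rw [hf₂.skew, show f₂ w₃ w = 0 from hw 1, neg_zero]
    obtain ⟨v₃, hv₃, hv₃1⟩ := exists_form_sep hf₂ hwn
    have hw₃v₃ : f₂ w₃ v₃ = 0 := hv₃ w₃ (Submodule.subset_span ⟨1, rfl⟩)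
    have hv₃0 : v₃ ≠ 0 := fun h0 => one_ne_zero (α := F) (by
      rw [← hv₃1, h0, form_zero_right hf₂.bilinear])
    obtain ⟨e'', he''1, -⟩ := exists_partner hf₁ he₃0
    have := RT.move H.le hQp (P.Q_pt e₃ w₃) (horth w hwv e'')
      (hall he₃0 hv₃0 hw₃v₃)
      (by rw [P.polar_pt, hf₁.skew e e₃, he₃, neg_zero, zero_mul])
      (by rw [P.polar_pt, hf₁.skew e e₃, he₃, neg_zero, zero_mul])
    rw [P.polar_pt, P.polar_pt, hv₃1, hww₃, he''1, one_mul, mul_zero, one_smul, zero_smul, sub_zero] at this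
    exact this
  refine ⟨hQp, fun z hz => ?_⟩
  suffices hmem : z ∈ rts Q M hQp from (mem_rts.1 hmem).2
  obtain ⟨v'', hv''1, -⟩ := exists_partner hf₂ hv
  set s := cv f₂ v z with hs
  have hse : f₁ s e = 0 := by rw [← polar_ptv P, polar_comm]; exact hz
  set z' := z - pt s v'' with hz'
  have hz'0 : cv f₂ v z' = 0 := by rw [hz', map_sub, cv_pt P, hv''1, one_smul, ← hs, sub_self]
  rw [show z = z' + pt s v'' by rw [hz', sub_add_cancel]]
  refine (rts Q M hQp).add_mem ?_ (mem_rts.2 (hperp s hse v''))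
  rw [pt_sum_left z']
  exact (rts Q M hQp).sum_mem fun i _ => mem_rts.2 (horth _ (rows_orth P hz'0 i) _)

/-- One root element along the second factor gives everything. -/
theorem omega_le [Fintype F] (hnd : NDPolar Q) (R : Frame Q) (hroot : HasRoot Q f₂ M) :
    omegaGL ⇑Q ≤ M := by
  obtain ⟨e, v, -, he, hv, -⟩ := id hroot
  have P := H.pair
  obtain ⟨e', he'1, he'2⟩ := exists_partner P.hf₁ he
  obtain ⟨v', hv'1, hv'2⟩ := exists_partner P.hf₂ hv
  have he'0 : e' ≠ 0 := fun h0 => one_ne_zero (α := F) (by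
    rw [← he'1, h0, form_zero_left P.hf₁.bilinear])
  have hv'0 : v' ≠ 0 := fun h0 => one_ne_zero (α := F) (by
    rw [← hv'1, h0, form_zero_left P.hf₂.bilinear])
  exact OmS.omega_le_of_pair hnd R H.le (mem_SS H hroot he hv) (mem_SS H hroot he'0 hv'0)
    (by rw [P.polar_pt, he'2, hv'2]; simp)

end CfsgLib.ClassicalMax.TensorSymp
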