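/-
Unipotent radical elements above a symplectic tensor stabiliser: without long root elements outside
the stabiliser they are scalar.
-/
import Cfsg.Agent.Lib.ClassicalMax.TensorSympRoot
set_option autoImplicit false
set_option linter.unusedSectionVars false

namespace CfsgLib.ClassicalMax.TensorSymp

open Matrix Kronecker Module Cfsg.Geo QuadraticMap
open CfsgLib.ClassicalMax.Kron

variable {F : Type*} [Field F] [DecidableEq F] {a b : ℕ}
  {Q : QuadraticForm F (Fin a × Fin b → F)} {f₁ : (Fin a → F) → (Fin a → F) → F}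
  {f₂ : (Fin b → F) → (Fin b → F) → F} {M : Subgroup (GL (Fin a × Fin b) F)}

/-- The action of an element on a vector. -/
local notation:80 g:81 " •ᵥ " z:80 => Matrix.mulVec (Units.val g) z

/-- A linear map with only eigenvectors is a scalar. -/
lemma scalar_of_eig {k : ℕ} (hk : 1 ≤ k) (S : (Fin k → F) →ₗ[F] (Fin k → F))
    (h : ∀ x, S x ∈ Submodule.span F {x}) : ∃ c : F, ∀ x, S x = c • x := by
  set x₀ : Fin k → F := Pi.single ⟨0, by omega⟩ 1
  have hx₀ : x₀ ≠ 0 := fun e => one_ne_zero (α := F) (by simpa [x₀] using congrFun e ⟨0, by omega⟩)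
  obtain ⟨c, hc⟩ := Submodule.mem_span_singleton.1 (h x₀)
  refine ⟨c, fun x => ?_⟩
  by_cases hxs : x ∈ Submodule.span F {x₀}
  · obtain ⟨t, rfl⟩ := Submodule.mem_span_singleton.1 hxs
    rw [map_smul, ← hc, smul_comm]
  obtain ⟨d, hd⟩ := Submodule.mem_span_singleton.1 (h x)
  obtain ⟨m, hm⟩ := Submodule.mem_span_singleton.1 (h (x + x₀))
  rw [map_add, ← hd, ← hc, smul_add] at hm
  have h1 : (m - d) • x = (c - m) • x₀ := by linear_combination (norm := module) hm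
  have hmd : m - d = 0 := by
    by_contra hne
    exact hxs (Submodule.mem_span_singleton.2 ⟨(m - d)⁻¹ * (c - m), by
      rw [mul_smul, ← h1, inv_smul_smul₀ hne]⟩)
  rw [hmd, zero_smul] at h1
  rw [← hd, ← sub_eq_zero.1 hmd, ← sub_eq_zero.1 ((smul_eq_zero.1 h1.symm).resolve_right hx₀)]

/-- An element fixing a tensor line and moving its orthogonal into it by the given maps. -/
def Rad (f₂ : (Fin b → F) → (Fin b → F) → F) (M : Subgroup (GL (Fin a × Fin b) F)) (v : Fin b → F)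
    (x : GL (Fin a × Fin b) F) (L : (Fin b → F) → ((Fin a → F) →ₗ[F] (Fin a → F))) : Prop :=
  x ∈ M ∧ (∀ u, x •ᵥ pt u v = pt u v) ∧
    ∀ w, f₂ w v = 0 → ∀ u, x •ᵥ pt u w = pt u w + pt (L w u) v

/-- The double root element of a skew map lies in the group, on all orthogonal pairs. -/
def Good (f₁ : (Fin a → F) → (Fin a → F) → F) (f₂ : (Fin b → F) → (Fin b → F) → F)
    (M : Subgroup (GL (Fin a × Fin b) F)) (K : (Fin a → F) →ₗ[F] (Fin a → F)) : Prop :=
  (∀ s t, f₁ (K s) t + f₁ s (K t) = 0) ∧ ∀ v y, f₂ v y = 0 → ∃ g ∈ M, ∀ z,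
    g •ᵥ z = z + pt (K (cv f₂ y z)) v - pt (K (cv f₂ v z)) y

variable (H : Hyp Q f₁ f₂ M)
include H

lemma Q_act {g : GL (Fin a × Fin b) F} (hg : g ∈ M) (z : Fin a × Fin b → F) : Q (g •ᵥ z) = Q z :=
  OmS.omega_iso (H.le hg) z

lemma polar_act {g : GL (Fin a × Fin b) F} (hg : g ∈ M) (z z' : Fin a × Fin b → F) :
    polar Q (g •ᵥ z) (g •ᵥ z') = polar Q z z' :=
  OmS.omega_polar (H.le hg) z z'

lemma cv_kron_one {B : GL (Fin b) F} (hB : B ∈ isoOf f₂) (v : Fin b → F) (z : Fin a × Fin b → F) :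
    cv f₂ ((B : Matrix (Fin b) (Fin b) F) *ᵥ v) (kronGL (1 : GL (Fin a) F) B •ᵥ z) = cv f₂ v z := by
  have := linear_ext
    (f := (cv f₂ ((B : Matrix (Fin b) (Fin b) F) *ᵥ v)).comp
      (Matrix.toLin' (kronGL (1 : GL (Fin a) F) B).val))
    (g := cv f₂ v) fun x w => by
      simp only [LinearMap.comp_apply, Matrix.toLin'_apply, kronGL_pt, cv_pt H.pair, Units.val_one,
        one_mulVec]
      rw [(mem_isoOf.1 hB) w v]
  simpa [Matrix.toLin'_apply] using LinearMap.congr_fun this z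

lemma cv_kron_left (A : GL (Fin a) F) (v : Fin b → F) (z : Fin a × Fin b → F) :
    cv f₂ v (kronGL A (1 : GL (Fin b) F) •ᵥ z) = (A : Matrix (Fin a) (Fin a) F) *ᵥ cv f₂ v z := by
  have := linear_ext
    (f := (cv f₂ v).comp (Matrix.toLin' (kronGL A (1 : GL (Fin b) F)).val))
    (g := (Matrix.toLin' (A : Matrix (Fin a) (Fin a) F)).comp (cv f₂ v)) fun x w => by
      simp only [LinearMap.comp_apply, Matrix.toLin'_apply, kronGL_pt, cv_pt H.pair, Units.val_one,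
        one_mulVec, mulVec_smul]
  simpa [Matrix.toLin'_apply] using LinearMap.congr_fun this z

lemma sTv_inv_act {k : ℕ} {f : (Fin k → F) → (Fin k → F) → F} (hf : IsSymplecticForm f)
    (v : Fin k → F) (c : F) (x : Fin k → F) :
    ((sTv f v c)⁻¹ : GL (Fin k) F).val *ᵥ x = x - (c * f x v) • v := by
  rw [sTv_inv hf, sTv_mulVec hf]; module

/-- Only scalar root elements lie in `M` when no long root element does. -/
lemma only_scalar (hno : ¬ HasRoot Q f₂ M) {v : Fin b → F} (hv : v ≠ 0) {g : GL (Fin a × Fin b) F}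
    (hg : g ∈ M) {S : (Fin a → F) →ₗ[F] (Fin a → F)}
    (hgS : ∀ z, g •ᵥ z = z + pt (S (cv f₂ v z)) v) : ∃ c : F, ∀ s, S s = c • s := by
  have P := H.pair
  have hf₁ := P.hf₁
  obtain ⟨v', hv'1, -⟩ := exists_partner P.hf₂ hv
  have hcv : ∀ s, cv f₂ v (pt s v') = s := fun s => by rw [cv_pt P, hv'1, one_smul]
  have hdiag : ∀ s, f₁ s (S s) = 0 := fun s => by
    have h1 := Q_act H hg (pt s v')
    rw [hgS, hcv, Q_add_pt P, hcv, P.Q_pt, zero_add] at h1
    exact h1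
  have hself : ∀ s t, f₁ (S s) t = f₁ s (S t) := fun s t => by
    have h1 := hdiag (s + t)
    rw [map_add, hf₁.bilinear.add_left, hf₁.bilinear.add_right, hf₁.bilinear.add_right, hdiag,
      hdiag] at h1
    rw [hf₁.skew (S s) t]
    linear_combination -h1
  refine scalar_of_eig (by have := P.two_le; omega) S fun u => ?_
  by_contra hk
  set k := S u with hkdef
  have hu : u ≠ 0 := fun e => hk (by rw [hkdef, e, map_zero]; exact Submodule.zero_mem _)
  have hku : f₁ k u = 0 := by rw [hkdef, hself, hdiag]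
  set A := sTv f₁ u 1
  have hm : kronGL A (1 : GL (Fin b) F) ∈ M := H.memU A (sTv_mem_isoOf hf₁ u 1)
  set m := kronGL A (1 : GL (Fin b) F)
  have hginv : ∀ z, g⁻¹ •ᵥ z = z - pt (S (cv f₂ v z)) v := fun z => gl_mulVec_injective g (by
    show _ *ᵥ _ = _ *ᵥ _
    rw [gl_mulVec_inv_mulVec, hgS, map_sub, cv_pt_self P, sub_zero, sub_add_cancel])
  have hfix : ∀ s, g •ᵥ pt s v = pt s v := fun s => by
    rw [hgS, cv_pt_self P, map_zero, pt_zero_left, add_zero]
  refine hno (hasRoot_of_left H (v := v) hu hv hk hku ?_)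
  rw [show pt k v = -(-pt k v) from (neg_neg _).symm]
  refine mem_rts.1 ((rts Q M (P.Q_pt u v)).neg_mem (mem_rts.2 ⟨?_, m * g * m⁻¹ * g⁻¹,
    M.mul_mem (M.mul_mem (M.mul_mem hm hg) (M.inv_mem hm)) (M.inv_mem hg), fun z => ?_⟩))
  · rw [polar_neg_right, P.polar_pt, hf₁.skew u k, hku]; simp
  have hA' : ∀ s, (A⁻¹ : GL (Fin a) F).val *ᵥ s = s - f₁ s u • u := fun s => by
    rw [sTv_inv_act H hf₁, one_mul]
  have hmi : m⁻¹ = kronGL A⁻¹ (1 : GL (Fin b) F) := by rw [kronGL_inv, inv_one]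
  rw [gl_mulVec_mul, gl_mulVec_mul, gl_mulVec_mul, hgS, mulVec_add, gl_mulVec_inv_mulVec, hginv,
    hmi, cv_kron_left H, map_sub, cv_pt_self P, sub_zero, hA', kronGL_pt, Units.val_one,
    one_mulVec]
  simp only [A, sTv_mulVec hf₁, map_sub, map_smul, ← hkdef, one_mul, form_sub_left hf₁.bilinear,
    hf₁.bilinear.smul_left, hku, mul_zero, sub_zero, hself, pt_add_left, pt_smul_left, pt_sub_left,
    polar_neg_right, QuadraticMap.map_neg, P.Q_pt, zero_mul, polar_ptv P, neg_neg]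
  module

/-- The maps of a radical element depend linearly on the vector. -/
lemma Rad.lin {v : Fin b → F} (hv : v ≠ 0) {x : GL (Fin a × Fin b) F}
    {L : (Fin b → F) → ((Fin a → F) →ₗ[F] (Fin a → F))} (hx : Rad f₂ M v x L) {w w' : Fin b → F}
    (hw : f₂ w v = 0) (hw' : f₂ w' v = 0) (c : F) (u : Fin a → F) :
    L (w + c • w') u = L w u + c • L w' u := by
  have hf₂ := H.pair.hf₂
  refine ptR_injective hv ?_
  have h := hx.2.2 (w + c • w')
    (by rw [hf₂.bilinear.add_left, hf₂.bilinear.smul_left, hw, hw']; simp) u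
  rw [pt_add_right, pt_smul_right, mulVec_add, mulVec_smul, hx.2.2 w hw, hx.2.2 w' hw'] at h
  simp only [ptR_apply, pt_add_left, pt_smul_left]
  linear_combination (norm := module) -h

/-- Contractions of a radical element. -/
lemma Rad.cv_self {v : Fin b → F} {x : GL (Fin a × Fin b) F}
    {L : (Fin b → F) → ((Fin a → F) →ₗ[F] (Fin a → F))} (hx : Rad f₂ M v x L)
    (z : Fin a × Fin b → F) : cv f₂ v (x •ᵥ z) = cv f₂ v z := by
  have P := H.pair
  refine form_ext P.hf₁ fun u => ?_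
  rw [← polar_ptv P, ← polar_ptv P]
  have := polar_act H hx.1 z (pt u v)
  rwa [hx.2.1] at this

/-- The image of a radical element against the orthogonal. -/
lemma Rad.cv_orth {v : Fin b → F} {x : GL (Fin a × Fin b) F}
    {L : (Fin b → F) → ((Fin a → F) →ₗ[F] (Fin a → F))} (hx : Rad f₂ M v x L) {w : Fin b → F}
    (hw : f₂ w v = 0) (z : Fin a × Fin b → F) (u : Fin a → F) :
    f₁ (cv f₂ w (x •ᵥ z) - cv f₂ w z) u = -f₁ (cv f₂ v z) (L w u) := by
  have P := H.pair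
  have h := polar_act H hx.1 z (pt u w)
  rw [hx.2.2 w hw u, polar_add_right, polar_ptv P, polar_ptv P, polar_ptv P, hx.cv_self H] at h
  rw [form_sub_left P.hf₁.bilinear]
  linear_combination h

/-- The symmetric part of the maps of a radical element is scalar. -/
lemma Rad.trace (hno : ¬ HasRoot Q f₂ M) {v : Fin b → F} (hv : v ≠ 0) {x : GL (Fin a × Fin b) F}
    {L : (Fin b → F) → ((Fin a → F) →ₗ[F] (Fin a → F))} (hx : Rad f₂ M v x L) {w : Fin b → F}
    (hw : f₂ w v = 0) :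
    ∃ c : F, ∀ s t, f₁ (L w s) t + f₁ s (L w t) = c * f₁ s t := by
  have P := H.pair
  have hf₂ := P.hf₂
  have hvw : f₂ v w = 0 := by rw [hf₂.skew, hw, neg_zero]
  obtain ⟨v', hv'1, -⟩ := exists_partner hf₂ hv
  have hcv : ∀ s, cv f₂ v (pt s v') = s := fun s => by rw [cv_pt P, hv'1, one_smul]
  set E := kronGL (1 : GL (Fin a) F) (sh f₂ w v 1) with hE
  have hEM : E ∈ M := H.memW _ (sh_mem_isoOf hf₂ _ _ _)
  have hEz : ∀ z, E •ᵥ z = z + pt (cv f₂ v z) w + pt (cv f₂ w z) v := by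
    intro z
    have := linear_ext (f := Matrix.toLin' E.val)
      (g := LinearMap.id + (ptR w).comp (cv f₂ v) + (ptR v).comp (cv f₂ w)) fun u y => by
        simp [E, Matrix.toLin'_apply, kronGL_pt, sh_mulVec hf₂ hw, pt_add_right, cv_pt P,
          pt_smul_left, pt_smul_right]
    exact LinearMap.congr_fun this z
  let Lst : (Fin a → F) →ₗ[F] (Fin a → F) :=
    (cv f₂ w - (cv f₂ w).comp (Matrix.toLin' x.val)).comp (ptR v')
  have hLst : ∀ z, cv f₂ w z - cv f₂ w (x •ᵥ z) = Lst (cv f₂ v z) := fun z => by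
    refine form_ext P.hf₁ fun u => ?_
    have h1 := hx.cv_orth H hw z u
    have h2 := hx.cv_orth H hw (pt (cv f₂ v z) v') u
    rw [hcv] at h2
    simp only [Lst, LinearMap.comp_apply, LinearMap.sub_apply, Matrix.toLin'_apply, ptR_apply]
    rw [form_sub_left P.hf₁.bilinear] at h1 h2 ⊢
    rw [form_sub_left P.hf₁.bilinear]
    linear_combination -h1 + h2
  have hcvE : ∀ z, cv f₂ v (E •ᵥ z) = cv f₂ v z := fun z => by
    rw [hEz, map_add, map_add, cv_pt P, hw, zero_smul, add_zero, cv_pt_self P, add_zero]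
  have hy : ∀ z, (x * E * x⁻¹ * E⁻¹) •ᵥ z = z + pt ((L w + Lst) (cv f₂ v z)) v := by
    intro z
    obtain ⟨z, rfl⟩ : ∃ z', z = E •ᵥ (x •ᵥ z') :=
      ⟨x⁻¹ •ᵥ (E⁻¹ •ᵥ z), by rw [gl_mulVec_inv_mulVec, gl_mulVec_inv_mulVec]⟩
    rw [gl_mulVec_mul, gl_mulVec_mul, gl_mulVec_mul, gl_inv_mulVec_mulVec, gl_inv_mulVec_mulVec,
      hcvE, hx.cv_self H, hEz, hEz, hx.cv_self H, mulVec_add, mulVec_add, hx.2.1, hx.2.2 w hw,
      LinearMap.add_apply, pt_add_left, ← hLst, pt_sub_left]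
    abel
  obtain ⟨c, hc⟩ := only_scalar H hno hv
    (M.mul_mem (M.mul_mem (M.mul_mem hx.1 hEM) (M.inv_mem hx.1)) (M.inv_mem hEM)) hy
  refine ⟨c, fun s t => ?_⟩
  have hadj : f₁ (Lst s) t = f₁ s (L w t) := by
    have h1 := hx.cv_orth H hw (pt s v') t
    rw [hcv] at h1
    simp only [Lst, LinearMap.comp_apply, LinearMap.sub_apply, Matrix.toLin'_apply, ptR_apply]
    rw [form_sub_left P.hf₁.bilinear] at h1 ⊢
    linear_combination -h1
  rw [← hadj, ← P.hf₁.bilinear.add_left, ← LinearMap.add_apply, hc, P.hf₁.bilinear.smul_left]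

/-- Conjugating a radical element along the first factor. -/
lemma Rad.conjU {v : Fin b → F} {x : GL (Fin a × Fin b) F}
    {L : (Fin b → F) → ((Fin a → F) →ₗ[F] (Fin a → F))} (hx : Rad f₂ M v x L) {A : GL (Fin a) F}
    (hA : A ∈ isoOf f₁) :
    Rad f₂ M v (kronGL A 1 * x * (kronGL A 1)⁻¹ * x⁻¹) fun w =>
      (Matrix.toLin' A.val).comp ((L w).comp (Matrix.toLin' (A⁻¹ : GL (Fin a) F).val)) - L w := by
  set m := kronGL A (1 : GL (Fin b) F)
  have hxi : ∀ u, x⁻¹ •ᵥ pt u v = pt u v := fun u => gl_mulVec_injective x (by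
    show _ *ᵥ _ = _ *ᵥ _
    rw [gl_mulVec_inv_mulVec, hx.2.1])
  have hmi : m⁻¹ = kronGL A⁻¹ (1 : GL (Fin b) F) := by rw [kronGL_inv, inv_one]
  have hfix : ∀ u, (m * x * m⁻¹ * x⁻¹) •ᵥ pt u v = pt u v := fun u => by
    rw [gl_mulVec_mul, gl_mulVec_mul, gl_mulVec_mul, hxi, hmi, kronGL_pt, Units.val_one, one_mulVec,
      hx.2.1, kronGL_pt, gl_mulVec_inv_mulVec, Units.val_one, one_mulVec]
  refine ⟨M.mul_mem (M.mul_mem (M.mul_mem (H.memU A hA) hx.1) (M.inv_mem (H.memU A hA)))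
    (M.inv_mem hx.1), hfix, fun w hw u => ?_⟩
  have hxw : x⁻¹ •ᵥ pt u w = pt u w - pt (L w u) v := gl_mulVec_injective x (by
    show _ *ᵥ _ = _ *ᵥ _
    rw [gl_mulVec_inv_mulVec, mulVec_sub, hx.2.2 w hw, hx.2.1, add_sub_cancel_right])
  rw [gl_mulVec_mul, gl_mulVec_mul, gl_mulVec_mul, hxw, hmi, mulVec_sub, kronGL_pt, kronGL_pt,
    Units.val_one, one_mulVec, one_mulVec, mulVec_sub, hx.2.2 w hw, hx.2.1, mulVec_sub, mulVec_add,
    kronGL_pt, kronGL_pt, kronGL_pt, gl_mulVec_inv_mulVec, gl_mulVec_inv_mulVec, Units.val_one,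
    one_mulVec, one_mulVec]
  simp only [LinearMap.sub_apply, LinearMap.comp_apply, Matrix.toLin'_apply, pt_sub_left]
  abel

omit [DecidableEq F] in
/-- Isometries are transitive on orthogonal independent pairs. -/
lemma exists_iso_orth {v d v' d' : Fin b → F} (hd : d ∉ Submodule.span F {v})
    (hdv : f₂ d v = 0) (hv : v ≠ 0) (hv' : v' ≠ 0) (hd' : d' ∉ Submodule.span F {v'})
    (hdv' : f₂ d' v' = 0) :
    ∃ B ∈ isoOf f₂, (B : Matrix (Fin b) (Fin b) F) *ᵥ v = v' ∧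
      (B : Matrix (Fin b) (Fin b) F) *ᵥ d = d' := by
  classical
  have hf := H.pair.hf₂
  obtain ⟨B₁, hB₁, hB₁v⟩ := exists_iso_mulVec hf hv hv'
  have hB₁i := closure_sTv_le hf hB₁
  set d₁ := (B₁ : Matrix (Fin b) (Fin b) F) *ᵥ d with hd₁
  have hd₁v : f₂ d₁ v' = 0 := by rw [← hB₁v, hd₁, (mem_isoOf.1 hB₁i) d v, hdv]
  have hd₁n : d₁ ∉ Submodule.span F {v'} := fun e => by
    obtain ⟨c, hc⟩ := Submodule.mem_span_singleton.1 e
    refine hd (Submodule.mem_span_singleton.2 ⟨c, gl_mulVec_injective B₁ ?_⟩)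
    show _ *ᵥ _ = _ *ᵥ _
    rw [mulVec_smul, hB₁v, hc]
  have step : ∀ p q, f₂ p v' = 0 → f₂ q v' = 0 → f₂ p q ≠ 0 →
      ∃ B ∈ isoOf f₂, (B : Matrix (Fin b) (Fin b) F) *ᵥ v' = v' ∧
        (B : Matrix (Fin b) (Fin b) F) *ᵥ p = q := fun p q hp hq hpq =>
    ⟨_, sTv_mem_isoOf hf _ _, sTv_mulVec_of_orth hf _ (by
      rw [form_sub_right hf.bilinear, hf.skew v' q, hf.skew v' p, hp, hq]; ring),
      sTv_sub_mulVec hf hpq⟩
  obtain ⟨z₁, hz₁, hz₁'⟩ := exists_form_sep hf hd₁n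
  obtain ⟨z₂, hz₂, hz₂'⟩ := exists_form_sep hf hd'
  have e₁ : f₂ z₁ v' = 0 := by
    rw [hf.skew, hz₁ v' (Submodule.mem_span_singleton_self v'), neg_zero]
  have e₂ : f₂ z₂ v' = 0 := by
    rw [hf.skew, hz₂ v' (Submodule.mem_span_singleton_self v'), neg_zero]
  obtain ⟨r, hr, hr₁, hr₂⟩ : ∃ r, f₂ r v' = 0 ∧ f₂ d₁ r ≠ 0 ∧ f₂ d' r ≠ 0 := by
    by_cases h1 : f₂ d' z₁ = 0
    · by_cases h2 : f₂ d₁ z₂ = 0
      · exact ⟨z₁ + z₂, by rw [hf.bilinear.add_left, e₁, e₂, add_zero],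
          by rw [hf.bilinear.add_right, hz₁', h2, add_zero]; exact one_ne_zero,
          by rw [hf.bilinear.add_right, hz₂', h1, zero_add]; exact one_ne_zero⟩
      · exact ⟨z₂, e₂, h2, by rw [hz₂']; exact one_ne_zero⟩
    · exact ⟨z₁, e₁, by rw [hz₁']; exact one_ne_zero, h1⟩
  obtain ⟨B₂, hB₂, hB₂v, hB₂d⟩ := step d₁ r hd₁v hr hr₁
  obtain ⟨B₃, hB₃, hB₃v, hB₃d⟩ := step r d' hr hdv' (by rw [hf.skew]; exact neg_ne_zero.2 hr₂)
  exact ⟨B₃ * B₂ * B₁, mul_mem (mul_mem hB₃ hB₂) hB₁i,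
    by rw [gl_mulVec_mul, gl_mulVec_mul, hB₁v, hB₂v, hB₃v],
    by rw [gl_mulVec_mul, gl_mulVec_mul, ← hd₁, hB₂d, hB₃d]⟩

/-- One clean double root element gives all. -/
lemma good_of_one {K : (Fin a → F) →ₗ[F] (Fin a → F)} (hK : ∀ s t, f₁ (K s) t + f₁ s (K t) = 0)
    {v d : Fin b → F} (hv : v ≠ 0) (hd : d ∉ Submodule.span F {v}) (hdv : f₂ d v = 0)
    (h : ∃ g ∈ M, ∀ z, g •ᵥ z = z + pt (K (cv f₂ d z)) v - pt (K (cv f₂ v z)) d) :
    Good f₁ f₂ M K := by
  have P := H.pair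
  refine ⟨hK, fun v' y' hvy => ?_⟩
  obtain ⟨g, hg, hgz⟩ := h
  rcases eq_or_ne v' 0 with rfl | hv'
  · refine ⟨1, M.one_mem, fun z => ?_⟩
    rw [pt_zero_right, Units.val_one, one_mulVec,
      show cv f₂ (0 : Fin b → F) z = 0 by rw [← zero_smul F (0 : Fin b → F), cv_smul_vec P, zero_smul],
      map_zero, pt_zero_left]
    simp
  by_cases hy : y' ∈ Submodule.span F {v'}
  · obtain ⟨c, rfl⟩ := Submodule.mem_span_singleton.1 hy
    refine ⟨1, M.one_mem, fun z => ?_⟩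
    rw [cv_smul_vec P, map_smul, pt_smul_left, pt_smul_right, Units.val_one, one_mulVec]
    abel
  obtain ⟨B, hB, hBv, hBd⟩ := exists_iso_orth H hd hdv hv hv' hy
    (by rw [P.hf₂.skew, hvy, neg_zero])
  set m := kronGL (1 : GL (Fin a) F) B
  refine ⟨m * g * m⁻¹, M.mul_mem (M.mul_mem (H.memW B hB) hg) (M.inv_mem (H.memW B hB)),
    fun z => ?_⟩
  rw [gl_mulVec_mul, gl_mulVec_mul, hgz, mulVec_sub, mulVec_add, gl_mulVec_inv_mulVec, kronGL_pt,
    kronGL_pt, Units.val_one, one_mulVec, one_mulVec, hBv, hBd]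
  have e : ∀ y, cv f₂ ((B : Matrix (Fin b) (Fin b) F) *ᵥ y) z = cv f₂ y (m⁻¹ •ᵥ z) := fun y => by
    conv_lhs => rw [← gl_mulVec_inv_mulVec m z]
    exact cv_kron_one H hB y _
  rw [← e d, ← e v, hBv, hBd]

/-- A radical element with a skew map gives a clean double root element. -/
lemma Rad.good {v : Fin b → F} (hv : v ≠ 0) {x : GL (Fin a × Fin b) F}
    {L : (Fin b → F) → ((Fin a → F) →ₗ[F] (Fin a → F))} (hx : Rad f₂ M v x L) {y : Fin b → F}
    (hy : f₂ y v = 0) (hyn : y ∉ Submodule.span F {v})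
    (hK : ∀ s t, f₁ (L y s) t + f₁ s (L y t) = 0) : Good f₁ f₂ M (L y) := by
  classical
  have P := H.pair
  have hf₂ := P.hf₂
  have hvy : f₂ v y = 0 := by rw [hf₂.skew, hy, neg_zero]
  set K := L y
  set m := kronGL (1 : GL (Fin a) F) (sTv f₂ y 1)
  have hmM : m ∈ M := H.memW _ (sTv_mem_isoOf hf₂ y 1)
  set x₂ := m * x * m⁻¹ * x⁻¹
  have hx₂M : x₂ ∈ M := M.mul_mem (M.mul_mem (M.mul_mem hmM hx.1) (M.inv_mem hmM)) (M.inv_mem hx.1)
  have hm_fix : ∀ u, m •ᵥ pt u v = pt u v := fun u => by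
    rw [kronGL_pt, Units.val_one, one_mulVec, sTv_mulVec_of_orth hf₂ _ hvy]
  have hxi : ∀ u, x⁻¹ •ᵥ pt u v = pt u v := fun u => gl_mulVec_injective x (by
    show _ *ᵥ _ = _ *ᵥ _
    rw [gl_mulVec_inv_mulVec, hx.2.1])
  have hmi_fix : ∀ u, m⁻¹ •ᵥ pt u v = pt u v := fun u => gl_mulVec_injective m (by
    show _ *ᵥ _ = _ *ᵥ _
    rw [gl_mulVec_inv_mulVec, hm_fix])
  have hfix₂ : ∀ u, x₂ •ᵥ pt u v = pt u v := fun u => by
    rw [gl_mulVec_mul, gl_mulVec_mul, gl_mulVec_mul, hxi, hmi_fix, hx.2.1, hm_fix]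
  have hact₂ : ∀ w, f₂ w v = 0 → ∀ u, x₂ •ᵥ pt u w = pt u w + pt (((-f₂ w y) • K) u) v := by
    intro w hw u
    have hxw : x⁻¹ •ᵥ pt u w = pt u w - pt (L w u) v := gl_mulVec_injective x (by
      show _ *ᵥ _ = _ *ᵥ _
      rw [gl_mulVec_inv_mulVec, mulVec_sub, hx.2.2 w hw, hx.2.1, add_sub_cancel_right])
    have hmw : m⁻¹ •ᵥ pt u w = pt u (w + (-f₂ w y) • y) := by
      rw [show m⁻¹ = kronGL 1 (sTv f₂ y 1)⁻¹ by rw [kronGL_inv, inv_one], kronGL_pt,
        sTv_inv_act H hf₂, Units.val_one, one_mulVec, one_mul, neg_smul, sub_eq_add_neg]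
    have hwy : f₂ (w + (-f₂ w y) • y) v = 0 := by
      rw [hf₂.bilinear.add_left, hf₂.bilinear.smul_left, hw, hy]; simp
    rw [gl_mulVec_mul, gl_mulVec_mul, gl_mulVec_mul, hxw, mulVec_sub, hmi_fix, hmw, mulVec_sub,
      hx.2.1, hx.2.2 _ hwy, mulVec_sub, mulVec_add, hm_fix, hm_fix, hx.lin H hv hw hy,
      ← hmw, gl_mulVec_inv_mulVec, pt_add_left, LinearMap.smul_apply]
    abel
  have hR₂ : Rad f₂ M v x₂ fun w => (-f₂ w y) • K := ⟨hx₂M, hfix₂, hact₂⟩
  obtain ⟨v', hv'1, hv'2⟩ := exists_partner hf₂ hv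
  have hv'3 : f₂ v (-v') = 1 := by rw [form_neg_right hf₂.bilinear, hv'2, neg_neg]
  let D : (Fin a × Fin b → F) →ₗ[F] (Fin a × Fin b → F) :=
    Matrix.toLin' x₂.val - LinearMap.id + (ptR v).comp (K.comp (cv f₂ y))
      - (ptR y).comp (K.comp (cv f₂ v))
  have hD0 : ∀ z, cv f₂ v z = 0 → D z = 0 := by
    intro z hz
    rw [pt_sum_left z, map_sum]
    refine Finset.sum_eq_zero fun i _ => ?_
    have hrow := rows_orth P hz i
    simp only [D, LinearMap.sub_apply, LinearMap.add_apply, LinearMap.comp_apply,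
      Matrix.toLin'_apply, LinearMap.id_coe, id_eq, ptR_apply, hact₂ _ hrow, cv_pt P, hrow,
      zero_smul, map_zero, pt_zero_left, sub_zero, LinearMap.smul_apply, map_smul, neg_smul,
      pt_neg_left, pt_smul_left]
    abel
  have hDline : ∀ z, D z = pt (cv f₂ (-v') (D z)) v := fun z => eq_ptv P hv'3 fun w hw => by
    refine form_ext P.hf₁ fun u => ?_
    simp only [D, LinearMap.sub_apply, LinearMap.add_apply, LinearMap.comp_apply,
      Matrix.toLin'_apply, LinearMap.id_coe, id_eq, ptR_apply, map_sub, map_add, cv_pt P]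
    rw [show f₂ v w = 0 by rw [hf₂.skew, hw, neg_zero], zero_smul, add_zero,
      form_sub_left P.hf₁.bilinear, hR₂.cv_orth H hw z u, LinearMap.smul_apply,
      P.hf₁.bilinear.smul_right, P.hf₁.bilinear.smul_left, form_zero_left P.hf₁.bilinear,
      hf₂.skew y w]
    linear_combination (f₂ w y) * hK (cv f₂ v z) u
  set S : (Fin a → F) →ₗ[F] (Fin a → F) := ((cv f₂ (-v')).comp D).comp (ptR v') with hS
  have hx₂z : ∀ z, x₂ •ᵥ z = z - pt (K (cv f₂ y z)) v + pt (K (cv f₂ v z)) y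
      + pt (S (cv f₂ v z)) v := by
    intro z
    have e : D z = pt (S (cv f₂ v z)) v := by
      have h0 := hD0 (z - pt (cv f₂ v z) v') (by rw [map_sub, cv_pt P, hv'1, one_smul, sub_self])
      rw [map_sub, sub_eq_zero] at h0
      rw [h0, hS, LinearMap.comp_apply, LinearMap.comp_apply, ptR_apply, ← hDline]
    simp only [D, LinearMap.sub_apply, LinearMap.add_apply, LinearMap.comp_apply,
      Matrix.toLin'_apply, LinearMap.id_coe, id_eq, ptR_apply] at e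
    rw [← e]; abel
  obtain ⟨d, hd, hdn⟩ := exists_orth_extend hf₂.bilinear ![v, y] (by
    simp only [Fintype.card_fin]; have := P.five_le; omega)
  have hvd : f₂ v d = 0 := hd 0
  have hyd : f₂ y d = 0 := hd 1
  have hdv : f₂ d v = 0 := by rw [hf₂.skew, hvd, neg_zero]
  obtain ⟨r, hr, hr1⟩ := exists_form_sep hf₂ (S := Submodule.span F {v} ⊔ Submodule.span F {d})
    (w := y) (fun hmem => by
      obtain ⟨p, hp, q, hq, hpq⟩ := Submodule.mem_sup.1 hmem
      obtain ⟨c₁, rfl⟩ := Submodule.mem_span_singleton.1 hp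
      obtain ⟨c₂, rfl⟩ := Submodule.mem_span_singleton.1 hq
      rcases eq_or_ne c₂ 0 with rfl | hc₂
      · exact hyn (Submodule.mem_span_singleton.2 ⟨c₁, by rw [← hpq, zero_smul, add_zero]⟩)
      · refine hdn ?_
        have : d = c₂⁻¹ • (y - c₁ • v) := by
          rw [← hpq, add_sub_cancel_left, inv_smul_smul₀ hc₂]
        rw [this]
        exact Submodule.smul_mem _ _ (Submodule.sub_mem _ (Submodule.subset_span ⟨1, rfl⟩)
          (Submodule.smul_mem _ _ (Submodule.subset_span ⟨0, rfl⟩))))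
  have hvr : f₂ v r = 0 := hr v (Submodule.mem_sup_left (Submodule.mem_span_singleton_self v))
  have hdr : f₂ d r = 0 := hr d (Submodule.mem_sup_right (Submodule.mem_span_singleton_self d))
  have hrd : f₂ r d = 0 := by rw [hf₂.skew, hdr, neg_zero]
  set B := sh f₂ r d 1
  set n := kronGL (1 : GL (Fin a) F) B
  have hnM : n ∈ M := H.memW _ (sh_mem_isoOf hf₂ _ _ _)
  have hBv : (B : Matrix (Fin b) (Fin b) F) *ᵥ v = v := by
    rw [sh_mulVec hf₂ hrd, hvd, hvr]; simp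
  have hBy : (B : Matrix (Fin b) (Fin b) F) *ᵥ y = y + d := by
    rw [sh_mulVec hf₂ hrd, hyd, hr1]; simp
  have e : ∀ w z, cv f₂ ((B : Matrix (Fin b) (Fin b) F) *ᵥ w) z = cv f₂ w (n⁻¹ •ᵥ z) := fun w z => by
    conv_lhs => rw [← gl_mulVec_inv_mulVec n z]
    exact cv_kron_one H (sh_mem_isoOf hf₂ _ _ _) w _
  have hx₃ : ∀ z, (x₂ * (n * x₂⁻¹ * n⁻¹)) •ᵥ z =
      z + pt (K (cv f₂ d z)) v - pt (K (cv f₂ v z)) d := by
    intro z
    have hinv : ∀ z, x₂⁻¹ •ᵥ z = z + pt (K (cv f₂ y z)) v - pt (K (cv f₂ v z)) y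
        - pt (S (cv f₂ v z)) v := fun z => gl_mulVec_injective x₂ (by
      show _ *ᵥ _ = _ *ᵥ _
      rw [gl_mulVec_inv_mulVec, hx₂z]
      simp only [map_sub, map_add, cv_pt_self P, cv_pt P, hy, hvy, zero_smul, sub_zero, add_zero,
        map_zero, pt_zero_left]
      abel)
    rw [gl_mulVec_mul x₂, gl_mulVec_mul (n * x₂⁻¹), gl_mulVec_mul n, hinv, ← e y, ← e v, hBy, hBv,
      cv_add_vec P, map_add]
    simp only [mulVec_sub, mulVec_add, gl_mulVec_inv_mulVec]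
    simp only [n, kronGL_pt, Units.val_one, one_mulVec, hBv, hBy]
    simp only [hx₂z]
    simp only [map_sub, map_add, cv_pt_self P, cv_pt P, hy, hvy, hdv, hyd,
      show f₂ d y = 0 by rw [hf₂.skew, hyd, neg_zero], hf₂.alternating, zero_smul,
      sub_zero, add_zero, zero_add, map_zero, pt_zero_left, pt_add_left, pt_add_right]
    abel
  exact good_of_one H hK hv (fun hm' => hdn (Submodule.span_mono (by simp) hm')) hdv
    ⟨_, M.mul_mem hx₂M (M.mul_mem (M.mul_mem hnM (M.inv_mem hx₂M)) (M.inv_mem hnM)), hx₃⟩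

lemma Good.sub {K K' : (Fin a → F) →ₗ[F] (Fin a → F)} (h : Good f₁ f₂ M K) (h' : Good f₁ f₂ M K') :
    Good f₁ f₂ M (K - K') := by
  have P := H.pair
  refine ⟨fun s t => ?_, fun v y hvy => ?_⟩
  · simp only [LinearMap.sub_apply, form_sub_left P.hf₁.bilinear, form_sub_right P.hf₁.bilinear]
    linear_combination h.1 s t - h'.1 s t
  have hyv : f₂ y v = 0 := by rw [P.hf₂.skew, hvy, neg_zero]
  obtain ⟨g, hg, hgz⟩ := h.2 v y hvy
  obtain ⟨g', hg', hgz'⟩ := h'.2 v y hvy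
  refine ⟨g'⁻¹ * g, M.mul_mem (M.inv_mem hg') hg, fun z => gl_mulVec_injective g' ?_⟩
  show _ *ᵥ _ = _ *ᵥ _
  rw [gl_mulVec_mul, gl_mulVec_inv_mulVec, hgz, hgz']
  simp only [map_sub, map_add, cv_pt P, P.hf₂.alternating, hvy, hyv, zero_smul, sub_zero, add_zero,
    map_zero, pt_zero_left, LinearMap.sub_apply, pt_sub_left]
  abel

lemma Good.smul {K : (Fin a → F) →ₗ[F] (Fin a → F)} (h : Good f₁ f₂ M K) (c : F) :
    Good f₁ f₂ M (c • K) := by
  have P := H.pair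
  refine ⟨fun s t => ?_, fun v y hvy => ?_⟩
  · simp only [LinearMap.smul_apply, P.hf₁.bilinear.smul_left, P.hf₁.bilinear.smul_right]
    linear_combination c * h.1 s t
  obtain ⟨g, hg, hgz⟩ := h.2 (c • v) y (by rw [P.hf₂.bilinear.smul_left, hvy, mul_zero])
  refine ⟨g, hg, fun z => ?_⟩
  rw [hgz, cv_smul_vec P, map_smul, pt_smul_right, pt_smul_left, LinearMap.smul_apply,
    pt_smul_left, LinearMap.smul_apply, pt_smul_left]

lemma Good.conj {K : (Fin a → F) →ₗ[F] (Fin a → F)} (h : Good f₁ f₂ M K) {A : GL (Fin a) F}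
    (hA : A ∈ isoOf f₁) : Good f₁ f₂ M
      ((Matrix.toLin' A.val).comp (K.comp (Matrix.toLin' (A⁻¹ : GL (Fin a) F).val))) := by
  refine ⟨fun s t => ?_, fun v y hvy => ?_⟩
  · simp only [LinearMap.comp_apply, Matrix.toLin'_apply]
    have hAi := (isoOf f₁).inv_mem hA
    rw [form_mulVec_left hA, show ∀ q, f₁ s ((A : Matrix (Fin a) (Fin a) F) *ᵥ q) =
        f₁ (((A⁻¹ : GL (Fin a) F) : Matrix (Fin a) (Fin a) F) *ᵥ s) q from fun q => by
      rw [form_mulVec_left hAi, inv_inv]]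
    exact h.1 _ _
  obtain ⟨g, hg, hgz⟩ := h.2 v y hvy
  set m := kronGL A (1 : GL (Fin b) F)
  refine ⟨m * g * m⁻¹, M.mul_mem (M.mul_mem (H.memU A hA) hg) (M.inv_mem (H.memU A hA)),
    fun z => ?_⟩
  rw [gl_mulVec_mul, gl_mulVec_mul, hgz, mulVec_sub, mulVec_add, gl_mulVec_inv_mulVec, kronGL_pt,
    kronGL_pt, Units.val_one, one_mulVec, one_mulVec,
    show m⁻¹ = kronGL A⁻¹ (1 : GL (Fin b) F) by rw [kronGL_inv, inv_one], cv_kron_left H,
    cv_kron_left H]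
  simp only [LinearMap.comp_apply, Matrix.toLin'_apply]

end CfsgLib.ClassicalMax.TensorSymp
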