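/-
Radical elements above a symplectic tensor stabiliser without a long root element outside have
scalar maps.
-/
import Cfsg.Agent.Lib.ClassicalMax.TensorSympRad
set_option autoImplicit false
set_option linter.unusedSectionVars false

namespace CfsgLib.ClassicalMax.TensorSymp

open Matrix Kronecker Module Cfsg.Geo QuadraticMap
open CfsgLib.ClassicalMax.Kron

variable {F : Type*} [Field F] [DecidableEq F] {a b : ℕ}
  {Q : QuadraticForm F (Fin a × Fin b → F)} {f₁ : (Fin a → F) → (Fin a → F) → F}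
  {f₂ : (Fin b → F) → (Fin b → F) → F} {M : Subgroup (GL (Fin a × Fin b) F)}

/-- The action of an element on a vector. -/
local notation:80 g:81 " •ᵥ " z:80 => Matrix.mulVec (Units.val g) z

/-- The conjugate of a map by a matrix. -/
def cmap {k : ℕ} (A : GL (Fin k) F) (L : (Fin k → F) →ₗ[F] (Fin k → F)) :
    (Fin k → F) →ₗ[F] (Fin k → F) :=
  (Matrix.toLin' A.val).comp (L.comp (Matrix.toLin' (A⁻¹ : GL (Fin k) F).val))

/-- The skew map of two vectors. -/
def shMap {k : ℕ} {f : (Fin k → F) → (Fin k → F) → F} (hf : IsSymplecticForm f) (u r : Fin k → F) :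
    (Fin k → F) →ₗ[F] (Fin k → F) :=
  ((bilinOf hf.bilinear).flip r).smulRight u + ((bilinOf hf.bilinear).flip u).smulRight r

lemma shMap_apply {k : ℕ} {f : (Fin k → F) → (Fin k → F) → F} (hf : IsSymplecticForm f)
    (u r s : Fin k → F) : shMap hf u r s = f s r • u + f s u • r := by
  simp [shMap]

lemma cmap_shMap {k : ℕ} {f : (Fin k → F) → (Fin k → F) → F} (hf : IsSymplecticForm f)
    {A : GL (Fin k) F} (hA : A ∈ isoOf f) (u r : Fin k → F) :
    cmap A (shMap hf u r) = shMap hf (A •ᵥ u) (A •ᵥ r) := by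
  refine LinearMap.ext fun s => ?_
  simp only [cmap, LinearMap.comp_apply, Matrix.toLin'_apply, shMap_apply, mulVec_add, mulVec_smul]
  rw [form_mulVec_left ((isoOf f).inv_mem hA), form_mulVec_left ((isoOf f).inv_mem hA), inv_inv]

variable (H : Hyp Q f₁ f₂ M)
include H

/-- The difference of a radical map and its conjugate is good. -/
lemma Rad.goodU (hno : ¬ HasRoot Q f₂ M) {v : Fin b → F} (hv : v ≠ 0) {x : GL (Fin a × Fin b) F}
    {L : (Fin b → F) → ((Fin a → F) →ₗ[F] (Fin a → F))} (hx : Rad f₂ M v x L) {y : Fin b → F}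
    (hy : f₂ y v = 0) (hyn : y ∉ Submodule.span F {v}) {A : GL (Fin a) F} (hA : A ∈ isoOf f₁) :
    Good f₁ f₂ M (cmap A (L y) - L y) := by
  obtain ⟨c, hc⟩ := hx.trace H hno hv hy
  refine (hx.conjU H hA).good H hv hy hyn fun s t => ?_
  have hf₁ := H.pair.hf₁
  have hAi := (isoOf f₁).inv_mem hA
  simp only [LinearMap.sub_apply, LinearMap.comp_apply, Matrix.toLin'_apply,
    form_sub_left hf₁.bilinear, form_sub_right hf₁.bilinear]
  rw [form_mulVec_left hA, show ∀ q, f₁ s (A •ᵥ q) = f₁ ((A⁻¹ : GL (Fin a) F) •ᵥ s) q from fun q => by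
    rw [form_mulVec_left hAi, inv_inv]]
  linear_combination hc ((A⁻¹ : GL (Fin a) F) •ᵥ s) ((A⁻¹ : GL (Fin a) F) •ᵥ t) - hc s t
    + c * (mem_isoOf.1 hAi) s t

/-- Conjugation by a transvection. -/
lemma cmap_sTv_sub (u : Fin a → F) (t : F) (L : (Fin a → F) →ₗ[F] (Fin a → F)) (s : Fin a → F) :
    (cmap (sTv f₁ u t) L - L) s =
      (t * f₁ (L s) u) • u - (t * f₁ s u) • L u - (t * t * (f₁ s u * f₁ (L u) u)) • u := by
  have hf₁ := H.pair.hf₁
  simp only [cmap, LinearMap.sub_apply, LinearMap.comp_apply, Matrix.toLin'_apply, sTv_inv_act H hf₁,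
    map_sub, map_smul, sTv_mulVec hf₁, form_sub_left hf₁.bilinear, hf₁.bilinear.smul_left]
  module

/-- A good rank-one map gives a long root element. -/
lemma hasRoot_of_good {u : Fin a → F} (hu : u ≠ 0) {N : (Fin a → F) →ₗ[F] (Fin a → F)}
    (hN : Good f₁ f₂ M N) (hNs : ∀ s, N s = f₁ s u • u) : HasRoot Q f₂ M := by
  have P := H.pair
  have hf₂ := P.hf₂
  obtain ⟨v, hv⟩ : ∃ v : Fin b → F, v ≠ 0 := ⟨Pi.single ⟨0, by have := P.five_le; omega⟩ 1,
    fun h => one_ne_zero (α := F) (by simpa using congrFun h ⟨0, by have := P.five_le; omega⟩)⟩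
  obtain ⟨r, hr, hrn⟩ := exists_orth_extend hf₂.bilinear ![v] (by
    simp only [Fintype.card_fin]; have := P.five_le; omega)
  have hvr : f₂ v r = 0 := hr 0
  have hrv : f₂ r v = 0 := by rw [hf₂.skew, hvr, neg_zero]
  obtain ⟨g, hg, hgz⟩ := hN.2 v r hvr
  refine ⟨u, v, -r, hu, hv, fun e => hrn ?_, ?_, ?_, g, hg, fun z => ?_⟩
  · have := Submodule.neg_mem _ e
    simpa using this
  · rw [← neg_one_smul F r, hf₂.bilinear.smul_left, hrv, mul_zero]
  · rw [P.polar_pt, P.hf₁.alternating, zero_mul]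
  · rw [hgz, hNs, hNs, pt_smul_left, pt_smul_left, P.Q_pt, pt_neg_right, polar_neg_right,
      polar_ptv P, polar_ptv P]
    module

/-- Two good maps give a radical element. -/
lemma Good.comm {K K' : (Fin a → F) →ₗ[F] (Fin a → F)} (hK : Good f₁ f₂ M K) (hK' : Good f₁ f₂ M K')
    {v : Fin b → F} (hv : v ≠ 0) :
    ∃ (C : GL (Fin a × Fin b) F) (r : Fin b → F), f₂ r v = 0 ∧ r ∉ Submodule.span F {v} ∧
      Rad f₂ M v C fun w => f₂ w r • K.comp K' := by
  have P := H.pair
  have hf₂ := P.hf₂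
  obtain ⟨y, hy, hyn⟩ := exists_orth_extend hf₂.bilinear ![v] (by
    simp only [Fintype.card_fin]; have := P.five_le; omega)
  obtain ⟨r, hr, hrn⟩ := exists_orth_extend hf₂.bilinear ![v, y] (by
    simp only [Fintype.card_fin]; have := P.five_le; omega)
  have hvy : f₂ v y = 0 := hy 0
  have hvr : f₂ v r = 0 := hr 0
  have hrv : f₂ r v = 0 := by rw [hf₂.skew, hvr, neg_zero]
  have hyr : f₂ y r = 0 := hr 1
  have hry : f₂ r y = 0 := by rw [hf₂.skew, hyr, neg_zero]
  obtain ⟨z, hz, hz1⟩ := exists_form_sep hf₂ (S := Submodule.span F {v} ⊔ Submodule.span F {r})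
    (w := y) (fun hmem => by
      obtain ⟨p, hp, q, hq, hpq⟩ := Submodule.mem_sup.1 hmem
      obtain ⟨c₁, rfl⟩ := Submodule.mem_span_singleton.1 hp
      obtain ⟨c₂, rfl⟩ := Submodule.mem_span_singleton.1 hq
      rcases eq_or_ne c₂ 0 with rfl | hc₂
      · refine hyn ?_
        rw [← hpq, zero_smul, add_zero]
        exact Submodule.smul_mem _ _ (Submodule.subset_span ⟨0, rfl⟩)
      · refine hrn ?_
        have : r = c₂⁻¹ • (y - c₁ • v) := by
          rw [← hpq, add_sub_cancel_left, inv_smul_smul₀ hc₂]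
        rw [this]
        exact Submodule.smul_mem _ _ (Submodule.sub_mem _ (Submodule.subset_span ⟨1, rfl⟩)
          (Submodule.smul_mem _ _ (Submodule.subset_span ⟨0, rfl⟩))))
  have hvz : f₂ v z = 0 := hz v (Submodule.mem_sup_left (Submodule.mem_span_singleton_self v))
  have hrz : f₂ r z = 0 := hz r (Submodule.mem_sup_right (Submodule.mem_span_singleton_self r))
  set y' := -z with hy'
  have hy'v : f₂ y' v = 0 := by
    rw [hf₂.skew, hy', form_neg_right hf₂.bilinear, hvz]; simp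
  have hvy' : f₂ v y' = 0 := by rw [hy', form_neg_right hf₂.bilinear, hvz, neg_zero]
  have hy'r : f₂ y' r = 0 := by
    rw [hf₂.skew, hy', form_neg_right hf₂.bilinear, hrz]; simp
  have hry' : f₂ r y' = 0 := by rw [hy', form_neg_right hf₂.bilinear, hrz, neg_zero]
  have hy'y : f₂ y' y = 1 := by
    rw [hf₂.skew, hy', form_neg_right hf₂.bilinear, hz1, neg_neg]
  obtain ⟨g₁, hg₁, hg₁z⟩ := hK.2 v y hvy
  obtain ⟨g₂, hg₂, hg₂z⟩ := hK'.2 y' r hy'r
  have hg₁i : ∀ z, g₁⁻¹ •ᵥ z = z - pt (K (cv f₂ y z)) v + pt (K (cv f₂ v z)) y := fun z =>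
    gl_mulVec_injective g₁ (by
      show _ *ᵥ _ = _ *ᵥ _
      rw [gl_mulVec_inv_mulVec, hg₁z]
      simp only [map_sub, map_add, cv_pt P, hf₂.alternating, hvy,
        show f₂ y v = 0 by rw [hf₂.skew, hvy, neg_zero], zero_smul, sub_zero, add_zero, map_zero,
        pt_zero_left]
      abel)
  have hg₂i : ∀ z, g₂⁻¹ •ᵥ z = z - pt (K' (cv f₂ r z)) y' + pt (K' (cv f₂ y' z)) r := fun z =>
    gl_mulVec_injective g₂ (by
      show _ *ᵥ _ = _ *ᵥ _
      rw [gl_mulVec_inv_mulVec, hg₂z]
      simp only [map_sub, map_add, cv_pt P, hf₂.alternating, hy'r, hry', zero_smul, sub_zero,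
        add_zero, map_zero, pt_zero_left]
      abel)
  refine ⟨g₁ * g₂ * g₁⁻¹ * g₂⁻¹, r, hrv, fun e => hrn (Submodule.span_mono (by simp) e),
    M.mul_mem (M.mul_mem (M.mul_mem hg₁ hg₂) (M.inv_mem hg₁)) (M.inv_mem hg₂), fun u => ?_,
    fun w hw u => ?_⟩
  · rw [gl_mulVec_mul, gl_mulVec_mul, gl_mulVec_mul, hg₂i]
    simp only [cv_pt P, hvr, hvy', zero_smul, map_zero, pt_zero_left, sub_zero, add_zero, hg₁i, hvy,
      hf₂.alternating, hg₂z, hg₁z]
  · rw [gl_mulVec_mul, gl_mulVec_mul, gl_mulVec_mul, hg₂i]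
    simp only [hg₁i, hg₂z, hg₁z, map_add, map_sub, map_smul, cv_pt P, hvy, hvr, hvy', hrv, hry, hy'v,
      hy'r, hry', hy'y, hw, hf₂.alternating, zero_smul, one_smul, map_zero, pt_zero_left, sub_zero,
      add_zero, zero_sub, neg_neg, smul_zero, LinearMap.smul_apply, LinearMap.comp_apply,
      pt_smul_left, pt_sub_left, pt_add_left, pt_neg_left]
    module

/-- Radical elements have scalar maps. -/
theorem Rad.scalar (hno : ¬ HasRoot Q f₂ M) {v : Fin b → F} (hv : v ≠ 0) {x : GL (Fin a × Fin b) F}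
    {L : (Fin b → F) → ((Fin a → F) →ₗ[F] (Fin a → F))} (hx : Rad f₂ M v x L) {y : Fin b → F}
    (hy : f₂ y v = 0) : ∃ c : F, ∀ u, L y u = c • u := by
  have P := H.pair
  have hf₁ := P.hf₁
  have hf₂ := P.hf₂
  by_cases hyn : y ∈ Submodule.span F {v}
  · obtain ⟨t, rfl⟩ := Submodule.mem_span_singleton.1 hyn
    refine ⟨0, fun u => ptR_injective hv ?_⟩
    have h := hx.2.2 _ hy u
    rw [pt_smul_right, mulVec_smul, hx.2.1] at h
    simpa [pt_zero_left] using h
  refine scalar_of_eig (by have := P.two_le; omega) _ fun u => ?_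
  by_contra hk
  set k := L y u with hkdef
  have hu : u ≠ 0 := fun e => hk (by rw [hkdef, e, map_zero]; exact Submodule.zero_mem _)
  have hK := fun t => hx.goodU H hno hv hy hyn (sTv_mem_isoOf hf₁ u t)
  by_cases ha : 3 ≤ a
  · obtain ⟨c, hc⟩ := hx.trace H hno hv hy
    obtain ⟨z, hz, hz1⟩ := exists_form_sep hf₁ hk
    have huz : f₁ u z = 0 := hz u (Submodule.mem_span_singleton_self u)
    obtain ⟨r₀, hr₀, hr₀n⟩ := exists_orth_extend hf₁.bilinear ![u] (by
      simp only [Fintype.card_fin]; omega)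
    have hur₀ : f₁ u r₀ = 0 := hr₀ 0
    have hr₀n' : r₀ ∉ Submodule.span F {u} := fun e => hr₀n (by simpa using e)
    obtain ⟨r, hur, hkr, hrn⟩ : ∃ r, f₁ u r = 0 ∧ f₁ k r = 1 ∧ r ∉ Submodule.span F {u} := by
      by_cases hzn : z ∈ Submodule.span F {u}
      · refine ⟨r₀ + (1 - f₁ k r₀) • z, ?_, ?_, fun e => ?_⟩
        · rw [hf₁.bilinear.add_right, hf₁.bilinear.smul_right, hur₀, huz]
          simp
        · rw [hf₁.bilinear.add_right, hf₁.bilinear.smul_right, hz1]
          ring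
        refine hr₀n' ?_
        simpa using Submodule.sub_mem _ e (Submodule.smul_mem _ (1 - f₁ k r₀) hzn)
      · exact ⟨z, huz, hz1, hzn⟩
    have hru : f₁ r u = 0 := by rw [hf₁.skew, hur, neg_zero]
    have hrk : f₁ r k = -1 := by rw [hf₁.skew, hkr]
    -- a short map
    set K₁ := cmap (sTv f₁ u 1) (L y) - L y with hK₁
    have hK₁r : K₁ r = u := by
      have hLr : f₁ (L y r) u = 1 := by
        have := hc r u
        rw [← hkdef, hrk, hru] at this
        linear_combination this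
      rw [hK₁, cmap_sTv_sub H, hLr, hru]
      simp
    have hshort : Good f₁ f₂ M (shMap hf₁ u r) := by
      have h := ((hK 1).conj H (sTv_mem_isoOf hf₁ r 1)).sub H (hK 1)
      have e : cmap (sTv f₁ r 1) K₁ - K₁ = (-1 : F) • shMap hf₁ u r := by
        refine LinearMap.ext fun s => ?_
        have hskew : f₁ (K₁ s) r = -f₁ s u := by
          have := (hK 1).1 s r
          rw [← hK₁, hK₁r] at this
          linear_combination this
        rw [cmap_sTv_sub H, hK₁r, hskew, LinearMap.smul_apply, shMap_apply, hur]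
        module
      have h' : Good f₁ f₂ M (cmap (sTv f₁ r 1) K₁ - K₁) := h
      rw [e] at h'
      have := h'.smul H (-1)
      rwa [smul_smul, neg_one_mul, neg_neg, one_smul] at this
    -- a complementary short map
    obtain ⟨z₁, hz₁, hz₁1⟩ := exists_form_sep hf₁ (S := Submodule.span F {r}) (w := u) (fun e => by
      obtain ⟨c', hc'⟩ := Submodule.mem_span_singleton.1 e
      rcases eq_or_ne c' 0 with rfl | hc'0
      · exact hu (by rw [← hc', zero_smul])
      · exact hrn (Submodule.mem_span_singleton.2 ⟨c'⁻¹, by rw [← hc', inv_smul_smul₀ hc'0]⟩))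
    set r₁ := -z₁ with hr₁
    have hr₁u : f₁ r₁ u = 1 := by
      rw [hf₁.skew, hr₁, form_neg_right hf₁.bilinear, hz₁1, neg_neg]
    have hur₁ : f₁ u r₁ = -1 := by rw [hr₁, form_neg_right hf₁.bilinear, hz₁1]
    have hrr₁ : f₁ r r₁ = 0 := by
      rw [hr₁, form_neg_right hf₁.bilinear, hz₁ r (Submodule.mem_span_singleton_self r), neg_zero]
    have hr₁r : f₁ r₁ r = 0 := by rw [hf₁.skew, hrr₁, neg_zero]
    have h1 : Good f₁ f₂ M (shMap hf₁ r₁ r) := by
      have h := Good.sub H hshort (hshort.conj H (sTv_mem_isoOf hf₁ r₁ 1))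
      have e : shMap hf₁ u r - cmap (sTv f₁ r₁ 1) (shMap hf₁ u r) = shMap hf₁ r₁ r := by
        rw [cmap_shMap hf₁ (sTv_mem_isoOf hf₁ r₁ 1)]
        refine LinearMap.ext fun s => ?_
        simp only [LinearMap.sub_apply, shMap_apply, sTv_mulVec hf₁, hur₁, hrr₁, one_mul, zero_smul,
          add_zero, hf₁.bilinear.add_right, hf₁.bilinear.smul_right]
        module
      rw [← e]
      exact h
    obtain ⟨z₂, hz₂, hz₂1⟩ := exists_form_sep hf₁ (S := Submodule.span F {u} ⊔ Submodule.span F {r₁})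
      (w := r) (fun hmem => by
        obtain ⟨p, hp, q, hq, hpq⟩ := Submodule.mem_sup.1 hmem
        obtain ⟨c₁, rfl⟩ := Submodule.mem_span_singleton.1 hp
        obtain ⟨c₂, rfl⟩ := Submodule.mem_span_singleton.1 hq
        have hc₂ : c₂ = 0 := by
          have := hru
          rw [← hpq, hf₁.bilinear.add_left, hf₁.bilinear.smul_left, hf₁.bilinear.smul_left,
            hf₁.alternating, hr₁u] at this
          linear_combination this
        exact hrn (Submodule.mem_span_singleton.2 ⟨c₁, by rw [← hpq, hc₂, zero_smul, add_zero]⟩))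
    set s₁ := -z₂ with hs₁
    have hrs₁ : f₁ r s₁ = -1 := by rw [hs₁, form_neg_right hf₁.bilinear, hz₂1]
    have hs₁r : f₁ s₁ r = 1 := by rw [hf₁.skew, hrs₁, neg_neg]
    have hus₁ : f₁ u s₁ = 0 := by
      rw [hs₁, form_neg_right hf₁.bilinear,
        hz₂ u (Submodule.mem_sup_left (Submodule.mem_span_singleton_self u)), neg_zero]
    have hs₁u : f₁ s₁ u = 0 := by rw [hf₁.skew, hus₁, neg_zero]
    have hr₁s₁ : f₁ r₁ s₁ = 0 := by
      rw [hs₁, form_neg_right hf₁.bilinear,
        hz₂ r₁ (Submodule.mem_sup_right (Submodule.mem_span_singleton_self r₁)), neg_zero]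
    have h2 : Good f₁ f₂ M (shMap hf₁ r₁ s₁) := by
      have h := Good.sub H h1 (h1.conj H (sTv_mem_isoOf hf₁ s₁ 1))
      have e : shMap hf₁ r₁ r - cmap (sTv f₁ s₁ 1) (shMap hf₁ r₁ r) = shMap hf₁ r₁ s₁ := by
        rw [cmap_shMap hf₁ (sTv_mem_isoOf hf₁ s₁ 1)]
        refine LinearMap.ext fun s => ?_
        simp only [LinearMap.sub_apply, shMap_apply, sTv_mulVec hf₁, hrs₁, hr₁s₁, one_mul, zero_smul,
          mul_zero, add_zero, hf₁.bilinear.add_right, hf₁.bilinear.smul_right]
        module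
      rw [← e]
      exact h
    -- the product of the two short maps
    obtain ⟨C, r', hr'v, hr'n, hC⟩ := hshort.comm H h2 hv
    set π := (shMap hf₁ u r).comp (shMap hf₁ r₁ s₁) with hπdef
    have hπ : ∀ s, π s = f₁ s s₁ • r + f₁ s r₁ • u := fun s => by
      simp only [hπdef, LinearMap.comp_apply, shMap_apply, hf₁.bilinear.add_left,
        hf₁.bilinear.smul_left, hr₁r, hr₁u, hs₁r, hs₁u]
      module
    obtain ⟨z₃, hz₃, hz₃1⟩ := exists_form_sep hf₂ hr'n
    set y₀ := -z₃ with hy₀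
    have hy₀r : f₂ y₀ r' = 1 := by
      rw [hf₂.skew, hy₀, form_neg_right hf₂.bilinear, hz₃1, neg_neg]
    have hy₀v : f₂ y₀ v = 0 := by
      rw [hf₂.skew, hy₀, form_neg_right hf₂.bilinear, hz₃ v (Submodule.mem_span_singleton_self v)]
      simp
    have hy₀n : y₀ ∉ Submodule.span F {v} := fun e => by
      obtain ⟨c', hc'⟩ := Submodule.mem_span_singleton.1 e
      rw [← hc', hf₂.bilinear.smul_left, hf₂.skew v r', hr'v] at hy₀r
      simp at hy₀r
    have hN := hC.goodU H hno hv hy₀v hy₀n (sTv_mem_isoOf hf₁ u 1)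
    refine hno (hasRoot_of_good H hu hN fun s => ?_)
    rw [cmap_sTv_sub H]
    simp only [hy₀r, one_smul, hπ, hus₁, hur₁, hru, hf₁.bilinear.add_left,
      hf₁.bilinear.smul_left, hf₁.alternating, mul_zero, add_zero, zero_smul, one_mul, zero_add]
    module
  · obtain ⟨t, ht0, ht1⟩ := H.hex.resolve_left ha
    have hκ : f₁ k u ≠ 0 := fun e => by
      obtain ⟨z, hz, hz1⟩ := exists_form_sep hf₁ hk
      have hli : LinearIndependent F ![u, k] := by
        rw [LinearIndependent.pair_iff]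
        intro c₁ c₂ hcc
        rcases eq_or_ne c₂ 0 with rfl | hc₂
        · rw [zero_smul, add_zero] at hcc
          exact ⟨(smul_eq_zero.1 hcc).resolve_right hu, rfl⟩
        · exact absurd (Submodule.mem_span_singleton.2 ⟨-(c₂⁻¹ * c₁), by
            rw [eq_neg_of_add_eq_zero_left hcc |> fun h => (show k = -(c₂⁻¹ * c₁) • u by
              rw [neg_smul, mul_smul, h, smul_neg, inv_smul_smul₀ hc₂, neg_neg])]⟩) hk
      have htop := hli.span_eq_top_of_card_eq_finrank (by
        rw [Fintype.card_fin, finrank_fin_fun]; have := P.two_le; omega)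
      obtain ⟨α, β, hαβ⟩ : ∃ α β : F, α • u + β • k = z := by
        have hzm : z ∈ Submodule.span F (Set.range ![u, k]) := by rw [htop]; trivial
        rw [Matrix.range_cons, Matrix.range_cons, Matrix.range_empty, Set.union_empty,
          Set.singleton_union] at hzm
        exact Submodule.mem_span_pair.1 hzm
      rw [← hαβ, hf₁.bilinear.add_right, hf₁.bilinear.smul_right, hf₁.bilinear.smul_right,
        hf₁.alternating, e] at hz1
      simp at hz1
    have h := ((hK t).sub H ((hK 1).smul H t)).smul H (((t - t * t) * f₁ k u)⁻¹)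
    have hd : (t - t * t) * f₁ k u ≠ 0 := mul_ne_zero (fun e => ht1 (by
      have e' : t * (1 - t) = 0 := by linear_combination e
      have := (mul_eq_zero.1 e').resolve_left ht0
      linear_combination -this)) hκ
    refine hno (hasRoot_of_good H hu h fun s => ?_)
    simp only [LinearMap.smul_apply, LinearMap.sub_apply]
    rw [← LinearMap.sub_apply, ← LinearMap.sub_apply (cmap (sTv f₁ u 1) (L y)), cmap_sTv_sub H,
      cmap_sTv_sub H, ← hkdef]
    match_scalars
    · field_simp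
      ring
    · ring

end CfsgLib.ClassicalMax.TensorSymp
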