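/-
Without long root elements outside it, the stabiliser of a symplectic tensor product contains
every member of a group above it.
-/
import Cfsg.Agent.Lib.ClassicalMax.TensorSympScalar
set_option autoImplicit false
set_option linter.unusedSectionVars false

namespace CfsgLib.ClassicalMax.TensorSymp

open Matrix Kronecker Module Cfsg.Geo QuadraticMap
open CfsgLib.ClassicalMax.Kron
open CfsgLib.ClassicalMax.TensorSL (InH lcon lcon_pt)
open CfsgLib.Classical.Quad (NDPolar Frame)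

variable {F : Type*} [Field F] [DecidableEq F] {a b : ℕ}
  {Q : QuadraticForm F (Fin a × Fin b → F)} {f₁ : (Fin a → F) → (Fin a → F) → F}
  {f₂ : (Fin b → F) → (Fin b → F) → F} {M : Subgroup (GL (Fin a × Fin b) F)}

/-- The action of an element on a vector. -/
local notation:80 g:81 " •ᵥ " z:80 => Matrix.mulVec (Units.val g) z

variable (H : Hyp Q f₁ f₂ M)
include H

lemma root_act (v : Fin b → F) (c : F) (z : Fin a × Fin b → F) :
    kronGL (1 : GL (Fin a) F) (sTv f₂ v c) •ᵥ z = z + pt (c • cv f₂ v z) v := by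
  have := linear_ext (f := Matrix.toLin' (kronGL (1 : GL (Fin a) F) (sTv f₂ v c)).val)
    (g := LinearMap.id + (ptR v).comp (c • cv f₂ v)) fun x w => by
      simp [Matrix.toLin'_apply, kronGL_pt, sTv_mulVec H.pair.hf₂, pt_add_right, cv_pt H.pair,
        pt_smul_left, pt_smul_right, smul_smul]
  exact LinearMap.congr_fun this z

lemma sh_act {y v : Fin b → F} (hyv : f₂ y v = 0) (z : Fin a × Fin b → F) :
    kronGL (1 : GL (Fin a) F) (sh f₂ y v 1) •ᵥ z = z + pt (cv f₂ v z) y + pt (cv f₂ y z) v := by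
  have := linear_ext (f := Matrix.toLin' (kronGL (1 : GL (Fin a) F) (sh f₂ y v 1)).val)
    (g := LinearMap.id + (ptR y).comp (cv f₂ v) + (ptR v).comp (cv f₂ y)) fun u w => by
      simp [Matrix.toLin'_apply, kronGL_pt, sh_mulVec H.pair.hf₂ hyv, pt_add_right, cv_pt H.pair,
        pt_smul_left, pt_smul_right]
  exact LinearMap.congr_fun this z

/-- The stabiliser of a tensor line consists of tensors. -/
theorem inH_of_line (hno : ¬ HasRoot Q f₂ M) {g : GL (Fin a × Fin b) F} (hg : g ∈ M) {v : Fin b → F}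
    (hv : v ≠ 0) (hline : ∀ x, ∃ y, g •ᵥ pt x v = pt y v) : InH g := by
  classical
  have P := H.pair
  have hf₁ := P.hf₁
  have hf₂ := P.hf₂
  obtain ⟨v', hv'1, hv'2⟩ := exists_partner hf₂ hv
  have hvn : f₂ v (-v') = 1 := by rw [form_neg_right hf₂.bilinear, hv'2, neg_neg]
  have hcv : ∀ s, cv f₂ v (pt s v') = s := fun s => by rw [cv_pt P, hv'1, one_smul]
  let α : (Fin a → F) →ₗ[F] (Fin a → F) := (cv f₂ (-v')).comp ((Matrix.toLin' g.val).comp (ptR v))
  have hα : ∀ x, g •ᵥ pt x v = pt (α x) v := by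
    intro x
    obtain ⟨y, hy⟩ := hline x
    simp [α, Matrix.toLin'_apply, hy, cv_pt P, hvn]
  have hαu : IsUnit (LinearMap.toMatrix' α) := Matrix.mulVec_injective_iff_isUnit.1 fun x y hxy => by
    rw [LinearMap.toMatrix'_mulVec, LinearMap.toMatrix'_mulVec] at hxy
    exact ptR_injective hv (gl_mulVec_injective g (by simp [hα, hxy]))
  set αG : GL (Fin a) F := hαu.unit with hαG
  have hαv : ∀ x, αG •ᵥ x = α x := fun x => by
    rw [hαG, IsUnit.unit_spec, LinearMap.toMatrix'_mulVec]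
  have hαs : ∀ y, ∃ x, α x = y := fun y =>
    ⟨(αG⁻¹ : GL (Fin a) F) •ᵥ y, by rw [← hαv, gl_mulVec_inv_mulVec]⟩
  let β : (Fin a → F) →ₗ[F] (Fin a → F) :=
    (cv f₂ v).comp ((Matrix.toLin' (g⁻¹ : GL (Fin a × Fin b) F).val).comp (ptR v'))
  have hβf : ∀ z x, f₁ (cv f₂ v (g⁻¹ •ᵥ z)) x = f₁ (cv f₂ v z) (α x) := fun z x => by
    rw [← polar_ptv P, ← polar_ptv P]
    have := polar_act H hg (g⁻¹ •ᵥ z) (pt x v)
    rw [gl_mulVec_inv_mulVec, hα] at this
    exact this.symm
  have hβ : ∀ z, cv f₂ v (g⁻¹ •ᵥ z) = β (cv f₂ v z) := fun z => form_ext hf₁ fun x => by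
    simp only [β, LinearMap.comp_apply, Matrix.toLin'_apply, ptR_apply]
    rw [hβf, hβf, hcv]
  have hβa : ∀ s x, f₁ (β s) x = f₁ s (α x) := fun s x => by
    have := hβf (pt s v') x
    rwa [hcv, hβ, hcv] at this
  obtain ⟨μ, hμ⟩ : ∃ μ : F, ∀ s, α (β s) = μ • s := by
    refine only_scalar H hno hv (S := α.comp β)
      (g := g * kronGL 1 (sTv f₂ v 1) * g⁻¹)
      (M.mul_mem (M.mul_mem hg (H.memW _ (sTv_mem_isoOf hf₂ v 1))) (M.inv_mem hg)) fun z => ?_
    rw [gl_mulVec_mul, gl_mulVec_mul, root_act H, one_smul, mulVec_add, gl_mulVec_inv_mulVec, hα, hβ,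
      LinearMap.comp_apply]
    rfl
  obtain ⟨e₀, he₀⟩ : ∃ e₀ : Fin a → F, e₀ ≠ 0 := ⟨Pi.single ⟨0, by have := P.two_le; omega⟩ 1,
    fun h => one_ne_zero (α := F) (by simpa using congrFun h ⟨0, by have := P.two_le; omega⟩)⟩
  obtain ⟨e₁, he₁, he₁'⟩ := exists_partner hf₁ he₀
  have hβα : ∀ r, β (α r) = μ • r := fun r => by
    refine ptR_injective hv (gl_mulVec_injective g ?_)
    show _ *ᵥ _ = _ *ᵥ _
    rw [ptR_apply, ptR_apply, hα, hα, hμ, map_smul]
  have hsim : ∀ r x, f₁ (α r) (α x) = μ * f₁ r x := fun r x => by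
    rw [← hβa, hβα, hf₁.bilinear.smul_left]
  have hμ0 : μ ≠ 0 := fun h0 => by
    obtain ⟨x, hx⟩ := hαs e₁
    obtain ⟨r, hr⟩ := hαs e₀
    have h1 := hsim x r
    rw [hx, hr, he₁, h0, zero_mul] at h1
    exact one_ne_zero h1
  have hker : ∀ z, cv f₂ v z = 0 → cv f₂ v (g •ᵥ z) = 0 := fun z hz => form_ext hf₁ fun y => by
    obtain ⟨x, rfl⟩ := hαs y
    have h1 := hβf (g •ᵥ z) x
    rw [gl_inv_mulVec_mulVec, hz] at h1
    rw [form_zero_left hf₁.bilinear] at h1 ⊢
    exact h1.symm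
  obtain ⟨η, hη⟩ := exists_sum_dot (x := α e₀) (fun h0 => he₀ (ptR_injective hv
    (gl_mulVec_injective g (by simp [hα, h0]))))
  let B : (Fin b → F) →ₗ[F] (Fin b → F) :=
    (lcon η).comp ((Matrix.toLin' g.val).comp (ptL e₀))
  have hBdef : ∀ w, B w = lcon η (g •ᵥ pt e₀ w) := fun w => rfl
  have hBcon : ∀ w y, f₂ (B w) y = η ⬝ᵥ cv f₂ y (g •ᵥ pt e₀ w) := fun w y => by
    rw [cv, contraction_comm, formDual_dot hf₂.bilinear, hBdef]
  have hdec : ∀ w, f₂ w v = 0 → ∀ u, ∃ s, g •ᵥ pt u w = pt (α u) (B w) + pt s v := by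
    intro w hw u
    refine ⟨cv f₂ (-v') (g •ᵥ pt u w - pt (α u) (B w)), ?_⟩
    have := eq_ptv P hvn (z := g •ᵥ pt u w - pt (α u) (B w)) fun y hy => by
      have hvy : f₂ v y = 0 := by rw [hf₂.skew, hy, neg_zero]
      set E := kronGL (1 : GL (Fin a) F) (sh f₂ y v 1)
      have hEM : E ∈ M := H.memW _ (sh_mem_isoOf hf₂ _ _ _)
      have hfixE : ∀ s, E •ᵥ pt s v = pt s v := fun s => by
        rw [sh_act H hy, cv_pt_self P, cv_pt P, hvy, zero_smul, pt_zero_left, pt_zero_left, add_zero,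
          add_zero]
      have hgi : ∀ s, g⁻¹ •ᵥ pt s v = pt ((αG⁻¹ : GL (Fin a) F) •ᵥ s) v := fun s =>
        gl_mulVec_injective g (by
          show _ *ᵥ _ = _ *ᵥ _
          rw [gl_mulVec_inv_mulVec, hα, ← hαv, gl_mulVec_inv_mulVec])
      have hx : Rad f₂ M v (g⁻¹ * E * g) fun w' => (Matrix.toLin' (αG⁻¹ : GL (Fin a) F).val).comp
          ((cv f₂ y).comp ((Matrix.toLin' g.val).comp (ptR w'))) := by
        refine ⟨M.mul_mem (M.mul_mem (M.inv_mem hg) hEM) hg, fun s => ?_, fun w' hw' s => ?_⟩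
        · rw [gl_mulVec_mul, gl_mulVec_mul, hα, hfixE, ← hα, gl_inv_mulVec_mulVec]
        · rw [gl_mulVec_mul, gl_mulVec_mul, sh_act H hy,
            hker _ (by rw [cv_pt P, hw', zero_smul]), pt_zero_left, add_zero, mulVec_add,
            gl_inv_mulVec_mulVec, hgi]
          simp [Matrix.toLin'_apply]
      obtain ⟨l, hl⟩ := hx.scalar H hno hv hw
      have hl' : ∀ u, cv f₂ y (g •ᵥ pt u w) = l • α u := fun u => by
        have h1 := congrArg (fun s => αG •ᵥ s) (hl u)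
        simp only [LinearMap.comp_apply, Matrix.toLin'_apply, ptR_apply, gl_mulVec_inv_mulVec,
          mulVec_smul, hαv] at h1
        rw [← hαv, gl_mulVec_inv_mulVec, map_smul] at h1
        exact h1
      rw [map_sub, cv_pt P, hl', hBcon, hl', dotProduct_smul, hη, smul_eq_mul, mul_one, sub_self]
    rw [← this, add_sub_cancel]
  have hBv : ∀ w, f₂ w v = 0 → f₂ (B w) v = 0 := fun w hw => by
    rw [hBcon, hker _ (by rw [cv_pt P, hw, zero_smul]), dotProduct_zero]
  have hBvv : B v = v := by rw [hBdef, hα, lcon_pt, hη, one_smul]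
  have hBsim : ∀ w w', f₂ w v = 0 → f₂ w' v = 0 → μ * f₂ (B w) (B w') = f₂ w w' := by
    intro w w' hw hw'
    obtain ⟨s, hs⟩ := hdec w hw e₁
    obtain ⟨s', hs'⟩ := hdec w' hw' e₀
    have h1 := polar_act H hg (pt e₁ w) (pt e₀ w')
    rw [hs, hs', P.polar_pt, he₁, one_mul] at h1
    simp only [polar_add_left, polar_add_right, P.polar_pt, hsim, he₁, hBv w hw,
      hf₂.alternating, hf₂.skew v (B w'), hBv w' hw', neg_zero, mul_zero, add_zero, mul_one] at h1
    exact h1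
  let Pp : (Fin b → F) →ₗ[F] (Fin b → F) :=
    LinearMap.id - ((bilinOf hf₂.bilinear).flip v).smulRight v'
      + ((bilinOf hf₂.bilinear).flip v').smulRight v
  have hPp : ∀ x, Pp x = x - f₂ x v • v' + f₂ x v' • v := fun x => by simp [Pp]
  have hvv' : f₂ v' v' = 0 := hf₂.alternating v'
  have hPv : ∀ x, f₂ (Pp x) v = 0 := fun x => by
    rw [hPp, hf₂.bilinear.add_left, form_sub_left hf₂.bilinear, hf₂.bilinear.smul_left,
      hf₂.bilinear.smul_left, hv'1, hf₂.alternating]; ring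
  have hPv' : ∀ x, f₂ (Pp x) v' = 0 := fun x => by
    rw [hPp, hf₂.bilinear.add_left, form_sub_left hf₂.bilinear, hf₂.bilinear.smul_left,
      hf₂.bilinear.smul_left, hv'2, hvv']; ring
  let B' : (Fin b → F) →ₗ[F] (Fin b → F) :=
    μ⁻¹ • ((bilinOf hf₂.bilinear).flip v).smulRight v'
      - ((bilinOf hf₂.bilinear).flip v').smulRight v + Pp.comp (B.comp Pp)
  have hB' : ∀ x, B' x = (μ⁻¹ * f₂ x v) • v' - f₂ x v' • v + Pp (B (Pp x)) := fun x => by
    simp [B', smul_smul]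
  have hPP : ∀ z z', f₂ z v = 0 → f₂ z' v = 0 → f₂ (Pp z) (Pp z') = f₂ z z' := by
    intro z z' hz hz'
    rw [hPp, hPp, hz, hz', zero_smul, sub_zero, sub_zero]
    simp only [hf₂.bilinear.add_left, hf₂.bilinear.add_right, hf₂.bilinear.smul_left,
      hf₂.bilinear.smul_right, hf₂.alternating, hz, hf₂.skew v z', hz']
    ring
  have hB'sim : ∀ x y, f₂ (B' x) (B' y) = μ⁻¹ * f₂ x y := by
    intro x y
    have e1 : ∀ z, f₂ v (Pp z) = 0 := fun z => by rw [hf₂.skew, hPv, neg_zero]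
    have e2 : ∀ z, f₂ v' (Pp z) = 0 := fun z => by rw [hf₂.skew, hPv', neg_zero]
    have h1 : f₂ (Pp (B (Pp x))) (Pp (B (Pp y))) = μ⁻¹ * f₂ (Pp x) (Pp y) := by
      rw [hPP _ _ (hBv _ (hPv x)) (hBv _ (hPv y)), ← hBsim _ _ (hPv x) (hPv y), ← mul_assoc,
        inv_mul_cancel₀ hμ0, one_mul]
    have h2 : f₂ (Pp x) (Pp y) = f₂ x y + f₂ x v * f₂ y v' - f₂ x v' * f₂ y v := by
      simp only [hPp, hf₂.bilinear.add_left, hf₂.bilinear.add_right, form_sub_left hf₂.bilinear,
        form_sub_right hf₂.bilinear, hf₂.bilinear.smul_left, hf₂.bilinear.smul_right, hf₂.alternating,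
        hv'1, hv'2, hf₂.skew v y, hf₂.skew v' y]
      ring
    simp only [hB', hf₂.bilinear.add_left, hf₂.bilinear.add_right, form_sub_left hf₂.bilinear,
      form_sub_right hf₂.bilinear, hf₂.bilinear.smul_left, hf₂.bilinear.smul_right, hf₂.alternating,
      hv'1, hv'2, hPv, hPv', e1, e2, h1, h2]
    ring
  have hB'u : IsUnit (LinearMap.toMatrix' B') := Matrix.mulVec_injective_iff_isUnit.1 fun x y hxy => by
    rw [LinearMap.toMatrix'_mulVec, LinearMap.toMatrix'_mulVec] at hxy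
    refine form_ext hf₂ fun z => mul_left_cancel₀ (inv_ne_zero hμ0) ?_
    rw [← hB'sim, ← hB'sim, hxy]
  set BG : GL (Fin b) F := hB'u.unit with hBG
  have hBw : ∀ w, BG •ᵥ w = B' w := fun w => by
    rw [hBG, IsUnit.unit_spec, LinearMap.toMatrix'_mulVec]
  set h := kronGL αG BG with hh
  have hpt : ∀ x w, h •ᵥ pt x w = pt (α x) (B' w) := fun x w => by rw [kronGL_pt, hαv, hBw]
  have hpol : ∀ x w x' w', polar Q (h •ᵥ pt x w) (h •ᵥ pt x' w') = polar Q (pt x w) (pt x' w') := by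
    intro x w x' w'
    rw [hpt, hpt, P.polar_pt, P.polar_pt, hsim, hB'sim]
    field_simp
  have hiso : ∀ z, Q (h •ᵥ z) = Q z := fun z => iso_of_pt P hpol (fun x w => ⟨_, _, hpt x w⟩) z
  have hpolz : ∀ z z', polar Q (h •ᵥ z) (h •ᵥ z') = polar Q z z' := fun z z' => by
    simp only [polar, ← mulVec_add, hiso]
  have hB'v : B' v = v := by
    have e : Pp v = 0 := by rw [hPp, hf₂.alternating, hv'2]; simp
    rw [hB', e, map_zero, map_zero, hf₂.alternating, hv'2]; simp
  set x := h⁻¹ * g with hx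
  have hxfix : ∀ u, x •ᵥ pt u v = pt u v := fun u => gl_mulVec_injective h (by
    show _ *ᵥ _ = _ *ᵥ _
    rw [gl_mulVec_mul, gl_mulVec_inv_mulVec, hα, hpt, hB'v])
  have hxker : ∀ w, f₂ w v = 0 → ∀ u, ∃ s, x •ᵥ pt u w = pt u w + pt s v := by
    intro w hw u
    obtain ⟨s, hs⟩ := hdec w hw u
    have e : B' w = B w + (f₂ (B w) v' - f₂ w v') • v := by
      have eP : Pp w = w + f₂ w v' • v := by rw [hPp, hw, zero_smul, sub_zero]
      have eB : Pp (B w + f₂ w v' • v) = B w + f₂ (B w) v' • v := by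
        rw [hPp, hf₂.bilinear.add_left, hf₂.bilinear.add_left, hf₂.bilinear.smul_left,
          hf₂.bilinear.smul_left, hBv w hw, hf₂.alternating, hv'2]
        module
      rw [hB', hw, eP, map_add B, map_smul B, hBvv, eB]
      module
    refine ⟨(αG⁻¹ : GL (Fin a) F) •ᵥ (s - (f₂ (B w) v' - f₂ w v') • α u), gl_mulVec_injective h ?_⟩
    show _ *ᵥ _ = _ *ᵥ _
    rw [gl_mulVec_mul, gl_mulVec_inv_mulVec, hs, mulVec_add, hpt, hpt, hB'v, e, ← hαv (_ *ᵥ _),
      gl_mulVec_inv_mulVec, pt_add_right, pt_smul_right, pt_sub_left, pt_smul_left]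
    abel
  have hxpol : ∀ z z', polar Q (x •ᵥ z) (x •ᵥ z') = polar Q z z' := fun z z' => by
    rw [← hpolz, ← gl_mulVec_mul, ← gl_mulVec_mul, hx, mul_inv_cancel_left, polar_act H hg]
  have hxcv : ∀ z, cv f₂ v (x •ᵥ z) = cv f₂ v z := fun z => form_ext hf₁ fun u => by
    rw [← polar_ptv P, ← polar_ptv P]
    have := hxpol z (pt u v)
    rwa [hxfix] at this
  let N := Matrix.toLin' x.val - LinearMap.id
  have hN : ∀ z, N z = x •ᵥ z - z := fun z => by simp [N, Matrix.toLin'_apply]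
  have hN2 : ∀ z, cv f₂ v z = 0 → N (N z) = 0 := by
    intro z hz
    rw [pt_sum_left z, map_sum, map_sum]
    refine Finset.sum_eq_zero fun i _ => ?_
    obtain ⟨s, hs⟩ := hxker _ (rows_orth P hz i) (Pi.single i 1)
    rw [hN, hN, hs, add_sub_cancel_left, hxfix, sub_self]
  have hN3 : ((x.val : Matrix (Fin a × Fin b) (Fin a × Fin b) F) - 1) ^ 3 = 0 := by
    refine Matrix.ext_of_mulVec_single fun i => ?_
    have e : ∀ z, (x.val - 1) *ᵥ z = N z := fun z => by rw [hN, sub_mulVec, one_mulVec]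
    rw [show ((x.val : Matrix (Fin a × Fin b) (Fin a × Fin b) F) - 1) ^ 3
      = (x.val - 1) * ((x.val - 1) * (x.val - 1)) by noncomm_ring, ← mulVec_mulVec, ← mulVec_mulVec,
      e, e, e, zero_mulVec, hN2]
    rw [hN, map_sub, hxcv, sub_self]
  have hhM : h ∈ M := H.lift αG BG g hg hiso hN3
  have hxM : x ∈ M := M.mul_mem (M.inv_mem hhM) hg
  let L : (Fin b → F) → ((Fin a → F) →ₗ[F] (Fin a → F)) := fun w =>
    (cv f₂ (-v')).comp (N.comp (ptR w))
  have hR : Rad f₂ M v x L := ⟨hxM, hxfix, fun w hw u => by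
    obtain ⟨s, hs⟩ := hxker w hw u
    simp [L, hN, hs, cv_pt P, hvn]⟩
  obtain ⟨η₀, hη₀⟩ := exists_sum_dot he₀
  let φ : (Fin b → F) →ₗ[F] F :=
    { toFun := fun w => η₀ ⬝ᵥ L w e₀
      map_add' := fun w w' => by simp [L, pt_add_right, map_add, dotProduct_add]
      map_smul' := fun c w => by simp [L, pt_smul_right, map_smul, dotProduct_smul] }
  obtain ⟨y₀, hy₀⟩ := exists_form_eq hf₂.bilinear hf₂.nondegenerate φ
  have hy₀v : f₂ y₀ v = 0 := by
    rw [hf₂.skew, hy₀]
    simp [φ, L, hN, hxfix]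
  set E := kronGL (1 : GL (Fin a) F) (sh f₂ y₀ v 1)
  have hEM : E ∈ M := H.memW _ (sh_mem_isoOf hf₂ _ _ _)
  set x' := E⁻¹ * x
  have hx'ker : ∀ w, f₂ w v = 0 → ∀ u, x' •ᵥ pt u w = pt u w := fun w hw u => by
    refine gl_mulVec_injective E ?_
    show _ *ᵥ _ = _ *ᵥ _
    obtain ⟨c, hc⟩ := hR.scalar H hno hv hw
    have hcy : f₂ w y₀ = c := by
      rw [hy₀]
      show η₀ ⬝ᵥ L w e₀ = c
      rw [hc, dotProduct_smul, hη₀, smul_eq_mul, mul_one]
    rw [gl_mulVec_mul, gl_mulVec_inv_mulVec, hR.2.2 w hw, hc, sh_act H hy₀v, cv_pt P, cv_pt P, hw,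
      hcy, zero_smul, pt_zero_left, add_zero]
  have hx'M : x' ∈ M := M.mul_mem (M.inv_mem hEM) hxM
  let S₀ := (cv f₂ (-v')).comp ((Matrix.toLin' x'.val - LinearMap.id).comp (ptR v'))
  obtain ⟨c, hc⟩ := only_scalar H hno hv hx'M (S := S₀) fun z => by
    let D := Matrix.toLin' x'.val - LinearMap.id
    have hD0 : D (z - pt (cv f₂ v z) v') = 0 := by
      have h0 : cv f₂ v (z - pt (cv f₂ v z) v') = 0 := by rw [map_sub, hcv, sub_self]
      rw [pt_sum_left (z - pt (cv f₂ v z) v'), map_sum]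
      refine Finset.sum_eq_zero fun i _ => ?_
      simp only [D, LinearMap.sub_apply, Matrix.toLin'_apply, LinearMap.id_coe, id_eq]
      rw [hx'ker _ (rows_orth P h0 i), sub_self]
    have hDl : D z = pt (cv f₂ (-v') (D z)) v := eq_ptv P hvn fun w hw => form_ext hf₁ fun u => by
      rw [← polar_ptv P, form_zero_left hf₁.bilinear]
      simp only [D, LinearMap.sub_apply, Matrix.toLin'_apply, LinearMap.id_coe, id_eq]
      rw [polar_sub_left]
      conv_lhs => arg 1; rw [← hx'ker w hw u]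
      rw [polar_act H hx'M, sub_self]
    rw [map_sub, sub_eq_zero] at hD0
    have e : D z = pt (S₀ (cv f₂ v z)) v := by
      conv_lhs => rw [hDl, hD0]
      rfl
    rw [← e]
    simp [D, Matrix.toLin'_apply]
  have hx'root : x' = kronGL 1 (sTv f₂ v c) := gl_ext_pt fun u w => by
    have h0 : cv f₂ v (pt u w - pt (cv f₂ v (pt u w)) v') = 0 := by rw [map_sub, hcv, sub_self]
    rw [root_act H]
    have hD0 : (Matrix.toLin' x'.val - LinearMap.id : (Fin a × Fin b → F) →ₗ[F] _) (pt u w - pt (cv f₂ v (pt u w)) v') = 0 := by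
      rw [pt_sum_left (pt u w - pt (cv f₂ v (pt u w)) v'), map_sum]
      refine Finset.sum_eq_zero fun i _ => ?_
      simp only [LinearMap.sub_apply, Matrix.toLin'_apply, LinearMap.id_coe, id_eq]
      rw [hx'ker _ (rows_orth P h0 i), sub_self]
    rw [map_sub, sub_eq_zero] at hD0
    have hD1 : (Matrix.toLin' x'.val - LinearMap.id : (Fin a × Fin b → F) →ₗ[F] _) (pt (cv f₂ v (pt u w)) v')
        = pt (c • cv f₂ v (pt u w)) v := by
      have hw0 := hc (cv f₂ v (pt u w))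
      rw [← hw0]
      refine eq_ptv P hvn fun w' hw' => form_ext hf₁ fun u' => ?_
      rw [← polar_ptv P, form_zero_left hf₁.bilinear, LinearMap.sub_apply, Matrix.toLin'_apply,
        LinearMap.id_apply, polar_sub_left]
      conv_lhs => arg 1; rw [← hx'ker w' hw' u']
      rw [polar_act H hx'M, sub_self]
    rw [← hD1, ← hD0]
    simp [Matrix.toLin'_apply]
  have hg' : g = h * (E * x') := by rw [mul_inv_cancel_left, hx, mul_inv_cancel_left]
  rw [hg', hx'root]
  exact InH.mul ⟨_, _, hh⟩ (InH.mul ⟨_, _, rfl⟩ ⟨_, _, rfl⟩)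

omit H in
lemma slHyp (ha : 2 ≤ a) (hab : a < b) : TensorSL.Hyp (M := specialLinear (Fin a × Fin b) F) := by
  refine ⟨ha, hab, fun g hg => ?_, fun A B h => ?_⟩
  · simpa [specialLinear, MonoidHom.mem_ker, Units.ext_iff] using hg
  · simpa [specialLinear, MonoidHom.mem_ker, Units.ext_iff] using h

variable [Finite F]

/-- If a conjugate of a root element is a tensor then so is the conjugating element. -/
lemma inH_of_root (hno : ¬ HasRoot Q f₂ M) {g : GL (Fin a × Fin b) F} (hg : g ∈ M) {v : Fin b → F}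
    (hv : v ≠ 0) (h : InH (g⁻¹ * kronGL 1 (sTv f₂ v 1) * g)) : InH g := by
  obtain ⟨A, B, hx⟩ := h
  have P := H.pair
  let Z : Submodule F (Fin a × Fin b → F) :=
    LinearMap.range ((Matrix.toLin' (g⁻¹ : GL (Fin a × Fin b) F).val).comp (ptR v))
  have hxz : ∀ z, kronGL A B •ᵥ z - z ∈ Z := fun z => by
    refine ⟨cv f₂ v (g •ᵥ z), ?_⟩
    rw [← hx, gl_mulVec_mul, gl_mulVec_mul, root_act H, one_smul, mulVec_add, gl_inv_mulVec_mulVec,
      add_sub_cancel_left]
    simp [Matrix.toLin'_apply]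
  have hZ : finrank F Z ≤ a := (LinearMap.finrank_range_le _).trans (by rw [finrank_fin_fun])
  obtain ⟨c, hc⟩ := TensorSL.exists_scalar (slHyp P.two_le P.lt) hZ hxz
  have hmem : ∀ x w, pt x (c • (B •ᵥ w) - w) ∈ Z := fun x w => by
    have := hxz (pt x w)
    rw [kronGL_pt, hc, pt_smul_left] at this
    rwa [pt_sub_right, pt_smul_right]
  obtain ⟨w₀, hw₀⟩ : ∃ w₀, c • (B •ᵥ w₀) - w₀ ≠ 0 := by
    by_contra hcon
    push Not at hcon
    have h1 : g⁻¹ * kronGL 1 (sTv f₂ v 1) * g = 1 := by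
      rw [hx]
      refine gl_ext_pt fun x w => ?_
      rw [kronGL_pt, hc, pt_smul_left, ← pt_smul_right, sub_eq_zero.1 (hcon w), Units.val_one,
        one_mulVec]
    have h2 : kronGL (1 : GL (Fin a) F) (sTv f₂ v 1) = 1 := by
      have := congrArg (fun t => g * t * g⁻¹) h1
      simpa [mul_assoc] using this
    obtain ⟨v', hv'1, -⟩ := exists_partner P.hf₂ hv
    have hx0 : (Pi.single ⟨0, by have := P.two_le; omega⟩ 1 : Fin a → F) ≠ 0 := fun h =>
      one_ne_zero (α := F) (by simpa using congrFun h ⟨0, by have := P.two_le; omega⟩)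
    have h3 := root_act H v 1 (pt (Pi.single ⟨0, by have := P.two_le; omega⟩ 1) v')
    rw [h2, Units.val_one, one_mulVec, cv_pt P, hv'1, one_smul, one_smul, left_eq_add] at h3
    exact pt_ne_zero hx0 hv h3
  set v₁ := c • (B •ᵥ w₀) - w₀
  have hgv : ∀ x, ∃ y, g •ᵥ pt x v₁ = pt y v := fun x => by
    obtain ⟨y, hy⟩ := hmem x w₀
    exact ⟨y, by rw [← hy]; simp [Matrix.toLin'_apply]⟩
  obtain ⟨C, hC, hCv⟩ := exists_iso_mulVec P.hf₂ hv hw₀
  have hm := H.memW C (closure_sTv_le P.hf₂ hC)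
  have := inH_of_line H hno (M.mul_mem hg hm) hv fun x => by
    obtain ⟨y, hy⟩ := hgv x
    exact ⟨y, by rw [gl_mulVec_mul, kronGL_pt, Units.val_one, one_mulVec, hCv, hy]⟩
  simpa using InH.mul this (InH.inv ⟨_, _, rfl⟩ : InH (kronGL (1 : GL (Fin a) F) C)⁻¹)

/-- Without a long root element outside, every member is a tensor. -/
theorem inH_of_mem (hno : ¬ HasRoot Q f₂ M) : ∀ g ∈ M, InH g := by
  have P := H.pair
  have hb := P.lt
  have key : ∀ (k : ℕ) (E : Submodule F (Fin a → F)), finrank F E + k = a →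
      ∀ v : Fin b → F, v ≠ 0 → ∀ g ∈ M, (∀ x ∈ E, ∃ y ∈ E, g •ᵥ pt x v = pt y v) → InH g := by
    intro k
    induction k with
    | zero =>
      intro E hE v hv g hg h
      have hE' : E = ⊤ := Submodule.eq_top_of_finrank_eq (by rw [finrank_fin_fun]; omega)
      exact inH_of_line H hno hg hv fun x => by
        obtain ⟨y, -, hy⟩ := h x (hE' ▸ Submodule.mem_top)
        exact ⟨y, hy⟩
    | succ k ih =>
      intro E hE v hv g hg hstab
      obtain ⟨e, he⟩ : ∃ e, e ∉ E := by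
        by_contra hcon
        push Not at hcon
        rw [Submodule.eq_top_iff'.2 hcon, finrank_top, finrank_fin_fun] at hE
        omega
      have hE' : finrank F (E ⊔ Submodule.span F {e} : Submodule F (Fin a → F)) + k = a := by
        rw [Submodule.finrank_sup_span_singleton he]; omega
      set q := g •ᵥ pt e v with hq
      let cq : (Fin b → F) →ₗ[F] (Fin a → F) :=
        { toFun := fun y => cv f₂ y q
          map_add' := fun y y' => cv_add_vec P y y' q
          map_smul' := fun t y => cv_smul_vec P t y q }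
      let T : (Fin b → F) →ₗ[F] F × (Fin a → F) := LinearMap.prod (bilinOf P.hf₂.bilinear v) cq
      obtain ⟨y, hyT, hy0⟩ := Submodule.exists_mem_ne_zero_of_ne_bot
        (LinearMap.ker_ne_bot_of_finrank_lt (f := T) (by
          rw [finrank_prod, finrank_self, finrank_fin_fun, finrank_fin_fun]
          have := P.gap
          omega))
      rw [LinearMap.mem_ker] at hyT
      have hyv : f₂ v y = 0 := congrArg Prod.fst hyT
      have hyq : cv f₂ y q = 0 := congrArg Prod.snd hyT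
      refine inH_of_root H hno hg hy0 (ih _ hE' v hv _ (M.mul_mem (M.mul_mem (M.inv_mem hg)
        (H.memW _ (sTv_mem_isoOf P.hf₂ y 1))) hg) fun x hx => ⟨x, hx, ?_⟩)
      obtain ⟨x₁, hx₁, x₂, hx₂, rfl⟩ := Submodule.mem_sup.1 hx
      obtain ⟨t, rfl⟩ := Submodule.mem_span_singleton.1 hx₂
      obtain ⟨x₁', hx₁', hx₁e⟩ := hstab x₁ hx₁
      -- the root fixes the image of the piece
      have himg : cv f₂ y (g •ᵥ pt (x₁ + t • e) v) = 0 := by
        rw [pt_add_left, mulVec_add, map_add, hx₁e, cv_pt P, hyv, zero_smul, zero_add, pt_smul_left,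
          mulVec_smul, map_smul, ← hq, hyq, smul_zero]
      rw [gl_mulVec_mul, gl_mulVec_mul, root_act H, himg, smul_zero, pt_zero_left, add_zero,
        gl_inv_mulVec_mulVec]
  intro g hg
  obtain ⟨v, hv⟩ : ∃ v : Fin b → F, v ≠ 0 := ⟨Pi.single ⟨0, by omega⟩ 1,
    fun h => one_ne_zero (α := F) (by simpa using congrFun h ⟨0, by omega⟩)⟩
  exact key a ⊥ (by rw [finrank_bot, zero_add]) v hv g hg fun x hx => ⟨0, Submodule.zero_mem _, by
    rw [(Submodule.mem_bot F).1 hx, pt_zero_left, mulVec_zero]⟩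

end CfsgLib.ClassicalMax.TensorSymp
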