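/-
Stabilisers of symplectic tensor products are maximal in the simple orthogonal group of plus type.
-/
import Cfsg.Agent.Lib.ClassicalMax.TensorSympLine
import Cfsg.Agent.Lib.ClassicalMax.OrthEven
import Cfsg.Agent.Lib.ClassicalMax.TensorTools
import Cfsg.Agent.Lib.Aschbacher.Forms
set_option autoImplicit false
set_option linter.unusedSectionVars false

namespace CfsgLib.ClassicalMax.TensorSymp

open Matrix Kronecker Module Cfsg.Geo QuadraticMap
open CfsgLib.ClassicalMax.Kron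
open CfsgLib.ClassicalMax.TensorSL (InH inH_iff lcon lcon_pt)
open CfsgLib.Classical.Quad (NDPolar Frame)

variable {F : Type*} [Field F] [DecidableEq F] [Fintype F]

lemma eq_one_of_pow_odd {M : Type*} [Monoid M] {z : M} {p : ℕ} (hp : Odd p) (h2 : z * z = 1)
    (h : z ^ p = 1) : z = 1 := by
  obtain ⟨m, rfl⟩ := hp
  rwa [pow_succ, pow_mul, pow_two, h2, one_pow, one_mul] at h

/-- An isometry with unipotent index at most three and, in characteristic two, even rank of `g - 1`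
lies in `Ω`. -/
lemma mem_omega_of_unipotent {κ : Type} [Fintype κ] [DecidableEq κ] {Q : QuadraticForm F (κ → F)}
    (hnd : NDPolar Q) (hn : 5 ≤ Fintype.card κ) {g : GL κ F}
    (hg : ∀ z, Q ((g : Matrix κ κ F) *ᵥ z) = Q z) (h3 : ((g : Matrix κ κ F) - 1) ^ 3 = 0)
    (h2 : (2 : F) = 0 →
      Even (finrank F (LinearMap.range (Matrix.toLin' (g : Matrix κ κ F) - LinearMap.id)))) :
    g ∈ omegaGL ⇑Q := by
  let gI : ↥(Cfsg.isometryGroup F ⇑Q) := ⟨g, fun u _ => hg u⟩
  have hr : OrthCrit.Regular F κ := Or.inr (by omega)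
  suffices h : gI ∈ Cfsg.Omega F ⇑Q from ⟨gI, h, rfl⟩
  by_cases h : (2 : F) = 0
  · refine OrthCrit.mem_Omega hnd hr (by omega) ?_ fun hne => absurd h hne
    rw [OrthCrit.parity, ZMod.natCast_eq_zero_iff_even, Orth.moved]
    have e : Orth.subOne (OrthCrit.toOrth Q gI) =
        Matrix.toLin' (g : Matrix κ κ F) - LinearMap.id := LinearMap.ext fun x => by
      rw [Orth.subOne_apply, OrthCrit.toOrth_apply, LinearMap.sub_apply, Matrix.toLin'_apply]
      rfl
    rw [e]
    exact h2 h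
  · obtain ⟨p, hp⟩ := CharP.exists F
    haveI : Fact p.Prime := ⟨CharP.char_is_prime F p⟩
    have hp2 : p ≠ 2 := fun e => h (by
      subst e
      exact_mod_cast CharP.cast_eq_zero F 2)
    have hodd : Odd p := (Fact.out : p.Prime).odd_of_ne_two hp2
    have hp3 : 3 ≤ p := by
      have := (Fact.out : p.Prime).two_le
      omega
    haveI : Nonempty κ := Fintype.card_pos_iff.1 (by omega)
    have hpow : gI ^ p = 1 := Subtype.ext (Units.ext (by
      show (g : Matrix κ κ F) ^ p = 1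
      have h1 := sub_pow_char_of_commute (p := p) (Commute.one_right (g : Matrix κ κ F))
      rw [one_pow, pow_eq_zero_of_le hp3 h3] at h1
      exact (sub_eq_zero.1 h1.symm)))
    refine OrthCrit.mem_Omega hnd hr (by omega) ?_ fun _ => ?_
    · have := eq_one_of_pow_odd hodd
        (show OrthCrit.parityHom hnd hr gI * OrthCrit.parityHom hnd hr gI = 1 from
          (by decide : ∀ z : Multiplicative (ZMod 2), z * z = 1) _)
        (by rw [← map_pow, hpow, map_one])
      rwa [OrthCrit.parityHom_apply, ofAdd_eq_one] at this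
    · exact eq_one_of_pow_odd hodd (Int.units_mul_self _) (by rw [← map_pow, hpow, map_one])

/-- A scalar multiple of an invertible matrix. -/
def smulGL {k : ℕ} (c : Fˣ) (A : GL (Fin k) F) : GL (Fin k) F :=
  Units.map (Matrix.scalar (Fin k) : F →+* Matrix (Fin k) (Fin k) F).toMonoidHom c * A

lemma smulGL_mulVec {k : ℕ} (c : Fˣ) (A : GL (Fin k) F) (x : Fin k → F) :
    (smulGL c A : Matrix (Fin k) (Fin k) F) *ᵥ x = (c : F) • ((A : Matrix (Fin k) (Fin k) F) *ᵥ x) := by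
  rw [smulGL, gl_mulVec_mul]
  simp [← Matrix.smul_one_eq_diagonal, Matrix.smul_mulVec]

variable {a b : ℕ} {Q : QuadraticForm F (Fin a × Fin b → F)} {f₁ : (Fin a → F) → (Fin a → F) → F}
  {f₂ : (Fin b → F) → (Fin b → F) → F}

section
variable (P : Pair Q f₁ f₂) (hnd : NDPolar Q)
include P

lemma even_dims : Even a ∧ Even b :=
  ⟨by simpa using Asch.symplectic_even P.hf₁, by simpa using Asch.symplectic_even P.hf₂⟩

include hnd

lemma kron_mem_omega {A : GL (Fin a) F} {B : GL (Fin b) F} (hA : A ∈ isoOf f₁) (hB : B ∈ isoOf f₂)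
    (h3 : (((kronGL A B : GL (Fin a × Fin b) F) : Matrix (Fin a × Fin b) (Fin a × Fin b) F) - 1) ^ 3 = 0)
    (h2 : Even (finrank F (LinearMap.range (Matrix.toLin' ((kronGL A B : GL (Fin a × Fin b) F) :
      Matrix (Fin a × Fin b) (Fin a × Fin b) F) - LinearMap.id)))) :
    kronGL A B ∈ omegaGL ⇑Q := by
  refine mem_omega_of_unipotent hnd ?_ (fun z => iso_of_pt P ?_ ?_ z) h3 fun _ => h2
  · simp only [Fintype.card_prod, Fintype.card_fin]
    have := P.two_le; have := P.five_le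
    nlinarith
  · intro x w x' w'
    rw [kronGL_pt, kronGL_pt, P.polar_pt, P.polar_pt, mem_isoOf.1 hA, mem_isoOf.1 hB]
  · exact fun x w => ⟨_, _, kronGL_pt A B x w⟩

lemma sTv_left_mem (v : Fin a → F) (c : F) :
    kronGL (sTv f₁ v c) (1 : GL (Fin b) F) ∈ omegaGL ⇑Q := by
  set g := kronGL (sTv f₁ v c) (1 : GL (Fin b) F)
  set η := c • formDual f₁ v
  have hN : Matrix.toLin' (g : Matrix (Fin a × Fin b) (Fin a × Fin b) F) - LinearMap.id =
      (ptL v).comp (lcon η) := linear_ext fun x w => by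
    simp [g, Matrix.toLin'_apply, kronGL_pt, sTv_mulVec P.hf₁, pt_add_left, lcon_pt, η,
      smul_dotProduct, formDual_dot P.hf₁.bilinear, pt_smul_right, pt_smul_left]
  have hsq : ∀ z : Fin a × Fin b → F, lcon η (pt v (lcon η z)) = 0 := fun z => by
    simp [lcon_pt, η, smul_dotProduct, formDual_dot P.hf₁.bilinear, P.hf₁.alternating]
  refine kron_mem_omega P hnd (sTv_mem_isoOf P.hf₁ v c) (one_mem _) ?_ ?_
  · refine Matrix.ext_of_mulVec_single fun i => ?_
    have e : ∀ z, ((g : Matrix (Fin a × Fin b) (Fin a × Fin b) F) - 1) *ᵥ z = pt v (lcon η z) :=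
      fun z => by
        rw [← ptL_apply, ← LinearMap.comp_apply, ← hN, sub_mulVec, one_mulVec]; rfl
    rw [pow_succ, pow_two, ← mulVec_mulVec, ← mulVec_mulVec, e, e, e, hsq, zero_mulVec]
    simp [hsq, pt_zero_right]
  · rw [hN]
    by_cases h0 : v = 0 ∨ c = 0
    · have : (ptL v).comp (lcon η) = (0 : (Fin a × Fin b → F) →ₗ[F] _) :=
        linear_ext fun x w => by rcases h0 with h | h <;> simp [η, h, lcon_pt, pt_zero_left, pt_zero_right]
      rw [this, LinearMap.range_zero, finrank_bot]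
      exact ⟨0, rfl⟩
    · push Not at h0
      obtain ⟨v', hv'1, -⟩ := exists_partner P.hf₁ h0.1
      have hs : Function.Surjective (lcon (b := b) η) := fun w => ⟨pt (c⁻¹ • v') w, by
        simp [lcon_pt, η, smul_dotProduct, formDual_dot P.hf₁.bilinear, P.hf₁.bilinear.smul_left,
          hv'1, h0.2]⟩
      rw [LinearMap.range_comp_of_range_eq_top _ (LinearMap.range_eq_top.2 hs),
        LinearMap.finrank_range_of_inj, finrank_fin_fun]
      · exact (even_dims P).2
      · refine (injective_iff_map_eq_zero _).2 fun w hw => ?_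
        by_contra hw0
        exact pt_ne_zero h0.1 hw0 hw

lemma sTv_right_mem (v : Fin b → F) (c : F) :
    kronGL (1 : GL (Fin a) F) (sTv f₂ v c) ∈ omegaGL ⇑Q := by
  set g := kronGL (1 : GL (Fin a) F) (sTv f₂ v c)
  have hN : Matrix.toLin' (g : Matrix (Fin a × Fin b) (Fin a × Fin b) F) - LinearMap.id =
      (ptR v).comp (c • cv f₂ v) := linear_ext fun x w => by
    simp [g, Matrix.toLin'_apply, kronGL_pt, sTv_mulVec P.hf₂, pt_add_right, cv_pt P,
      pt_smul_right, pt_smul_left, smul_smul]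
  refine kron_mem_omega P hnd (one_mem _) (sTv_mem_isoOf P.hf₂ v c) ?_ ?_
  · refine Matrix.ext_of_mulVec_single fun i => ?_
    have e : ∀ z, ((g : Matrix (Fin a × Fin b) (Fin a × Fin b) F) - 1) *ᵥ z = pt (c • cv f₂ v z) v :=
      fun z => by
        rw [← ptR_apply, ← LinearMap.smul_apply, ← LinearMap.comp_apply, ← hN, sub_mulVec, one_mulVec]
        rfl
    rw [pow_succ, pow_two, ← mulVec_mulVec, ← mulVec_mulVec, e, e, e, cv_pt_self P, zero_mulVec]
    simp [cv_pt_self P, pt_zero_left]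
  · rw [hN]
    by_cases h0 : v = 0 ∨ c = 0
    · have : (ptR v).comp (c • cv f₂ v) = (0 : (Fin a × Fin b → F) →ₗ[F] _) :=
        linear_ext fun x w => by rcases h0 with h | h <;> simp [h, pt_zero_right]
      rw [this, LinearMap.range_zero, finrank_bot]
      exact ⟨0, rfl⟩
    · push Not at h0
      obtain ⟨v', hv'1, -⟩ := exists_partner P.hf₂ h0.1
      have hs : Function.Surjective (c • cv (a := a) f₂ v) := fun x => ⟨pt (c⁻¹ • x) v', by
        simp [cv_pt P, hv'1, smul_smul, h0.2]⟩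
      rw [LinearMap.range_comp_of_range_eq_top _ (LinearMap.range_eq_top.2 hs),
        LinearMap.finrank_range_of_inj (ptR_injective h0.1), finrank_fin_fun]
      exact (even_dims P).1

/-- A Kronecker isometry of characteristic two has factors which are isometries. -/
lemma kron_split (h2 : (2 : F) = 0) {A : GL (Fin a) F} {B : GL (Fin b) F}
    (hiso : ∀ z, Q ((kronGL A B : Matrix (Fin a × Fin b) (Fin a × Fin b) F) *ᵥ z) = Q z) :
    ∃ A' ∈ isoOf f₁, ∃ B' ∈ isoOf f₂, kronGL A B = kronGL A' B' := by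
  haveI : CharP F 2 := OrthCrit.charP_two_of h2
  have hpol : ∀ x w x' w', f₁ ((A : Matrix _ _ F) *ᵥ x) ((A : Matrix _ _ F) *ᵥ x') *
      f₂ ((B : Matrix _ _ F) *ᵥ w) ((B : Matrix _ _ F) *ᵥ w') = f₁ x x' * f₂ w w' := by
    intro x w x' w'
    rw [← P.polar_pt, ← P.polar_pt, ← kronGL_pt, ← kronGL_pt]
    simp only [polar, ← mulVec_add, hiso]
  have hb := P.five_le
  have ha := P.two_le
  obtain ⟨x₁, hx₁⟩ : ∃ x : Fin a → F, x ≠ 0 := ⟨Pi.single ⟨0, by omega⟩ 1,
    fun h => one_ne_zero (α := F) (by simpa using congrFun h ⟨0, by omega⟩)⟩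
  obtain ⟨w₁, hw₁⟩ : ∃ w : Fin b → F, w ≠ 0 := ⟨Pi.single ⟨0, by omega⟩ 1,
    fun h => one_ne_zero (α := F) (by simpa using congrFun h ⟨0, by omega⟩)⟩
  obtain ⟨x₂, hx₂, -⟩ := exists_partner P.hf₁ hx₁
  obtain ⟨w₂, hw₂, -⟩ := exists_partner P.hf₂ hw₁
  set α := f₁ ((A : Matrix _ _ F) *ᵥ x₂) ((A : Matrix _ _ F) *ᵥ x₁)
  have hB : ∀ w w', α * f₂ ((B : Matrix _ _ F) *ᵥ w) ((B : Matrix _ _ F) *ᵥ w') = f₂ w w' :=
    fun w w' => by
      have h := hpol x₂ w x₁ w'
      rwa [hx₂, one_mul] at h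
  have hα : α ≠ 0 := fun h => one_ne_zero (α := F) (by rw [← hw₂, ← hB w₂ w₁, h, zero_mul])
  have hA : ∀ x x', f₁ ((A : Matrix _ _ F) *ᵥ x) ((A : Matrix _ _ F) *ᵥ x') = α * f₁ x x' := by
    intro x x'
    have h := hpol x w₂ x' w₁
    rw [hw₂, mul_one] at h
    linear_combination α * h -
      f₁ ((A : Matrix _ _ F) *ᵥ x) ((A : Matrix _ _ F) *ᵥ x') * (hB w₂ w₁).trans hw₂
  obtain ⟨ν, hν⟩ := FiniteField.isSquare_of_char_two (ringChar.eq F 2) α
  have hν0 : ν ≠ 0 := fun h => hα (by rw [hν, h, zero_mul])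
  refine ⟨smulGL (Units.mk0 ν hν0)⁻¹ A, mem_isoOf.2 fun x x' => ?_, smulGL (Units.mk0 ν hν0) B,
    mem_isoOf.2 fun w w' => ?_,
    gl_ext_pt fun x w => ?_⟩
  · rw [smulGL_mulVec, smulGL_mulVec, P.hf₁.bilinear.smul_left, P.hf₁.bilinear.smul_right, hA]
    simp only [Units.val_inv_eq_inv_val, Units.val_mk0, hν]
    field_simp
  · rw [smulGL_mulVec, smulGL_mulVec, P.hf₂.bilinear.smul_left, P.hf₂.bilinear.smul_right]
    simp only [Units.val_mk0]
    rw [← mul_assoc, ← hν, hB]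
  · rw [kronGL_pt, kronGL_pt, smulGL_mulVec, smulGL_mulVec, pt_smul_left, pt_smul_right, smul_smul,
      Units.val_inv_eq_inv_val, inv_mul_cancel₀ (Units.ne_zero _), one_smul]

/-- The hypotheses for a subgroup of `Ω` containing all tensors in `Ω`. -/
lemma hyp_of_le (hex : 3 ≤ a ∨ ∃ t : F, t ≠ 0 ∧ t ≠ 1) {M : Subgroup (GL (Fin a × Fin b) F)}
    (hle : M ≤ omegaGL ⇑Q) (hH : ∀ g ∈ omegaGL ⇑Q, InH g → g ∈ M) : Hyp Q f₁ f₂ M := by
  have hU : ∀ A ∈ isoOf f₁, kronGL A (1 : GL (Fin b) F) ∈ M := fun A hA =>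
    isoOf_le_of_sTv P.hf₁ (H := M.comap (MonoidHom.mk' (fun A => kronGL A (1 : GL (Fin b) F))
      fun A A' => by simp [kronGL_mul])) (fun v c => hH _ (sTv_left_mem P hnd v c) ⟨_, _, rfl⟩) hA
  have hW : ∀ B ∈ isoOf f₂, kronGL (1 : GL (Fin a) F) B ∈ M := fun B hB =>
    isoOf_le_of_sTv P.hf₂ (H := M.comap (MonoidHom.mk' (fun B => kronGL (1 : GL (Fin a) F) B)
      fun B B' => by simp [kronGL_mul])) (fun v c => hH _ (sTv_right_mem P hnd v c) ⟨_, _, rfl⟩) hB
  refine ⟨P, hle, hU, hW, fun A B g hg hiso h3 => ?_, hex⟩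
  by_cases h2 : (2 : F) = 0
  · obtain ⟨A', hA', B', hB', he⟩ := kron_split P hnd h2 hiso
    rw [he, show kronGL A' B' = kronGL A' 1 * kronGL 1 B' by rw [kronGL_mul, mul_one, one_mul]]
    exact M.mul_mem (hU A' hA') (hW B' hB')
  · set h := kronGL A B
    set x := h⁻¹ * g
    have hx : x ∈ omegaGL ⇑Q := by
      refine mem_omega_of_unipotent hnd ?_ (fun z => ?_) h3 fun h0 => absurd h0 h2
      · simp only [Fintype.card_prod, Fintype.card_fin]
        have := P.two_le; have := P.five_le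
        nlinarith
      · rw [← hiso, ← gl_mulVec_mul, mul_inv_cancel_left, OmS.omega_iso (hle hg)]
    refine hH h ?_ ⟨A, B, rfl⟩
    rw [show h = g * x⁻¹ by simp [x]]
    exact mul_mem (hle hg) (inv_mem hx)

/-- There is an element of `Ω` which is not a tensor. -/
lemma exists_not_inH (R : Frame Q) : ∃ h ∈ omegaGL ⇑Q, ¬ InH h := by
  have hb := P.five_le
  have ha := P.two_le
  obtain ⟨e, he⟩ : ∃ x : Fin a → F, x ≠ 0 := ⟨Pi.single ⟨0, by omega⟩ 1,
    fun h => one_ne_zero (α := F) (by simpa using congrFun h ⟨0, by omega⟩)⟩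
  obtain ⟨v, hv⟩ : ∃ w : Fin b → F, w ≠ 0 := ⟨Pi.single ⟨0, by omega⟩ 1,
    fun h => one_ne_zero (α := F) (by simpa using congrFun h ⟨0, by omega⟩)⟩
  obtain ⟨w, hw, hwn⟩ := exists_orth_extend P.hf₂.bilinear ![v] (by
    simp only [Fintype.card_fin]; omega)
  have hvw : f₂ v w = 0 := hw 0
  set p := pt e v
  set q := pt e w
  obtain ⟨h, hh, hx⟩ := OmS.exists_sg hnd R (u := p) (w := q) (P.Q_pt _ _)
    (by rw [P.polar_pt, hvw, mul_zero])
  refine ⟨h, hh, fun ⟨A, B, hAB⟩ => ?_⟩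
  have hspan : ∀ z, (kronGL A B : Matrix (Fin a × Fin b) (Fin a × Fin b) F) *ᵥ z - z
      ∈ Submodule.span F (Set.range ![p, q]) := fun z => by
    rw [← hAB, hx z, add_assoc, add_sub_cancel_left]
    exact add_mem (Submodule.smul_mem _ _ (Submodule.subset_span ⟨1, rfl⟩))
      (Submodule.smul_mem _ _ (Submodule.subset_span ⟨0, rfl⟩))
  obtain ⟨c, hc⟩ := TensorSL.exists_scalar (slHyp P.two_le P.lt)
    ((finrank_range_le_card ![p, q]).trans (by simpa using ha)) hspan
  obtain ⟨x, hxe⟩ : ∃ x : Fin a → F, x ∉ Submodule.span F {e} := by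
    by_contra hcon
    push Not at hcon
    have := finrank_span_singleton (K := F) he
    rw [Submodule.eq_top_iff'.2 hcon, finrank_top, finrank_fin_fun] at this
    omega
  have hB : ∀ y, c • ((B : Matrix (Fin b) (Fin b) F) *ᵥ y) = y := fun y => by
    by_contra hy
    have h1 := hspan (pt x y)
    rw [kronGL_pt, hc, pt_smul_left, ← pt_smul_right, ← pt_sub_right, Submodule.mem_span_range_iff_exists_fun] at h1
    obtain ⟨t, ht⟩ := h1
    rw [Fin.sum_univ_two] at ht
    simp only [Matrix.cons_val_zero, Matrix.cons_val_one, p, q, ← pt_smul_right, ← pt_add_right] at ht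
    obtain ⟨j, hj⟩ := Function.ne_iff.1 (sub_ne_zero.2 hy)
    refine hxe (Submodule.mem_span_singleton.2
      ⟨(t 0 • v + t 1 • w) j / (c • ((B : Matrix (Fin b) (Fin b) F) *ᵥ y) - y) j, ?_⟩)
    funext i
    have := congrFun ht (i, j)
    simp only [pt] at this
    rw [Pi.smul_apply, smul_eq_mul, div_mul_eq_mul_div, div_eq_iff hj, mul_comm _ (e i), this]
  have h1 : h = 1 := gl_ext_pt fun x y => by
    rw [hAB, kronGL_pt, hc, pt_smul_left, ← pt_smul_right, hB, Units.val_one, one_mulVec]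
  obtain ⟨e', he', -⟩ := exists_partner P.hf₁ he
  obtain ⟨v', hv', -⟩ := exists_partner P.hf₂ hv
  have h2 := hx (pt e' v')
  rw [h1, Units.val_one, one_mulVec, add_assoc, left_eq_add, P.polar_pt, he', hv', one_mul,
    one_smul] at h2
  set t := -(polar Q (pt e' v') q) - Q q * 1
  have h3 : pt e (w + t • v) = (0 : Fin a × Fin b → F) := by
    rw [pt_add_right, pt_smul_right]; exact h2
  have h4 : w + t • v ≠ 0 := fun h => hwn (by
    rw [eq_neg_of_add_eq_zero_left h, ← neg_smul]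
    exact Submodule.smul_mem _ _ (Submodule.subset_span ⟨0, rfl⟩))
  exact pt_ne_zero he h4 h3

end

/-- The change of coordinates to pure tensors. -/
def coord {ι : Type} [Fintype ι] [DecidableEq ι] (e : ι ≃ Fin a × Fin b) (P : GL ι F) :
    (Fin a × Fin b → F) ≃ₗ[F] (ι → F) :=
  (LinearEquiv.funCongrLeft F F e).trans
    { Matrix.toLin' (P : Matrix ι ι F) with
      invFun := fun x => ((P⁻¹ : GL ι F) : Matrix ι ι F) *ᵥ x
      left_inv := fun x => by
        show _ *ᵥ Matrix.toLin' _ x = _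
        rw [Matrix.toLin'_apply, gl_inv_mulVec_mulVec]
      right_inv := fun x => by
        show Matrix.toLin' _ _ = _
        rw [Matrix.toLin'_apply, gl_mulVec_inv_mulVec] }

lemma coord_apply {ι : Type} [Fintype ι] [DecidableEq ι] (e : ι ≃ Fin a × Fin b) (P : GL ι F)
    (z : Fin a × Fin b → F) : coord e P z = (P : Matrix ι ι F) *ᵥ (z ∘ e) := by
  show Matrix.toLin' _ _ = _
  rw [Matrix.toLin'_apply]
  rfl

omit f₁ f₂ Q in
/-- Stabilisers of tensor products of symplectic forms are maximal in `Ω`. -/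
theorem symp_tensor_maximal {ι : Type} [Fintype ι] [DecidableEq ι] {Q : QuadraticForm F (ι → F)}
    (hnd : NDPolar Q) (e : ι ≃ Fin a × Fin b) (P : GL ι F) {f₁ : (Fin a → F) → (Fin a → F) → F}
    {f₂ : (Fin b → F) → (Fin b → F) → F} (hf₁ : IsSymplecticForm f₁) (hf₂ : IsSymplecticForm f₂)
    (hform : ∀ u u' w w', polar Q (Tensor.pureL e P u w) (Tensor.pureL e P u' w') = f₁ u u' * f₂ w w')
    (hpure : ∀ u w, Q (Tensor.pureL e P u w) = 0) (hab : a < b) (hn : 12 ≤ Fintype.card ι)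
    (hex : 3 ≤ a ∨ ∃ t : F, t ≠ 0 ∧ t ≠ 1) :
    IsMaximalIn (omegaGL ⇑Q) (tensorProductSubgroup a b e P ⊓ omegaGL ⇑Q) := by
  have hcard : Fintype.card ι = a * b := by rw [Fintype.card_congr e]; simp
  have hb5 : 5 ≤ b := by
    by_contra hb
    obtain ⟨k, hk⟩ : Even a := by simpa using Asch.symplectic_even hf₁
    obtain ⟨l, hl⟩ : Even b := by simpa using Asch.symplectic_even hf₂
    have : a * b ≤ 2 * 4 := Nat.mul_le_mul (by omega) (by omega)
    omega
  have hea : Even a := by simpa using Asch.symplectic_even hf₁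
  have heb : Even b := by simpa using Asch.symplectic_even hf₂
  have ha0 : a ≠ 0 := fun h => by rw [h, zero_mul] at hcard; omega
  obtain ⟨k, hk⟩ := hea
  obtain ⟨l, hl⟩ := heb
  set L := coord e P
  let Q₀ : QuadraticForm F (Fin a × Fin b → F) := Q.comp L.toLinearMap
  have hQ₀ : ∀ z, Q₀ z = Q (L z) := fun z => rfl
  have hpol₀ : ∀ z z', polar Q₀ z z' = polar Q (L z) (L z') := fun z z' => by
    simp only [polar, hQ₀, map_add]
  have hLpt : ∀ x w, L (pt x w) = Tensor.pureL e P x w := fun x w => by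
    rw [coord_apply, Tensor.pureL_eq]; rfl
  have hnd₀ : NDPolar Q₀ := fun x hx => L.map_eq_zero_iff.1 (hnd _ fun y => by
    rw [← L.apply_symm_apply y, ← hpol₀]; exact hx _)
  have hP : Pair Q₀ f₁ f₂ := ⟨hf₁, hf₂, fun x x' w w' => by rw [hpol₀, hLpt, hLpt, hform],
    fun x w => by rw [hQ₀, hLpt, hpure], by omega, hab, by omega, hb5⟩
  set Φ : GL (Fin a × Fin b) F ≃* GL ι F := (glReindex e.symm).trans (MulAut.conj P) with hΦ
  have hΦL : ∀ g z, (Φ g : Matrix ι ι F) *ᵥ L z = L ((g : Matrix _ _ F) *ᵥ z) := fun g z => by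
    rw [coord_apply, coord_apply]
    change ((P * glReindex e.symm g * P⁻¹ : GL ι F) : Matrix ι ι F) *ᵥ _ = _
    rw [gl_mulVec_mul, gl_mulVec_mul, gl_inv_mulVec_mulVec]
    congr 1
    show ((g : Matrix (Fin a × Fin b) (Fin a × Fin b) F).submatrix e.symm.symm e.symm.symm) *ᵥ (z ∘ e) = _
    rw [Matrix.submatrix_mulVec_equiv]
    simp [Function.comp_assoc]
  have hI : (Cfsg.isometryGroup F ⇑Q₀).map Φ.toMonoidHom = Cfsg.isometryGroup F ⇑Q := by
    refine le_antisymm ?_ fun g hg => ?_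
    · rintro _ ⟨k, hk, rfl⟩ u -
      show Q ((Φ k : Matrix ι ι F) *ᵥ u) = Q u
      rw [← L.apply_symm_apply u, hΦL, ← hQ₀, ← hQ₀]
      exact hk _ 0
    · refine ⟨Φ.symm g, fun u _ => ?_, Φ.apply_symm_apply g⟩
      show Q₀ ((Φ.symm g : GL _ F).val *ᵥ u) = Q₀ u
      rw [hQ₀, hQ₀, ← hΦL, Φ.apply_symm_apply]
      exact hg _ 0
  have hΩ : (omegaGL ⇑Q₀).map Φ.toMonoidHom = omegaGL ⇑Q := by
    show ((commutator _).map _).map _ = (commutator _).map _
    rw [Subgroup.map_subtype_commutator, Subgroup.map_subtype_commutator, Subgroup.map_commutator, hI]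
  have hΩmem : ∀ k, Φ k ∈ omegaGL ⇑Q ↔ k ∈ omegaGL ⇑Q₀ := fun k => by
    rw [← hΩ]
    exact Subgroup.mem_map_iff_mem Φ.injective
  obtain ⟨⟨R⟩, -⟩ := OmE.exists_frame hnd₀ (by
    simp only [Fintype.card_prod, Fintype.card_fin]; omega)
  refine isMaximalIn_of inf_le_right ?_ ?_
  · obtain ⟨h, hh, hhn⟩ := exists_not_inH hP hnd₀ R
    exact ⟨Φ h, (hΩmem h).2 hh, fun hm => hhn ((inH_iff e P).1 hm.1)⟩
  intro M hHM hMK g hgM hgH
  set M₀ := M.comap Φ.toMonoidHom with hM₀
  have hle : M₀ ≤ omegaGL ⇑Q₀ := fun k hk => (hΩmem k).1 (hMK hk)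
  have H : Hyp Q₀ f₁ f₂ M₀ := hyp_of_le hP hnd₀ hex hle fun k hk hin =>
    hHM ⟨(inH_iff e P).2 hin, (hΩmem k).2 hk⟩
  have hg₀ : Φ.symm g ∈ M₀ := by
    rw [hM₀, Subgroup.mem_comap, MulEquiv.coe_toMonoidHom, Φ.apply_symm_apply]; exact hgM
  have hroot : HasRoot Q₀ f₂ M₀ := by
    by_contra hno
    exact hgH ⟨Φ.apply_symm_apply g ▸ (inH_iff e P).2 (inH_of_mem H hno _ hg₀), hMK hgM⟩
  intro y hy
  have := omega_le H hnd₀ R hroot (show Φ.symm y ∈ omegaGL ⇑Q₀ from
    (hΩmem _).1 (by rw [Φ.apply_symm_apply]; exact hy))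
  rwa [hM₀, Subgroup.mem_comap, MulEquiv.coe_toMonoidHom, Φ.apply_symm_apply] at this

end CfsgLib.ClassicalMax.TensorSymp
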