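/-
Stabilisers of tensor products of a symplectic and a symmetric form are maximal in the symplectic
group.
-/
import Cfsg.Agent.Lib.ClassicalMax.STensTwo
import Cfsg.Agent.Lib.ClassicalMax.TensorSympMax
import Cfsg.Agent.Lib.ClassicalMax.SympTools
set_option autoImplicit false
set_option linter.unusedSectionVars false

namespace CfsgLib.ClassicalMax.STens

open Matrix Kronecker Module Cfsg.Geo
open CfsgLib.ClassicalMax.Kron
open CfsgLib.ClassicalMax.TensorSL (InH inH_iff)
open CfsgLib.ClassicalMax.TensorSymp (coord coord_apply)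

variable {F : Type*} [Field F] [DecidableEq F] [Fintype F] {a b : ℕ}

/-- The action of an element on a vector. -/
local notation:80 g:81 " •ᵥ " z:80 => Matrix.mulVec (Units.val g) z

/-- Some isometry is not a tensor. -/
lemma exists_not_inH {B : (Fin a × Fin b → F) → (Fin a × Fin b → F) → F}
    {f₁ : (Fin a → F) → (Fin a → F) → F} {f₂ : (Fin b → F) → (Fin b → F) → F}
    (P : Pair B f₁ f₂) (ha : 2 ≤ a) : ∃ g ∈ isoOf B, ¬ InH g := by
  have hb := P.three_le
  set p : Fin a × Fin b → F :=
    pt (Pi.single ⟨0, by omega⟩ 1) (Pi.single ⟨0, by omega⟩ 1) with hp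
  have hp0 : p ≠ 0 := pt_ne_zero (by simp) (by simp)
  refine ⟨sTv B p 1, sTv_mem_isoOf P.hB p 1, fun hH => ?_⟩
  have hN : ∀ z, (act (sTv B p 1) - 1) z = B z p • p := fun z => by
    simp [sTv_mulVec P.hB]
  have hsq : (act (sTv B p 1) - 1) * (act (sTv B p 1) - 1) = 0 := LinearMap.ext fun z => by
    rw [Module.End.mul_apply, hN, hN, P.hB.bilinear.smul_left, P.hB.alternating, mul_zero, zero_smul,
      LinearMap.zero_apply]
  have hne : sTv B p 1 ≠ 1 := fun h => by
    obtain ⟨z, hz⟩ := (P.hB.nondegenerate p hp0).1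
    have := hN z
    rw [h, map_one, sub_self, LinearMap.zero_apply] at this
    exact hp0 ((smul_eq_zero.1 this.symm).resolve_left hz)
  have hdim : finrank F (LinearMap.range (act (sTv B p 1) - 1)) ≤ 1 := by
    rw [← finrank_span_singleton (K := F) hp0]
    refine Submodule.finrank_mono ?_
    rintro _ ⟨z, rfl⟩
    rw [hN]
    exact Submodule.smul_mem _ _ (Submodule.mem_span_singleton_self p)
  rcases sq_zero_kron (by omega) (by omega) P.two hH hsq with ⟨A, hA⟩ | ⟨C, hC⟩
  · obtain ⟨x, hx⟩ : ∃ x, A •ᵥ x - x ≠ 0 := by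
      by_contra hcon
      push Not at hcon
      exact hne (hA.trans (gl_ext_pt fun x w => by
        rw [kronGL_pt, sub_eq_zero.1 (hcon x), Units.val_one, Units.val_one, one_mulVec, one_mulVec]))
    have h1 : LinearMap.range (ptL (b := b) (A •ᵥ x - x)) ≤
        LinearMap.range (act (sTv B p 1) - 1) := by
      rintro _ ⟨w, rfl⟩
      exact ⟨pt x w, by simp [hA, kronGL_pt, pt_sub_left]⟩
    have h2 := Submodule.finrank_mono h1
    rw [LinearMap.finrank_range_of_inj (ptL_injective hx), finrank_fin_fun] at h2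
    omega
  · rw [hC, range_kron_right, finrank_rowSub] at hdim
    rcases Nat.eq_zero_or_pos (finrank F (LinearMap.range (act C - 1))) with h0 | h0
    · rw [Submodule.finrank_eq_zero, LinearMap.range_eq_bot, sub_eq_zero] at h0
      exact hne (hC.trans (by rw [act_injective (h0.trans (map_one act).symm), kronGL_one]))
    · have := Nat.mul_le_mul ha h0
      omega

/-- Stabilisers of products of a symplectic and a symmetric form are maximal. -/
theorem sympOrth_tensor_maximal {ι : Type} [Fintype ι] [DecidableEq ι]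
    {f : (ι → F) → (ι → F) → F} (hf : IsSymplecticForm f) (e : ι ≃ Fin a × Fin b) (P : GL ι F)
    {f₁ : (Fin a → F) → (Fin a → F) → F} {f₂ : (Fin b → F) → (Fin b → F) → F}
    (hf₁ : IsSymplecticForm f₁) (hf₂ : IsSymmetricForm f₂)
    (hform : ∀ u u' w w', f (Tensor.pureL e P u w) (Tensor.pureL e P u' w') = f₁ u u' * f₂ w w')
    (h2 : (2 : F) ≠ 0) (ha0 : a ≠ 0) (hbad : ¬ (a = 2 ∧ b = 4)) (hb : 3 ≤ b)
    (hbig : 4 ≤ b ∨ 5 ≤ Nat.card F) :
    IsMaximalIn (isoOf f) (tensorProductSubgroup a b e P ⊓ isoOf f) := by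
  have hcard : Fintype.card ι = a * b := by rw [Fintype.card_congr e]; simp
  have hea : Even a := by simpa using Asch.symplectic_even hf₁
  obtain ⟨n, hn'⟩ := hea
  set L := coord e P
  let B : (Fin a × Fin b → F) → (Fin a × Fin b → F) → F := fun z z' => f (L z) (L z')
  have hB : IsSymplecticForm B :=
    { bilinear :=
        { add_left := fun x y z => by simp only [B, map_add, hf.bilinear.add_left]
          smul_left := fun c x z => by simp only [B, map_smul, hf.bilinear.smul_left]
          add_right := fun x y z => by simp only [B, map_add, hf.bilinear.add_right]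
          smul_right := fun c x z => by simp only [B, map_smul, hf.bilinear.smul_right] }
      skew := fun z z' => hf.skew _ _
      alternating := fun z => hf.alternating _
      nondegenerate := fun z hz => by
        obtain ⟨⟨x, hx⟩, ⟨y, hy⟩⟩ := hf.nondegenerate (L z) (fun h => hz (L.map_eq_zero_iff.1 h))
        exact ⟨⟨L.symm x, by simpa [B] using hx⟩, ⟨L.symm y, by simpa [B] using hy⟩⟩ }
  have hLpt : ∀ x w, L (pt x w) = Tensor.pureL e P x w := fun x w => by
    rw [coord_apply, Tensor.pureL_eq]; rfl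
  have hP : Pair B f₁ f₂ := ⟨hB, hf₁, hf₂, fun x x' w w' => by
    show f (L _) (L _) = _
    rw [hLpt, hLpt, hform], h2, hb⟩
  set Φ : GL (Fin a × Fin b) F ≃* GL ι F := (glReindex e.symm).trans (MulAut.conj P) with hΦ
  have hΦL : ∀ g z, (Φ g : Matrix ι ι F) *ᵥ L z = L ((g : Matrix _ _ F) *ᵥ z) := fun g z => by
    rw [coord_apply, coord_apply]
    change ((P * glReindex e.symm g * P⁻¹ : GL ι F) : Matrix ι ι F) *ᵥ _ = _
    rw [gl_mulVec_mul, gl_mulVec_mul, gl_inv_mulVec_mulVec]
    congr 1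
    show ((g : Matrix (Fin a × Fin b) (Fin a × Fin b) F).submatrix e.symm.symm e.symm.symm) *ᵥ (z ∘ e) = _
    rw [Matrix.submatrix_mulVec_equiv]
    simp [Function.comp_assoc]
  have hmem : ∀ k, Φ k ∈ isoOf f ↔ k ∈ isoOf B := fun k => by
    rw [mem_isoOf, mem_isoOf]
    constructor
    · intro h z z'
      show f (L _) (L _) = f (L z) (L z')
      rw [← hΦL, ← hΦL, h]
    · intro h x y
      have h1 : f (L _) (L _) = f (L (L.symm x)) (L (L.symm y)) := h (L.symm x) (L.symm y)
      rw [← hΦL, ← hΦL, L.apply_symm_apply, L.apply_symm_apply] at h1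
      exact h1
  refine isMaximalIn_of inf_le_right ?_ ?_
  · obtain ⟨h, hh, hhn⟩ := exists_not_inH hP (by omega)
    exact ⟨Φ h, (hmem h).2 hh, fun hm => hhn ((inH_iff e P).1 hm.1)⟩
  intro M hHM hMK g hgM hgH
  set M₀ := M.comap Φ.toMonoidHom with hM₀
  have H : Over B f₁ f₂ M₀ := ⟨hP, fun k hk => (hmem k).1 (hMK hk),
    fun A C h => hHM ⟨(inH_iff e P).2 ⟨A, C, rfl⟩, (hmem _).2 h⟩, hbig⟩
  have hg₀ : Φ.symm g ∈ M₀ := by
    rw [hM₀, Subgroup.mem_comap, MulEquiv.coe_toMonoidHom, Φ.apply_symm_apply]; exact hgM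
  by_cases hno : NoTv B f₂ M₀
  · exfalso
    refine hgH ⟨Φ.apply_symm_apply g ▸ (inH_iff e P).2 ?_, hMK hgM⟩
    by_cases h4 : 4 ≤ a
    · exact inH_of_four H hno h4 hg₀
    · obtain rfl : a = 2 := by omega
      exact inH_of_two H hno (fun h => hbad ⟨rfl, h⟩) (by omega) hg₀
  simp only [NoTv, not_forall, not_not] at hno
  obtain ⟨u, e', c, hu, he0, he, hc, hmem'⟩ := hno
  intro y hy
  have := isoOf_le H hu he0 he hc hmem' ((hmem (Φ.symm y)).1 (by rw [Φ.apply_symm_apply]; exact hy))
  rwa [hM₀, Subgroup.mem_comap, MulEquiv.coe_toMonoidHom, Φ.apply_symm_apply] at this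

end CfsgLib.ClassicalMax.STens
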