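import Mathlib
import Cfsg.Agent.Lib.Aschbacher.Basic
import Cfsg.Agent.Lib.Forms.Classify

/-!
The factor data of the spin subspace: for an alternating Gram matrix of size two or four in
characteristic two, a subspace of self-adjoint matrices whose squares are scalars, invariant under
similitudes.
-/

set_option autoImplicit false
set_option linter.unusedSectionVars false

namespace CfsgLib.SpinTensor

open Matrix CfsgLib.Asch

variable {F : Type*} [Field F] {k : ℕ}

/-- The quadratic function of the form given by `G` and `X` vanishes. -/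
def Alt (G X : Matrix (Fin k) (Fin k) F) : Prop := ∀ v : Fin k → F, v ⬝ᵥ (G * X) *ᵥ v = 0

/-- `X` is self-adjoint for `G`. -/
def SelfAdj (G X : Matrix (Fin k) (Fin k) F) : Prop := (G * X)ᵀ = G * X

/-- The data on one tensor factor. -/
structure Fac (G : Matrix (Fin k) (Fin k) F) where
  W : Submodule F (Matrix (Fin k) (Fin k) F)
  inv : ∀ (a : GL (Fin k) F) (c : F), (a : Matrix (Fin k) (Fin k) F)ᵀ * G * (a : Matrix (Fin k) (Fin k) F) = c • G →
    ∀ X ∈ W, cj a X ∈ W
  anti : ∀ X ∈ W, ∀ Y ∈ W, ∃ s : F, X * Y + Y * X = s • (1 : Matrix (Fin k) (Fin k) F)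
  D : Matrix (Fin k) (Fin k) F
  Y : Matrix (Fin k) (Fin k) F
  A : Matrix (Fin k) (Fin k) F
  D_mem : D ∈ W
  Y_mem : Y ∈ W
  D_sq : D * D = 0
  DY : D * Y + Y * D = 1
  selfD : SelfAdj G D
  selfA : SelfAdj G A
  altOne : Alt G 1
  h : GL (Fin k) F
  h_iso : (h : Matrix (Fin k) (Fin k) F)ᵀ * G * (h : Matrix (Fin k) (Fin k) F) = G
  hA : cj h A + A = D

theorem sq_congr {X Y : Matrix (Fin k) (Fin k) F} (T : GL (Fin k) F) (h : X * Y = 0) :
    cj T X * cj T Y = 0 := by rw [← cj_mul, h, cj_zero]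

theorem congr_mul (T : GL (Fin k) F) {G J : Matrix (Fin k) (Fin k) F}
    (hT : (T : Matrix (Fin k) (Fin k) F)ᵀ * G * (T : Matrix (Fin k) (Fin k) F) = J)
    (X : Matrix (Fin k) (Fin k) F) :
    G * cj T X = ((T⁻¹ : GL (Fin k) F) : Matrix (Fin k) (Fin k) F)ᵀ * (J * X) *
      ((T⁻¹ : GL (Fin k) F) : Matrix (Fin k) (Fin k) F) := by
  have e : ((T⁻¹ : GL (Fin k) F) : Matrix (Fin k) (Fin k) F)ᵀ * (T : Matrix (Fin k) (Fin k) F)ᵀ = 1 := by
    rw [← transpose_mul, Units.mul_inv, transpose_one]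
  rw [← hT]
  simp only [← mul_assoc]
  rw [e, one_mul, cj]
  simp only [mul_assoc]

theorem selfAdj_congr (T : GL (Fin k) F) {G J X : Matrix (Fin k) (Fin k) F}
    (hT : (T : Matrix (Fin k) (Fin k) F)ᵀ * G * (T : Matrix (Fin k) (Fin k) F) = J) (h : SelfAdj J X) :
    SelfAdj G (cj T X) := by
  rw [SelfAdj, congr_mul T hT, transpose_mul, transpose_mul, transpose_transpose, h]
  simp only [mul_assoc]

theorem alt_congr (T : GL (Fin k) F) {G J X : Matrix (Fin k) (Fin k) F}
    (hT : (T : Matrix (Fin k) (Fin k) F)ᵀ * G * (T : Matrix (Fin k) (Fin k) F) = J) (h : Alt J X) :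
    Alt G (cj T X) := by
  intro v
  have e : ∀ A M : Matrix (Fin k) (Fin k) F, v ⬝ᵥ (Aᵀ * M * A) *ᵥ v = (A *ᵥ v) ⬝ᵥ M *ᵥ (A *ᵥ v) := by
    intro A M
    rw [show (Aᵀ * M * A) *ᵥ v = Aᵀ *ᵥ (M *ᵥ (A *ᵥ v)) by rw [mulVec_mulVec, mulVec_mulVec, mul_assoc],
      dotProduct_mulVec, vecMul_transpose]
  rw [congr_mul T hT, e]
  exact h _

/-- Change of coordinates. -/
noncomputable def Fac.congr {G J : Matrix (Fin k) (Fin k) F} (d : Fac J) (T : GL (Fin k) F)
    (hT : (T : Matrix (Fin k) (Fin k) F)ᵀ * G * (T : Matrix (Fin k) (Fin k) F) = J) : Fac G where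
  W :=
    { carrier := {X | cj T⁻¹ X ∈ d.W}
      add_mem' := fun {X Y} hX hY => by
        simpa using d.W.add_mem (show cj T⁻¹ X ∈ d.W from hX) (show cj T⁻¹ Y ∈ d.W from hY)
      zero_mem' := by simp
      smul_mem' := fun c X hX => by simpa using d.W.smul_mem c (show cj T⁻¹ X ∈ d.W from hX) }
  inv a c ha X hX := by
    show cj T⁻¹ (cj a X) ∈ d.W
    have key := d.inv (T⁻¹ * a * T) c (by
      rw [← hT]
      simp only [Units.val_mul, transpose_mul]
      have e : ((T⁻¹ : GL (Fin k) F) : Matrix (Fin k) (Fin k) F)ᵀ * (T : Matrix (Fin k) (Fin k) F)ᵀ = 1 := by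
        rw [← transpose_mul, Units.mul_inv, transpose_one]
      calc _ = (T : Matrix (Fin k) (Fin k) F)ᵀ * ((a : Matrix (Fin k) (Fin k) F)ᵀ *
            ((((T⁻¹ : GL (Fin k) F) : Matrix (Fin k) (Fin k) F)ᵀ * (T : Matrix (Fin k) (Fin k) F)ᵀ) * G *
            ((T : Matrix (Fin k) (Fin k) F) * ((T⁻¹ : GL (Fin k) F) : Matrix (Fin k) (Fin k) F))) *
            (a : Matrix (Fin k) (Fin k) F)) * (T : Matrix (Fin k) (Fin k) F) := by simp only [mul_assoc]
        _ = _ := by rw [e, Units.mul_inv, one_mul, mul_one, ha, Matrix.mul_smul, Matrix.smul_mul])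
      _ hX
    rw [cj_cj] at key ⊢
    simpa [mul_assoc] using key
  anti X hX Y hY := by
    obtain ⟨s, hs⟩ := d.anti _ hX _ hY
    refine ⟨s, ?_⟩
    have := congrArg (cj T) hs
    simpa [cj_cj, cj_one_left] using this
  D := cj T d.D
  Y := cj T d.Y
  A := cj T d.A
  D_mem := by show cj T⁻¹ (cj T d.D) ∈ d.W; simpa [cj_cj, cj_one_left] using d.D_mem
  Y_mem := by show cj T⁻¹ (cj T d.Y) ∈ d.W; simpa [cj_cj, cj_one_left] using d.Y_mem
  D_sq := sq_congr T d.D_sq
  DY := by rw [← cj_mul, ← cj_mul, ← cj_add, d.DY, cj_one]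
  selfD := selfAdj_congr T hT d.selfD
  selfA := selfAdj_congr T hT d.selfA
  altOne := by simpa using alt_congr T hT d.altOne
  h := T * d.h * T⁻¹
  h_iso := by
    have e : ((T⁻¹ : GL (Fin k) F) : Matrix (Fin k) (Fin k) F)ᵀ * (T : Matrix (Fin k) (Fin k) F)ᵀ = 1 := by
      rw [← transpose_mul, Units.mul_inv, transpose_one]
    simp only [Units.val_mul, transpose_mul]
    calc _ = ((T⁻¹ : GL (Fin k) F) : Matrix (Fin k) (Fin k) F)ᵀ * ((d.h : Matrix (Fin k) (Fin k) F)ᵀ *
          ((T : Matrix (Fin k) (Fin k) F)ᵀ * G * (T : Matrix (Fin k) (Fin k) F)) *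
          (d.h : Matrix (Fin k) (Fin k) F)) * ((T⁻¹ : GL (Fin k) F) : Matrix (Fin k) (Fin k) F) := by
          simp only [mul_assoc]
      _ = _ := by
          rw [hT, d.h_iso, ← hT]
          simp only [← mul_assoc, e, one_mul]
          rw [mul_assoc, Units.mul_inv, mul_one]
  hA := by
    rw [cj_cj, show T * d.h * T⁻¹ * T = T * d.h by group, ← cj_cj, ← cj_add, d.hA]

section two

variable [CharP F 2]

/-- The Gram matrix of a plane. -/
def J2 (F : Type*) [Field F] : Matrix (Fin 2) (Fin 2) F := !![0, 1; 1, 0]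

theorem alt_one_two : Alt (J2 F) 1 := fun v => by
  simp [J2, Matrix.mulVec, dotProduct, Fin.sum_univ_two, Matrix.vecHead, Matrix.vecTail]
  linear_combination (v 0 * v 1) * CharTwo.two_eq_zero (R := F)

/-- The data for planes. -/
noncomputable def fac2 {l : F} (hl0 : l ≠ 0) (hl1 : l ≠ 1) : Fac (J2 F) :=
  have hl : l ^ 2 + 1 ≠ 0 := fun e => hl1 <| by
    have h0 : (l + 1) ^ 2 = 0 := by rw [CharTwo.add_sq, one_pow, e]
    exact CharTwo.add_eq_zero.1 (pow_eq_zero_iff (n := 2) two_ne_zero |>.1 h0)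
  { W :=
      { carrier := {X | X 0 0 = X 1 1}
        add_mem' := fun {X Y} hX hY => by
          show (X + Y) 0 0 = (X + Y) 1 1
          simp only [Matrix.add_apply]
          rw [show X 0 0 = X 1 1 from hX, show Y 0 0 = Y 1 1 from hY]
        zero_mem' := rfl
        smul_mem' := fun c X hX => by
          show (c • X) 0 0 = (c • X) 1 1
          simp only [Matrix.smul_apply]
          rw [show X 0 0 = X 1 1 from hX] }
    inv := fun a _ _ X hX => by
      show cj a X 0 0 = cj a X 1 1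
      have h1 : Matrix.trace (cj a X) = Matrix.trace X := by
        rw [cj, Matrix.trace_mul_comm, ← mul_assoc, Units.inv_mul, one_mul]
      rw [Matrix.trace_fin_two, Matrix.trace_fin_two, show X 0 0 = X 1 1 from hX, CharTwo.add_self_eq_zero] at h1
      exact CharTwo.add_eq_zero.1 h1
    anti := fun X hX Y hY => by
      have h1 : X 0 0 = X 1 1 := hX
      have h2 : Y 0 0 = Y 1 1 := hY
      refine ⟨X 0 1 * Y 1 0 + Y 0 1 * X 1 0, ?_⟩
      ext i j
      fin_cases i <;> fin_cases j <;>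
        simp [Matrix.mul_apply, Fin.sum_univ_two, h1, h2] <;> ring_nf <;> simp [CharTwo.two_eq_zero]
    D := !![0, 1; 0, 0]
    Y := !![0, 0; 1, 0]
    A := (l ^ 2 + 1)⁻¹ • !![0, 1; 0, 0]
    D_mem := by show (0 : F) = 0; rfl
    Y_mem := by show (0 : F) = 0; rfl
    D_sq := by ext i j; fin_cases i <;> fin_cases j <;> simp
    DY := by ext i j; fin_cases i <;> fin_cases j <;> simp
    selfD := by ext i j; fin_cases i <;> fin_cases j <;> simp [J2]
    selfA := by ext i j; fin_cases i <;> fin_cases j <;> simp [J2]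
    altOne := alt_one_two
    h := ⟨!![l, 0; 0, l⁻¹], !![l⁻¹, 0; 0, l],
      by ext i j; fin_cases i <;> fin_cases j <;> simp [hl0],
      by ext i j; fin_cases i <;> fin_cases j <;> simp [hl0]⟩
    h_iso := by ext i j; fin_cases i <;> fin_cases j <;> simp [J2, hl0, Matrix.mul_apply, Fin.sum_univ_two]
    hA := by
      ext i j
      fin_cases i <;> fin_cases j <;> simp [cj, Units.inv_mk]
      field_simp }

theorem two_test {l : F} (hl0 : l ≠ 0) (hl1 : l ≠ 1) :
    ∃ u : Fin 2 → F, u ⬝ᵥ (J2 F * (fac2 hl0 hl1).D) *ᵥ u ≠ 0 :=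
  ⟨![0, 1], by simp [J2, fac2, Matrix.mulVec, dotProduct, Fin.sum_univ_two, Matrix.vecHead, Matrix.vecTail]⟩

end two

section four

variable [CharP F 2]

/-- The Gram matrix of two planes. -/
def J4 (F : Type*) [Field F] : Matrix (Fin 4) (Fin 4) F :=
  !![0, 1, 0, 0; 1, 0, 0, 0; 0, 0, 0, 1; 0, 0, 1, 0]

/-- The alternating self-adjoint matrices. -/
def mk4 (a b c d e g : F) : Matrix (Fin 4) (Fin 4) F :=
  !![a, 0, d, e; 0, a, b, c; c, e, g, 0; b, d, 0, g]

theorem mk4_sq (a b c d e g : F) :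
    mk4 a b c d e g * mk4 a b c d e g = (a + g) • mk4 a b c d e g + (a * g + b * e + c * d) • 1 := by
  ext i j
  fin_cases i <;> fin_cases j <;> simp [mk4, Matrix.mul_apply, Fin.sum_univ_four] <;> ring_nf <;>
    simp [CharTwo.two_eq_zero]

theorem mk4_alt (a b c d e g : F) : Alt (J4 F) (mk4 a b c d e g) := fun v => by
  simp [J4, mk4, Matrix.mulVec, dotProduct, Fin.sum_univ_four, Matrix.mul_apply, Matrix.vecHead,
    Matrix.vecTail]
  linear_combination (a * v 0 * v 1 + b * v 0 * v 2 + c * v 0 * v 3 + d * v 1 * v 2 + e * v 1 * v 3 +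
    g * v 2 * v 3) * CharTwo.two_eq_zero (R := F)

theorem eq_mk4_of_alt {X : Matrix (Fin 4) (Fin 4) F} (h : Alt (J4 F) X) :
    ∃ a b c d e g, X = mk4 a b c d e g := by
  refine ⟨X 0 0, X 1 2, X 1 3, X 0 2, X 0 3, X 2 2, ?_⟩
  have h0 := h ![1, 0, 0, 0]
  have h1 := h ![0, 1, 0, 0]
  have h2 := h ![0, 0, 1, 0]
  have h3 := h ![0, 0, 0, 1]
  have h01 := h ![1, 1, 0, 0]
  have h02 := h ![1, 0, 1, 0]
  have h03 := h ![1, 0, 0, 1]
  have h12 := h ![0, 1, 1, 0]
  have h13 := h ![0, 1, 0, 1]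
  have h23 := h ![0, 0, 1, 1]
  simp [J4, Matrix.mulVec, dotProduct, Fin.sum_univ_four, Matrix.mul_apply, Matrix.vecHead,
    Matrix.vecTail] at h0 h1 h2 h3 h01 h02 h03 h12 h13 h23
  have t := CharTwo.two_eq_zero (R := F)
  ext i j
  fin_cases i <;> fin_cases j <;> simp [mk4] <;>
    first
      | assumption
      | linear_combination h01 - h0 - h1 - (X 0 0) * t
      | linear_combination h02 - h0 - h2 - (X 1 2) * t
      | linear_combination h03 - h0 - h3 - (X 1 3) * t
      | linear_combination h12 - h1 - h2 - (X 0 2) * t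
      | linear_combination h13 - h1 - h3 - (X 0 3) * t
      | linear_combination h23 - h2 - h3 - (X 2 2) * t

/-- The hyperplane of matrices with scalar square. -/
def W4 (F : Type*) [Field F] : Submodule F (Matrix (Fin 4) (Fin 4) F) where
  carrier := {X | ∃ a b c d e, X = mk4 a b c d e a}
  add_mem' := by
    rintro _ _ ⟨a, b, c, d, e, rfl⟩ ⟨a', b', c', d', e', rfl⟩
    refine ⟨a + a', b + b', c + c', d + d', e + e', ?_⟩
    ext i j; fin_cases i <;> fin_cases j <;> simp [mk4]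
  zero_mem' := ⟨0, 0, 0, 0, 0, by ext i j; fin_cases i <;> fin_cases j <;> simp [mk4]⟩
  smul_mem' := by
    rintro s _ ⟨a, b, c, d, e, rfl⟩
    exact ⟨s * a, s * b, s * c, s * d, s * e, by ext i j; fin_cases i <;> fin_cases j <;> simp [mk4]⟩

theorem mem_W4_iff {X : Matrix (Fin 4) (Fin 4) F} :
    X ∈ W4 F ↔ Alt (J4 F) X ∧ ∃ s : F, X * X = s • (1 : Matrix (Fin 4) (Fin 4) F) := by
  constructor
  · rintro ⟨a, b, c, d, e, rfl⟩
    exact ⟨mk4_alt _ _ _ _ _ _, _, by rw [mk4_sq, CharTwo.add_self_eq_zero, zero_smul, zero_add]⟩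
  · rintro ⟨hX, s, hs⟩
    obtain ⟨a, b, c, d, e, g, rfl⟩ := eq_mk4_of_alt hX
    refine ⟨a, b, c, d, e, ?_⟩
    suffices a = g by rw [this]
    by_contra hag
    have hne : a + g ≠ 0 := fun e => hag (CharTwo.add_eq_zero.1 e)
    rw [mk4_sq] at hs
    have e1 := congrFun (congrFun hs 0) 0
    have e2 := congrFun (congrFun hs 2) 2
    simp [mk4] at e1 e2
    exact hag (mul_left_cancel₀ hne (by linear_combination e1 - e2))

theorem W4_inv (a : GL (Fin 4) F) (c : F)
    (ha : (a : Matrix (Fin 4) (Fin 4) F)ᵀ * J4 F * (a : Matrix (Fin 4) (Fin 4) F) = c • J4 F)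
    {X : Matrix (Fin 4) (Fin 4) F} (hX : X ∈ W4 F) : cj a X ∈ W4 F := by
  obtain ⟨hA, s, hs⟩ := mem_W4_iff.1 hX
  refine mem_W4_iff.2 ⟨alt_congr a ha (fun v => ?_), s, ?_⟩
  · rw [Matrix.smul_mul, Matrix.smul_mulVec, dotProduct_smul, hA, smul_zero]
  · rw [← cj_mul, hs, cj_smul, cj_one]

theorem W4_anti {X : Matrix (Fin 4) (Fin 4) F} (hX : X ∈ W4 F) {Y : Matrix (Fin 4) (Fin 4) F}
    (hY : Y ∈ W4 F) : ∃ s : F, X * Y + Y * X = s • (1 : Matrix (Fin 4) (Fin 4) F) := by
  obtain ⟨-, s, hs⟩ := mem_W4_iff.1 hX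
  obtain ⟨-, t, ht⟩ := mem_W4_iff.1 hY
  obtain ⟨-, u, hu⟩ := mem_W4_iff.1 ((W4 F).add_mem hX hY)
  refine ⟨u - s - t, ?_⟩
  rw [sub_smul, sub_smul, ← hu, ← hs, ← ht]
  noncomm_ring

/-- The data for two planes. -/
noncomputable def fac4 : Fac (J4 F) where
  W := W4 F
  inv a c ha _ hX := W4_inv a c ha hX
  anti _ hX _ hY := W4_anti hX hY
  D := mk4 0 0 1 0 0 0
  Y := mk4 0 0 0 1 0 0
  A := mk4 0 0 0 0 1 0
  D_mem := ⟨0, 0, 1, 0, 0, rfl⟩
  Y_mem := ⟨0, 0, 0, 1, 0, rfl⟩
  D_sq := by ext i j; fin_cases i <;> fin_cases j <;> simp [mk4, Matrix.mul_apply, Fin.sum_univ_four]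
  DY := by ext i j; fin_cases i <;> fin_cases j <;> simp [mk4, Matrix.mul_apply, Fin.sum_univ_four]
  selfD := by ext i j; fin_cases i <;> fin_cases j <;> simp [J4, mk4, Matrix.mul_apply, Fin.sum_univ_four]
  selfA := by ext i j; fin_cases i <;> fin_cases j <;> simp [J4, mk4, Matrix.mul_apply, Fin.sum_univ_four]
  altOne := by
    have := mk4_alt (F := F) 1 0 0 0 0 1
    convert this using 1
    ext i j; fin_cases i <;> fin_cases j <;> simp [mk4]
  h := ⟨1 + Matrix.single 1 0 1, 1 + Matrix.single 1 0 1,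
    by ext i j; fin_cases i <;> fin_cases j <;> simp [Matrix.mul_apply, Fin.sum_univ_four, Matrix.single_apply, CharTwo.add_self_eq_zero],
    by ext i j; fin_cases i <;> fin_cases j <;> simp [Matrix.mul_apply, Fin.sum_univ_four, Matrix.single_apply, CharTwo.add_self_eq_zero]⟩
  h_iso := by
    ext i j
    fin_cases i <;> fin_cases j <;>
      simp [J4, Matrix.mul_apply, Fin.sum_univ_four, Matrix.single_apply, CharTwo.add_self_eq_zero]
  hA := by
    ext i j
    fin_cases i <;> fin_cases j <;>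
      simp [cj, Units.inv_mk, mk4, Matrix.mul_apply, Fin.sum_univ_four, Matrix.single_apply, CharTwo.add_self_eq_zero]

theorem fac4_altA : Alt (J4 F) (fac4 (F := F)).A := mk4_alt _ _ _ _ _ _

/-- A rank one self-adjoint matrix of square zero which is not alternating. -/
theorem four_test : SelfAdj (J4 F) (Matrix.single 1 0 1) ∧
    Matrix.single (1 : Fin 4) (0 : Fin 4) (1 : F) * Matrix.single 1 0 1 = 0 ∧
    ∃ u : Fin 4 → F, (∀ X ∈ (fac4 (F := F)).W, u ⬝ᵥ (J4 F * X) *ᵥ u = 0) ∧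
      u ⬝ᵥ (J4 F * Matrix.single 1 0 1) *ᵥ u ≠ 0 := by
  refine ⟨?_, Matrix.single_mul_single_of_ne _ _ _ _ (by decide) _, ![1, 0, 0, 0],
    fun X hX => (mem_W4_iff.1 hX).1 _, ?_⟩
  · ext i j
    fin_cases i <;> fin_cases j <;> simp [J4, Matrix.mul_apply, Matrix.vecMul, dotProduct, Fin.sum_univ_four, Matrix.single_apply]
  · simp [J4, Matrix.mulVec, dotProduct, Fin.sum_univ_four, Matrix.mul_apply, Matrix.single_apply,
      Matrix.vecHead, Matrix.vecTail]

end four

/-- An alternating nondegenerate Gram matrix of size at most four in characteristic two. -/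
theorem exists_coords [CharP F 2] (G : Matrix (Fin k) (Fin k) F) (hk : k ≤ 4) (hk0 : 0 < k)
    (hsym : Gᵀ = G) (hdiag : ∀ i, G i i = 0) (hdet : G.det ≠ 0) :
    (∃ (h : k = 2) (T : GL (Fin k) F), (T : Matrix (Fin k) (Fin k) F)ᵀ * G * (T : Matrix (Fin k) (Fin k) F) =
        (J2 F).submatrix (Fin.cast h) (Fin.cast h)) ∨
      (∃ (h : k = 4) (T : GL (Fin k) F), (T : Matrix (Fin k) (Fin k) F)ᵀ * G * (T : Matrix (Fin k) (Fin k) F) =
        (J4 F).submatrix (Fin.cast h) (Fin.cast h)) := by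
  classical
  let B : LinearMap.BilinForm F (Fin k → F) := Matrix.toBilin' G
  have hA : B.IsAlt := by
    intro v
    rw [Matrix.toBilin'_apply', dotProduct]
    simp only [Matrix.mulVec, dotProduct, Finset.mul_sum]
    rw [← Fintype.sum_prod_type']
    refine Finset.sum_involution (fun p _ => (p.2, p.1)) (fun p _ => ?_) (fun p _ hp he => hp ?_)
      (fun p _ => Finset.mem_univ _) (fun p _ => rfl)
    · have e : G p.2 p.1 = G p.1 p.2 := congrFun (congrFun hsym p.1) p.2
      rw [e]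
      linear_combination (v p.1 * G p.1 p.2 * v p.2) * CharTwo.two_eq_zero (R := F)
    · have e : p.1 = p.2 := congrArg Prod.snd he
      rw [e, hdiag]; ring
  obtain ⟨m, r, b, hmr, hspan, h1, h2, h3, h4⟩ :=
    CfsgLib.Forms.exists_symplectic_family B hA k ⊤ (by rw [finrank_top, Module.finrank_fin_fun])
  have hB : B.Nondegenerate := LinearMap.BilinForm.nondegenerate_toBilin'_of_det_ne_zero' G hdet
  have hr : r = 0 := by
    by_contra hr
    have hv : b (.inr ⟨0, Nat.pos_of_ne_zero hr⟩) = 0 := hB.1 _ fun v => h4 _ v trivial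
    let c := fun s => b s
    have hle := finrank_range_le_card (R := F) (fun s : {s // s ≠ Sum.inr (⟨0, Nat.pos_of_ne_zero hr⟩ : Fin r)} => b s.1)
    have hsp : Submodule.span F (Set.range fun s : {s // s ≠ Sum.inr (⟨0, Nat.pos_of_ne_zero hr⟩ : Fin r)} => b s.1) = ⊤ := by
      rw [← top_le_iff, ← hspan, Submodule.span_le]
      rintro _ ⟨s, rfl⟩
      by_cases hs : s = Sum.inr ⟨0, Nat.pos_of_ne_zero hr⟩
      · rw [hs, hv]; exact Submodule.zero_mem _
      · exact Submodule.subset_span ⟨⟨s, hs⟩, rfl⟩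
    rw [Set.finrank, hsp, finrank_top, Module.finrank_fin_fun, Fintype.card_subtype_compl] at hle
    simp at hle
    omega
  subst hr
  have hm : m = 1 ∨ m = 2 := by omega
  let b' : Fin m ⊕ Fin m → Fin k → F := fun s => b (.inl s)
  have hGram : ∀ s s', B (b' s) (b' s') = (Matrix.fromBlocks (0 : Matrix (Fin m) (Fin m) F) 1 1 0) s s' := by
    intro s s'
    rcases s with i | i <;> rcases s' with j | j
    · simpa using h2 i j
    · simpa [Matrix.one_apply] using h1 i j
    · rw [← LinearMap.IsAlt.neg hA, h1, CharTwo.neg_eq]; simp [Matrix.one_apply, eq_comm]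
    · simpa using h3 i j
  have key : ∀ (l : Fin k ≃ Fin m ⊕ Fin m), ∃ T : GL (Fin k) F,
      (T : Matrix (Fin k) (Fin k) F)ᵀ * G * (T : Matrix (Fin k) (Fin k) F) =
        (Matrix.fromBlocks (0 : Matrix (Fin m) (Fin m) F) 1 1 0).submatrix l l := by
    intro l
    let M : Matrix (Fin k) (Fin k) F := Matrix.of fun i j => b' (l j) i
    have hM : Mᵀ * G * M = (Matrix.fromBlocks (0 : Matrix (Fin m) (Fin m) F) 1 1 0).submatrix l l := by
      ext i j
      rw [Matrix.submatrix_apply, ← hGram, Matrix.toBilin'_apply']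
      simp [M, Matrix.mul_apply, Matrix.mulVec, dotProduct, Finset.mul_sum, Finset.sum_mul]
      rw [Finset.sum_comm]
      exact Finset.sum_congr rfl fun a _ => Finset.sum_congr rfl fun c _ => by ring
    have hdetM : M.det ≠ 0 := by
      intro h0
      have := congrArg Matrix.det hM
      rw [det_mul, det_mul, h0, mul_zero, det_submatrix_equiv_self] at this
      have e : (Matrix.fromBlocks 0 1 1 0 : Matrix (Fin m ⊕ Fin m) (Fin m ⊕ Fin m) F) *
          (Matrix.fromBlocks 0 1 1 0 : Matrix (Fin m ⊕ Fin m) (Fin m ⊕ Fin m) F) = 1 := by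
        simp [Matrix.fromBlocks_multiply, Matrix.fromBlocks_one]
      have e2 := congrArg Matrix.det e
      rw [det_mul, ← this, zero_mul, det_one] at e2
      exact zero_ne_one e2
    exact ⟨Matrix.GeneralLinearGroup.mkOfDetNeZero M hdetM, hM⟩
  rcases hm with rfl | rfl
  · obtain rfl : k = 2 := by omega
    refine Or.inl ⟨rfl, ?_⟩
    obtain ⟨T, hT⟩ := key ((finSumFinEquiv (m := 1) (n := 1)).symm)
    refine ⟨T, hT.trans ?_⟩
    ext i j
    fin_cases i <;> fin_cases j <;> simp [J2, finSumFinEquiv, Fin.addCases, Matrix.fromBlocks]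
  · obtain rfl : k = 4 := by omega
    refine Or.inr ⟨rfl, ?_⟩
    obtain ⟨T, hT⟩ := key ((Equiv.swap (1 : Fin 4) 2).trans (finSumFinEquiv (m := 2) (n := 2)).symm)
    refine ⟨T, hT.trans ?_⟩
    ext i j
    fin_cases i <;> fin_cases j <;>
      simp [J4, finSumFinEquiv, Fin.addCases, Matrix.fromBlocks, Equiv.swap_apply_def, Matrix.one_apply]

end CfsgLib.SpinTensor
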