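import Mathlib
import Cfsg.Agent.Lib.ClassicalMax.SpinFac
import Cfsg.Agent.Lib.Aschbacher.FormComponents
import Cfsg.Agent.Lib.Aschbacher.Product

/-!
In characteristic two the stabiliser of a tensor power of symplectic forms of size two or four, inside
the orthogonal group of the attached quadratic form, is contained in the stabiliser of the subspace of
matrices spanned by the identity and the distinguished subspaces of the single factors.
-/

set_option autoImplicit false
set_option linter.unusedSectionVars false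

namespace CfsgLib.SpinTensor

open Matrix CfsgLib.Asch Cfsg.Geo
open scoped commutatorElement

variable {F : Type*} [Field F] {n k t : ℕ}

/-- A pure vector. -/
def pv (U : Fin t → Fin k → F) : (Fin t → Fin k) → F := fun a => ∏ i, U i (a i)

theorem pv_single (a : (Fin t → Fin k)) :
    (Pi.single a 1 : (Fin t → Fin k) → F) = pv fun i => Pi.single (a i) 1 := by
  funext b
  rcases eq_or_ne b a with rfl | h
  · simp [pv]
  · obtain ⟨i, hi⟩ := Function.ne_iff.1 h
    rw [Pi.single_eq_of_ne h, pv]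
    exact (Finset.prod_eq_zero (Finset.mem_univ i) (Pi.single_eq_of_ne hi 1)).symm

theorem pw_mulVec_pv (M : Fin t → Matrix (Fin k) (Fin k) F) (U : Fin t → Fin k → F) :
    pw M *ᵥ pv U = pv fun i => M i *ᵥ U i := by
  funext x
  simp only [Matrix.mulVec, dotProduct, pw, pv, Matrix.of_apply, ← Finset.prod_mul_distrib]
  exact (Fintype.prod_sum (fun i a => M i (x i) a * U i a)).symm

theorem pv_dot (U V : Fin t → Fin k → F) : pv U ⬝ᵥ pv V = ∏ i, U i ⬝ᵥ V i := by
  simp only [dotProduct, pv, ← Finset.prod_mul_distrib]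
  exact (Fintype.prod_sum (fun i a => U i a * V i a)).symm

theorem pw_eq_zero {M : Fin t → Matrix (Fin k) (Fin k) F} (i : Fin t) (h : M i = 0) : pw M = 0 := by
  ext x y
  rw [pw, Matrix.of_apply, Finset.prod_eq_zero (Finset.mem_univ i) (by rw [h]; rfl)]
  rfl

theorem pw_update_add (Z : Fin t → Matrix (Fin k) (Fin k) F) (i : Fin t)
    (A B : Matrix (Fin k) (Fin k) F) :
    pw (Function.update Z i (A + B)) = pw (Function.update Z i A) + pw (Function.update Z i B) := by
  ext p q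
  have key : ∀ C : Matrix (Fin k) (Fin k) F, (∏ j, Function.update Z i C j (p j) (q j))
      = C (p i) (q i) * ∏ j ∈ Finset.univ.erase i, Z j (p j) (q j) := by
    intro C
    rw [← Finset.mul_prod_erase _ _ (Finset.mem_univ i), Function.update_self]
    congr 1
    exact Finset.prod_congr rfl fun j hj => by rw [Function.update_of_ne (Finset.ne_of_mem_erase hj)]
  simp only [pw, Matrix.of_apply, Matrix.add_apply, key, add_mul]

theorem pw_update_smul (Z : Fin t → Matrix (Fin k) (Fin k) F) (i : Fin t) (c : F)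
    (A : Matrix (Fin k) (Fin k) F) :
    pw (Function.update Z i (c • A)) = c • pw (Function.update Z i A) := by
  ext p q
  have key : ∀ C : Matrix (Fin k) (Fin k) F, (∏ j, Function.update Z i C j (p j) (q j))
      = C (p i) (q i) * ∏ j ∈ Finset.univ.erase i, Z j (p j) (q j) := by
    intro C
    rw [← Finset.mul_prod_erase _ _ (Finset.mem_univ i), Function.update_self]
    congr 1
    exact Finset.prod_congr rfl fun j hj => by rw [Function.update_of_ne (Finset.ne_of_mem_erase hj)]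
  simp only [pw, Matrix.of_apply, Matrix.smul_apply, key, smul_eq_mul, mul_assoc]

theorem pwUnit_mul (a b : Fin t → GL (Fin k) F) : pwUnit a * pwUnit b = pwUnit (a * b) :=
  Units.ext (by simp only [pwUnit, Units.val_mul, pw_mul]; rfl)

theorem pwUnit_one : pwUnit (1 : Fin t → GL (Fin k) F) = 1 :=
  Units.ext (by simp only [pwUnit, Units.val_one, ← pw_one]; rfl)

theorem permUnit_mul (σ τ : Equiv.Perm (Fin t)) :
    permUnit (F := F) (m := k) σ * permUnit τ = permUnit (σ * τ) := by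
  refine Units.ext ?_
  show permMat σ * permMat τ = permMat (σ * τ)
  rw [permMat_mul]
  ext x y
  simp only [permMat, Matrix.of_apply]
  rfl

theorem permUnit_one : permUnit (F := F) (m := k) (1 : Equiv.Perm (Fin t)) = 1 := by
  refine Units.ext ?_
  show permMat (1 : Equiv.Perm (Fin t)) = (1 : Matrix (Fin t → Fin k) (Fin t → Fin k) F)
  ext x y
  simp [permMat, Matrix.one_apply, eq_comm]

theorem permUnit_inv (σ : Equiv.Perm (Fin t)) :
    (permUnit (F := F) (m := k) σ)⁻¹ = permUnit σ⁻¹ := Units.ext rfl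

theorem permUnit_conj (σ : Equiv.Perm (Fin t)) (b : Fin t → GL (Fin k) F) :
    permUnit σ * pwUnit b = pwUnit (fun i => b (σ⁻¹ i)) * permUnit σ := by
  have h : permUnit σ * pwUnit b * (permUnit σ)⁻¹ = pwUnit fun i => b (σ⁻¹ i) :=
    Units.ext (permMat_conj_pw σ _)
  rw [← h, inv_mul_cancel_right]

/-- The normal form of an element of the standard wreath group. -/
theorem exists_normal_form {u : GL (Fin t → Fin k) F} (hu : u ∈ tensorWreathStandard k t F) :
    ∃ (a : Fin t → GL (Fin k) F) (σ : Equiv.Perm (Fin t)), u = pwUnit a * permUnit σ := by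
  refine Subgroup.closure_induction ?_ ?_ ?_ ?_ hu
  · rintro x (⟨a, ha⟩ | ⟨σ, hσ⟩)
    · exact ⟨a, 1, by rw [permUnit_one, mul_one]; exact Units.ext (Matrix.ext ha)⟩
    · exact ⟨1, σ, by rw [pwUnit_one, one_mul]; exact Units.ext (Matrix.ext hσ)⟩
  · exact ⟨1, 1, by rw [pwUnit_one, permUnit_one, one_mul]⟩
  · rintro x y - - ⟨a, σ, rfl⟩ ⟨b, τ, rfl⟩
    refine ⟨a * fun i => b (σ⁻¹ i), σ * τ, ?_⟩
    rw [mul_assoc (pwUnit a), ← mul_assoc (permUnit σ), permUnit_conj, ← mul_assoc, ← mul_assoc,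
      pwUnit_mul, mul_assoc, permUnit_mul]
  · rintro x - ⟨a, σ, rfl⟩
    refine ⟨fun i => (a (σ i))⁻¹, σ⁻¹, ?_⟩
    have h : (pwUnit a)⁻¹ = pwUnit fun i => (a i)⁻¹ := Units.ext rfl
    rw [_root_.mul_inv_rev, h, permUnit_inv, permUnit_conj, inv_inv]

/-- The setting: a quadratic form whose polar form is a multiple of the tensor power of `G`. -/
structure Setup (G : Matrix (Fin k) (Fin k) F) (q : ((Fin t → Fin k) → F) → F) (c : F) : Prop where
  c_ne : c ≠ 0
  smul : ∀ (s : F) x, q (s • x) = s ^ 2 * q x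
  add : ∀ x y, q (x + y) = q x + q y + c * (x ⬝ᵥ pw (fun _ => G) *ᵥ y)
  pure : ∀ U, q (pv U) = 0
  sym : Gᵀ = G

theorem eq_zero_of_additive {κ : Type} [Fintype κ] [DecidableEq κ] (d : (κ → F) → F)
    (hadd : ∀ x y, d (x + y) = d x + d y) (hsm : ∀ (s : F) x, d (s • x) = s ^ 2 * d x)
    (hb : ∀ a, d (Pi.single a 1) = 0) (x : κ → F) : d x = 0 := by
  have h0 : d 0 = 0 := by simpa using hsm 0 0
  have hx : x = ∑ a, x a • (Pi.single a 1 : κ → F) := by
    funext b; simp [Finset.sum_apply, Pi.single_apply]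
  rw [hx]
  refine Finset.sum_induction _ (fun z => d z = 0) (fun a b ha hb' => by simp only [hadd, ha, hb', add_zero]) h0
    fun a _ => by simp only [hsm, hb, mul_zero]

section char2

variable [CharP F 2]

theorem mat_add_self {κ : Type} (M : Matrix κ κ F) : M + M = 0 := by
  ext i j; exact CharTwo.add_self_eq_zero _

theorem dot_self_eq_zero {κ : Type} [Fintype κ] [DecidableEq κ] (M : Matrix κ κ F) (hs : Mᵀ = M)
    (hd : ∀ a, M a a = 0) (v : κ → F) : v ⬝ᵥ M *ᵥ v = 0 := by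
  refine eq_zero_of_additive (fun v => v ⬝ᵥ M *ᵥ v) (fun x y => ?_) (fun s x => ?_) (fun a => ?_) v
  · have e : y ⬝ᵥ M *ᵥ x = x ⬝ᵥ M *ᵥ y := by
      rw [dotProduct_comm, ← hs, mulVec_transpose, ← dotProduct_mulVec, hs]
    simp only [mulVec_add, add_dotProduct, dotProduct_add, e]
    linear_combination (x ⬝ᵥ M *ᵥ y) * CharTwo.two_eq_zero (R := F)
  · simp only [mulVec_smul, smul_dotProduct, dotProduct_smul, smul_eq_mul]; ring
  · simp [hd]

/-- The unit `1 + pw Z` for square zero `pw Z`. -/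
def unip (Z : Fin t → Matrix (Fin k) (Fin k) F) (j : Fin t) (hj : Z j * Z j = 0) : GL (Fin t → Fin k) F :=
  ⟨1 + pw Z, 1 + pw Z,
    by rw [add_mul, mul_add, mul_add, one_mul, one_mul, mul_one, pw_mul, pw_eq_zero (M := Z * Z) j hj, add_zero,
      add_assoc, mat_add_self, add_zero],
    by rw [add_mul, mul_add, mul_add, one_mul, one_mul, mul_one, pw_mul, pw_eq_zero (M := Z * Z) j hj, add_zero,
      add_assoc, mat_add_self, add_zero]⟩

theorem unip_inv (Z : Fin t → Matrix (Fin k) (Fin k) F) (j : Fin t) (hj : Z j * Z j = 0) :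
    (unip Z j hj)⁻¹ = unip Z j hj := Units.ext rfl

theorem cj_unip (Z : Fin t → Matrix (Fin k) (Fin k) F) (j : Fin t) (hj : Z j * Z j = 0)
    (M : Matrix (Fin t → Fin k) (Fin t → Fin k) F) :
    cj (unip Z j hj) M = M + (pw Z * M + M * pw Z) + pw Z * M * pw Z := by
  rw [cj, unip_inv]
  show (1 + pw Z) * M * (1 + pw Z) = _
  noncomm_ring

variable {G : Matrix (Fin k) (Fin k) F} {q : ((Fin t → Fin k) → F) → F} {c : F}

/-- `u` preserves `q`. -/
def Iso (q : ((Fin t → Fin k) → F) → F) (u : GL (Fin t → Fin k) F) : Prop := ∀ v, q ((u : Matrix (Fin t → Fin k) (Fin t → Fin k) F) *ᵥ v) = q v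

theorem iso_unip (hS : Setup G q c) (Z : Fin t → Matrix (Fin k) (Fin k) F) (j : Fin t)
    (hj : Z j * Z j = 0) (hsa : ∀ i, SelfAdj G (Z i)) (hal : ∃ i, Alt G (Z i)) :
    Iso q (unip Z j hj) := by
  intro v
  show q ((1 + pw Z) *ᵥ v) = q v
  have h1 : ∀ v : (Fin t → Fin k) → F, q (pw Z *ᵥ v) = 0 := by
    refine eq_zero_of_additive _ (fun x y => ?_) (fun s x => by rw [mulVec_smul, hS.smul]) (fun a => ?_)
    · have e : (pw Z *ᵥ x) ⬝ᵥ pw (fun _ => G) *ᵥ (pw Z *ᵥ y) = 0 := by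
        rw [← vecMul_transpose, ← dotProduct_mulVec, mulVec_mulVec, mulVec_mulVec, pw_transpose,
          pw_mul, pw_mul, pw_eq_zero j, zero_mulVec, dotProduct_zero]
        have h : (G * Z j)ᵀ = G * Z j := hsa j
        rw [transpose_mul, hS.sym] at h
        show (Z j)ᵀ * G * Z j = 0
        rw [h, mul_assoc, hj, mul_zero]
      rw [mulVec_add, hS.add, e, mul_zero, add_zero]
    · rw [pv_single, pw_mulVec_pv, hS.pure]
  rw [add_mulVec, one_mulVec, hS.add, h1, add_zero, mulVec_mulVec, pw_mul]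
  rw [dot_self_eq_zero _ ?_ ?_ v, mul_zero, add_zero]
  · rw [pw_transpose]
    exact congrArg pw (funext fun i => hsa i)
  · intro a
    obtain ⟨i, hi⟩ := hal
    show ∏ i, (G * Z i) (a i) (a i) = 0
    refine Finset.prod_eq_zero (Finset.mem_univ i) ?_
    have h := hi (Pi.single (a i) 1)
    simpa using h

theorem iso_pwUnit (hS : Setup G q c) (a : Fin t → GL (Fin k) F)
    (ha : ∀ i, (a i : Matrix (Fin k) (Fin k) F)ᵀ * G * (a i : Matrix (Fin k) (Fin k) F) = G) :
    Iso q (pwUnit a) := by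
  intro v
  rw [← sub_eq_zero]
  set u : Matrix (Fin t → Fin k) (Fin t → Fin k) F := pw fun i => (a i : Matrix (Fin k) (Fin k) F)
  show q (u *ᵥ v) - q v = 0
  refine eq_zero_of_additive (fun v => q (u *ᵥ v) - q v) (fun x y => ?_) (fun s x => ?_) (fun b => ?_) v
  · have e : (u *ᵥ x) ⬝ᵥ pw (fun _ => G) *ᵥ (u *ᵥ y) = x ⬝ᵥ pw (fun _ => G) *ᵥ y := by
      rw [← vecMul_transpose, ← dotProduct_mulVec, mulVec_mulVec, mulVec_mulVec, pw_transpose, pw_mul, pw_mul]
      congr 3
      funext i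
      show (a i : Matrix (Fin k) (Fin k) F)ᵀ * G * (a i : Matrix (Fin k) (Fin k) F) = G
      exact ha i
    simp only [mulVec_add, hS.add, e]
    ring
  · simp only [mulVec_smul, hS.smul]; ring
  · simp only [pv_single, u, pw_mulVec_pv, hS.pure, sub_self]

theorem form_of_iso (hS : Setup G q c) {u : GL (Fin t → Fin k) F} (hu : Iso q u) :
    (u : Matrix (Fin t → Fin k) (Fin t → Fin k) F)ᵀ * pw (fun _ => G) * (u : Matrix (Fin t → Fin k) (Fin t → Fin k) F) = pw fun _ => G := by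
  refine Matrix.ext_of_mulVec_single fun b => funext fun a => ?_
  have h := hu (Pi.single a 1 + Pi.single b 1)
  rw [mulVec_add, hS.add, hS.add, hu, hu, add_right_inj, mul_right_inj' hS.c_ne,
    ← vecMul_transpose, ← dotProduct_mulVec, mulVec_mulVec, mulVec_mulVec] at h
  simpa using h

theorem iso_inv {u : GL (Fin t → Fin k) F} (hu : Iso q u) : Iso q u⁻¹ := fun v => by
  have h := hu (((u⁻¹ : GL (Fin t → Fin k) F) : Matrix (Fin t → Fin k) (Fin t → Fin k) F) *ᵥ v)
  rw [mulVec_mulVec, Units.mul_inv, one_mulVec] at h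
  exact h.symm

/-- The matrix acting in one factor only. -/
def slot (i : Fin t) (X : Matrix (Fin k) (Fin k) F) : Matrix (Fin t → Fin k) (Fin t → Fin k) F := pw (Function.update 1 i X)

theorem cj_pwUnit (a : Fin t → GL (Fin k) F) (Z : Fin t → Matrix (Fin k) (Fin k) F) :
    cj (pwUnit a) (pw Z) = pw fun i => cj (a i) (Z i) := by
  show pw (fun i => (a i : Matrix (Fin k) (Fin k) F)) * pw Z *
    pw (fun i => ((a i)⁻¹ : GL (Fin k) F)) = _
  rw [pw_mul, pw_mul]
  rfl

theorem cj_permUnit (σ : Equiv.Perm (Fin t)) (Z : Fin t → Matrix (Fin k) (Fin k) F) :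
    cj (permUnit σ) (pw Z) = pw fun i => Z (σ⁻¹ i) := permMat_conj_pw σ Z

theorem cj_normal_slot (a : Fin t → GL (Fin k) F) (σ : Equiv.Perm (Fin t)) (i : Fin t)
    (X : Matrix (Fin k) (Fin k) F) :
    cj (pwUnit a * permUnit σ) (slot i X) = slot (σ i) (cj (a (σ i)) X) := by
  rw [← cj_cj, slot, cj_permUnit, cj_pwUnit]
  refine congrArg pw (funext fun l => ?_)
  rcases eq_or_ne l (σ i) with rfl | h
  · simp
  · rw [Function.update_of_ne h, Function.update_of_ne (fun e => h ?_)]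
    · simp
    · rw [← e]; simp

theorem similar_of_iso (hS : Setup G q c) (hG : G ≠ 0) {a : Fin t → GL (Fin k) F}
    {σ : Equiv.Perm (Fin t)} (hu : Iso q (pwUnit a * permUnit σ)) (i : Fin t) :
    ∃ s : F, (a i : Matrix (Fin k) (Fin k) F)ᵀ * G * (a i : Matrix (Fin k) (Fin k) F) = s • G := by
  have h1 := form_of_iso hS hu
  have hσ : permMat (F := F) (m := k) σ⁻¹ * pw (fun _ : Fin t => G) * permMat σ = pw fun _ => G := by
    simpa using permMat_conj_pw σ⁻¹ (fun _ : Fin t => G)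
  have h2 : pw (fun i => (a i : Matrix (Fin k) (Fin k) F)ᵀ * (G * (a i : Matrix (Fin k) (Fin k) F))) =
      pw fun _ : Fin t => G := by
    have e : (pw fun i => (a i : Matrix (Fin k) (Fin k) F)ᵀ * (G * (a i : Matrix (Fin k) (Fin k) F))) =
        (pw fun i => (a i : Matrix (Fin k) (Fin k) F))ᵀ * ((pw fun _ => G) * pw fun i => (a i : Matrix (Fin k) (Fin k) F)) := by
      rw [pw_transpose, pw_mul, pw_mul]; rfl
    rw [e]
    set X := (pw fun i => (a i : Matrix (Fin k) (Fin k) F))ᵀ *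
      ((pw fun _ : Fin t => G) * pw fun i => (a i : Matrix (Fin k) (Fin k) F)) with hX
    have h4 : permMat (F := F) (m := k) σ⁻¹ * X * permMat σ = pw fun _ : Fin t => G := by
      have hv : ((pwUnit a * permUnit σ : GL (Fin t → Fin k) F) : Matrix (Fin t → Fin k) (Fin t → Fin k) F) =
          (pw fun i => (a i : Matrix (Fin k) (Fin k) F)) * permMat σ := rfl
      rw [hv] at h1
      simpa only [hX, transpose_mul, permMat_transpose, mul_assoc] using h1
    calc X = permMat (F := F) (m := k) σ * (permMat σ⁻¹ * X * permMat σ) * permMat σ⁻¹ := by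
          simp only [mul_assoc, permMat_mul_inv, mul_one]
          rw [← mul_assoc (permMat σ) (permMat σ⁻¹), permMat_mul_inv, one_mul]
      _ = _ := by rw [h4]; exact permMat_conj_pw σ _
  obtain ⟨s, hs⟩ := pw_factor_unique h2 fun _ => hG
  exact ⟨s i, by rw [mul_assoc]; exact hs i⟩

/-- The subspace spanned by the identity and the distinguished subspaces of the factors. -/
def spinSpace (d : Fac G) (t : ℕ) : Submodule F (Matrix (Fin t → Fin k) (Fin t → Fin k) F) :=
  Submodule.span F {M | M = 1 ∨ ∃ i, ∃ X ∈ d.W, M = slot i X}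

theorem one_mem_spin (d : Fac G) : (1 : Matrix (Fin t → Fin k) (Fin t → Fin k) F) ∈ spinSpace d t :=
  Submodule.subset_span (Or.inl rfl)

theorem slot_mem_spin (d : Fac G) (i : Fin t) {X : Matrix (Fin k) (Fin k) F} (hX : X ∈ d.W) :
    slot i X ∈ spinSpace d t :=
  Submodule.subset_span (Or.inr ⟨i, X, hX, rfl⟩)

theorem cj_mem_spin (d : Fac G) {u : GL (Fin t → Fin k) F}
    (h : ∀ i, ∀ X ∈ d.W, cj u (slot i X) ∈ spinSpace d t) {M : Matrix (Fin t → Fin k) (Fin t → Fin k) F}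
    (hM : M ∈ spinSpace d t) : cj u M ∈ spinSpace d t := by
  induction hM using Submodule.span_induction with
  | mem M hM =>
    rcases hM with rfl | ⟨i, X, hX, rfl⟩
    · rw [cj_one]; exact one_mem_spin d
    · exact h i X hX
  | zero => simp
  | add x y _ _ hx hy => rw [cj_add]; exact add_mem hx hy
  | smul s x _ hx => rw [cj_smul]; exact Submodule.smul_mem _ s hx

/-- The stabiliser of the subspace. -/
def spinStab (d : Fac G) (t : ℕ) : Subgroup (GL (Fin t → Fin k) F) where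
  carrier := {u | (∀ M ∈ spinSpace d t, cj u M ∈ spinSpace d t) ∧
    ∀ M ∈ spinSpace d t, cj u⁻¹ M ∈ spinSpace d t}
  one_mem' := ⟨fun M hM => by simpa using hM, fun M hM => by simpa using hM⟩
  mul_mem' := fun {u v} hu hv => ⟨fun M hM => by rw [← cj_cj]; exact hu.1 _ (hv.1 _ hM),
    fun M hM => by rw [_root_.mul_inv_rev, ← cj_cj]; exact hv.2 _ (hu.2 _ hM)⟩
  inv_mem' := fun {u} hu => ⟨hu.2, by rw [inv_inv]; exact hu.1⟩

theorem cj_slot_of_wreath (hS : Setup G q c) (hG : G ≠ 0) (d : Fac G) {u : GL (Fin t → Fin k) F}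
    (hu : u ∈ tensorWreathStandard k t F) (hq : Iso q u) (i : Fin t) (X : Matrix (Fin k) (Fin k) F) :
    ∃ (j : Fin t) (X' : Matrix (Fin k) (Fin k) F), cj u (slot i X) = slot j X' ∧ (X ∈ d.W → X' ∈ d.W) := by
  obtain ⟨a, σ, rfl⟩ := exists_normal_form hu
  obtain ⟨s, hs⟩ := similar_of_iso hS hG hq (σ i)
  exact ⟨σ i, _, cj_normal_slot a σ i X, fun hX => d.inv _ s hs X hX⟩

theorem wreath_le_stab (hS : Setup G q c) (hG : G ≠ 0) (d : Fac G) {u : GL (Fin t → Fin k) F}
    (hu : u ∈ tensorWreathStandard k t F) (hq : Iso q u) : u ∈ spinStab d t := by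
  refine ⟨fun M hM => cj_mem_spin d (fun i X hX => ?_) hM, fun M hM => cj_mem_spin d (fun i X hX => ?_) hM⟩
  · obtain ⟨j, X', h, h'⟩ := cj_slot_of_wreath hS hG d hu hq i X
    rw [h]; exact slot_mem_spin d j (h' hX)
  · obtain ⟨j, X', h, h'⟩ := cj_slot_of_wreath hS hG d (inv_mem hu) (iso_inv hq) i X
    rw [h]; exact slot_mem_spin d j (h' hX)

theorem pw_mul_slot (Z : Fin t → Matrix (Fin k) (Fin k) F) (i : Fin t) (X : Matrix (Fin k) (Fin k) F) :
    pw Z * slot i X = pw (Function.update Z i (Z i * X)) := by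
  rw [slot, pw_mul]
  refine congrArg pw (funext fun l => ?_)
  rcases eq_or_ne l i with rfl | h <;> simp [*]

theorem slot_mul_pw (Z : Fin t → Matrix (Fin k) (Fin k) F) (i : Fin t) (X : Matrix (Fin k) (Fin k) F) :
    slot i X * pw Z = pw (Function.update Z i (X * Z i)) := by
  rw [slot, pw_mul]
  refine congrArg pw (funext fun l => ?_)
  rcases eq_or_ne l i with rfl | h <;> simp [*]

theorem cj_unip_slot (Z : Fin t → Matrix (Fin k) (Fin k) F) (j : Fin t) (hj : Z j * Z j = 0)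
    (i : Fin t) (X : Matrix (Fin k) (Fin k) F) (l : Fin t) (hl : Z l * Z l = 0) (hli : l ≠ i) :
    cj (unip Z j hj) (slot i X) = slot i X + pw (Function.update Z i (Z i * X + X * Z i)) := by
  rw [cj_unip, pw_mul_slot, slot_mul_pw, ← pw_update_add, pw_mul,
    pw_eq_zero (M := Function.update Z i (Z i * X) * Z) l, add_zero]
  simp [hli, hl]

theorem slot_comm {i j : Fin t} (h : i ≠ j) (X Y : Matrix (Fin k) (Fin k) F) :
    slot i X * slot j Y = slot j Y * slot i X := by
  rw [slot, slot, pw_mul, pw_mul]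
  refine congrArg pw (funext fun l => ?_)
  rcases eq_or_ne l i with rfl | hi
  · simp [h]
  · simp [hi]

variable (d : Fac G)

/-- The element exchanging part of two factor subspaces. -/
theorem unip_pair_mem {i₀ i₁ : Fin t} (hne : i₀ ≠ i₁) (hj) :
    unip (Function.update (Function.update (1 : Fin t → Matrix (Fin k) (Fin k) F) i₀ d.D) i₁ d.D) i₁ hj ∈ spinStab d t := by
  suffices h : ∀ M ∈ spinSpace d t,
      cj (unip (Function.update (Function.update (1 : Fin t → Matrix (Fin k) (Fin k) F) i₀ d.D) i₁ d.D) i₁ hj) M ∈ spinSpace d t by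
    exact ⟨h, by rw [unip_inv]; exact h⟩
  intro M hM
  refine cj_mem_spin d (fun i X hX => ?_) hM
  set Z : Fin t → Matrix (Fin k) (Fin k) F := Function.update (Function.update (1 : Fin t → Matrix (Fin k) (Fin k) F) i₀ d.D) i₁ d.D
  have hsq : ∀ l, l = i₀ ∨ l = i₁ → Z l * Z l = 0 := by
    rintro l (rfl | rfl) <;> simp [Z, hne, d.D_sq]
  by_cases h1 : i = i₁
  · subst h1
    rw [cj_unip_slot Z _ hj i X i₀ (hsq _ (Or.inl rfl)) hne]
    obtain ⟨s, hs⟩ := d.anti _ d.D_mem _ hX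
    refine add_mem (slot_mem_spin d i hX) ?_
    rw [show Z i = d.D by simp [Z], hs, pw_update_smul]
    refine Submodule.smul_mem _ s ?_
    have e : Function.update Z i 1 = Function.update (1 : Fin t → Matrix (Fin k) (Fin k) F) i₀ d.D := by
      funext l
      rcases eq_or_ne l i with rfl | h
      · simp [Ne.symm hne]
      · simp [Z, h]
    rw [e]
    exact slot_mem_spin d i₀ d.D_mem
  · by_cases h0 : i = i₀
    · subst h0
      rw [cj_unip_slot Z _ hj i X i₁ (hsq _ (Or.inr rfl)) (Ne.symm hne)]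
      obtain ⟨s, hs⟩ := d.anti _ d.D_mem _ hX
      refine add_mem (slot_mem_spin d i hX) ?_
      rw [show Z i = d.D by simp [Z, hne], hs, pw_update_smul]
      refine Submodule.smul_mem _ s ?_
      have e : Function.update Z i 1 = Function.update (1 : Fin t → Matrix (Fin k) (Fin k) F) i₁ d.D := by
        funext l
        rcases eq_or_ne l i with rfl | h
        · simp [hne]
        · rcases eq_or_ne l i₁ with rfl | h' <;> simp [Z, *]
      rw [e]
      exact slot_mem_spin d i₁ d.D_mem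
    · rw [cj_unip_slot Z _ hj i X i₀ (hsq _ (Or.inl rfl)) (Ne.symm h0)]
      rw [show Z i = 1 by simp [Z, h0, h1], one_mul, mul_one, mat_add_self,
        pw_eq_zero i (by simp), add_zero]
      exact slot_mem_spin d i hX

theorem unip_pair_not_wreath (hS : Setup G q c) (hG : G ≠ 0) (hk : 0 < k) {i₀ i₁ : Fin t}
    (hne : i₀ ≠ i₁) (hj)
    (hq : Iso q (unip (Function.update (Function.update (1 : Fin t → Matrix (Fin k) (Fin k) F) i₀ d.D) i₁ d.D) i₁ hj)) :
    unip (Function.update (Function.update (1 : Fin t → Matrix (Fin k) (Fin k) F) i₀ d.D) i₁ d.D) i₁ hj ∉ tensorWreathStandard k t F := by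
  intro hu
  set Z : Fin t → Matrix (Fin k) (Fin k) F := Function.update (Function.update (1 : Fin t → Matrix (Fin k) (Fin k) F) i₀ d.D) i₁ d.D
  obtain ⟨j, X', h, -⟩ := cj_slot_of_wreath hS hG d hu hq i₀ d.Y
  rw [cj_unip_slot Z _ hj i₀ d.Y i₁ (by simp [Z, d.D_sq]) (Ne.symm hne),
    show Z i₀ = d.D by simp [Z, hne], d.DY,
    show Function.update Z i₀ 1 = Function.update (1 : Fin t → Matrix (Fin k) (Fin k) F) i₁ d.D by
      funext l
      rcases eq_or_ne l i₀ with rfl | h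
      · simp [hne]
      · rcases eq_or_ne l i₁ with rfl | h' <;> simp [Z, *],
    ← slot] at h
  have hnt : (1 : Matrix (Fin t → Fin k) (Fin t → Fin k) F) ≠ 0 := by
    intro e
    have := congrFun (congrFun e (fun _ => ⟨0, hk⟩)) (fun _ => ⟨0, hk⟩)
    simp at this
  have key : ∀ (i : Fin t) (A B : Matrix (Fin k) (Fin k) F),
      slot i A * slot i B + slot i B * slot i A = slot i (A * B + B * A) := fun i A B => by
    simp only [slot]
    rw [update_one_mul, update_one_mul, ← update_one_add]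
  have hone : ∀ i : Fin t, slot i (1 : Matrix (Fin k) (Fin k) F) = 1 := fun i => by
    rw [slot, show Function.update (1 : Fin t → Matrix (Fin k) (Fin k) F) i 1 = 1 from Function.update_eq_self i _, pw_one]
  by_cases hj0 : j = i₀
  · subst hj0
    have e := congrArg (fun M => M * slot i₁ d.Y + slot i₁ d.Y * M) h
    simp only [add_mul, mul_add] at e
    rw [slot_comm (Ne.symm hne) d.Y d.Y, slot_comm (Ne.symm hne) d.Y X', mat_add_self] at e
    rw [show slot j d.Y * slot i₁ d.Y + slot i₁ d.D * slot i₁ d.Y +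
        (slot j d.Y * slot i₁ d.Y + slot i₁ d.Y * slot i₁ d.D) =
        (slot j d.Y * slot i₁ d.Y + slot j d.Y * slot i₁ d.Y) +
          (slot i₁ d.D * slot i₁ d.Y + slot i₁ d.Y * slot i₁ d.D) by abel,
      mat_add_self, zero_add, key, d.DY, hone] at e
    exact hnt e
  · have e := congrArg (fun M => M * slot i₀ d.D + slot i₀ d.D * M) h
    simp only [add_mul, mul_add] at e
    rw [slot_comm hne d.D d.D, slot_comm (Ne.symm hj0) d.D X', mat_add_self] at e
    rw [show slot i₀ d.Y * slot i₀ d.D + slot i₁ d.D * slot i₀ d.D +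
        (slot i₀ d.D * slot i₀ d.Y + slot i₁ d.D * slot i₀ d.D) =
        (slot i₁ d.D * slot i₀ d.D + slot i₁ d.D * slot i₀ d.D) +
          (slot i₀ d.D * slot i₀ d.Y + slot i₀ d.Y * slot i₀ d.D) by abel,
      mat_add_self, zero_add, key, d.DY, hone] at e
    exact hnt e

theorem not_mem_of_test (Z : Fin t → Matrix (Fin k) (Fin k) F) (U V : Fin t → Fin k → F)
    (h1 : ∃ i, U i ⬝ᵥ G *ᵥ V i = 0)
    (h2 : ∀ i, ∀ X ∈ d.W, (∃ l, l ≠ i ∧ U l ⬝ᵥ G *ᵥ V l = 0) ∨ U i ⬝ᵥ (G * X) *ᵥ V i = 0)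
    (h3 : ∀ i, U i ⬝ᵥ (G * Z i) *ᵥ V i ≠ 0) : pw Z ∉ spinSpace d t := by
  have val : ∀ M : Fin t → Matrix (Fin k) (Fin k) F,
      pv U ⬝ᵥ (pw (fun _ => G) * pw M) *ᵥ pv V = ∏ i, U i ⬝ᵥ (G * M i) *ᵥ V i := fun M => by
    rw [pw_mul, pw_mulVec_pv, pv_dot]; rfl
  intro hZ
  have h : ∀ M ∈ spinSpace d t, pv U ⬝ᵥ (pw (fun _ => G) * M) *ᵥ pv V = 0 := by
    intro M hM
    induction hM using Submodule.span_induction with
    | mem M hM =>
      rcases hM with rfl | ⟨i, X, hX, rfl⟩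
      · rw [← pw_one, val]
        obtain ⟨i, hi⟩ := h1
        exact Finset.prod_eq_zero (Finset.mem_univ i) (by simpa using hi)
      · rw [slot, val]
        rcases h2 i X hX with ⟨l, hl, hl'⟩ | hi
        · exact Finset.prod_eq_zero (Finset.mem_univ l) (by simpa [hl] using hl')
        · exact Finset.prod_eq_zero (Finset.mem_univ i) (by simpa using hi)
    | zero => simp
    | add x y _ _ hx hy => rw [mul_add, add_mulVec, dotProduct_add, hx, hy, add_zero]
    | smul s x _ hx => rw [Matrix.mul_smul, Matrix.smul_mulVec, dotProduct_smul, hx, smul_zero]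
  exact Finset.prod_ne_zero_iff.2 (fun i _ => h3 i) (by rw [← val]; exact h _ hZ)

/-- Square zero products with self-adjoint factors are commutators of isometries. -/
theorem exists_commutator (hS : Setup G q c) (Z : Fin t → Matrix (Fin k) (Fin k) F) {i₀ j : Fin t}
    (hne : j ≠ i₀) (hj : Z j * Z j = 0) (hZ : Z i₀ = d.D) (hsa : ∀ i, SelfAdj G (Z i))
    (hal : ∃ i, Alt G (Function.update Z i₀ d.A i)) :
    ∃ u v, Iso q u ∧ Iso q v ∧ unip Z j hj = ⁅u, v⁆ := by
  have hj' : Function.update Z i₀ d.A j * Function.update Z i₀ d.A j = 0 := by simpa [hne] using hj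
  refine ⟨pwUnit (Function.update (1 : Fin t → GL (Fin k) F) i₀ d.h), unip (Function.update Z i₀ d.A) j hj',
    iso_pwUnit hS _ (fun i => ?_), iso_unip hS _ _ _ (fun i => ?_) hal, ?_⟩
  · rcases eq_or_ne i i₀ with rfl | h
    · simpa using d.h_iso
    · simp [h]
  · rcases eq_or_ne i i₀ with rfl | h
    · simpa using d.selfA
    · simpa [h] using hsa i
  · refine Units.ext ?_
    rw [commutatorElement_def, unip_inv, Units.val_mul, ← cj_coe]
    show 1 + pw Z = cj _ (1 + pw (Function.update Z i₀ d.A)) * (1 + pw (Function.update Z i₀ d.A))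
    rw [cj_add, cj_one, cj_pwUnit]
    rw [show (fun i => cj (Function.update (1 : Fin t → GL (Fin k) F) i₀ d.h i) (Function.update Z i₀ d.A i)) =
      Function.update Z i₀ (cj d.h d.A) by
        funext i
        rcases eq_or_ne i i₀ with rfl | h <;> simp [*]]
    rw [add_mul, one_mul, mul_add, mul_one, pw_mul,
      pw_eq_zero (M := Function.update Z i₀ (cj d.h d.A) * Function.update Z i₀ d.A) j
        (by simpa [hne] using hj), add_zero,
      add_assoc, add_comm (pw (Function.update Z i₀ d.A)), ← pw_update_add, d.hA, ← hZ,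
      Function.update_eq_self]

/-- The embedding of the tensor coordinates. -/
noncomputable def emb (e : Fin n ≃ (Fin t → Fin k)) (P : GL (Fin n) F) : GL (Fin t → Fin k) F →* GL (Fin n) F :=
  (MulAut.conj P).toMonoidHom.comp (glReindex e.symm).toMonoidHom

theorem emb_mulVec (e : Fin n ≃ (Fin t → Fin k)) (P : GL (Fin n) F) (u : GL (Fin t → Fin k) F) (x : (Fin t → Fin k) → F) :
    (emb e P u : Matrix (Fin n) (Fin n) F) *ᵥ ((P : Matrix (Fin n) (Fin n) F) *ᵥ (x ∘ e)) =
      (P : Matrix (Fin n) (Fin n) F) *ᵥ (((u : Matrix (Fin t → Fin k) (Fin t → Fin k) F) *ᵥ x) ∘ e) := by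
  have h : (emb e P u : Matrix (Fin n) (Fin n) F) =
      (P : Matrix (Fin n) (Fin n) F) * (u : Matrix (Fin t → Fin k) (Fin t → Fin k) F).submatrix e e *
        ((P⁻¹ : GL (Fin n) F) : Matrix (Fin n) (Fin n) F) := rfl
  rw [h, mulVec_mulVec, mul_assoc, Units.inv_mul, mul_one, ← mulVec_mulVec, submatrix_mulVec_equiv]
  simp [Function.comp_def]

theorem iso_iff (e : Fin n ≃ (Fin t → Fin k)) (P : GL (Fin n) F) (Q : (Fin n → F) → F) (u : GL (Fin t → Fin k) F) :
    emb e P u ∈ Cfsg.isometryGroup F Q ↔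
      Iso (fun x => Q ((P : Matrix (Fin n) (Fin n) F) *ᵥ (x ∘ e))) u := by
  constructor
  · intro h x
    have := h ((P : Matrix (Fin n) (Fin n) F) *ᵥ (x ∘ e)) ((P : Matrix (Fin n) (Fin n) F) *ᵥ (x ∘ e))
    change Q ((emb e P u : Matrix (Fin n) (Fin n) F) *ᵥ _) = _ at this
    rwa [emb_mulVec] at this
  · intro h z w
    show Q ((emb e P u : Matrix (Fin n) (Fin n) F) *ᵥ z) = Q z
    have hz : z = (P : Matrix (Fin n) (Fin n) F) *ᵥ
        (((((P⁻¹ : GL (Fin n) F) : Matrix (Fin n) (Fin n) F) *ᵥ z) ∘ e.symm) ∘ e) := by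
      simp [Function.comp_assoc]
    rw [hz, emb_mulVec]
    exact h _

/-- The stabiliser of the tensor decomposition inside `Ω` is not maximal. -/
theorem not_maximal (Q : (Fin n → F) → F) (e : Fin n ≃ (Fin t → Fin k)) (P : GL (Fin n) F)
    (hS : Setup G (fun x => Q ((P : Matrix (Fin n) (Fin n) F) *ᵥ (x ∘ e))) c) (hG : G ≠ 0)
    (hk : 0 < k) {i₀ i₁ : Fin t} (hne : i₀ ≠ i₁)
    (hal₀ : ∃ i, Alt G (Function.update (Function.update (Function.update (1 : Fin t → Matrix (Fin k) (Fin k) F) i₀ d.D) i₁ d.D) i₀ d.A i))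
    (Z : Fin t → Matrix (Fin k) (Fin k) F) {j : Fin t} (hji : j ≠ i₀) (hj : Z j * Z j = 0)
    (hZ : Z i₀ = d.D) (hsa : ∀ i, SelfAdj G (Z i))
    (hal : ∃ i, Alt G (Function.update Z i₀ d.A i))
    (hout : pw (Function.update Z i₀ 1) ∉ spinSpace d t) :
    ∃ K : Subgroup (GL (Fin n) F),
      tensorWreathSubgroup k t e P ⊓ omegaGL Q < K ∧ K < omegaGL Q := by
  have hinj : Function.Injective (emb e P) :=
    (MulAut.conj P).injective.comp (glReindex e.symm).injective
  have htw : tensorWreathSubgroup k t e P = (tensorWreathStandard k t F).map (emb e P) := by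
    rw [tensorWreathSubgroup, Subgroup.map_map]; rfl
  have hom : omegaGL Q ≤ Cfsg.isometryGroup F Q := Subgroup.map_subtype_le _
  have hcomm : ∀ u v, Iso (fun x => Q ((P : Matrix (Fin n) (Fin n) F) *ᵥ (x ∘ e))) u →
      Iso (fun x => Q ((P : Matrix (Fin n) (Fin n) F) *ᵥ (x ∘ e))) v → emb e P ⁅u, v⁆ ∈ omegaGL Q := by
    intro u v hu hv
    refine ⟨⁅(⟨_, (iso_iff e P Q u).2 hu⟩ : Cfsg.isometryGroup F Q), ⟨_, (iso_iff e P Q v).2 hv⟩⁆, ?_, ?_⟩
    · exact Subgroup.commutator_mem_commutator (Subgroup.mem_top _) (Subgroup.mem_top _)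
    · simp [map_commutatorElement]
  set Z₀ : Fin t → Matrix (Fin k) (Fin k) F := Function.update (Function.update (1 : Fin t → Matrix (Fin k) (Fin k) F) i₀ d.D) i₁ d.D
  have hj₀ : Z₀ i₁ * Z₀ i₁ = 0 := by simp [Z₀, d.D_sq]
  have hsa₀ : ∀ i, SelfAdj G (Z₀ i) := by
    intro i
    by_cases h : i = i₁
    · simpa [Z₀, h] using d.selfD
    · by_cases h' : i = i₀
      · simpa [Z₀, h', hne] using d.selfD
      · simp [Z₀, h, h', SelfAdj, hS.sym]
  obtain ⟨u₀, v₀, hu₀, hv₀, hx₀⟩ :=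
    exists_commutator d hS Z₀ (Ne.symm hne) hj₀ (by simp [Z₀, hne]) hsa₀ hal₀
  obtain ⟨u₁, v₁, hu₁, hv₁, hx₁⟩ := exists_commutator d hS Z hji hj hZ hsa hal
  refine ⟨(spinStab d t).map (emb e P) ⊓ omegaGL Q, lt_of_le_of_ne ?_ ?_,
    lt_of_le_of_ne inf_le_right ?_⟩
  · rw [htw]
    rintro g ⟨⟨u, hu, rfl⟩, hg⟩
    exact ⟨⟨u, wreath_le_stab hS hG d hu ((iso_iff e P Q u).1 (hom hg)), rfl⟩, hg⟩
  · intro heq
    have hin : emb e P (unip Z₀ i₁ hj₀) ∈ omegaGL Q := by rw [hx₀]; exact hcomm _ _ hu₀ hv₀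
    have := (heq ▸ (⟨⟨_, unip_pair_mem d hne hj₀, rfl⟩, hin⟩ :
      emb e P (unip Z₀ i₁ hj₀) ∈ (spinStab d t).map (emb e P) ⊓ omegaGL Q) :
      emb e P (unip Z₀ i₁ hj₀) ∈ tensorWreathSubgroup k t e P ⊓ omegaGL Q).1
    rw [htw] at this
    obtain ⟨w, hw, hw'⟩ := this
    rw [hinj hw'] at hw
    exact unip_pair_not_wreath d hS hG hk hne hj₀ ((iso_iff e P Q _).1 (hom hin)) hw
  · intro heq
    have hin : emb e P (unip Z j hj) ∈ omegaGL Q := by rw [hx₁]; exact hcomm _ _ hu₁ hv₁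
    rw [← heq] at hin
    obtain ⟨w, hw, hw'⟩ := hin.1
    rw [hinj hw'] at hw
    have h := hw.1 _ (slot_mem_spin d i₀ d.Y_mem)
    rw [cj_unip_slot Z j hj i₀ d.Y j hj hji, hZ, d.DY] at h
    exact hout (by simpa using sub_mem h (slot_mem_spin d i₀ d.Y_mem))

theorem form_congr (T : GL (Fin k) F) (G X : Matrix (Fin k) (Fin k) F) (u₀ : Fin k → F) :
    ((T : Matrix (Fin k) (Fin k) F) *ᵥ u₀) ⬝ᵥ (G * cj T X) *ᵥ ((T : Matrix (Fin k) (Fin k) F) *ᵥ u₀) =
      u₀ ⬝ᵥ ((T : Matrix (Fin k) (Fin k) F)ᵀ * G * (T : Matrix (Fin k) (Fin k) F) * X) *ᵥ u₀ := by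
  have e : ((T : Matrix (Fin k) (Fin k) F)ᵀ * G * (T : Matrix (Fin k) (Fin k) F) * X) *ᵥ u₀ =
      (T : Matrix (Fin k) (Fin k) F)ᵀ *ᵥ ((G * cj T X) *ᵥ ((T : Matrix (Fin k) (Fin k) F) *ᵥ u₀)) := by
    rw [mulVec_mulVec, mulVec_mulVec, cj]
    simp only [mul_assoc, Units.inv_mul, mul_one]
  rw [e, dotProduct_mulVec u₀, vecMul_transpose]

theorem not_maximal_two (Q : (Fin n → F) → F) (e : Fin n ≃ (Fin t → Fin 2)) (P : GL (Fin n) F)
    {G : Matrix (Fin 2) (Fin 2) F}
    (hS : Setup G (fun x => Q ((P : Matrix (Fin n) (Fin n) F) *ᵥ (x ∘ e))) c)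
    (T : GL (Fin 2) F) (hT : (T : Matrix (Fin 2) (Fin 2) F)ᵀ * G * (T : Matrix (Fin 2) (Fin 2) F) = J2 F)
    {l : F} (hl0 : l ≠ 0) (hl1 : l ≠ 1) (ht : 4 ≤ t) :
    ∃ K : Subgroup (GL (Fin n) F),
      tensorWreathSubgroup 2 t e P ⊓ omegaGL Q < K ∧ K < omegaGL Q := by
  have hG : G ≠ 0 := by
    rintro rfl
    simp at hT
    simpa [J2] using congrFun (congrFun hT 0) 1
  set d := (fac2 hl0 hl1).congr T hT
  obtain ⟨u₀, hu₀⟩ := two_test hl0 hl1
  let u : Fin 2 → F := (T : Matrix (Fin 2) (Fin 2) F) *ᵥ u₀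
  have hu : u ⬝ᵥ (G * d.D) *ᵥ u ≠ 0 := by
    have e1 : u ⬝ᵥ (G * d.D) *ᵥ u = u₀ ⬝ᵥ (J2 F * (fac2 hl0 hl1).D) *ᵥ u₀ := by
      show u ⬝ᵥ (G * cj T _) *ᵥ u = _
      rw [form_congr T G]
      exact congrArg (fun M => u₀ ⬝ᵥ (M * (fac2 hl0 hl1).D) *ᵥ u₀) hT
    rwa [e1]
  obtain ⟨v, hv⟩ : ∃ p : (Fin 2 → F) × (Fin 2 → F), p.1 ⬝ᵥ G *ᵥ p.2 ≠ 0 := by
    by_contra hc
    push Not at hc
    exact hG (Matrix.ext fun a b => by simpa using hc (Pi.single a 1, Pi.single b 1))
  let a : Fin t := ⟨0, by omega⟩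
  let b : Fin t := ⟨1, by omega⟩
  let c' : Fin t := ⟨2, by omega⟩
  let f : Fin t := ⟨3, by omega⟩
  have hab : a ≠ b := by simp [a, b, Fin.ext_iff]
  have hac : a ≠ c' := by simp [a, c', Fin.ext_iff]
  have hbc : b ≠ c' := by simp [b, c', Fin.ext_iff]
  have hf : f ≠ a ∧ f ≠ b ∧ f ≠ c' := by simp [a, b, c', f, Fin.ext_iff]
  refine not_maximal d Q e P hS hG two_pos hab ⟨f, ?_⟩
    (Function.update (Function.update (Function.update (1 : Fin t → Matrix (Fin _) (Fin _) F) a d.D) b d.D) c' d.D) (j := b) hab.symm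
    (by simp [hbc, d.D_sq]) (by simp [hab, hac]) (fun i => ?_) ⟨f, ?_⟩ ?_
  · simpa [hf.1, hf.2.1] using d.altOne
  · by_cases h1 : i = c'
    · simpa [h1] using d.selfD
    · by_cases h2 : i = b
      · simpa [h1, h2, hbc] using d.selfD
      · by_cases h3 : i = a
        · simpa [h3, hac, hab] using d.selfD
        · simp [h1, h2, h3, SelfAdj, hS.sym]
  · simpa [hf.1, hf.2.1, hf.2.2] using d.altOne
  · have hu1 : u ⬝ᵥ G *ᵥ u = 0 := by simpa using d.altOne u
    refine not_mem_of_test d _ (fun i => if i = b ∨ i = c' then u else v.1)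
      (fun i => if i = b ∨ i = c' then u else v.2) ⟨b, by simpa using hu1⟩ (fun i X _ => Or.inl ?_) fun i => ?_
    · by_cases h : i = b
      · exact ⟨c', by rw [h]; exact hbc.symm, by simpa using hu1⟩
      · exact ⟨b, Ne.symm h, by simpa using hu1⟩
    · by_cases h3 : i = a
      · simpa [h3, hab, hac] using hv
      · by_cases h1 : i = c'
        · simpa [h1, hac.symm] using hu
        · by_cases h2 : i = b
          · simpa [h2, hbc, hab.symm] using hu
          · simpa [h1, h2, h3] using hv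

theorem not_maximal_four (Q : (Fin n → F) → F) (e : Fin n ≃ (Fin t → Fin 4)) (P : GL (Fin n) F)
    {G : Matrix (Fin 4) (Fin 4) F}
    (hS : Setup G (fun x => Q ((P : Matrix (Fin n) (Fin n) F) *ᵥ (x ∘ e))) c)
    (T : GL (Fin 4) F) (hT : (T : Matrix (Fin 4) (Fin 4) F)ᵀ * G * (T : Matrix (Fin 4) (Fin 4) F) = J4 F)
    (ht : 2 ≤ t) :
    ∃ K : Subgroup (GL (Fin n) F),
      tensorWreathSubgroup 4 t e P ⊓ omegaGL Q < K ∧ K < omegaGL Q := by
  have hG : G ≠ 0 := by
    rintro rfl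
    simp at hT
    simpa [J4] using congrFun (congrFun hT 0) 1
  set d := (fac4 (F := F)).congr T hT
  obtain ⟨hC0, hCsq, u₀, hW0, hu₀⟩ := four_test (F := F)
  let u : Fin 4 → F := (T : Matrix (Fin 4) (Fin 4) F) *ᵥ u₀
  let C : Matrix (Fin 4) (Fin 4) F := cj T (Matrix.single 1 0 1)
  have key : ∀ X, u ⬝ᵥ (G * cj T X) *ᵥ u = u₀ ⬝ᵥ (J4 F * X) *ᵥ u₀ := by
    intro X
    rw [form_congr T G, hT]
  have hu : u ⬝ᵥ (G * C) *ᵥ u ≠ 0 := by rw [key]; exact hu₀
  have huW : ∀ X ∈ d.W, u ⬝ᵥ (G * X) *ᵥ u = 0 := fun X hX => by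
    have h : cj T (cj T⁻¹ X) = X := by rw [cj_cj, mul_inv_cancel, cj_one_left]
    rw [← h, key]
    exact hW0 _ hX
  have hA : Alt G d.A := alt_congr T hT fac4_altA
  obtain ⟨v, hv⟩ : ∃ p : (Fin 4 → F) × (Fin 4 → F), p.1 ⬝ᵥ G *ᵥ p.2 ≠ 0 := by
    by_contra hc
    push Not at hc
    exact hG (Matrix.ext fun a b => by simpa using hc (Pi.single a 1, Pi.single b 1))
  let a : Fin t := ⟨0, by omega⟩
  let b : Fin t := ⟨1, by omega⟩
  have hab : a ≠ b := by simp [a, b, Fin.ext_iff]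
  refine not_maximal d Q e P hS hG four_pos hab ⟨a, by simpa using hA⟩
    (Function.update (Function.update (1 : Fin t → Matrix (Fin _) (Fin _) F) a d.D) b C) (j := b) hab.symm
    (by simpa [C] using sq_congr T hCsq) (by simp [hab]) (fun i => ?_) ⟨a, by simpa using hA⟩ ?_
  · by_cases h2 : i = b
    · simpa [h2, C] using selfAdj_congr T hT hC0
    · by_cases h3 : i = a
      · simpa [h3, hab] using d.selfD
      · simp [h2, h3, SelfAdj, hS.sym]
  · have hu1 : u ⬝ᵥ G *ᵥ u = 0 := by simpa using d.altOne u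
    refine not_mem_of_test d _ (fun i => if i = b then u else v.1)
      (fun i => if i = b then u else v.2) ⟨b, by simpa using hu1⟩ (fun i X hX => ?_) fun i => ?_
    · by_cases h : i = b
      · exact Or.inr (by simpa [h] using huW X hX)
      · exact Or.inl ⟨b, Ne.symm h, by simpa using hu1⟩
    · by_cases h3 : i = a
      · simpa [h3, hab] using hv
      · by_cases h2 : i = b
        · simpa [h2, hab.symm] using hu
        · simpa [h2, h3] using hv

end char2

end CfsgLib.SpinTensor
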