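/-
In characteristic two an orthogonal group is maximal in the symplectic group of its polar form.
-/
import Cfsg.Agent.Lib.ClassicalMax.SympTools
set_option autoImplicit false

namespace CfsgLib.ClassicalMax

open Matrix Cfsg.Geo

variable {ι : Type} [Fintype ι] [DecidableEq ι] {F : Type*} [Field F]
  {f : (ι → F) → (ι → F) → F}

/-- A subspace on which a non-degenerate form vanishes has at most half the dimension. -/
lemma two_mul_finrank_le_of_totallySingular (hb : IsBilinearForm f) (hnd : IsNondegenerateForm f)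
    {W : Submodule F (ι → F)} (hW : IsTotallySingularFor f W) :
    2 * Module.finrank F W ≤ Fintype.card ι := by
  let L : (ι → F) →ₗ[F] (W →ₗ[F] F) :=
    { toFun := fun y => ((bilinOf hb).flip y).comp W.subtype
      map_add' := fun a b => by ext z; simp
      map_smul' := fun c a => by ext z; simp }
  have hsurj : Function.Surjective L := by
    intro φ
    obtain ⟨ψ, hψ⟩ := LinearMap.exists_extend φ
    obtain ⟨y, hy⟩ := exists_form_eq hb hnd ψ
    refine ⟨y, LinearMap.ext fun z => ?_⟩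
    rw [← hψ]
    simpa [L] using hy z
  have hker : W ≤ LinearMap.ker L := fun y hy => LinearMap.ext fun z => by
    simpa [L] using hW z z.2 y hy
  have h := LinearMap.finrank_range_add_finrank_ker L
  rw [LinearMap.range_eq_top.2 hsurj, finrank_top, Module.finrank_fintype_fun_eq_card,
    Subspace.dual_finrank_eq] at h
  have := Submodule.finrank_mono hker
  omega

theorem orth_charTwo_maximal [Fintype F] (hf : IsSymplecticForm f) (hn : 6 ≤ Fintype.card ι)
    (heven : ¬ Odd (Fintype.card F)) (Q : (ι → F) → F) (hsmul : ∀ (c : F) v, Q (c • v) = c ^ 2 * Q v)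
    (hpol : ∀ u v, QuadraticMap.polar Q u v = f u v) :
    IsMaximalIn (isoOf f) (quadSimilarityGroup Q ⊓ isoOf f) := by
  classical
  have hb := hf.bilinear
  have hr2 : ringChar F = 2 :=
    FiniteField.even_card_iff_char_two.2 (Nat.even_iff.1 (Nat.not_odd_iff_even.1 heven))
  have : CharP F 2 := ringChar.of_eq hr2
  have sqrtF : ∀ a : F, ∃ b, b ^ 2 = a := fun a => by
    obtain ⟨b, hb⟩ := FiniteField.isSquare_of_char_two hr2 a
    exact ⟨b, by rw [hb, pow_two]⟩
  have hadd : ∀ x y, Q (x + y) = Q x + Q y + f x y := fun x y => by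
    rw [← hpol, QuadraticMap.polar]; ring
  have hQ0 : Q 0 = 0 := by simpa using hsmul 0 0
  have htwo : (2 : F) = 0 := CharTwo.two_eq_zero
  have hfix : ∀ {h : GL ι F}, h ∈ quadSimilarityGroup Q → h ∈ isoOf f →
      ∀ x, Q ((h : Matrix ι ι F) *ᵥ x) = Q x := by
    rintro h ⟨c, hc⟩ hi x
    obtain ⟨j⟩ : Nonempty ι := Fintype.card_pos_iff.1 (by omega)
    have hv : (Pi.single j (1 : F) : ι → F) ≠ 0 := fun e =>
      one_ne_zero (α := F) (by simpa using congrFun e j)
    obtain ⟨y, hy⟩ := (hf.nondegenerate _ hv).1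
    have e : f y (Pi.single j 1) = (c : F) * f y (Pi.single j 1) := by
      conv_lhs => rw [← mem_isoOf.1 hi y (Pi.single j 1), ← hpol, QuadraticMap.polar, ← mulVec_add,
        hc, hc, hc]
      rw [← hpol, QuadraticMap.polar]
      ring
    rw [hc, (mul_eq_right₀ hy).1 e.symm, one_mul]
  -- quadratic values on the translates of big subspaces
  have hvals : ∀ W : Submodule F (ι → F), Fintype.card ι < 2 * Module.finrank F W →
      ∀ (z : ι → F) (s : F), ∃ w ∈ W, Q (z + w) = s := by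
    intro W hW z s
    obtain ⟨e, he, h, hh, heh⟩ : ∃ e ∈ W, ∃ h ∈ W, f e h = 1 := by
      by_contra hcon
      have := two_mul_finrank_le_of_totallySingular hb hf.nondegenerate (W := W) fun u hu v hv => by
        by_contra h0
        exact hcon ⟨u, hu, (f u v)⁻¹ • v, W.smul_mem _ hv, by rw [hb.smul_right, inv_mul_cancel₀ h0]⟩
      omega
    set p := z + (-f z h) • e + f z e • h with hp
    have hpe : f p e = 0 := by
      rw [hp, hb.add_left, hb.add_left, hb.smul_left, hb.smul_left, hf.alternating, hf.skew h e, heh]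
      ring
    have hph : f p h = 0 := by
      rw [hp, hb.add_left, hb.add_left, hb.smul_left, hb.smul_left, hf.alternating, heh]
      ring
    obtain ⟨x, y, hxy⟩ : ∃ x y : F, x ^ 2 * Q e + y ^ 2 * Q h + x * y = s - Q p := by
      by_cases h0 : Q e = 0
      · exact ⟨s - Q p - Q h, 1, by rw [h0]; ring⟩
      · obtain ⟨x, hx⟩ := sqrtF ((s - Q p) / Q e)
        exact ⟨x, 0, by rw [hx, div_mul_cancel₀ _ h0]; ring⟩
    refine ⟨(x - f z h) • e + (y + f z e) • h, W.add_mem (W.smul_mem _ he) (W.smul_mem _ hh), ?_⟩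
    rw [show z + ((x - f z h) • e + (y + f z e) • h) = p + (x • e + y • h) by rw [hp]; module,
      hadd p, hadd (x • e), hsmul, hsmul]
    simp only [hb.add_right, hb.smul_left, hb.smul_right, hpe, hph, heh]
    linear_combination hxy
  have hker2 : ∀ a b z : ι → F, ∀ s : F, ∃ w, f a w = 0 ∧ f b w = 0 ∧ Q (z + w) = s := by
    intro a b z s
    let L : (ι → F) →ₗ[F] (F × F) := (bilinOf hb a).prod (bilinOf hb b)
    have h := LinearMap.finrank_range_add_finrank_ker L
    have h2 := Submodule.finrank_le (LinearMap.range L)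
    rw [Module.finrank_fintype_fun_eq_card] at h
    simp only [Module.finrank_prod, Module.finrank_self] at h2
    obtain ⟨w, hw, hQ⟩ := hvals (LinearMap.ker L) (by omega) z s
    simp [L] at hw
    exact ⟨w, hw.1, hw.2, hQ⟩
  have hrefl : ∀ v, Q v ≠ 0 → sTv f v (Q v)⁻¹ ∈ quadSimilarityGroup Q ⊓ isoOf f := fun v hv =>
    ⟨⟨1, fun x => by
      rw [sTv_mulVec hf, Units.val_one, one_mul, hadd, hsmul, hb.smul_right]
      field_simp
      linear_combination (f x v ^ 2) * htwo⟩, sTv_mem_isoOf hf v _⟩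
  obtain ⟨j⟩ : Nonempty ι := Fintype.card_pos_iff.1 (by omega)
  refine isMaximalIn_of inf_le_right ?_ ?_
  · set u : ι → F := Pi.single j 1 with hu
    have hu0 : u ≠ 0 := fun e => one_ne_zero (α := F) (by simpa [hu] using congrFun e j)
    obtain ⟨z, hz⟩ := (hf.nondegenerate u hu0).1
    obtain ⟨w, hw1, hw2, hwQ⟩ := hker2 u z 0 (Q u)
    rw [zero_add] at hwQ
    have hQv : Q (u + w) = 0 := by rw [hadd, hwQ, hw1]; linear_combination (Q u) * htwo
    refine ⟨sTv f (u + w) 1, sTv_mem_isoOf hf _ _, fun h => ?_⟩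
    have := hfix h.1 h.2 z
    rw [sTv_mulVec hf, one_mul, hadd, hsmul, hQv, mul_zero, add_zero, hb.smul_right, hb.add_right,
      hw2, add_zero, add_eq_left, mul_self_eq_zero] at this
    exact hz this
  intro M hHM hMK g hgM hgH
  let A : Set (ι → F) := {b | ∃ h ∈ M, ∀ x, Q ((h : Matrix ι ι F) *ᵥ x) = Q x + f x b ^ 2}
  have hA0 : (0 : ι → F) ∈ A := ⟨1, M.one_mem, fun x => by simp [form_zero_right hb]⟩
  have hgiso : g ∈ isoOf f := hMK hgM
  obtain ⟨b₀, hb₀, hb₀0⟩ : ∃ b ∈ A, b ≠ 0 := by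
    choose l hl using fun x => sqrtF (Q ((g : Matrix ι ι F) *ᵥ x) - Q x)
    have hinj : ∀ a b : F, a ^ 2 = b ^ 2 → a = b := fun a b h => by
      have h' : (a - b) ^ 2 = 0 := by linear_combination h + (b ^ 2 - a * b) * htwo
      exact sub_eq_zero.1 (pow_eq_zero_iff (two_ne_zero (α := ℕ)) |>.1 h')
    let φ : (ι → F) →ₗ[F] F :=
      { toFun := l
        map_add' := fun x y => hinj _ _ (by
          rw [hl, mulVec_add, hadd, hadd, mem_isoOf.1 hgiso]
          linear_combination - hl x - hl y - (l x * l y) * htwo)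
        map_smul' := fun c x => hinj _ _ (by
          rw [hl, mulVec_smul, hsmul, hsmul, RingHom.id_apply, smul_eq_mul]
          linear_combination - c ^ 2 * hl x) }
    obtain ⟨b, hb'⟩ := exists_form_eq hb hf.nondegenerate φ
    have hQb : ∀ x, Q ((g : Matrix ι ι F) *ᵥ x) = Q x + f x b ^ 2 := fun x => by
      rw [hb', show φ x = l x from rfl, hl]; ring
    refine ⟨b, ⟨g, hgM, hQb⟩, fun e => hgH ⟨⟨1, fun x => ?_⟩, hgiso⟩⟩
    rw [hQb, e, form_zero_right hb]
    simp
  -- the set is closed under the orthogonal group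
  have hclos : ∀ o ∈ quadSimilarityGroup Q ⊓ isoOf f, ∀ b ∈ A, (o : Matrix ι ι F) *ᵥ b ∈ A := by
    rintro o ho b ⟨h, hh, hQ⟩
    refine ⟨h * o⁻¹, M.mul_mem hh (M.inv_mem (hHM ho)), fun x => ?_⟩
    rw [gl_mulVec_mul, hQ]
    congr 1
    · exact hfix ((quadSimilarityGroup Q).inv_mem ho.1) ((isoOf f).inv_mem ho.2) x
    · rw [form_mulVec_left ((isoOf f).inv_mem ho.2), inv_inv]
  have hstep : ∀ b b', f b b' ≠ 0 → Q b = Q b' → b ∈ A → b' ∈ A := by
    intro b b' hne he hbA
    have hQv : Q (b' - b) = f b b' := by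
      rw [sub_eq_add_neg, ← neg_one_smul F b, hadd, hsmul, hb.smul_right, he, hf.skew b' b]
      linear_combination (Q b') * htwo
    have := hclos _ (hrefl (b' - b) (by rwa [hQv])) b hbA
    rwa [hQv, sTv_sub_mulVec hf hne] at this
  have hAall : ∀ b, b ≠ 0 → Q b = Q b₀ → b ∈ A := by
    intro b hb0 hQb
    obtain ⟨z, -, hz1, hz2⟩ := exists_both_ne_zero (bilinOf hb b₀) (bilinOf hb b) ⊤
      ⟨_, Submodule.mem_top, (hf.nondegenerate b₀ hb₀0).2.choose_spec⟩
      ⟨_, Submodule.mem_top, (hf.nondegenerate b hb0).2.choose_spec⟩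
    obtain ⟨w, hw1, hw2, hyQ⟩ := hker2 b₀ b z (Q b₀)
    have hy1 : f b₀ (z + w) ≠ 0 := by rw [hb.add_right, hw1, add_zero]; exact hz1
    have hy2 : f (z + w) b ≠ 0 := isoOf_comm_zero hf (by rw [hb.add_right, hw2, add_zero]; exact hz2)
    exact hstep _ b hy2 (hyQ.trans hQb.symm) (hstep b₀ _ hy1 hyQ.symm hb₀)
  refine isoOf_le_of_sTv hf fun v c => ?_
  by_cases hv : v = 0
  · rw [hv, sTv, tvGL_zero_left]; exact M.one_mem
  by_cases hc : c = 0
  · rw [hc, sTv_zero]; exact M.one_mem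
  obtain ⟨s, hs⟩ := sqrtF (c⁻¹ - Q v)
  obtain ⟨z, hz⟩ := (hf.nondegenerate v hv).2
  set z₁ := (f v z)⁻¹ • z with hz₁
  have hvz : f v z₁ = 1 := by rw [hz₁, hb.smul_right, inv_mul_cancel₀ hz]
  obtain ⟨w, hw1, hw2, hwQ⟩ := hker2 v z₁ 0 (Q b₀ - s ^ 2 * Q z₁)
  rw [zero_add] at hwQ
  have hbA : s • z₁ + w ∈ A := by
    by_cases e : s • z₁ + w = 0
    · rw [e]; exact hA0
    · refine hAall _ e ?_
      rw [hadd, hsmul, hwQ, hb.smul_left, hw2]; ring
  obtain ⟨h, hh, hhQ⟩ := hbA
  have hQhv : Q ((h : Matrix ι ι F) *ᵥ v) = c⁻¹ := by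
    rw [hhQ, hb.add_right, hb.smul_right, hvz, hw1, mul_one, add_zero, hs]; ring
  have hm := hHM (hrefl ((h : Matrix ι ι F) *ᵥ v) (by rw [hQhv]; exact inv_ne_zero hc))
  rw [hQhv, inv_inv] at hm
  have := M.mul_mem (M.mul_mem (M.inv_mem hh) hm) (M.inv_mem (M.inv_mem hh))
  rwa [sTv_conj hf ((isoOf f).inv_mem (hMK hh)), gl_inv_mulVec_mulVec] at this

end CfsgLib.ClassicalMax
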