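/-
In characteristic two an orthogonal group is maximal in the symplectic group of its polar form: all
dimensions, more than two field elements.
-/
import Cfsg.Agent.Lib.ClassicalMax.SympCharTwo
set_option autoImplicit false

namespace CfsgLib.ClassicalMax

open Matrix Cfsg.Geo

variable {ι : Type} [Fintype ι] [DecidableEq ι] {F : Type*} [Field F]
  {f : (ι → F) → (ι → F) → F}

theorem orth_charTwo_maximal_small [Fintype F] (hf : IsSymplecticForm f) (hn : 3 ≤ Fintype.card ι) (hq : 2 < Fintype.card F)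
    (heven : ¬ Odd (Fintype.card F)) (Q : (ι → F) → F) (hsmul : ∀ (c : F) v, Q (c • v) = c ^ 2 * Q v)
    (hpol : ∀ u v, QuadraticMap.polar Q u v = f u v) :
    IsMaximalIn (isoOf f) (quadSimilarityGroup Q ⊓ isoOf f) := by
  classical
  have hb := hf.bilinear
  have hr2 : ringChar F = 2 :=
    FiniteField.even_card_iff_char_two.2 (Nat.even_iff.1 (Nat.not_odd_iff_even.1 heven))
  have : CharP F 2 := ringChar.of_eq hr2
  have sqrtF : ∀ a : F, ∃ b, b ^ 2 = a := fun a => by
    obtain ⟨b, hb⟩ := FiniteField.isSquare_of_char_two hr2 a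
    exact ⟨b, by rw [hb, pow_two]⟩
  have hadd : ∀ x y, Q (x + y) = Q x + Q y + f x y := fun x y => by
    rw [← hpol, QuadraticMap.polar]; ring
  have hQ0 : Q 0 = 0 := by simpa using hsmul 0 0
  have htwo : (2 : F) = 0 := CharTwo.two_eq_zero
  have hfix : ∀ {h : GL ι F}, h ∈ quadSimilarityGroup Q → h ∈ isoOf f →
      ∀ x, Q ((h : Matrix ι ι F) *ᵥ x) = Q x := by
    rintro h ⟨c, hc⟩ hi x
    obtain ⟨j⟩ : Nonempty ι := Fintype.card_pos_iff.1 (by omega)
    have hv : (Pi.single j (1 : F) : ι → F) ≠ 0 := fun e =>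
      one_ne_zero (α := F) (by simpa using congrFun e j)
    obtain ⟨y, hy⟩ := (hf.nondegenerate _ hv).1
    have e : f y (Pi.single j 1) = (c : F) * f y (Pi.single j 1) := by
      conv_lhs => rw [← mem_isoOf.1 hi y (Pi.single j 1), ← hpol, QuadraticMap.polar, ← mulVec_add,
        hc, hc, hc]
      rw [← hpol, QuadraticMap.polar]
      ring
    rw [hc, (mul_eq_right₀ hy).1 e.symm, one_mul]
  -- quadratic values on the orthogonal complement of a hyperbolic pair
  have hpair : ∀ a z, f a z ≠ 0 → ∀ s : F, ∃ w, f a w = 0 ∧ f z w = 0 ∧ Q w = s := by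
    intro a z haz s
    let W : Submodule F (ι → F) := LinearMap.ker ((bilinOf hb a).prod (bilinOf hb z))
    obtain ⟨y₀, hy₀, hy₀0⟩ : ∃ y ∈ W, y ≠ 0 := by
      refine Submodule.exists_mem_ne_zero_of_ne_bot (LinearMap.ker_ne_bot_of_finrank_lt ?_)
      rw [Module.finrank_fintype_fun_eq_card, Module.finrank_prod, Module.finrank_self]
      omega
    have hW : ∀ w, w ∈ W ↔ f a w = 0 ∧ f z w = 0 := fun w => by simp [W]
    obtain ⟨u, hu, hu0⟩ : ∃ u ∈ W, Q u ≠ 0 := by
      by_contra hcon
      push Not at hcon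
      refine hy₀0 (eq_zero_of_form_left hf.nondegenerate fun x => ?_)
      obtain ⟨ha1, hz1⟩ := (hW y₀).1 hy₀
      set d := x - (f a x / f a z) • z - (f z x / f z a) • a with hd
      have hza : f z a ≠ 0 := isoOf_comm_zero hf haz
      have hdW : d ∈ W := (hW d).2 ⟨by
        rw [hd, form_sub_right hb, form_sub_right hb, hb.smul_right, hb.smul_right, hf.alternating,
          div_mul_cancel₀ _ haz, mul_zero, sub_self, sub_zero], by
        rw [hd, form_sub_right hb, form_sub_right hb, hb.smul_right, hb.smul_right, hf.alternating,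
          div_mul_cancel₀ _ hza, mul_zero, sub_zero, sub_self]⟩
      have h0 : f y₀ d = 0 := by
        rw [← hpol, QuadraticMap.polar, hcon _ (W.add_mem hy₀ hdW), hcon _ hy₀, hcon _ hdW]
        ring
      rw [hd, form_sub_right hb, form_sub_right hb, hb.smul_right, hb.smul_right,
        (form_symplectic_eq_zero_comm hf).1 hz1, (form_symplectic_eq_zero_comm hf).1 ha1] at h0
      simpa using h0
    obtain ⟨c, hc⟩ := sqrtF (s / Q u)
    exact ⟨c • u, ((hW _).1 (W.smul_mem _ hu)).1, ((hW _).1 (W.smul_mem _ hu)).2,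
      by rw [hsmul, hc, div_mul_cancel₀ _ hu0]⟩
  have hrefl : ∀ v, Q v ≠ 0 → sTv f v (Q v)⁻¹ ∈ quadSimilarityGroup Q ⊓ isoOf f := fun v hv =>
    ⟨⟨1, fun x => by
      rw [sTv_mulVec hf, Units.val_one, one_mul, hadd, hsmul, hb.smul_right]
      field_simp
      linear_combination (f x v ^ 2) * htwo⟩, sTv_mem_isoOf hf v _⟩
  obtain ⟨j⟩ : Nonempty ι := Fintype.card_pos_iff.1 (by omega)
  refine isMaximalIn_of inf_le_right ?_ ?_
  · set u : ι → F := Pi.single j 1 with hu
    have hu0 : u ≠ 0 := fun e => one_ne_zero (α := F) (by simpa [hu] using congrFun e j)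
    obtain ⟨z, hz⟩ := (hf.nondegenerate u hu0).1
    obtain ⟨w, hw1, hw2, hwQ⟩ := hpair u z (isoOf_comm_zero hf hz) (Q u)
    have hQv : Q (u + w) = 0 := by rw [hadd, hwQ, hw1]; linear_combination (Q u) * htwo
    refine ⟨sTv f (u + w) 1, sTv_mem_isoOf hf _ _, fun h => ?_⟩
    have := hfix h.1 h.2 z
    rw [sTv_mulVec hf, one_mul, hadd, hsmul, hQv, mul_zero, add_zero, hb.smul_right, hb.add_right,
      hw2, add_zero, add_eq_left, mul_self_eq_zero] at this
    exact hz this
  intro M hHM hMK g hgM hgH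
  let A : Set (ι → F) := {b | ∃ h ∈ M, ∀ x, Q ((h : Matrix ι ι F) *ᵥ x) = Q x + f x b ^ 2}
  have hA0 : (0 : ι → F) ∈ A := ⟨1, M.one_mem, fun x => by simp [form_zero_right hb]⟩
  have hgiso : g ∈ isoOf f := hMK hgM
  obtain ⟨b₀, hb₀, hb₀0⟩ : ∃ b ∈ A, b ≠ 0 := by
    choose l hl using fun x => sqrtF (Q ((g : Matrix ι ι F) *ᵥ x) - Q x)
    have hinj : ∀ a b : F, a ^ 2 = b ^ 2 → a = b := fun a b h => by
      have h' : (a - b) ^ 2 = 0 := by linear_combination h + (b ^ 2 - a * b) * htwo
      exact sub_eq_zero.1 (pow_eq_zero_iff (two_ne_zero (α := ℕ)) |>.1 h')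
    let φ : (ι → F) →ₗ[F] F :=
      { toFun := l
        map_add' := fun x y => hinj _ _ (by
          rw [hl, mulVec_add, hadd, hadd, mem_isoOf.1 hgiso]
          linear_combination - hl x - hl y - (l x * l y) * htwo)
        map_smul' := fun c x => hinj _ _ (by
          rw [hl, mulVec_smul, hsmul, hsmul, RingHom.id_apply, smul_eq_mul]
          linear_combination - c ^ 2 * hl x) }
    obtain ⟨b, hb'⟩ := exists_form_eq hb hf.nondegenerate φ
    have hQb : ∀ x, Q ((g : Matrix ι ι F) *ᵥ x) = Q x + f x b ^ 2 := fun x => by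
      rw [hb', show φ x = l x from rfl, hl]; ring
    refine ⟨b, ⟨g, hgM, hQb⟩, fun e => hgH ⟨⟨1, fun x => ?_⟩, hgiso⟩⟩
    rw [hQb, e, form_zero_right hb]
    simp
  -- the set is closed under the orthogonal group
  have hclos : ∀ o ∈ quadSimilarityGroup Q ⊓ isoOf f, ∀ b ∈ A, (o : Matrix ι ι F) *ᵥ b ∈ A := by
    rintro o ho b ⟨h, hh, hQ⟩
    refine ⟨h * o⁻¹, M.mul_mem hh (M.inv_mem (hHM ho)), fun x => ?_⟩
    rw [gl_mulVec_mul, hQ]
    congr 1
    · exact hfix ((quadSimilarityGroup Q).inv_mem ho.1) ((isoOf f).inv_mem ho.2) x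
    · rw [form_mulVec_left ((isoOf f).inv_mem ho.2), inv_inv]
  have hstep : ∀ b b', f b b' ≠ 0 → Q b = Q b' → b ∈ A → b' ∈ A := by
    intro b b' hne he hbA
    have hQv : Q (b' - b) = f b b' := by
      rw [sub_eq_add_neg, ← neg_one_smul F b, hadd, hsmul, hb.smul_right, he, hf.skew b' b]
      linear_combination (Q b') * htwo
    have := hclos _ (hrefl (b' - b) (by rwa [hQv])) b hbA
    rwa [hQv, sTv_sub_mulVec hf hne] at this
  have hAall : ∀ b, b ≠ 0 → Q b = Q b₀ → b ∈ A := by
    intro b hb0 hQb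
    by_cases hne : f b₀ b ≠ 0
    · exact hstep _ b hne hQb.symm hb₀
    push Not at hne
    have two_step : ∀ y, f b₀ y ≠ 0 → f y b ≠ 0 → Q y = Q b₀ → b ∈ A := fun y h1 h2 hy =>
      hstep y b h2 (hy.trans hQb.symm) (hstep b₀ y h1 hy.symm hb₀)
    by_cases hli : ∃ l : F, b = l • b₀
    · obtain ⟨l, rfl⟩ := hli
      have hl : l ≠ 0 := fun e => hb0 (by rw [e, zero_smul])
      by_cases hc : Q b₀ = 0
      · obtain ⟨z, hz⟩ := (hf.nondegenerate b₀ hb₀0).2
        have hy1 : f b₀ (z + (Q z / f z b₀) • b₀) ≠ 0 := by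
          rw [hb.add_right, hb.smul_right, hf.alternating, mul_zero, add_zero]; exact hz
        refine two_step _ hy1 (by rw [hb.smul_right]; exact mul_ne_zero hl (isoOf_comm_zero hf hy1)) ?_
        rw [hadd, hsmul, hb.smul_right, hc, div_mul_cancel₀ _ (isoOf_comm_zero hf hz)]
        linear_combination (Q z) * htwo
      · rw [hsmul, mul_eq_right₀ hc] at hQb
        have h' : (l - 1) ^ 2 = 0 := by linear_combination hQb + (1 - l) * htwo
        rw [sub_eq_zero.1 (pow_eq_zero_iff (two_ne_zero (α := ℕ)) |>.1 h'), one_smul]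
        exact hb₀
    push Not at hli
    -- choose a vector with prescribed values on the pair
    obtain ⟨t, ht0, ht1⟩ : ∃ t : F, t ≠ 0 ∧ t ≠ 1 := by
      by_contra hcon
      push Not at hcon
      have : Fintype.card F ≤ 2 := by
        refine le_trans (Finset.card_le_card (s := Finset.univ) (t := {0, 1}) fun t _ => ?_) Finset.card_le_two
        by_cases e : t = 0
        · simp [e]
        · simp [hcon t e]
      omega
    obtain ⟨x, hx0, hx1⟩ : ∃ x, f x b = 0 ∧ f x b₀ = 1 := by
      by_contra hcon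
      push Not at hcon
      have hker : ∀ x, f x b = 0 → f x b₀ = 0 := fun x h => by_contra fun h' =>
        hcon ((f x b₀)⁻¹ • x) (by rw [hb.smul_left, h, mul_zero])
          (by rw [hb.smul_left, inv_mul_cancel₀ h'])
      obtain ⟨z, hz⟩ := (hf.nondegenerate b hb0).1
      refine hli (f z b / f z b₀) ?_
      by_cases hz0 : f z b₀ = 0
      · exfalso
        refine hb₀0 (eq_zero_of_form_left hf.nondegenerate fun a => (form_symplectic_eq_zero_comm hf).1 ?_)
        have := hker (a - (f a b / f z b) • z) (by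
          rw [form_sub_left hb, hb.smul_left, div_mul_cancel₀ _ hz, sub_self])
        rwa [form_sub_left hb, hb.smul_left, hz0, mul_zero, sub_zero] at this
      · refine eq_of_sub_eq_zero (eq_zero_of_form_left hf.nondegenerate fun a =>
          (form_symplectic_eq_zero_comm hf).1 ?_)
        have := hker (a - (f a b / f z b) • z) (by
          rw [form_sub_left hb, hb.smul_left, div_mul_cancel₀ _ hz, sub_self])
        rw [form_sub_left hb, hb.smul_left, sub_eq_zero] at this
        rw [form_sub_right hb, hb.smul_right, this, mul_comm (f a b / f z b), ← mul_assoc,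
          div_mul_cancel₀ _ hz0, mul_div_cancel₀ _ hz, sub_self]
    obtain ⟨y, hy⟩ := (hf.nondegenerate b hb0).1
    set z := x + ((t - 0) / f y b) • (y - (f y b₀) • x) with hzdef
    have hzb : f z b = t := by
      rw [hzdef, hb.add_left, hb.smul_left, form_sub_left hb, hb.smul_left, hx0, mul_zero, sub_zero,
        sub_zero, zero_add, div_mul_cancel₀ _ hy]
    have hzb₀ : f z b₀ = 1 := by
      rw [hzdef, hb.add_left, hb.smul_left, form_sub_left hb, hb.smul_left, hx1, mul_one, sub_self,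
        mul_zero, add_zero]
    clear_value z
    -- a point of the affine plane on the level set
    set al := (Q z + t) / (t - 1) with hal
    have hw0 : f b b₀ = 0 := (form_symplectic_eq_zero_comm hf).1 hne
    refine two_step (z + al • b₀ + (1 - al) • b) ?_ ?_ ?_
    · rw [hb.add_right, hb.add_right, hb.smul_right, hb.smul_right, hne, hf.alternating,
        mul_zero, add_zero, mul_zero, add_zero]
      exact isoOf_comm_zero hf (by rw [hzb₀]; exact one_ne_zero)
    · rw [hb.add_left, hb.add_left, hb.smul_left, hb.smul_left, hne, hf.alternating,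
        mul_zero, add_zero, mul_zero, add_zero, hzb]
      exact ht0
    · have hal' : al * (t - 1) = Q z + t := div_mul_cancel₀ _ (sub_ne_zero.2 ht1)
      rw [hadd, hadd, hsmul, hsmul, hQb, hb.smul_right, hb.smul_right, hb.add_left, hb.smul_left,
        hne, hzb, hzb₀, mul_zero, add_zero, mul_one]
      linear_combination hal' * (-1) + ((al ^ 2 - al) * Q b₀) * htwo
  refine isoOf_le_of_sTv hf fun v c => ?_
  by_cases hv : v = 0
  · rw [hv, sTv, tvGL_zero_left]; exact M.one_mem
  by_cases hc : c = 0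
  · rw [hc, sTv_zero]; exact M.one_mem
  obtain ⟨s, hs⟩ := sqrtF (c⁻¹ - Q v)
  obtain ⟨z, hz⟩ := (hf.nondegenerate v hv).2
  set z₁ := (f v z)⁻¹ • z with hz₁
  have hvz : f v z₁ = 1 := by rw [hz₁, hb.smul_right, inv_mul_cancel₀ hz]
  obtain ⟨w, hw1, hw2, hwQ⟩ := hpair v z₁ (by rw [hvz]; exact one_ne_zero) (Q b₀ - s ^ 2 * Q z₁)
  have hbA : s • z₁ + w ∈ A := by
    by_cases e : s • z₁ + w = 0
    · rw [e]; exact hA0
    · refine hAall _ e ?_
      rw [hadd, hsmul, hwQ, hb.smul_left, hw2]; ring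
  obtain ⟨h, hh, hhQ⟩ := hbA
  have hQhv : Q ((h : Matrix ι ι F) *ᵥ v) = c⁻¹ := by
    rw [hhQ, hb.add_right, hb.smul_right, hvz, hw1, mul_one, add_zero, hs]; ring
  have hm := hHM (hrefl ((h : Matrix ι ι F) *ᵥ v) (by rw [hQhv]; exact inv_ne_zero hc))
  rw [hQhv, inv_inv] at hm
  have := M.mul_mem (M.mul_mem (M.inv_mem hh) hm) (M.inv_mem (M.inv_mem hh))
  rwa [sTv_conj hf ((isoOf f).inv_mem (hMK hh)), gl_inv_mulVec_mulVec] at this

end CfsgLib.ClassicalMax
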