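/-
Tools for overgroups of the normaliser of a skew-adjoint map in four-dimensional symplectic groups.

The map `j` is skew for `f` and squares to a non-zero scalar `d`. Its singular vectors `u` are those
with `f u (j u) = 0`; a singular vector that is not an eigenvector spans a totally isotropic line
`{u, j u}`.
-/
import Cfsg.Agent.Lib.ClassicalMax.SympShort
set_option autoImplicit false

namespace CfsgLib.ClassicalMax.SympFour

open Matrix Cfsg.Geo

variable {ι : Type} [Fintype ι] [DecidableEq ι] {F : Type*} [Field F]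
  {f : (ι → F) → (ι → F) → F}

section Frames

omit [DecidableEq ι] in
/-- Four vectors with coordinates given by dual vectors are independent. -/
lemma li_of_dual (hf : IsSymplecticForm f) {e e' : Fin 4 → ι → F}
    (h : ∀ i k, i ≠ k → f (e k) (e' i) = 0) (h' : ∀ i, f (e i) (e' i) ≠ 0) :
    LinearIndependent F e := by
  rw [Fintype.linearIndependent_iff]
  intro t ht i
  have := congrArg (fun x => bilinOf hf.bilinear x (e' i)) ht
  simp only [map_sum, map_smul, LinearMap.coe_sum, Finset.sum_apply, LinearMap.smul_apply,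
    bilinOf_apply, map_zero, LinearMap.zero_apply, smul_eq_mul] at this
  rw [Finset.sum_eq_single i (fun k _ hk => by rw [h i k (Ne.symm hk), mul_zero])
    (fun hi => absurd (Finset.mem_univ i) hi)] at this
  exact (mul_eq_zero.1 this).resolve_right (h' i)

/-- Two frames with the same Gram matrix are related by an isometry. -/
lemma iso_of_frames (hf : IsSymplecticForm f) (h4 : Fintype.card ι = 4) {e e' : Fin 4 → ι → F}
    (hli : LinearIndependent F e) (hg : ∀ i k, f (e' i) (e' k) = f (e i) (e k)) :
    ∃ g ∈ isoOf f, ∀ i, (g : Matrix ι ι F) *ᵥ e i = e' i := by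
  have hspan : Submodule.span F (Set.range e) = ⊤ :=
    hli.span_eq_top_of_card_eq_finrank (by rw [Module.finrank_fintype_fun_eq_card, h4]; rfl)
  let b := Module.Basis.mk hli hspan.ge
  let L : (ι → F) →ₗ[F] (ι → F) := b.constr F e'
  have hb : ∀ i, b i = e i := fun i => Module.Basis.mk_apply hli _ i
  have hLe : ∀ i, L (e i) = e' i := fun i => by rw [← hb]; exact b.constr_basis F e' i
  have hL : (bilinOf hf.bilinear).compl₁₂ L L = bilinOf hf.bilinear :=
    b.ext fun i => b.ext fun k => by
      simp only [hb, LinearMap.compl₁₂_apply, bilinOf_apply, hLe, hg]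
  have hLf : ∀ x y, f (L x) (L y) = f x y := fun x y =>
    LinearMap.congr_fun (LinearMap.congr_fun hL x) y
  have hinj : Function.Injective L := by
    rw [injective_iff_map_eq_zero]
    intro x hx
    refine eq_zero_of_form_left hf.nondegenerate fun y => ?_
    rw [← hLf, hx, form_zero_left hf.bilinear]
  have hu : IsUnit (LinearMap.toMatrix' L) := by
    rw [← Matrix.mulVec_injective_iff_isUnit]
    intro x y h
    exact hinj (by simpa only [← Matrix.toLin'_apply, Matrix.toLin'_toMatrix'] using h)
  obtain ⟨g, hg'⟩ := hu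
  have hgx : ∀ x, (g : Matrix ι ι F) *ᵥ x = L x := fun x => by
    rw [hg', ← Matrix.toLin'_apply, Matrix.toLin'_toMatrix']
  refine ⟨g, fun x y => ?_, fun i => by rw [hgx, hLe]⟩
  change f ((g : Matrix ι ι F) *ᵥ x) ((g : Matrix ι ι F) *ᵥ y) = f x y
  rw [hgx, hgx, hLf]

omit [DecidableEq ι] in
/-- Two linear maps agreeing on a frame agree. -/
lemma ext_of_frame (h4 : Fintype.card ι = 4) {e : Fin 4 → ι → F} (hli : LinearIndependent F e)
    {W : Type*} [AddCommGroup W] [Module F W] {L L' : (ι → F) →ₗ[F] W}
    (h : ∀ i, L (e i) = L' (e i)) : L = L' :=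
  LinearMap.ext_on (hli.span_eq_top_of_card_eq_finrank
    (by rw [Module.finrank_fintype_fun_eq_card, h4]; rfl)) (by rintro _ ⟨i, rfl⟩; exact h i)

end Frames

variable [DecidableEq F]

/-- The element of the radical of the line of `u`, `v` with symmetric tensor `(a, b, c)`. -/
def El (f : (ι → F) → (ι → F) → F) (u v : ι → F) (a b c : F) : GL ι F :=
  sTv f u a * sh f u v b * sTv f v c

lemma El_mulVec (hf : IsSymplecticForm f) {u v : ι → F} (huv : f u v = 0) (a b c : F) (x : ι → F) :
    (El f u v a b c : Matrix ι ι F) *ᵥ x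
      = x + (a * f x u + b * f x v) • u + (b * f x u + c * f x v) • v := by
  have hvu : f v u = 0 := (form_symplectic_eq_zero_comm hf).1 huv
  simp only [El, gl_mulVec_mul, sTv_mulVec hf, sh_mulVec hf huv, hf.bilinear.add_left,
    hf.bilinear.smul_left, hf.alternating, huv, hvu]
  module

lemma El_mem_isoOf (hf : IsSymplecticForm f) (u v : ι → F) (a b c : F) :
    El f u v a b c ∈ isoOf f :=
  mul_mem (mul_mem (sTv_mem_isoOf hf _ _) (sh_mem_isoOf hf _ _ _)) (sTv_mem_isoOf hf _ _)

lemma El_add (hf : IsSymplecticForm f) {u v : ι → F} (huv : f u v = 0) (a b c a' b' c' : F) :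
    El f u v a b c * El f u v a' b' c' = El f u v (a + a') (b + b') (c + c') := by
  have hvu : f v u = 0 := (form_symplectic_eq_zero_comm hf).1 huv
  refine gl_ext_mulVec fun x => ?_
  simp only [gl_mulVec_mul, El_mulVec hf huv, hf.bilinear.add_left, hf.bilinear.smul_left,
    hf.alternating, huv, hvu]
  module

lemma El_conj (hf : IsSymplecticForm f) {g : GL ι F} (hg : g ∈ isoOf f) (u v : ι → F) (a b c : F) :
    g * El f u v a b c * g⁻¹
      = El f ((g : Matrix ι ι F) *ᵥ u) ((g : Matrix ι ι F) *ᵥ v) a b c := by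
  simp only [El, ← sTv_conj hf hg, ← sh_conj hf hg]
  group

/-- Change of the basis of the line. -/
lemma El_change (hf : IsSymplecticForm f) {p q : ι → F} (hpq : f p q = 0) {u v : ι → F}
    (α β γ δ : F) (hu : u = α • p + β • q) (hv : v = γ • p + δ • q) (a b c : F) :
    El f u v a b c = El f p q (a * α ^ 2 + 2 * b * α * γ + c * γ ^ 2)
      (a * α * β + b * (α * δ + β * γ) + c * γ * δ) (a * β ^ 2 + 2 * b * β * δ + c * δ ^ 2) := by
  have hqp : f q p = 0 := (form_symplectic_eq_zero_comm hf).1 hpq
  have huv : f u v = 0 := by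
    simp [hu, hv, hf.bilinear.add_left, hf.bilinear.add_right, hf.bilinear.smul_left,
      hf.bilinear.smul_right, hf.alternating, hpq, hqp]
  refine gl_ext_mulVec fun x => ?_
  simp only [El_mulVec hf huv, El_mulVec hf hpq]
  subst hu hv
  simp only [hf.bilinear.add_right, hf.bilinear.smul_right]
  module

/-- All multiples of the tensor occur in `M`. -/
def InR (f : (ι → F) → (ι → F) → F) (M : Subgroup (GL ι F)) (u v : ι → F) (a b c : F) : Prop :=
  ∀ t : F, El f u v (t * a) (t * b) (t * c) ∈ M

variable {M : Subgroup (GL ι F)}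

lemma InR.add (hf : IsSymplecticForm f) {u v : ι → F} (huv : f u v = 0) {a b c a' b' c' : F}
    (h : InR f M u v a b c) (h' : InR f M u v a' b' c') :
    InR f M u v (a + a') (b + b') (c + c') := fun t => by
  have := M.mul_mem (h t) (h' t)
  rw [El_add hf huv] at this
  simpa only [mul_add] using this

lemma InR.smul {u v : ι → F} {a b c : F} (h : InR f M u v a b c) (k : F) :
    InR f M u v (k * a) (k * b) (k * c) := fun t => by
  simpa only [mul_assoc] using h (t * k)

lemma InR.sub (hf : IsSymplecticForm f) {u v : ι → F} (huv : f u v = 0) {a b c a' b' c' : F}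
    (h : InR f M u v a b c) (h' : InR f M u v a' b' c') :
    InR f M u v (a - a') (b - b') (c - c') := by
  have := h.add hf huv (h'.smul (-1))
  simpa only [neg_one_mul, ← sub_eq_add_neg] using this

lemma InR.cast {u v : ι → F} {a b c a' b' c' : F} (h : InR f M u v a b c) (ha : a = a')
    (hb : b = b') (hc : c = c') : InR f M u v a' b' c' := ha ▸ hb ▸ hc ▸ h

lemma InR.conj (hf : IsSymplecticForm f) {g : GL ι F} (hgM : g ∈ M) (hg : g ∈ isoOf f)
    {u v : ι → F} {a b c : F} (h : InR f M u v a b c) :
    InR f M ((g : Matrix ι ι F) *ᵥ u) ((g : Matrix ι ι F) *ᵥ v) a b c := fun t => by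
  rw [← El_conj hf hg]
  exact M.mul_mem (M.mul_mem hgM (h t)) (M.inv_mem hgM)

lemma InR.change (hf : IsSymplecticForm f) {p q : ι → F} (hpq : f p q = 0) {u v : ι → F}
    (α β γ δ : F) (hu : u = α • p + β • q) (hv : v = γ • p + δ • q) {a b c : F}
    (h : InR f M u v a b c) :
    InR f M p q (a * α ^ 2 + 2 * b * α * γ + c * γ ^ 2)
      (a * α * β + b * (α * δ + β * γ) + c * γ * δ)
      (a * β ^ 2 + 2 * b * β * δ + c * δ ^ 2) := fun t => by
  have := h t
  rw [El_change hf hpq α β γ δ hu hv] at this
  convert this using 2 <;> ring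

/-- A rank one tensor gives a transvection. -/
lemma InR.mem_tvSet (hf : IsSymplecticForm f) {u v : ι → F} {a : F} (ha : a ≠ 0)
    (huv : f u v = 0) (h : InR f M u v a 0 0) : u ∈ tvSet f M := fun t => by
  have e : sTv f u t = El f u v (t / a * a) (t / a * 0) (t / a * 0) := by
    refine gl_ext_mulVec fun x => ?_
    rw [El_mulVec hf huv, sTv_mulVec hf, div_mul_cancel₀ t ha, mul_zero]
    module
  rw [e]
  exact h _

end CfsgLib.ClassicalMax.SympFour
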