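/-
A transvection at a singular point, over the normaliser of a skew-adjoint map, gives everything.
-/
import Cfsg.Agent.Lib.ClassicalMax.SympFourBase
set_option autoImplicit false
set_option linter.unusedSectionVars false

namespace CfsgLib.ClassicalMax.SympFour

open Matrix Cfsg.Geo

variable {ι : Type} [Fintype ι] [DecidableEq ι] {F : Type*} [Field F] [Fintype F]

/-- A skew-adjoint map with a non-zero scalar square, in four dimensions. -/
structure Sk (f : (ι → F) → (ι → F) → F) (j : (ι → F) →ₗ[F] (ι → F)) (d : F) : Prop where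
  hf : IsSymplecticForm f
  h4 : Fintype.card ι = 4
  two : (2 : F) ≠ 0
  five : 5 ≤ Fintype.card F
  skew : ∀ x y, f (j x) y = -f x (j y)
  sq : ∀ x, j (j x) = d • x
  d_ne : d ≠ 0

variable {f : (ι → F) → (ι → F) → F} {j : (ι → F) →ₗ[F] (ι → F)} {d : F}

/-- Not an eigenvector. -/
def NE (j : (ι → F) →ₗ[F] (ι → F)) (u : ι → F) : Prop := ∀ l : F, j u ≠ l • u

/-- Commuting with `j`. -/
def Comm (j : (ι → F) →ₗ[F] (ι → F)) (g : GL ι F) : Prop :=
  ∀ x, (g : Matrix ι ι F) *ᵥ j x = j ((g : Matrix ι ι F) *ᵥ x)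

/-- Anticommuting with `j`. -/
def Anti (j : (ι → F) →ₗ[F] (ι → F)) (g : GL ι F) : Prop :=
  ∀ x, (g : Matrix ι ι F) *ᵥ j x = -j ((g : Matrix ι ι F) *ᵥ x)

/-- Containing the isometries that commute or anticommute with `j`. -/
def Good (f : (ι → F) → (ι → F) → F) (j : (ι → F) →ₗ[F] (ι → F)) (M : Subgroup (GL ι F)) : Prop :=
  ∀ h ∈ isoOf f, Comm j h ∨ Anti j h → h ∈ M

/-- A few elements are avoided by something. -/
lemma exists_avoid_list (s : Finset F) (h : s.card < Fintype.card F) : ∃ x, x ∉ s := by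
  by_contra hc
  push Not at hc
  exact absurd (Finset.card_le_card (fun x _ => hc x : Finset.univ ⊆ s)) (by simpa using h)

lemma Sk.ff (S : Sk f j d) (x y : ι → F) : f (j x) (j y) = -(d * f x y) := by
  rw [S.skew, S.sq, S.hf.bilinear.smul_right]

lemma Sk.symm (S : Sk f j d) (x y : ι → F) : f y (j x) = f x (j y) := by
  rw [S.hf.skew, S.skew, neg_neg]

lemma Sk.orth (S : Sk f j d) {x y : ι → F} (h : f x y = 0) : f y x = 0 :=
  (form_symplectic_eq_zero_comm S.hf).1 h

lemma NE.ne_zero {u : ι → F} (h : NE j u) : u ≠ 0 := fun e => h 0 (by rw [e, map_zero, smul_zero])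

lemma NE.li {u : ι → F} (h : NE j u) : LinearIndependent F ![u, j u] :=
  (LinearIndependent.pair_iff' h.ne_zero).2 fun a e => h a e.symm

lemma NE.map (S : Sk f j d) {u : ι → F} (h : NE j u) : NE j (j u) := by
  intro l e
  rw [S.sq] at e
  by_cases hl : l = 0
  · rw [hl, zero_smul, smul_eq_zero] at e
    exact h.ne_zero (e.resolve_left S.d_ne)
  · exact h (l⁻¹ * d) (by rw [mul_smul, e, smul_smul, inv_mul_cancel₀ hl, one_smul])

lemma Sk.neg_left (S : Sk f j d) (x y : ι → F) : f (-x) y = -f x y :=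
  LinearMap.map_neg₂ (bilinOf S.hf.bilinear) x y

lemma Sk.ne_of_li (S : Sk f j d) {u w : ι → F} (huw : f u w ≠ 0) (hujw : f u (j w) = 0) :
    NE j w := by
  intro l e
  rw [e, S.hf.bilinear.smul_right, mul_eq_zero, or_iff_left huw] at hujw
  rw [hujw, zero_smul] at e
  have := S.sq w
  rw [e, map_zero, eq_comm, smul_eq_zero, or_iff_right S.d_ne] at this
  exact huw (by rw [this, form_zero_right S.hf.bilinear])

/-- A hyperbolic frame `u, j u, w, j w`. -/
structure HF (f : (ι → F) → (ι → F) → F) (j : (ι → F) →ₗ[F] (ι → F)) (u w : ι → F) : Prop where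
  uju : f u (j u) = 0
  wjw : f w (j w) = 0
  uw : f u w = 1
  ujw : f u (j w) = 0

variable {u w : ι → F}

lemma HF.gram (S : Sk f j d) (h : HF f j u w) :
    f w u = -1 ∧ f (j u) w = 0 ∧ f w (j u) = 0 ∧ f (j u) (j w) = -d ∧ f (j w) (j u) = d ∧
      f (j u) u = 0 ∧ f (j w) w = 0 ∧ f (j w) u = 0 := by
  have e1 : f (j u) (j w) = -d := by rw [S.ff, h.uw, mul_one]
  refine ⟨by rw [S.hf.skew, h.uw], ?_, ?_, e1, by rw [S.hf.skew, e1, neg_neg], S.orth h.uju,
    S.orth h.wjw, S.orth h.ujw⟩
  · rw [S.skew, h.ujw, neg_zero]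
  · exact S.orth (by rw [S.skew, h.ujw, neg_zero])

lemma HF.li (S : Sk f j d) (h : HF f j u w) : LinearIndependent F ![u, j u, w, j w] := by
  obtain ⟨e1, e2, e3, e4, e5, e6, e7, e8⟩ := h.gram S
  have hd := S.d_ne
  refine li_of_dual S.hf (e' := ![w, j w, u, j u]) (fun i k hik => ?_) (fun i => ?_)
  · fin_cases i <;> fin_cases k <;>
      simp [h.uju, h.wjw, h.uw, h.ujw, e1, e2, e3, e4, e5, e6, e7, e8, S.hf.alternating] at hik ⊢
  · fin_cases i <;> simp [h.uw, e1, e4, e5, hd]

/-- Frames exist at every singular vector that is not an eigenvector. -/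
lemma Sk.exists_HF (S : Sk f j d) (hu : NE j u) (hQ : f u (j u) = 0) : ∃ w, HF f j u w := by
  have hf := S.hf
  obtain ⟨w₀, hw⟩ := exists_pairing hf hu.li ![1, 0]
  have h1 : f u w₀ = 1 := hw 0
  have h2 : f (j u) w₀ = 0 := hw 1
  have h3 : f u (j w₀) = 0 := by rw [← neg_eq_zero, ← S.skew, h2]
  refine ⟨w₀ + (f w₀ (j w₀) / (2 * d)) • j u, hQ, ?_, ?_, ?_⟩
  · have e1 : f w₀ (j (j u)) = -d := by
      rw [S.sq, hf.bilinear.smul_right, hf.skew w₀ u, h1]; ring
    have e2 : f (j u) (j w₀) = -d := by rw [S.ff, h1, mul_one]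
    have e3 : f (j u) (j (j u)) = 0 := by
      rw [S.sq, hf.bilinear.smul_right, S.orth hQ, mul_zero]
    have := S.two
    have := S.d_ne
    simp only [map_add, map_smul, hf.bilinear.add_left, hf.bilinear.add_right,
      hf.bilinear.smul_left, hf.bilinear.smul_right, e1, e2, e3]
    field_simp
    ring
  · rw [hf.bilinear.add_right, hf.bilinear.smul_right, h1, hQ, mul_zero, add_zero]
  · rw [map_add, map_smul, S.sq, hf.bilinear.add_right, hf.bilinear.smul_right,
      hf.bilinear.smul_right, h3, hf.alternating]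
    ring

variable [DecidableEq F]

/-- Any two frames are related by an element commuting with `j`. -/
lemma HF.move (S : Sk f j d) (h : HF f j u w) {u' w' : ι → F} (h' : HF f j u' w') :
    ∃ g ∈ isoOf f, Comm j g ∧ (g : Matrix ι ι F) *ᵥ u = u' ∧ (g : Matrix ι ι F) *ᵥ w = w' := by
  obtain ⟨a1, a2, a3, a4, a5, a6, a7, a8⟩ := h.gram S
  obtain ⟨b1, b2, b3, b4, b5, b6, b7, b8⟩ := h'.gram S
  obtain ⟨g, hg, hge⟩ := iso_of_frames S.hf S.h4 (e' := ![u', j u', w', j w']) (h.li S) fun i k => by
    fin_cases i <;> fin_cases k <;>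
      simp [h.uju, h.wjw, h.uw, h.ujw, h'.uju, h'.wjw, h'.uw, h'.ujw, a1, a2, a3, a4, a5, a6, a7,
        a8, b1, b2, b3, b4, b5, b6, b7, b8, S.hf.alternating]
  have g0 : (g : Matrix ι ι F) *ᵥ u = u' := hge 0
  have g1 : (g : Matrix ι ι F) *ᵥ j u = j u' := hge 1
  have g2 : (g : Matrix ι ι F) *ᵥ w = w' := hge 2
  have g3 : (g : Matrix ι ι F) *ᵥ j w = j w' := hge 3
  have hL := ext_of_frame S.h4 (h.li S)
    (L := (Matrix.toLin' (g : Matrix ι ι F)).comp j) (L' := j.comp (Matrix.toLin' (g : Matrix ι ι F)))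
    fun i => by fin_cases i <;> simp [S.sq, mulVec_smul, g0, g1, g2, g3]
  exact ⟨g, hg, fun x => by simpa using LinearMap.congr_fun hL x, g0, g2⟩

/-- An element negating the second vector of a line and fixing the first. -/
lemma HF.flip (S : Sk f j d) (h : HF f j u w) :
    ∃ g ∈ isoOf f, Anti j g ∧ (g : Matrix ι ι F) *ᵥ u = u ∧ (g : Matrix ι ι F) *ᵥ j u = -j u := by
  obtain ⟨a1, a2, a3, a4, a5, a6, a7, a8⟩ := h.gram S
  obtain ⟨g, hg, hge⟩ := iso_of_frames S.hf S.h4 (e' := ![u, -j u, w, -j w]) (h.li S) fun i k => by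
    fin_cases i <;> fin_cases k <;>
      simp [h.uju, h.wjw, h.uw, h.ujw, a1, a2, a3, a4, a5, a6, a7, a8, S.hf.alternating,
        form_neg_right S.hf.bilinear, S.neg_left]
  have g0 : (g : Matrix ι ι F) *ᵥ u = u := hge 0
  have g1 : (g : Matrix ι ι F) *ᵥ j u = -j u := hge 1
  have g2 : (g : Matrix ι ι F) *ᵥ w = w := hge 2
  have g3 : (g : Matrix ι ι F) *ᵥ j w = -j w := hge 3
  have hL := ext_of_frame S.h4 (h.li S)
    (L := (Matrix.toLin' (g : Matrix ι ι F)).comp j)
    (L' := -(j.comp (Matrix.toLin' (g : Matrix ι ι F))))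
    fun i => by fin_cases i <;> simp [S.sq, mulVec_smul, g0, g1, g2, g3]
  exact ⟨g, hg, fun x => by simpa using LinearMap.congr_fun hL x, g0, g1⟩

variable {M : Subgroup (GL ι F)}

/-- A transvection at a singular vector that is not an eigenvector gives everything. -/
theorem Sk.done_of_mem (S : Sk f j d) (hG : Good f j M) (hu : NE j u) (hQ : f u (j u) = 0)
    (huS : u ∈ tvSet f M) : isoOf f ≤ M := by
  have hf := S.hf
  obtain ⟨w, h⟩ := S.exists_HF hu hQ
  obtain ⟨a1, a2, a3, a4, a5, a6, a7, a8⟩ := h.gram S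
  have hd := S.d_ne
  have hall : ∀ v, NE j v → f v (j v) = 0 → v ∈ tvSet f M := by
    intro v hv hvQ
    obtain ⟨v', h'⟩ := S.exists_HF hv hvQ
    obtain ⟨g, hg, hc, e, -⟩ := h.move S h'
    exact e ▸ tvSet_mulVec hf (hG g hg (Or.inl hc)) hg huS
  have hw : NE j w := S.ne_of_li (by rw [h.uw]; exact one_ne_zero) h.ujw
  have hju : f (j u) (j (j u)) = 0 := by rw [S.sq, hf.bilinear.smul_right, a6, mul_zero]
  have hjw' : f (j w) (j (j w)) = 0 := by rw [S.sq, hf.bilinear.smul_right, a7, mul_zero]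
  have mju := hall _ (hu.map S) hju
  have mjw := hall _ (hw.map S) hjw'
  have mw := hall _ hw h.wjw
  -- the two orthogonal planes
  set P₁ := Submodule.span F ({u, w} : Set (ι → F)) with hP₁
  set P₂ := Submodule.span F ({j u, j w} : Set (ι → F)) with hP₂
  have hplane : ∀ (a b : ι → F), a ∈ tvSet f M → b ∈ tvSet f M → f a b ≠ 0 →
      ∀ p ∈ Submodule.span F ({a, b} : Set (ι → F)), p ∈ tvSet f M := by
    intro a b ha hb hab p hp
    obtain ⟨s, t, rfl⟩ := Submodule.mem_span_pair.1 hp
    by_cases hs : s = 0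
    · rw [hs, zero_smul, zero_add]; exact tvSet_smul hf t hb
    · exact tvSet_add_smul hf (tvSet_smul hf s ha) hb
        (by rw [hf.bilinear.smul_left]; exact mul_ne_zero hs hab) t
  have hP₁S := hplane u w huS mw (by rw [h.uw]; exact one_ne_zero)
  have hP₂S := hplane (j u) (j w) mju mjw (by rw [a4]; exact neg_ne_zero.2 hd)
  have h12 : ∀ p ∈ P₁, ∀ q ∈ P₂, f p q = 0 ∧ f q p = 0 := by
    intro p hp q hq
    obtain ⟨s, t, rfl⟩ := Submodule.mem_span_pair.1 hp
    obtain ⟨s', t', rfl⟩ := Submodule.mem_span_pair.1 hq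
    have : f (s • u + t • w) (s' • j u + t' • j w) = 0 := by
      simp [hf.bilinear.add_left, hf.bilinear.add_right, hf.bilinear.smul_left,
        hf.bilinear.smul_right, h.uju, h.wjw, h.ujw, a3]
    exact ⟨this, S.orth this⟩
  have hnd : ∀ (a b : ι → F), f a b ≠ 0 → ∀ p ∈ Submodule.span F ({a, b} : Set (ι → F)), p ≠ 0 →
      ∃ z ∈ Submodule.span F ({a, b} : Set (ι → F)), f p z ≠ 0 := by
    intro a b hab p hp hp0
    obtain ⟨s, t, rfl⟩ := Submodule.mem_span_pair.1 hp
    by_cases hs : s = 0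
    · refine ⟨a, Submodule.subset_span (by simp), ?_⟩
      subst hs
      have ht : t ≠ 0 := fun e => hp0 (by simp [e])
      simp [hf.bilinear.smul_left, ht, isoOf_comm_zero hf hab]
    · refine ⟨b, Submodule.subset_span (by simp), ?_⟩
      simp [hf.bilinear.add_left, hf.bilinear.smul_left, hf.alternating, hs, hab]
  -- changing one component
  have step : ∀ P : Submodule F (ι → F), (∀ p ∈ P, p ∈ tvSet f M) →
      (∀ p ∈ P, p ≠ 0 → ∃ z ∈ P, f p z ≠ 0) →
      ∀ p ∈ P, ∀ p' ∈ P, ∀ q, (∀ z ∈ P, f q z = 0) → p ≠ 0 → p' ≠ 0 →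
        p + q ∈ tvSet f M → p' + q ∈ tvSet f M := by
    intro P hPS hPnd p hp p' hp' q hq hp0 hp'0 hm
    obtain ⟨z₁, hz₁, hz₁'⟩ := hPnd p hp hp0
    obtain ⟨z₂, hz₂, hz₂'⟩ := hPnd p' hp' hp'0
    obtain ⟨z, hz, e1, e2⟩ := exists_both_ne_zero (bilinOf hf.bilinear p) (bilinOf hf.bilinear p') P
      ⟨z₁, hz₁, hz₁'⟩ ⟨z₂, hz₂, hz₂'⟩
    rw [bilinOf_apply] at e1 e2
    by_cases hpp : f p p' = 0
    · have h1 := tvSet_add_smul hf hm (hPS _ (P.add_mem (P.sub_mem hp' hp) hz)) (by
        rw [hf.bilinear.add_left, hq _ (P.add_mem (P.sub_mem hp' hp) hz), add_zero,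
          hf.bilinear.add_right, form_sub_right hf.bilinear, hpp, hf.alternating, sub_zero,
          zero_add]
        exact e1) 1
      have h2 := tvSet_add_smul hf h1 (hPS z hz) (by
        rw [show p + q + (1 : F) • (p' - p + z) = p' + z + q by module, hf.bilinear.add_left,
          hf.bilinear.add_left, hf.alternating, hq z hz, add_zero, add_zero]
        exact e2) (-1)
      convert h2 using 1
      module
    · have h1 := tvSet_add_smul hf hm (hPS _ (P.sub_mem hp' hp)) (by
        rw [hf.bilinear.add_left, hq _ (P.sub_mem hp' hp), add_zero, form_sub_right hf.bilinear,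
          hf.alternating, sub_zero]
        exact hpp) 1
      convert h1 using 1
      module
  -- a vector with both components
  obtain ⟨x, hx⟩ := exists_avoid_list ({0, d⁻¹} ∪ (Finset.univ.filter fun x : F => x * x = d⁻¹))
    (lt_of_le_of_lt (Finset.card_union_le _ _) (by
      have h1 : ({0, d⁻¹} : Finset F).card ≤ 2 := Finset.card_le_two
      have h2 : (Finset.univ.filter fun x : F => x * x = d⁻¹).card ≤ 2 := by
        by_cases he : ∃ r : F, r * r = d⁻¹
        · obtain ⟨r, hr⟩ := he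
          refine le_trans (Finset.card_le_card ?_) (Finset.card_le_two (a := r) (b := -r))
          intro y hy
          rw [Finset.mem_filter] at hy
          have : y * y = r * r := by rw [hy.2, hr]
          rcases mul_self_eq_mul_self_iff.1 this with e | e <;> simp [e]
        · push Not at he
          simp [Finset.filter_false_of_mem (fun y _ => he y)]
      have := S.five
      omega))
  simp only [Finset.mem_union, Finset.mem_insert, Finset.mem_singleton, Finset.mem_filter,
    Finset.mem_univ, true_and, not_or] at hx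
  have hx0 := hx.1.1
  have hxd : x * x * d ≠ 1 := fun e => hx.2 (eq_inv_of_mul_eq_one_left e)
  have hs : NE j (u + x • j u) := by
    intro l e
    rw [map_add, map_smul, S.sq, smul_add, smul_smul, smul_smul] at e
    have e' : (x * d - l) • u + (1 - l * x) • j u = 0 := by
      linear_combination (norm := module) e
    obtain ⟨e1, e2⟩ := LinearIndependent.pair_iff.1 hu.li _ _ e'
    exact hxd (by linear_combination x * e1 - e2)
  have ms := hall _ hs (by
    simp [map_add, map_smul, S.sq, hf.bilinear.add_left, hf.bilinear.add_right,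
      hf.bilinear.smul_left, hf.bilinear.smul_right, h.uju, a6, hf.alternating])
  refine isoOf_le_of_tvSet hf fun v => ?_
  obtain ⟨p, hp, q, hq, rfl⟩ : ∃ p ∈ P₁, ∃ q ∈ P₂, p + q = v := by
    have htop : Submodule.span F (Set.range ![u, j u, w, j w]) = ⊤ :=
      (h.li S).span_eq_top_of_card_eq_finrank
        (by rw [Module.finrank_fintype_fun_eq_card, S.h4]; rfl)
    obtain ⟨t, ht⟩ := (Submodule.mem_span_range_iff_exists_fun F).1
      (htop ▸ Submodule.mem_top : v ∈ Submodule.span F (Set.range ![u, j u, w, j w]))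
    refine ⟨t 0 • u + t 2 • w, Submodule.mem_span_pair.2 ⟨_, _, rfl⟩,
      t 1 • j u + t 3 • j w, Submodule.mem_span_pair.2 ⟨_, _, rfl⟩, ?_⟩
    rw [← ht, Fin.sum_univ_four]
    simp
    abel
  by_cases hp0 : p = 0
  · rw [hp0, zero_add]; exact hP₂S q hq
  by_cases hq0 : q = 0
  · rw [hq0, add_zero]; exact hP₁S p hp
  have hu₁ : u ∈ P₁ := Submodule.subset_span (by simp)
  have hju₂ : x • j u ∈ P₂ := P₂.smul_mem x (Submodule.subset_span (by simp))
  have nd₁ := hnd u w (by rw [h.uw]; exact one_ne_zero)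
  have nd₂ := hnd (j u) (j w) (by rw [a4]; exact neg_ne_zero.2 hd)
  have m1 := step P₁ hP₁S nd₁ u hu₁ p hp _ (fun z hz => (h12 z hz _ hju₂).2) hu.ne_zero hp0 ms
  rw [add_comm] at m1 ⊢
  exact step P₂ hP₂S nd₂ _ hju₂ q hq _ (fun z hz => (h12 _ hp z hz).1)
    (smul_ne_zero hx0 (hu.map S).ne_zero) hq0 m1

/-- A tensor on a line `{u, j u}` not commuting with `j` gives everything. -/
theorem Sk.done_of_regulus (S : Sk f j d) (hG : Good f j M) (hu : NE j u) (hQ : f u (j u) = 0)
    {a b c : F} (h : InR f M u (j u) a b c) (hne : b ≠ 0 ∨ a + d * c ≠ 0) : isoOf f ≤ M := by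
  have hf := S.hf
  obtain ⟨w, hF⟩ := S.exists_HF hu hQ
  have hjuu : f (j u) u = 0 := S.orth hQ
  -- the commuting tensor
  have h0 : InR f M u (j u) d 0 (-1) := fun t => hG _ (El_mem_isoOf hf _ _ _ _ _) (Or.inl fun x => by
    simp only [El_mulVec hf hQ, mul_zero, zero_mul, add_zero, zero_add, map_add, map_smul, S.sq,
      S.ff, S.skew, hf.bilinear.smul_right, hf.bilinear.smul_left]
    module)
  have h1 := (h.add hf hQ (h0.smul c)).cast (a' := a + c * d) (b' := b) (c' := 0) rfl
    (by rw [mul_zero, add_zero]) (by ring)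
  have key : ∀ a b : F, a ≠ 0 → InR f M u (j u) a b 0 → isoOf f ≤ M := by
    intro a b ha hab
    obtain ⟨g, hg, hgA, g0, g1⟩ := hF.flip S
    have h2 := hab.conj hf (hG g hg (Or.inr hgA)) hg
    rw [g0, g1] at h2
    have h3 := h2.change hf hQ 1 0 0 (-1) (by module) (by module)
    have h4 := (hab.add hf hQ h3).cast (a' := 2 * a) (b' := 0) (c' := 0) (by ring) (by ring)
      (by ring)
    exact S.done_of_mem hG hu hQ (h4.mem_tvSet hf (mul_ne_zero S.two ha) hQ)
  by_cases ha : a + c * d = 0
  swap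
  · exact key _ _ ha h1
  have hb : b ≠ 0 := hne.resolve_right fun e => e (by linear_combination ha)
  rw [ha] at h1
  obtain ⟨x, hx⟩ := exists_avoid_list (insert (0 : F) (Finset.univ.filter fun x : F => x * x = d))
    (lt_of_le_of_lt (Finset.card_insert_le _ _) (by
      have h2 : (Finset.univ.filter fun x : F => x * x = d).card ≤ 2 := by
        by_cases he : ∃ r : F, r * r = d
        · obtain ⟨r, hr⟩ := he
          refine le_trans (Finset.card_le_card ?_) (Finset.card_le_two (a := r) (b := -r))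
          intro y hy
          rw [Finset.mem_filter] at hy
          rcases mul_self_eq_mul_self_iff.1 (hy.2.trans hr.symm) with e | e <;> simp [e]
        · push Not at he
          simp [Finset.filter_false_of_mem (fun y _ => he y)]
      have := S.five
      omega))
  simp only [Finset.mem_insert, Finset.mem_filter, Finset.mem_univ, true_and, not_or] at hx
  set u' := x • u + j u with hu'
  have hu'ne : NE j u' := by
    intro l e
    rw [hu', map_add, map_smul, S.sq, smul_add, smul_smul] at e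
    have e' : (d - l * x) • u + (x - l) • j u = 0 := by linear_combination (norm := module) e
    obtain ⟨e1, e2⟩ := LinearIndependent.pair_iff.1 hu.li _ _ e'
    exact hx.2 (by linear_combination -e1 + x * e2)
  have hu'Q : f u' (j u') = 0 := by
    simp [hu', map_add, map_smul, S.sq, hf.bilinear.add_left, hf.bilinear.add_right,
      hf.bilinear.smul_left, hf.bilinear.smul_right, hQ, hjuu, hf.alternating]
  obtain ⟨w', hF'⟩ := S.exists_HF hu'ne hu'Q
  obtain ⟨g, hg, hgC, g0, -⟩ := hF.move S hF'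
  have h2 := h1.conj hf (hG g hg (Or.inl hgC)) hg
  rw [hgC, g0] at h2
  have h3 := h2.change hf hQ x 1 d x (by rw [hu']; module)
    (by rw [hu', map_add, map_smul, S.sq]; module)
  have h4 := h3.add hf hQ (h0.smul (2 * b * x))
  refine key (4 * b * x * d) (b * (x * x + d)) ?_ (h4.cast (by ring) (by ring) (by ring))
  rw [show (4 : F) = 2 * 2 by norm_num]
  exact mul_ne_zero (mul_ne_zero (mul_ne_zero (mul_ne_zero S.two S.two) hb) hx.1) S.d_ne

/-- The general criterion on a line carrying a vector that is not an eigenvector. -/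
theorem Sk.done_of_line (S : Sk f j d) (hG : Good f j M) {s : ι → F} (hs : NE j s)
    (hQ : f s (j s) = 0) {p r : ι → F} (α β γ δ : F) (hp : p = α • s + β • j s)
    (hr : r = γ • s + δ • j s) {a b c : F} (h : InR f M p r a b c)
    (hnc : ¬ Comm j (El f p r a b c)) : isoOf f ≤ M := by
  have hf := S.hf
  refine S.done_of_regulus hG hs hQ (h.change hf hQ α β γ δ hp hr) ?_
  by_contra hcon
  rw [not_or, not_not, not_not] at hcon
  refine hnc fun x => ?_
  rw [El_change hf hQ α β γ δ hp hr, hcon.1,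
    eq_neg_of_add_eq_zero_left hcon.2]
  simp only [El_mulVec hf hQ, zero_mul, add_zero, zero_add, map_add, map_smul, S.sq,
    S.ff, S.skew, hf.bilinear.smul_right]
  module

/-- A transvection at any singular vector gives everything. -/
theorem Sk.done_of_sing (S : Sk f j d) (hG : Good f j M) {z : ι → F} (hz : z ≠ 0)
    (hQ : f z (j z) = 0) (hzS : z ∈ tvSet f M) : isoOf f ≤ M := by
  have hf := S.hf
  by_cases hne : NE j z
  · exact S.done_of_mem hG hne hQ hzS
  simp only [NE, ne_eq, not_forall, not_not] at hne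
  obtain ⟨ρ, hρ⟩ := hne
  have hρd : ρ * ρ = d := by
    have := S.sq z
    rw [hρ, map_smul, hρ, smul_smul] at this
    exact smul_left_injective F hz this
  have hρ0 : ρ ≠ 0 := fun e => S.d_ne (by rw [← hρd, e, mul_zero])
  -- an opposite eigenvector orthogonal to `z`
  have hb : ∀ y, j (y - ρ⁻¹ • j y) = (-ρ) • (y - ρ⁻¹ • j y) := fun y => by
    rw [map_sub, map_smul, S.sq, ← hρd]
    match_scalars <;> field_simp
  have hzb : ∀ y, f z y = 0 → f z (y - ρ⁻¹ • j y) = 0 := fun y hy => by
    rw [form_sub_right hf.bilinear, hf.bilinear.smul_right, ← neg_neg (f z (j y)), ← S.skew, hρ,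
      hf.bilinear.smul_left, hy]
    ring
  obtain ⟨b, hb0, hbj, hzb⟩ : ∃ b, b ≠ 0 ∧ j b = (-ρ) • b ∧ f z b = 0 := by
    obtain ⟨r, hr, hr'⟩ := exists_orth_extend hf.bilinear ![z] (by rw [S.h4]; omega)
    have hzr : f z r = 0 := hr 0
    by_cases hrj : j r = ρ • r
    · have hli : LinearIndependent F ![z, r] := by
        rw [LinearIndependent.pair_iff' hz]
        intro a e
        exact hr' (Submodule.mem_span_range_iff_exists_fun F |>.2 ⟨![a], by simp [e]⟩)
      obtain ⟨y, hy⟩ := exists_pairing hf hli ![0, 1]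
      refine ⟨_, fun e => ?_, hb y, hzb y (hy 0)⟩
      have h1 : f r (y - ρ⁻¹ • j y) = 2 := by
        rw [form_sub_right hf.bilinear, hf.bilinear.smul_right, ← neg_neg (f r (j y)), ← S.skew,
          hrj, hf.bilinear.smul_left, show f r y = 1 from hy 1]
        field_simp
        ring
      rw [e, form_zero_right hf.bilinear] at h1
      exact S.two h1.symm
    · refine ⟨_, fun e => hrj ?_, hb r, hzb r hzr⟩
      rw [sub_eq_zero] at e
      nth_rewrite 2 [e]
      rw [smul_smul, mul_inv_cancel₀ hρ0, one_smul]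
  set u := z + b with hu
  have hju : j u = ρ • z - ρ • b := by rw [hu, map_add, hρ, hbj]; module
  have huQ : f u (j u) = 0 := by
    rw [hju, hu]
    simp [form_sub_right hf.bilinear, hf.bilinear.add_left, hf.bilinear.smul_right,
      hf.alternating, hzb, S.orth hzb]
  have hune : NE j u := by
    intro l e
    rw [hju, hu] at e
    have e1 : (ρ - l) • z = (ρ + l) • b := by linear_combination (norm := module) e
    have e2 := congrArg j e1
    rw [map_smul, map_smul, hρ, hbj, smul_smul, smul_smul] at e2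
    have e3 : (2 * ρ * (ρ - l)) • z = 0 := by
      linear_combination (norm := module) e2 + ρ • e1
    have hl : ρ = l := sub_eq_zero.1 ((mul_eq_zero.1 ((smul_eq_zero.1 e3).resolve_right hz)
      ).resolve_left (mul_ne_zero S.two hρ0))
    rw [hl, sub_self, zero_smul] at e1
    rcases smul_eq_zero.1 e1.symm with h | h
    · exact hρ0 ((mul_eq_zero.1 (show 2 * ρ = 0 by rw [hl]; linear_combination h)).resolve_left S.two)
    · exact hb0 h
  have hz2 : z = (2 : F)⁻¹ • u + (2 * ρ)⁻¹ • j u := by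
    have := S.two
    rw [hju, hu]
    match_scalars <;> field_simp <;> ring
  have hR : InR f M z z 1 0 0 := fun t => by
    have e : El f z z (t * 1) (t * 0) (t * 0) = sTv f z t := by
      refine gl_ext_mulVec fun x => ?_
      rw [El_mulVec hf (hf.alternating z), sTv_mulVec hf]
      module
    rw [e]
    exact hzS t
  refine S.done_of_regulus hG hune huQ (hR.change hf huQ _ _ _ _ hz2 hz2) (Or.inl ?_)
  have := S.two
  simp [hρ0, this]

end CfsgLib.ClassicalMax.SympFour
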