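/-
Tensors on lines in general position relative to a skew-adjoint map, four dimensions.
-/
import Cfsg.Agent.Lib.ClassicalMax.SympFourSkew
set_option autoImplicit false
set_option linter.unusedSectionVars false

namespace CfsgLib.ClassicalMax.SympFour

open Matrix Cfsg.Geo

variable {ι : Type} [Fintype ι] [DecidableEq ι] {F : Type*} [Field F] [Fintype F] [DecidableEq F]

/-- A quadratic equation has at most two solutions. -/
lemma card_sqrt_le (c : F) : (Finset.univ.filter fun x : F => x * x = c).card ≤ 2 := by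
  by_cases he : ∃ r : F, r * r = c
  · obtain ⟨r, hr⟩ := he
    refine le_trans (Finset.card_le_card ?_) (Finset.card_le_two (a := r) (b := -r))
    intro y hy
    rw [Finset.mem_filter] at hy
    rcases mul_self_eq_mul_self_iff.1 (hy.2.trans hr.symm) with e | e <;> simp [e]
  · push Not at he
    simp [Finset.filter_false_of_mem (fun y _ => he y)]

/-- Over more than five elements something avoids zero and four square roots. -/
lemma exists_avoid_roots (h : 7 ≤ Fintype.card F) (c c' : F) :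
    ∃ x : F, x ≠ 0 ∧ x * x ≠ c ∧ x * x ≠ c' := by
  obtain ⟨x, hx⟩ := exists_avoid_list (insert (0 : F) ((Finset.univ.filter fun x : F => x * x = c) ∪
    (Finset.univ.filter fun x : F => x * x = c'))) (lt_of_le_of_lt (Finset.card_insert_le _ _) (by
      have := Finset.card_union_le (Finset.univ.filter fun x : F => x * x = c)
        (Finset.univ.filter fun x : F => x * x = c')
      have := card_sqrt_le c
      have := card_sqrt_le c'
      omega))
  simp only [Finset.mem_insert, Finset.mem_union, Finset.mem_filter, Finset.mem_univ, true_and,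
    not_or] at hx
  exact ⟨x, hx.1, hx.2.1, hx.2.2⟩

lemma five_or_seven (h2 : (2 : F) ≠ 0) (h5 : 5 ≤ Fintype.card F) :
    Fintype.card F = 5 ∨ 7 ≤ Fintype.card F := by
  have hc : ringChar F ≠ 2 := fun e => h2 (by
    haveI : CharP F 2 := ringChar.of_eq e
    exact CharTwo.two_eq_zero)
  have := FiniteField.odd_card_of_char_ne_two hc
  omega

lemma exists_neg_one_sq (h : Fintype.card F = 5) : ∃ i : F, i * i = -1 := by
  obtain ⟨i, hi⟩ := (FiniteField.isSquare_neg_one_iff (F := F)).2 (by omega)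
  exact ⟨i, hi.symm⟩

/-- A binary form takes every value. -/
lemma exists_binary (h2 : (2 : F) ≠ 0) {k : F} (hk : k ≠ 0) (c : F) :
    ∃ a b : F, k * a ^ 2 + b ^ 2 = c := by
  have hc : ringChar F ≠ 2 := fun e => h2 (by
    haveI : CharP F 2 := ringChar.of_eq e
    exact CharTwo.two_eq_zero)
  have hodd : Fintype.card F % 2 = 1 := by
    have := FiniteField.odd_card_of_char_ne_two hc; omega
  obtain ⟨a, b, hab⟩ := FiniteField.exists_root_sum_quadratic (R := F)
    (f := Polynomial.C k * Polynomial.X ^ 2) (g := Polynomial.X ^ 2 - Polynomial.C c)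
    (Polynomial.degree_C_mul_X_pow 2 hk) (Polynomial.degree_X_pow_sub_C (by norm_num) _) hodd
  refine ⟨a, b, ?_⟩
  simp at hab
  linear_combination hab

/-- A value of a binary form taken on an axis is taken off the axes. -/
lemma exists_both_aux (h2 : (2 : F) ≠ 0) (h5 : 5 ≤ Fintype.card F) {k b : F} (hk : k ≠ 0)
    (hb : b ≠ 0) : (∃ B D : F, B ≠ 0 ∧ D ≠ 0 ∧ B ^ 2 + k * D ^ 2 = b ^ 2) ∨
      (Fintype.card F = 5 ∧ k * k = 1) := by
  by_cases hex : Fintype.card F = 5 ∧ k * k = 1
  · exact Or.inr hex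
  refine Or.inl ?_
  obtain ⟨m, hm0, hm1, hm2⟩ : ∃ m : F, m ≠ 0 ∧ k * m ^ 2 ≠ 1 ∧ k * m ^ 2 ≠ -1 := by
    rcases five_or_seven h2 h5 with h | h
    · refine ⟨1, one_ne_zero, fun e => hex ⟨h, ?_⟩, fun e => hex ⟨h, ?_⟩⟩ <;>
      · rw [one_pow, mul_one] at e; rw [e]; ring
    · obtain ⟨m, h0, h1, h2'⟩ := exists_avoid_roots h k⁻¹ (-k⁻¹)
      refine ⟨m, h0, fun e => h1 ?_, fun e => h2' ?_⟩ <;> field_simp <;> linear_combination e
  have hD : 1 + k * m ^ 2 ≠ 0 := fun e => hm2 (by linear_combination e)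
  refine ⟨b + -2 * b / (1 + k * m ^ 2), m * (-2 * b / (1 + k * m ^ 2)), ?_,
    mul_ne_zero hm0 (div_ne_zero (mul_ne_zero (neg_ne_zero.2 h2) hb) hD), by field_simp; ring⟩
  intro e
  field_simp at e
  exact hm1 (mul_left_cancel₀ hb (by linear_combination e))

lemma exists_both (h2 : (2 : F) ≠ 0) (h5 : 5 ≤ Fintype.card F) {k e : F} (hk : k ≠ 0)
    (he : e ≠ 0) : (∃ B D : F, B ≠ 0 ∧ D ≠ 0 ∧ B ^ 2 + k * D ^ 2 = e) ∨
      (Fintype.card F = 5 ∧ ∃ r, r * r = e) := by
  obtain ⟨a, b, hab⟩ := exists_binary h2 hk e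
  by_cases ha : a = 0
  · subst ha
    have hb : b ≠ 0 := fun h => he (by rw [← hab, h]; ring)
    rcases exists_both_aux h2 h5 hk hb with ⟨B, D, hB, hD, h⟩ | ⟨h, -⟩
    · exact Or.inl ⟨B, D, hB, hD, by rw [h, ← hab]; ring⟩
    · exact Or.inr ⟨h, b, by rw [← hab]; ring⟩
  by_cases hb : b = 0
  swap
  · exact Or.inl ⟨b, a, hb, ha, by rw [← hab]; ring⟩
  subst hb
  rcases exists_both_aux h2 h5 (inv_ne_zero hk) ha with ⟨B, D, hB, hD, h⟩ | ⟨h, hk2⟩
  · refine Or.inl ⟨D, B, hD, hB, ?_⟩
    rw [← hab]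
    field_simp at h
    linear_combination h
  · refine Or.inr ⟨h, ?_⟩
    obtain ⟨i, hi⟩ := exists_neg_one_sq h
    rcases mul_self_eq_one_iff.1 hk2 with e' | e' <;> rw [inv_eq_iff_eq_inv] at e'
    · exact ⟨a, by rw [← hab, e']; norm_num; ring⟩
    · exact ⟨i * a, by rw [← hab, e']; norm_num; linear_combination a ^ 2 * hi⟩

variable {f : (ι → F) → (ι → F) → F} {j : (ι → F) →ₗ[F] (ι → F)} {d : F}

/-- An orthogonal basis of a line in general position. -/
structure Sd (f : (ι → F) → (ι → F) → F) (j : (ι → F) →ₗ[F] (ι → F)) (e1 e2 : ι → F)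
    (s1 s2 : F) : Prop where
  e12 : f e1 e2 = 0
  ej : f e1 (j e2) = 0
  h1 : f e1 (j e1) = s1
  h2 : f e2 (j e2) = s2
  s1_ne : s1 ≠ 0
  s2_ne : s2 ≠ 0

variable {e1 e2 : ι → F} {s1 s2 : F}

lemma Sd.gram (S : Sk f j d) (E : Sd f j e1 e2 s1 s2) :
    f e2 e1 = 0 ∧ f e2 (j e1) = 0 ∧ f (j e1) e2 = 0 ∧ f (j e2) e1 = 0 ∧ f (j e1) e1 = -s1 ∧
      f (j e2) e2 = -s2 ∧ f (j e1) (j e2) = 0 ∧ f (j e2) (j e1) = 0 := by
  have a : f e2 (j e1) = 0 := by rw [S.symm, E.ej]
  have b : f (j e1) (j e2) = 0 := by rw [S.ff, E.e12]; ring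
  exact ⟨S.orth E.e12, a, S.orth a, S.orth E.ej, by rw [S.hf.skew, E.h1],
    by rw [S.hf.skew, E.h2], b, S.orth b⟩

lemma Sd.li (S : Sk f j d) (E : Sd f j e1 e2 s1 s2) :
    LinearIndependent F ![e1, e2, j e1, j e2] := by
  obtain ⟨a1, a2, a3, a4, a5, a6, a7, a8⟩ := E.gram S
  refine li_of_dual S.hf (e' := ![j e1, j e2, e1, e2]) (fun i k hik => ?_) (fun i => ?_)
  · fin_cases i <;> fin_cases k <;>
      simp [E.e12, E.ej, a1, a2, a3, a4, a5, a6, a7, a8, form_neg_right S.hf.bilinear, S.neg_left, S.hf.alternating] at hik ⊢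
  · fin_cases i <;> simp [E.h1, E.h2, a5, a6, E.s1_ne, E.s2_ne]

/-- The orthogonal group of the line extends. -/
lemma Sd.iso (S : Sk f j d) (E : Sd f j e1 e2 s1 s2) {p q r t : F}
    (hp : p ^ 2 * s1 + q ^ 2 * s2 = s1) (hr : r ^ 2 * s1 + t ^ 2 * s2 = s2)
    (hpr : p * r * s1 + q * t * s2 = 0) :
    ∃ g ∈ isoOf f, Comm j g ∧ (g : Matrix ι ι F) *ᵥ e1 = p • e1 + q • e2 ∧
      (g : Matrix ι ι F) *ᵥ e2 = r • e1 + t • e2 := by
  obtain ⟨a1, a2, a3, a4, a5, a6, a7, a8⟩ := E.gram S
  have hf := S.hf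
  obtain ⟨g, hg, hge⟩ := iso_of_frames hf S.h4
    (e' := ![p • e1 + q • e2, r • e1 + t • e2, p • j e1 + q • j e2, r • j e1 + t • j e2]) (E.li S)
    fun i k => by
      fin_cases i <;> fin_cases k <;>
        simp [hf.bilinear.add_left, hf.bilinear.add_right, hf.bilinear.smul_left,
          hf.bilinear.smul_right, E.e12, E.ej, E.h1, E.h2, a1, a2, a3, a4, a5, a6, a7, a8,
          hf.alternating] <;>
        first
          | linear_combination hp | linear_combination -hp | linear_combination hr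
          | linear_combination -hr | linear_combination hpr | linear_combination -hpr
  have g0 : (g : Matrix ι ι F) *ᵥ e1 = p • e1 + q • e2 := hge 0
  have g1 : (g : Matrix ι ι F) *ᵥ e2 = r • e1 + t • e2 := hge 1
  have g2 : (g : Matrix ι ι F) *ᵥ j e1 = p • j e1 + q • j e2 := hge 2
  have g3 : (g : Matrix ι ι F) *ᵥ j e2 = r • j e1 + t • j e2 := hge 3
  have hL := ext_of_frame S.h4 (E.li S)
    (L := (Matrix.toLin' (g : Matrix ι ι F)).comp j) (L' := j.comp (Matrix.toLin' (g : Matrix ι ι F)))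
    fun i => by fin_cases i <;> simp [S.sq, mulVec_smul, g0, g1, g2, g3] <;> module
  exact ⟨g, hg, fun x => by simpa using LinearMap.congr_fun hL x, g0, g1⟩

variable {M : Subgroup (GL ι F)}

/-- The first vector of the graph line. -/
def g1 (j : (ι → F) →ₗ[F] (ι → F)) (e1 e2 : ι → F) (s1 s2 α β : F) : ι → F :=
  (α * (s1 * s2)) • e1 + (β * s1) • e2 + j e1

/-- The second vector of the graph line. -/
def g2 (j : (ι → F) →ₗ[F] (ι → F)) (e1 e2 : ι → F) (s1 s2 α β : F) : ι → F :=
  (β * s2) • e1 + (-(α * (s1 * s2))) • e2 + j e2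

lemma Sd.graph (S : Sk f j d) (E : Sd f j e1 e2 s1 s2) {α β : F}
    (hC : (s1 * s2) * (α ^ 2 * (s1 * s2) + β ^ 2) = d) :
    j (g1 j e1 e2 s1 s2 α β)
        = (α * (s1 * s2)) • g1 j e1 e2 s1 s2 α β + (β * s1) • g2 j e1 e2 s1 s2 α β ∧
      j (g2 j e1 e2 s1 s2 α β)
        = (β * s2) • g1 j e1 e2 s1 s2 α β + (-(α * (s1 * s2))) • g2 j e1 e2 s1 s2 α β ∧
      f (g1 j e1 e2 s1 s2 α β) (g2 j e1 e2 s1 s2 α β) = 0 := by
  obtain ⟨a1, a2, a3, a4, a5, a6, a7, a8⟩ := E.gram S
  refine ⟨?_, ?_, ?_⟩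
  · simp only [g1, g2, map_add, map_smul, S.sq]
    subst hC
    module
  · simp only [g1, g2, map_add, map_smul, S.sq]
    subst hC
    module
  · simp [g1, g2, S.hf.bilinear.add_left, S.hf.bilinear.add_right, S.hf.bilinear.smul_left,
      S.hf.bilinear.smul_right, E.e12, E.ej, E.h1, E.h2, a1, a2, a3, a4, a5, a6, a7, a8,
      form_neg_right S.hf.bilinear, S.neg_left, S.hf.alternating]
    ring

lemma Sd.graph_li (S : Sk f j d) (E : Sd f j e1 e2 s1 s2) (α β : F) {x y : F}
    (h : x • g1 j e1 e2 s1 s2 α β + y • g2 j e1 e2 s1 s2 α β = 0) : x = 0 ∧ y = 0 := by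
  obtain ⟨a1, a2, a3, a4, a5, a6, a7, a8⟩ := E.gram S
  have c1 := congrArg (fun v => f v e1) h
  have c2 := congrArg (fun v => f v e2) h
  simp [g1, g2, S.hf.bilinear.add_left, S.hf.bilinear.smul_left, E.e12, a1, a3, a4, a5, a6,
    S.neg_left, S.hf.alternating, form_zero_left S.hf.bilinear, E.s1_ne, E.s2_ne] at c1 c2
  exact ⟨c1, c2⟩

/-- A tensor not anticommuting on a graph line gives everything. -/
theorem Sd.done_of_graph (S : Sk f j d) (hG : Good f j M) (E : Sd f j e1 e2 s1 s2) {α β : F}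
    (hC : (s1 * s2) * (α ^ 2 * (s1 * s2) + β ^ 2) = d) {a b c : F}
    (h : InR f M (g1 j e1 e2 s1 s2 α β) (g2 j e1 e2 s1 s2 α β) a b c)
    (hne : a * α * s1 + b * β ≠ 0) : isoOf f ≤ M := by
  obtain ⟨a1, a2, a3, a4, a5, a6, a7, a8⟩ := E.gram S
  have hf := S.hf
  obtain ⟨j1, j2, hu⟩ := E.graph S hC
  have hk : s1 * s2 ≠ 0 := mul_ne_zero E.s1_ne E.s2_ne
  have hli := fun x y => E.graph_li S α β (x := x) (y := y)
  -- an element not commuting
  have hnc : ¬ Comm j (El f (g1 j e1 e2 s1 s2 α β) (g2 j e1 e2 s1 s2 α β) a b c) := by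
    intro hc
    have h0 := hc e1
    rw [El_mulVec hf hu, El_mulVec hf hu, map_add, map_add, map_smul, map_smul, j1, j2] at h0
    simp [g1, g2, hf.bilinear.add_right, hf.bilinear.smul_right, E.e12, E.ej, E.h1, E.h2, a3,
      a5, a7, form_neg_right hf.bilinear, S.neg_left, hf.alternating] at h0
    rw [← sub_eq_zero] at h0
    have h1 := hli (-(2 * (s1 * s2) * (a * α * s1 + b * β)))
      (a * s1 * (-(β * s1)) + b * s1 * (α * (s1 * s2)) + b * (-(α * (s1 * s2)) * s1)
        + c * (-(β * s2) * s1) + (0 : F)) (by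
        simp only [g1, g2]
        linear_combination (norm := module) h0)
    exact mul_ne_zero (mul_ne_zero S.two hk) hne (neg_eq_zero.1 h1.1)
  set u := g1 j e1 e2 s1 s2 α β with hu_def
  set v := g2 j e1 e2 s1 s2 α β with hv_def
  by_cases hβ : β = 0
  swap
  · refine S.done_of_line hG (s := u) ?_ ?_ 1 0 (-(α * (s1 * s2)) / (β * s1)) (1 / (β * s1))
      (by module) ?_ h hnc
    · intro l e
      rw [j1] at e
      exact mul_ne_zero hβ E.s1_ne (hli (α * (s1 * s2) - l) (β * s1)
        (by linear_combination (norm := module) e)).2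
    · rw [j1]
      simp [hf.bilinear.add_right, hf.bilinear.smul_right, form_neg_right hf.bilinear, S.neg_left, hf.alternating, hu]
    · rw [j1]
      have := E.s1_ne
      match_scalars <;> field_simp <;> ring
  subst hβ
  have hα : α ≠ 0 := fun e => hne (by rw [e]; ring)
  have hk' : α * (s1 * s2) ≠ 0 := mul_ne_zero hα hk
  refine S.done_of_line hG (s := u + v) ?_ ?_ (2 : F)⁻¹ (2 * (α * (s1 * s2)))⁻¹ (2 : F)⁻¹
    (-(2 * (α * (s1 * s2)))⁻¹) ?_ ?_ h hnc
  · intro l e
    rw [map_add, j1, j2, zero_mul, zero_mul] at e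
    obtain ⟨e1', e2'⟩ := hli (α * (s1 * s2) - l) (-(α * (s1 * s2)) - l)
      (by linear_combination (norm := module) e)
    exact mul_ne_zero S.two hk' (by linear_combination e1' - e2')
  · rw [map_add, j1, j2]
    simp [hf.bilinear.add_left, hf.bilinear.add_right, hf.bilinear.smul_left,
      hf.bilinear.smul_right, form_neg_right hf.bilinear, S.neg_left, hf.alternating, hu, S.orth hu]
  · rw [map_add, j1, j2]
    have := S.two
    have := E.s1_ne
    have := E.s2_ne
    match_scalars <;> field_simp <;> ring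
  · rw [map_add, j1, j2]
    have := S.two
    have := E.s1_ne
    have := E.s2_ne
    match_scalars <;> field_simp <;> ring

/-- A tensor of trace zero gives everything. -/
theorem Sd.done_of_traceless (S : Sk f j d) (hG : Good f j M) (E : Sd f j e1 e2 s1 s2) {γ δ : F}
    (h0 : γ ≠ 0 ∨ δ ≠ 0) (h : InR f M e1 e2 (γ * s2) δ (-(γ * s1))) : isoOf f ≤ M := by
  obtain ⟨a1, a2, a3, a4, a5, a6, a7, a8⟩ := E.gram S
  have hf := S.hf
  have hk : s1 * s2 ≠ 0 := mul_ne_zero E.s1_ne E.s2_ne
  have hs1 := E.s1_ne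
  have hs2 := E.s2_ne
  have hd := S.d_ne
  by_cases hn : γ ^ 2 * (s1 * s2) + δ ^ 2 = 0
  · -- rank one
    have hγ : γ ≠ 0 := fun e => h0.elim (fun h => h e) fun h => h (by
      simpa [e] using hn)
    set z := (γ * s2) • e1 + δ • e2 with hz
    have hR : InR f M z e2 (γ * s2)⁻¹ 0 0 := fun t => by
      have e := El_change hf (p := e1) (q := e2) (v := e2) E.e12 (γ * s2) δ 0 1 hz (by module)
        (t * (γ * s2)⁻¹) (t * 0) (t * 0)
      rw [e]
      convert h t using 2 <;> field_simp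
      · ring
      · ring
      · linear_combination t * hn
    have hz2 : f z e2 = 0 := by
      simp [hz, hf.bilinear.add_left, hf.bilinear.smul_left, E.e12, hf.alternating]
    refine S.done_of_sing hG (fun e => ?_) ?_ (hR.mem_tvSet hf (inv_ne_zero (mul_ne_zero hγ hs2)) hz2)
    · have c := congrArg (fun v => f v (j e1)) e
      simp [hz, hf.bilinear.add_left, hf.bilinear.smul_left, E.h1, a2, hγ, hs1, hs2,
        form_zero_left hf.bilinear] at c
    · simp [hz, map_add, map_smul, hf.bilinear.add_left, hf.bilinear.add_right,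
        hf.bilinear.smul_left, hf.bilinear.smul_right, E.ej, E.h1, E.h2, a2]
      linear_combination s2 * hn
  rcases exists_both S.two S.five hk
    (div_ne_zero (mul_ne_zero hn hd) hk : (γ ^ 2 * (s1 * s2) + δ ^ 2) * d / (s1 * s2) ≠ 0) with
    ⟨B, D, hB, hD, hBD⟩ | ⟨hq, r, hr⟩
  · -- translate one regulus line to another
    set n := γ ^ 2 * (s1 * s2) + δ ^ 2 with hndef
    set α := (B * γ + D * δ) / n with hα
    set β := (B * δ - D * γ * (s1 * s2)) / n with hβ
    have hC : (s1 * s2) * (α ^ 2 * (s1 * s2) + β ^ 2) = d := by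
      rw [hα, hβ]
      field_simp at hBD ⊢
      rw [hndef] at hBD ⊢
      linear_combination (γ ^ 2 * (s1 * s2) + δ ^ 2) * hBD
    set t := 2 * B / n with ht
    have hC' : (s1 * s2) * ((α - t * γ) ^ 2 * (s1 * s2) + (β - t * δ) ^ 2) = d := by
      rw [← hC, ht, hα, hβ]
      field_simp
      ring
    obtain ⟨j1, j2, hu⟩ := E.graph S hC
    have hY : InR f M (g1 j e1 e2 s1 s2 α β) (g2 j e1 e2 s1 s2 α β) (-(β * s2)) (α * (s1 * s2))
        (β * s1) := fun l => hG _ (El_mem_isoOf hf _ _ _ _ _) (Or.inl fun x => by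
      simp only [El_mulVec hf hu, map_add, map_smul, S.skew, j1, j2, hf.bilinear.add_right,
        hf.bilinear.smul_right]
      module)
    set g := El f e1 e2 (t * (γ * s2)) (t * δ) (t * -(γ * s1)) with hg
    have hgv : (g : Matrix ι ι F) *ᵥ g1 j e1 e2 s1 s2 α β
          = g1 j e1 e2 s1 s2 (α - t * γ) (β - t * δ) ∧
        (g : Matrix ι ι F) *ᵥ g2 j e1 e2 s1 s2 α β
          = g2 j e1 e2 s1 s2 (α - t * γ) (β - t * δ) := by
      constructor <;>
      · simp only [hg, g1, g2, El_mulVec hf E.e12, hf.bilinear.add_left, hf.bilinear.smul_left,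
          hf.alternating, E.e12, a1, a3, a4, a5, a6]
        module
    have hY' := hY.conj hf (h t) (El_mem_isoOf hf _ _ _ _ _)
    rw [hgv.1, hgv.2] at hY'
    refine E.done_of_graph S hG hC' hY' ?_
    rw [show -(β * s2) * (α - t * γ) * s1 + α * (s1 * s2) * (β - t * δ)
      = -((s1 * s2) * t * (α * δ - β * γ)) by ring,
      show α * δ - β * γ = D by rw [hα, hβ]; field_simp; rw [hndef]; ring, ht]
    exact neg_ne_zero.2 (mul_ne_zero (mul_ne_zero hk (div_ne_zero (mul_ne_zero S.two hB) hn)) hD)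
  · -- five elements: the tensor is a multiple of a structure
    obtain ⟨i, hi⟩ := exists_neg_one_sq hq
    set n := γ ^ 2 * (s1 * s2) + δ ^ 2 with hndef
    have hl : (r / n) ^ 2 * n * (s1 * s2) = d := by
      rw [eq_div_iff hk] at hr
      field_simp
      linear_combination hr
    set l := r / n with hldef
    have hC : (s1 * s2) * ((l * γ) ^ 2 * (s1 * s2) + (l * δ) ^ 2) = d := by
      rw [← hl, hndef]; ring
    obtain ⟨c₁, hc₁⟩ : ∃ c, c = l * γ := ⟨_, rfl⟩
    obtain ⟨c₂, hc₂⟩ : ∃ c, c = l * δ := ⟨_, rfl⟩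
    rw [← hc₁, ← hc₂] at hC
    obtain ⟨j1, j2, hu⟩ := E.graph S hC
    have hl0 : l ≠ 0 := fun e => hd (by rw [← hl, e]; ring)
    have hN : InR f M e1 e2 (c₁ * s2) c₂ (-(c₁ * s1)) :=
      (h.smul l).cast (by rw [hc₁]; ring) (by rw [hc₂]) (by rw [hc₁]; ring)
    -- the images of the basis
    obtain ⟨k, hbb⟩ : ∃ k : F, k * k * (d * d) = -1 := ⟨i / d, by field_simp; linear_combination hi⟩
    set w1 := (k * (c₁ * (s1 * s2))) • j e1 + (k * (c₂ * s1)) • j e2 with hw1
    set w2 := (k * (c₂ * s2)) • j e1 + (k * -(c₁ * (s1 * s2))) • j e2 with hw2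
    have E' : Sd f j w1 w2 s1 s2 := by
      refine ⟨?_, ?_, ?_, ?_, E.s1_ne, E.s2_ne⟩ <;>
        simp [hw1, hw2, map_add, map_smul, S.sq, hf.bilinear.add_left, hf.bilinear.add_right,
          hf.bilinear.smul_left, hf.bilinear.smul_right, a5, a6, a7, a8, a3, a4,
          form_neg_right hf.bilinear, S.neg_left, hf.alternating]
      · ring
      · linear_combination (-s1) * hbb + (-(d * (k * k) * s1)) * hC
      · linear_combination (-s2) * hbb + (-(d * (k * k) * s2)) * hC
    obtain ⟨b1, b2, b3, b4, b5, b6, b7, b8⟩ := E'.gram S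
    obtain ⟨w, hw, hwe⟩ := iso_of_frames hf S.h4 (e' := ![w1, w2, j w1, j w2]) (E.li S) fun a b => by
      fin_cases a <;> fin_cases b <;>
        simp [E.e12, E.ej, E.h1, E.h2, a1, a2, a3, a4, a5, a6, a7, a8, E'.e12, E'.ej, E'.h1, E'.h2,
          b1, b2, b3, b4, b5, b6, b7, b8, hf.alternating]
    have g0 : (w : Matrix ι ι F) *ᵥ e1 = w1 := hwe 0
    have g0' : (w : Matrix ι ι F) *ᵥ e2 = w2 := hwe 1
    have gj : (w : Matrix ι ι F) *ᵥ j e1 = j w1 := hwe 2
    have gj' : (w : Matrix ι ι F) *ᵥ j e2 = j w2 := hwe 3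
    have hwC : Comm j w := by
      have hL := ext_of_frame S.h4 (E.li S) (L := (Matrix.toLin' (w : Matrix ι ι F)).comp j)
        (L' := j.comp (Matrix.toLin' (w : Matrix ι ι F)))
        fun a => by fin_cases a <;> simp [S.sq, mulVec_smul, g0, g0', gj, gj'] <;> module
      exact fun x => by simpa using LinearMap.congr_fun hL x
    have hV := hN.conj hf (hG w hw (Or.inl hwC)) hw
    rw [g0, g0'] at hV
    have hw12 : f w1 w2 = 0 := by
      rw [← g0, ← g0', mem_isoOf.1 hw, E.e12]
    set g := El f w1 w2 (-1 * (c₁ * s2)) (-1 * c₂) (-1 * -(c₁ * s1)) with hg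
    have hge : (g : Matrix ι ι F) *ᵥ e1 = (-(k * k * d)) • j (g1 j e1 e2 s1 s2 c₁ c₂) ∧
        (g : Matrix ι ι F) *ᵥ e2 = (-(k * k * d)) • j (g2 j e1 e2 s1 s2 c₁ c₂) := by
      have A1 : -1 * (c₁ * s2) * f e1 w1 + -1 * c₂ * f e1 w2 = -(k * d) := by
        simp [hw1, hw2, hf.bilinear.add_right, hf.bilinear.smul_right, E.ej, E.h1,
          form_neg_right hf.bilinear]
        linear_combination (-k) * hC
      have B1 : -1 * c₂ * f e1 w1 + -1 * -(c₁ * s1) * f e1 w2 = 0 := by
        simp [hw1, hw2, hf.bilinear.add_right, hf.bilinear.smul_right, E.ej, E.h1,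
          form_neg_right hf.bilinear]
        ring
      have B2 : -1 * (c₁ * s2) * f e2 w1 + -1 * c₂ * f e2 w2 = 0 := by
        simp [hw1, hw2, hf.bilinear.add_right, hf.bilinear.smul_right, a2, E.h2,
          form_neg_right hf.bilinear]
        ring
      have A2 : -1 * c₂ * f e2 w1 + -1 * -(c₁ * s1) * f e2 w2 = -(k * d) := by
        simp [hw1, hw2, hf.bilinear.add_right, hf.bilinear.smul_right, a2, E.h2,
          form_neg_right hf.bilinear]
        linear_combination (-k) * hC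
      constructor
      · rw [hg, El_mulVec hf hw12, A1, B1, hw1]
        simp only [g1, map_add, map_smul, S.sq]
        match_scalars <;> first | ring1 | linear_combination hbb | linear_combination -hbb
      · rw [hg, El_mulVec hf hw12, A2, B2, hw2]
        simp only [g2, map_add, map_smul, S.sq]
        match_scalars <;> first | ring1 | linear_combination hbb | linear_combination -hbb
    have hT := hN.conj hf (hV (-1)) (El_mem_isoOf hf _ _ _ _ _)
    rw [hge.1, hge.2, j1, j2] at hT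
    have hT' := hT.change hf hu (-(k * k * d) * (c₁ * (s1 * s2))) (-(k * k * d) * (c₂ * s1))
      (-(k * k * d) * (c₂ * s2)) (-(k * k * d) * -(c₁ * (s1 * s2))) (by module) (by module)
    refine E.done_of_graph S hG hC hT' ?_
    intro e
    have hk0 : k * k * d ≠ 0 := fun h => one_ne_zero (α := F) (by linear_combination hbb - d * h)
    have e' : (c₁ ^ 2 * (s1 * s2) + c₂ ^ 2) ^ 2 * (s1 * s2) = 0 := by
      have e'' : (k * k * d) ^ 2 * ((c₁ ^ 2 * (s1 * s2) + c₂ ^ 2) ^ 2 * (s1 * s2)) = 0 := by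
        linear_combination e
      exact (mul_eq_zero.1 e'').resolve_left (pow_ne_zero 2 hk0)
    rcases mul_eq_zero.1 e' with h' | h'
    · exact hd (by rw [← hC, pow_eq_zero_iff two_ne_zero |>.1 h', mul_zero])
    · exact hk h'

/-- A tensor is scalar or gives everything. -/
theorem Sd.done_or_scalar (S : Sk f j d) (hG : Good f j M) (E : Sd f j e1 e2 s1 s2) {a b c : F}
    (h : InR f M e1 e2 a b c) (h0 : a ≠ 0 ∨ b ≠ 0 ∨ c ≠ 0) :
    isoOf f ≤ M ∨ (b = 0 ∧ a * s1 = c * s2) := by
  have hf := S.hf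
  have hs1 := E.s1_ne
  have hs2 := E.s2_ne
  have hb' : ∀ {a b c : F}, InR f M e1 e2 a b c → b ≠ 0 → isoOf f ≤ M := by
    intro a b c h hb
    obtain ⟨g, hg, hgC, g0, g0'⟩ := E.iso S (p := 1) (q := 0) (r := 0) (t := -1) (by ring) (by ring)
      (by ring)
    have h2 := h.conj hf (hG g hg (Or.inl hgC)) hg
    rw [g0, g0'] at h2
    have h3 := h2.change hf E.e12 1 0 0 (-1) rfl rfl
    have h4 := h.sub hf E.e12 h3
    refine E.done_of_traceless S hG (γ := 0) (δ := 2 * b) (Or.inr (mul_ne_zero S.two hb))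
      (h4.cast ?_ ?_ ?_) <;> ring
  by_cases hb : b = 0
  swap
  · exact Or.inl (hb' h hb)
  subst hb
  by_cases htr : a * s1 + c * s2 = 0
  · refine Or.inl (E.done_of_traceless S hG (γ := a / s2) (δ := 0) (Or.inl ?_) (h.cast ?_ rfl ?_))
    · intro e
      rw [div_eq_zero_iff, or_iff_left hs2] at e
      rw [e, zero_mul, zero_add] at htr
      rcases h0 with h | h | h
      · exact h e
      · exact h rfl
      · exact h ((mul_eq_zero.1 htr).resolve_right hs2)
    · field_simp
    · field_simp; linear_combination htr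
  by_cases hsc : a * s1 = c * s2
  · exact Or.inr ⟨rfl, hsc⟩
  refine Or.inl ?_
  by_cases hsq : ∃ l : F, l * l * s2 = s1
  · obtain ⟨l, hl⟩ := hsq
    have hl0 : l ≠ 0 := fun e => hs1 (by rw [← hl, e]; ring)
    obtain ⟨g, hg, hgC, g0, g0'⟩ := E.iso S (p := 0) (q := l) (r := l⁻¹) (t := 0)
      (by linear_combination hl) (by field_simp; linear_combination -hl) (by ring)
    have h2 := h.conj hf (hG g hg (Or.inl hgC)) hg
    rw [g0, g0'] at h2
    have h3 := h2.change hf E.e12 0 l l⁻¹ 0 rfl rfl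
    have h4 := h.sub hf E.e12 h3
    refine E.done_of_traceless S hG (γ := (a - c / (l * l)) / s2) (δ := 0) (Or.inl ?_)
      (h4.cast ?_ ?_ ?_)
    · refine div_ne_zero (sub_ne_zero.2 fun e => hsc ?_) hs2
      rw [← hl, e]
      field_simp
    · field_simp; ring
    · ring
    · field_simp
      linear_combination (c - a * l ^ 2) * hl
  push Not at hsq
  obtain ⟨τ, hτ0, hτ1, hτ2⟩ : ∃ τ : F, τ ≠ 0 ∧ τ * τ * s2 ≠ s1 ∧ τ * τ * s2 ≠ -s1 := by
    rcases five_or_seven S.two S.five with hq | hq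
    · obtain ⟨i, hi⟩ := exists_neg_one_sq hq
      exact ⟨1, one_ne_zero, hsq 1, fun e => hsq i (by linear_combination s2 * hi - e)⟩
    · obtain ⟨τ, h1, -, h3⟩ := exists_avoid_roots hq (s1 / s2) (-s1 / s2)
      exact ⟨τ, h1, hsq τ, fun e => h3 (by field_simp; linear_combination e)⟩
  have hQ : s1 + τ * τ * s2 ≠ 0 := fun e => hτ2 (by linear_combination e)
  obtain ⟨P, hP⟩ : ∃ P, P * (s1 + τ * τ * s2) = 1 := ⟨_, inv_mul_cancel₀ hQ⟩
  obtain ⟨g, hg, hgC, g0, g0'⟩ := E.iso S (p := (τ * τ * s2 - s1) * P)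
    (q := -2 * s1 * τ * P) (r := -2 * s2 * τ * P) (t := (s1 - τ * τ * s2) * P)
    (by linear_combination s1 * (P * (s1 + τ * τ * s2) + 1) * hP)
    (by linear_combination s2 * (P * (s1 + τ * τ * s2) + 1) * hP) (by ring)
  have h2 := h.conj hf (hG g hg (Or.inl hgC)) hg
  rw [g0, g0'] at h2
  refine hb' (h2.change hf E.e12 _ _ _ _ rfl rfl) (fun e => ?_)
  have hP0 : P ≠ 0 := fun h => one_ne_zero (α := F) (by rw [← hP, h, zero_mul])
  have e'' : P ^ 2 * ((τ * τ * s2 - s1) * (2 * τ) * (c * s2 - a * s1)) = 0 := by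
    linear_combination e
  have e' := (mul_eq_zero.1 e'').resolve_left (pow_ne_zero 2 hP0)
  rcases mul_eq_zero.1 e' with h' | h'
  · rcases mul_eq_zero.1 h' with h'' | h''
    · exact hτ1 (sub_eq_zero.1 h'')
    · exact mul_ne_zero S.two hτ0 h''
  · exact hsc (sub_eq_zero.1 h').symm

/-- A tensor in any basis of a line in general position is scalar or gives everything. -/
theorem Sk.done_or_scalar (S : Sk f j d) (hG : Good f j M) {p r : ι → F} (hpr : f p r = 0)
    (hdet : f p (j p) * f r (j r) - f p (j r) ^ 2 ≠ 0) {a b c : F} (h : InR f M p r a b c)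
    (h0 : a ≠ 0 ∨ b ≠ 0 ∨ c ≠ 0) :
    isoOf f ≤ M ∨ ∃ κ, a = κ * f r (j r) ∧ b = -(κ * f p (j r)) ∧ c = κ * f p (j p) := by
  have hf := S.hf
  have main : ∀ (p r : ι → F), f p r = 0 → f p (j p) ≠ 0 →
      f p (j p) * f r (j r) - f p (j r) ^ 2 ≠ 0 → ∀ a b c : F, InR f M p r a b c →
      (a ≠ 0 ∨ b ≠ 0 ∨ c ≠ 0) →
      isoOf f ≤ M ∨ ∃ κ, a = κ * f r (j r) ∧ b = -(κ * f p (j r)) ∧ c = κ * f p (j p) := by
    intro p r hpr hp hdet a b c h h0
    set m := f p (j r) / f p (j p) with hm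
    set G := f p (j p)
    have hrp : f r (j p) = f p (j r) := S.symm _ _
    have E : Sd f j p (r + (-m) • p) G ((G * f r (j r) - f p (j r) ^ 2) / G) := by
      refine ⟨?_, ?_, rfl, ?_, hp, div_ne_zero hdet hp⟩
      · rw [hf.bilinear.add_right, hf.bilinear.smul_right, hpr, hf.alternating, mul_zero, add_zero]
      · rw [map_add, map_smul, hf.bilinear.add_right, hf.bilinear.smul_right, hm]
        change f p (j r) + -(f p (j r) / G) * G = 0
        field_simp
        ring
      · rw [map_add, map_smul, hf.bilinear.add_left, hf.bilinear.add_right, hf.bilinear.add_right,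
          hf.bilinear.smul_left, hf.bilinear.smul_left, hf.bilinear.smul_right,
          hf.bilinear.smul_right, hrp, hm]
        change f r (j r) + -(f p (j r) / G) * f p (j r) + (-(f p (j r) / G) * f p (j r) +
          -(f p (j r) / G) * (-(f p (j r) / G) * G)) = _
        field_simp
        ring
    rcases E.done_or_scalar S hG (h.change hf E.e12 1 0 m 1 (by module) (by module)) (by
        by_contra hc
        simp only [not_or, not_not] at hc
        obtain ⟨c1, c2, c3⟩ := hc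
        ring_nf at c1 c2 c3
        have hc0 : c = 0 := c3
        subst hc0
        have hb0 : b = 0 := by linear_combination c2
        subst hb0
        rcases h0 with e | e | e <;> [exact e (by linear_combination c1); exact e rfl; exact e rfl])
      with h' | ⟨e1, e2⟩
    · exact Or.inl h'
    refine Or.inr ⟨c / G, ?_, ?_, by field_simp⟩
    · ring_nf at e1
      have hb : b = -(c * m) := by linear_combination e1
      subst hb
      rw [hm] at e2
      field_simp at e2 ⊢
      refine mul_left_cancel₀ (pow_ne_zero 2 hp) ?_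
      linear_combination e2
    · ring_nf at e1
      rw [hm] at e1
      field_simp at e1 ⊢
      linear_combination e1
  by_cases hp : f p (j p) = 0
  swap
  · exact main p r hpr hp hdet a b c h h0
  have hb : f p (j r) ≠ 0 := fun e => hdet (by rw [hp, e]; ring)
  have hrp : f r (j p) = f p (j r) := S.symm _ _
  by_cases hr : f r (j r) = 0
  swap
  · rcases main r p (S.orth hpr) hr (by rw [hrp]; convert hdet using 1; ring) c b a
      (((h.change hf (S.orth hpr) 0 1 1 0 (by module) (by module))).cast (by ring) (by ring) (by ring))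
      (by tauto) with h' | ⟨κ, e1, e2, e3⟩
    · exact Or.inl h'
    · exact Or.inr ⟨κ, e3, by rw [e2, hrp], e1⟩
  have hq : f (p + r) r = 0 := by rw [hf.bilinear.add_left, hpr, hf.alternating, add_zero]
  have g11 : f (p + r) (j (p + r)) = 2 * f p (j r) := by
    rw [map_add, hf.bilinear.add_left, hf.bilinear.add_right, hf.bilinear.add_right, hp, hr, hrp]
    ring
  have g12 : f (p + r) (j r) = f p (j r) := by rw [hf.bilinear.add_left, hr, add_zero]
  rcases main (p + r) r hq (by rw [g11]; exact mul_ne_zero S.two hb)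
    (by rw [g11, g12, hr]; simpa using hb) a (b - a) (a - 2 * b + c)
    ((h.change hf hq 1 (-1) 0 1 (by module) (by module)).cast (by ring) (by ring) (by ring))
    (by
      by_contra hc
      simp only [not_or, not_not] at hc
      obtain ⟨c1, c2, c3⟩ := hc
      have hb0 : b = 0 := by linear_combination c2 + c1
      rcases h0 with e | e | e
      · exact e c1
      · exact e hb0
      · exact e (by linear_combination c3 - c1 + 2 * hb0)) with h' | ⟨κ, e1, e2, e3⟩
  · exact Or.inl h'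
  rw [hr, mul_zero] at e1
  rw [g12] at e2
  rw [g11] at e3
  refine Or.inr ⟨κ, by rw [e1, hr, mul_zero], by linear_combination e2 + e1, ?_⟩
  rw [hp, mul_zero]
  linear_combination e3 + 2 * e2 + e1

/-- A scalar tensor gives everything. -/
theorem Sd.done_of_scalar (S : Sk f j d) (hG : Good f j M) (E : Sd f j e1 e2 s1 s2)
    (h : InR f M e1 e2 s2 0 s1) : isoOf f ≤ M := by
  obtain ⟨a1, a2, a3, a4, a5, a6, a7, a8⟩ := E.gram S
  have hf := S.hf
  have hk : s1 * s2 ≠ 0 := mul_ne_zero E.s1_ne E.s2_ne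
  obtain ⟨α, β, hαβ⟩ := exists_binary S.two hk (d / (s1 * s2))
  have hC : (s1 * s2) * (α ^ 2 * (s1 * s2) + β ^ 2) = d := by
    rw [eq_div_iff hk] at hαβ
    linear_combination hαβ
  obtain ⟨j1, j2, hu⟩ := E.graph S hC
  have hY : InR f M (g1 j e1 e2 s1 s2 α β) (g2 j e1 e2 s1 s2 α β) (-(β * s2)) (α * (s1 * s2))
      (β * s1) := fun l => hG _ (El_mem_isoOf hf _ _ _ _ _) (Or.inl fun x => by
    simp only [El_mulVec hf hu, map_add, map_smul, S.skew, j1, j2, hf.bilinear.add_right,
      hf.bilinear.smul_right]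
    module)
  obtain ⟨c, hc⟩ := exists_avoid_list (insert (0 : F) (Finset.univ.filter fun x : F => x * x = 4 * d))
    (lt_of_le_of_lt (Finset.card_insert_le _ _) (by
      have := card_sqrt_le (4 * d); have := S.five; omega))
  simp only [Finset.mem_insert, Finset.mem_filter, Finset.mem_univ, true_and, not_or] at hc
  set t := -c / (s1 * s2) with ht
  set g := El f e1 e2 (t * s2) (t * 0) (t * s1)
  set u := g1 j e1 e2 s1 s2 α β with hu'
  set v := g2 j e1 e2 s1 s2 α β with hv'
  have gu : (g : Matrix ι ι F) *ᵥ u = u + c • e1 := by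
    simp only [g, hu', g1, El_mulVec hf E.e12, hf.bilinear.add_left, hf.bilinear.smul_left,
      hf.alternating, E.e12, a1, a3, a5, ht]
    have := E.s1_ne
    have := E.s2_ne
    match_scalars <;> field_simp <;> ring
  have gv : (g : Matrix ι ι F) *ᵥ v = v + c • e2 := by
    simp only [g, hv', g2, El_mulVec hf E.e12, hf.bilinear.add_left, hf.bilinear.smul_left,
      hf.alternating, E.e12, a1, a4, a6, ht]
    have := E.s1_ne
    have := E.s2_ne
    match_scalars <;> field_simp <;> ring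
  have hY' := hY.conj hf (h t) (El_mem_isoOf hf _ _ _ _ _)
  rw [gu, gv] at hY'
  have G11 : f (u + c • e1) (j (u + c • e1)) = c * s1 * (c + 2 * (α * (s1 * s2))) := by
    rw [map_add, map_smul, j1]
    simp [hu', hv', g1, g2, hf.bilinear.add_left, hf.bilinear.add_right, hf.bilinear.smul_left,
      hf.bilinear.smul_right, E.e12, E.ej, E.h1, E.h2, a1, a2, a3, a4, a5, a6, a7, a8,
      form_neg_right hf.bilinear, S.neg_left, hf.alternating]
    ring
  have G22 : f (v + c • e2) (j (v + c • e2)) = c * s2 * (c - 2 * (α * (s1 * s2))) := by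
    rw [map_add, map_smul, j2]
    simp [hu', hv', g1, g2, hf.bilinear.add_left, hf.bilinear.add_right, hf.bilinear.smul_left,
      hf.bilinear.smul_right, E.e12, E.ej, E.h1, E.h2, a1, a2, a3, a4, a5, a6, a7, a8,
      form_neg_right hf.bilinear, S.neg_left, hf.alternating]
    ring
  have G12 : f (u + c • e1) (j (v + c • e2)) = 2 * c * β * (s1 * s2) := by
    rw [map_add, map_smul, j2]
    simp [hu', hv', g1, g2, hf.bilinear.add_left, hf.bilinear.add_right, hf.bilinear.smul_left,
      hf.bilinear.smul_right, E.e12, E.ej, E.h1, E.h2, a1, a2, a3, a4, a5, a6, a7, a8,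
      form_neg_right hf.bilinear, S.neg_left, hf.alternating]
    ring
  have hp : f (u + c • e1) (v + c • e2) = 0 := by
    rw [← gu, ← gv, mem_isoOf.1 (El_mem_isoOf hf _ _ _ _ _), hu]
  have hdet : c * s1 * (c + 2 * (α * (s1 * s2))) * (c * s2 * (c - 2 * (α * (s1 * s2))))
      - (2 * c * β * (s1 * s2)) ^ 2 ≠ 0 := by
    rw [show c * s1 * (c + 2 * (α * (s1 * s2))) * (c * s2 * (c - 2 * (α * (s1 * s2))))
      - (2 * c * β * (s1 * s2)) ^ 2
      = c ^ 2 * (s1 * s2) * (c * c - 4 * d) by rw [← hC]; ring]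
    exact mul_ne_zero (mul_ne_zero (pow_ne_zero 2 hc.1) hk) (sub_ne_zero.2 hc.2)
  have hαβ0 : α ≠ 0 ∨ β ≠ 0 := by
    by_contra hcon
    simp only [not_or, not_not] at hcon
    exact S.d_ne (by rw [← hC, hcon.1, hcon.2]; ring)
  rcases S.done_or_scalar hG hp (by rw [G11, G22, G12]; exact hdet) hY' (by
      rcases hαβ0 with h' | h'
      · exact Or.inr (Or.inl (mul_ne_zero h' hk))
      · exact Or.inl (neg_ne_zero.2 (mul_ne_zero h' E.s2_ne))) with h' | ⟨κ, k1, k2, k3⟩
  · exact h'
  exfalso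
  rw [G22] at k1
  rw [G12] at k2
  rw [G11] at k3
  have hκ : κ * (2 * (c * s1 * (c + 2 * (α * (s1 * s2))) * (c * s2 * (c - 2 * (α * (s1 * s2))))
      - (2 * c * β * (s1 * s2)) ^ 2)) = 0 := by
    linear_combination -(c * s1 * (c + 2 * (α * (s1 * s2)))) * k1
      - 2 * (2 * c * β * (s1 * s2)) * k2 - (c * s2 * (c - 2 * (α * (s1 * s2)))) * k3
  rw [(mul_eq_zero.1 hκ).resolve_right (mul_ne_zero S.two hdet)] at k1 k2
  rcases hαβ0 with h' | h'
  · exact mul_ne_zero h' hk (by linear_combination k2)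
  · exact mul_ne_zero h' E.s2_ne (by linear_combination -k1)

end CfsgLib.ClassicalMax.SympFour
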