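/-
The isometries commuting or anticommuting with a skew-adjoint map form a maximal subgroup of a
four-dimensional symplectic group, at least five elements.
-/
import Cfsg.Agent.Lib.ClassicalMax.SympFourLines
set_option autoImplicit false
set_option linter.unusedSectionVars false

namespace CfsgLib.ClassicalMax.SympFour

open Matrix Cfsg.Geo

variable {ι : Type} [Fintype ι] [DecidableEq ι] {F : Type*} [Field F] [Fintype F] [DecidableEq F]
  {f : (ι → F) → (ι → F) → F} {j : (ι → F) →ₗ[F] (ι → F)} {d : F} {M : Subgroup (GL ι F)}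

/-- A line is its own orthogonal. -/
lemma Sk.mem_span_of_orth (S : Sk f j d) {p r : ι → F} (hli : LinearIndependent F ![p, r])
    (hpr : f p r = 0) {x : ι → F} (hp : f p x = 0) (hr : f r x = 0) :
    ∃ a b : F, x = a • p + b • r := by
  have hf := S.hf
  let L : (ι → F) →ₗ[F] (Fin 2 → F) := LinearMap.pi fun i => bilinOf hf.bilinear (![p, r] i)
  have hsurj : LinearMap.range L = ⊤ := LinearMap.range_eq_top.2 fun c => by
    obtain ⟨z, hz⟩ := exists_pairing hf hli c
    exact ⟨z, funext hz⟩
  have h1 := LinearMap.finrank_range_add_finrank_ker L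
  rw [hsurj, finrank_top, Module.finrank_fintype_fun_eq_card, Module.finrank_fintype_fun_eq_card,
    Fintype.card_fin, S.h4] at h1
  have hle : Submodule.span F (Set.range ![p, r]) ≤ LinearMap.ker L := by
    rw [Submodule.span_le]
    rintro _ ⟨i, rfl⟩
    refine funext fun k => ?_
    fin_cases i <;> fin_cases k <;> simp [L, bilinOf_apply, hf.alternating, hpr, S.orth hpr]
  have heq := Submodule.eq_of_le_of_finrank_le hle (by
    rw [finrank_span_eq_card hli, Fintype.card_fin]; omega)
  have hx : x ∈ LinearMap.ker L := funext fun k => by fin_cases k <;> simp [L, bilinOf_apply, hp, hr]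
  rw [← heq, Matrix.range_cons_cons_empty, Submodule.mem_span_pair] at hx
  obtain ⟨a, b, h⟩ := hx
  exact ⟨a, b, h.symm⟩

/-- A tensor on a line through an eigenvector orthogonal to it gives everything. -/
theorem Sk.done_of_eigen (S : Sk f j d) (hG : Good f j M) {p r : ι → F} {ρ : F} (hp0 : p ≠ 0)
    (hp : j p = ρ • p) (hpr : f p r = 0) (hrA : ∀ l : F, r + ρ⁻¹ • j r ≠ l • p) {a b c : F}
    (h : InR f M p r a b c) (hdet : a * c - b ^ 2 ≠ 0) : isoOf f ≤ M := by
  have hf := S.hf
  have hρd : ρ * ρ = d := by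
    have := S.sq p
    rw [hp, map_smul, hp, smul_smul] at this
    exact smul_left_injective F hp0 this
  have hρ0 : ρ ≠ 0 := fun e => S.d_ne (by rw [← hρd, e, mul_zero])
  have hli : LinearIndependent F ![p, r + ρ⁻¹ • j r] :=
    (LinearIndependent.pair_iff' hp0).2 fun l e => hrA l e.symm
  obtain ⟨z, hz⟩ := exists_pairing hf hli ![0, 1]
  have hz0 : f p z = 0 := hz 0
  have hz1 : f (r + ρ⁻¹ • j r) z = 1 := hz 1
  set o := z - ρ⁻¹ • j z with ho
  have hoj : j o = (-ρ) • o := by
    rw [ho, map_sub, map_smul, S.sq, ← hρd]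
    match_scalars <;> field_simp
  have hpo : f p o = 0 := by
    rw [ho, form_sub_right hf.bilinear, hf.bilinear.smul_right, hz0, ← neg_neg (f p (j z)),
      ← S.skew, hp, hf.bilinear.smul_left, hz0]
    ring
  have hro : f r o = 1 := by
    rw [ho, form_sub_right hf.bilinear, hf.bilinear.smul_right, ← neg_neg (f r (j z)), ← S.skew,
      ← hz1, hf.bilinear.add_left, hf.bilinear.smul_left]
    ring
  have key : ∀ κ : F, InR f M p r (a + 2 * b * κ + c * κ ^ 2) (b + c * κ) c := by
    intro κ
    have hc : Comm j (sh f p o κ) := fun x => by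
      simp only [sh_mulVec hf hpo, map_add, map_smul, hp, hoj, S.skew, hf.bilinear.smul_right]
      module
    have h1 := h.conj hf (hG _ (sh_mem_isoOf hf _ _ _) (Or.inl hc)) (sh_mem_isoOf hf _ _ _)
    rw [sh_mulVec hf hpo, sh_mulVec hf hpo, hpo, hf.alternating, hro, S.orth hpr] at h1
    exact (h1.change hf hpr 1 0 κ 1 (by module) (by module)).cast (by ring) (by ring) (by ring)
  have hQ : f p (j p) = 0 := by rw [hp, hf.bilinear.smul_right, hf.alternating, mul_zero]
  refine S.done_of_sing hG hp0 hQ ?_
  by_cases hc : c = 0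
  · subst hc
    have hb : b ≠ 0 := fun e => hdet (by rw [e]; ring)
    refine InR.mem_tvSet hf (mul_ne_zero S.two hb) hpr ((key 1).sub hf hpr h |>.cast ?_ ?_ ?_) <;> ring
  · refine InR.mem_tvSet hf (mul_ne_zero S.two hc) hpr
      ((((key 1).add hf hpr (key (-1))).sub hf hpr (h.add hf hpr h)).cast ?_ ?_ ?_) <;> ring

/-- An image of the commuting tensor that does not commute gives everything. -/
theorem Sk.done_of_conj (S : Sk f j d) (hG : Good f j M) {p r : ι → F}
    (hli : LinearIndependent F ![p, r]) (hpr : f p r = 0) (h : InR f M p r d 0 (-1))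
    (hnc : ¬ Comm j (El f p r d 0 (-1))) : isoOf f ≤ M := by
  have hf := S.hf
  have hrp : f r (j p) = f p (j r) := S.symm _ _
  have hp0 : p ≠ 0 := hli.ne_zero 0
  have hr0 : r ≠ 0 := hli.ne_zero 1
  have hd := S.d_ne
  have hli' := fun s t => LinearIndependent.pair_iff.1 hli s t
  by_cases hdet : f p (j p) * f r (j r) - f p (j r) ^ 2 = 0
  swap
  · -- general position
    obtain ⟨e1, e2, s1, s2, E, α, β, γ, δ, hp, hr⟩ : ∃ (e1 e2 : ι → F) (s1 s2 : F),
        Sd f j e1 e2 s1 s2 ∧ ∃ α β γ δ : F, p = α • e1 + β • e2 ∧ r = γ • e1 + δ • e2 := by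
      have main : ∀ x y : ι → F, f x y = 0 → f x (j x) ≠ 0 →
          f x (j x) * f y (j y) - f x (j y) ^ 2 ≠ 0 →
          Sd f j x (y + (-(f x (j y) / f x (j x))) • x) (f x (j x))
            ((f x (j x) * f y (j y) - f x (j y) ^ 2) / f x (j x)) := by
        intro x y hxy hx hdet
        refine ⟨?_, ?_, rfl, ?_, hx, div_ne_zero hdet hx⟩
        · rw [hf.bilinear.add_right, hf.bilinear.smul_right, hxy, hf.alternating, mul_zero, add_zero]
        · rw [map_add, map_smul, hf.bilinear.add_right, hf.bilinear.smul_right]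
          field_simp
          ring
        · rw [map_add, map_smul, hf.bilinear.add_left, hf.bilinear.add_right, hf.bilinear.add_right,
            hf.bilinear.smul_left, hf.bilinear.smul_left, hf.bilinear.smul_right,
            hf.bilinear.smul_right, S.symm x y]
          field_simp
          ring
      by_cases hp : f p (j p) = 0
      swap
      · exact ⟨_, _, _, _, main p r hpr hp hdet, 1, 0, f p (j r) / f p (j p), 1, by module,
          by module⟩
      have hb : f p (j r) ≠ 0 := fun e => hdet (by rw [hp, e]; ring)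
      by_cases hr : f r (j r) = 0
      swap
      · exact ⟨_, _, _, _, main r p (S.orth hpr) hr (by rw [hrp]; convert hdet using 1; ring),
          f r (j p) / f r (j r), 1, 1, 0, by module, by module⟩
      have g11 : f (p + r) (j (p + r)) = 2 * f p (j r) := by
        rw [map_add, hf.bilinear.add_left, hf.bilinear.add_right, hf.bilinear.add_right, hp, hr, hrp]
        ring
      have g12 : f (p + r) (j r) = f p (j r) := by rw [hf.bilinear.add_left, hr, add_zero]
      refine ⟨_, _, _, _, main (p + r) r (by rw [hf.bilinear.add_left, hpr, hf.alternating, add_zero])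
        (by rw [g11]; exact mul_ne_zero S.two hb) (by rw [g11, g12, hr]; simpa using hb),
        1 - f (p + r) (j r) / f (p + r) (j (p + r)), -1,
        f (p + r) (j r) / f (p + r) (j (p + r)), 1, by module, by module⟩
    have hT := h.change hf E.e12 α β γ δ hp hr
    rcases E.done_or_scalar S hG hT (by
        by_contra hcon
        simp only [not_or, not_not] at hcon
        obtain ⟨c1, c2, c3⟩ := hcon
        have hD : d * (α * δ - β * γ) ^ 2 = 0 := by
          linear_combination
            -(d * β ^ 2 + 2 * 0 * β * δ + -1 * δ ^ 2) * c1 +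
              (d * α * β + 0 * (α * δ + β * γ) + -1 * γ * δ) * c2
        have hD' : α * δ - β * γ = 0 :=
          (pow_eq_zero_iff two_ne_zero).1 ((mul_eq_zero.1 hD).resolve_left hd)
        have q1 : δ • p + (-β) • r = 0 := by
          rw [hp, hr]
          linear_combination (norm := module) congrArg (fun t => t • e1) hD'
        have q2 : γ • p + (-α) • r = 0 := by
          rw [hp, hr]
          linear_combination (norm := module) congrArg (fun t => (-t) • e2) hD'
        obtain ⟨δ0, β0⟩ := hli' _ _ q1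
        obtain ⟨γ0, α0⟩ := hli' _ _ q2
        exact hp0 (by rw [hp, neg_eq_zero.1 α0, neg_eq_zero.1 β0]; module)) with h' | ⟨hb, hac⟩
    · exact h'
    set a' := d * α ^ 2 + 2 * 0 * α * γ + -1 * γ ^ 2
    set b' := d * α * β + 0 * (α * δ + β * γ) + -1 * γ * δ
    set c' := d * β ^ 2 + 2 * 0 * β * δ + -1 * δ ^ 2
    refine E.done_of_scalar S hG ((hT.smul (s1 / c')).cast ?_ (by rw [hb, mul_zero]) ?_)
    all_goals
      have hc' : c' ≠ 0 := by
        intro e
        have ha : a' = 0 := (mul_eq_zero.1 (hac.trans (by rw [e, zero_mul]))).resolve_right E.s1_ne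
        have hD : d * (α * δ - β * γ) ^ 2 = 0 := by linear_combination -c' * ha + b' * hb
        have hD' : α * δ - β * γ = 0 :=
          (pow_eq_zero_iff two_ne_zero).1 ((mul_eq_zero.1 hD).resolve_left hd)
        have q1 : δ • p + (-β) • r = 0 := by
          rw [hp, hr]
          linear_combination (norm := module) congrArg (fun t => t • e1) hD'
        have q2 : γ • p + (-α) • r = 0 := by
          rw [hp, hr]
          linear_combination (norm := module) congrArg (fun t => (-t) • e2) hD'
        obtain ⟨δ0, β0⟩ := hli' _ _ q1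
        obtain ⟨γ0, α0⟩ := hli' _ _ q2
        exact hp0 (by rw [hp, neg_eq_zero.1 α0, neg_eq_zero.1 β0]; module)
      field_simp
    linear_combination hac
  -- a radical vector
  by_cases hr : f r (j r) = 0
  · have hb : f p (j r) = 0 := by simpa [hr] using hdet
    by_cases hp : f p (j p) = 0
    swap
    · -- the second vector is an eigenvector
      obtain ⟨a, b, hab⟩ := S.mem_span_of_orth hli hpr (x := j r) hb hr
      have h0 : f p (j (j r)) = 0 := by rw [S.sq, hf.bilinear.smul_right, hpr, mul_zero]
      rw [hab, map_add, map_smul, map_smul, hf.bilinear.add_right, hf.bilinear.smul_right,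
        hf.bilinear.smul_right, hb, mul_zero, add_zero, mul_eq_zero, or_iff_left hp] at h0
      rw [h0, zero_smul, zero_add] at hab
      have hb0 : b ≠ 0 := fun e => hd (by
        have := S.sq r
        rw [hab, e, zero_smul, map_zero, eq_comm, smul_eq_zero, or_iff_left hr0] at this
        exact this)
      refine S.done_of_eigen hG hr0 hab (S.orth hpr) (fun l e => hp ?_)
        ((h.change hf (S.orth hpr) 0 1 1 0 (by module) (by module)).cast
          (a' := -1) (b' := 0) (c' := d) (by ring) (by ring) (by ring)) (by simpa using hd)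
      have := congrArg (fun v => f p v) e
      simp only [hf.bilinear.add_right, hf.bilinear.smul_right, hpr, hf.alternating, zero_add,
        mul_zero] at this
      exact (mul_eq_zero.1 this).resolve_left (inv_ne_zero hb0)
    -- the line is invariant
    obtain ⟨a1, b1, h1⟩ := S.mem_span_of_orth hli hpr (x := j p) hp (by rw [hrp, hb])
    obtain ⟨a2, b2, h2⟩ := S.mem_span_of_orth hli hpr (x := j r) hb hr
    have hQ : ∀ α β : F, f (α • p + β • r) (j (α • p + β • r)) = 0 := fun α β => by
      simp [map_add, map_smul, hf.bilinear.add_left, hf.bilinear.add_right, hf.bilinear.smul_left,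
        hf.bilinear.smul_right, hp, hr, hb, hrp]
    by_cases hb1 : b1 = 0
    swap
    · refine S.done_of_line hG (s := p) ?_ hp 1 0 (-a1 / b1) (1 / b1) (by module) ?_ h hnc
      · intro l e
        exact hb1 (hli' (a1 - l) b1 (by rw [h1] at e; linear_combination (norm := module) e)).2
      · rw [h1]; match_scalars <;> field_simp <;> ring
    by_cases ha2 : a2 = 0
    swap
    · refine S.done_of_line hG (s := r) ?_ hr (-b2 / a2) (1 / a2) 1 0 ?_ (by module) h hnc
      · intro l e
        exact ha2 (hli' a2 (b2 - l) (by rw [h2] at e; linear_combination (norm := module) e)).1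
      · rw [h2]; match_scalars <;> field_simp <;> ring
    rw [hb1, zero_smul, add_zero] at h1
    rw [ha2, zero_smul, zero_add] at h2
    by_cases hab : a1 = b2
    swap
    · have hne : a1 - b2 ≠ 0 := sub_ne_zero.2 hab
      refine S.done_of_line hG (s := p + r) ?_ (by simpa using hQ 1 1) (-b2 / (a1 - b2))
        (1 / (a1 - b2)) (a1 / (a1 - b2)) (-1 / (a1 - b2)) ?_ ?_ h hnc
      · intro l e
        obtain ⟨e1, e2⟩ := hli' (a1 - l) (b2 - l)
          (by rw [map_add, h1, h2] at e; linear_combination (norm := module) e)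
        exact hne (by linear_combination e1 - e2)
      · rw [map_add, h1, h2]; match_scalars <;> field_simp <;> ring
      · rw [map_add, h1, h2]; match_scalars <;> field_simp <;> ring
    subst hab
    have ha0 : a1 ≠ 0 := fun e => hd (by
      have := S.sq p
      rw [h1, e, zero_smul, map_zero, eq_comm, smul_eq_zero, or_iff_left hp0] at this
      exact this)
    refine S.done_of_eigen hG hp0 h1 hpr (fun l e => ?_) h (by simpa using hd)
    rw [h2, smul_smul, inv_mul_cancel₀ ha0, one_smul] at e
    exact S.two (hli' (-l) 2 (by linear_combination (norm := module) e)).2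
  -- the radical of a form of rank one
  obtain ⟨q, hq⟩ : ∃ q, q = f r (j r) • p + (-(f p (j r))) • r := ⟨_, rfl⟩
  have hq0 : q ≠ 0 := fun e => hr (hli' _ _ (hq ▸ e)).1
  have hqr : f q r = 0 := by
    rw [hq, hf.bilinear.add_left, hf.bilinear.smul_left, hf.bilinear.smul_left, hpr, hf.alternating]
    ring
  have hq1 : f p (j q) = 0 := by
    rw [hq, map_add, map_smul, map_smul, hf.bilinear.add_right, hf.bilinear.smul_right,
      hf.bilinear.smul_right]
    linear_combination hdet
  have hq2 : f r (j q) = 0 := by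
    rw [hq, map_add, map_smul, map_smul, hf.bilinear.add_right, hf.bilinear.smul_right,
      hf.bilinear.smul_right, hrp]
    ring
  obtain ⟨a', b', hab'⟩ := S.mem_span_of_orth hli hpr hq1 hq2
  obtain ⟨a, b, hab⟩ : ∃ a b : F, j q = a • q + b • r := by
    refine ⟨a' / f r (j r), b' + a' * f p (j r) / f r (j r), ?_⟩
    rw [hab', hq]
    match_scalars <;> field_simp <;> ring
  have hb0 : b = 0 := by
    have h0 : f r (j (j q)) = 0 := by
      rw [S.sq, hf.bilinear.smul_right, S.orth hqr, mul_zero]
    rw [hab, map_add, map_smul, map_smul, hf.bilinear.add_right, hf.bilinear.smul_right,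
      hf.bilinear.smul_right, hq2, mul_zero, zero_add] at h0
    exact (mul_eq_zero.1 h0).resolve_right hr
  rw [hb0, zero_smul, add_zero] at hab
  have ha0 : a ≠ 0 := fun e => hd (by
    have := S.sq q
    rw [hab, e, zero_smul, map_zero, eq_comm, smul_eq_zero, or_iff_left hq0] at this
    exact this)
  refine S.done_of_eigen hG hq0 hab hqr (fun l e => hr ?_)
    (h.change hf hqr (1 / f r (j r)) (f p (j r) / f r (j r)) 0 1
      (by rw [hq]; match_scalars <;> field_simp <;> ring) (by module)) ?_
  · have := congrArg (fun v => f r v) e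
    simp only [hf.bilinear.add_right, hf.bilinear.smul_right, hf.alternating, zero_add,
      S.orth hqr, mul_zero] at this
    exact (mul_eq_zero.1 this).resolve_left (inv_ne_zero ha0)
  · rw [show (d * (1 / f r (j r)) ^ 2 + 2 * 0 * (1 / f r (j r)) * 0 + -1 * 0 ^ 2) *
        (d * (f p (j r) / f r (j r)) ^ 2 + 2 * 0 * (f p (j r) / f r (j r)) * 1 + -1 * 1 ^ 2) -
        (d * (1 / f r (j r)) * (f p (j r) / f r (j r)) +
          0 * (1 / f r (j r) * 1 + f p (j r) / f r (j r) * 0) + -1 * 0 * 1) ^ 2
      = -(d * (1 / f r (j r)) ^ 2) by ring]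
    exact neg_ne_zero.2 (mul_ne_zero hd (pow_ne_zero 2 (one_div_ne_zero hr)))

/-- A singular vector that is not an eigenvector exists. -/
lemma Sk.exists_regulus (S : Sk f j d) : ∃ u, NE j u ∧ f u (j u) = 0 := by
  have hf := S.hf
  have hex : ∀ P : (ι → F) → Prop, (∀ x y, P x → P y → P (x + y)) →
      (∀ x, P x → f x (j x) = 0) → ∀ x y, P x → P y → f x (j y) = 0 := by
    intro P hadd hz x y hx hy
    have h := hz _ (hadd x y hx hy)
    rw [map_add, hf.bilinear.add_left, hf.bilinear.add_right, hf.bilinear.add_right, hz x hx,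
      hz y hy, S.symm x y] at h
    exact (mul_eq_zero.1 (show 2 * f x (j y) = 0 by linear_combination h)).resolve_left S.two
  obtain ⟨x, hx⟩ : ∃ x, f x (j x) ≠ 0 := by
    by_contra hcon
    push Not at hcon
    obtain ⟨i⟩ : Nonempty ι := Fintype.card_pos_iff.1 (by rw [S.h4]; omega)
    have hv : (Pi.single i 1 : ι → F) ≠ 0 := fun h =>
      one_ne_zero (α := F) (by simpa using congrFun h i)
    obtain ⟨y, hy⟩ := (hf.nondegenerate _ hv).1
    have h0 := hex (fun _ => True) (fun _ _ _ _ => trivial) (fun z _ => hcon z) y (j (Pi.single i 1))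
      trivial trivial
    rw [S.sq, hf.bilinear.smul_right] at h0
    exact hy ((mul_eq_zero.1 h0).resolve_left S.d_ne)
  set ρ := f x (j x) with hρ
  have hjx : f (j x) x = -ρ := by rw [hf.skew]
  have hjxjx : f (j x) (j x) = 0 := hf.alternating _
  obtain ⟨s, hs, hsx, hsjx⟩ : ∃ s, f s (j s) ≠ 0 ∧ f s x = 0 ∧ f s (j x) = 0 := by
    by_contra hcon
    push Not at hcon
    have hP : ∀ z, f z x = 0 → f z (j x) = 0 → z = 0 := by
      intro z h1 h2
      refine eq_zero_of_form_left hf.nondegenerate fun y => ?_
      obtain ⟨y', hy'⟩ : ∃ y', j y' = y := ⟨d⁻¹ • j y, by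
        rw [map_smul, S.sq, smul_smul, inv_mul_cancel₀ S.d_ne, one_smul]⟩
      rw [← hy']
      set α := f y' (j x) / ρ
      set β := f y' x / ρ
      have e1 : f (y' - α • x + β • j x) x = 0 := by
        simp only [hf.bilinear.add_left, form_sub_left hf.bilinear, hf.bilinear.smul_left,
          hf.alternating, hjx, β]
        field_simp
        ring
      have e2 : f (y' - α • x + β • j x) (j x) = 0 := by
        simp only [hf.bilinear.add_left, form_sub_left hf.bilinear, hf.bilinear.smul_left,
          hf.alternating, ← hρ, α]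
        field_simp
        ring
      have h3 := hex (fun z => f z x = 0 ∧ f z (j x) = 0)
        (fun a b ha hb => ⟨by rw [hf.bilinear.add_left, ha.1, hb.1, add_zero],
          by rw [hf.bilinear.add_left, ha.2, hb.2, add_zero]⟩)
        (fun z hz => by_contra fun h => hcon z h hz.1 hz.2) z _ ⟨h1, h2⟩ ⟨e1, e2⟩
      simp only [map_add, map_sub, map_smul, S.sq, hf.bilinear.add_right,
        form_sub_right hf.bilinear, hf.bilinear.smul_right, h1, h2] at h3
      simpa using h3
    let L : (ι → F) →ₗ[F] (Fin 2 → F) := LinearMap.pi fun i => (bilinOf hf.bilinear).flip (![x, j x] i)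
    have hinj : Function.Injective L := by
      rw [injective_iff_map_eq_zero]
      intro z hz
      exact hP z (by simpa [L, bilinOf_apply] using congrFun hz 0)
        (by simpa [L, bilinOf_apply] using congrFun hz 1)
    have := LinearMap.finrank_le_finrank_of_injective hinj
    rw [Module.finrank_fintype_fun_eq_card, Module.finrank_fintype_fun_eq_card, Fintype.card_fin,
      S.h4] at this
    omega
  obtain ⟨b, a, hab⟩ := exists_binary S.two (neg_ne_zero.2 S.d_ne) (-ρ / f s (j s))
  set s' := a • s + b • j s with hs'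
  have s1 : f s' x = 0 := by
    rw [hs', hf.bilinear.add_left, hf.bilinear.smul_left, hf.bilinear.smul_left, S.skew, hsx, hsjx]
    ring
  have s2 : f s' (j x) = 0 := by
    rw [hs', hf.bilinear.add_left, hf.bilinear.smul_left, hf.bilinear.smul_left, S.ff, hsx, hsjx]
    ring
  have sQ : f s' (j s') = -ρ := by
    simp [hs', map_add, map_smul, S.sq, S.ff, hf.bilinear.add_left, hf.bilinear.add_right,
      hf.bilinear.smul_left, hf.bilinear.smul_right, hf.alternating, S.skew]
    field_simp at hab
    linear_combination hab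
  have x2 : f x (j s') = 0 := by rw [← S.symm, s2]
  refine ⟨x + s', fun l e => hx ?_, ?_⟩
  · have h := congrArg (fun v => f v x) e
    simp only [map_add, hf.bilinear.add_left, hf.bilinear.smul_left, hjx, hf.alternating, s1,
      mul_zero, add_zero, S.skew, S.symm x s', x2, neg_zero] at h
    linear_combination -h
  · rw [map_add, hf.bilinear.add_left, hf.bilinear.add_right, hf.bilinear.add_right, ← hρ, x2, s2,
      sQ]
    ring

/-- The isometries commuting or anticommuting with `j` form a maximal subgroup. -/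
theorem Sk.maximal (S : Sk f j d) {H : Subgroup (GL ι F)}
    (hH : ∀ h : GL ι F, h ∈ H ↔ h ∈ isoOf f ∧ (Comm j h ∨ Anti j h)) :
    IsMaximalIn (isoOf f) H := by
  have hf := S.hf
  obtain ⟨u, hu, hQ⟩ := S.exists_regulus
  obtain ⟨w, hF⟩ := S.exists_HF hu hQ
  obtain ⟨a1, a2, a3, a4, a5, a6, a7, a8⟩ := hF.gram S
  have hw : NE j w := S.ne_of_li (by rw [hF.uw]; exact one_ne_zero) hF.ujw
  have hli := hF.li S
  refine isMaximalIn_of (fun h hh => ((hH h).1 hh).1) ?_ ?_
  · refine ⟨sTv f u 1, sTv_mem_isoOf hf _ _, fun h => ?_⟩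
    have e : (sTv f u 1 : Matrix ι ι F) *ᵥ j w = j w := by
      rw [sTv_mulVec hf, a8, mul_zero, zero_smul, add_zero]
    rcases ((hH _).1 h).2 with hc | hc <;> have h1 := hc w <;>
      rw [e, sTv_mulVec hf, a1, map_add, map_smul] at h1
    · exact (hu.map S).ne_zero (by linear_combination (norm := module) h1)
    · have h2 := congrArg (fun v => f v u) h1
      simp only [← neg_one_smul F (j w + (1 * -1 : F) • j u), hf.bilinear.smul_left,
        hf.bilinear.add_left] at h2
      have h3 := congrArg (fun v => f v (j u)) h1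
      simp only [← neg_one_smul F (j w + (1 * -1 : F) • j u), hf.bilinear.smul_left,
        hf.bilinear.add_left, a5, hf.alternating] at h3
      exact mul_ne_zero S.two S.d_ne (by linear_combination h3)
  intro M hHM hMK g hgM hgH
  have hG : Good f j M := fun h hh hc => hHM ((hH h).2 ⟨hh, hc⟩)
  have hgi := hMK hgM
  have hE : ∀ z, f z (j z) = 0 → InR f M z (j z) d 0 (-1) := fun z hz t =>
    hG _ (El_mem_isoOf hf _ _ _ _ _) (Or.inl fun x => by
      simp only [El_mulVec hf hz, mul_zero, zero_mul, add_zero, zero_add, map_add, map_smul, S.sq,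
        S.ff, S.skew, hf.bilinear.smul_right, hf.bilinear.smul_left]
      module)
  have hcase : ∀ z, NE j z → f z (j z) = 0 →
      Comm j (El f ((g : Matrix ι ι F) *ᵥ z) ((g : Matrix ι ι F) *ᵥ j z) d 0 (-1)) ∨ isoOf f ≤ M := by
    intro z hz hzQ
    by_contra hcon
    push Not at hcon
    refine hcon.2 (S.done_of_conj hG ?_ ((hgi z (j z)).trans hzQ)
      ((hE z hzQ).conj hf hgM hgi) hcon.1)
    rw [LinearIndependent.pair_iff]
    intro s t h
    refine LinearIndependent.pair_iff.1 hz.li s t (gl_mulVec_injective g ?_)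
    dsimp only
    rw [mulVec_add, mulVec_smul, mulVec_smul, mulVec_zero]
    exact h
  rcases hcase u hu hQ with hcu | h
  swap
  · exact h
  rcases hcase w hw hF.wjw with hcw | h
  swap
  · exact h
  exfalso
  -- the conjugate map
  let J : (ι → F) →ₗ[F] (ι → F) := (Matrix.toLin' ((g⁻¹ : GL ι F) : Matrix ι ι F)).comp
    (j.comp (Matrix.toLin' (g : Matrix ι ι F)))
  have hJ : ∀ x, (g : Matrix ι ι F) *ᵥ J x = j ((g : Matrix ι ι F) *ᵥ x) := fun x => by
    simp [J]
  have hJs : ∀ x y, f (J x) y = -f x (J y) := fun x y => by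
    rw [← mem_isoOf.1 hgi (J x) y, ← mem_isoOf.1 hgi x (J y), hJ, hJ, S.skew]
  have hJ2 : ∀ x, J (J x) = d • x := fun x => gl_mulVec_injective g (by
    dsimp only
    rw [hJ, hJ, S.sq, mulVec_smul])
  have hfix : ∀ z, f z (j z) = 0 →
      Comm j (El f ((g : Matrix ι ι F) *ᵥ z) ((g : Matrix ι ι F) *ᵥ j z) d 0 (-1)) → ∀ x,
      (El f z (j z) d 0 (-1) : Matrix ι ι F) *ᵥ J x
        = J ((El f z (j z) d 0 (-1) : Matrix ι ι F) *ᵥ x) := by
    intro z hz hc x
    apply gl_mulVec_injective g
    have e : ∀ y, (g : Matrix ι ι F) *ᵥ ((El f z (j z) d 0 (-1) : Matrix ι ι F) *ᵥ y)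
        = (El f ((g : Matrix ι ι F) *ᵥ z) ((g : Matrix ι ι F) *ᵥ j z) d 0 (-1) : Matrix ι ι F) *ᵥ
          ((g : Matrix ι ι F) *ᵥ y) := fun y => by
      rw [← El_conj hf hgi, gl_mulVec_mul, gl_mulVec_mul, gl_inv_mulVec_mulVec]
    dsimp only
    rw [e, hJ, hJ, e, hc]
  have hexp : ∀ x, ∃ t : Fin 4 → F, x = t 0 • u + t 1 • j u + t 2 • w + t 3 • j w := by
    intro x
    have htop : Submodule.span F (Set.range ![u, j u, w, j w]) = ⊤ :=
      hli.span_eq_top_of_card_eq_finrank (by rw [Module.finrank_fintype_fun_eq_card, S.h4]; rfl)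
    obtain ⟨t, ht⟩ := (Submodule.mem_span_range_iff_exists_fun F).1
      (htop ▸ Submodule.mem_top : x ∈ Submodule.span F (Set.range ![u, j u, w, j w]))
    exact ⟨t, by rw [← ht, Fin.sum_univ_four]; simp⟩
  have hinu := fun x => hfix u hQ hcu x
  have hinw := fun x => hfix w hF.wjw hcw x
  simp only [El_mulVec hf hQ, El_mulVec hf hF.wjw, zero_mul, mul_zero, add_zero, zero_add]
    at hinu hinw
  have huli := fun s t => LinearIndependent.pair_iff.1 hu.li s t
  have hwli := fun s t => LinearIndependent.pair_iff.1 hw.li s t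
  have hd := S.d_ne
  -- images of the four basis vectors
  have hU : ∀ x, f x u = 0 → f x (j u) = 0 → ∃ a b : F, J x = a • u + b • j u := by
    intro x e1 e2
    obtain ⟨t, ht⟩ := hexp (J x)
    have h0 := hinu x
    rw [e1, e2, mul_zero, mul_zero, zero_smul, zero_smul, add_zero, add_zero, add_assoc,
      add_eq_left] at h0
    obtain ⟨h1, h2⟩ := huli _ _ h0
    rw [ht] at h1 h2
    simp [hf.bilinear.add_left, hf.bilinear.smul_left, hf.alternating, a1, a6, a8, hd] at h1
    simp [hf.bilinear.add_left, hf.bilinear.smul_left, hf.alternating, hQ, a3, a5, hd] at h2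
    exact ⟨t 0, t 1, by rw [ht, h1, h2]; module⟩
  have hW : ∀ x, f x w = 0 → f x (j w) = 0 → ∃ a b : F, J x = a • w + b • j w := by
    intro x e1 e2
    obtain ⟨t, ht⟩ := hexp (J x)
    have h0 := hinw x
    rw [e1, e2, mul_zero, mul_zero, zero_smul, zero_smul, add_zero, add_zero, add_assoc,
      add_eq_left] at h0
    obtain ⟨h1, h2⟩ := hwli _ _ h0
    rw [ht] at h1 h2
    simp [hf.bilinear.add_left, hf.bilinear.smul_left, hf.alternating, hF.uw, a2, a7, hd] at h1
    simp [hf.bilinear.add_left, hf.bilinear.smul_left, hf.alternating, hF.ujw, hF.wjw, a4, hd] at h2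
    exact ⟨t 2, t 3, by rw [ht, h1, h2]; module⟩
  obtain ⟨p1, q1, hX⟩ := hU u (hf.alternating u) hQ
  obtain ⟨p2, q2, hY⟩ := hU (j u) a6 (hf.alternating _)
  obtain ⟨r1, t1, hZ⟩ := hW w (hf.alternating w) hF.wjw
  obtain ⟨r2, t2, hZ'⟩ := hW (j w) a7 (hf.alternating _)
  obtain ⟨k1, k2⟩ : r1 = p1 ∧ t1 = q1 := by
    have h0 := hinu w
    rw [hZ, map_add, map_add, map_smul, map_smul, hX, hY, hZ] at h0
    simp only [hf.bilinear.add_left, hf.bilinear.smul_left, a1, a3, a5, a8] at h0
    obtain ⟨h1, h2⟩ := huli (d * (p1 - r1)) (d * (q1 - t1))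
      (by linear_combination (norm := module) h0)
    exact ⟨(sub_eq_zero.1 ((mul_eq_zero.1 h1).resolve_left hd)).symm,
      (sub_eq_zero.1 ((mul_eq_zero.1 h2).resolve_left hd)).symm⟩
  obtain ⟨k3, k4⟩ : r2 = p2 ∧ t2 = q2 := by
    have h0 := hinu (j w)
    rw [hZ', map_add, map_add, map_smul, map_smul, hX, hY, hZ'] at h0
    simp only [hf.bilinear.add_left, hf.bilinear.smul_left, a1, a3, a5, a8] at h0
    obtain ⟨h1, h2⟩ := huli (d * (p2 - r2)) (d * (q2 - t2))
      (by linear_combination (norm := module) h0)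
    exact ⟨(sub_eq_zero.1 ((mul_eq_zero.1 h1).resolve_left hd)).symm,
      (sub_eq_zero.1 ((mul_eq_zero.1 h2).resolve_left hd)).symm⟩
  subst k1 k2 k3 k4
  have s1 := hJs u w
  have s2 := hJs (j u) (j w)
  have s3 := hJs u (j w)
  rw [hX, hZ] at s1
  rw [hY, hZ'] at s2
  rw [hX, hZ'] at s3
  simp [hf.bilinear.add_left, hf.bilinear.add_right, hf.bilinear.smul_left, hf.bilinear.smul_right,
    hF.uw, hF.ujw, a2, a4] at s1 s2 s3
  have hp1 : r1 = 0 := (mul_eq_zero.1 (show 2 * r1 = 0 by linear_combination s1)).resolve_left S.two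
  have hq2 : t2 = 0 := (mul_eq_zero.1 (show (2 * d) * t2 = 0 by linear_combination -s2)).resolve_left
    (mul_ne_zero S.two hd)
  subst hp1 hq2
  have hp2 : r2 = d * t1 := by linear_combination -s3
  subst hp2
  have hμ : t1 * t1 = 1 := by
    have h0 := hJ2 u
    rw [hX, map_add, map_smul, map_smul, hX, hY] at h0
    have h1 := (huli (t1 * (d * t1) - d) 0 (by linear_combination (norm := module) h0)).1
    exact mul_left_cancel₀ hd (by linear_combination h1)
  have hJj : J = t1 • j := ext_of_frame S.h4 hli fun i => by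
    fin_cases i <;> simp [hX, hY, hZ, hZ', S.sq, smul_smul] <;> module
  refine hgH ((hH g).2 ⟨hgi, ?_⟩)
  rcases mul_self_eq_one_iff.1 hμ with e | e <;> [left; right] <;> intro x <;>
    have h0 := hJ x <;> rw [hJj, e, LinearMap.smul_apply, mulVec_smul] at h0
  · rw [← h0, one_smul]
  · rw [← h0]; module

end CfsgLib.ClassicalMax.SympFour
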