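/-
The normaliser of a unitary structure is maximal in a symplectic group, odd characteristic.

The structure is given by a skew-adjoint map `J` whose square is a non-square scalar. The vectors
`u` with `f u (J u) = 0` are the singular ones of a quadratic form; the group commuting with `J`
contains the products `sTv u (c d) * sTv (J u) (-c)`; the proof works in all dimensions at least
six, also when the Witt index is one.
-/
import Cfsg.Agent.Lib.ClassicalMax.SympShort
import Cfsg.Agent.Lib.ClassicalMax.QuadSim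
set_option autoImplicit false

namespace CfsgLib.ClassicalMax.SympUnitary

open Matrix Cfsg.Geo QuadraticMap
open CfsgLib.Classical.Quad (NDPolar)
open CfsgLib.ClassicalMax.QuadSim (exists_singular_avoid exists_dual_vec perp_le_of_singular
  finrank_span_two_le)

variable {ι : Type} [Fintype ι] [DecidableEq ι] {F : Type*} [Field F]

/-- The singular vectors generate the orthogonal of a small non-degenerate subspace. -/
lemma perp_le_of_singular_nondeg [Fintype F] {Q : QuadraticForm F (ι → F)} (hnd : NDPolar Q)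
    (h2 : (2 : F) ≠ 0) {D : Submodule F (ι → F)} (hdim : Module.finrank F D + 3 ≤ Fintype.card ι)
    (hD : ∀ v ∈ D, (∀ d ∈ D, polar Q v d = 0) → v = 0) (S : AddSubgroup (ι → F))
    (hS : ∀ x, Q x = 0 → (∀ d ∈ D, polar Q x d = 0) → x ∈ S) {x : ι → F}
    (hx : ∀ d ∈ D, polar Q x d = 0) : x ∈ S := by
  obtain ⟨v, hQv, hv0, hv⟩ := exists_singular_avoid (Q := Q) h2 D ⊥ (by rw [finrank_bot]; omega)
  rw [Submodule.mem_bot] at hv0
  obtain ⟨y, hvy, hy⟩ := exists_dual_vec hnd (fun h => hv0 (hD v h hv))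
  set z := y + (-(Q y)) • v with hz
  have hQz : Q z = 0 := by rw [hz, Classical.Quad.Q_comb1, hQv, polar_comm Q y v, hvy]; ring
  have hvz : polar Q v z = 1 := by
    rw [hz, polar_add_right, polar_smul_right, Classical.Quad.polar_singular_self hQv, hvy]; simp
  have hzD : ∀ d ∈ D, polar Q z d = 0 := fun d hd => by
    rw [hz, polar_add_left, polar_smul_left, hv d hd, polar_comm, hy d hd]; simp
  set t := 1 - polar Q v x with ht
  set x₁ := x + t • z with hx₁
  have e1 : polar Q v x₁ = 1 := by
    rw [hx₁, polar_add_right, polar_smul_right, hvz, ht, smul_eq_mul]; ring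
  have hx₁D : ∀ d ∈ D, polar Q x₁ d = 0 := fun d hd => by
    rw [hx₁, polar_add_left, polar_smul_left, hx d hd, hzD d hd]; simp
  clear_value x₁ z
  have m1 := hS (x₁ + (-(Q x₁)) • v) (by rw [Classical.Quad.Q_comb1, hQv, polar_comm Q x₁ v, e1]; ring)
    fun d hd => by rw [polar_add_left, polar_smul_left, hx₁D d hd, hv d hd]; simp
  have m2 := hS (Q x₁ • v) (by rw [QuadraticMap.map_smul, hQv, smul_zero])
    fun d hd => by rw [polar_smul_left, hv d hd, smul_zero]
  have m3 := hS (t • z) (by rw [QuadraticMap.map_smul, hQz, smul_zero])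
    fun d hd => by rw [polar_smul_left, hzD d hd, smul_zero]
  have h := S.sub_mem (S.add_mem m1 m2) m3
  rwa [show x₁ + -Q x₁ • v + Q x₁ • v - t • z = x by rw [hx₁]; module] at h

/-- An element conjugating a subalgebra into itself normalises it. -/
lemma mem_normalizer_of {K : Subalgebra F (Matrix ι ι F)} {g : GL ι F}
    (h : ∀ k ∈ K, (g : Matrix ι ι F) * k * ((g⁻¹ : GL ι F) : Matrix ι ι F) ∈ K) :
    g ∈ subalgebraNormalizer K := by
  have hc : ∀ x : Matrix ι ι F, ((g⁻¹ : GL ι F) : Matrix ι ι F) *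
      ((g : Matrix ι ι F) * x * ((g⁻¹ : GL ι F) : Matrix ι ι F)) * (g : Matrix ι ι F) = x := fun x => by
    rw [← mul_assoc, ← mul_assoc, ← Units.val_mul, inv_mul_cancel, Units.val_one, one_mul,
      mul_assoc, ← Units.val_mul, inv_mul_cancel, Units.val_one, mul_one]
  let L : K →ₗ[F] K :=
    { toFun := fun x => ⟨(g : Matrix ι ι F) * x * ((g⁻¹ : GL ι F) : Matrix ι ι F), h x x.2⟩
      map_add' := fun x y => Subtype.ext (by simp [mul_add, add_mul])
      map_smul' := fun c x => Subtype.ext (by simp) }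
  have hinj : Function.Injective L := fun x y e => Subtype.ext (by
    have e' := congrArg Subtype.val e
    simp only [L, LinearMap.coe_mk, AddHom.coe_mk] at e'
    rw [← hc x, e', hc])
  haveI : FiniteDimensional F K := FiniteDimensional.of_injective K.val.toLinearMap Subtype.val_injective
  intro k
  refine ⟨h k, fun hk => ?_⟩
  obtain ⟨x, hx⟩ := LinearMap.surjective_of_injective hinj ⟨_, hk⟩
  have e' := congrArg Subtype.val hx
  simp only [L, LinearMap.coe_mk, AddHom.coe_mk] at e'
  rw [← hc k, ← e', hc]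
  exact x.2

variable [DecidableEq F] {f : (ι → F) → (ι → F) → F}

lemma sTv_commute (hf : IsSymplecticForm f) {u v : ι → F} (h : f u v = 0) (a b : F) :
    Commute (sTv f u a) (sTv f v b) := by
  refine gl_ext_mulVec fun x => ?_
  simp only [gl_mulVec_mul, sTv_mulVec hf, hf.bilinear.add_left, hf.bilinear.smul_left, h,
    (form_symplectic_eq_zero_comm hf).1 h]
  module

/-- The braid relation of two transvections. -/
lemma sTv_braid (hf : IsSymplecticForm f) {a b : ι → F} {c e : F} (h : c * e * f a b ^ 2 = 1) :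
    sTv f a c * sTv f b e * sTv f a c = sTv f b e * sTv f a c * sTv f b e := by
  have hm : ((sTv f a c * sTv f b e : GL ι F) : Matrix ι ι F) *ᵥ a = (e * f a b) • b := by
    simp only [gl_mulVec_mul, sTv_mulVec hf, hf.bilinear.add_left, hf.bilinear.smul_left,
      hf.alternating, hf.skew b a]
    linear_combination (norm := module) congrArg (fun r => -(r • a)) h
  have h' := sTv_conj hf (mul_mem (sTv_mem_isoOf hf a c) (sTv_mem_isoOf hf b e)) a c
  rw [hm, sTv_smul_vec hf, show (e * f a b) ^ 2 * c = e by linear_combination e * h] at h'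
  calc sTv f a c * sTv f b e * sTv f a c = sTv f b e * (sTv f a c * sTv f b e) :=
        mul_inv_eq_iff_eq_mul.1 h'
    _ = _ := (mul_assoc _ _ _).symm

omit [DecidableEq F] in
lemma braid_quot {G : Type*} [Group G] {A L R Z : G} (hAL : Commute A L) (hAR : Commute A R)
    (hAZ : Commute A Z) (hLZ : Commute L Z) (hRZ : Commute R Z) (hb : L * R * L = R * L * R) :
    A * L * (R * Z) * (A * L) * (R * Z * (A * L) * (R * Z))⁻¹ = A * Z⁻¹ := by
  have e1 : A * L * (R * Z) * (A * L) = A * (A * Z) * (L * R * L) := by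
    have : Commute (A * Z) L := hAL.mul_left hLZ.symm
    have c2 : Commute (A * Z) R := hAR.mul_left hRZ.symm
    calc A * L * (R * Z) * (A * L) = A * (L * R * (Z * A)) * L := by simp only [mul_assoc]
      _ = A * (L * R * (A * Z)) * L := by rw [hAZ.eq]
      _ = A * (A * Z * (L * R)) * L := by rw [(this.mul_right c2).eq]
      _ = _ := by simp only [mul_assoc]
  have e2 : R * Z * (A * L) * (R * Z) = Z * (A * Z) * (R * L * R) := by
    have c1 : Commute (A * Z) L := hAL.mul_left hLZ.symm
    have c2 : Commute (A * Z) R := hAR.mul_left hRZ.symm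
    calc R * Z * (A * L) * (R * Z) = (R * Z) * A * L * (Z * R) := by
          rw [← hRZ.eq]; simp only [mul_assoc]
      _ = Z * R * A * (L * Z) * R := by rw [hRZ.eq]; simp only [mul_assoc]
      _ = Z * R * A * (Z * L) * R := by rw [hLZ.eq]
      _ = Z * (R * (A * Z)) * (L * R) := by simp only [mul_assoc]
      _ = Z * (A * Z * R) * (L * R) := by rw [c2.eq]
      _ = _ := by simp only [mul_assoc]
  rw [e1, e2, hb, _root_.mul_inv_rev, _root_.mul_inv_rev, _root_.mul_inv_rev]
  group

set_option maxHeartbeats 4000000 in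
theorem unitary_normalizer_maximal [Fintype F] (hf : IsSymplecticForm f)
    (hn : 6 ≤ Fintype.card ι) (h2 : (2 : F) ≠ 0) (K : Subalgebra F (Matrix ι ι F))
    (hK : IsFieldSubalgebra 2 K) (hac : IsAdjointClosedFor f K) (hnsa : ¬ IsSelfAdjointFor f K) :
    IsMaximalIn (isoOf f) (subalgebraNormalizer K ⊓ isoOf f) := by
  classical
  -- the skew-adjoint generator
  obtain ⟨J, hJK, hJ0, hskew⟩ : ∃ J ∈ K, J ≠ 0 ∧ ∀ u v, f (J *ᵥ u) v = -f u (J *ᵥ v) := by
    rw [IsSelfAdjointFor] at hnsa
    push Not at hnsa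
    obtain ⟨k, hk, u, v, huv⟩ := hnsa
    obtain ⟨k', hk', hadj⟩ := hac k hk
    refine ⟨k - k', K.sub_mem hk hk', fun h => huv ?_, fun x y => ?_⟩
    · rw [hadj, ← sub_eq_zero.1 h]
    · have h' : f (k' *ᵥ x) y = f x (k *ᵥ y) := by
        rw [hf.skew, ← hadj, ← hf.skew]
      rw [sub_mulVec, sub_mulVec, form_sub_left hf.bilinear, form_sub_right hf.bilinear, hadj, h']
      ring
  have hne : ∀ u : ι → F, u ≠ 0 → ∃ v, f v u ≠ 0 := fun u hu => (hf.nondegenerate u hu).1
  have hnsc : ∀ c : F, J ≠ c • 1 := by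
    intro c hc
    obtain ⟨i⟩ : Nonempty ι := Fintype.card_pos_iff.1 (by omega)
    have hu : (Pi.single i 1 : ι → F) ≠ 0 := fun h => one_ne_zero (α := F) (by simpa using congrFun h i)
    obtain ⟨v, hv⟩ := hne _ hu
    have := hskew v (Pi.single i 1)
    rw [hc, smul_mulVec, smul_mulVec, one_mulVec, one_mulVec, hf.bilinear.smul_left,
      hf.bilinear.smul_right] at this
    have h0 : (2 * c) * f v (Pi.single i 1) = 0 := by linear_combination this
    have hc0 : c = 0 := (mul_eq_zero.1 ((mul_eq_zero.1 h0).resolve_right hv)).resolve_left h2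
    exact hJ0 (by rw [hc, hc0, zero_smul])
  have hgen : ∀ k ∈ K, ∃ a b : F, k = a • 1 + b • J := by
    have hli : LinearIndependent F ![(1 : K), ⟨J, hJK⟩] := by
      rw [LinearIndependent.pair_iff' (fun h => hJ0 (by rw [← one_mul J, show (1 : Matrix ι ι F) = 0 from congrArg Subtype.val h, zero_mul]))]
      intro c hc
      exact hnsc c (congrArg Subtype.val hc).symm
    have hspan : Submodule.span F ({(1 : K), ⟨J, hJK⟩} : Set K) = ⊤ := by
      haveI : FiniteDimensional F K :=
        FiniteDimensional.of_injective K.val.toLinearMap Subtype.val_injective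
      refine Submodule.eq_top_of_finrank_eq ?_
      have := finrank_span_eq_card hli
      rw [Matrix.range_cons_cons_empty, Fintype.card_fin] at this
      rw [this, hK.finrank_eq]
    intro k hk
    obtain ⟨a, b, hab⟩ := Submodule.mem_span_pair.1 (hspan ▸ Submodule.mem_top :
      (⟨k, hk⟩ : K) ∈ Submodule.span F ({(1 : K), ⟨J, hJK⟩} : Set K))
    exact ⟨a, b, (congrArg Subtype.val hab).symm⟩
  obtain ⟨d, hdd⟩ : ∃ d : F, J * J = d • 1 := by
    obtain ⟨a, b, hab⟩ := hgen _ (K.mul_mem hJK hJK)
    refine ⟨a, ?_⟩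
    by_cases hb : b = 0
    · rw [hab, hb, zero_smul, add_zero]
    exfalso
    apply hJ0
    refine Matrix.ext_of_mulVec_single fun j => ?_
    by_contra hj
    rw [zero_mulVec] at hj
    obtain ⟨v, hv⟩ := hne _ hj
    have h1 : f ((J * J) *ᵥ v) (Pi.single j 1) = f v ((J * J) *ᵥ Pi.single j 1) := by
      rw [← mulVec_mulVec, ← mulVec_mulVec, hskew, hskew, neg_neg]
    rw [hab] at h1
    simp only [add_mulVec, smul_mulVec, one_mulVec, hf.bilinear.add_left, hf.bilinear.add_right,
      hf.bilinear.smul_left, hf.bilinear.smul_right, hskew] at h1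
    have : (2 * b) * f v (J *ᵥ Pi.single j 1) = 0 := by linear_combination -h1
    exact hv ((mul_eq_zero.1 this).resolve_left (mul_ne_zero h2 hb))
  have hdsq : ∀ c : F, c * c ≠ d := by
    intro c hc
    have h0 : (J - c • 1) * (J + c • 1) = 0 := by
      simp only [sub_mul, mul_add, smul_mul_assoc, mul_smul_comm, one_mul, mul_one, hdd, smul_smul,
        hc, smul_sub, smul_add]
      module
    by_cases hm : J - c • (1 : Matrix ι ι F) = 0
    · exact hnsc c (sub_eq_zero.1 hm)
    obtain ⟨y, -, hy⟩ := hK.inv _ (K.sub_mem hJK (K.smul_mem K.one_mem c)) hm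
    have hy' : y * (J - c • 1) = 1 := mul_eq_one_comm.1 hy
    have : J + c • (1 : Matrix ι ι F) = 0 := by
      calc J + c • (1 : Matrix ι ι F) = y * (J - c • 1) * (J + c • 1) := by rw [hy', one_mul]
        _ = 0 := by rw [mul_assoc, h0, mul_zero]
    exact hnsc (-c) (by rw [neg_smul]; exact eq_neg_of_add_eq_zero_left this)
  have hd0 : d ≠ 0 := fun h => hdsq 0 (by rw [h, mul_zero])
  -- the map `J` on vectors
  let j : (ι → F) → (ι → F) := fun x => J *ᵥ x
  have jadd : ∀ x y, j (x + y) = j x + j y := fun x y => mulVec_add _ _ _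
  have jsub : ∀ x y, j (x - y) = j x - j y := fun x y => mulVec_sub _ _ _
  have jsmul : ∀ (c : F) x, j (c • x) = c • j x := fun c x => mulVec_smul _ _ _
  have jj : ∀ x, j (j x) = d • x := fun x => by
    simp only [j]; rw [mulVec_mulVec, hdd, smul_mulVec, one_mulVec]
  have jl : ∀ x y, f (j x) y = -f x (j y) := hskew
  have jjf : ∀ x y, f (j x) (j y) = -(d * f x y) := fun x y => by
    rw [jl, jj, hf.bilinear.smul_right]
  -- division by non-zero elements `y + z J`
  have hdiv : ∀ (y z : F) (x : ι → F) (D : Submodule F (ι → F)), (∀ v ∈ D, j v ∈ D) →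
      y • x + z • j x ∈ D → (y = 0 ∧ z = 0) ∨ x ∈ D := by
    intro y z x D hD hmem
    by_cases hN : y * y - z * z * d = 0
    · left
      by_cases hz : z = 0
      · subst hz
        exact ⟨by simpa using hN, rfl⟩
      · exfalso
        exact hdsq (y / z) (by field_simp; linear_combination hN)
    · right
      refine (Submodule.smul_mem_iff D hN).1 ?_
      have := D.sub_mem (D.smul_mem y hmem) (D.smul_mem z (hD _ hmem))
      rw [jadd, jsmul, jsmul, jj] at this
      rwa [show (y * y - z * z * d) • x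
        = y • (y • x + z • j x) - z • (y • j x + z • (d • x)) by module]
  have hspanJ : ∀ x, ∀ v ∈ Submodule.span F ({x, j x} : Set (ι → F)),
      j v ∈ Submodule.span F ({x, j x} : Set (ι → F)) := by
    intro x v hv
    obtain ⟨a, b, rfl⟩ := Submodule.mem_span_pair.1 hv
    exact Submodule.mem_span_pair.2 ⟨b * d, a, by rw [jadd, jsmul, jsmul, jj]; module⟩
  have hjne : ∀ x, x ≠ 0 → ∀ y z : F, y • x + z • j x = 0 → y = 0 ∧ z = 0 := by
    intro x hx y z h
    rcases hdiv y z x ⊥ (fun v hv => by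
      rw [(Submodule.mem_bot F).1 hv]; simp [j]) ((Submodule.mem_bot F).2 h) with h' | h'
    · exact h'
    · exact absurd ((Submodule.mem_bot F).1 h') hx
  -- the quadratic form `x ↦ f x (J x)`
  let B : (ι → F) →ₗ[F] (ι → F) →ₗ[F] F := LinearMap.mk₂ F (fun x y => f x (j y))
    (fun x x' y => hf.bilinear.add_left _ _ _)
    (fun c x y => hf.bilinear.smul_left _ _ _)
    (fun x y y' => by simp [jadd, hf.bilinear.add_right])
    (fun c x y => by simp [jsmul, hf.bilinear.smul_right])
  let Q : QuadraticForm F (ι → F) := LinearMap.BilinMap.toQuadraticMap B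
  have hQ : ∀ x, Q x = f x (j x) := fun x => rfl
  have hsym : ∀ x y, f y (j x) = f x (j y) := fun x y => by rw [hf.skew, jl, neg_neg]
  have hpol : ∀ x y, polar Q x y = 2 * f x (j y) := fun x y => by
    simp only [polar, hQ, jadd, hf.bilinear.add_left, hf.bilinear.add_right, hsym x y]
    ring
  have hpolj : ∀ x y, polar Q (j x) y = -(2 * d * f x y) := fun x y => by
    rw [hpol, jjf]; ring
  have horth : ∀ x y, polar Q x y = 0 → polar Q x (j y) = 0 → f x y = 0 ∧ f x (j y) = 0 := by
    intro x y h1 h3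
    rw [hpol] at h1 h3
    rw [jj, hf.bilinear.smul_right, ← mul_assoc] at h3
    exact ⟨(mul_eq_zero.1 h3).resolve_left (mul_ne_zero h2 hd0),
      (mul_eq_zero.1 h1).resolve_left h2⟩
  have hnd : NDPolar Q := by
    intro x hx
    by_contra h0
    obtain ⟨v, hv⟩ := hne x h0
    have := hx (j v)
    rw [hpol, jj, hf.bilinear.smul_right, hf.skew x v] at this
    rcases mul_eq_zero.1 this with h | h
    · exact h2 h
    · exact hv (neg_eq_zero.1 ((mul_eq_zero.1 h).resolve_left hd0))
  have hQj : ∀ x, Q (j x) = -(d * Q x) := fun x => by rw [hQ, jjf, hQ]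
  -- elements commuting with `J`
  set H := subalgebraNormalizer K ⊓ isoOf f with hH
  have hcomm : ∀ h : GL ι F, h ∈ isoOf f →
      (∀ x, (h : Matrix ι ι F) *ᵥ j x = j ((h : Matrix ι ι F) *ᵥ x)) → h ∈ H := by
    intro h hh hc
    have hcM : (h : Matrix ι ι F) * J = J * (h : Matrix ι ι F) :=
      Matrix.ext_of_mulVec_single fun i => by rw [← mulVec_mulVec, ← mulVec_mulVec]; exact hc _
    refine ⟨mem_normalizer_of fun k hk => ?_, hh⟩
    obtain ⟨a, b, rfl⟩ := hgen k hk
    rw [mul_add, mul_smul_comm, mul_smul_comm, mul_one, hcM, add_mul, smul_mul_assoc,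
      smul_mul_assoc, mul_assoc, ← Units.val_mul, mul_inv_cancel, Units.val_one, mul_one]
    exact hk
  have hU : ∀ u, Q u = 0 → ∀ c : F, sTv f u (c * d) * sTv f (j u) (-c) ∈ H := by
    intro u hu c
    refine hcomm _ (mul_mem (sTv_mem_isoOf hf _ _) (sTv_mem_isoOf hf _ _)) fun x => ?_
    have a2 : f (j u) u = 0 := by rw [hf.skew, ← hQ, hu, neg_zero]
    simp only [gl_mulVec_mul, sTv_mulVec hf, hf.bilinear.add_left, hf.bilinear.smul_left, a2,
      mul_zero, add_zero, jadd, jsmul, jj, jjf, jl, hf.bilinear.smul_right]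
    module
  -- exchanging the members of a normalised singular pair
  have hW : ∀ z y, Q z = 0 → Q y = 0 → f z (j y) = 0 → f z y ≠ 0 → ∀ m : F, m ≠ 0 →
      ∃ h ∈ H, (h : Matrix ι ι F) *ᵥ z = m • y := by
    intro z y hz hy h1 hφ m hm
    set φ := f z y with hφdef
    refine ⟨_, H.mul_mem (hU z hz (1 / (m * d * φ))) (hU y hy (m / (d * φ))), ?_⟩
    have e1 : f y (j y) = 0 := hy
    have e2 : f y (j z) = 0 := by rw [hsym z y, h1]
    have e3 : f z (j z) = 0 := hz
    simp only [gl_mulVec_mul, sTv_mulVec hf, hf.bilinear.add_left, hf.bilinear.smul_left,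
      hf.alternating, h1, e1, e2, e3, hf.skew y z, ← hφdef, mul_zero, zero_smul, add_zero, jl, neg_zero]
    match_scalars <;> field_simp <;> ring
  have hjfix : ∀ z y : ι → F, f z (j z) = 0 → f z y = 1 → f z (j y) = 0 → ∀ a,
      Q (y + a • j z) = Q y - 2 * (d * a) ∧ f z (y + a • j z) = 1 ∧
        f z (j (y + a • j z)) = 0 := by
    intro z y e3 h1 h3 a
    refine ⟨?_, ?_, ?_⟩
    · rw [Classical.Quad.Q_comb1, hQj, hpol, jj, hf.bilinear.smul_right, hf.skew y z, h1,
        show Q z = 0 from e3]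
      ring
    · rw [hf.bilinear.add_right, hf.bilinear.smul_right, h1, e3, mul_zero, add_zero]
    · rw [jadd, jsmul, jj, hf.bilinear.add_right, h3, hf.bilinear.smul_right,
        hf.bilinear.smul_right, hf.alternating]
      ring
  have hpart : ∀ z, z ≠ 0 → Q z = 0 → ∃ y, Q y = 0 ∧ f z y = 1 ∧ f z (j y) = 0 := by
    intro z hz0 hz
    obtain ⟨y₀, hy₀⟩ := exists_pairing hf (LinearIndependent.pair_iff.2 (hjne z hz0)) ![1, 0]
    obtain ⟨h4, h5, h6⟩ := hjfix z y₀ hz (hy₀ 0)
      (by have := hy₀ 1; rw [show ![z, j z] 1 = j z from rfl, jl] at this; simpa using this)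
      (Q y₀ / (2 * d))
    exact ⟨_, by rw [h4]; field_simp; ring, h5, h6⟩
  -- transitivity on singular vectors
  have hpaired : ∀ z r, Q z = 0 → Q r = 0 → (f z r ≠ 0 ∨ f z (j r) ≠ 0) →
      ∃ h ∈ H, (h : Matrix ι ι F) *ᵥ z = r := by
    intro z r hz hr hp
    by_cases hB : f z (j r) = 0
    · obtain ⟨h, hh, e⟩ := hW z r hz hr hB (hp.resolve_right (fun h => h hB)) 1 one_ne_zero
      exact ⟨h, hh, by rw [e, one_smul]⟩
    set A := f z r with hA
    set B' := f z (j r) with hB'
    have hN : d * A * A - B' * B' ≠ 0 := by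
      intro h
      by_cases hA0 : A = 0
      · exact hB (mul_self_eq_zero.1 (by rw [hA0] at h; linear_combination -h))
      · exact hdsq (B' / A) (by field_simp; linear_combination -h)
    set N := d * A * A - B' * B' with hNdef
    set y := (d * A / N) • r + (-(B' / N)) • j r with hy
    have y1 : f z y = 1 := by
      rw [hy, hf.bilinear.add_right, hf.bilinear.smul_right, hf.bilinear.smul_right, ← hA, ← hB']
      field_simp
      rw [hNdef]; ring
    have y2 : f z (j y) = 0 := by
      rw [hy, jadd, jsmul, jsmul, jj, hf.bilinear.add_right, hf.bilinear.smul_right,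
        hf.bilinear.smul_right, hf.bilinear.smul_right, ← hA, ← hB']
      field_simp
      ring
    have hr' : r = A • y + (B' / d) • j y := by
      rw [hy, jadd, jsmul, jsmul, jj]
      match_scalars <;> field_simp <;> rw [hNdef] <;> ring
    have y3 : f y (j y) = 0 := by
      change Q y = 0
      rw [hy, Classical.Quad.Q_comb1, QuadraticMap.map_smul, hr, hQj, hr, polar_smul_left, hpol, jj,
        hf.bilinear.smul_right, hf.alternating]
      simp
    clear_value y
    have yz : f y z = -1 := by rw [hf.skew, y1]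
    have yjz : f y (j z) = 0 := by rw [hsym z y, y2]
    have zz : f z (j z) = 0 := hz
    -- an anisotropic vector orthogonal to the pair
    let pr : (ι → F) → (ι → F) := fun x => x - f x y • z + (f x (j y) / d) • j z
      + f x z • y - (f x (j z) / d) • j y
    have hpr : ∀ x, f (pr x) z = 0 ∧ f (pr x) (j z) = 0 ∧ f (pr x) y = 0 ∧ f (pr x) (j y) = 0 := by
      intro x
      simp only [pr, form_sub_left hf.bilinear, hf.bilinear.add_left, hf.bilinear.smul_left, jl, jjf,
        jj, hf.bilinear.smul_right, hf.alternating, y1, y2, y3, yz, yjz, zz]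
      refine ⟨?_, ?_, ?_, ?_⟩ <;> field_simp <;> ring
    obtain ⟨x₀, hx₀⟩ : ∃ x, pr x ≠ 0 := by
      by_contra hcon
      push Not at hcon
      have hle : (⊤ : Submodule F (ι → F)) ≤
          Submodule.span F {z, j z} ⊔ Submodule.span F {y, j y} := fun x _ => by
        refine Submodule.mem_sup.2 ⟨_, Submodule.mem_span_pair.2 ⟨f x y, -(f x (j y) / d), rfl⟩, _,
          Submodule.mem_span_pair.2 ⟨-(f x z), f x (j z) / d, rfl⟩, ?_⟩
        linear_combination (norm := module) -hcon x
      have := Submodule.finrank_mono hle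
      rw [finrank_top, Module.finrank_fintype_fun_eq_card] at this
      have := Submodule.finrank_add_le_finrank_add_finrank (Submodule.span F ({z, j z} : Set (ι → F)))
        (Submodule.span F {y, j y})
      have := finrank_span_two_le z (j z)
      have := finrank_span_two_le y (j y)
      omega
    obtain ⟨s, hs, sz, sjz, sy, sjy⟩ : ∃ s, Q s ≠ 0 ∧ f s z = 0 ∧ f s (j z) = 0 ∧ f s y = 0 ∧
        f s (j y) = 0 := by
      by_contra hcon
      push Not at hcon
      obtain ⟨a1, a2, a3, a4⟩ := hpr x₀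
      obtain ⟨v, hv⟩ := hne _ hx₀
      obtain ⟨b1, b2, b3, b4⟩ := hpr v
      have hfv : f (pr x₀) (pr v) = -f v (pr x₀) := by
        generalize pr x₀ = P₀ at a1 a2 a3 a4 ⊢
        simp only [pr]
        simp only [form_sub_right hf.bilinear, hf.bilinear.add_right, hf.bilinear.smul_right, a1, a2,
          a3, a4]
        rw [hf.skew]
        ring
      have q : ∀ w, f w z = 0 → f w (j z) = 0 → f w y = 0 → f w (j y) = 0 → Q w = 0 := by
        intro w w1 w2 w3 w4
        by_contra h
        exact hcon w h w1 w2 w3 w4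
      have c1 : f (j (pr v)) z = 0 := by rw [jl, b2, neg_zero]
      have c2 : f (j (pr v)) (j z) = 0 := by rw [jjf, b1]; simp
      have c3 : f (j (pr v)) y = 0 := by rw [jl, b4, neg_zero]
      have c4 : f (j (pr v)) (j y) = 0 := by rw [jjf, b3]; simp
      have h0 := q (pr x₀ + j (pr v)) (by rw [hf.bilinear.add_left, a1, c1, add_zero])
        (by rw [hf.bilinear.add_left, a2, c2, add_zero]) (by rw [hf.bilinear.add_left, a3, c3, add_zero])
        (by rw [hf.bilinear.add_left, a4, c4, add_zero])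
      rw [QuadraticMap.map_add Q, q _ a1 a2 a3 a4, q _ c1 c2 c3 c4, zero_add, zero_add, hpol, jj,
        hf.bilinear.smul_right, hfv] at h0
      exact hv ((mul_eq_zero.1 ((mul_eq_zero.1 h0).resolve_left h2)).resolve_left hd0
        |> neg_eq_zero.1)
    set t := Q s / (2 * d) with ht
    set α := t * A * d / B' with hα
    set w := y + α • z + t • j z + s with hw
    have zs : f z s = 0 := (form_symplectic_eq_zero_comm hf).1 sz
    have zjs : f z (j s) = 0 := by rw [hsym s z, sjz]
    have ys : f y s = 0 := (form_symplectic_eq_zero_comm hf).1 sy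
    have yjs : f y (j s) = 0 := by rw [hsym s y, sjy]
    have w1 : f z w = 1 := by
      simp only [hw, hf.bilinear.add_right, hf.bilinear.smul_right, hf.alternating, y1, zz, zs]
      ring
    have w2 : f z (j w) = 0 := by
      simp only [hw, jadd, jsmul, jj, hf.bilinear.add_right, hf.bilinear.smul_right, hf.alternating,
        y2, zz, zjs]
      ring
    have w3 : f w (j r) = 0 := by
      simp only [hr', hw, jadd, jsmul, jj, hf.bilinear.add_left, hf.bilinear.add_right,
        hf.bilinear.smul_left, hf.bilinear.smul_right, jl, hf.alternating, y1, y2, y3, sy, sjy]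
      rw [hα]
      field_simp
      ring
    have w4 : f w r ≠ 0 := by
      have e : f w r = t / B' * (d * A * A - B' * B') := by
        simp only [hr', hw, hf.bilinear.add_left, hf.bilinear.add_right,
          hf.bilinear.smul_left, hf.bilinear.smul_right, jl, jj, hf.alternating, y1, y2, y3, sy, sjy]
        rw [hα]
        field_simp
        ring
      rw [e, ← hNdef]
      exact mul_ne_zero (div_ne_zero (div_ne_zero hs (mul_ne_zero h2 hd0)) hB) hN
    have w5 : Q w = 0 := by
      rw [hQ]
      simp only [hw, jadd, jsmul, jj, hf.bilinear.add_left, hf.bilinear.add_right,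
        hf.bilinear.smul_left, hf.bilinear.smul_right, jl, hf.alternating, y1, y2, y3, yz, yjz, zz,
        sy, sjy, sz, sjz, zs, zjs, ys, yjs, show f s (j s) = Q s from (hQ s).symm]
      rw [ht]
      field_simp
      ring
    obtain ⟨h₁, hh₁, e₁⟩ := hW z w hz w5 w2 (by rw [w1]; exact one_ne_zero) 1 one_ne_zero
    obtain ⟨h₂', hh₂, e₂⟩ := hW w r w5 hr w3 w4 1 one_ne_zero
    exact ⟨h₂' * h₁, H.mul_mem hh₂ hh₁, by rw [gl_mulVec_mul, e₁, one_smul, e₂, one_smul]⟩
  have hmove : ∀ z r, z ≠ 0 → r ≠ 0 → Q z = 0 → Q r = 0 →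
      ∃ h ∈ H, (h : Matrix ι ι F) *ᵥ z = r := by
    intro z r hz0 hr0 hz hr
    by_cases hzr : f z r ≠ 0 ∨ f z (j r) ≠ 0
    · exact hpaired z r hz hr hzr
    push Not at hzr
    have two : ∀ y, Q y = 0 → (f z y ≠ 0 ∨ f z (j y) ≠ 0) → (f y r ≠ 0 ∨ f y (j r) ≠ 0) →
        ∃ h ∈ H, (h : Matrix ι ι F) *ᵥ z = r := by
      intro y hy h1 h3
      obtain ⟨h₁, hh₁, e₁⟩ := hpaired z y hz hy h1
      obtain ⟨h₂', hh₂, e₂⟩ := hpaired y r hy hr h3
      exact ⟨h₂' * h₁, H.mul_mem hh₂ hh₁, by rw [gl_mulVec_mul, e₁, e₂]⟩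
    obtain ⟨y₁, q₁, p₁, p₁'⟩ := hpart z hz0 hz
    obtain ⟨y₂, q₂, p₂, p₂'⟩ := hpart r hr0 hr
    by_cases h1 : f y₁ r ≠ 0 ∨ f y₁ (j r) ≠ 0
    · exact two y₁ q₁ (Or.inl (by rw [p₁]; exact one_ne_zero)) h1
    by_cases h3 : f z y₂ ≠ 0 ∨ f z (j y₂) ≠ 0
    · exact two y₂ q₂ h3 (Or.inl (by rw [hf.skew, p₂]; exact neg_ne_zero.2 one_ne_zero))
    push Not at h1 h3
    obtain ⟨h4, h5, -⟩ := hjfix z (y₁ + y₂) hz
      (by rw [hf.bilinear.add_right, p₁, h3.1, add_zero])
      (by rw [jadd, hf.bilinear.add_right, p₁', h3.2, add_zero]) (Q (y₁ + y₂) / (2 * d))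
    refine two _ (by rw [h4]; field_simp; ring) (Or.inl (by rw [h5]; exact one_ne_zero)) (Or.inl ?_)
    rw [hf.bilinear.add_left, hf.bilinear.add_left, hf.bilinear.smul_left, jl, hzr.2, h1.1,
      hf.skew y₂ r, p₂]
    simp
  refine isMaximalIn_of inf_le_right ?_ ?_
  · obtain ⟨u, hu, hu0, -⟩ := exists_singular_avoid (Q := Q) h2 ⊥ ⊥ (by simp; omega)
    rw [Submodule.mem_bot] at hu0
    refine ⟨sTv f u 1, sTv_mem_isoOf hf _ _, fun h => ?_⟩
    obtain ⟨a, b, hab⟩ := hgen _ ((h.1 J).1 hJK)
    have hg : ∀ x, (sTv f u 1 : Matrix ι ι F) *ᵥ j x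
        = a • ((sTv f u 1 : Matrix ι ι F) *ᵥ x) + b • j ((sTv f u 1 : Matrix ι ι F) *ᵥ x) := by
      intro x
      have := congrArg (fun A : Matrix ι ι F => A *ᵥ ((sTv f u 1 : Matrix ι ι F) *ᵥ x)) hab
      simpa only [add_mulVec, smul_mulVec, one_mulVec, ← mulVec_mulVec, gl_inv_mulVec_mulVec]
        using this
    simp only [sTv_mulVec hf, one_mul] at hg
    have h0 := hg u
    rw [hf.alternating, zero_smul, add_zero, show f (j u) u = 0 by rw [hf.skew, ← hQ, hu, neg_zero],
      zero_smul, add_zero] at h0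
    obtain ⟨ha, hb⟩ := hjne u hu0 (-a) (1 - b) (by linear_combination (norm := module) h0)
    obtain ⟨x, hx⟩ := hne u hu0
    have h1 := hg x
    rw [neg_eq_zero.1 ha, ← sub_eq_zero.1 hb, zero_smul, zero_add, one_smul, jadd, jsmul] at h1
    exact hx (neg_eq_zero.1 (hjne u hu0 (f (j x) u) (-f x u)
      (by linear_combination (norm := module) h1)).2)
  intro M hHM hMK g hgM hgH
  have hgi : g ∈ isoOf f := hMK hgM
  -- a singular point whose image under `g` has an anisotropic member
  obtain ⟨u, hu, hgu⟩ : ∃ u, Q u = 0 ∧ Q ((g : Matrix ι ι F) *ᵥ u) ≠ 0 := by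
    by_contra hcon
    push Not at hcon
    let G : (ι → F) →ₗ[F] (ι → F) := Matrix.toLin' (g : Matrix ι ι F)
    let R := Q.comp G
    have hR : ∀ x, R x = Q ((g : Matrix ι ι F) *ᵥ x) := fun x => by simp [R, G]
    have hR0 : ∀ x, Q x = 0 → R x = 0 := fun x hx => by rw [hR]; exact hcon x hx
    obtain ⟨u, hu, hu0, -⟩ := exists_singular_avoid (Q := Q) h2 ⊥ ⊥ (by simp; omega)
    obtain ⟨y₀, hy₀, -⟩ := exists_dual_vec hnd hu0
    set y := y₀ + (-(Q y₀)) • u with hy
    have hQy : Q y = 0 := by rw [hy, Classical.Quad.Q_comb1, hu, polar_comm Q y₀ u, hy₀]; ring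
    have huy : polar Q u y = 1 := by
      rw [hy, polar_add_right, polar_smul_right, Classical.Quad.polar_singular_self hu, hy₀]; simp
    clear_value y
    set D := Submodule.span F ({u, y} : Set (ι → F)) with hD
    have mu : u ∈ D := Submodule.subset_span (by simp)
    have my : y ∈ D := Submodule.subset_span (by simp)
    have hDd : Module.finrank F D + 3 ≤ Fintype.card ι := by
      have : Module.finrank F D ≤ 2 := finrank_span_two_le u y
      omega
    have hDn : ∀ v ∈ D, (∀ e ∈ D, polar Q v e = 0) → v = 0 := by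
      intro v hv h
      obtain ⟨a, b, rfl⟩ := Submodule.mem_span_pair.1 hv
      have e1 := h y my
      have e2 := h u mu
      simp only [polar_add_left, polar_smul_left, huy, polar_comm Q y u, smul_eq_mul,
        Classical.Quad.polar_singular_self hu, Classical.Quad.polar_singular_self hQy] at e1 e2
      rw [show a = 0 by linear_combination e1, show b = 0 by linear_combination e2]
      simp
    set c := polar R u y with hc
    have hW' : ∀ x, (∀ e ∈ D, polar Q x e = 0) → polar R u x = 0 ∧ polar R y x = 0 := by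
      intro x hx
      have hk := perp_le_of_singular_nondeg hnd h2 hDd hDn
        (LinearMap.ker ((polarBilin R u).prod (polarBilin R y))).toAddSubgroup
        (fun v hv hvD => by
          refine LinearMap.mem_ker.2 (Prod.ext ?_ ?_)
          · change polar R u v = 0
            have := hR0 (u + v) (by rw [QuadraticMap.map_add Q, hu, hv, polar_comm, hvD u mu]; simp)
            rwa [QuadraticMap.map_add R, hR0 u hu, hR0 v hv, zero_add, zero_add] at this
          · change polar R y v = 0
            have := hR0 (y + v) (by rw [QuadraticMap.map_add Q, hQy, hv, polar_comm, hvD y my]; simp)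
            rwa [QuadraticMap.map_add R, hR0 y hQy, hR0 v hv, zero_add, zero_add] at this) hx
      exact ⟨congrArg Prod.fst (LinearMap.mem_ker.1 hk), congrArg Prod.snd (LinearMap.mem_ker.1 hk)⟩
    have hprop : ∀ x, R x = c * Q x := by
      have hperp : ∀ x, (∀ e ∈ D, polar Q x e = 0) → R x = c * Q x := by
        intro x hx
        obtain ⟨e1, e2⟩ := hW' x hx
        have := hR0 (x + (1 : F) • u + (-Q x) • y) (by
          rw [Classical.Quad.Q_comb, hu, hQy, hx u mu, hx y my, huy]; ring)
        rw [Classical.Quad.Q_comb, hR0 u hu, hR0 y hQy, polar_comm R x u, e1, polar_comm R x y, e2,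
          ← hc] at this
        linear_combination this
      intro x
      set a := polar Q x y
      set b := polar Q x u
      set x' := x - a • u - b • y with hx'
      have hx'D : ∀ e ∈ D, polar Q x' e = 0 := by
        intro e he
        obtain ⟨p, q, rfl⟩ := Submodule.mem_span_pair.1 he
        simp only [hx', polar_add_right, polar_smul_right, polar_sub_left, polar_smul_left, huy,
          polar_comm Q y u, smul_eq_mul, Classical.Quad.polar_singular_self hu,
          Classical.Quad.polar_singular_self hQy]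
        ring
      obtain ⟨e1, e2⟩ := hW' x' hx'D
      rw [show x = x' + a • u + b • y by rw [hx']; module, Classical.Quad.Q_comb,
        Classical.Quad.Q_comb, hperp x' hx'D, hu, hQy, hR0 u hu, hR0 y hQy, hx'D u mu, hx'D y my,
        huy, polar_comm R x' u, e1, polar_comm R x' y, e2, ← hc]
      ring
    have hc0 : c ≠ 0 := by
      intro h
      have : Q (((g⁻¹ : GL ι F) : Matrix ι ι F) *ᵥ (u + y)) * c = Q (u + y) := by
        rw [mul_comm, ← hprop, hR, gl_mulVec_inv_mulVec]
      rw [h, mul_zero, QuadraticMap.map_add Q, hu, hQy, huy] at this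
      simp at this
    have hjg : ∀ x, j ((g : Matrix ι ι F) *ᵥ x) = c • ((g : Matrix ι ι F) *ᵥ j x) := by
      intro x
      by_contra h
      rw [← sub_eq_zero] at h
      obtain ⟨v, hv⟩ := hne _ h
      apply hv
      obtain ⟨v, rfl⟩ : ∃ v', (g : Matrix ι ι F) *ᵥ v' = v := ⟨_, gl_mulVec_inv_mulVec g v⟩
      rw [form_sub_right hf.bilinear, hf.bilinear.smul_right, mem_isoOf.1 hgi v (j x)]
      have e : polar Q ((g : Matrix ι ι F) *ᵥ v) ((g : Matrix ι ι F) *ᵥ x) = c * polar Q v x := by
        simp only [polar, ← mulVec_add, ← hR, hprop]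
        ring
      rw [hpol, hpol] at e
      refine (mul_eq_zero.1 ?_).resolve_left h2
      linear_combination e
    refine hgH ⟨mem_normalizer_of fun k hk => ?_, hgi⟩
    obtain ⟨a, b, rfl⟩ := hgen k hk
    rw [show (g : Matrix ι ι F) * (a • 1 + b • J) * ((g⁻¹ : GL ι F) : Matrix ι ι F)
        = a • 1 + (b / c) • J by
      refine Matrix.ext_of_mulVec_single fun i => ?_
      set x : ι → F := Pi.single i 1
      have e := hjg (((g⁻¹ : GL ι F) : Matrix ι ι F) *ᵥ x)
      rw [gl_mulVec_inv_mulVec] at e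
      simp only [← mulVec_mulVec, add_mulVec, smul_mulVec, one_mulVec, mulVec_add, mulVec_smul,
        gl_mulVec_inv_mulVec]
      change a • x + b • ((g : Matrix ι ι F) *ᵥ j _) = a • x + (b / c) • j x
      rw [e, smul_smul, div_mul_cancel₀ _ hc0]]
    exact K.add_mem (K.smul_mem K.one_mem a) (K.smul_mem hJK _)
  set a₁ := (g : Matrix ι ι F) *ᵥ u with ha₁
  set a₂ := (g : Matrix ι ι F) *ᵥ j u with ha₂
  set φ := f a₁ (j a₁) with hφdef
  have hφ : φ ≠ 0 := hgu
  have ha12 : f a₁ a₂ = 0 := (hgi _ _).trans ((hQ u).symm.trans hu)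
  have ha21 : f a₂ a₁ = 0 := (form_symplectic_eq_zero_comm hf).1 ha12
  have hN'M : sTv f a₁ d * sTv f a₂ (-1) ∈ M := by
    have := M.mul_mem (M.mul_mem hgM (hHM (hU u hu 1))) (M.inv_mem hgM)
    rwa [one_mul, show g * (sTv f u d * sTv f (j u) (-1)) * g⁻¹
      = (g * sTv f u d * g⁻¹) * (g * sTv f (j u) (-1) * g⁻¹) by group,
      sTv_conj hf hgi, sTv_conj hf hgi, ← ha₁, ← ha₂] at this
  -- a singular vector orthogonal to the first point but not to the second
  obtain ⟨r₀, hr₀, hr₀1, hr₀2, hr₀3⟩ : ∃ r, Q r = 0 ∧ f r a₁ = 0 ∧ f r (j a₁) = 0 ∧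
      f r a₂ ≠ 0 := by
    by_contra hcon
    push Not at hcon
    set D := Submodule.span F ({a₁, j a₁} : Set (ι → F)) with hD
    have hDd : Module.finrank F D + 3 ≤ Fintype.card ι := by
      have : Module.finrank F D ≤ 2 := finrank_span_two_le a₁ (j a₁)
      omega
    have hDn : ∀ v ∈ D, (∀ e ∈ D, polar Q v e = 0) → v = 0 := by
      intro v hv h
      obtain ⟨a, b, rfl⟩ := Submodule.mem_span_pair.1 hv
      have e1 := h a₁ (Submodule.subset_span (by simp))
      have e2 := h (j a₁) (Submodule.subset_span (by simp))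
      rw [hpol] at e1 e2
      simp only [hf.bilinear.add_left, hf.bilinear.smul_left, jjf, jj, hf.bilinear.smul_right,
        hf.alternating, ← hφdef, jl] at e1 e2
      simp [h2, hd0, hφ] at e1 e2
      simp [e1, e2]
    set S := LinearMap.ker ((bilinOf hf.bilinear).flip a₂) with hS
    have hmemS : ∀ x, x ∈ S ↔ f x a₂ = 0 := fun x => by simp [hS, bilinOf_apply]
    have hker := fun x (hx : ∀ e ∈ D, polar Q x e = 0) =>
      perp_le_of_singular_nondeg hnd h2 hDd hDn S.toAddSubgroup (fun v hv hvD => by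
        obtain ⟨e1, e2⟩ := horth v a₁ (hvD a₁ (Submodule.subset_span (by simp)))
          (hvD (j a₁) (Submodule.subset_span (by simp)))
        exact (hmemS v).2 (hcon v hv e1 e2)) hx
    set β := f a₂ (j a₁) / φ with hβ
    have hzero : a₂ - β • a₁ = 0 := by
      by_contra h
      obtain ⟨v, hv⟩ := hne _ h
      set v' := v - (f v (j a₁) / φ) • a₁ + (f v a₁ / φ) • j a₁ with hv'
      have e1 : f v' a₁ = 0 := by
        simp only [hv', hf.bilinear.add_left, form_sub_left hf.bilinear, hf.bilinear.smul_left, jl,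
          hf.alternating, ← hφdef]
        field_simp
        ring
      have e2 : f v' (j a₁) = 0 := by
        simp only [hv', hf.bilinear.add_left, form_sub_left hf.bilinear, hf.bilinear.smul_left,
          hf.alternating, ← hφdef]
        field_simp
        ring
      have e3 : f v' a₂ = 0 := (hmemS v').1 (hker v' fun e he => by
        obtain ⟨p, q, rfl⟩ := Submodule.mem_span_pair.1 he
        rw [hpol, jadd, jsmul, jsmul, jj, hf.bilinear.add_right, hf.bilinear.smul_right,
          hf.bilinear.smul_right, hf.bilinear.smul_right, e1, e2]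
        ring)
      apply hv
      simp only [hv', hf.bilinear.add_left, form_sub_left hf.bilinear, hf.bilinear.smul_left, jl,
        ha12, hsym a₂ a₁] at e3
      rw [form_sub_right hf.bilinear, hf.bilinear.smul_right, hβ]
      field_simp at e3 ⊢
      linear_combination e3
    rw [sub_eq_zero] at hzero
    rw [ha₁, ha₂, ← mulVec_smul] at hzero
    have hu0 : u ≠ 0 := fun h => hgu (by rw [ha₁, h]; simp)
    exact one_ne_zero (α := F) (hjne u hu0 (-β) 1 (by rw [gl_mulVec_injective g hzero]; module)).2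
  set A₀ := f a₂ r₀ with hA₀
  set B₀ := f a₂ (j r₀) with hB₀
  have hN₀ : d * A₀ * A₀ - B₀ * B₀ ≠ 0 := by
    intro h
    have hA0 : A₀ ≠ 0 := fun h0 => hr₀3 (by rw [hf.skew, ← hA₀, h0, neg_zero])
    exact hdsq (B₀ / A₀) (by field_simp; linear_combination -h)
  set r := (d * A₀) • r₀ + (-B₀) • j r₀ with hr
  have hQr : Q r = 0 := by
    rw [hr, Classical.Quad.Q_comb1, QuadraticMap.map_smul, hr₀, hQj, hr₀, polar_smul_left, hpol, jj,
      hf.bilinear.smul_right, hf.alternating]
    simp
  have f1 : f r a₁ = 0 := by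
    rw [hr, hf.bilinear.add_left, hf.bilinear.smul_left, hf.bilinear.smul_left, jl, hr₀1, hr₀2]
    ring
  have f2 : f r (j a₁) = 0 := by
    rw [hr, hf.bilinear.add_left, hf.bilinear.smul_left, hf.bilinear.smul_left, jjf, hr₀1, hr₀2]
    ring
  have f3 : f a₂ (j r) = 0 := by
    rw [hr, jadd, jsmul, jsmul, jj, hf.bilinear.add_right, hf.bilinear.smul_right,
      hf.bilinear.smul_right, hf.bilinear.smul_right, ← hA₀, ← hB₀]
    ring
  have f4 : f a₂ r = d * A₀ * A₀ - B₀ * B₀ := by
    rw [hr, hf.bilinear.add_right, hf.bilinear.smul_right, hf.bilinear.smul_right, ← hA₀, ← hB₀]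
    ring
  set ψ := f a₂ r with hψ
  have hψ0 : ψ ≠ 0 := f4 ▸ hN₀
  clear_value r
  set z := j r with hz
  have hrz : f r z = 0 := hQr
  have hQz : Q z = 0 := by rw [hz, hQj, hQr]; simp
  have hz0 : z ≠ 0 := fun h => hψ0 (by
    have := congrArg j h
    rw [hz, jj, show j 0 = 0 from mulVec_zero _, smul_eq_zero] at this
    rw [hψ, this.resolve_left hd0, form_zero_right hf.bilinear])
  have hza : f z a₁ = 0 := by rw [hz, jl, f2, neg_zero]
  have hzja : f z (j a₁) = 0 := by rw [hz, jjf, f1]; simp
  have hzz : f z (j z) = 0 := hQz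
  -- braiding gives a pair of transvections at orthogonal points
  set e₀ := -1 / (d * ψ * ψ) with he₀
  have he₀0 : e₀ ≠ 0 := by rw [he₀]; simp [hd0, hψ0]
  set E := sTv f a₁ d * sTv f z e₀ with hE
  have hEM : E ∈ M := by
    have hb := braid_quot (sTv_commute hf ha12 d (-1))
      (sTv_commute hf ((form_symplectic_eq_zero_comm hf).1 f1) d (e₀ * d))
      (sTv_commute hf ((form_symplectic_eq_zero_comm hf).1 hza) d (-e₀))
      (sTv_commute hf f3 (-1) (-e₀)) (sTv_commute hf hrz (e₀ * d) (-e₀))
      (sTv_braid hf (show (-1) * (e₀ * d) * f a₂ r ^ 2 = 1 by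
        rw [← hψ, he₀]; field_simp))
    rw [sTv_inv hf, neg_neg, ← hE] at hb
    have hRZ : sTv f r (e₀ * d) * sTv f z (-e₀) ∈ M := hHM (hU r hQr e₀)
    rw [← hb]
    exact M.mul_mem (M.mul_mem (M.mul_mem hN'M hRZ) hN'M)
      (M.inv_mem (M.mul_mem (M.mul_mem hRZ hN'M) hRZ))
  -- turning one point and not the other
  have hrot : ∀ x y : F, x * x - d * y * y = 1 → y ≠ 0 → ∃ h ∈ H,
      (h : Matrix ι ι F) *ᵥ a₁ = a₁ ∧ (h : Matrix ι ι F) *ᵥ z = x • z + y • j z := by
    intro x y hxy hy
    let k : GL ι F := ⟨x • 1 + y • J, x • 1 - y • J, by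
        simp only [add_mul, mul_sub, smul_mul_assoc, mul_smul_comm, one_mul, mul_one, hdd, smul_smul,
          smul_sub, smul_add]
        linear_combination (norm := module) congrArg (fun r => r • (1 : Matrix ι ι F)) hxy, by
        simp only [sub_mul, mul_add, smul_mul_assoc, mul_smul_comm, one_mul, mul_one, hdd, smul_smul,
          smul_sub, smul_add]
        linear_combination (norm := module) congrArg (fun r => r • (1 : Matrix ι ι F)) hxy⟩
    have hk : ∀ v, (k : Matrix ι ι F) *ᵥ v = x • v + y • j v := fun v => by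
      change (x • 1 + y • J) *ᵥ v = _
      rw [add_mulVec, smul_mulVec, smul_mulVec, one_mulVec]
    have hki : k ∈ isoOf f := fun p q => by
      change f ((k : Matrix ι ι F) *ᵥ p) ((k : Matrix ι ι F) *ᵥ q) = _
      simp only [hk, hf.bilinear.add_left, hf.bilinear.add_right, hf.bilinear.smul_left,
        hf.bilinear.smul_right, jl, jj]
      linear_combination (f p q) * hxy
    let c₁ : F := (1 - x) / (-y * φ)
    let τ : GL ι F := sTv f a₁ c₁ * sTv f (j a₁) (-y / φ) * sTv f a₁ c₁
    have hφ' : f (j a₁) a₁ = -φ := by rw [jl, hφdef]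
    have hτ : ∀ v, (τ : Matrix ι ι F) *ᵥ v = v
        + ((x - 1) * (f v (j a₁) / φ) + y * d * (f v a₁ / φ)) • a₁
        + (-y * (f v (j a₁) / φ) - (x - 1) * (f v a₁ / φ)) • j a₁ := by
      intro v
      simp only [τ, gl_mulVec_mul, sTv_mulVec hf, hf.bilinear.add_left, hf.bilinear.smul_left,
        hf.alternating, hφ', ← hφdef]
      match_scalars
      · ring
      all_goals simp only [c₁]; field_simp
      · linear_combination (y * φ * f v a₁) * hxy
      · ring
    refine ⟨k * τ, hcomm _ (mul_mem hki (mul_mem (mul_mem (sTv_mem_isoOf hf _ _)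
      (sTv_mem_isoOf hf _ _)) (sTv_mem_isoOf hf _ _))) fun v => ?_, ?_, ?_⟩
    · simp only [gl_mulVec_mul, hk, hτ, jadd, jsmul, jj, jjf, jl, hf.bilinear.smul_right]
      match_scalars <;> field_simp <;> ring
    · rw [gl_mulVec_mul, hτ, hk, hf.alternating, ← hφdef, jadd, jadd, jsmul, jsmul, jj]
      match_scalars <;> field_simp <;> first | ring1 | linear_combination φ * hxy | linear_combination hxy
    · rw [gl_mulVec_mul, hτ, hk, hza, hzja]
      simp
  set y₀ := 2 / (1 - d) with hy₀
  set x₀ := (1 + d) / (1 - d) with hx₀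
  have hd1 : (1 : F) - d ≠ 0 := fun h => hdsq 1 (by linear_combination h)
  have hy₀0 : y₀ ≠ 0 := div_ne_zero h2 hd1
  have hxy₀ : x₀ * x₀ - d * y₀ * y₀ = 1 := by rw [hx₀, hy₀]; field_simp; ring
  set γ := 4 * (e₀ * y₀ * y₀) * d with hγ
  have hγ0 : γ ≠ 0 := by
    rw [hγ, show (4 : F) = 2 * 2 by norm_num]
    simp [h2, hd0, hy₀0, he₀0]
  have hzT : sTv f z γ ∈ M := by
    obtain ⟨hpl, hhpl, hapl, hzpl⟩ := hrot x₀ y₀ hxy₀ hy₀0
    obtain ⟨hmi, hhmi, hami, hzmi⟩ := hrot x₀ (-y₀) (by linear_combination hxy₀) (neg_ne_zero.2 hy₀0)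
    have conj : ∀ h ∈ H, (h : Matrix ι ι F) *ᵥ a₁ = a₁ → h * E * h⁻¹ =
        sTv f a₁ d * sTv f ((h : Matrix ι ι F) *ᵥ z) e₀ := fun h hh ha => by
      rw [hE, show h * (sTv f a₁ d * sTv f z e₀) * h⁻¹
        = (h * sTv f a₁ d * h⁻¹) * (h * sTv f z e₀ * h⁻¹) by group,
        sTv_conj hf hh.2, sTv_conj hf hh.2, ha]
    have mpl := M.mul_mem (M.mul_mem (hHM hhpl) hEM) (M.inv_mem (hHM hhpl))
    have mmi := M.mul_mem (M.mul_mem (hHM hhmi) hEM) (M.inv_mem (hHM hhmi))
    rw [conj _ hhpl hapl, hzpl] at mpl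
    rw [conj _ hhmi hami, hzmi] at mmi
    have := M.mul_mem (M.mul_mem (M.mul_mem mpl mmi) (M.inv_mem (M.mul_mem hEM hEM)))
      (hHM (hU z hQz (2 * (e₀ * y₀ * y₀))))
    convert this using 1
    have o1 : f a₁ z = 0 := (form_symplectic_eq_zero_comm hf).1 hza
    have o2 : f (j z) a₁ = 0 := by rw [jl, hzja, neg_zero]
    have o3 : f a₁ (j z) = 0 := (form_symplectic_eq_zero_comm hf).1 o2
    have o4 : f (j z) z = 0 := by rw [jl, hzz, neg_zero]
    rw [hE, _root_.mul_inv_rev, _root_.mul_inv_rev, sTv_inv hf, sTv_inv hf]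
    refine gl_ext_mulVec fun v => ?_
    simp only [gl_mulVec_mul, sTv_mulVec hf, hf.bilinear.add_left, hf.bilinear.smul_left,
      hf.bilinear.add_right, hf.bilinear.smul_right, hf.alternating, hza, o1, o2, o3, hzz, o4, hγ]
    match_scalars <;> first | ring1 | linear_combination (-2 * e₀ * f v z) * hxy₀
  have hsingS : ∀ v, Q v = 0 → v ∈ tvSet f M := by
    intro v hv c
    by_cases hv0 : v = 0
    · rw [hv0, show sTv f (0 : ι → F) c = 1 from gl_ext_mulVec fun z => by
        rw [sTv_mulVec hf]; simp]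
      exact M.one_mem
    have key : ∀ l : F, sTv f v (l ^ 2 * γ) ∈ M := by
      intro l
      by_cases hl : l = 0
      · rw [hl, zero_pow two_ne_zero, zero_mul, sTv_zero]; exact M.one_mem
      obtain ⟨h, hh, he⟩ := hmove z (l • v) hz0 (smul_ne_zero hl hv0) hQz
        (by rw [QuadraticMap.map_smul, hv, smul_zero])
      have := M.mul_mem (M.mul_mem (hHM hh) hzT) (M.inv_mem (hHM hh))
      rwa [sTv_conj hf (hMK (hHM hh)), he, sTv_smul_vec hf] at this
    have := M.mul_mem (key ((c / γ + 1) / 2)) (M.inv_mem (key ((c / γ - 1) / 2)))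
    rwa [sTv_inv hf, sTv_add hf, show ((c / γ + 1) / 2) ^ 2 * γ
      + -(((c / γ - 1) / 2) ^ 2 * γ) = c by field_simp; ring] at this
  refine isoOf_le_of_tvSet hf fun x => ?_
  by_cases hx : Q x = 0
  · exact hsingS x hx
  set ρ := f x (j x) with hρ
  have hρ0 : ρ ≠ 0 := hx
  set D := Submodule.span F ({x, j x} : Set (ι → F)) with hD
  obtain ⟨w, hw, hw0, hwD⟩ := exists_singular_avoid (Q := Q) h2 D ⊥ (by
    have : Module.finrank F D ≤ 2 := finrank_span_two_le x (j x)
    rw [finrank_bot]; omega)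
  rw [Submodule.mem_bot] at hw0
  have hwD' : w ∉ D := by
    intro h
    obtain ⟨a, b, rfl⟩ := Submodule.mem_span_pair.1 h
    obtain ⟨e1, e2⟩ := horth (a • x + b • j x) x (hwD x (Submodule.subset_span (by simp)))
      (hwD (j x) (Submodule.subset_span (by simp)))
    simp only [hf.bilinear.add_left, hf.bilinear.smul_left, jl, jjf, jj, hf.bilinear.smul_right,
      hf.alternating, ← hρ] at e1 e2
    have hx0 : x ≠ 0 := fun h => hx (by rw [h, QuadraticMap.map_zero])
    simp [hρ0, hd0, hx0] at e1 e2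
    exact hw0 (by simp [e1, e2])
  obtain ⟨y, hy1, hy2⟩ := exists_dual_vec hnd hwD'
  set σ := d * ρ - ρ / 4 - Q y with hσ
  set s := y + σ • w with hs
  have hQs : Q s = d * ρ - ρ / 4 := by
    rw [hs, Classical.Quad.Q_comb1, hw, polar_comm Q y w, hy1, hσ]; ring
  obtain ⟨sx, sjx⟩ : f s x = 0 ∧ f s (j x) = 0 := by
    refine horth s x ?_ ?_ <;> rw [hs, polar_add_left, polar_smul_left, polar_comm Q y]
    · rw [hy2 x (Submodule.subset_span (by simp)), hwD x (Submodule.subset_span (by simp))]; simp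
    · rw [hy2 (j x) (Submodule.subset_span (by simp)), hwD (j x) (Submodule.subset_span (by simp))]
      simp
  clear_value s
  have xs : f x s = 0 := (form_symplectic_eq_zero_comm hf).1 sx
  have xjs : f x (j s) = 0 := by rw [hsym s x, sjx]
  have jxs : f (j x) s = 0 := by rw [jl, xjs, neg_zero]
  set v := (2 : F)⁻¹ • x + j x + s with hv
  have h4 : (4 : F) ≠ 0 := by rw [show (4 : F) = 2 * 2 by norm_num]; exact mul_ne_zero h2 h2
  have hQv : Q v = 0 := by
    rw [hQ]
    simp only [hv, jadd, jsmul, jj, hf.bilinear.add_left, hf.bilinear.add_right,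
      hf.bilinear.smul_left, hf.bilinear.smul_right, jl, hf.alternating, sx, sjx, xs, xjs, ← hρ,
      show f s (j s) = Q s from (hQ s).symm, hQs]
    field_simp
    ring
  have hvx : f v x = -ρ := by
    simp only [hv, hf.bilinear.add_left, hf.bilinear.smul_left, jl, hf.alternating, sx, ← hρ]
    ring
  have hxv : polar Q x v = ρ := by
    simp only [hpol, hv, jadd, jsmul, jj, hf.bilinear.add_right, hf.bilinear.smul_right,
      hf.alternating, xjs, ← hρ]
    field_simp
    ring
  have hw' : Q (x + (-1 : F) • v) = 0 := by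
    rw [Classical.Quad.Q_comb1, hQv, hxv, hQ x, ← hρ]; ring
  have hne' : f v (x + (-1 : F) • v) ≠ 0 := by
    rw [hf.bilinear.add_right, hf.bilinear.smul_right, hf.alternating, hvx]
    simpa using hρ0
  have := tvSet_add_smul hf (hsingS v hQv) (hsingS _ hw') hne' 1
  rwa [show v + (1 : F) • (x + (-1 : F) • v) = x by module] at this

end CfsgLib.ClassicalMax.SympUnitary
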