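/-
Pairs of totally isotropic lines and unitary structures in four-dimensional symplectic groups.
-/
import Cfsg.Agent.Lib.ClassicalMax.SympFourMax
import Cfsg.Agent.Lib.ClassicalMax.SympUnitary
set_option autoImplicit false

namespace CfsgLib.ClassicalMax.SympFour

open Matrix Cfsg.Geo

variable {ι : Type} [Fintype ι] [DecidableEq ι] {F : Type*} [Field F] [Fintype F]
  {f : (ι → F) → (ι → F) → F}

/-- The stabiliser of a pair of complementary totally isotropic planes is maximal. -/
theorem pair_four_maximal (hf : IsSymplecticForm f) (h4 : Fintype.card ι = 4) (h2 : (2 : F) ≠ 0)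
    (h5 : 5 ≤ Fintype.card F) (D : Fin 2 → Submodule F (ι → F)) (hc : IsCompl (D 0) (D 1))
    (hts : ∀ i, ∀ a ∈ D i, ∀ a' ∈ D i, f a a' = 0) :
    IsMaximalIn (isoOf f) (decompositionStabilizer D ⊓ isoOf f) := by
  classical
  let π : (ι → F) →ₗ[F] (ι → F) := (D 0).subtype.comp ((D 0).projectionOnto (D 1) hc)
  let j : (ι → F) →ₗ[F] (ι → F) := π + π - LinearMap.id
  have hsplit : ∀ x : ι → F, ∃ a ∈ D 0, ∃ b ∈ D 1, a + b = x := fun x =>
    Submodule.mem_sup.1 (by rw [hc.sup_eq_top]; trivial)
  have hja : ∀ a ∈ D 0, j a = a := fun a ha => by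
    have h := Submodule.projectionOnto_apply_left hc ⟨a, ha⟩
    simp only at h
    simp [j, π, h]
  have hjb : ∀ b ∈ D 1, j b = -b := fun b hb => by
    have h := Submodule.projectionOnto_apply_right hc ⟨b, hb⟩
    simp only at h
    simp [j, π, h]
  have hmemA : ∀ y, j y = y → y ∈ D 0 := fun y hy => by
    obtain ⟨a, ha, b, hb, rfl⟩ := hsplit y
    rw [map_add, hja a ha, hjb b hb] at hy
    have : (2 : F) • b = 0 := by linear_combination (norm := module) -hy
    rw [(smul_eq_zero.1 this).resolve_left h2, add_zero]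
    exact ha
  have hmemB : ∀ y, j y = -y → y ∈ D 1 := fun y hy => by
    obtain ⟨a, ha, b, hb, rfl⟩ := hsplit y
    rw [map_add, hja a ha, hjb b hb] at hy
    have : (2 : F) • a = 0 := by linear_combination (norm := module) hy
    rw [(smul_eq_zero.1 this).resolve_left h2, zero_add]
    exact hb
  have hs : ∀ x y, f (j x) y = -f x (j y) := fun x y => by
    obtain ⟨a, ha, b, hb, rfl⟩ := hsplit x
    obtain ⟨a', ha', b', hb', rfl⟩ := hsplit y
    rw [map_add, map_add, hja a ha, hjb b hb, hja a' ha', hjb b' hb']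
    simp only [← neg_one_smul F b, ← neg_one_smul F b', hf.bilinear.add_left, hf.bilinear.add_right,
      hf.bilinear.smul_left, hf.bilinear.smul_right, hts 0 a ha a' ha', hts 1 b hb b' hb']
    ring
  have S : Sk f j 1 := ⟨hf, h4, h2, h5, hs, fun x => by
    obtain ⟨a, ha, b, hb, rfl⟩ := hsplit x
    simp only [map_add, map_neg, hja a ha, hjb b hb, neg_neg, one_smul], one_ne_zero⟩
  refine S.maximal fun h => ⟨fun hh => ⟨hh.2, ?_⟩, fun ⟨hi, hcase⟩ => ⟨?_, hi⟩⟩
  · obtain ⟨σ, hσ⟩ := hh.1
    have hmap : ∀ i, ∀ a ∈ D i, (h : Matrix ι ι F) *ᵥ a ∈ D (σ i) := fun i a ha =>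
      hσ i ▸ ⟨a, ha, Matrix.toLin'_apply _ _⟩
    rcases (by omega : σ 0 = 0 ∨ σ 0 = 1) with e | e
    · have e1 : σ 1 = 1 := by
        rcases (by omega : σ 1 = 0 ∨ σ 1 = 1) with e' | e'
        · exact absurd (σ.injective (e.trans e'.symm)) (by decide)
        · exact e'
      left
      intro x
      obtain ⟨a, ha, b, hb, rfl⟩ := hsplit x
      have m0 := hmap 0 a ha
      have m1 := hmap 1 b hb
      rw [e] at m0
      rw [e1] at m1
      rw [map_add, hja a ha, hjb b hb, mulVec_add, mulVec_add, mulVec_neg, map_add, hja _ m0,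
        hjb _ m1]
    · have e1 : σ 1 = 0 := by
        rcases (by omega : σ 1 = 0 ∨ σ 1 = 1) with e' | e'
        · exact e'
        · exact absurd (σ.injective (e.trans e'.symm)) (by decide)
      right
      intro x
      obtain ⟨a, ha, b, hb, rfl⟩ := hsplit x
      have m0 := hmap 0 a ha
      have m1 := hmap 1 b hb
      rw [e] at m0
      rw [e1] at m1
      rw [map_add, hja a ha, hjb b hb, mulVec_add, mulVec_add, mulVec_neg, map_add, hja _ m1,
        hjb _ m0]
      module
  · have hmap : ∀ (W W' : Submodule F (ι → F)) (c c' : F),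
        (∀ y ∈ W, j y = c • y) → (∀ y, j y = c • y → y ∈ W) →
        (∀ y ∈ W', j y = c' • y) → (∀ y, j y = c' • y → y ∈ W') →
        (∀ x, (h : Matrix ι ι F) *ᵥ j x = (c * c') • j ((h : Matrix ι ι F) *ᵥ x)) → c * c = 1 →
        c' * c' = 1 → W.map (Matrix.toLin' (h : Matrix ι ι F)) = W' := by
      intro W W' c c' h1 h1' h2 h2' hx hc hc'
      ext y
      simp only [Submodule.mem_map, Matrix.toLin'_apply]
      constructor
      · rintro ⟨x, hxW, rfl⟩
        refine h2' _ ?_
        have := hx x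
        rw [h1 x hxW, mulVec_smul] at this
        have h' := congrArg (fun v => (c * c') • v) this
        simp only [smul_smul] at h'
        rw [show c * c' * c = c' by linear_combination c' * hc,
          show c * c' * (c * c') = 1 by linear_combination c' * c' * hc + hc', one_smul] at h'
        exact h'.symm
      · intro hy
        refine ⟨((h⁻¹ : GL ι F) : Matrix ι ι F) *ᵥ y, h1' _ ?_, gl_mulVec_inv_mulVec h y⟩
        apply gl_mulVec_injective h
        dsimp only
        rw [hx, mulVec_smul, gl_mulVec_inv_mulVec, h2 y hy, smul_smul,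
          show c * c' * c' = c by linear_combination c * hc']
    rcases hcase with hC | hA
    · refine ⟨1, fun i => ?_⟩
      fin_cases i
      · exact hmap _ _ 1 1 (fun y hy => by rw [hja y hy, one_smul])
          (fun y hy => hmemA y (by rwa [one_smul] at hy)) (fun y hy => by rw [hja y hy, one_smul])
          (fun y hy => hmemA y (by rwa [one_smul] at hy)) (fun x => by rw [hC, mul_one, one_smul])
          (one_mul 1) (one_mul 1)
      · exact hmap _ _ (-1) (-1) (fun y hy => by rw [hjb y hy, neg_one_smul])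
          (fun y hy => hmemB y (by rwa [neg_one_smul] at hy))
          (fun y hy => by rw [hjb y hy, neg_one_smul])
          (fun y hy => hmemB y (by rwa [neg_one_smul] at hy))
          (fun x => by rw [hC, neg_mul_neg, mul_one, one_smul]) (by ring) (by ring)
    · refine ⟨Equiv.swap 0 1, fun i => ?_⟩
      fin_cases i
      · exact hmap _ _ 1 (-1) (fun y hy => by rw [hja y hy, one_smul])
          (fun y hy => hmemA y (by rwa [one_smul] at hy))
          (fun y hy => by rw [hjb y hy, neg_one_smul])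
          (fun y hy => hmemB y (by rwa [neg_one_smul] at hy))
          (fun x => by rw [hA, one_mul, neg_one_smul]) (by ring) (by ring)
      · exact hmap _ _ (-1) 1 (fun y hy => by rw [hjb y hy, neg_one_smul])
          (fun y hy => hmemB y (by rwa [neg_one_smul] at hy))
          (fun y hy => by rw [hja y hy, one_smul])
          (fun y hy => hmemA y (by rwa [one_smul] at hy))
          (fun x => by rw [hA, mul_one, neg_one_smul]) (by ring) (by ring)

/-- The normaliser of a unitary structure is maximal. -/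
theorem unitary_four_maximal (hf : IsSymplecticForm f) (h4 : Fintype.card ι = 4) (h2 : (2 : F) ≠ 0)
    (h5 : 5 ≤ Fintype.card F) (K : Subalgebra F (Matrix ι ι F)) (hK : IsFieldSubalgebra 2 K)
    (hac : IsAdjointClosedFor f K) (hnsa : ¬ IsSelfAdjointFor f K) :
    IsMaximalIn (isoOf f) (subalgebraNormalizer K ⊓ isoOf f) := by
  classical
  obtain ⟨J, hJK, hJ0, hskew⟩ : ∃ J ∈ K, J ≠ 0 ∧ ∀ u v, f (J *ᵥ u) v = -f u (J *ᵥ v) := by
    rw [IsSelfAdjointFor] at hnsa
    push Not at hnsa
    obtain ⟨k, hk, u, v, huv⟩ := hnsa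
    obtain ⟨k', hk', hadj⟩ := hac k hk
    refine ⟨k - k', K.sub_mem hk hk', fun h => huv ?_, fun x y => ?_⟩
    · rw [hadj, ← sub_eq_zero.1 h]
    · have h' : f (k' *ᵥ x) y = f x (k *ᵥ y) := by
        rw [hf.skew, ← hadj, ← hf.skew]
      rw [sub_mulVec, sub_mulVec, form_sub_left hf.bilinear, form_sub_right hf.bilinear, hadj, h']
      ring
  have hnsc : ∀ c : F, J ≠ c • 1 := by
    intro c hc
    obtain ⟨i⟩ : Nonempty ι := Fintype.card_pos_iff.1 (by omega)
    have hu : (Pi.single i 1 : ι → F) ≠ 0 := fun h => one_ne_zero (α := F) (by simpa using congrFun h i)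
    obtain ⟨v, hv⟩ := (hf.nondegenerate _ hu).1
    have := hskew v (Pi.single i 1)
    rw [hc, smul_mulVec, smul_mulVec, one_mulVec, one_mulVec, hf.bilinear.smul_left,
      hf.bilinear.smul_right] at this
    have h0 : (2 * c) * f v (Pi.single i 1) = 0 := by linear_combination this
    exact hJ0 (by rw [hc, ((mul_eq_zero.1 ((mul_eq_zero.1 h0).resolve_right hv)).resolve_left h2),
      zero_smul])
  have hgen : ∀ k ∈ K, ∃ a b : F, k = a • 1 + b • J := by
    have hli : LinearIndependent F ![(1 : K), ⟨J, hJK⟩] := by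
      rw [LinearIndependent.pair_iff' (fun h => hJ0 (by rw [← one_mul J, show (1 : Matrix ι ι F) = 0 from congrArg Subtype.val h, zero_mul]))]
      intro c hc
      exact hnsc c (congrArg Subtype.val hc).symm
    have hspan : Submodule.span F ({(1 : K), ⟨J, hJK⟩} : Set K) = ⊤ := by
      haveI : FiniteDimensional F K :=
        FiniteDimensional.of_injective K.val.toLinearMap Subtype.val_injective
      refine Submodule.eq_top_of_finrank_eq ?_
      have := finrank_span_eq_card hli
      rw [Matrix.range_cons_cons_empty, Fintype.card_fin] at this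
      rw [this, hK.finrank_eq]
    intro k hk
    obtain ⟨a, b, hab⟩ := Submodule.mem_span_pair.1 (hspan ▸ Submodule.mem_top :
      (⟨k, hk⟩ : K) ∈ Submodule.span F ({(1 : K), ⟨J, hJK⟩} : Set K))
    exact ⟨a, b, (congrArg Subtype.val hab).symm⟩
  have hne : ∀ u : ι → F, u ≠ 0 → ∃ v, f v u ≠ 0 := fun u hu => (hf.nondegenerate u hu).1
  obtain ⟨d, hdd⟩ : ∃ d : F, J * J = d • 1 := by
    obtain ⟨a, b, hab⟩ := hgen _ (K.mul_mem hJK hJK)
    refine ⟨a, ?_⟩
    by_cases hb : b = 0
    · rw [hab, hb, zero_smul, add_zero]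
    exfalso
    apply hJ0
    refine Matrix.ext_of_mulVec_single fun i => ?_
    by_contra hi
    rw [zero_mulVec] at hi
    obtain ⟨v, hv⟩ := hne _ hi
    have h1 : f ((J * J) *ᵥ v) (Pi.single i 1) = f v ((J * J) *ᵥ Pi.single i 1) := by
      rw [← mulVec_mulVec, ← mulVec_mulVec, hskew, hskew, neg_neg]
    rw [hab] at h1
    simp only [add_mulVec, smul_mulVec, one_mulVec, hf.bilinear.add_left, hf.bilinear.add_right,
      hf.bilinear.smul_left, hf.bilinear.smul_right, hskew] at h1
    have : (2 * b) * f v (J *ᵥ Pi.single i 1) = 0 := by linear_combination -h1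
    exact hv ((mul_eq_zero.1 this).resolve_left (mul_ne_zero h2 hb))
  have hd0 : d ≠ 0 := by
    intro hd
    obtain ⟨y, -, hy⟩ := hK.inv _ hJK hJ0
    exact hJ0 (by
      calc J = J * (J * y) := by rw [hy, mul_one]
        _ = 0 := by rw [← mul_assoc, hdd, hd, zero_smul, zero_mul])
  have S : Sk f (Matrix.toLin' J) d := ⟨hf, h4, h2, h5,
    fun x y => by simpa using hskew x y,
    fun x => by simp [mulVec_mulVec, hdd, smul_mulVec], hd0⟩
  refine S.maximal fun h => ⟨fun hh => ⟨hh.2, ?_⟩, fun ⟨hi, hcase⟩ => ⟨?_, hi⟩⟩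
  · -- the conjugate of the generator is the generator up to sign
    obtain ⟨a, b, hab⟩ := hgen _ ((hh.1 J).1 hJK)
    have hconj : (h : Matrix ι ι F) * J = (a • 1 + b • J) * (h : Matrix ι ι F) := by
      rw [← hab, mul_assoc, ← Units.val_mul, inv_mul_cancel, Units.val_one, mul_one]
    have hv : ∀ x, (h : Matrix ι ι F) *ᵥ (J *ᵥ x)
        = a • ((h : Matrix ι ι F) *ᵥ x) + b • (J *ᵥ ((h : Matrix ι ι F) *ᵥ x)) := fun x => by
      rw [mulVec_mulVec, hconj, ← mulVec_mulVec, add_mulVec, smul_mulVec, smul_mulVec, one_mulVec]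
    obtain ⟨i⟩ : Nonempty ι := Fintype.card_pos_iff.1 (by omega)
    set x : ι → F := Pi.single i 1
    have hx0 : x ≠ 0 := fun h => one_ne_zero (α := F) (by simpa [x] using congrFun h i)
    obtain ⟨y, hy⟩ := (hf.nondegenerate x hx0).2
    have hhi := mem_isoOf.1 hh.2
    have hb0 : ∀ p q, a * f p q + b * f p (J *ᵥ q) = f (((h⁻¹ : GL ι F) : Matrix ι ι F) *ᵥ p)
        (J *ᵥ (((h⁻¹ : GL ι F) : Matrix ι ι F) *ᵥ q)) := fun p q => by
      conv_rhs => rw [← hhi]
      rw [hv, gl_mulVec_inv_mulVec, gl_mulVec_inv_mulVec, hf.bilinear.add_right,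
        hf.bilinear.smul_right, hf.bilinear.smul_right]
    have ha : a = 0 := by
      have h1 := hb0 x y
      have h2' := hb0 y x
      have e : ∀ p q, f q (J *ᵥ p) = f p (J *ᵥ q) := fun p q => by
        rw [hf.skew, hskew, neg_neg]
      rw [e x y, e (((h⁻¹ : GL ι F) : Matrix ι ι F) *ᵥ x), hf.skew y x] at h2'
      exact (mul_eq_zero.1 (show (2 * a) * f x y = 0 by linear_combination h1 - h2')).resolve_right
        hy |> (fun e => (mul_eq_zero.1 e).resolve_left h2)
    have hb : b * b = 1 := by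
      have hJJ : ∀ z, J *ᵥ (J *ᵥ z) = d • z := fun z => by
        rw [mulVec_mulVec, hdd, smul_mulVec, one_mulVec]
      have h1 := hv (J *ᵥ x)
      rw [hv x, ha, hJJ, mulVec_smul] at h1
      simp only [zero_smul, zero_add, mulVec_smul, hJJ, smul_smul, zero_mul] at h1
      have h3 := smul_left_injective F (gl_mulVec_ne_zero h hx0) h1
      exact mul_left_cancel₀ hd0 (by linear_combination -h3)
    rcases mul_self_eq_one_iff.1 hb with e | e
    · left; intro z; simp [hv, ha, e]
    · right; intro z; simp [hv, ha, e]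
  · obtain ⟨s, hs⟩ : ∃ s : F, ∀ x, (h : Matrix ι ι F) *ᵥ (J *ᵥ x)
        = s • (J *ᵥ ((h : Matrix ι ι F) *ᵥ x)) := by
      rcases hcase with hC | hA
      · exact ⟨1, fun x => by simpa using hC x⟩
      · exact ⟨-1, fun x => by simpa using hA x⟩
    have hm : (h : Matrix ι ι F) * J = (s • J) * (h : Matrix ι ι F) :=
      Matrix.ext_of_mulVec_single fun i => by
        rw [← mulVec_mulVec, hs, ← mulVec_mulVec, smul_mulVec]
    refine SympUnitary.mem_normalizer_of fun k hk => ?_
    obtain ⟨a, b, rfl⟩ := hgen k hk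
    rw [mul_add, mul_smul_comm, mul_smul_comm, mul_one, hm, add_mul, smul_mul_assoc,
      smul_mul_assoc, mul_assoc, ← Units.val_mul, mul_inv_cancel, Units.val_one, mul_one]
    exact K.add_mem (K.smul_mem K.one_mem a) (K.smul_mem (K.smul_mem hJK s) b)

end CfsgLib.ClassicalMax.SympFour
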