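/-
Subfield groups are maximal in the symplectic group.
-/
import Cfsg.Agent.Lib.ClassicalMax.SympShort
import Cfsg.Agent.Lib.ClassicalMax.RatSubfield
set_option autoImplicit false

namespace CfsgLib.ClassicalMax.SympSub

open Matrix Cfsg.Geo

variable {ι : Type} [Fintype ι] [DecidableEq ι] {F : Type*} [Field F] {F₀ : Subfield F}

/-- A rational structure carrying a scalar multiple of a symplectic form. -/
structure Rat (f : (ι → F) → (ι → F) → F) (P : GL ι F) (ζ : F)
    (B : (ι → F₀) → (ι → F₀) → F₀) : Prop where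
  hf : IsSymplecticForm f
  hB : IsSymplecticForm B
  ζ_ne : ζ ≠ 0
  coe_B : ∀ x y, (B x y : F) = ζ * f (ratVec P x) (ratVec P y)

variable {f : (ι → F) → (ι → F) → F} {P : GL ι F} {ζ : F} {B : (ι → F₀) → (ι → F₀) → F₀}

lemma Rat.orth (R : Rat f P ζ B) {x y : ι → F₀} (h : B x y = 0) :
    f (ratVec P x) (ratVec P y) = 0 := by
  have := R.coe_B x y
  rw [h] at this
  exact (mul_eq_zero.1 this.symm).resolve_left R.ζ_ne

lemma rat_of_structure (hf : IsSymplecticForm f) (hζ : ζ ≠ 0)
    (hP : IsFormRationalStructure f F₀ ζ P) : ∃ B, Rat (F₀ := F₀) f P ζ B := by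
  let B : (ι → F₀) → (ι → F₀) → F₀ := fun u v =>
    ⟨ζ * f (ratVec P u) (ratVec P v), hP _ _ (fun i => (u i).2) (fun i => (v i).2)⟩
  have hBbil : IsBilinearForm B := {
    add_left := fun x y v => Subtype.ext (by
      change ζ * f (ratVec P (x + y)) (ratVec P v)
        = ζ * f (ratVec P x) (ratVec P v) + ζ * f (ratVec P y) (ratVec P v)
      rw [ratVec_add, hf.bilinear.add_left, mul_add])
    smul_left := fun c x v => Subtype.ext (by
      change ζ * f (ratVec P (c • x)) (ratVec P v) = (c : F) * (ζ * f (ratVec P x) (ratVec P v))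
      rw [ratVec_smul, hf.bilinear.smul_left]; ring)
    add_right := fun v x y => Subtype.ext (by
      change ζ * f (ratVec P v) (ratVec P (x + y))
        = ζ * f (ratVec P v) (ratVec P x) + ζ * f (ratVec P v) (ratVec P y)
      rw [ratVec_add, hf.bilinear.add_right, mul_add])
    smul_right := fun c v x => Subtype.ext (by
      change ζ * f (ratVec P v) (ratVec P (c • x)) = (c : F) * (ζ * f (ratVec P v) (ratVec P x))
      rw [ratVec_smul, hf.bilinear.smul_right]; ring) }
  have hskew : ∀ u v, B u v = -B v u := fun u v => Subtype.ext (by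
    change ζ * f (ratVec P u) (ratVec P v) = -(ζ * f (ratVec P v) (ratVec P u))
    rw [hf.skew]; ring)
  refine ⟨B, hf, ⟨hBbil, hskew, fun u => Subtype.ext (by
    change ζ * f (ratVec P u) (ratVec P u) = 0
    rw [hf.alternating, mul_zero]), fun v hv => ?_⟩, hζ, fun _ _ => rfl⟩
  suffices h : ∃ x, B x v ≠ 0 by
    obtain ⟨x, hx⟩ := h
    exact ⟨⟨x, hx⟩, ⟨x, fun e => hx (by rw [hskew, e, neg_zero])⟩⟩
  by_contra hcon
  push Not at hcon
  refine hv (ratVec_injective P ?_)
  rw [show ratVec (F₀ := F₀) P 0 = 0 by simp [ratVec, show (fun _ : ι => (0 : F)) = 0 from rfl]]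
  by_contra h0
  obtain ⟨x, hx⟩ := (hf.nondegenerate _ h0).1
  apply hx
  rw [eq_sum_ratVec (F₀ := F₀) P x, ← bilinOf_apply hf.bilinear, map_sum, LinearMap.sum_apply]
  refine Finset.sum_eq_zero fun i _ => ?_
  have : ζ * f (ratVec P (Pi.single i 1)) (ratVec P v) = 0 := congrArg Subtype.val (hcon _)
  rw [map_smul, LinearMap.smul_apply, bilinOf_apply, (mul_eq_zero.1 this).resolve_left hζ, smul_zero]

variable [DecidableEq F]

lemma Rat.sTv_rat (R : Rat f P ζ B) (v x : ι → F₀) (c : F₀) :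
    (sTv f (ratVec P v) (ζ * c) : Matrix ι ι F) *ᵥ ratVec P x
      = ratVec P ((sTv B v c : Matrix ι ι F₀) *ᵥ x) := by
  rw [sTv_mulVec R.hf, sTv_mulVec R.hB, ratVec_add, ratVec_smul, Subfield.coe_mul, R.coe_B]
  congr 2
  ring

/-- The rational transvections all lie in `M`. -/
def Contains (f : (ι → F) → (ι → F) → F) (P : GL ι F) (ζ : F) (F₀ : Subfield F)
    (M : Subgroup (GL ι F)) : Prop :=
  ∀ (v : ι → F₀) (c : F₀), sTv f (ratVec P v) (ζ * c) ∈ M

variable {M : Subgroup (GL ι F)}

lemma Contains.lift (R : Rat f P ζ B) (hM : Contains f P ζ F₀ M) {t₀ : GL ι F₀}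
    (ht₀ : t₀ ∈ Subgroup.closure {t | ∃ v c, t = sTv B v c}) :
    ∃ t ∈ M ⊓ isoOf f, ∀ x, (t : Matrix ι ι F) *ᵥ ratVec P x
      = ratVec P ((t₀ : Matrix ι ι F₀) *ᵥ x) := by
  induction ht₀ using Subgroup.closure_induction with
  | mem t ht =>
    obtain ⟨v, c, rfl⟩ := ht
    exact ⟨_, ⟨hM v c, sTv_mem_isoOf R.hf _ _⟩, fun x => R.sTv_rat v x c⟩
  | one => exact ⟨1, one_mem _, fun x => by simp⟩
  | mul a b _ _ iha ihb =>
    obtain ⟨s, hs, hs'⟩ := iha
    obtain ⟨t, ht, ht'⟩ := ihb
    exact ⟨s * t, mul_mem hs ht, fun x => by rw [gl_mulVec_mul, ht', hs', gl_mulVec_mul]⟩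
  | inv a _ iha =>
    obtain ⟨s, hs, hs'⟩ := iha
    refine ⟨s⁻¹, inv_mem hs, fun x => gl_mulVec_injective s ?_⟩
    simp [hs']

lemma Contains.sh_mem (R : Rat f P ζ B) (hM : Contains f P ζ F₀ M) {u v : ι → F₀} (h : B u v = 0)
    (c : F₀) : sh f (ratVec P u) (ratVec P v) (ζ * c) ∈ M := by
  have h1 := sTv_add_smul R.hf (R.orth h) (c : F) ζ
  rw [← ratVec_smul, ← ratVec_add] at h1
  have h2 := hM (u + c • v) 1
  simp only [Subfield.coe_one, mul_one] at h2
  rw [h1] at h2
  have h3 := hM v (c ^ 2)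
  simp only [SubmonoidClass.coe_pow] at h3
  have h4 := hM u 1
  simp only [Subfield.coe_one, mul_one] at h4
  exact (M.mul_mem_cancel_left h4).1 ((M.mul_mem_cancel_right h3).1 h2)

/-- The parameter `b` occurs on every totally isotropic rational pair. -/
def Good (f : (ι → F) → (ι → F) → F) (P : GL ι F) (ζ : F) (B : (ι → F₀) → (ι → F₀) → F₀)
    (M : Subgroup (GL ι F)) (b : F) : Prop :=
  ∀ p q : ι → F₀, LinearIndependent F₀ ![p, q] → B p q = 0 →
    sh f (ratVec P p) (ratVec P q) (ζ * b) ∈ M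

lemma good_of_pair (R : Rat f P ζ B) (hM : Contains f P ζ F₀ M) {p₀ q₀ : ι → F₀}
    (h₀ : LinearIndependent F₀ ![p₀, q₀]) (h₀' : B p₀ q₀ = 0) {b : F}
    (hb : sh f (ratVec P p₀) (ratVec P q₀) (ζ * b) ∈ M) : Good f P ζ B M b := by
  intro p q hpq hpq'
  obtain ⟨t₀, ht₀, e1, e2⟩ := exists_iso_pair R.hB h₀ hpq h₀' hpq'
  obtain ⟨t, ht, hte⟩ := Contains.lift R hM ht₀
  have := M.mul_mem (M.mul_mem ht.1 hb) (M.inv_mem ht.1)
  rwa [sh_conj R.hf ht.2, hte, hte, e1, e2] at this

lemma li_of_orth_ne (hB : IsSymplecticForm B) {q r z : ι → F₀} (hqr : B q r = 0)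
    (hqz : B q z ≠ 0) (hr : r ≠ 0) : LinearIndependent F₀ ![z, r] := by
  refine LinearIndependent.pair_iff.2 fun s t h => ?_
  have h1 := congrArg (fun w => B q w) h
  simp only [hB.bilinear.add_right, hB.bilinear.smul_right, hqr, mul_zero, add_zero,
    form_zero_right hB.bilinear] at h1
  have hs := (mul_eq_zero.1 h1).resolve_right hqz
  rw [hs, zero_smul, zero_add, smul_eq_zero] at h
  exact ⟨hs, h.resolve_right hr⟩

lemma ne_of_notMem_span {k : ℕ} {v : Fin k → ι → F₀} {r : ι → F₀}
    (h : r ∉ Submodule.span F₀ (Set.range v)) : r ≠ 0 := fun e => h (e ▸ zero_mem _)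

lemma good_mul (R : Rat f P ζ B) (hM : Contains f P ζ F₀ M) (hn : 4 < Fintype.card ι) {b c : F}
    (hb : Good f P ζ B M b) (hc : Good f P ζ B M c) : Good f P ζ B M (b * c) := by
  intro p q hpq hpq'
  have hf := R.hf
  have hB := R.hB
  obtain ⟨r, hr, hrs⟩ := exists_orth_extend hB.bilinear ![p, q] (by omega)
  have hli : LinearIndependent F₀ ![p, r, q] := by
    have h1 : LinearIndependent F₀ (Matrix.vecCons r ![p, q]) :=
      linearIndependent_finCons.2 ⟨hpq, hrs⟩
    convert h1.comp ![1, 0, 2] (by decide) using 1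
    funext i; fin_cases i <;> rfl
  obtain ⟨z, hz⟩ := exists_pairing hB hli ![0, 0, 1]
  have hpr : B p r = 0 := hr 0
  have hqr : B q r = 0 := hr 1
  have hpz : B p z = 0 := hz 0
  have hrz : B r z = 0 := hz 1
  have hqz : B q z = 1 := hz 2
  have hzr : B z r = 0 := (form_symplectic_eq_zero_comm hB).1 hrz
  have hs := hc z r (li_of_orth_ne hB hqr (by rw [hqz]; exact one_ne_zero) (ne_of_notMem_span hrs)) hzr
  have hsi := sh_mem_isoOf hf (ratVec P z) (ratVec P r) (ζ * c)
  have e1 : (sh f (ratVec P z) (ratVec P r) (ζ * c) : Matrix ι ι F) *ᵥ ratVec P p = ratVec P p := by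
    rw [sh_mulVec hf (R.orth hzr), R.orth hpr, R.orth hpz]; simp
  have e2 : (sh f (ratVec P z) (ratVec P r) (ζ * c) : Matrix ι ι F) *ᵥ ratVec P q
      = ratVec P q + c • ratVec P r := by
    have h : ζ * f (ratVec P q) (ratVec P z) = 1 := by rw [← R.coe_B, hqz, Subfield.coe_one]
    rw [sh_mulVec hf (R.orth hzr), R.orth hqr, mul_zero, zero_smul, add_zero,
      mul_comm ζ c, mul_assoc, h, mul_one]
  have hb' := hb p q hpq hpq'
  have h1 := M.mul_mem (M.mul_mem hs hb') (M.inv_mem hs)
  rw [sh_conj hf hsi, e1, e2] at h1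
  have hpcr : f (ratVec P p) (c • ratVec P r) = 0 := by
    rw [hf.bilinear.smul_right, R.orth hpr, mul_zero]
  have h2 := M.mul_mem h1 (M.inv_mem hb')
  rw [sh_div hf (R.orth hpq') hpcr, hf.bilinear.smul_right, R.orth hqr, mul_zero, mul_zero,
    neg_zero, sTv_zero, mul_one, sh_smul_right hf (R.orth hpr)] at h2
  refine good_of_pair R hM (p₀ := p) (q₀ := r) ?_ hpr ?_ p q hpq hpq'
  · convert hli.comp ![0, 1] (by decide) using 1
    funext i; fin_cases i <;> rfl
  · rwa [show c * (ζ * b) = ζ * (b * c) by ring] at h2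

/-- The parameter product in four dimensions, odd characteristic. -/
lemma good_mul_odd (R : Rat f P ζ B) (hM : Contains f P ζ F₀ M) (hn : 4 ≤ Fintype.card ι)
    (h2 : (2 : F) ≠ 0) {b c : F} (hb : Good f P ζ B M b) (hc : Good f P ζ B M c) :
    Good f P ζ B M (b * c) := by
  have hf := R.hf
  have hB := R.hB
  have hT : ∀ p : ι → F₀, p ≠ 0 → sTv f (ratVec P p) (ζ * (2 * b * c)) ∈ M := by
    intro p hp
    obtain ⟨q, hq, hqs⟩ := exists_orth_extend hB.bilinear ![p] (by omega)
    have hpq : LinearIndependent F₀ ![p, q] := by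
      rw [LinearIndependent.pair_iff' hp]
      intro s e
      exact hqs (Submodule.mem_span_range_iff_exists_fun F₀ |>.2 ⟨![s], by simp [e]⟩)
    obtain ⟨q', hq'⟩ := exists_pairing hB hpq ![0, 1]
    have e0 : B p q = 0 := hq 0
    have e1 : B p q' = 0 := hq' 0
    have e2 : B q q' = 1 := hq' 1
    have hpq' : LinearIndependent F₀ ![p, q'] := by
      rw [LinearIndependent.pair_iff' hp]
      intro s e
      rw [← e, hB.bilinear.smul_right, (form_symplectic_eq_zero_comm hB).1 e0, mul_zero] at e2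
      exact zero_ne_one e2
    have hx := hb p q hpq e0
    have hy := hc p q' hpq' e1
    have h1 := M.mul_mem (M.mul_mem hx hy) (M.inv_mem hx)
    have hqq' : ζ * f (ratVec P q') (ratVec P q) = -1 := by
      rw [← R.coe_B, hB.skew, e2]; simp
    have hqp' : f (ratVec P q') (ratVec P p) = 0 := (form_symplectic_eq_zero_comm hf).1 (R.orth e1)
    rw [sh_conj hf (sh_mem_isoOf hf _ _ _), sh_mulVec hf (R.orth e0), sh_mulVec hf (R.orth e0),
      R.orth e0, hf.alternating, hqp'] at h1
    simp only [mul_zero, zero_smul, add_zero, mul_assoc ζ b, mul_left_comm ζ b, hqq'] at h1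
    have hz : f (ratVec P p) ((b * -1) • ratVec P p) = 0 := by
      rw [hf.bilinear.smul_right, hf.alternating, mul_zero]
    have h2' := M.mul_mem h1 (M.inv_mem hy)
    rw [sh_div hf (R.orth e1) hz, hf.bilinear.smul_right, hqp'] at h2'
    simp only [mul_zero, neg_zero, sTv_zero, mul_one] at h2'
    have e : sh f (ratVec P p) ((b * -1) • ratVec P p) (ζ * c)
        = sTv f (ratVec P p) (2 * (-b * (ζ * c))) := by
      refine gl_ext_mulVec fun a => ?_
      rw [sh_mulVec hf hz, sTv_mulVec hf, hf.bilinear.smul_right]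
      module
    rw [e] at h2'
    have h3 := M.inv_mem h2'
    rw [sTv_inv hf] at h3
    rwa [show -(2 * (-b * (ζ * c))) = ζ * (2 * b * c) by ring] at h3
  intro p q hpq hpq'
  have h2₀ : (2 : F₀) ≠ 0 := fun h => h2 (congrArg Subtype.val h)
  set q' : ι → F₀ := (2 : F₀)⁻¹ • q with hq'
  have hp0 : p ≠ 0 := hpq.ne_zero 0
  have hq0 : q' ≠ 0 := smul_ne_zero (inv_ne_zero h2₀) (hpq.ne_zero 1)
  have hsum : p + q' ≠ 0 := fun e =>
    one_ne_zero (α := F₀) (LinearIndependent.pair_iff.1 hpq 1 (2 : F₀)⁻¹ (by rw [one_smul]; exact e)).1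
  have hB' : B p q' = 0 := by rw [hq', hB.bilinear.smul_right, hpq', mul_zero]
  have h := hT _ hsum
  rw [ratVec_add, show ratVec P p + ratVec P q' = ratVec P p + (1 : F) • ratVec P q' by rw [one_smul],
    sTv_add_smul hf (R.orth hB'), mul_one, one_pow, mul_one] at h
  have hs := (M.mul_mem_cancel_left (hT p hp0)).1 ((M.mul_mem_cancel_right (hT q' hq0)).1 h)
  rw [hq', ratVec_smul, sh_smul_right hf (R.orth hpq')] at hs
  convert hs using 2
  rw [Subfield.coe_inv, show ((2 : F₀) : F) = 2 from rfl]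
  field_simp

lemma sTv_ratVec_mem (R : Rat f P ζ B) (hM : Contains f P ζ F₀ M) (hn : 4 ≤ Fintype.card ι)
    (hall : ∀ b, Good f P ζ B M b) {w : ι → F₀} (hw : w ≠ 0) (b : F) :
    sTv f (ratVec P w) (ζ * b ^ 2) ∈ M := by
  have hf := R.hf
  have hB := R.hB
  obtain ⟨v, hv, hvs⟩ := exists_orth_extend hB.bilinear ![w] (by omega)
  have hli : LinearIndependent F₀ ![v, w] :=
    linearIndependent_finCons.2 ⟨LinearIndependent.of_subsingleton 0 hw, hvs⟩
  obtain ⟨z, hz⟩ := exists_pairing hB hli ![1, 0]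
  have hwv : B w v = 0 := hv 0
  have hvw : B v w = 0 := (form_symplectic_eq_zero_comm hB).1 hwv
  have hvz : B v z = 1 := hz 0
  have hwz : B w z = 0 := hz 1
  have hzw : B z w = 0 := (form_symplectic_eq_zero_comm hB).1 hwz
  have hs := hall b z w (li_of_orth_ne hB hvw (by rw [hvz]; exact one_ne_zero) hw) hzw
  have e1 : (sh f (ratVec P z) (ratVec P w) (ζ * b) : Matrix ι ι F) *ᵥ ratVec P v
      = ratVec P v + b • ratVec P w := by
    have h : ζ * f (ratVec P v) (ratVec P z) = 1 := by rw [← R.coe_B, hvz, Subfield.coe_one]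
    rw [sh_mulVec hf (R.orth hzw), R.orth hvw, mul_zero, zero_smul, add_zero, mul_comm ζ b,
      mul_assoc, h, mul_one]
  have h4 := hM v 1
  simp only [Subfield.coe_one, mul_one] at h4
  have h1 := M.mul_mem (M.mul_mem hs h4) (M.inv_mem hs)
  rw [sTv_conj hf (sh_mem_isoOf hf _ _ _), e1, sTv_add_smul hf (R.orth hvw)] at h1
  exact (M.mul_mem_cancel_left (M.mul_mem h4 (hall b v w hli hvw))).1 h1

/-- The parameter product of one transvection of `M`, odd characteristic. -/
lemma good_of_transvection_odd (R : Rat f P ζ B) (hM : Contains f P ζ F₀ M) (hn : 4 ≤ Fintype.card ι)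
    (h2 : (2 : F) ≠ 0) {u : ι → F} (hu : sTv f u ζ ∈ M) {x y : ι → F₀}
    (hxy : LinearIndependent F₀ ![x, y]) (hxy' : B x y = 0) :
    Good f P ζ B M (ζ * f u (ratVec P x) * (ζ * f u (ratVec P y))) := by
  have hf := R.hf
  have hB := R.hB
  obtain ⟨x', hx'⟩ := exists_pairing hB hxy ![1, 0]
  set X := ratVec P x
  set X' := ratVec P x'
  set Y := ratVec P y
  have hXX' : ζ * f X X' = 1 := by
    rw [← R.coe_B, show B x x' = 1 from hx' 0, Subfield.coe_one]
  have hX'X : ζ * f X' X = -1 := by rw [hf.skew, mul_neg, hXX']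
  have hXY : f X Y = 0 := R.orth hxy'
  have hYX : f Y X = 0 := (form_symplectic_eq_zero_comm hf).1 hXY
  have hYX' : f Y X' = 0 := R.orth (hx' 1)
  have hX'Y : f X' Y = 0 := (form_symplectic_eq_zero_comm hf).1 hYX'
  set w := sTv f X ζ * sTv f X' ζ * sTv f X ζ with hwdef
  have hTX : sTv f X ζ ∈ M := by simpa using hM x 1
  have hTX' : sTv f X' ζ ∈ M := by simpa using hM x' 1
  have hTY : sTv f Y ζ ∈ M := by simpa using hM y 1
  have hw : w ∈ M ⊓ isoOf f := mul_mem (mul_mem ⟨hTX, sTv_mem_isoOf hf _ _⟩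
    ⟨hTX', sTv_mem_isoOf hf _ _⟩) ⟨hTX, sTv_mem_isoOf hf _ _⟩
  have hwX : (w : Matrix ι ι F) *ᵥ X = X' := by
    simp only [hwdef, gl_mulVec_mul, sTv_mulVec hf, hf.alternating, mul_zero, zero_smul, add_zero,
      hf.bilinear.add_left, hf.bilinear.smul_left, hXX', one_mul, zero_add, hX'X]
    module
  have hwX' : (w : Matrix ι ι F) *ᵥ X' = -X := by
    simp only [hwdef, gl_mulVec_mul, sTv_mulVec hf, hf.alternating, mul_zero, zero_smul, add_zero,
      hf.bilinear.add_left, hf.bilinear.smul_left, hX'X, hXX', neg_mul, one_mul, mul_one, zero_add,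
      mul_neg]
    module
  have hwz : ∀ a, f a X = 0 → f a X' = 0 → (w : Matrix ι ι F) *ᵥ a = a := fun a h h' => by
    rw [hwdef, gl_mulVec_mul, gl_mulVec_mul, sTv_mulVec_of_orth hf _ h,
      sTv_mulVec_of_orth hf _ h', sTv_mulVec_of_orth hf _ h]
  set i := w * w
  have hi : i ∈ M ⊓ isoOf f := mul_mem hw hw
  have hiX : (i : Matrix ι ι F) *ᵥ X = -X := by rw [gl_mulVec_mul, hwX, hwX']
  have hiX' : (i : Matrix ι ι F) *ᵥ X' = -X' := by
    rw [gl_mulVec_mul, hwX', mulVec_neg, hwX]
  -- components of `u`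
  set u₁ := (ζ * f u X') • X - (ζ * f u X) • X' with hu₁
  set z := u - u₁ with hz
  have hu₁X : f u₁ X = f u X := by
    rw [hu₁, form_sub_left hf.bilinear, hf.bilinear.smul_left, hf.bilinear.smul_left,
      hf.alternating]
    linear_combination -(f u X) * hX'X
  have hu₁X' : f u₁ X' = f u X' := by
    rw [hu₁, form_sub_left hf.bilinear, hf.bilinear.smul_left, hf.bilinear.smul_left,
      hf.alternating]
    linear_combination (f u X') * hXX'
  have hzX : f z X = 0 := by rw [hz, form_sub_left hf.bilinear, hu₁X, sub_self]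
  have hzX' : f z X' = 0 := by rw [hz, form_sub_left hf.bilinear, hu₁X', sub_self]
  have hYu₁ : f Y u₁ = 0 := by
    rw [hu₁, form_sub_right hf.bilinear, hf.bilinear.smul_right, hf.bilinear.smul_right, hYX, hYX']
    ring
  have hu₁Y : f u₁ Y = 0 := (form_symplectic_eq_zero_comm hf).1 hYu₁
  have hu₁z : f u₁ z = 0 := by
    rw [(form_symplectic_eq_zero_comm hf), hu₁, form_sub_right hf.bilinear,
      hf.bilinear.smul_right, hf.bilinear.smul_right, hzX, hzX']
    ring
  have hiu₁ : (i : Matrix ι ι F) *ᵥ u₁ = -u₁ := by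
    rw [hu₁, mulVec_sub, mulVec_smul, mulVec_smul, hiX, hiX']
    module
  have hiz : (i : Matrix ι ι F) *ᵥ z = z := by rw [gl_mulVec_mul, hwz z hzX hzX', hwz z hzX hzX']
  have hiY : (i : Matrix ι ι F) *ᵥ Y = Y := by rw [gl_mulVec_mul, hwz Y hYX hYX', hwz Y hYX hYX']
  -- the product of the two commuting conjugate transvections
  have hq : sh f u₁ z (2 * ζ) ∈ M := by
    have h := M.mul_mem hu (M.mul_mem (M.mul_mem hi.1 (M.inv_mem hu)) (M.inv_mem hi.1))
    rw [sTv_inv hf, sTv_conj hf hi.2, show u = u₁ + z from (add_sub_cancel _ _).symm, mulVec_add,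
      hiu₁, hiz] at h
    convert h using 1
    have hzu₁ := (form_symplectic_eq_zero_comm hf).1 hu₁z
    refine gl_ext_mulVec fun a => ?_
    have hn₁ : ∀ b, f (-u₁) b = - f u₁ b := fun b => LinearMap.map_neg₂ (bilinOf hf.bilinear) u₁ b
    simp only [gl_mulVec_mul, sh_mulVec hf hu₁z, sTv_mulVec hf, hf.bilinear.add_left,
      hf.bilinear.smul_left, hf.bilinear.add_right, form_neg_right hf.bilinear, hn₁, hf.alternating,
      hu₁z, hzu₁]
    module
  -- separate a summand of the second argument using `i`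
  have split : ∀ (ε b : F) (p v a : ι → F), ε * ε = 1 → f p v = 0 → f p a = 0 →
      (i : Matrix ι ι F) *ᵥ p = ε • p → (i : Matrix ι ι F) *ᵥ a = (-ε) • a →
      sh f p v b ∈ M → sh f p (v + a) b ∈ M → sh f p a (2 * b) ∈ M := by
    intro ε b p v a hε hpv hpa hip hia h h'
    have hD := M.mul_mem h' (M.inv_mem h)
    rw [sh_div hf hpv hpa] at hD
    set k := -(b ^ 2 * f v a)
    have hD' := M.mul_mem (M.mul_mem hi.1 hD) (M.inv_mem hi.1)
    rw [show i * (sh f p a b * sTv f p k) * i⁻¹ = i * sh f p a b * i⁻¹ * (i * sTv f p k * i⁻¹) by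
      group, sh_conj hf hi.2, sTv_conj hf hi.2, hip, hia, sTv_smul_vec hf,
      sh_smul_left hf (by rw [hf.bilinear.smul_right, hpa, mul_zero]), sh_smul_right hf hpa,
      show ε ^ 2 * k = k by linear_combination k * hε,
      show -ε * (ε * b) = -b by linear_combination -b * hε] at hD'
    have := M.mul_mem hD (M.inv_mem hD')
    rwa [_root_.mul_inv_rev, mul_assoc, mul_inv_cancel_left, sh_inv hf hpa, neg_neg,
      sh_add hf hpa, ← two_mul] at this
  have hζ := R.ζ_ne
  -- first step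
  have s1 : sh f Y u₁ (4 * ζ * (ζ * f z Y)) ∈ M := by
    have h' := M.mul_mem (M.mul_mem hTY hq) (M.inv_mem hTY)
    rw [sh_conj hf (sTv_mem_isoOf hf _ _), sTv_mulVec_of_orth hf _ hu₁Y, sTv_mulVec hf] at h'
    have hza : f u₁ ((ζ * f z Y) • Y) = 0 := by rw [hf.bilinear.smul_right, hu₁Y, mul_zero]
    have := split (-1) _ u₁ z _ (by ring) hu₁z hza (by rw [neg_one_smul]; exact hiu₁)
      (by rw [neg_neg, one_smul, mulVec_smul, hiY]) hq h'
    rw [sh_smul_right hf hu₁Y, ← sh_comm hf hYu₁] at this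
    convert this using 2
    ring
  have s2 : sh f Y X (8 * ζ * (ζ * f z Y) * (ζ * f u₁ X)) ∈ M := by
    have h' := M.mul_mem (M.mul_mem hTX s1) (M.inv_mem hTX)
    rw [sh_conj hf (sTv_mem_isoOf hf _ _), sTv_mulVec_of_orth hf _ hYX, sTv_mulVec hf] at h'
    have hxa : f Y ((ζ * f u₁ X) • X) = 0 := by rw [hf.bilinear.smul_right, hYX, mul_zero]
    have := split 1 _ Y u₁ _ (by ring) hYu₁ hxa (by rw [one_smul]; exact hiY)
      (by rw [mulVec_smul, hiX, neg_one_smul, smul_neg]) s1 h'
    rw [sh_smul_right hf hYX] at this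
    convert this using 2
    ring
  have hzY : f z Y = f u Y := by rw [hz, form_sub_left hf.bilinear, hu₁Y, sub_zero]
  rw [hzY, hu₁X, sh_comm hf hYX] at s2
  -- rescale
  have h8 : (8 : F₀) ≠ 0 := fun h => by
    have h' : (8 : F) = 0 := congrArg Subtype.val h
    exact h2 (eq_zero_of_pow_eq_zero (n := 3) (by linear_combination h'))
  refine good_of_pair R hM (p₀ := x) (q₀ := (8 : F₀) • y) ?_ ?_ ?_
  · refine LinearIndependent.pair_iff.2 fun s t hst => ?_
    rw [smul_smul] at hst
    have := LinearIndependent.pair_iff.1 hxy s (t * 8) hst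
    exact ⟨this.1, (mul_eq_zero.1 this.2).resolve_right h8⟩
  · rw [hB.bilinear.smul_right, hxy', mul_zero]
  · rw [ratVec_smul, sh_smul_right hf hXY]
    convert s2 using 2
    rw [show ((8 : F₀) : F) = 8 from rfl]
    ring

/-- The parameter product of one transvection of `M`, characteristic two. -/
lemma good_of_transvection_two (R : Rat f P ζ B) (hM : Contains f P ζ F₀ M) (hn : 4 < Fintype.card ι)
    (h2 : (2 : F) = 0) {u : ι → F} (hu : sTv f u ζ ∈ M) {v y : ι → F₀}
    (hvy : LinearIndependent F₀ ![v, y]) (hvy' : B v y = 0) :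
    Good f P ζ B M (ζ * f u (ratVec P v) * (ζ * f u (ratVec P y))) := by
  have hf := R.hf
  have hB := R.hB
  obtain ⟨z, hz, hzs⟩ := exists_orth_extend hB.bilinear ![v, y] (by omega)
  have hli₃ : LinearIndependent F₀ ![z, v, y] := linearIndependent_finCons.2 ⟨hvy, hzs⟩
  obtain ⟨q, hq⟩ := exists_pairing hB hli₃ ![1, 0, 0]
  have o : ∀ {a b : ι → F₀}, B a b = 0 →
      f (ratVec P a) (ratVec P b) = 0 ∧ f (ratVec P b) (ratVec P a) = 0 :=
    fun h => ⟨R.orth h, (form_symplectic_eq_zero_comm hf).1 (R.orth h)⟩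
  obtain ⟨hVY, hYV⟩ := o hvy'
  obtain ⟨hVZ, hZV⟩ := o (show B v z = 0 from hz 0)
  obtain ⟨hYZ, hZY⟩ := o (show B y z = 0 from hz 1)
  obtain ⟨hVQ, hQV⟩ := o (show B v q = 0 from hq 1)
  obtain ⟨hYQ, -⟩ := o (show B y q = 0 from hq 2)
  have hZQ : ζ * f (ratVec P z) (ratVec P q) = 1 := by
    rw [← R.coe_B, show B z q = 1 from hq 0, Subfield.coe_one]
  set ψ : (ι → F) → F := fun a => ζ * f u a with hψ
  set d := ψ (ratVec P y) • (ratVec P v) + ψ (ratVec P v) • (ratVec P y) with hd
  have hperp : ∀ a, f a (ratVec P v) = 0 → f a (ratVec P y) = 0 → f a d = 0 ∧ f d a = 0 :=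
    fun a e1 e2 => by
    have : f a d = 0 := by
      rw [hd, hf.bilinear.add_right, hf.bilinear.smul_right, hf.bilinear.smul_right, e1, e2]
      ring
    exact ⟨this, (form_symplectic_eq_zero_comm hf).1 this⟩
  have hud : f u d = 0 := by
    rw [hd, hf.bilinear.add_right, hf.bilinear.smul_right, hf.bilinear.smul_right]
    simp only [hψ]
    linear_combination (ζ * f u (ratVec P v) * f u (ratVec P y)) * h2
  have hdu : f d u = 0 := (form_symplectic_eq_zero_comm hf).1 hud
  obtain ⟨-, hdY⟩ := hperp (ratVec P y) hYV (hf.alternating _)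
  obtain ⟨-, hdZ⟩ := hperp (ratVec P z) hZV hZY
  obtain ⟨-, hdV⟩ := hperp (ratVec P v) (hf.alternating _) hVY
  obtain ⟨-, hdQ⟩ := hperp (ratVec P q) hQV ((form_symplectic_eq_zero_comm hf).1 hYQ)
  -- the commuting pair of conjugate transvections
  have hX0 : sh f d u ζ * sTv f d ζ ∈ M := by
    have hh := Contains.sh_mem R hM hvy' 1
    rw [Subfield.coe_one, mul_one] at hh
    have h := M.mul_mem (M.mul_mem hh hu) (M.inv_mem hh)
    rw [sTv_conj hf (sh_mem_isoOf hf _ _ _), sh_mulVec hf hVY, add_assoc,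
      show (ζ * f u (ratVec P y)) • (ratVec P v) + (ζ * f u (ratVec P v)) • (ratVec P y) = (1 : F) • d by rw [one_smul],
      sTv_add_smul hf hud, mul_one, one_pow, mul_one, ← sh_comm hf hdu, mul_assoc] at h
    exact (M.mul_mem_cancel_left hu).1 h
  -- its commutators with rational transvections
  have hD : ∀ a : ι → F₀, f d (ratVec P a) = 0 →
      sh f d (ψ (ratVec P a) • ratVec P a) ζ * sTv f d (-(ζ * ψ (ratVec P a) ^ 2)) ∈ M := by
    intro a ha
    have hT : sTv f (ratVec P a) ζ ∈ M := by simpa using hM a 1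
    have hTi := sTv_mem_isoOf hf (ratVec P a) ζ
    have h := M.mul_mem (M.mul_mem hT hX0) (M.inv_mem hT)
    rw [show ∀ g x y : GL ι F, g * (x * y) * g⁻¹ = g * x * g⁻¹ * (g * y * g⁻¹) from
      fun g x y => by group, sh_conj hf hTi, sTv_conj hf hTi, sTv_mulVec_of_orth hf _ ha,
      sTv_mulVec hf] at h
    have h' := M.mul_mem h (M.inv_mem hX0)
    have hdσ : f d ((ζ * f u (ratVec P a)) • ratVec P a) = 0 := by
      rw [hf.bilinear.smul_right, ha, mul_zero]
    rw [_root_.mul_inv_rev, mul_assoc, mul_inv_cancel_left, sh_div hf hdu hdσ] at h'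
    convert h' using 3
    · simp only [hψ, hf.bilinear.smul_right]
      ring
  have hψadd : ψ (ratVec P y + ratVec P z) = ψ (ratVec P y) + ψ (ratVec P z) := by
    simp only [hψ, hf.bilinear.add_right, mul_add]
  have hdYZ : f d (ratVec P y + ratVec P z) = 0 := by rw [hf.bilinear.add_right, hdY, hdZ, add_zero]
  have comb : ∀ {a b : ι → F} (k l : F), f d a = 0 → f d b = 0 → f b a = 0 →
      sh f d a ζ * sTv f d k * (sh f d b ζ * sTv f d l)
        = sh f d (a + b) ζ * sTv f d (k + l) := by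
    intro a b k l ha hb hba
    rw [mul_assoc, ← mul_assoc (sTv f d k), sh_sTv_comm hf hb, mul_assoc (sh f d b ζ),
      sTv_add hf, ← mul_assoc, sh_add_vec hf ha hb, hba, mul_zero, sTv_zero, mul_one]
  have hX : sh f d (ψ (ratVec P z) • ratVec P y + ψ (ratVec P y) • ratVec P z) ζ ∈ M := by
    have h1 := hD y hdY
    have h2' := hD z hdZ
    have h3 := hD (y + z) (by rw [ratVec_add]; exact hdYZ)
    rw [ratVec_add, hψadd] at h3
    have hm := M.mul_mem (M.mul_mem h1 h2') h3
    have a1 : f d (ψ (ratVec P y) • ratVec P y) = 0 := by rw [hf.bilinear.smul_right, hdY, mul_zero]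
    have a2 : f d (ψ (ratVec P z) • ratVec P z) = 0 := by rw [hf.bilinear.smul_right, hdZ, mul_zero]
    have a3 : f d ((ψ (ratVec P y) + ψ (ratVec P z)) • (ratVec P y + ratVec P z)) = 0 := by
      rw [hf.bilinear.smul_right, hdYZ, mul_zero]
    rw [comb _ _ a1 a2 (by simp [hf.bilinear.smul_left, hf.bilinear.smul_right, hZY]),
      comb _ _ (by rw [hf.bilinear.add_right, a1, a2, add_zero]) a3
        (by simp [hf.bilinear.add_left, hf.bilinear.add_right, hf.bilinear.smul_left,
          hf.bilinear.smul_right, hZY, hYZ, hf.alternating])] at hm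
    rw [show -(ζ * ψ (ratVec P y) ^ 2) + -(ζ * ψ (ratVec P z) ^ 2)
        + -(ζ * (ψ (ratVec P y) + ψ (ratVec P z)) ^ 2) = 0 by
      linear_combination (-(ζ * (ψ (ratVec P y) ^ 2 + ψ (ratVec P z) ^ 2
        + ψ (ratVec P y) * ψ (ratVec P z)))) * h2, sTv_zero, mul_one] at hm
    convert hm using 2
    have e : ψ (ratVec P y) • ratVec P y + ψ (ratVec P z) • ratVec P z
          + (ψ (ratVec P y) + ψ (ratVec P z)) • (ratVec P y + ratVec P z)
        = (2 * ψ (ratVec P y)) • ratVec P y + (2 * ψ (ratVec P z)) • ratVec P z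
          + (ψ (ratVec P z) • ratVec P y + ψ (ratVec P y) • ratVec P z) := by module
    rw [e, h2, zero_mul, zero_mul, zero_smul, zero_smul, zero_add, zero_add]
  -- isolation
  have hX2 : sh f d (ratVec P v) (ψ (ratVec P y) * ζ) ∈ M := by
    have hh := Contains.sh_mem R hM ((form_symplectic_eq_zero_comm hB).1 (hq 1) : B q v = 0) 1
    rw [Subfield.coe_one, mul_one] at hh
    have h := M.mul_mem (M.mul_mem hh hX) (M.inv_mem hh)
    have ed : (sh f (ratVec P q) (ratVec P v) ζ : Matrix ι ι F) *ᵥ d = d := by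
      rw [sh_mulVec hf hQV, hdQ, hdV]; simp
    have eY : (sh f (ratVec P q) (ratVec P v) ζ : Matrix ι ι F) *ᵥ ratVec P y = ratVec P y := by
      rw [sh_mulVec hf hQV, hYV, hYQ]; simp
    have eZ : (sh f (ratVec P q) (ratVec P v) ζ : Matrix ι ι F) *ᵥ ratVec P z
        = ratVec P z + ratVec P v := by
      rw [sh_mulVec hf hQV, hZV, hZQ]; simp
    rw [sh_conj hf (sh_mem_isoOf hf _ _ _), ed, mulVec_add, mulVec_smul, mulVec_smul, eY, eZ,
      smul_add, ← add_assoc] at h
    have h' := M.mul_mem h (M.inv_mem hX)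
    have e0 : f d (ψ (ratVec P z) • ratVec P y + ψ (ratVec P y) • ratVec P z) = 0 := by
      simp [hf.bilinear.add_right, hf.bilinear.smul_right, hdY, hdZ]
    rw [sh_div hf e0 (by rw [hf.bilinear.smul_right, hdV, mul_zero]), hf.bilinear.add_left,
      hf.bilinear.smul_left, hf.bilinear.smul_left, hf.bilinear.smul_right, hf.bilinear.smul_right,
      hYV, hZV, sh_smul_right hf hdV] at h'
    simpa [sTv_zero] using h'
  have hk : sh f d (ratVec P v) (ψ (ratVec P y) * ζ)
      = sh f (ratVec P v) (ratVec P y) (ψ (ratVec P v) * (ψ (ratVec P y) * ζ)) := by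
    refine gl_ext_mulVec fun a => ?_
    rw [sh_mulVec hf hdV, sh_mulVec hf hVY, hd]
    simp only [hf.bilinear.add_right, hf.bilinear.smul_right]
    have h0 : (2 : F) * (ψ (ratVec P y) * ζ * ψ (ratVec P y) * f a (ratVec P v)) = 0 := by
      rw [h2, zero_mul]
    linear_combination (norm := module) congrArg (fun c => c • ratVec P v) h0
  rw [hk] at hX2
  refine good_of_pair R hM (p₀ := v) (q₀ := y) hvy hvy' ?_
  convert hX2 using 2
  simp only [hψ]
  ring

/-- A function with rational products on orthogonal pairs has values on one rational line. -/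
lemma div_mem_of_products (hB : IsSymplecticForm B) (hn : 4 ≤ Fintype.card ι) (ψ : (ι → F₀) → F)
    (hadd : ∀ x y, ψ (x + y) = ψ x + ψ y) (hsmul : ∀ (c : F₀) x, ψ (c • x) = c * ψ x)
    (hprod : ∀ x y, LinearIndependent F₀ ![x, y] → B x y = 0 → ψ x * ψ y ∈ F₀)
    {x x' : ι → F₀} (hx : ψ x ≠ 0) : ψ x' / ψ x ∈ F₀ := by
  have hne : ∀ {x}, ψ x ≠ 0 → x ≠ 0 := fun {x} h e => h (by
    have := hsmul 0 x
    rw [zero_smul] at this
    rw [e, show ψ 0 = _ from this]; simp)
  have horth : ∀ {a b}, ψ a ≠ 0 → B a b = 0 → ψ b / ψ a ∈ F₀ := by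
    intro a b ha hab
    by_cases hli : LinearIndependent F₀ ![a, b]
    · have h1 := hprod a b hli hab
      have h2 := hprod a (a + b) (LinearIndependent.pair_iff.2 fun s t h => by
        have := LinearIndependent.pair_iff.1 hli (s + t) t (by rw [← h]; module)
        exact ⟨by simpa [this.2] using this.1, this.2⟩)
        (by rw [hB.bilinear.add_right, hB.alternating, hab, add_zero])
      rw [hadd, mul_add] at h2
      have h3 : ψ a * ψ a ∈ F₀ := by simpa using F₀.sub_mem h2 h1
      rw [← mul_div_mul_left _ _ ha]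
      exact F₀.div_mem h1 h3
    · rw [LinearIndependent.pair_iff' (hne ha)] at hli
      push Not at hli
      obtain ⟨c, rfl⟩ := hli
      rw [hsmul, mul_div_cancel_right₀ _ ha]
      exact c.2
  by_cases h : B x x' = 0
  · exact horth hx h
  by_cases hx' : ψ x' = 0
  · rw [hx', zero_div]; exact F₀.zero_mem
  have hli : LinearIndependent F₀ ![x, x'] := by
    rw [LinearIndependent.pair_iff' (hne hx)]
    intro c e
    exact h (by rw [← e, hB.bilinear.smul_right, hB.alternating, mul_zero])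
  obtain ⟨y, hy, hys⟩ : ∃ y, (∀ i, B (![x, x'] i) y = 0) ∧
      y ∉ Submodule.span F₀ (Set.range ![x, x']) := by
    let L : (ι → F₀) →ₗ[F₀] (Fin 2 → F₀) := LinearMap.pi fun i => bilinOf hB.bilinear (![x, x'] i)
    have h1 := LinearMap.finrank_range_add_finrank_ker L
    have h2 : Module.finrank F₀ (LinearMap.range L) ≤ 2 := by
      simpa using Submodule.finrank_le (LinearMap.range L)
    rw [Module.finrank_fintype_fun_eq_card] at h1
    obtain ⟨y, hy, hy0⟩ := Submodule.exists_mem_ne_zero_of_ne_bot (p := LinearMap.ker L) fun e => by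
      rw [e, finrank_bot] at h1; omega
    have hy1 : B x y = 0 := congrFun hy 0
    have hy2 : B x' y = 0 := congrFun hy 1
    refine ⟨y, fun i => congrFun hy i, fun hmem => hy0 ?_⟩
    rw [Matrix.range_cons_cons_empty, Submodule.mem_span_pair] at hmem
    obtain ⟨s, t, rfl⟩ := hmem
    simp only [hB.bilinear.add_right, hB.bilinear.smul_right, hB.alternating, mul_zero, zero_add,
      add_zero, mul_eq_zero] at hy1 hy2
    rw [hy1.resolve_right h, hy2.resolve_right (isoOf_comm_zero hB h), zero_smul, zero_smul,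
      add_zero]
  have hli₃ : LinearIndependent F₀ ![y, x, x'] := linearIndependent_finCons.2 ⟨hli, hys⟩
  obtain ⟨y', hy'⟩ := exists_pairing hB hli₃ ![1, 0, 0]
  have trans : ∀ {a}, B x a = 0 → B x' a = 0 → ψ a ≠ 0 → ψ x' / ψ x ∈ F₀ := by
    intro a h1 h2 ha
    rw [← div_mul_div_cancel₀ ha]
    exact F₀.mul_mem (horth ha ((form_symplectic_eq_zero_comm hB).1 h2)) (horth hx h1)
  by_cases hψy : ψ y = 0
  · by_cases hψy' : ψ y' = 0
    · set t := B x x'
      have h1 : ψ (x + t • y') = ψ x := by rw [hadd, hsmul, hψy', mul_zero, add_zero]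
      have h2 : ψ (x' + y) = ψ x' := by rw [hadd, hψy, add_zero]
      rw [← h1, ← h2]
      refine horth (by rwa [h1]) ?_
      have e1 : B x y = 0 := hy 0
      have e2 : B y' x' = 0 := (form_symplectic_eq_zero_comm hB).1 (hy' 2)
      have e3 : B y' y = -1 := by rw [hB.skew, show B y y' = 1 from hy' 0]
      rw [hB.bilinear.add_left, hB.bilinear.add_right, hB.bilinear.add_right,
        hB.bilinear.smul_left, hB.bilinear.smul_left, e1, e2, e3]
      ring
    · exact trans (hy' 1) (hy' 2) hψy'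
  · exact trans (hy 0) (hy 1) hψy

theorem symp_subfield_maximal_of_four [Fintype F] (hf : IsSymplecticForm f)
    (hn : 4 ≤ Fintype.card ι) (hn2 : 4 < Fintype.card ι ∨ (2 : F) ≠ 0)
    (r : ℕ) (hr : r.Prime) (hcard : Fintype.card F = Nat.card F₀ ^ r) (hζ : ζ ≠ 0)
    (hP : IsFormRationalStructure f F₀ ζ P) :
    IsMaximalIn (isoOf f) (subfieldSubgroup F₀ P ⊓ isoOf f) := by
  classical
  obtain ⟨B, R⟩ := rat_of_structure hf hζ hP
  have hB := R.hB
  haveI := Fintype.ofFinite F₀
  have hfr : Module.finrank F₀ F = r := by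
    have h := Module.card_eq_pow_finrank (K := F₀) (V := F)
    rw [hcard, Nat.card_eq_fintype_card] at h
    exact (Nat.pow_right_injective Fintype.one_lt_card h).symm
  haveI : IsSimpleOrder (Subalgebra F₀ F) := Subalgebra.isSimpleOrder_of_finrank_prime _ _ (hfr ▸ hr)
  have hH : Contains f P ζ F₀ (subfieldSubgroup F₀ P ⊓ isoOf f) := fun v c =>
    ⟨mem_subfieldSubgroup_of_rat P (g₀ := sTv B v c) one_ne_zero
      (fun j => by rw [R.sTv_rat, one_smul]), sTv_mem_isoOf hf _ _⟩
  refine isMaximalIn_of inf_le_right ?_ ?_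
  · obtain ⟨θ, hθ⟩ : ∃ θ : F, θ ∉ F₀ := by
      by_contra hcon
      push Not at hcon
      have e : Nat.card F₀ = Fintype.card F := by
        rw [← Nat.card_eq_fintype_card]
        exact Nat.card_congr (Equiv.subtypeUnivEquiv hcon)
      have : Nat.card F₀ ^ 1 = Nat.card F₀ ^ r := by rw [pow_one, ← hcard, e]
      exact hr.ne_one (Nat.pow_right_injective (by rw [e]; exact Fintype.one_lt_card) this).symm
    obtain ⟨i⟩ : Nonempty ι := Fintype.card_pos_iff.1 (by omega)
    set x : ι → F₀ := Pi.single i 1 with hx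
    have hx0 : x ≠ 0 := fun h => one_ne_zero (α := F₀) (by simpa [hx] using congrFun h i)
    obtain ⟨y, hy⟩ := (hB.nondegenerate x hx0).1
    obtain ⟨j, hji, hj⟩ : ∃ j, j ≠ i ∧ y j ≠ 0 := by
      by_contra hcon
      push Not at hcon
      apply hy
      rw [show y = y i • x from funext fun k => by
        by_cases hk : k = i
        · subst hk; simp [hx]
        · simp [hx, hk, hcon k hk], hB.bilinear.smul_left, hB.alternating, mul_zero]
    refine ⟨sTv f (ratVec P x) (ζ * θ), sTv_mem_isoOf hf _ _, fun h => ?_⟩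
    obtain ⟨l, z, hz⟩ := exists_of_mem_subfieldSubgroup P h.1 y
    rw [sTv_mulVec hf] at hz
    simp only [ratVec, ← mulVec_smul, ← mulVec_add] at hz
    have hco := fun k => congrFun (gl_mulVec_injective P hz) k
    have hj' := hco j
    simp [hx, hji] at hj'
    have hzj : (z j : F) ≠ 0 := fun e => hj (by
      rw [e, mul_zero] at hj'; exact Subtype.ext (by simpa using hj'))
    have hl : l ∈ F₀ := by
      rw [show l = (y j : F) / z j by rw [hj', mul_div_cancel_right₀ _ hzj]]
      exact F₀.div_mem (y j).2 (z j).2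
    have hi' := hco i
    simp only [Pi.add_apply, Pi.smul_apply, smul_eq_mul] at hi'
    have hxi : ((x i : F₀) : F) = 1 := by simp [hx]
    have hBc : (B y x : F) = ζ * f (ratVec P y) (ratVec P x) := R.coe_B y x
    simp only [ratVec] at hBc
    rw [hxi, mul_one] at hi'
    refine hθ ?_
    have hB0 : (B y x : F) ≠ 0 := fun e => hy (Subtype.ext (by simpa using e))
    rw [show θ = (l * z i - y i) / (B y x : F) by
      rw [eq_div_iff hB0, hBc, ← hi']; ring]
    exact F₀.div_mem (F₀.sub_mem (F₀.mul_mem hl (z i).2) (y i).2) (B y x).2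
  intro M hHM hMK g hgM hgH
  have hgi := hMK hgM
  have hM : Contains f P ζ F₀ M := fun v c => hHM (hH v c)
  obtain ⟨x, hx⟩ : ∃ x : ι → F₀, ∀ (l : F) (r : ι → F₀),
      (g : Matrix ι ι F) *ᵥ ratVec P x ≠ l • ratVec P r := by
    by_contra hcon
    push Not at hcon
    exact hgH ⟨mem_subfieldSubgroup_of_forall P hcon, hgi⟩
  set u := (g : Matrix ι ι F) *ᵥ ratVec P x
  have hu : sTv f u ζ ∈ M := by
    rw [← sTv_conj hf hgi]
    exact M.mul_mem (M.mul_mem hgM (by simpa using hM x 1)) (M.inv_mem hgM)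
  let ψ : (ι → F₀) → F := fun y => ζ * f u (ratVec P y)
  have hψadd : ∀ a b, ψ (a + b) = ψ a + ψ b := fun a b => by
    simp only [ψ, ratVec_add, hf.bilinear.add_right, mul_add]
  have hψsmul : ∀ (c : F₀) a, ψ (c • a) = c * ψ a := fun c a => by
    simp only [ψ, ratVec_smul, hf.bilinear.smul_right]; ring
  have hprod : ∀ v y, LinearIndependent F₀ ![v, y] → B v y = 0 → Good f P ζ B M (ψ v * ψ y) := by
    intro v y h h'
    by_cases h2 : (2 : F) = 0
    · exact good_of_transvection_two R hM (hn2.resolve_right (not_not.2 h2)) h2 hu h h'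
    · exact good_of_transvection_odd R hM hn h2 hu h h'
  -- a new parameter
  obtain ⟨b, hbF, hb⟩ : ∃ b, b ∉ F₀ ∧ Good f P ζ B M b := by
    by_contra hcon
    push Not at hcon
    have hne : u ≠ 0 := fun h => hx 0 0 (by simp [u] at h ⊢; exact h)
    have hzero : ∀ w, (∀ y : ι → F₀, f w (ratVec P y) = 0) → w = 0 := fun w hw => by
      refine eq_zero_of_form_left hf.nondegenerate fun a => ?_
      rw [eq_sum_ratVec (F₀ := F₀) P a, ← bilinOf_apply hf.bilinear, map_sum]
      exact Finset.sum_eq_zero fun i _ => by rw [map_smul, bilinOf_apply, hw, smul_zero]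
    obtain ⟨x₀, hx₀⟩ : ∃ y, ψ y ≠ 0 := by
      by_contra h
      push Not at h
      exact hne (hzero u fun y => (mul_eq_zero.1 (h y)).resolve_left hζ)
    have hall := fun y => div_mem_of_products hB hn ψ hψadd hψsmul
      (fun a c h1 h2 => by_contra fun h => hcon _ h (hprod a c h1 h2)) (x' := y) hx₀
    let β : (ι → F₀) →ₗ[F₀] F₀ :=
      { toFun := fun y => ⟨_, hall y⟩
        map_add' := fun a c => Subtype.ext (by simp [hψadd, add_div])
        map_smul' := fun c a => Subtype.ext (by simp [hψsmul, mul_div_assoc]) }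
    obtain ⟨w, hw⟩ := exists_form_eq hB.bilinear hB.nondegenerate β
    have hu' : u + ψ x₀ • ratVec P w = 0 := hzero _ fun y => by
      have h1 : (B y w : F) = ψ y / ψ x₀ := congrArg Subtype.val (hw y)
      rw [R.coe_B, eq_div_iff hx₀] at h1
      rw [hf.bilinear.add_left, hf.bilinear.smul_left, hf.skew (ratVec P w) (ratVec P y)]
      have : ζ * (f u (ratVec P y) + ψ x₀ * -f (ratVec P y) (ratVec P w)) = 0 := by
        linear_combination -h1
      exact (mul_eq_zero.1 this).resolve_left hζ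
    exact hx (-ψ x₀) w (by rw [neg_smul]; exact eq_neg_of_add_eq_zero_left hu')
  -- all parameters occur
  let K : Subalgebra F₀ F :=
    { carrier := {b | Good f P ζ B M b}
      mul_mem' := fun ha hc => hn2.elim (fun hn => good_mul R hM hn ha hc)
        fun h2 => good_mul_odd R hM hn h2 ha hc
      one_mem' := fun p q _ h => by simpa using Contains.sh_mem R hM h 1
      add_mem' := fun {a c} ha hc p q h h' => by
        have := M.mul_mem (ha p q h h') (hc p q h h')
        rwa [sh_add hf (R.orth h'), ← mul_add] at this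
      zero_mem' := fun p q _ h => by
        rw [mul_zero, sh_zero hf (R.orth h)]; exact M.one_mem
      algebraMap_mem' := fun c p q _ h => Contains.sh_mem R hM h c }
  have hall : ∀ c, Good f P ζ B M c := by
    intro c
    rcases IsSimpleOrder.eq_bot_or_eq_top K with h | h
    · have : b ∈ K := hb
      rw [h, Algebra.mem_bot] at this
      obtain ⟨d, hd⟩ := this
      exact absurd (hd ▸ d.2 : b ∈ F₀) hbF
    · have : c ∈ K := h ▸ Algebra.mem_top
      exact this
  have hrat : ∀ w : ι → F₀, ratVec P w ∈ tvSet f M := by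
    intro w c
    by_cases hw : w = 0
    · subst hw
      have : (ratVec P (0 : ι → F₀)) = 0 := by
        simp [ratVec, show (fun _ : ι => (0 : F)) = 0 from rfl]
      rw [this, show sTv f (0 : ι → F) c = 1 from gl_ext_mulVec fun a => by
        rw [sTv_mulVec hf]; simp]
      exact M.one_mem
    have hsq := sTv_ratVec_mem R hM hn hall hw
    rw [show c = ζ * (c / ζ) by field_simp]
    by_cases h2 : (2 : F) = 0
    · haveI : CharP F 2 := CharTwo.of_one_ne_zero_of_two_eq_zero one_ne_zero h2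
      obtain ⟨d, hd⟩ : ∃ d, d ^ 2 = c / ζ := by
        obtain ⟨d, hd⟩ := (Finite.injective_iff_surjective.1 (frobenius_inj F 2)) (c / ζ)
        exact ⟨d, by rwa [frobenius_def] at hd⟩
      rw [← hd]
      exact hsq d
    · have := M.mul_mem (hsq ((c / ζ + 1) / 2)) (M.inv_mem (hsq ((c / ζ - 1) / 2)))
      rw [sTv_inv hf, sTv_add hf] at this
      convert this using 2
      field_simp
      ring
  refine isoOf_le_of_tvSet hf fun v => ?_
  have step : ∀ u' ∈ tvSet f M, ∀ (a : F) (r : ι → F₀), u' + a • ratVec P r ∈ tvSet f M := by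
    have step' : ∀ u' ∈ tvSet f M, ∀ r : ι → F₀, u' + ratVec P r ∈ tvSet f M := by
      intro u' hu' r
      by_cases h0 : u' = 0
      · rw [h0, zero_add]; exact hrat r
      by_cases h1 : u' + ratVec P r = 0
      · rw [h1, ← zero_smul F u']; exact tvSet_smul hf 0 hu'
      by_cases h2 : f u' (ratVec P r) = 0
      swap
      · simpa using tvSet_add_smul hf hu' (hrat r) h2 1
      have hex : ∀ w : ι → F, w ≠ 0 → ∃ y : ι → F₀, f w (ratVec P y) ≠ 0 := fun w hw => by
        by_contra h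
        push Not at h
        refine hw (eq_zero_of_form_left hf.nondegenerate fun a => ?_)
        rw [eq_sum_ratVec (F₀ := F₀) P a, ← bilinOf_apply hf.bilinear, map_sum]
        exact Finset.sum_eq_zero fun i _ => by rw [map_smul, bilinOf_apply, h, smul_zero]
      obtain ⟨y₁, hy₁⟩ := hex u' h0
      obtain ⟨y₂, hy₂⟩ := hex _ h1
      obtain ⟨z, hz1, hz2⟩ : ∃ z : ι → F₀, f u' (ratVec P z) ≠ 0 ∧
          f (u' + ratVec P r) (ratVec P z) ≠ 0 := by
        by_cases e1 : f (u' + ratVec P r) (ratVec P y₁) = 0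
        · by_cases e2 : f u' (ratVec P y₂) = 0
          · refine ⟨y₁ + y₂, ?_, ?_⟩ <;> rw [ratVec_add, hf.bilinear.add_right]
            · rwa [e2, add_zero]
            · rwa [e1, zero_add]
          · exact ⟨y₂, e2, hy₂⟩
        · exact ⟨y₁, hy₁, e1⟩
      have h3 := tvSet_add_smul hf hu' (hrat (r + z)) (by
        rw [ratVec_add, hf.bilinear.add_right, h2, zero_add]; exact hz1) 1
      rw [one_smul, ratVec_add, ← add_assoc] at h3
      have h4 := tvSet_add_smul hf h3 (hrat z) (by
        rwa [hf.bilinear.add_left, hf.alternating, add_zero]) (-1)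
      simpa [neg_one_smul] using h4
    intro u' hu' a r
    by_cases ha : a = 0
    · rw [ha, zero_smul, add_zero]; exact hu'
    have := tvSet_smul hf a (step' _ (tvSet_smul hf a⁻¹ hu') r)
    rwa [smul_add, smul_smul, mul_inv_cancel₀ ha, one_smul] at this
  rw [eq_sum_ratVec (F₀ := F₀) P v]
  induction (Finset.univ : Finset ι) using Finset.induction with
  | empty =>
    rw [Finset.sum_empty, ← zero_smul F (ratVec P (0 : ι → F₀))]
    exact tvSet_smul hf 0 (hrat 0)
  | insert i s hi ih =>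
    rw [Finset.sum_insert hi, add_comm]
    exact step _ ih _ _

theorem symp_subfield_maximal [Fintype F] (hf : IsSymplecticForm f) (hn : 4 < Fintype.card ι)
    (r : ℕ) (hr : r.Prime) (hcard : Fintype.card F = Nat.card F₀ ^ r) (hζ : ζ ≠ 0)
    (hP : IsFormRationalStructure f F₀ ζ P) :
    IsMaximalIn (isoOf f) (subfieldSubgroup F₀ P ⊓ isoOf f) :=
  symp_subfield_maximal_of_four hf hn.le (Or.inl hn) r hr hcard hζ hP

end CfsgLib.ClassicalMax.SympSub
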