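/-
The geometric maximality lemmas for the standard symplectic group, small degrees included.
-/
import Cfsg.Agent.Lib.ClassicalMax.SympParabolic
import Cfsg.Agent.Lib.ClassicalMax.SympDecomp
import Cfsg.Agent.Lib.ClassicalMax.SympPair
import Cfsg.Agent.Lib.ExtFieldSymp.Matrix
import Cfsg.Agent.Lib.ClassicalMax.SympUnitary
import Cfsg.Agent.Lib.ClassicalMax.SympSubfield
import Cfsg.Agent.Lib.ClassicalMax.SympCharTwo
import Cfsg.Agent.Lib.ClassicalMax.STensMax
set_option autoImplicit false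

namespace CfsgLib.ClassicalMax.SympList

open Cfsg Matrix

variable {F : Type*} [Field F] [Fintype F] {m : ℕ}

omit [Fintype F] in
lemma card_index : Fintype.card (Fin m ⊕ Fin m) = 2 * m := by
  rw [Fintype.card_sum, Fintype.card_fin]; omega

lemma two_ne_zero_of_odd (hodd : Odd (Fintype.card F)) : (2 : F) ≠ 0 :=
  Ring.two_ne_zero fun hc => by
    have h := FiniteField.even_card_of_char_two hc
    rw [Nat.odd_iff.1 hodd] at h
    exact one_ne_zero h

theorem singular (W : Submodule F (Fin m ⊕ Fin m → F)) (h0 : W ≠ ⊥)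
    (h : Geo.IsTotallySingularFor (sympForm m F) W) :
    Geo.IsMaximalIn (spGL m F) (Geo.subspaceStabilizer W ⊓ spGL m F) := by
  classical
  rw [spGL_eq_isoOf]
  exact symp_singular_stabilizer_maximal (isSymplecticForm_sympForm m F) W h0 h

theorem nondeg (W : Submodule F (Fin m ⊕ Fin m → F)) (h0 : W ≠ ⊥)
    (h : Geo.IsNondegenerateOn (sympForm m F) W) (hd : Module.finrank F W < m) :
    Geo.IsMaximalIn (spGL m F) (Geo.subspaceStabilizer W ⊓ spGL m F) := by
  classical
  rw [spGL_eq_isoOf]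
  exact symp_nondegenerate_stabilizer_maximal (isSymplecticForm_sympForm m F) W h0 h
    (by rw [card_index]; omega)

theorem decomp {t k : ℕ} (D : Fin t → Submodule F (Fin m ⊕ Fin m → F))
    (hD : Geo.IsNondegenerateMDecomposition (sympForm m F) k D)
    (hex : ¬ (k = 2 ∧ Fintype.card F = 2)) :
    Geo.IsMaximalIn (spGL m F) (Geo.decompositionStabilizer D ⊓ spGL m F) := by
  classical
  rw [spGL_eq_isoOf]
  exact symp_decomposition_stabilizer_maximal (isSymplecticForm_sympForm m F) hD hex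

theorem pair (hm : 3 ≤ m) (hodd : Odd (Fintype.card F))
    (D : Fin 2 → Submodule F (Fin m ⊕ Fin m → F)) (hD : Geo.IsMDecomposition m D)
    (hts : ∀ i, Geo.IsTotallySingularFor (sympForm m F) (D i)) :
    Geo.IsMaximalIn (spGL m F) (Geo.decompositionStabilizer D ⊓ spGL m F) := by
  classical
  rw [spGL_eq_isoOf]
  have hcompl : IsCompl (D 0) (D 1) := by
    refine ⟨hD.indep.pairwiseDisjoint (by decide : (0 : Fin 2) ≠ 1), ?_⟩
    rw [codisjoint_iff, ← hD.iSup_eq_top]
    exact le_antisymm (sup_le (le_iSup D 0) (le_iSup D 1))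
      (iSup_le fun i => by fin_cases i; exacts [le_sup_left, le_sup_right])
  have P : SympPair.Pair (sympForm m F) (D 0) (D 1) := {
    hf := isSymplecticForm_sympForm m F
    tsA := hts 0
    tsB := hts 1
    split := fun x => Submodule.mem_sup.1 (by rw [hcompl.sup_eq_top]; trivial)
    disj := hcompl.inf_eq_bot
    dimA := by rw [hD.finrank_eq]; exact hm
    dimB := by rw [hD.finrank_eq, hD.finrank_eq] }
  exact SympPair.pair_stabilizer_maximal P (two_ne_zero_of_odd hodd) rfl rfl

theorem extField (hm : 3 ≤ m) {r : ℕ} (hr : r.Prime)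
    (K : Subalgebra F (Matrix (Fin m ⊕ Fin m) (Fin m ⊕ Fin m) F))
    (hK : Geo.IsFieldSubalgebra r K) (hsa : Geo.IsSelfAdjointFor (sympForm m F) K)
    (halt : ∀ k ∈ K, ∀ v : (Fin m ⊕ Fin m → F), sympForm m F (Matrix.mulVec k v) v = 0) :
    Geo.IsMaximalIn (spGL m F) (Geo.subalgebraNormalizer K ⊓ spGL m F) := by
  classical
  rw [spGL_eq_isoOf]
  exact CfsgLib.ExtFieldSymp.symp_extField_maximal (isSymplecticForm_sympForm m F) hr
    (by rw [card_index]; omega) hK hsa halt

theorem unitary (hm : 3 ≤ m) (hodd : Odd (Fintype.card F))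
    (K : Subalgebra F (Matrix (Fin m ⊕ Fin m) (Fin m ⊕ Fin m) F))
    (hK : Geo.IsFieldSubalgebra 2 K) (hac : Geo.IsAdjointClosedFor (sympForm m F) K)
    (hns : ¬ Geo.IsSelfAdjointFor (sympForm m F) K) :
    Geo.IsMaximalIn (spGL m F) (Geo.subalgebraNormalizer K ⊓ spGL m F) := by
  classical
  rw [spGL_eq_isoOf]
  exact SympUnitary.unitary_normalizer_maximal (isSymplecticForm_sympForm m F)
    (by rw [card_index]; omega) (two_ne_zero_of_odd hodd) K hK hac hns

theorem subfield (hm : 3 ≤ m) (F₀ : Subfield F) (r : ℕ)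
    (P : Matrix.GeneralLinearGroup (Fin m ⊕ Fin m) F) (ζ : F) (hr : r.Prime)
    (hc : Fintype.card F = Nat.card F₀ ^ r) (hζ : ζ ≠ 0)
    (hP : Geo.IsFormRationalStructure (sympForm m F) F₀ ζ P) :
    Geo.IsMaximalIn (spGL m F) (Geo.subfieldSubgroup F₀ P ⊓ spGL m F) := by
  classical
  rw [spGL_eq_isoOf]
  exact SympSub.symp_subfield_maximal (isSymplecticForm_sympForm m F)
    (by rw [card_index]; omega) r hr hc hζ hP

theorem charTwo (hm : 3 ≤ m) (heven : ¬ Odd (Fintype.card F)) (Q : (Fin m ⊕ Fin m → F) → F)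
    (hQ : Geo.IsNondegenerateQuadraticForm Q)
    (hpol : ∀ u v : (Fin m ⊕ Fin m → F), QuadraticMap.polar Q u v = sympForm m F u v) :
    Geo.IsMaximalIn (spGL m F) (Geo.quadSimilarityGroup Q ⊓ spGL m F) := by
  classical
  rw [spGL_eq_isoOf]
  exact orth_charTwo_maximal (isSymplecticForm_sympForm m F)
    (by rw [card_index]; omega) heven Q hQ.smul hpol

theorem tensor {a b : ℕ} (e : (Fin m ⊕ Fin m) ≃ Fin a × Fin b)
    (P : Matrix.GeneralLinearGroup (Fin m ⊕ Fin m) F) (hodd : Odd (Fintype.card F)) (hb : 3 ≤ b)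
    (ha : a ≠ 0 ∧ ¬ (a = 2 ∧ b = 4)) (hbig : 4 ≤ b ∨ 5 ≤ Fintype.card F)
    {f₁ : (Fin a → F) → (Fin a → F) → F} {f₂ : (Fin b → F) → (Fin b → F) → F}
    (hf₁ : Geo.IsSymplecticForm f₁) (hf₂ : Geo.IsSymmetricForm f₂)
    (hT : Geo.IsTensorFormStructure id (sympForm m F) f₁ f₂ e P) :
    Geo.IsMaximalIn (spGL m F) (Geo.tensorProductSubgroup a b e P ⊓ spGL m F) := by
  classical
  obtain ⟨c, hc0, hc⟩ := hT
  have hf₁' : Geo.IsSymplecticForm fun x y => c * f₁ x y :=
    { bilinear :=
        { add_left := fun x y z => by simp only [hf₁.bilinear.add_left, mul_add]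
          smul_left := fun r x z => by simp only [hf₁.bilinear.smul_left]; ring
          add_right := fun x y z => by simp only [hf₁.bilinear.add_right, mul_add]
          smul_right := fun r x z => by simp only [hf₁.bilinear.smul_right]; ring }
      skew := fun x y => by simp only [hf₁.skew x y]; ring
      alternating := fun x => by simp only [hf₁.alternating, mul_zero]
      nondegenerate := fun v hv => by
        obtain ⟨⟨x, hx⟩, ⟨y, hy⟩⟩ := hf₁.nondegenerate v hv
        exact ⟨⟨x, mul_ne_zero hc0 hx⟩, ⟨y, mul_ne_zero hc0 hy⟩⟩ }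
  rw [spGL_eq_isoOf]
  refine STens.sympOrth_tensor_maximal (isSymplecticForm_sympForm m F) e P hf₁' hf₂
    (fun u u' w w' => ?_) (two_ne_zero_of_odd hodd) ha.1 ha.2 hb
    (by rwa [Nat.card_eq_fintype_card])
  rw [Tensor.form_pureL (σ := id) e P (fun _ _ => rfl) hc
    (Tensor.formOfGram_gram hf₁.bilinear.add_left hf₁.bilinear.smul_left
      hf₁.bilinear.add_right hf₁.bilinear.smul_right)
    (Tensor.formOfGram_gram hf₂.bilinear.add_left hf₂.bilinear.smul_left
      hf₂.bilinear.add_right hf₂.bilinear.smul_right), mul_assoc]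

end CfsgLib.ClassicalMax.SympList
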