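/-
Subfield groups are maximal in the symplectic group: characteristic two, all dimensions.
-/
import Cfsg.Agent.Lib.ClassicalMax.SympSubfield
set_option autoImplicit false

namespace CfsgLib.ClassicalMax.SympSub

open Matrix Cfsg.Geo

variable {ι : Type} [Fintype ι] [DecidableEq ι] {F : Type*} [Field F] [DecidableEq F]
  {F₀ : Subfield F} {f : (ι → F) → (ι → F) → F} {P : GL ι F} {ζ : F}
  {B : (ι → F₀) → (ι → F₀) → F₀} {M : Subgroup (GL ι F)}

/-- The pair of parameters `(x, y)` occurs on every totally isotropic rational pair. -/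
def GoodPair (f : (ι → F) → (ι → F) → F) (P : GL ι F) (ζ : F) (B : (ι → F₀) → (ι → F₀) → F₀)
    (M : Subgroup (GL ι F)) (x y : F) : Prop :=
  ∀ p q : ι → F₀, LinearIndependent F₀ ![p, q] → B p q = 0 →
    sTv f (ratVec P p) (ζ * x) * sh f (ratVec P p) (ratVec P q) (ζ * y) ∈ M

lemma neg_eq_two (h2 : (2 : F) = 0) (a : F) : -a = a := by linear_combination (-a) * h2

lemma sh_self (hf : IsSymplecticForm f) (h2 : (2 : F) = 0) (v : ι → F) (b : F) :
    sh f v v b = 1 := by
  refine gl_ext_mulVec fun x => ?_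
  rw [sh_mulVec hf (hf.alternating v), Units.val_one, one_mulVec, add_assoc, ← add_smul, ← two_mul,
    h2, zero_mul, zero_smul, add_zero]

lemma sh_add_self (hf : IsSymplecticForm f) (h2 : (2 : F) = 0) {p v : ι → F} (hv : f p v = 0)
    (k b : F) : sh f p (v + k • p) b = sh f p v b := by
  have hk : f p (k • p) = 0 := by rw [hf.bilinear.smul_right, hf.alternating, mul_zero]
  have h := sh_add_vec hf hv hk b
  rw [sh_smul_right hf (hf.alternating p), sh_self hf h2, mul_one,
    hf.bilinear.smul_left, hv, mul_zero, mul_zero, sTv_zero, mul_one] at h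
  exact h.symm

lemma sTv_comm_of_orth (hf : IsSymplecticForm f) {v w : ι → F} (h : f v w = 0) (a b : F) :
    Commute (sTv f v a) (sTv f w b) := by
  have h' : f w v = 0 := (form_symplectic_eq_zero_comm hf).1 h
  refine gl_ext_mulVec fun x => ?_
  simp only [gl_mulVec_mul, sTv_mulVec hf, hf.bilinear.add_left, hf.bilinear.smul_left, h, h']
  module

lemma GoodPair.of_pair (R : Rat f P ζ B) (hM : Contains f P ζ F₀ M) {p₀ q₀ : ι → F₀}
    (h₀ : LinearIndependent F₀ ![p₀, q₀]) (h₀' : B p₀ q₀ = 0) {x y : F}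
    (hb : sTv f (ratVec P p₀) (ζ * x) * sh f (ratVec P p₀) (ratVec P q₀) (ζ * y) ∈ M) :
    GoodPair f P ζ B M x y := by
  intro p q hpq hpq'
  obtain ⟨t₀, ht₀, e1, e2⟩ := exists_iso_pair R.hB h₀ hpq h₀' hpq'
  obtain ⟨t, ht, hte⟩ := Contains.lift R hM ht₀
  have := M.mul_mem (M.mul_mem ht.1 hb) (M.inv_mem ht.1)
  rwa [show t * (sTv f (ratVec P p₀) (ζ * x) * sh f (ratVec P p₀) (ratVec P q₀) (ζ * y)) * t⁻¹ =
      t * sTv f (ratVec P p₀) (ζ * x) * t⁻¹ * (t * sh f (ratVec P p₀) (ratVec P q₀) (ζ * y) * t⁻¹) by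
    group, sTv_conj R.hf ht.2, sh_conj R.hf ht.2, hte, hte, e1, e2] at this

lemma GoodPair.add (R : Rat f P ζ B) {x y x' y' : F} (h : GoodPair f P ζ B M x y)
    (h' : GoodPair f P ζ B M x' y') : GoodPair f P ζ B M (x + x') (y + y') := by
  intro p q hpq hpq'
  have := M.mul_mem (h p q hpq hpq') (h' p q hpq hpq')
  rwa [mul_assoc, ← mul_assoc (sh f _ _ (ζ * y)), ← sh_sTv_comm R.hf (R.orth hpq'),
    mul_assoc (sTv f _ (ζ * x')), sh_add R.hf (R.orth hpq'), ← mul_assoc, sTv_add R.hf,
    ← mul_add, ← mul_add] at this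

lemma goodPair_rat (R : Rat f P ζ B) (hM : Contains f P ζ F₀ M) (x y : F₀) :
    GoodPair f P ζ B M x y := fun p _ _ hpq' => M.mul_mem (hM p x) (Contains.sh_mem R hM hpq' y)

lemma exists_partner (R : Rat f P ζ B) {p q : ι → F₀} (hpq : LinearIndependent F₀ ![p, q])
    (hpq' : B p q = 0) : ∃ z, B p z = 0 ∧ B q z = 1 ∧ LinearIndependent F₀ ![p, z] ∧
      ζ * f (ratVec P q) (ratVec P z) = 1 := by
  obtain ⟨z, hz⟩ := exists_pairing R.hB hpq ![0, 1]
  have h1 : B q z = 1 := hz 1
  refine ⟨z, hz 0, h1, ?_, by rw [← R.coe_B, h1, Subfield.coe_one]⟩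
  refine (LinearIndependent.pair_iff' (by simpa using hpq.ne_zero 0 : p ≠ 0)).2 fun c e => ?_
  rw [← e, R.hB.bilinear.smul_right, (form_symplectic_eq_zero_comm R.hB).1 hpq', mul_zero] at h1
  exact zero_ne_one h1

lemma GoodPair.sq (R : Rat f P ζ B) (hM : Contains f P ζ F₀ M) (h2 : (2 : F) = 0) {x y : F}
    {p q : ι → F₀} (hpq : LinearIndependent F₀ ![p, q]) (hpq' : B p q = 0)
    (h : GoodPair f P ζ B M x y) : GoodPair f P ζ B M (y ^ 2) y := by
  have hf := R.hf
  obtain ⟨z, hpz, hqz, hli, hone⟩ := exists_partner R hpq hpq'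
  refine GoodPair.of_pair R hM hli hpz ?_
  have hli' : LinearIndependent F₀ ![p, q + z] := by
    refine (LinearIndependent.pair_iff' (by simpa using hpq.ne_zero 0 : p ≠ 0)).2 fun c e => ?_
    have h1 := congrArg (B q) e
    rw [R.hB.bilinear.smul_right, R.hB.bilinear.add_right, R.hB.alternating,
      (form_symplectic_eq_zero_comm R.hB).1 hpq', hqz, mul_zero, zero_add] at h1
    exact zero_ne_one h1
  have e1 := h p (q + z) hli' (by rw [R.hB.bilinear.add_right, hpq', hpz, add_zero])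
  have h' := h p q hpq hpq'
  rw [ratVec_add] at e1
  have hm := M.mul_mem (M.inv_mem h') e1
  have hpq₁ : f (ratVec P p) (ratVec P q + ratVec P z) = 0 := by
    rw [hf.bilinear.add_right, R.orth hpq', R.orth hpz, add_zero]
  rw [_root_.mul_inv_rev, mul_assoc, inv_mul_cancel_left] at hm
  have hcomm : (sh f (ratVec P p) (ratVec P q) (ζ * y))⁻¹ *
      sh f (ratVec P p) (ratVec P q + ratVec P z) (ζ * y) =
      sh f (ratVec P p) (ratVec P z) (ζ * y) * sTv f (ratVec P p) (ζ * y ^ 2) := by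
    have e := sh_add_vec hf (R.orth hpq') (R.orth hpz) (ζ * y)
    have e' : (ζ * y) ^ 2 * f (ratVec P z) (ratVec P q) = ζ * y ^ 2 := by
      rw [hf.skew, show (ζ * y) ^ 2 * -f (ratVec P q) (ratVec P z) =
        -(ζ * y ^ 2 * (ζ * f (ratVec P q) (ratVec P z))) by ring, hone, mul_one, neg_eq_two h2]
    rw [e'] at e
    rw [eq_mul_inv_of_mul_eq e.symm, mul_assoc, inv_mul_cancel_left, sTv_inv hf, neg_eq_two h2]
  rw [hcomm, ← sh_sTv_comm hf (R.orth hpz)] at hm
  exact hm

lemma GoodPair.long_mul (R : Rat f P ζ B) (hM : Contains f P ζ F₀ M) (h2 : (2 : F) = 0) {x y c : F}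
    {p q : ι → F₀} (hpq : LinearIndependent F₀ ![p, q]) (hpq' : B p q = 0)
    (hc : GoodPair f P ζ B M c 0) (h : GoodPair f P ζ B M x y) :
    GoodPair f P ζ B M (c * y ^ 2) (c * y) := by
  have hf := R.hf
  obtain ⟨z, hpz, hqz, hli, hone⟩ := exists_partner R hpq hpq'
  refine GoodPair.of_pair R hM hli hpz ?_
  have hzp : B z p = 0 := (form_symplectic_eq_zero_comm R.hB).1 hpz
  have ht := hc z p (LinearIndependent.pair_symm_iff.1 hli) hzp
  rw [mul_zero, sh_zero hf (R.orth hzp), mul_one] at ht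
  have h' := h p q hpq hpq'
  have hm := M.mul_mem (M.mul_mem ht h') (M.inv_mem ht)
  have hi := sTv_mem_isoOf hf (ratVec P z) (ζ * c)
  rw [show ∀ t a b : GL ι F, t * (a * b) * t⁻¹ = t * a * t⁻¹ * (t * b * t⁻¹) from
    fun t a b => by group, sTv_conj hf hi, sh_conj hf hi, sTv_mulVec_of_orth hf _ (R.orth hpz),
    sTv_mulVec hf, show ζ * c * f (ratVec P q) (ratVec P z) = c by linear_combination c * hone] at hm
  have h3 := M.mul_mem (M.inv_mem h') hm
  rw [_root_.mul_inv_rev, mul_assoc, inv_mul_cancel_left] at h3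
  have hcz : f (ratVec P p) (c • ratVec P z) = 0 := by
    rw [hf.bilinear.smul_right, R.orth hpz, mul_zero]
  have e := sh_add_vec hf (R.orth hpq') hcz (ζ * y)
  have e' : (ζ * y) ^ 2 * f (c • ratVec P z) (ratVec P q) = ζ * (c * y ^ 2) := by
    rw [hf.bilinear.smul_left, hf.skew, show (ζ * y) ^ 2 * (c * -f (ratVec P q) (ratVec P z)) =
      -(ζ * (c * y ^ 2) * (ζ * f (ratVec P q) (ratVec P z))) by ring, hone, mul_one, neg_eq_two h2]
  rw [e'] at e
  rw [eq_mul_inv_of_mul_eq e.symm, mul_assoc, inv_mul_cancel_left, sTv_inv hf, neg_eq_two h2,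
    sh_smul_right hf (R.orth hpz), ← sh_sTv_comm hf (R.orth hpz),
    show c * (ζ * y) = ζ * (c * y) by ring] at h3
  exact h3

/-- A further transvection gives a pair `(a, a)` with `a` a fourth power of a parameter. -/
lemma goodPair_of_transvection (R : Rat f P ζ B) (hM : Contains f P ζ F₀ M) (h2 : (2 : F) = 0)
    {u : ι → F} (hu : sTv f u ζ ∈ M) {v w : ι → F₀} (hvw : LinearIndependent F₀ ![v, w])
    (hvw' : B v w = 0) :
    GoodPair f P ζ B M ((ζ * f u (ratVec P v)) ^ 4) ((ζ * f u (ratVec P v)) ^ 4) := by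
  have hf := R.hf
  set V := ratVec P v
  set W := ratVec P w
  set p := ζ * f u V with hp
  set s := ζ * f u W with hs
  have hVW : f V W = 0 := R.orth hvw'
  have hWV : f W V = 0 := (form_symplectic_eq_zero_comm hf).1 hVW
  set d := s • V + p • W with hd
  have hud : f u d = 0 := by
    rw [hd, hf.bilinear.add_right, hf.bilinear.smul_right, hf.bilinear.smul_right, hp, hs]
    linear_combination (ζ * f u V * f u W) * h2
  have hdu : f d u = 0 := (form_symplectic_eq_zero_comm hf).1 hud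
  have hdV : f d V = 0 := by
    rw [hd, hf.bilinear.add_left, hf.bilinear.smul_left, hf.bilinear.smul_left, hf.alternating, hWV]
    ring
  -- the commuting pair of conjugate transvections
  have hX0 : sh f d u ζ * sTv f d ζ ∈ M := by
    have hh := Contains.sh_mem R hM hvw' 1
    rw [Subfield.coe_one, mul_one] at hh
    have h := M.mul_mem (M.mul_mem hh hu) (M.inv_mem hh)
    rw [sTv_conj hf (sh_mem_isoOf hf _ _ _), sh_mulVec hf hVW, add_assoc,
      show (ζ * f u W) • V + (ζ * f u V) • W = (1 : F) • d by rw [one_smul],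
      sTv_add_smul hf hud, mul_one, one_pow, mul_one, ← sh_comm hf hdu, mul_assoc] at h
    exact (M.mul_mem_cancel_left hu).1 h
  -- its commutator with a rational transvection
  have hD : sh f d (p • V) ζ * sTv f d (-(ζ * p ^ 2)) ∈ M := by
    have hT : sTv f V ζ ∈ M := by simpa using hM v 1
    have hTi := sTv_mem_isoOf hf V ζ
    have h := M.mul_mem (M.mul_mem hT hX0) (M.inv_mem hT)
    rw [show ∀ g x y : GL ι F, g * (x * y) * g⁻¹ = g * x * g⁻¹ * (g * y * g⁻¹) from
      fun g x y => by group, sh_conj hf hTi, sTv_conj hf hTi, sTv_mulVec_of_orth hf _ hdV,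
      sTv_mulVec hf] at h
    have h' := M.mul_mem h (M.inv_mem hX0)
    have hdσ : f d ((ζ * f u V) • V) = 0 := by rw [hf.bilinear.smul_right, hdV, mul_zero]
    rw [_root_.mul_inv_rev, mul_assoc, mul_inv_cancel_left, sh_div hf hdu hdσ] at h'
    convert h' using 3
    simp only [hf.bilinear.smul_right, hp]
    ring
  -- its coordinates
  have hVW' : ∀ k : F, f V (k • W) = 0 := fun k => by rw [hf.bilinear.smul_right, hVW, mul_zero]
  have e1 : sh f d (p • V) ζ = sh f V W (ζ * p ^ 2) := by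
    rw [sh_smul_right hf hdV, sh_comm hf hdV, hd, add_comm (s • V), sh_add_self hf h2 (hVW' p),
      sh_smul_right hf hVW, show p * (p * ζ) = ζ * p ^ 2 by ring]
  have e2 : sTv f d (-(ζ * p ^ 2)) =
      sTv f W (ζ * p ^ 4) * sh f V W (ζ * (s * p ^ 3)) * sTv f V (ζ * (s ^ 2 * p ^ 2)) := by
    have hpWV : f (p • W) V = 0 := by rw [hf.bilinear.smul_left, hWV, mul_zero]
    rw [neg_eq_two h2, hd, add_comm (s • V), sTv_add_smul hf hpWV, sTv_smul_vec hf,
      sh_smul_left hf hWV, sh_comm hf hWV]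
    congr 1
    · congr 1
      · congr 1; ring
      · congr 1; ring
    · congr 1; ring
  rw [e1, e2] at hD
  -- compare with a conjugate
  obtain ⟨t₀, ht₀, t1, t2⟩ := exists_iso_pair R.hB hvw (a := v) (b := w + v)
    (by
      refine LinearIndependent.pair_iff.2 fun a b hab => ?_
      have := LinearIndependent.pair_iff.1 hvw (a + b) b (by rw [← hab]; module)
      exact ⟨by simpa [this.2] using this.1, this.2⟩)
    hvw' (by rw [R.hB.bilinear.add_right, hvw', R.hB.alternating, add_zero])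
  obtain ⟨t, ht, hte⟩ := Contains.lift R hM ht₀
  have htV : (t : Matrix ι ι F) *ᵥ V = V := by rw [hte, t1]
  have htW : (t : Matrix ι ι F) *ᵥ W = W + (1 : F) • V := by rw [hte, t2, ratVec_add, one_smul]
  have hD' := M.mul_mem (M.mul_mem ht.1 hD) (M.inv_mem ht.1)
  rw [show ∀ g a b c e : GL ι F, g * (a * (b * c * e)) * g⁻¹ =
      g * a * g⁻¹ * (g * b * g⁻¹ * (g * c * g⁻¹) * (g * e * g⁻¹)) from fun g a b c e => by group,
    sh_conj hf ht.2, sh_conj hf ht.2, sTv_conj hf ht.2, sTv_conj hf ht.2, htV, htW,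
    sh_add_self hf h2 hVW, sh_add_self hf h2 hVW, sTv_add_smul hf hWV, sh_comm hf hWV] at hD'
  refine GoodPair.of_pair R hM hvw hvw' ?_
  have hS : ∀ a b, Commute (sh f V W a) (sh f V W b) := fun a b => by
    rw [Commute, SemiconjBy, sh_add hf hVW, sh_add hf hVW, add_comm]
  have hSV : ∀ a b, Commute (sTv f V a) (sh f V W b) := fun a b => sh_sTv_comm hf hVW b a
  have hSW : ∀ a b, Commute (sTv f W a) (sh f V W b) := fun a b => by
    rw [sh_comm hf hVW]; exact sh_sTv_comm hf hWV b a
  have hVWc : ∀ a b, Commute (sTv f V a) (sTv f W b) := fun a b => sTv_comm_of_orth hf hVW a b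
  have := M.mul_mem hD' (M.inv_mem hD)
  set A := sh f V W (ζ * p ^ 2)
  set T := sTv f W (ζ * p ^ 4)
  set S := sh f V W (ζ * (s * p ^ 3))
  set U := sTv f V (ζ * (s ^ 2 * p ^ 2))
  have e : sTv f V (ζ * p ^ 4) * sh f V W (ζ * p ^ 4) =
      A * (T * sh f V W (ζ * p ^ 4 * 1) * sTv f V (ζ * p ^ 4 * 1 ^ 2) * S * U) * (A * (T * S * U))⁻¹ := by
    rw [one_pow, mul_one, eq_mul_inv_iff_mul_eq]
    set N := sh f V W (ζ * p ^ 4)
    set L := sTv f V (ζ * p ^ 4)
    have c1 : Commute (L * N) A := (hSV _ _).mul_left (hS _ _)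
    have c2 : Commute (L * N) T := (hVWc _ _).mul_left (hSW _ _).symm
    calc L * N * (A * (T * S * U)) = A * (L * N) * (T * S * U) := by rw [← mul_assoc, c1.eq]
      _ = A * (T * (L * N) * S * U) := by
          rw [← c2.eq]; simp only [mul_assoc]
      _ = A * (T * N * L * S * U) := by rw [(hSV _ _).eq]; simp only [mul_assoc]; rfl
  rwa [e]

lemma GoodPair.scale (R : Rat f P ζ B) {x y : F} (h : GoodPair f P ζ B M x y) {k : F₀}
    (hk : k ≠ 0) : GoodPair f P ζ B M x (k * y) := by
  intro p q hpq hpq'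
  have hli : LinearIndependent F₀ ![p, k • q] := by
    refine LinearIndependent.pair_iff.2 fun s t e => ?_
    have := LinearIndependent.pair_iff.1 hpq s (t * k) (by rw [← e, smul_smul])
    exact ⟨this.1, (mul_eq_zero.1 this.2).resolve_right hk⟩
  have := h p (k • q) hli (by rw [R.hB.bilinear.smul_right, hpq', mul_zero])
  rwa [ratVec_smul, sh_smul_right R.hf (R.orth hpq'), mul_left_comm] at this

/-- The product of two root elements of a plane with parameter a cube root of unity. -/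
lemma sTv_mul_pow_five (hf : IsSymplecticForm f) (h2 : (2 : F) = 0) {a : F}
    (ha : a ^ 2 + a + 1 = 0) {X Y : ι → F} (hXY : ζ * f X Y = 1) :
    (sTv f Y (ζ * a) * sTv f X (ζ * a)) ^ 5 = 1 := by
  set g := sTv f Y (ζ * a) * sTv f X (ζ * a) with hg
  have hYX : ζ * f Y X = 1 := by
    rw [hf.skew, mul_neg, neg_eq_two h2, hXY]
  have e1 : ζ * a * f X Y = a := by linear_combination a * hXY
  have e2 : ζ * a * f Y X = a := by linear_combination a * hYX
  have gX : (g : Matrix ι ι F) *ᵥ X = X + a • Y := by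
    rw [hg, gl_mulVec_mul, sTv_mulVec_of_orth hf _ (hf.alternating X), sTv_mulVec hf, e1]
  have gY : (g : Matrix ι ι F) *ᵥ Y = a • X + a • Y := by
    rw [hg, gl_mulVec_mul, sTv_mulVec hf, sTv_mulVec hf, hf.bilinear.add_left,
      hf.bilinear.smul_left, hf.alternating, e2]
    match_scalars
    · linear_combination a * e1 + ha - a * h2
    · ring
  have key : ∀ x, (g : Matrix ι ι F) *ᵥ ((g : Matrix ι ι F) *ᵥ ((g : Matrix ι ι F) *ᵥ x)) =
      a • ((g : Matrix ι ι F) *ᵥ ((g : Matrix ι ι F) *ᵥ x)) + a • ((g : Matrix ι ι F) *ᵥ x) + x := by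
    intro x
    obtain ⟨b, c, hx⟩ : ∃ b c : F, (g : Matrix ι ι F) *ᵥ x = x + b • X + c • Y := by
      refine ⟨ζ * a * f x X, ζ * a * f (x + (ζ * a * f x X) • X) Y, ?_⟩
      rw [hg, gl_mulVec_mul, sTv_mulVec hf, sTv_mulVec hf]
    simp only [hx, mulVec_add, mulVec_smul, gX, gY]
    match_scalars
    · linear_combination (-a) * h2
    · linear_combination (2 * c - b) * ha + (2 * b - b * a + b * a ^ 2 - c - c * a ^ 2) * h2
    · linear_combination c * ha + (b * a - c * a) * h2
  refine gl_ext_mulVec fun x => ?_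
  simp only [pow_succ, pow_zero, one_mul, gl_mulVec_mul, Units.val_one, one_mulVec, key,
    mulVec_add, mulVec_smul]
  match_scalars
  all_goals first
    | linear_combination (a + 1) * ha - a * h2
    | linear_combination a * ha
    | linear_combination ha - h2

/-- A cube root of unity among the parameters gives a further long parameter. -/
lemma goodPair_omega (R : Rat f P ζ B) (hM : Contains f P ζ F₀ M) (h2 : (2 : F) = 0) {a : F}
    (ha : a ^ 2 + a + 1 = 0) (h : GoodPair f P ζ B M a a) {v w : ι → F₀}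
    (hvw : LinearIndependent F₀ ![v, w]) (hvw' : B v w = 0) :
    GoodPair f P ζ B M (a ^ 2) 0 := by
  have hf := R.hf
  have hwv : LinearIndependent F₀ ![w, v] := LinearIndependent.pair_symm_iff.1 hvw
  obtain ⟨v', hwv', hvv', hli, hone⟩ :=
    exists_partner R hwv ((form_symplectic_eq_zero_comm R.hB).1 hvw')
  have hv'w : B v' w = 0 := (form_symplectic_eq_zero_comm R.hB).1 hwv'
  refine GoodPair.of_pair R hM hwv ((form_symplectic_eq_zero_comm R.hB).1 hvw') ?_
  rw [mul_zero, sh_zero hf (R.orth ((form_symplectic_eq_zero_comm R.hB).1 hvw')), mul_one]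
  set V := ratVec P v
  set V' := ratVec P v'
  set W := ratVec P w
  have hVW : f V W = 0 := R.orth hvw'
  have hWV : f W V = 0 := (form_symplectic_eq_zero_comm hf).1 hVW
  have hV'W : f V' W = 0 := R.orth hv'w
  have hWV' : f W V' = 0 := R.orth hwv'
  set h₁ := sTv f V' (ζ * a) * sh f V' W (ζ * a) with hh₁
  have hh : h₁ ∈ M := h v' w (LinearIndependent.pair_symm_iff.1 hli) hv'w
  have hhi : h₁ ∈ isoOf f := mul_mem (sTv_mem_isoOf hf _ _) (sh_mem_isoOf hf _ _ _)
  set X := V + a • V' with hX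
  have hXW : f X W = 0 := by
    rw [hX, hf.bilinear.add_left, hf.bilinear.smul_left, hVW, hV'W, mul_zero, add_zero]
  have hWX : f W X = 0 := (form_symplectic_eq_zero_comm hf).1 hXW
  have ev : ζ * a * f V V' = a := by linear_combination a * hone
  have hV : (h₁ : Matrix ι ι F) *ᵥ V = X + a • W := by
    rw [hh₁, gl_mulVec_mul, sh_mulVec hf hV'W, hVW, mul_zero, zero_smul, add_zero, ev,
      sTv_mulVec hf, hf.bilinear.add_left, hf.bilinear.smul_left, hWV', mul_zero, add_zero, ev, hX]
    abel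
  have hW : (h₁ : Matrix ι ι F) *ᵥ W = W := by
    rw [hh₁, gl_mulVec_mul, sh_mulVec hf hV'W, hWV', hf.alternating, mul_zero, zero_smul, add_zero,
      zero_smul, add_zero, sTv_mulVec_of_orth hf _ hWV']
  have hm := M.mul_mem (M.mul_mem hh (h v w hvw hvw')) (M.inv_mem hh)
  rw [show ∀ g x y : GL ι F, g * (x * y) * g⁻¹ = g * x * g⁻¹ * (g * y * g⁻¹) from
      fun g x y => by group, sTv_conj hf hhi, sh_conj hf hhi, hV, hW] at hm
  have hshX : sh f (X + a • W) W (ζ * a) = sh f X W (ζ * a) := by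
    rw [sh_comm hf (by rw [hf.bilinear.add_left, hf.bilinear.smul_left, hXW, hf.alternating,
      mul_zero, add_zero]), sh_add_self hf h2 hWX, sh_comm hf hWX]
  have hcW : ∀ k l, Commute (sTv f W k) (sh f X W l) := fun k l => by
    rw [sh_comm hf hXW]; exact sh_sTv_comm hf hWX l k
  have hcX : ∀ k l, Commute (sTv f X k) (sh f X W l) := fun k l => sh_sTv_comm hf hXW l k
  rw [sTv_add_smul hf hXW, hshX, mul_assoc _ (sTv f W _) (sh f X W (ζ * a)), (hcW _ _).eq,
    ← mul_assoc, mul_assoc (sTv f X (ζ * a)), sh_add hf hXW,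
    show ζ * a * a + ζ * a = ζ by linear_combination ζ * ha - ζ * h2,
    show ζ * a * a ^ 2 = ζ by linear_combination (ζ * (a - 1)) * ha,
    (hcX _ _).eq] at hm
  -- split the short root element
  have hWaV' : f W (a • V') = 0 := by rw [hf.bilinear.smul_right, hWV', mul_zero]
  have hsplit : sh f X W ζ = sh f V W ζ * sh f V' W (ζ * a) * sTv f W (ζ * a) := by
    have e := sh_add_vec hf hWV hWaV' ζ
    have e' : ζ ^ 2 * f (a • V') V = ζ * a := by
      rw [hf.bilinear.smul_left, hf.skew, show ζ ^ 2 * (a * -f V V') = -(ζ * a * (ζ * f V V')) by ring,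
        hone, mul_one, neg_eq_two h2]
    rw [e', ← hX, sh_smul_right hf hWV', mul_comm a ζ] at e
    rw [sh_comm hf hXW, sh_comm hf hVW, sh_comm hf hV'W, e, mul_assoc, sTv_add hf, ← two_mul, h2,
      zero_mul, sTv_zero, mul_one]
  have hT2 : sTv f V' (ζ * a) * sTv f V' (ζ * a) = 1 := by
    rw [sTv_add hf, ← two_mul, h2, zero_mul, sTv_zero]
  have hsh : sh f V' W (ζ * a) = h₁ * sTv f V' (ζ * a) := by
    have hc : Commute (sTv f V' (ζ * a)) (sh f V' W (ζ * a)) := sh_sTv_comm hf hV'W _ _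
    rw [hh₁, hc.eq, mul_assoc, hT2, mul_one]
  have hSV : sh f V W ζ ∈ M := by simpa using Contains.sh_mem R hM hvw' 1
  set C := sTv f V' (ζ * a) * sTv f X (ζ * a) with hC
  have hCW : ∀ k, Commute C (sTv f W k) := fun k =>
    (sTv_comm_of_orth hf hV'W _ _).mul_left (sTv_comm_of_orth hf hXW _ _)
  have e : sh f X W ζ * sTv f X (ζ * a) * sTv f W ζ =
      sh f V W ζ * h₁ * (C * sTv f W (ζ * a ^ 2)) := by
    rw [hsplit, hsh, show ζ * a ^ 2 = ζ * a + ζ by linear_combination ζ * ha - (ζ * (a + 1)) * h2,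
      ← sTv_add hf, hC]
    simp only [mul_assoc]
    rw [← mul_assoc (sTv f W (ζ * a)) (sTv f X (ζ * a)),
      ← (sTv_comm_of_orth hf hXW (ζ * a) (ζ * a)).eq]
    simp only [hh₁, mul_assoc]
  rw [e] at hm
  have h5 := M.pow_mem ((M.mul_mem_cancel_left (M.mul_mem hSV hh)).1 hm) 5
  rw [(hCW _).mul_pow, hC, sTv_mul_pow_five hf h2 ha (by
      rw [hX, hf.bilinear.add_left, hf.bilinear.smul_left, hf.alternating, mul_zero, add_zero,
        hone]), one_mul] at h5
  generalize ζ * a ^ 2 = k at h5 ⊢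
  simp only [pow_succ, pow_zero, one_mul, sTv_add hf] at h5
  rwa [show k + k + k + k + k = k by linear_combination (2 * k) * h2] at h5

/-- Subfield groups are maximal in characteristic two. -/
theorem symp_subfield_maximal_two [Fintype F] (hf : IsSymplecticForm f) (hn : 2 < Fintype.card ι)
    (h2 : (2 : F) = 0)
    (r : ℕ) (hr : r.Prime) (hcard : Fintype.card F = Nat.card F₀ ^ r) (hζ : ζ ≠ 0)
    (hP : IsFormRationalStructure f F₀ ζ P) :
    IsMaximalIn (isoOf f) (subfieldSubgroup F₀ P ⊓ isoOf f) := by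
  classical
  obtain ⟨B, R⟩ := rat_of_structure hf hζ hP
  have hB := R.hB
  haveI := Fintype.ofFinite F₀
  have hfr : Module.finrank F₀ F = r := by
    have h := Module.card_eq_pow_finrank (K := F₀) (V := F)
    rw [hcard, Nat.card_eq_fintype_card] at h
    exact (Nat.pow_right_injective Fintype.one_lt_card h).symm
  haveI : IsSimpleOrder (Subalgebra F₀ F) := Subalgebra.isSimpleOrder_of_finrank_prime _ _ (hfr ▸ hr)
  have hH : Contains f P ζ F₀ (subfieldSubgroup F₀ P ⊓ isoOf f) := fun v c =>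
    ⟨mem_subfieldSubgroup_of_rat P (g₀ := sTv B v c) one_ne_zero
      (fun j => by rw [R.sTv_rat, one_smul]), sTv_mem_isoOf hf _ _⟩
  refine isMaximalIn_of inf_le_right ?_ ?_
  · obtain ⟨θ, hθ⟩ : ∃ θ : F, θ ∉ F₀ := by
      by_contra hcon
      push Not at hcon
      have e : Nat.card F₀ = Fintype.card F := by
        rw [← Nat.card_eq_fintype_card]
        exact Nat.card_congr (Equiv.subtypeUnivEquiv hcon)
      have : Nat.card F₀ ^ 1 = Nat.card F₀ ^ r := by rw [pow_one, ← hcard, e]
      exact hr.ne_one (Nat.pow_right_injective (by rw [e]; exact Fintype.one_lt_card) this).symm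
    obtain ⟨i⟩ : Nonempty ι := Fintype.card_pos_iff.1 (by omega)
    set x : ι → F₀ := Pi.single i 1 with hx
    have hx0 : x ≠ 0 := fun h => one_ne_zero (α := F₀) (by simpa [hx] using congrFun h i)
    obtain ⟨y, hy⟩ := (hB.nondegenerate x hx0).1
    obtain ⟨j, hji, hj⟩ : ∃ j, j ≠ i ∧ y j ≠ 0 := by
      by_contra hcon
      push Not at hcon
      apply hy
      rw [show y = y i • x from funext fun k => by
        by_cases hk : k = i
        · subst hk; simp [hx]
        · simp [hx, hk, hcon k hk], hB.bilinear.smul_left, hB.alternating, mul_zero]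
    refine ⟨sTv f (ratVec P x) (ζ * θ), sTv_mem_isoOf hf _ _, fun h => ?_⟩
    obtain ⟨l, z, hz⟩ := exists_of_mem_subfieldSubgroup P h.1 y
    rw [sTv_mulVec hf] at hz
    simp only [ratVec, ← mulVec_smul, ← mulVec_add] at hz
    have hco := fun k => congrFun (gl_mulVec_injective P hz) k
    have hj' := hco j
    simp [hx, hji] at hj'
    have hzj : (z j : F) ≠ 0 := fun e => hj (by
      rw [e, mul_zero] at hj'; exact Subtype.ext (by simpa using hj'))
    have hl : l ∈ F₀ := by
      rw [show l = (y j : F) / z j by rw [hj', mul_div_cancel_right₀ _ hzj]]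
      exact F₀.div_mem (y j).2 (z j).2
    have hi' := hco i
    simp only [Pi.add_apply, Pi.smul_apply, smul_eq_mul] at hi'
    have hxi : ((x i : F₀) : F) = 1 := by simp [hx]
    have hBc : (B y x : F) = ζ * f (ratVec P y) (ratVec P x) := R.coe_B y x
    simp only [ratVec] at hBc
    rw [hxi, mul_one] at hi'
    refine hθ ?_
    have hB0 : (B y x : F) ≠ 0 := fun e => hy (Subtype.ext (by simpa using e))
    rw [show θ = (l * z i - y i) / (B y x : F) by
      rw [eq_div_iff hB0, hBc, ← hi']; ring]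
    exact F₀.div_mem (F₀.sub_mem (F₀.mul_mem hl (z i).2) (y i).2) (B y x).2
  intro M hHM hMK g hgM hgH
  have hgi := hMK hgM
  have hM : Contains f P ζ F₀ M := fun v c => hHM (hH v c)
  obtain ⟨x, hx⟩ : ∃ x : ι → F₀, ∀ (l : F) (r : ι → F₀),
      (g : Matrix ι ι F) *ᵥ ratVec P x ≠ l • ratVec P r := by
    by_contra hcon
    push Not at hcon
    exact hgH ⟨mem_subfieldSubgroup_of_forall P hcon, hgi⟩
  set u := (g : Matrix ι ι F) *ᵥ ratVec P x
  have hu : sTv f u ζ ∈ M := by
    rw [← sTv_conj hf hgi]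
    exact M.mul_mem (M.mul_mem hgM (by simpa using hM x 1)) (M.inv_mem hgM)
  let ψ : (ι → F₀) → F := fun y => ζ * f u (ratVec P y)
  have hψadd : ∀ a b, ψ (a + b) = ψ a + ψ b := fun a b => by
    simp only [ψ, ratVec_add, hf.bilinear.add_right, mul_add]
  have hψsmul : ∀ (c : F₀) a, ψ (c • a) = c * ψ a := fun c a => by
    simp only [ψ, ratVec_smul, hf.bilinear.smul_right]; ring
  haveI : CharP F 2 := CharTwo.of_one_ne_zero_of_two_eq_zero one_ne_zero h2
  have h20 : (2 : F₀) = 0 := F₀.subtype.injective (by rw [map_ofNat, map_zero, h2])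
  haveI : CharP F₀ 2 := CharTwo.of_one_ne_zero_of_two_eq_zero one_ne_zero h20
  have hroot : ∀ z : F, z ^ 2 ∈ F₀ → z ∈ F₀ := fun z hz => by
    obtain ⟨d, hd⟩ := (Finite.injective_iff_surjective.1 (frobenius_inj F₀ 2)) ⟨_, hz⟩
    have hd' : (d : F) ^ 2 = z ^ 2 := by simpa [frobenius_def] using congrArg Subtype.val hd
    rw [show z = d from frobenius_inj F 2 (by simpa [frobenius_def] using hd'.symm)]
    exact d.2
  obtain ⟨v, hv⟩ : ∃ v, ψ v ∉ F₀ := by
    by_contra hcon
    push Not at hcon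
    let β : (ι → F₀) →ₗ[F₀] F₀ :=
      { toFun := fun y => ⟨ψ y, hcon y⟩
        map_add' := fun a c => Subtype.ext (hψadd a c)
        map_smul' := fun c a => Subtype.ext (hψsmul c a) }
    obtain ⟨w, hw⟩ := exists_form_eq hB.bilinear hB.nondegenerate β
    have hu' : u + ratVec P w = 0 := eq_zero_of_form_left hf.nondegenerate fun a => by
      rw [eq_sum_ratVec (F₀ := F₀) P a, ← bilinOf_apply hf.bilinear, map_sum]
      refine Finset.sum_eq_zero fun i _ => ?_
      have h1 : (B (Pi.single i 1) w : F) = ψ (Pi.single i 1) := congrArg Subtype.val (hw _)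
      rw [R.coe_B] at h1
      rw [map_smul, bilinOf_apply, hf.bilinear.add_left, hf.skew (ratVec P w),
        ← mul_left_cancel₀ hζ h1, add_neg_cancel, smul_zero]
    exact hx (-1) w (by rw [neg_smul, one_smul]; exact eq_neg_of_add_eq_zero_left hu')
  have hv0 : v ≠ 0 := fun e => hv (by
    have := hψsmul 0 v
    rw [zero_smul] at this
    rw [e, this]; simp)
  obtain ⟨w, hw, hws⟩ := exists_orth_extend hB.bilinear ![v] (by omega)
  have hvw : LinearIndependent F₀ ![v, w] := LinearIndependent.pair_symm_iff.1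
    (linearIndependent_finCons.2 ⟨LinearIndependent.of_subsingleton 0 hv0, hws⟩)
  have hvw' : B v w = 0 := hw 0
  set a := ψ v ^ 4 with ha_def
  have haF : a ∉ F₀ := fun h => hv (hroot _ (hroot _ (by rwa [← pow_mul])))
  have hGa : GoodPair f P ζ B M a a := goodPair_of_transvection R hM h2 hu hvw hvw'
  -- a long parameter outside the subfield
  obtain ⟨c, hcF, hc⟩ : ∃ c, c ∉ F₀ ∧ GoodPair f P ζ B M c 0 := by
    by_cases he : a + a ^ 2 ∈ F₀
    swap
    · refine ⟨_, he, ?_⟩
      have := hGa.add R (hGa.sq R hM h2 hvw hvw')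
      rwa [← two_mul a, h2, zero_mul] at this
    set k : F₀ := ⟨a + a ^ 2, he⟩ with hk
    have hk0 : k ≠ 0 := fun e => by
      have e' : a * (1 + a) = 0 := by
        have : a + a ^ 2 = 0 := congrArg Subtype.val e
        linear_combination this
      rcases mul_eq_zero.1 e' with h | h
      · exact haF (h ▸ F₀.zero_mem)
      · exact haF (by rw [eq_neg_of_add_eq_zero_right h]; exact F₀.neg_mem F₀.one_mem)
    by_cases hk1 : k = 1
    · have e1 : a + a ^ 2 = 1 := congrArg Subtype.val hk1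
      refine ⟨a ^ 2, fun h => haF (hroot _ h),
        goodPair_omega R hM h2 (by linear_combination e1 + h2) hGa hvw hvw'⟩
    refine ⟨((k : F) ^ 2 + 1) * a ^ 2, fun h => haF (hroot _ ?_), ?_⟩
    · have hne : (k : F) ^ 2 + 1 ≠ 0 := fun e => hk1 (Subtype.ext (by
        have : ((k : F) - 1) ^ 2 = 0 := by linear_combination e - (k : F) * h2
        rw [pow_eq_zero_iff two_ne_zero, sub_eq_zero] at this
        simpa using this))
      have hm := F₀.div_mem h (F₀.add_mem (F₀.pow_mem k.2 2) F₀.one_mem)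
      rwa [mul_div_cancel_left₀ _ hne] at hm
    · have h1 := (hGa.scale R hk0).sq R hM h2 hvw hvw'
      have h3 := h1.add R ((hGa.sq R hM h2 hvw hvw').scale R hk0)
      rwa [← two_mul, h2, zero_mul,
        show ((k : F) * a) ^ 2 + a ^ 2 = ((k : F) ^ 2 + 1) * a ^ 2 by ring] at h3
  -- every short parameter occurs
  let S : Subalgebra F₀ F :=
    { carrier := {s | ∀ y, (∃ x, GoodPair f P ζ B M x y) → ∃ x, GoodPair f P ζ B M x (s * y)}
      mul_mem' := fun {s t} hs ht y hy => by rw [mul_assoc]; exact hs _ (ht _ hy)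
      one_mem' := fun y hy => by rwa [one_mul]
      add_mem' := fun {s t} hs ht y hy => by
        obtain ⟨x₁, h₁⟩ := hs y hy
        obtain ⟨x₂, h₂⟩ := ht y hy
        exact ⟨x₁ + x₂, by rw [add_mul]; exact h₁.add R h₂⟩
      zero_mem' := fun y _ => ⟨0, by
        rw [zero_mul]; exact_mod_cast goodPair_rat R hM (0 : F₀) 0⟩
      algebraMap_mem' := fun k y hy => by
        obtain ⟨x₁, h₁⟩ := hy
        change ∃ x, GoodPair f P ζ B M x ((k : F) * y)
        by_cases hk : k = 0
        · exact ⟨0, by rw [hk, Subfield.coe_zero, zero_mul]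
                       exact_mod_cast goodPair_rat R hM (0 : F₀) 0⟩
        · exact ⟨x₁, h₁.scale R hk⟩ }
  have hcS : c ∈ S := fun y ⟨x₁, h₁⟩ => ⟨_, hc.long_mul R hM h2 hvw hvw' h₁⟩
  have hY : ∀ y, ∃ x, GoodPair f P ζ B M x y := by
    intro y
    rcases IsSimpleOrder.eq_bot_or_eq_top S with h | h
    · rw [h, Algebra.mem_bot] at hcS
      obtain ⟨d, hd⟩ := hcS
      exact absurd (hd ▸ d.2 : c ∈ F₀) hcF
    · have hy : y ∈ S := h ▸ Algebra.mem_top
      simpa using hy 1 ⟨0, by exact_mod_cast goodPair_rat R hM (0 : F₀) 1⟩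
  have hall : ∀ b, GoodPair f P ζ B M b 0 := by
    intro b
    have hcc : c + c ^ 2 ≠ 0 := fun e => by
      have e' : c * (1 + c) = 0 := by linear_combination e
      rcases mul_eq_zero.1 e' with h | h
      · exact hcF (h ▸ F₀.zero_mem)
      · exact hcF (by rw [eq_neg_of_add_eq_zero_right h]; exact F₀.neg_mem F₀.one_mem)
    obtain ⟨y, hy⟩ := (Finite.injective_iff_surjective.1 (frobenius_inj F 2)) (b / (c + c ^ 2))
    rw [frobenius_def, eq_div_iff hcc] at hy
    obtain ⟨x₁, h₁⟩ := hY y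
    have h3 := hc.long_mul R hM h2 hvw hvw' h₁
    have h4 := h3.add R (h3.sq R hM h2 hvw hvw')
    rwa [← two_mul, h2, zero_mul, show c * y ^ 2 + (c * y) ^ 2 = b by linear_combination hy] at h4
  have hrat : ∀ z : ι → F₀, ratVec P z ∈ tvSet f M := by
    intro z b
    by_cases hz : z = 0
    · subst hz
      have : (ratVec P (0 : ι → F₀)) = 0 := by
        simp [ratVec, show (fun _ : ι => (0 : F)) = 0 from rfl]
      rw [this, show sTv f (0 : ι → F) b = 1 from gl_ext_mulVec fun a => by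
        rw [sTv_mulVec hf]; simp]
      exact M.one_mem
    obtain ⟨r, hr', hrs⟩ := exists_orth_extend hB.bilinear ![z] (by omega)
    have hzr : LinearIndependent F₀ ![z, r] := LinearIndependent.pair_symm_iff.1
      (linearIndependent_finCons.2 ⟨LinearIndependent.of_subsingleton 0 hz, hrs⟩)
    have hzr' : B z r = 0 := hr' 0
    have := hall (b / ζ) z r hzr hzr'
    rwa [mul_zero, sh_zero hf (R.orth hzr'), mul_one, mul_div_cancel₀ _ hζ] at this
  refine isoOf_le_of_tvSet hf fun v => ?_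
  have step : ∀ u' ∈ tvSet f M, ∀ (a : F) (r : ι → F₀), u' + a • ratVec P r ∈ tvSet f M := by
    have step' : ∀ u' ∈ tvSet f M, ∀ r : ι → F₀, u' + ratVec P r ∈ tvSet f M := by
      intro u' hu' r
      by_cases h0 : u' = 0
      · rw [h0, zero_add]; exact hrat r
      by_cases h1 : u' + ratVec P r = 0
      · rw [h1, ← zero_smul F u']; exact tvSet_smul hf 0 hu'
      by_cases h2 : f u' (ratVec P r) = 0
      swap
      · simpa using tvSet_add_smul hf hu' (hrat r) h2 1
      have hex : ∀ w : ι → F, w ≠ 0 → ∃ y : ι → F₀, f w (ratVec P y) ≠ 0 := fun w hw => by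
        by_contra h
        push Not at h
        refine hw (eq_zero_of_form_left hf.nondegenerate fun a => ?_)
        rw [eq_sum_ratVec (F₀ := F₀) P a, ← bilinOf_apply hf.bilinear, map_sum]
        exact Finset.sum_eq_zero fun i _ => by rw [map_smul, bilinOf_apply, h, smul_zero]
      obtain ⟨y₁, hy₁⟩ := hex u' h0
      obtain ⟨y₂, hy₂⟩ := hex _ h1
      obtain ⟨z, hz1, hz2⟩ : ∃ z : ι → F₀, f u' (ratVec P z) ≠ 0 ∧
          f (u' + ratVec P r) (ratVec P z) ≠ 0 := by
        by_cases e1 : f (u' + ratVec P r) (ratVec P y₁) = 0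
        · by_cases e2 : f u' (ratVec P y₂) = 0
          · refine ⟨y₁ + y₂, ?_, ?_⟩ <;> rw [ratVec_add, hf.bilinear.add_right]
            · rwa [e2, add_zero]
            · rwa [e1, zero_add]
          · exact ⟨y₂, e2, hy₂⟩
        · exact ⟨y₁, hy₁, e1⟩
      have h3 := tvSet_add_smul hf hu' (hrat (r + z)) (by
        rw [ratVec_add, hf.bilinear.add_right, h2, zero_add]; exact hz1) 1
      rw [one_smul, ratVec_add, ← add_assoc] at h3
      have h4 := tvSet_add_smul hf h3 (hrat z) (by
        rwa [hf.bilinear.add_left, hf.alternating, add_zero]) (-1)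
      simpa [neg_one_smul] using h4
    intro u' hu' a r
    by_cases ha : a = 0
    · rw [ha, zero_smul, add_zero]; exact hu'
    have := tvSet_smul hf a (step' _ (tvSet_smul hf a⁻¹ hu') r)
    rwa [smul_add, smul_smul, mul_inv_cancel₀ ha, one_smul] at this
  rw [eq_sum_ratVec (F₀ := F₀) P v]
  induction (Finset.univ : Finset ι) using Finset.induction with
  | empty =>
    rw [Finset.sum_empty, ← zero_smul F (ratVec P (0 : ι → F₀))]
    exact tvSet_smul hf 0 (hrat 0)
  | insert i s hi ih =>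
    rw [Finset.sum_insert hi, add_comm]
    exact step _ ih _ _

end CfsgLib.ClassicalMax.SympSub
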