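/-
Tensor products of two unitary forms: contractions, Siegel elements and root maps.
-/
import Cfsg.Agent.Lib.ClassicalMax.TensorSL
import Cfsg.Agent.Lib.ClassicalMax.UnitShort
import Cfsg.Agent.Lib.ClassicalMax.UnitSympSubfield
set_option autoImplicit false
set_option linter.unusedSectionVars false

namespace CfsgLib.ClassicalMax.TensorUnit

open Matrix Kronecker Module Cfsg.Geo
open CfsgLib.ClassicalMax.Kron
open CfsgLib.ClassicalMax.Unit
open CfsgLib.ClassicalMax.TensorSL (InH lcon lcon_pt)

/-! ### Siegel elements of a unitary space -/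

section Eich

variable {ι : Type} [Fintype ι] [DecidableEq ι] {F : Type*} [Field F] [DecidableEq F]
  {σ : F ≃+* F} {f : (ι → F) → (ι → F) → F}

/-- The Siegel element `x ↦ x + f(x,v) w + (c f(x,v) - f(x,w)) v`. -/
def eich (hf : IsUnitaryForm σ f) (v w : ι → F) (c : F) : GL ι F :=
  tvGL w (Unit.formDual hf v) * tvGL v (c • Unit.formDual hf v + (-1 : F) • Unit.formDual hf w)

variable (hf : IsUnitaryForm σ f)
include hf

lemma eich_mem_sl (v w : ι → F) (c : F) : eich hf v w c ∈ specialLinear ι F :=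
  mul_mem (tvGL_mem_sl _ _) (tvGL_mem_sl _ _)

lemma eich_mulVec {v w : ι → F} (hv : f v v = 0) (hvw : f v w = 0) (c : F) (x : ι → F) :
    (eich hf v w c : Matrix ι ι F) *ᵥ x = x + f x v • w + (c * f x v - f x w) • v := by
  rw [eich, gl_mulVec_mul,
    tvGL_mulVec (u := v) (by simp [add_dotProduct, smul_dotProduct, Unit.formDual_dot, hv, hvw]),
    tvGL_mulVec (u := w) (by rw [Unit.formDual_dot, eq_zero_comm hf hvw])]
  simp only [add_dotProduct, smul_dotProduct, Unit.formDual_dot, hf.add_left, hf.smul_left, hv, mul_zero,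
    add_zero, smul_eq_mul]
  module

lemma eich_mem_isoOf {v w : ι → F} (hv : f v v = 0) (hvw : f v w = 0) {c : F}
    (hc : c + σ c = - f w w) : eich hf v w c ∈ isoOf f := by
  intro x y
  change f ((eich hf v w c : Matrix ι ι F) *ᵥ x) ((eich hf v w c : Matrix ι ι F) *ᵥ y) = f x y
  rw [eich_mulVec hf hv hvw, eich_mulVec hf hv hvw]
  simp only [hf.add_left, add_right hf, hf.smul_left, smul_right hf, hv, hvw,
    eq_zero_comm hf hvw, map_mul, map_sub, ← hf.herm]
  linear_combination (f x v * f v y) * hc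

lemma eich_inv {v w : ι → F} (hv : f v v = 0) (hvw : f v w = 0) {c : F}
    (hc : c + σ c = - f w w) : (eich hf v w c)⁻¹ = eich hf v (-w) (σ c) := by
  have hvw' : f v (-w) = 0 := by rw [← zero_sub, sub_right hf, zero_right hf, hvw, sub_zero]
  refine inv_eq_of_mul_eq_one_right (gl_ext_mulVec fun x => ?_)
  rw [gl_mulVec_mul, eich_mulVec hf hv hvw', eich_mulVec hf hv hvw, Units.val_one, one_mulVec]
  simp only [hf.add_left, hf.smul_left, hv, hvw, eq_zero_comm hf hvw,
    show f (-w) v = 0 from eq_zero_comm hf hvw',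
    show f x (-w) = - f x w by rw [← zero_sub, sub_right hf, zero_right hf, zero_sub],
    show f (-w) w = - f w w by rw [← zero_sub, sub_left hf, zero_left hf, zero_sub]]
  match_scalars <;> first
    | ring1
    | linear_combination (f x v) * hc

lemma eq_of_form {x y : ι → F} (h : ∀ z, f x z = f y z) : x = y := by
  by_contra hne
  obtain ⟨z, hz⟩ := (hf.nondegenerate _ (sub_ne_zero.2 hne)).2
  exact hz (by rw [sub_left hf, h, sub_self])

lemma exists_anisotropic [Finite F] [Nonempty ι] : ∃ w, f w w ≠ 0 := by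
  by_contra hcon
  push Not at hcon
  have := two_mul_finrank_le hf (W := ⊤) fun a _ b _ => by
    obtain ⟨t, ht⟩ : ∃ t : F, σ t ≠ t := by
      by_contra h
      push Not at h
      exact hf.ne_refl (RingEquiv.ext h)
    have h : ∀ l : F, σ l * f a b + l * σ (f a b) = 0 := fun l => by
      have h' := hcon (a + l • b)
      rw [hf.add_left, add_right hf, add_right hf, hf.smul_left, hf.smul_left, smul_right hf,
        smul_right hf, hcon a, hcon b, hf.herm b a] at h'
      linear_combination h'
    have h1 := h 1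
    have h2 := h t
    rw [map_one, one_mul, one_mul] at h1
    have : (σ t - t) * f a b = 0 := by linear_combination h2 - t * h1
    exact (mul_eq_zero.1 this).resolve_left (sub_ne_zero.2 ht)
  rw [finrank_top, finrank_fintype_fun_eq_card] at this
  have := Fintype.card_pos (α := ι)
  omega

/-- An isotropic partner of a non-zero isotropic vector. -/
lemma exists_partner [Fintype F] {v : ι → F} (hv0 : v ≠ 0) (hv : f v v = 0) :
    ∃ v', f v' v' = 0 ∧ f v v' = 1 ∧ f v' v = 1 := by
  obtain ⟨q, hq, hvq, -⟩ := exists_isotropic_pairing hf (k := 0) (v := fun _ : Fin 1 => v)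
    ((linearIndependent_unique_iff (ι := Fin 1)).2 hv0) (fun _ => hv)
  exact ⟨q, hq, hvq, by rw [hf.herm, hvq, map_one]⟩

/-- A transvection moving one isotropic vector onto the line of a non-orthogonal one. -/
lemma exists_move_tau [Fintype F] {u u' : ι → F} (hu : f u u = 0) (hu' : f u' u' = 0)
    (h : f u u' ≠ 0) {τ : F} (hτ0 : τ ≠ 0) (hτ : σ τ = -τ) :
    ∃ g ∈ isoOf f ⊓ specialLinear ι F, (g : Matrix ι ι F) *ᵥ u = σ (τ / f u u') • u' := by
  set μ := σ (τ / f u u') with hμ
  have hμs : σ μ * f u u' = τ := by rw [hμ, hf.involutive, div_mul_cancel₀ _ h]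
  set z := u - μ • u' with hz
  have hfz : f u z = -τ := by rw [hz, sub_right hf, smul_right hf, hu, hμs, zero_sub]
  have hzz : f z z = 0 := by
    have h2 : μ * f u' u = -τ := by
      rw [hf.herm u' u, ← hτ, ← hμs, map_mul, hf.involutive]
    rw [hz, sub_left hf, sub_right hf, sub_right hf, hf.smul_left, hf.smul_left, smul_right hf,
      smul_right hf, hu, hu']
    linear_combination -hμs - h2
  refine ⟨uTv hf z τ⁻¹, ⟨uTv_mem_isoOf hf hzz (by rw [map_inv₀, hτ, inv_neg]), uTv_mem_sl _ _ _⟩,
    ?_⟩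
  rw [uTv_mulVec hf hzz, hfz, mul_neg, inv_mul_cancel₀ hτ0, neg_one_smul, hz]
  abel

/-- A vector orthogonal to a hyperbolic pair, of prescribed norm. -/
lemma exists_value_hyp [Fintype F] (hι : 3 ≤ Fintype.card ι) {p r : ι → F} (hp : f p p = 0)
    (hr : f r r = 0) (hpr : f p r = 1) {s : F} (hs : σ s = s) :
    ∃ w, f w p = 0 ∧ f w r = 0 ∧ f w w = s := by
  have hrp : f r p = 1 := by rw [hf.herm, hpr, map_one]
  let W : Submodule F (ι → F) := LinearMap.ker (formL hf p) ⊓ LinearMap.ker (formL hf r)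
  have hW : Fintype.card ι ≤ finrank F W + 2 := by
    have h1 := LinearMap.finrank_range_add_finrank_ker (LinearMap.prod (formL hf p) (formL hf r))
    have h2 : finrank F (LinearMap.range (LinearMap.prod (formL hf p) (formL hf r))) ≤ 2 :=
      (Submodule.finrank_le _).trans (by rw [finrank_prod, finrank_self])
    rw [LinearMap.ker_prod, finrank_fintype_fun_eq_card] at h1
    change _ + finrank F W = Fintype.card ι at h1
    omega
  have hnd : IsNondegenerateOn f W := by
    intro w hw hw0
    have hwp : f w p = 0 := hw.1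
    have hwr : f w r = 0 := hw.2
    obtain ⟨⟨x, hx⟩, -⟩ := hf.nondegenerate w hw0
    set y := x - f x r • p - f x p • r with hy
    have hyp : f y p = 0 := by
      rw [hy, sub_left hf, sub_left hf, hf.smul_left, hf.smul_left, hp, hrp]; ring
    have hyr : f y r = 0 := by
      rw [hy, sub_left hf, sub_left hf, hf.smul_left, hf.smul_left, hr, hpr]; ring
    have hyw : f y w = f x w := by
      rw [hy, sub_left hf, sub_left hf, hf.smul_left, hf.smul_left, eq_zero_comm hf hwp,
        eq_zero_comm hf hwr]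
      ring
    exact ⟨⟨y, ⟨hyp, hyr⟩, by rw [hyw]; exact hx⟩, y, ⟨hyp, hyr⟩,
      ne_zero_comm hf (by rw [hyw]; exact hx)⟩
  obtain ⟨w, ⟨hw1, hw2⟩, hw⟩ := exists_value_in hf hnd le_rfl (by omega) hs
  exact ⟨w, hw1, hw2, hw⟩

/-- A vector orthogonal to a given one, of prescribed norm. -/
lemma exists_value_perp [Fintype F] (hι : 3 ≤ Fintype.card ι) (y : ι → F) {s : F} (hs : σ s = s) :
    ∃ w, f w y = 0 ∧ f w w = s := by
  have hW : Fintype.card ι ≤ finrank F (LinearMap.ker (formL hf y)) + 1 := by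
    have h1 := LinearMap.finrank_range_add_finrank_ker (formL hf y)
    have h2 : finrank F (LinearMap.range (formL hf y)) ≤ 1 :=
      (Submodule.finrank_le _).trans (by rw [finrank_self])
    rw [finrank_fintype_fun_eq_card] at h1
    omega
  obtain ⟨w, hw1, hw⟩ := exists_value hf (W := LinearMap.ker (formL hf y)) (by omega) hs
  exact ⟨w, hw1, hw⟩

/-- A vector with a prescribed pairing against a non-zero one and a prescribed norm. -/
lemma exists_pair_norm [Fintype F] (hι : 3 ≤ Fintype.card ι) {y : ι → F} (hy0 : y ≠ 0) (γ : F)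
    {s : F} (hs : σ s = s) : ∃ u, f u y = γ ∧ f u u = s := by
  by_cases hy : f y y = 0
  · rcases eq_or_ne γ 0 with rfl | hγ
    · exact exists_value_perp hf hι y hs
    obtain ⟨p, hp, hyp, hpy⟩ := exists_partner hf hy0 hy
    obtain ⟨t, ht⟩ := exists_trace_eq hf (s := s) hs
    have hσγ : σ γ ≠ 0 := fun e => hγ (σ.injective (e.trans (map_zero σ).symm))
    refine ⟨γ • p + (t / σ γ) • y, by rw [hf.add_left, hf.smul_left, hf.smul_left, hpy, hy]; ring, ?_⟩
    rw [hf.add_left, add_right hf, add_right hf, hf.smul_left, hf.smul_left, hf.smul_left,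
      hf.smul_left, smul_right hf, smul_right hf, smul_right hf, smul_right hf, hp, hy, hyp, hpy,
      map_div₀, hf.involutive]
    field_simp
    linear_combination (γ * σ γ) * ht
  · obtain ⟨w, hw, hww⟩ := exists_value_perp hf hι y
      (s := s - f ((γ / f y y) • y) ((γ / f y y) • y)) (by rw [map_sub, hs, self_fixed hf])
    refine ⟨(γ / f y y) • y + w, by rw [hf.add_left, hf.smul_left, hw, div_mul_cancel₀ _ hy, add_zero], ?_⟩
    rw [hf.add_left, add_right hf, add_right hf, hww, show f w ((γ / f y y) • y) = 0 by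
      rw [smul_right hf, hw, mul_zero], show f ((γ / f y y) • y) w = 0 by
      rw [hf.smul_left, eq_zero_comm hf hw, mul_zero]]
    ring

end Eich

/-! ### The pair of forms -/

variable {F : Type*} [Field F] {a b : ℕ}

/-- The form `h` is the tensor product of `f₁` and `f₂`. -/
structure UPair (σ : F ≃+* F) (h : (Fin a × Fin b → F) → (Fin a × Fin b → F) → F)
    (f₁ : (Fin a → F) → (Fin a → F) → F) (f₂ : (Fin b → F) → (Fin b → F) → F) : Prop where
  hh : IsUnitaryForm σ h
  h₁ : IsUnitaryForm σ f₁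
  h₂ : IsUnitaryForm σ f₂
  prod : ∀ x x' w w', h (pt x w) (pt x' w') = f₁ x x' * f₂ w w'

variable [DecidableEq F] {σ : F ≃+* F} {h : (Fin a × Fin b → F) → (Fin a × Fin b → F) → F}
  {f₁ : (Fin a → F) → (Fin a → F) → F} {f₂ : (Fin b → F) → (Fin b → F) → F}

/-- The action of an element on a vector. -/
local notation:80 g:81 " •ᵥ " z:80 => Matrix.mulVec (Units.val g) z

/-- The contraction against a vector of the second factor. -/
def cv (P : UPair σ h f₁ f₂) (v : Fin b → F) : (Fin a × Fin b → F) →ₗ[F] (Fin a → F) :=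
  con (Unit.formDual P.h₂ v)

/-- The embedding of the second factor at a vector of the first. -/
def ptLeft (u : Fin a → F) : (Fin b → F) →ₗ[F] (Fin a × Fin b → F) where
  toFun w := pt u w
  map_add' := pt_add_right u
  map_smul' c w := pt_smul_right c u w

@[simp] lemma ptLeft_apply (u : Fin a → F) (w : Fin b → F) : ptLeft u w = pt u w := rfl

variable (P : UPair σ h f₁ f₂)
include P

lemma cv_pt (v : Fin b → F) (x : Fin a → F) (w : Fin b → F) : cv P v (pt x w) = f₂ w v • x := by
  rw [cv, con_pt, Unit.formDual_dot]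

lemma h_pt_right (z : Fin a × Fin b → F) (x : Fin a → F) (w : Fin b → F) :
    h z (pt x w) = f₁ (cv P w z) x := by
  have := linear_ext (f := formL P.hh (pt x w)) (g := (formL P.h₁ x).comp (cv P w)) fun y u => by
    simp only [formL_apply, LinearMap.comp_apply, P.prod, cv_pt, P.h₁.smul_left]
    ring
  exact LinearMap.congr_fun this z

lemma h_pt_left (z : Fin a × Fin b → F) (x : Fin a → F) (w : Fin b → F) :
    h (pt x w) z = f₁ x (cv P w z) := by
  rw [P.hh.herm, h_pt_right P, ← P.h₁.herm]

lemma cv_add_vec (v w : Fin b → F) (z : Fin a × Fin b → F) :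
    cv P (v + w) z = cv P v z + cv P w z := by
  refine eq_of_form P.h₁ fun x => ?_
  rw [← h_pt_right P, pt_add_right, add_right P.hh, h_pt_right P, h_pt_right P, P.h₁.add_left]

lemma cv_smul_vec (c : F) (v : Fin b → F) (z : Fin a × Fin b → F) :
    cv P (c • v) z = σ c • cv P v z := by
  refine eq_of_form P.h₁ fun x => ?_
  rw [← h_pt_right P, pt_smul_right, smul_right P.hh, h_pt_right P, P.h₁.smul_left]

lemma ext_of_cv {z z' : Fin a × Fin b → F} (hz : ∀ w, cv P w z = cv P w z') : z = z' := by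
  refine eq_of_form P.hh fun y => ?_
  rw [pt_sum_left y]
  have key : ∀ (n : Finset (Fin a)), h z (∑ i ∈ n, pt (Pi.single i 1) (fun j => y (i, j))) =
      h z' (∑ i ∈ n, pt (Pi.single i 1) (fun j => y (i, j))) := by
    intro n
    induction n using Finset.induction with
    | empty => rw [Finset.sum_empty, zero_right P.hh, zero_right P.hh]
    | insert i n hi ih =>
      rw [Finset.sum_insert hi, add_right P.hh, add_right P.hh, ih, h_pt_right P, h_pt_right P, hz]
  exact key _

/-- A vector killed by the contractions orthogonal to `v` lies on the line of `v`. -/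
lemma eq_pt_of_cv {v v' : Fin b → F} (hvv' : f₂ v v' = 1) {D : Fin a × Fin b → F}
    (hD : ∀ w, f₂ v w = 0 → cv P w D = 0) : D = pt (cv P v' D) v := by
  refine ext_of_cv P fun w => ?_
  obtain ⟨c, hc⟩ : ∃ c, c = σ (f₂ v w) := ⟨_, rfl⟩
  have h0 : f₂ v (w - c • v') = 0 := by
    rw [sub_right P.h₂, smul_right P.h₂, hvv', hc, P.h₂.involutive, mul_one, sub_self]
  have h1 := hD _ h0
  have h2 : cv P w D = σ c • cv P v' D := by
    rw [show w = (w - c • v') + c • v' by rw [sub_add_cancel], cv_add_vec, h1, zero_add, cv_smul_vec]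
  rw [h2, cv_pt, hc, P.h₂.involutive]

lemma cv_kron_left (A : GL (Fin a) F) (v : Fin b → F) (z : Fin a × Fin b → F) :
    cv P v (kronGL A (1 : GL (Fin b) F) •ᵥ z) = A •ᵥ cv P v z := by
  have := linear_ext
    (f := cv P v ∘ₗ Matrix.toLin' (kronGL A (1 : GL (Fin b) F) : Matrix (Fin a × Fin b) (Fin a × Fin b) F))
    (g := Matrix.toLin' (A : Matrix (Fin a) (Fin a) F) ∘ₗ cv P v) fun x w => by
      simp [Matrix.toLin'_apply, kronGL_pt, cv_pt, mulVec_smul]
  simpa [Matrix.toLin'_apply] using LinearMap.congr_fun this z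

lemma kron_mem_iso {A : GL (Fin a) F} {B : GL (Fin b) F} (hA : A ∈ isoOf f₁) (hB : B ∈ isoOf f₂) :
    kronGL A B ∈ isoOf h := by
  intro z z'
  change h (kronGL A B •ᵥ z) (kronGL A B •ᵥ z') = h z z'
  have e1 : ∀ (y : Fin a × Fin b → F) (x : Fin a → F) (w : Fin b → F),
      h (kronGL A B •ᵥ y) (kronGL A B •ᵥ pt x w) = h y (pt x w) := fun y x w => by
    have := linear_ext
      (f := formL P.hh (kronGL A B •ᵥ pt x w) ∘ₗ
        Matrix.toLin' (kronGL A B : Matrix (Fin a × Fin b) (Fin a × Fin b) F))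
      (g := formL P.hh (pt x w)) fun x' w' => by
        simp only [LinearMap.comp_apply, Matrix.toLin'_apply, formL_apply, kronGL_pt, P.prod,
          mem_isoOf.1 hA, mem_isoOf.1 hB]
    exact LinearMap.congr_fun this y
  have := linear_ext
    (f := formL P.hh (kronGL A B •ᵥ z) ∘ₗ
      Matrix.toLin' (kronGL A B : Matrix (Fin a × Fin b) (Fin a × Fin b) F))
    (g := formL P.hh z) fun x w => by
      simp only [LinearMap.comp_apply, Matrix.toLin'_apply, formL_apply]
      rw [P.hh.herm, e1, ← P.hh.herm]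
  have h3 := LinearMap.congr_fun this z'
  simp only [LinearMap.comp_apply, Matrix.toLin'_apply, formL_apply] at h3
  rw [P.hh.herm, h3, ← P.hh.herm]

/-- The action of a Siegel element of the second factor. -/
lemma kron_eich_act {v w : Fin b → F} (hv : f₂ v v = 0) (hvw : f₂ v w = 0) (c : F)
    (z : Fin a × Fin b → F) :
    kronGL (1 : GL (Fin a) F) (eich P.h₂ v w c) •ᵥ z =
      z + pt (cv P v z) w + pt (c • cv P v z - cv P w z) v := by
  have := linear_ext
    (f := Matrix.toLin' (kronGL (1 : GL (Fin a) F) (eich P.h₂ v w c) :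
      Matrix (Fin a × Fin b) (Fin a × Fin b) F))
    (g := LinearMap.id + ptR w ∘ₗ cv P v + ptR v ∘ₗ (c • cv P v - cv P w)) fun x y => by
      simp [Matrix.toLin'_apply, kronGL_pt, eich_mulVec P.h₂ hv hvw, cv_pt, pt_add_right,
        pt_smul_left, pt_smul_right, ← sub_smul, smul_smul]
  exact LinearMap.congr_fun this z

/-- The action of a transvection of the second factor. -/
lemma kron_uTv_act {v : Fin b → F} (hv : f₂ v v = 0) (c : F) (z : Fin a × Fin b → F) :
    kronGL (1 : GL (Fin a) F) (uTv P.h₂ v c) •ᵥ z = z + pt (c • cv P v z) v := by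
  have := linear_ext
    (f := Matrix.toLin' (kronGL (1 : GL (Fin a) F) (uTv P.h₂ v c) :
      Matrix (Fin a × Fin b) (Fin a × Fin b) F))
    (g := LinearMap.id + ptR v ∘ₗ (c • cv P v)) fun x y => by
      simp [Matrix.toLin'_apply, kronGL_pt, uTv_mulVec P.h₂ hv, cv_pt, pt_add_right,
        pt_smul_left, pt_smul_right, smul_smul]
  exact LinearMap.congr_fun this z

omit P

/-- A group between the tensor stabiliser and the special unitary group. -/
structure Hyp (σ : F ≃+* F) (h : (Fin a × Fin b → F) → (Fin a × Fin b → F) → F)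
    (f₁ : (Fin a → F) → (Fin a → F) → F) (f₂ : (Fin b → F) → (Fin b → F) → F)
    (M : Subgroup (GL (Fin a × Fin b) F)) : Prop where
  pair : UPair σ h f₁ f₂
  two_le : 2 ≤ a
  lt : a < b
  le : M ≤ isoOf h ⊓ specialLinear (Fin a × Fin b) F
  mem : ∀ A B, A ∈ isoOf f₁ → B ∈ isoOf f₂ →
    Matrix.det (kronGL A B : Matrix (Fin a × Fin b) (Fin a × Fin b) F) = 1 → kronGL A B ∈ M

variable {M : Subgroup (GL (Fin a × Fin b) F)}

lemma det_eq_one {κ : Type} [Fintype κ] [DecidableEq κ] {g : GL κ F}
    (hg : g ∈ specialLinear κ F) : Matrix.det (g : Matrix κ κ F) = 1 := by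
  simpa [specialLinear, MonoidHom.mem_ker, Units.ext_iff] using hg

variable (H : Hyp σ h f₁ f₂ M)
include H

lemma Hyp.three_le : 3 ≤ b := by
  have := H.two_le
  have := H.lt
  omega

lemma Hyp.right_mem {B : GL (Fin b) F} (hB : B ∈ isoOf f₂) (hs : B ∈ specialLinear (Fin b) F) :
    kronGL 1 B ∈ M :=
  H.mem _ _ (isoOf f₁).one_mem hB (by rw [det_kronGL, det_eq_one hs]; simp)

lemma Hyp.left_mem {A : GL (Fin a) F} (hA : A ∈ isoOf f₁) (hs : A ∈ specialLinear (Fin a) F) :
    kronGL A 1 ∈ M :=
  H.mem _ _ hA (isoOf f₂).one_mem (by rw [det_kronGL, det_eq_one hs]; simp)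

omit H

/-- `K` is the root map at `v` of an element of `M`. -/
def RK (P : UPair σ h f₁ f₂) (M : Subgroup (GL (Fin a × Fin b) F)) (v : Fin b → F)
    (K : (Fin a → F) →ₗ[F] (Fin a → F)) : Prop :=
  ∃ g ∈ M, ∀ z, g •ᵥ z = z + pt (K (cv P v z)) v

/-- All root maps of `M` are scalar. -/
def OnlyScalar (P : UPair σ h f₁ f₂) (M : Subgroup (GL (Fin a × Fin b) F)) : Prop :=
  ∀ v K, v ≠ 0 → f₂ v v = 0 → RK P M v K → ∃ κ : F, ∀ x, K x = κ • x

end CfsgLib.ClassicalMax.TensorUnit
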