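/-
Tensor products of two unitary forms: one tensor point with all its transvections gives the whole
special unitary group.
-/
import Cfsg.Agent.Lib.ClassicalMax.TensorUnitBase
import Cfsg.Agent.Lib.ClassicalMax.UnitOrthSubfield
import Cfsg.Agent.Lib.ClassicalMax.UnitGenFive
import Cfsg.Agent.Lib.Forms.Classify
set_option autoImplicit false
set_option linter.unusedSectionVars false

namespace CfsgLib.ClassicalMax.TensorUnit

open Matrix Kronecker Module Cfsg.Geo
open CfsgLib.ClassicalMax.Kron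
open CfsgLib.ClassicalMax.Unit
open CfsgLib.ClassicalMax.TensorSL (InH lcon lcon_pt)

local notation:80 g:81 " •ᵥ " z:80 => Matrix.mulVec (Units.val g) z

section Form

variable {ι : Type} [Fintype ι] [DecidableEq ι] {F : Type*} [Field F] [Fintype F] [DecidableEq F]
  {σ : F ≃+* F} {f : (ι → F) → (ι → F) → F}

/-- Transvections move a member of `uSet` along another. -/
lemma uSet_move (hf : IsUnitaryForm σ f) {M : Subgroup (GL ι F)} {x y : ι → F} (hx : x ∈ uSet hf M)
    (hy : y ∈ uSet hf M) {c : F} (hc : σ c = -c) : y + (c * f y x) • x ∈ uSet hf M := by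
  rw [← uTv_mulVec hf hx.1]
  exact uSet_mulVec hf (hx.2 c hc) (uTv_mem_isoOf hf hx.1 hc) hy

lemma exists_move_one (hf : IsUnitaryForm σ f) {u u' : ι → F} (hu : f u u = 0) (hu' : f u' u' = 0)
    (h : f u u' ≠ 0) :
    ∃ g ∈ isoOf f ⊓ specialLinear ι F, ∃ μ : F, μ ≠ 0 ∧ g •ᵥ u = μ • u' := by
  obtain ⟨τ, hτ0, hτ⟩ := exists_trace_zero hf.ne_refl hf.involutive
  obtain ⟨g, hg, hgu⟩ := exists_move_tau hf hu hu' h hτ0 hτ
  exact ⟨g, hg, _, fun e => div_ne_zero hτ0 h (σ.injective (e.trans (map_zero σ).symm)), hgu⟩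

lemma exists_move (hf : IsUnitaryForm σ f) {u u' : ι → F} (hu0 : u ≠ 0) (hu : f u u = 0)
    (hu'0 : u' ≠ 0) (hu' : f u' u' = 0) :
    ∃ g ∈ isoOf f ⊓ specialLinear ι F, ∃ μ : F, μ ≠ 0 ∧ g •ᵥ u = μ • u' := by
  by_cases h : f u u' = 0
  swap
  · exact exists_move_one hf hu hu' h
  obtain ⟨w, hw, huw, hwu'⟩ : ∃ w, f w w = 0 ∧ f u w ≠ 0 ∧ f w u' ≠ 0 := by
    obtain ⟨p, hp, hup, -⟩ := exists_partner hf hu0 hu
    obtain ⟨p', hp', -, hp'u'⟩ := exists_partner hf hu'0 hu'
    by_cases h1 : f p u' = 0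
    swap
    · exact ⟨p, hp, by rw [hup]; exact one_ne_zero, h1⟩
    by_cases h2 : f u p' = 0
    swap
    · exact ⟨p', hp', h2, by rw [hp'u']; exact one_ne_zero⟩
    obtain ⟨r, hr, hiso⟩ := exists_isotropic_comb hf hp hp'
    refine ⟨p + r • p', hiso, ?_, ?_⟩
    · rw [add_right hf, smul_right hf, hup, h2, mul_zero, add_zero]
      exact one_ne_zero
    · rw [hf.add_left, hf.smul_left, h1, hp'u', zero_add, mul_one]
      exact hr
  obtain ⟨g, hg, μ, hμ, hgu⟩ := exists_move_one hf hu hw huw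
  obtain ⟨g', hg', ν, hν, hgw⟩ := exists_move_one hf hw hu' hwu'
  exact ⟨g' * g, mul_mem hg' hg, μ * ν, mul_ne_zero hμ hν,
    by rw [gl_mulVec_mul, hgu, mulVec_smul, hgw, smul_smul]⟩

end Form

section RankTwo

variable {F : Type*} [Field F] [Fintype F] [DecidableEq F] {σ : F ≃+* F} {m n : ℕ} {ι : Type}
  [Fintype ι] [DecidableEq ι] {h : (ι → F) → (ι → F) → F}
  {g : (Fin m → F) → (Fin m → F) → F} {g' : (Fin n → F) → (Fin n → F) → F}
  {M : Subgroup (GL ι F)}

/-- Two orthogonal units carrying vectors with a non-degenerate span. -/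
lemma rank_two_mem (hh : IsUnitaryForm σ h) (hg : IsUnitaryForm σ g) (hg' : IsUnitaryForm σ g')
    (π : (Fin m → F) →ₗ[F] (Fin n → F) →ₗ[F] (ι → F))
    (hπ : ∀ x x' w w', h (π x w) (π x' w') = g x x' * g' w w')
    (hS : ∀ x, g x x = 0 → ∀ w, π x w ∈ uSet hh M) {e e' : Fin m → F} (he : g e e = 1)
    (he' : g e' e' = 1) (hee' : g e e' = 0) {y y' : Fin n → F} (hiso : g' y y + g' y' y' = 0)
    (hnd : g' y y ≠ 0 ∨ g' y y' ≠ 0) : π e y + π e' y' ∈ uSet hh M := by
  obtain ⟨ζ, ζ', hζ, hζ', hne, hE⟩ : ∃ ζ ζ' : F, ζ * σ ζ = -1 ∧ ζ' * σ ζ' = -1 ∧ ζ ≠ ζ' ∧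
      g' y y * ζ + g' y y * ζ' - σ (g' y y') + g' y y' * ζ * ζ' ≠ 0 := by
    obtain ⟨ζ₀, hζ₀⟩ := exists_norm_eq hh.ne_refl hh.involutive (s := (-1 : F)) (by simp)
    obtain ⟨l, hl⟩ : ∃ l, σ l ≠ l := by
      by_contra h
      push Not at h
      exact hh.ne_refl (RingEquiv.ext h)
    have hl0 : l ≠ 0 := fun e => hl (by rw [e, map_zero])
    have hσ0 : ∀ {x : F}, x ≠ 0 → σ x ≠ 0 := fun {x} hx e => hx (by simpa using congrArg σ.symm e)
    have hl1 : l + 1 ≠ 0 := fun e => hl (by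
      rw [eq_neg_of_add_eq_zero_left e, map_neg, map_one])
    have hζ00 : ζ₀ ≠ 0 := fun e => one_ne_zero (α := F) (by
      rw [e, zero_mul] at hζ₀; exact neg_eq_zero.1 hζ₀.symm)
    set z₁ := ζ₀ * (l / σ l) with hz₁
    set z₂ := ζ₀ * ((l + 1) / σ (l + 1)) with hz₂
    have hz₁n : z₁ * σ z₁ = -1 := by
      rw [hz₁, map_mul, map_div₀, hh.involutive]
      have := hσ0 hl0
      field_simp
      linear_combination hζ₀
    have hz₂n : z₂ * σ z₂ = -1 := by
      rw [hz₂, map_mul, map_div₀, hh.involutive]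
      have := hσ0 hl1
      field_simp
      linear_combination hζ₀
    have h01 : ζ₀ ≠ z₁ := fun e => hl (by
      rw [hz₁] at e
      have := mul_left_cancel₀ hζ00 (e.symm.trans (mul_one ζ₀).symm)
      exact ((div_eq_one_iff_eq (hσ0 hl0)).1 this).symm)
    have h02 : ζ₀ ≠ z₂ := fun e => hl (by
      rw [hz₂] at e
      have := ((div_eq_one_iff_eq (hσ0 hl1)).1
        (mul_left_cancel₀ hζ00 (e.symm.trans (mul_one ζ₀).symm))).symm
      rw [map_add, map_one] at this
      exact add_right_cancel this)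
    have h12 : z₁ ≠ z₂ := fun e => hl (by
      have := mul_left_cancel₀ hζ00 e
      rw [div_eq_div_iff (hσ0 hl0) (hσ0 hl1), map_add, map_one] at this
      linear_combination -this)
    by_contra hcon
    push Not at hcon
    have e1 := hcon ζ₀ z₁ hζ₀ hz₁n h01
    have e2 := hcon ζ₀ z₂ hζ₀ hz₂n h02
    have e3 := hcon z₁ z₂ hz₁n hz₂n h12
    have q1 : g' y y + g' y y' * ζ₀ = 0 := (mul_eq_zero.1
      (show (z₁ - z₂) * (g' y y + g' y y' * ζ₀) = 0 by linear_combination e1 - e2)).resolve_left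
      (sub_ne_zero.2 h12)
    have q2 : g' y y + g' y y' * z₁ = 0 := (mul_eq_zero.1
      (show (ζ₀ - z₂) * (g' y y + g' y y' * z₁) = 0 by linear_combination e1 - e3)).resolve_left
      (sub_ne_zero.2 h02)
    have q3 : g' y y' = 0 := (mul_eq_zero.1
      (show (ζ₀ - z₁) * g' y y' = 0 by linear_combination q1 - q2)).resolve_left (sub_ne_zero.2 h01)
    rcases hnd with hn | hn
    · exact hn (by rw [q3, zero_mul, add_zero] at q1; exact q1)
    · exact hn q3
  have hd : ζ - ζ' ≠ 0 := sub_ne_zero.2 hne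
  have hζ0 : ζ ≠ 0 := fun e => one_ne_zero (α := F) (by
    rw [e, zero_mul] at hζ; exact neg_eq_zero.1 hζ.symm)
  set p := (ζ - ζ')⁻¹ • (y' - ζ' • y) with hp
  set p' := (ζ - ζ')⁻¹ • (ζ • y - y') with hp'
  set x₁ := e + ζ • e' with hx₁
  set x₂ := e + ζ' • e' with hx₂
  have hiso' : ∀ η : F, η * σ η = -1 → g (e + η • e') (e + η • e') = 0 := fun η hη => by
    rw [hg.add_left, add_right hg, add_right hg, hg.smul_left, hg.smul_left, smul_right hg,
      smul_right hg, he, he', hee', eq_zero_comm hg hee']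
    linear_combination hη
  have hsum : π x₁ p + π x₂ p' = π e y + π e' y' := by
    have e1 : p + p' = y := by
      rw [hp, hp', ← smul_add, show (y' - ζ' • y) + (ζ • y - y') = (ζ - ζ') • y by module,
        inv_smul_smul₀ hd]
    have e2 : ζ • p + ζ' • p' = y' := by
      rw [hp, hp', smul_comm ζ, smul_comm ζ', ← smul_add,
        show ζ • (y' - ζ' • y) + ζ' • (ζ • y - y') = (ζ - ζ') • y' by module, inv_smul_smul₀ hd]
    rw [← e1, ← e2, hx₁, hx₂]
    simp only [map_add, map_smul, LinearMap.add_apply, LinearMap.smul_apply]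
    abel
  rw [← hsum]
  refine uSet_add hh (hS x₁ (hiso' ζ hζ) p) (hS x₂ (hiso' ζ' hζ') p') ?_ ?_
  · rw [hπ]
    refine mul_ne_zero ?_ (ne_zero_comm hg' fun e0 => hE ?_)
    · rw [hx₁, hx₂, hg.add_left, add_right hg, add_right hg, hg.smul_left, hg.smul_left,
        smul_right hg, smul_right hg, he, he', hee', eq_zero_comm hg hee']
      intro e0
      apply hne
      linear_combination ζ * e0 - ζ' * hζ
    · rw [hp, hp', hg'.smul_left, smul_right hg', sub_left hg', sub_right hg', sub_right hg',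
        hg'.smul_left, hg'.smul_left, smul_right hg', smul_right hg', hg'.herm y' y] at e0
      have e1 := ((mul_eq_zero.1 e0).resolve_left (inv_ne_zero hd))
      have e2 := (mul_eq_zero.1 e1).resolve_left (by
        rw [map_inv₀]; exact inv_ne_zero fun e => hd (by simpa using congrArg σ.symm e))
      linear_combination ζ * e2 + ζ * hiso - (σ (g' y y') - ζ' * g' y y) * hζ
  · rw [hsum, hh.add_left, add_right hh, add_right hh, hπ, hπ, hπ, hπ, he, he', hee',
      eq_zero_comm hg hee']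
    linear_combination hiso

end RankTwo

variable {F : Type*} [Field F] [DecidableEq F] {a b : ℕ} {σ : F ≃+* F}
  {h : (Fin a × Fin b → F) → (Fin a × Fin b → F) → F} {f₁ : (Fin a → F) → (Fin a → F) → F}
  {f₂ : (Fin b → F) → (Fin b → F) → F} {M : Subgroup (GL (Fin a × Fin b) F)}
  [Fintype F] (H : Hyp σ h f₁ f₂ M)
include H

variable {u₀ : Fin a → F} {v₀ : Fin b → F} (hu₀0 : u₀ ≠ 0) (hv₀0 : v₀ ≠ 0) (hu₀ : f₁ u₀ u₀ = 0)
  (hv₀ : f₂ v₀ v₀ = 0) (hseed : pt u₀ v₀ ∈ uSet H.pair.hh M)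
include hu₀0 hv₀0 hu₀ hv₀ hseed

lemma mem_iso_iso {u : Fin a → F} {v : Fin b → F} (hu : f₁ u u = 0) (hv : f₂ v v = 0) :
    pt u v ∈ uSet H.pair.hh M := by
  have h0 : (0 : Fin a × Fin b → F) ∈ uSet H.pair.hh M := by
    simpa using uSet_smul H.pair.hh 0 hseed
  rcases eq_or_ne u 0 with rfl | hu0
  · rwa [pt_zero_left]
  rcases eq_or_ne v 0 with rfl | hv0
  · rwa [pt_zero_right]
  obtain ⟨A, ⟨hA, hAs⟩, μ, hμ, hAu⟩ := exists_move H.pair.h₁ hu₀0 hu₀ hu0 hu
  obtain ⟨B, ⟨hB, hBs⟩, ν, hν, hBv⟩ := exists_move H.pair.h₂ hv₀0 hv₀ hv0 hv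
  have hm : kronGL A 1 * kronGL 1 B ∈ M := M.mul_mem (H.left_mem hA hAs) (H.right_mem hB hBs)
  have := uSet_mulVec H.pair.hh hm (H.le hm).1 hseed
  rw [gl_mulVec_mul, kronGL_pt, kronGL_pt, Units.val_one, Units.val_one, one_mulVec, one_mulVec,
    hAu, hBv, pt_smul_left, pt_smul_right, smul_smul] at this
  have := uSet_smul H.pair.hh (μ * ν)⁻¹ this
  rwa [inv_smul_smul₀ (mul_ne_zero hμ hν)] at this

lemma mem_any_iso (e : Fin a → F) {v : Fin b → F} (hv : f₂ v v = 0) :
    pt e v ∈ uSet H.pair.hh M := by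
  have hf := H.pair.h₁
  have hg := H.pair.h₂
  have hh := H.pair.hh
  have hS : ∀ {u v}, f₁ u u = 0 → f₂ v v = 0 → pt u v ∈ uSet hh M := fun hu hv =>
    mem_iso_iso H hu₀0 hv₀0 hu₀ hv₀ hseed hu hv
  by_cases hee : f₁ e e = 0
  · exact hS hee hv
  rcases eq_or_ne v 0 with rfl | hv0
  · have := hS (zero_left hf 0) hv
    rwa [pt_zero_right] at this ⊢
  -- a hyperbolic pair adding up to `e`
  obtain ⟨u, hu, heu⟩ : ∃ u, f₁ u u = 0 ∧ f₁ e u = 1 := by
    obtain ⟨u, hu, heu⟩ : ∃ u, f₁ u u = 0 ∧ f₁ e u ≠ 0 := by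
      by_contra hcon
      push Not at hcon
      obtain ⟨p, hp, hup, hpu⟩ := exists_partner hf hu₀0 hu₀
      obtain ⟨c, hc⟩ := exists_trace_eq hf (s := - f₁ e e) (by rw [map_neg, self_fixed hf])
      have h1 := hcon u₀ hu₀
      have h2 := hcon p hp
      have h3 : f₁ e (p + c • u₀ + e) = 0 := hcon _ (by
        simp only [hf.add_left, add_right hf, hf.smul_left, smul_right hf, hu₀, hp, hup, hpu, h1,
          h2, eq_zero_comm hf h1, eq_zero_comm hf h2]
        linear_combination hc)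
      rw [add_right hf, add_right hf, smul_right hf, h1, h2, mul_zero, zero_add, zero_add] at h3
      exact hee h3
    refine ⟨σ (f₁ e u)⁻¹ • u, by rw [hf.smul_left, smul_right hf, hu, mul_zero, mul_zero], ?_⟩
    rw [smul_right hf, hf.involutive, inv_mul_cancel₀ heu]
  obtain ⟨κ, hκ⟩ := exists_trace_eq hf (s := f₁ e e) (self_fixed hf e)
  have hue : f₁ u e = 1 := by rw [hf.herm, heu, map_one]
  set u' := e - κ • u with hu'
  have hu'u : f₁ u' u = 1 := by rw [hu', sub_left hf, hf.smul_left, hu, heu, mul_zero, sub_zero]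
  have huu' : f₁ u u' = 1 := by rw [hf.herm, hu'u, map_one]
  have hu'u' : f₁ u' u' = 0 := by
    rw [hu', sub_left hf, sub_right hf, sub_right hf, hf.smul_left, hf.smul_left, smul_right hf,
      smul_right hf, hu, heu, hue]
    linear_combination -hκ
  have hκ0 : κ ≠ 0 := fun e0 => hee (by rw [← hκ, e0, map_zero, add_zero])
  have hσκ0 : σ κ ≠ 0 := fun e0 => hκ0 (by simpa using congrArg σ.symm e0)
  set ε := f₁ e e / (κ * σ κ) with hε
  have hεs : σ ε = ε := by
    rw [hε, map_div₀, self_fixed hf, map_mul, hf.involutive, mul_comm]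
  have hε0 : ε ≠ 0 := div_ne_zero hee (mul_ne_zero hκ0 hσκ0)
  have hεκ : ε * (κ * σ κ) = κ + σ κ := by rw [hε, div_mul_cancel₀ _ (mul_ne_zero hκ0 hσκ0), hκ]
  set lam := 1 - ε * κ with hlam
  have hlamn : lam * σ lam = 1 := by
    rw [hlam, map_sub, map_one, map_mul, hεs]
    linear_combination ε * hεκ
  have hlam0 : lam ≠ 0 := fun e0 => one_ne_zero (α := F) (by rw [← hlamn, e0, zero_mul])
  have hσlam : σ lam = lam⁻¹ := eq_inv_of_mul_eq_one_right hlamn
  obtain ⟨τ, hτ0, hτ⟩ := exists_trace_zero hg.ne_refl hg.involutive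
  set c := τ * ε * lam with hc
  have hσc : σ c = -(τ * ε) * σ lam := by rw [hc, map_mul, map_mul, hτ, hεs]; ring
  obtain ⟨v', hv', hvv', hv'v⟩ := exists_partner hg hv0 hv
  obtain ⟨w, hwv, hwv', hww⟩ := exists_value_hyp hg (by rw [Fintype.card_fin]; exact H.three_le) hv hv' hvv'
    (s := -(c + σ c)) (by rw [map_neg, map_add, hg.involutive, add_comm])
  have hvw := eq_zero_comm hg hwv
  have hv'w := eq_zero_comm hg hwv'
  set b' := v' + w + c • v with hb'
  set k := κ / τ with hk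
  set l := -(κ * lam) / τ with hl
  set bb := lam • v + k • b' + l • v' with hbb
  have hb'b' : f₂ b' b' = 0 := by
    simp only [hb', hg.add_left, add_right hg, hg.smul_left, smul_right hg, hv, hv', hvv', hv'v,
      hww, hwv, hvw, hwv', hv'w]
    ring
  have hb'v : f₂ b' v = 1 := by
    simp only [hb', hg.add_left, hg.smul_left, hv, hv'v, hwv]; ring
  have hvb' : f₂ v b' = 1 := by rw [hg.herm, hb'v, map_one]
  have hb'v' : f₂ b' v' = c := by
    simp only [hb', hg.add_left, hg.smul_left, hv', hvv', hwv']; ring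
  have hv'b' : f₂ v' b' = σ c := by rw [hg.herm, hb'v']
  have hσk : σ k = -(σ κ / τ) := by rw [hk, map_div₀, hτ, div_neg]
  have hσl : σ l = σ κ * σ lam / τ := by
    rw [hl, map_div₀, map_neg, map_mul, hτ, neg_div_neg_eq]
  have hσlam' : σ lam = 1 - ε * σ κ := by rw [hlam, map_sub, map_one, map_mul, hεs]
  have hlc : σ l * c = σ κ * ε := by
    rw [hσl, hc]
    field_simp
    linear_combination hlamn
  have hb'bb : f₂ b' bb = 1 := by
    simp only [hbb, add_right hg, smul_right hg, hb'v, hb'b', hb'v', hlc]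
    linear_combination hσlam'
  have hvbb : f₂ v bb = σ k + σ l := by
    simp only [hbb, add_right hg, smul_right hg, hv, hvb', hvv']; ring
  have hv'bb : f₂ v' bb = σ lam + σ k * σ c := by
    simp only [hbb, add_right hg, smul_right hg, hv'v, hv'b', hv']; ring
  have hbbbb : f₂ bb bb = 0 := by
    have e0 : f₂ bb bb = lam * f₂ v bb + k * f₂ b' bb + l * f₂ v' bb := by
      conv_lhs => arg 1; rw [hbb]
      simp only [hg.add_left, hg.smul_left]
    have eA : lam * σ l = σ κ / τ := by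
      rw [hσl]; linear_combination (σ κ / τ) * hlamn
    have eB : l * σ lam = -(κ / τ) := by
      rw [hl]; linear_combination (-(κ / τ)) * hlamn
    have eC : σ k * σ c = ε * σ κ * σ lam := by
      rw [hσk, hσc]; field_simp
    rw [e0, hvbb, hb'bb, hv'bb]
    linear_combination eA + (1 + ε * σ κ) * eB + lam * hσk + hk + l * eC - (σ κ / τ) * hlam
  set d := b' - lam • v' with hd
  have hZ : pt u' v' + τ • pt u v ∈ uSet hh M := by
    have := uSet_move hh (hS hu hv) (hS hu'u' hv') (c := τ) hτ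
    rwa [H.pair.prod, hu'u, hv'v, mul_one, mul_one] at this
  have hZ' : pt u' b' + τ • pt u bb ∈ uSet hh M := by
    have := uSet_move hh (hS hu hbbbb) (hS hu'u' hb'b') (c := τ) hτ
    rwa [H.pair.prod, hu'u, hb'bb, mul_one, mul_one] at this
  have hdiff : pt u' b' + τ • pt u bb + (-lam) • (pt u' v' + τ • pt u v) = pt e d := by
    have h1 : τ • (bb - lam • v) = κ • d := by
      rw [hbb, hd, hk, hl]
      match_scalars <;> field_simp <;> ring
    have h2 : κ • pt u d = τ • pt u bb - (τ * lam) • pt u v := by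
      rw [← pt_smul_right, ← h1, pt_smul_right, pt_sub_right, pt_smul_right, smul_sub, smul_smul]
    rw [show e = u' + κ • u by rw [hu']; abel, pt_add_left, pt_smul_left, h2, hd, pt_sub_right,
      pt_smul_right]
    module
  have hdd : f₂ d d = 0 := by
    simp only [hd, sub_left hg, sub_right hg, hg.smul_left, smul_right hg, hb'b', hb'v', hv'b', hv']
    rw [hσc, hc]
    ring
  have hmem : pt e d ∈ uSet hh M := by
    rw [← hdiff]
    refine uSet_add hh hZ' (uSet_smul hh _ hZ) ?_ (by rw [hdiff, H.pair.prod, hdd, mul_zero])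
    rw [hh.smul_left]
    refine mul_ne_zero (neg_ne_zero.2 hlam0) fun e0 => hε0 ?_
    simp only [hh.add_left, add_right hh, hh.smul_left, smul_right hh, H.pair.prod, hu, hu'u',
      hu'u, huu', hvb', hv'bb, hτ] at e0
    have eC : σ k * σ c = ε * σ κ * σ lam := by
      rw [hσk, hσc]; field_simp
    have e1 : τ * (ε * (κ + σ κ)) = 0 := by
      linear_combination -lam * e0 - τ * (1 + ε * σ κ) * hlamn + τ * hlam - lam * τ * eC
    rcases mul_eq_zero.1 e1 with h1 | h1
    · exact absurd h1 hτ0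
    · exact (mul_eq_zero.1 h1).resolve_right (by rw [hκ]; exact hee)
  have hd0 : d ≠ 0 := fun e0 => by
    have h1 : f₂ d v' = c := by
      simp only [hd, sub_left hg, hg.smul_left, hb'v', hv']; ring
    rw [e0, zero_left hg] at h1
    exact mul_ne_zero (mul_ne_zero hτ0 hε0) hlam0 h1.symm
  obtain ⟨B, ⟨hB, hBs⟩, ν, hν, hBd⟩ := exists_move hg hd0 hdd hv0 hv
  have := uSet_mulVec hh (H.right_mem hB hBs) (H.le (H.right_mem hB hBs)).1 hmem
  rw [kronGL_pt, Units.val_one, one_mulVec, hBd, pt_smul_right] at this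
  have := uSet_smul hh ν⁻¹ this
  rwa [inv_smul_smul₀ hν] at this

lemma mem_iso_any {u : Fin a → F} (hu : f₁ u u = 0) (y : Fin b → F) :
    pt u y ∈ uSet H.pair.hh M := by
  have hf := H.pair.h₁
  have hg := H.pair.h₂
  have hh := H.pair.hh
  by_cases hy : f₂ y y = 0
  · exact mem_iso_iso H hu₀0 hv₀0 hu₀ hv₀ hseed hu hy
  rcases eq_or_ne u 0 with rfl | hu0
  · have := mem_iso_iso H hu₀0 hv₀0 hu₀ hv₀ hseed hu (zero_left hg 0)
    rwa [pt_zero_left] at this ⊢
  obtain ⟨β, hβ⟩ := exists_norm_eq hg.ne_refl hg.involutive (s := (f₂ y y)⁻¹)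
    (by rw [map_inv₀, self_fixed hg])
  have hβ0 : β ≠ 0 := fun e => inv_ne_zero hy (by rw [← hβ, e, zero_mul])
  set e := β • y with he'
  have he : f₂ e e = 1 := by
    rw [he', hg.smul_left, smul_right hg, ← mul_assoc, hβ, inv_mul_cancel₀ hy]
  clear_value e
  obtain ⟨e', he'e, he'e'⟩ := exists_value_perp hg (by rw [Fintype.card_fin]; exact H.three_le)
    e (s := (1 : F)) (map_one σ)
  obtain ⟨η, hη⟩ := exists_norm_eq hg.ne_refl hg.involutive (s := (-1 : F)) (by simp)
  have hη0 : η ≠ 0 := fun e => one_ne_zero (α := F) (by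
    rw [e, zero_mul] at hη; exact neg_eq_zero.1 hη.symm)
  obtain ⟨u', hu', huu', hu'u⟩ := exists_partner hf hu0 hu
  obtain ⟨τ, hτ0, hτ⟩ := exists_trace_zero hg.ne_refl hg.involutive
  set K := e + η • e' with hK
  have hKK : f₂ K K = 0 := by
    rw [hK, hg.add_left, add_right hg, add_right hg, hg.smul_left, hg.smul_left, smul_right hg,
      smul_right hg, he, he'e', he'e, eq_zero_comm hg he'e]
    linear_combination hη
  have heK : f₂ e K = 1 := by
    rw [hK, add_right hg, smul_right hg, he, eq_zero_comm hg he'e, mul_zero, add_zero]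
  have hx₀ : pt u' K ∈ uSet hh M := mem_iso_iso H hu₀0 hv₀0 hu₀ hv₀ hseed hu' hKK
  let π : (Fin b → F) →ₗ[F] (Fin a → F) →ₗ[F] (Fin a × Fin b → F) :=
    LinearMap.mk₂ F (fun w x => pt x w) (fun w w' x => pt_add_right x w w')
      (fun c w x => pt_smul_right c x w) (fun w x x' => pt_add_left x x' w)
      (fun c w x => pt_smul_left c x w)
  have hX : π e (u + τ • u') + π e' ((τ * η) • u') ∈ uSet hh M := by
    refine rank_two_mem hh hg hf π (fun x x' w w' => ?_) (fun x hx w => ?_) he he'e'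
      (eq_zero_comm hg he'e) ?_ (Or.inr ?_)
    · show h (pt w x) (pt w' x') = _
      rw [H.pair.prod, mul_comm]
    · exact mem_any_iso H hu₀0 hv₀0 hu₀ hv₀ hseed w hx
    · rw [hf.add_left, add_right hf, add_right hf, hf.smul_left, hf.smul_left, hf.smul_left,
        smul_right hf, smul_right hf, smul_right hf, hu, hu', huu', hu'u, hτ]
      ring
    · rw [hf.add_left, hf.smul_left, smul_right hf, smul_right hf, huu', hu', mul_zero, mul_zero,
        add_zero, mul_one]
      exact fun e0 => mul_ne_zero hτ0 hη0 (σ.injective (by rw [e0, map_zero]))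
  have hXe : π e (u + τ • u') + π e' ((τ * η) • u') = pt u e + τ • pt u' K := by
    show pt (u + τ • u') e + pt ((τ * η) • u') e' = _
    rw [hK, pt_add_left, pt_add_right, pt_smul_left, pt_smul_left, pt_smul_right]
    module
  rw [hXe] at hX
  have := uSet_move hh hx₀ hX (c := -τ) (by rw [map_neg, hτ])
  rw [hh.add_left, hh.smul_left, H.pair.prod, H.pair.prod, huu', heK, hu', zero_mul, mul_zero,
    add_zero, mul_one, mul_one, neg_smul, add_neg_cancel_right] at this
  have := uSet_smul hh β⁻¹ this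
  rwa [he', pt_smul_right, inv_smul_smul₀ hβ0] at this

lemma mem_two {e e' : Fin a → F} (he : f₁ e e = 1) (he' : f₁ e' e' = 1) (hee' : f₁ e e' = 0)
    {y y' : Fin b → F} (hiso : f₂ y y + f₂ y' y' = 0) :
    pt e y + pt e' y' ∈ uSet H.pair.hh M := by
  have hg := H.pair.h₂
  have hh := H.pair.hh
  let π : (Fin a → F) →ₗ[F] (Fin b → F) →ₗ[F] (Fin a × Fin b → F) :=
    LinearMap.mk₂ F (fun x w => pt x w) pt_add_left pt_smul_left pt_add_right pt_smul_right
  have hr : ∀ {y y'}, f₂ y y + f₂ y' y' = 0 → (f₂ y y ≠ 0 ∨ f₂ y y' ≠ 0) →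
      pt e y + pt e' y' ∈ uSet hh M := fun {y y'} hi hn =>
    rank_two_mem hh H.pair.h₁ hg π (fun x x' w w' => H.pair.prod x x' w w')
      (fun x hx w => mem_iso_any H hu₀0 hv₀0 hu₀ hv₀ hseed hx w) he he' hee' hi hn
  by_cases hn : f₂ y y ≠ 0 ∨ f₂ y y' ≠ 0
  · exact hr hiso hn
  push Not at hn
  obtain ⟨hy, hyy'⟩ := hn
  have hy' : f₂ y' y' = 0 := by rwa [hy, zero_add] at hiso
  rcases eq_or_ne y 0 with rfl | hy0
  · rw [pt_zero_right, zero_add]
    exact mem_any_iso H hu₀0 hv₀0 hu₀ hv₀ hseed e' hy'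
  rcases eq_or_ne y' 0 with rfl | hy'0
  · rw [pt_zero_right, add_zero]
    exact mem_any_iso H hu₀0 hv₀0 hu₀ hv₀ hseed e hy
  have hex : ∀ z : Fin b → F, z ≠ 0 → ∃ x ∈ (⊤ : Submodule F (Fin b → F)), formL hg z x ≠ 0 :=
    fun z hz => by
      obtain ⟨x, hx⟩ := (hg.nondegenerate z hz).1
      exact ⟨x, trivial, hx⟩
  obtain ⟨k, -, hk, hky, hky'⟩ := exists_isotropic_avoid hg (W := ⊤)
    (by rw [finrank_top, finrank_fin_fun, Fintype.card_fin]; have := H.three_le; omega)
    (formL hg y) (formL hg y') (hex y hy0) (hex y' hy'0)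
  rw [formL_apply] at hky hky'
  obtain ⟨τ, hτ0, hτ⟩ := exists_trace_zero hg.ne_refl hg.involutive
  set δ := τ * f₂ y k with hδ
  have hδ0 : δ ≠ 0 := mul_ne_zero hτ0 (ne_zero_comm hg hky)
  have hX : pt e (y + δ • k) + pt e' y' ∈ uSet hh M := by
    refine hr ?_ (Or.inr ?_)
    · rw [hg.add_left, add_right hg, add_right hg, hg.smul_left, hg.smul_left, smul_right hg,
        smul_right hg, hy, hy', hk, hδ, map_mul, hτ, ← hg.herm k y]
      ring
    · rw [hg.add_left, hg.smul_left, hyy', zero_add]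
      exact mul_ne_zero hδ0 hky'
  have hx₀ : pt e k ∈ uSet hh M := mem_any_iso H hu₀0 hv₀0 hu₀ hv₀ hseed e hk
  have := uSet_move hh hx₀ hX (c := -τ) (by rw [map_neg, hτ])
  rw [hh.add_left, H.pair.prod, H.pair.prod, he, eq_zero_comm H.pair.h₁ hee', hg.add_left,
    hg.smul_left, hk, mul_zero, add_zero, zero_mul, add_zero, one_mul, neg_mul, ← hδ,
    pt_add_right, pt_smul_right] at this
  convert this using 1
  module

/-- One tensor point gives every transvection. -/
theorem iso_inf_sl_le_of_seed (hn : 5 ≤ a * b) : isoOf h ⊓ specialLinear (Fin a × Fin b) F ≤ M := by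
  classical
  have hf := H.pair.h₁
  have hg := H.pair.h₂
  have hh := H.pair.hh
  let Bf : (Fin a → F) →ₛₗ[(σ : F →+* F)] (Fin a → F) →ₗ[F] F :=
    LinearMap.mk₂'ₛₗ (σ : F →+* F) (RingHom.id F) (fun x y => f₁ y x)
      (fun x x' y => add_right hf y x x') (fun c x y => smul_right hf c y x)
      (fun x y y' => hf.add_left y y' x) (fun c x y => hf.smul_left c y x)
  have hσ : (σ : F →+* F) ≠ RingHom.id F := fun e => hf.ne_refl
    (RingEquiv.ext fun x => RingHom.congr_fun e x)
  obtain ⟨E, hspan, hE⟩ := CfsgLib.Forms.exists_orthonormal_family Bf hσ hf.involutive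
    ⟨fun x y => (hf.herm x y).symm⟩ a ⊤ (by rw [finrank_top, finrank_fin_fun]) (fun x _ hx => by
      by_contra hx0
      obtain ⟨y, hy⟩ := (hf.nondegenerate x hx0).1
      exact hy (hx y trivial))
  have hE' : ∀ i j, f₁ (E j) (E i) = if i = j then 1 else 0 := hE
  have hexp : ∀ x, x = ∑ i, f₁ x (E i) • E i := fun x => by
    obtain ⟨c, hc⟩ := (Submodule.mem_span_range_iff_exists_fun F).1
      (hspan.symm ▸ Submodule.mem_top : x ∈ Submodule.span F (Set.range E))
    conv_lhs => rw [← hc]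
    refine Finset.sum_congr rfl fun i _ => ?_
    rw [← hc, ← formL_apply hf, map_sum]
    simp [hE']
  refine iso_inf_sl_le_five hh (by
    rw [Fintype.card_prod, Fintype.card_fin, Fintype.card_fin]; exact hn)
    fun z c hz hc => ?_
  refine (?_ : z ∈ uSet hh M).2 c hc
  -- induction on the number of components
  have hdec : ∀ z : Fin a × Fin b → F, z = ∑ i, pt (E i) (lcon (Unit.formDual hf (E i)) z) := by
    intro z
    have := linear_ext (a := a) (b := b) (f := LinearMap.id)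
      (g := ∑ i, ptLeft (E i) ∘ₗ lcon (Unit.formDual hf (E i))) fun x w => by
        simp only [LinearMap.id_apply, LinearMap.sum_apply, LinearMap.comp_apply, ptLeft_apply,
          lcon_pt, Unit.formDual_dot, pt_smul_right, ← pt_smul_left]
        conv_lhs => rw [hexp x]
        exact map_sum (ptR (a := a) w) _ _
    have := LinearMap.congr_fun this z
    simpa using this
  suffices ∀ N, ∀ y : Fin a → Fin b → F, (Finset.univ.filter fun i => y i ≠ 0).card = N →
      h (∑ i, pt (E i) (y i)) (∑ i, pt (E i) (y i)) = 0 →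
        ∑ i, pt (E i) (y i) ∈ uSet hh M by
    rw [hdec z] at hz ⊢
    exact this _ _ rfl hz
  have hnorm : ∀ y y' : Fin a → Fin b → F,
      h (∑ i, pt (E i) (y i)) (∑ i, pt (E i) (y' i)) = ∑ i, f₂ (y i) (y' i) := by
    intro y y'
    rw [← formL_apply hh, map_sum]
    refine Finset.sum_congr rfl fun i _ => ?_
    rw [formL_apply, hh.herm, ← formL_apply hh, map_sum, map_sum, Finset.sum_eq_single i]
    · rw [formL_apply, H.pair.prod, hE', if_pos rfl, one_mul, ← hg.herm]
    · intro j _ hj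
      rw [formL_apply, H.pair.prod, hE', if_neg (Ne.symm hj), zero_mul, map_zero]
    · exact fun hi => absurd (Finset.mem_univ i) hi
  intro N
  induction N using Nat.strong_induction_on with
  | _ N IH =>
  intro y hN hy
  rw [hnorm] at hy
  set S := Finset.univ.filter fun i => y i ≠ 0 with hS
  rcases Finset.eq_empty_or_nonempty S with hS0 | ⟨j, hj⟩
  · have hz0 : ∀ i, y i = 0 := fun i => by
      by_contra hne
      exact Finset.notMem_empty i (hS0 ▸ Finset.mem_filter.2 ⟨Finset.mem_univ i, hne⟩)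
    simp only [hz0, pt_zero_right, Finset.sum_const_zero]
    simpa using uSet_smul hh 0 hseed
  by_cases h1 : ∀ i, i ≠ j → y i = 0
  · rw [Finset.sum_eq_single j (fun i _ hi => by rw [h1 i hi, pt_zero_right])
      fun hi => absurd (Finset.mem_univ j) hi]
    rw [Finset.sum_eq_single j (fun i _ hi => by rw [h1 i hi, zero_left hg])
      fun hi => absurd (Finset.mem_univ j) hi] at hy
    exact mem_any_iso H hu₀0 hv₀0 hu₀ hv₀ hseed _ hy
  push Not at h1
  obtain ⟨l, hlj, hl⟩ := h1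
  obtain ⟨τ, hτ0, hτ⟩ := exists_trace_zero hg.ne_refl hg.involutive
  obtain ⟨u, hul, huu⟩ := exists_pair_norm hg (by rw [Fintype.card_fin]; exact H.three_le) hl
    (τ - f₂ (y j) (y j)) (s := - f₂ (y j) (y j)) (by rw [map_neg, self_fixed hg])
  let x : Fin a → Fin b → F := fun i => if i = j then y j else if i = l then u else 0
  have hxsum : ∑ i, pt (E i) (x i) = pt (E j) (y j) + pt (E l) u := by
    rw [Fintype.sum_eq_add j l (Ne.symm hlj) fun i hi => by
      simp [x, hi.1, hi.2, pt_zero_right]]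
    simp [x, hlj]
  have hxy : ∀ y' : Fin a → Fin b → F,
      ∑ i, f₂ (x i) (y' i) = f₂ (y j) (y' j) + f₂ u (y' l) := by
    intro y'
    rw [Fintype.sum_eq_add j l (Ne.symm hlj) fun i hi => by
      simp [x, hi.1, hi.2, zero_left hg]]
    simp [x, hlj]
  have hxx : h (∑ i, pt (E i) (x i)) (∑ i, pt (E i) (x i)) = 0 := by
    rw [hnorm, hxy]
    simp [x, hlj, huu]
  have hxS : ∑ i, pt (E i) (x i) ∈ uSet hh M := by
    rw [hxsum]
    refine mem_two H hu₀0 hv₀0 hu₀ hv₀ hseed ?_ ?_ ?_ (by rw [huu, add_neg_cancel])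
    · rw [hE', if_pos rfl]
    · rw [hE', if_pos rfl]
    · rw [hE', if_neg hlj]
  have hxv : h (∑ i, pt (E i) (x i)) (∑ i, pt (E i) (y i)) = τ := by
    rw [hnorm, hxy, hul, add_sub_cancel]
  set X := ∑ i, pt (E i) (x i) with hX
  set Y := ∑ i, pt (E i) (y i) with hY
  have hYY : h Y Y = 0 := by rw [hY, hnorm]; exact hy
  have hsub : ∑ i, pt (E i) ((y - x) i) = Y - X := by
    rw [hX, hY, ← Finset.sum_sub_distrib]
    exact Finset.sum_congr rfl fun i _ => pt_sub_right _ _ _
  have hDD : h (Y - X) (Y - X) = 0 := by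
    rw [sub_left hh, sub_right hh, sub_right hh, hYY, hxx, hxv, hh.herm Y X, hxv, hτ]
    ring
  have hD : Y - X ∈ uSet hh M := by
    rw [← hsub]
    refine IH _ ?_ _ rfl (by rw [hsub]; exact hDD)
    rw [← hN]
    refine Finset.card_lt_card ⟨fun i hi => ?_, fun hsub => ?_⟩
    · rw [Finset.mem_filter] at hi
      refine Finset.mem_filter.2 ⟨hi.1, fun h0 => hi.2 ?_⟩
      rcases eq_or_ne i j with rfl | hij
      · simp [x]
      rcases eq_or_ne i l with rfl | hil
      · exact absurd h0 hl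
      · simp [x, hij, hil, h0]
    · have := (Finset.mem_filter.1 (hsub hj)).2
      simp [x] at this
  have := uSet_add hh hxS hD (by
    rw [sub_left hh, hxx, sub_zero, hh.herm Y X, hxv, hτ]
    exact neg_ne_zero.2 hτ0) (by rw [add_sub_cancel]; exact hYY)
  rwa [add_sub_cancel] at this

end CfsgLib.ClassicalMax.TensorUnit
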