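/-
Tensor products of two unitary forms: with only scalar root maps, the stabiliser of an isotropic
tensor line consists of tensors.
-/
import Cfsg.Agent.Lib.ClassicalMax.TensorUnitBase
set_option autoImplicit false
set_option linter.unusedSectionVars false

namespace CfsgLib.ClassicalMax.TensorUnit

open Matrix Kronecker Module Cfsg.Geo
open CfsgLib.ClassicalMax.Kron
open CfsgLib.ClassicalMax.Unit
open CfsgLib.ClassicalMax.TensorSL (InH lcon lcon_pt)

local notation:80 g:81 " •ᵥ " z:80 => Matrix.mulVec (Units.val g) z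

section Aux

variable {F : Type*} [Field F] [Finite F] {κ : Type} [Fintype κ] [DecidableEq κ]

/-- An injective endomorphism as an invertible matrix. -/
lemma exists_gl (L : (κ → F) →ₗ[F] (κ → F)) (hL : Function.Injective L) :
    ∃ g : GL κ F, ∀ x, g •ᵥ x = L x := by
  have hu : IsUnit (LinearMap.toMatrix' L) := Matrix.mulVec_injective_iff_isUnit.1 fun x y hxy =>
    hL (by simpa [LinearMap.toMatrix'_mulVec] using hxy)
  exact ⟨hu.unit, fun x => by rw [IsUnit.unit_spec, LinearMap.toMatrix'_mulVec]⟩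

/-- A unipotent matrix with vanishing cube has determinant one. -/
lemma det_one_add_cube_zero {N : Matrix κ κ F} (h : N * N * N = 0) : Matrix.det (1 + N) = 1 := by
  obtain ⟨p, hp⟩ := CharP.exists F
  haveI : Fact p.Prime := ⟨CharP.char_is_prime F p⟩
  rcases isEmpty_or_nonempty κ with hκ | hκ
  · exact Matrix.det_isEmpty
  haveI : CharP (Matrix κ κ F) p :=
    charP_of_injective_algebraMap (algebraMap F (Matrix κ κ F)).injective p
  have hp2 := (Fact.out (p := p.Prime)).two_le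
  have h1 : (1 + N) ^ p ^ 2 = 1 := by
    rw [add_pow_char_pow_of_commute p 2 (Commute.one_left N), one_pow,
      show N ^ p ^ 2 = 0 by
        obtain ⟨m, hm⟩ := Nat.exists_eq_add_of_le (show 3 ≤ p ^ 2 by nlinarith)
        rw [hm, pow_add, pow_three, ← mul_assoc, h, zero_mul], add_zero]
  have h2 := congrArg Matrix.det h1
  rw [det_pow, det_one] at h2
  exact iterateFrobenius_inj F p 2 (by simpa [iterateFrobenius_def] using h2)

end Aux

variable {F : Type*} [Field F] [DecidableEq F] {a b : ℕ} {σ : F ≃+* F}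
  {h : (Fin a × Fin b → F) → (Fin a × Fin b → F) → F} {f₁ : (Fin a → F) → (Fin a → F) → F}
  {f₂ : (Fin b → F) → (Fin b → F) → F} {M : Subgroup (GL (Fin a × Fin b) F)}
  [Fintype F] (H : Hyp σ h f₁ f₂ M)
include H

lemma mem_iso {g : GL (Fin a × Fin b) F} (hg : g ∈ M) : g ∈ isoOf h := (H.le hg).1

lemma nonempty_left : Nonempty (Fin a) := ⟨⟨0, by have := H.two_le; omega⟩⟩

/-- Linear map `s ↦ cv v' (x (pt s w) - pt s w)`. -/
lemma lw_eq {x : GL (Fin a × Fin b) F} {v v' : Fin b → F} (hv : f₂ v' v = 1)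
    (hker : ∀ z, cv H.pair v z = 0 → ∃ s, x •ᵥ z = z + pt s v) {w : Fin b → F} (hw : f₂ v w = 0)
    (s : Fin a → F) :
    x •ᵥ pt s w = pt s w + pt (cv H.pair v' (x •ᵥ pt s w - pt s w)) v := by
  obtain ⟨t, ht⟩ := hker (pt s w) (by rw [cv_pt, eq_zero_comm H.pair.h₂ hw, zero_smul])
  have e : f₂ v v' = 1 := by rw [H.pair.h₂.herm, hv, map_one]
  rw [ht, add_sub_cancel_left, cv_pt, e, one_smul]

/-- An element fixing a tensor line pointwise acts by scalars between it and its perp. -/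
lemma exists_phi (hS : OnlyScalar H.pair M) {x : GL (Fin a × Fin b) F} (hx : x ∈ M) {v : Fin b → F}
    (hv0 : v ≠ 0) (hv : f₂ v v = 0) (hfix : ∀ s, x •ᵥ pt s v = pt s v)
    (hker : ∀ z, cv H.pair v z = 0 → ∃ s, x •ᵥ z = z + pt s v) :
    ∃ φ : (Fin b → F) →ₗ[F] F,
      ∀ w, f₂ v w = 0 → ∀ s, x •ᵥ pt s w = pt s w + pt (φ w • s) v := by
  have hP := H.pair
  obtain ⟨v', -, hvv', hv'v⟩ := exists_partner hP.h₂ hv0 hv
  let D : (Fin a × Fin b → F) →ₗ[F] (Fin a × Fin b → F) :=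
    Matrix.toLin' (x : Matrix (Fin a × Fin b) (Fin a × Fin b) F) - LinearMap.id
  let D' : (Fin a × Fin b → F) →ₗ[F] (Fin a × Fin b → F) :=
    Matrix.toLin' ((x⁻¹ : GL (Fin a × Fin b) F) : Matrix (Fin a × Fin b) (Fin a × Fin b) F) -
      LinearMap.id
  have hcvx : ∀ z, cv hP v (x •ᵥ z) = cv hP v z := fun z => by
    refine eq_of_form hP.h₁ fun s => ?_
    rw [← h_pt_right hP, ← h_pt_right hP]
    conv_lhs => rw [← hfix s]
    exact mem_iso H hx _ _
  let L : (Fin b → F) → ((Fin a → F) →ₗ[F] (Fin a → F)) := fun w => cv hP v' ∘ₗ D ∘ₗ ptR w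
  let L' : (Fin b → F) → ((Fin a → F) →ₗ[F] (Fin a → F)) := fun w => cv hP w ∘ₗ D' ∘ₗ ptR v'
  have hL : ∀ w, f₂ v w = 0 → ∀ s, x •ᵥ pt s w = pt s w + pt (L w s) v := fun w hw s => by
    simpa [L, D, Matrix.toLin'_apply] using lw_eq H hv'v hker hw s
  -- the commutators give root maps
  have hRK : ∀ w, f₂ v w = 0 → RK hP M v (L w - L' w) := by
    intro w hw
    obtain ⟨c, hc⟩ := exists_trace_eq hP.h₂ (s := - f₂ w w) (by rw [map_neg, self_fixed hP.h₂])
    set n := kronGL (1 : GL (Fin a) F) (eich hP.h₂ v w c)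
    have hn : n ∈ M := H.right_mem (eich_mem_isoOf hP.h₂ hv hw hc) (eich_mem_sl _ _ _ _)
    refine ⟨n⁻¹ * (x * n * x⁻¹), M.mul_mem (M.inv_mem hn) (M.mul_mem (M.mul_mem hx hn) (M.inv_mem hx)),
      fun z => gl_mulVec_injective n ?_⟩
    show n •ᵥ _ = n •ᵥ _
    set y := x⁻¹ •ᵥ z with hy
    have hcy : cv hP v y = cv hP v z := by rw [← hcvx y, hy, gl_mulVec_inv_mulVec]
    set z₀ := z - pt (cv hP v z) v' with hz₀
    have hcz₀ : cv hP v z₀ = 0 := by rw [hz₀, map_sub, cv_pt, hv'v, one_smul, sub_self]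
    have hwy : cv hP w y - cv hP w z = L' w (cv hP v z) := by
      obtain ⟨t, ht⟩ := hker z₀ hcz₀
      have h1 : x⁻¹ •ᵥ z₀ = z₀ - pt t v := gl_mulVec_injective x (by
        show x •ᵥ _ = x •ᵥ _
        rw [gl_mulVec_inv_mulVec, mulVec_sub, ht, hfix, add_sub_cancel_right])
      have h2 := congrArg (cv hP w) h1
      rw [hz₀, mulVec_sub, map_sub, map_sub, map_sub, cv_pt hP w t v, hw, zero_smul, sub_zero,
        ← hy] at h2
      simp only [L', D', LinearMap.comp_apply, ptR_apply, LinearMap.sub_apply, Matrix.toLin'_apply,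
        LinearMap.id_apply, map_sub]
      linear_combination (norm := module) h2
    rw [gl_mulVec_mul, gl_mulVec_inv_mulVec, gl_mulVec_mul, gl_mulVec_mul, ← hy,
      kron_eich_act hP hv hw, kron_eich_act hP hv hw, mulVec_add, mulVec_add, hy,
      gl_mulVec_inv_mulVec, ← hy, hfix, hL w hw, hcy, map_add, map_add, cv_pt, cv_pt, hv, hw,
      LinearMap.sub_apply, ← hwy]
    simp only [zero_smul, add_zero]
    funext i
    simp [pt, Pi.add_apply]
    ring
  have hadj : ∀ w, f₂ v w = 0 → ∀ s t, f₁ (L' w s) t = f₁ s (L w t) := by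
    intro w hw s t
    simp only [L', D', LinearMap.comp_apply, ptR_apply, LinearMap.sub_apply, Matrix.toLin'_apply,
      LinearMap.id_apply, map_sub, sub_left hP.h₁]
    rw [← h_pt_right hP, ← h_pt_right hP,
      form_mulVec_left ((isoOf h).inv_mem (mem_iso H hx)), inv_inv, hL w hw,
      add_right hP.hh, add_sub_cancel_left, hP.prod, hv'v, mul_one]
  obtain ⟨l, hl⟩ : ∃ l, σ l ≠ l := by
    by_contra h
    push Not at h
    exact hP.h₁.ne_refl (RingEquiv.ext h)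
  have hscal : ∀ w, f₂ v w = 0 → ∃ c : F, ∀ s, L w s = c • s := by
    intro w hw
    have hlw : f₂ v (l • w) = 0 := by rw [smul_right hP.h₂, hw, mul_zero]
    obtain ⟨c, hc⟩ := hS v _ hv0 hv (hRK w hw)
    obtain ⟨c', hc'⟩ := hS v _ hv0 hv (hRK _ hlw)
    have hLl : ∀ s, L (l • w) s = l • L w s := fun s => by simp [L, pt_smul_right]
    have hL'l : ∀ s, L' (l • w) s = σ l • L' w s := fun s => by
      refine eq_of_form hP.h₁ fun t => ?_
      rw [hadj _ hlw, hP.h₁.smul_left, hadj _ hw, hLl, smul_right hP.h₁]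
    refine ⟨(c' - σ l * c) / (l - σ l), fun s => ?_⟩
    have h1 : L w s - L' w s = c • s := hc s
    have h2 : L (l • w) s - L' (l • w) s = c' • s := hc' s
    rw [hLl, hL'l] at h2
    have h3 : (l - σ l) • L w s = (c' - σ l * c) • s := by
      linear_combination (norm := module) h2 - σ l • h1
    rw [div_eq_inv_mul, mul_smul, ← h3, inv_smul_smul₀ (sub_ne_zero.2 (Ne.symm hl))]
  haveI := nonempty_left H
  obtain ⟨x₀, hx₀⟩ := exists_ne (0 : Fin a → F)
  obtain ⟨η, hη⟩ := exists_sum_dot hx₀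
  refine ⟨{ toFun := fun w => η ⬝ᵥ L w x₀
            map_add' := fun w w' => by simp [L, pt_add_right, dotProduct_add, mulVec_add]
            map_smul' := fun c w => by simp [L, pt_smul_right, dotProduct_smul, mulVec_smul] },
    fun w hw s => ?_⟩
  obtain ⟨c, hc⟩ := hscal w hw
  show _ = pt s w + pt ((η ⬝ᵥ L w x₀) • s) v
  rw [hL w hw, hc, hc, dotProduct_smul, hη, smul_eq_mul, mul_one]

/-- An element fixing an isotropic tensor line pointwise, trivial between it and its perp, is a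
tensor. -/
lemma rad_inH (hS : OnlyScalar H.pair M) {x : GL (Fin a × Fin b) F} (hx : x ∈ M) {v : Fin b → F}
    (hv0 : v ≠ 0) (hv : f₂ v v = 0) (hfix : ∀ s, x •ᵥ pt s v = pt s v)
    (hker : ∀ z, cv H.pair v z = 0 → ∃ s, x •ᵥ z = z + pt s v) : InH x := by
  have hP := H.pair
  obtain ⟨v', -, hvv', hv'v⟩ := exists_partner hP.h₂ hv0 hv
  obtain ⟨φ, hφ⟩ := exists_phi H hS hx hv0 hv hfix hker
  obtain ⟨w₀, hw₀⟩ := Unit.exists_form_eq hP.h₂ φ
  haveI := nonempty_left H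
  obtain ⟨x₀, hx₀⟩ := exists_ne (0 : Fin a → F)
  have hφv : φ v = 0 := by
    have h1 := hφ v hv x₀
    rw [hfix, left_eq_add] at h1
    by_contra hne
    exact pt_ne_zero (smul_ne_zero hne hx₀) hv0 h1
  have hvw₀ : f₂ v w₀ = 0 := by rw [hw₀, hφv]
  obtain ⟨c, hc⟩ := exists_trace_eq hP.h₂ (s := - f₂ w₀ w₀) (by rw [map_neg, self_fixed hP.h₂])
  set n := kronGL (1 : GL (Fin a) F) (eich hP.h₂ v w₀ c) with hndef
  have hn : n ∈ M := H.right_mem (eich_mem_isoOf hP.h₂ hv hvw₀ hc) (eich_mem_sl _ _ _ _)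
  set x₁ := n * x with hx₁def
  have hx₁ : x₁ ∈ M := M.mul_mem hn hx
  have hfix₁ : ∀ w, f₂ v w = 0 → ∀ s, x₁ •ᵥ pt s w = pt s w := by
    intro w hw s
    rw [hx₁def, gl_mulVec_mul, hφ w hw, mulVec_add, hndef, kronGL_pt, kronGL_pt, Units.val_one,
      one_mulVec, one_mulVec, eich_mulVec hP.h₂ hv hvw₀, eich_mulVec hP.h₂ hv hvw₀,
      eq_zero_comm hP.h₂ hw, hv, hw₀, hvw₀]
    funext i
    simp [pt]
    ring
  have hD : ∀ z, ∃ s, x₁ •ᵥ z - z = pt s v := fun z => ⟨_, eq_pt_of_cv hP hvv' fun w hw => by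
    refine eq_of_form hP.h₁ fun t => ?_
    rw [map_sub, sub_left hP.h₁, zero_left hP.h₁, ← h_pt_right hP, ← h_pt_right hP, sub_eq_zero]
    conv_lhs => rw [← hfix₁ w hw t]
    exact mem_iso H hx₁ _ _⟩
  let K : (Fin a → F) →ₗ[F] (Fin a → F) := cv hP v' ∘ₗ
    (Matrix.toLin' (x₁ : Matrix (Fin a × Fin b) (Fin a × Fin b) F) - LinearMap.id) ∘ₗ ptR v'
  have hK : ∀ z, x₁ •ᵥ z = z + pt (K (cv hP v z)) v := by
    intro z
    have := linear_ext (f := Matrix.toLin' (x₁ : Matrix (Fin a × Fin b) (Fin a × Fin b) F))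
      (g := LinearMap.id + ptR v ∘ₗ K ∘ₗ cv hP v) fun s w => by
        have hw' : f₂ v (w - f₂ w v • v') = 0 := by
          rw [sub_right hP.h₂, smul_right hP.h₂, hvv', mul_one, ← hP.h₂.herm, sub_self]
        obtain ⟨t, ht⟩ := hD (pt (f₂ w v • s) v')
        have e : pt s w = pt s (w - f₂ w v • v') + pt (f₂ w v • s) v' := by
          rw [pt_sub_right, pt_smul_right, pt_smul_left, sub_add_cancel]
        have e' : cv hP v (pt s w) = f₂ w v • s := cv_pt hP _ _ _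
        simp only [LinearMap.add_apply, LinearMap.id_apply, LinearMap.comp_apply, ptR_apply, e',
          Matrix.toLin'_apply, K, LinearMap.sub_apply, ht, cv_pt, hvv', one_smul]
        conv_lhs => rw [e, mulVec_add, hfix₁ _ hw', sub_eq_iff_eq_add.1 ht]
        rw [e]; abel
    exact LinearMap.congr_fun this z
  obtain ⟨κ, hκ⟩ := hS v K hv0 hv ⟨x₁, hx₁, hK⟩
  have hd : (κ • Unit.formDual hP.h₂ v) ⬝ᵥ v = 0 := uTv_dot hP.h₂ hv κ
  have hroot : x₁ = kronGL 1 (tvGL v (κ • Unit.formDual hP.h₂ v)) := by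
    refine gl_ext_pt fun s w => ?_
    rw [hK, hκ, cv_pt, kronGL_pt, Units.val_one, one_mulVec, tvGL_mulVec hd, smul_dotProduct,
      Unit.formDual_dot, pt_add_right, pt_smul_right, pt_smul_left, pt_smul_left, smul_smul,
      smul_eq_mul]
  have : x = n⁻¹ * x₁ := by rw [hx₁def, inv_mul_cancel_left]
  rw [this]
  exact InH.mul (InH.inv ⟨_, _, hndef⟩) ⟨_, _, hroot⟩

/-- The stabiliser of an isotropic tensor line consists of tensors. -/
theorem line_inH (hS : OnlyScalar H.pair M) {g : GL (Fin a × Fin b) F} (hg : g ∈ M)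
    {v v₁ : Fin b → F} (hv0 : v ≠ 0) (hv : f₂ v v = 0) (hv₁0 : v₁ ≠ 0) (hv₁ : f₂ v₁ v₁ = 0)
    (hline : ∀ s, ∃ t, g •ᵥ pt s v₁ = pt t v) : InH g := by
  have hP := H.pair
  haveI := nonempty_left H
  haveI : Nonempty (Fin b) := ⟨⟨0, by have := H.three_le; omega⟩⟩
  obtain ⟨v', -, hvv', hv'v⟩ := exists_partner hP.h₂ hv0 hv
  obtain ⟨v₂, hv₂, hv₁v₂, hv₂v₁⟩ := exists_partner hP.h₂ hv₁0 hv₁
  have hgi := mem_iso H hg
  let α : (Fin a → F) →ₗ[F] (Fin a → F) := cv hP v' ∘ₗ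
    Matrix.toLin' (g : Matrix (Fin a × Fin b) (Fin a × Fin b) F) ∘ₗ ptR v₁
  have hα : ∀ s, g •ᵥ pt s v₁ = pt (α s) v := fun s => by
    obtain ⟨t, ht⟩ := hline s
    simp [α, Matrix.toLin'_apply, ht, cv_pt, hvv']
  have hαinj : Function.Injective α := fun s t hst =>
    ptR_injective hv₁0 (gl_mulVec_injective g (by simp [hα, hst]))
  have hαsurj : Function.Surjective α := Finite.injective_iff_surjective.1 hαinj
  let β : (Fin a → F) →ₗ[F] (Fin a → F) := cv hP v₁ ∘ₗ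
    Matrix.toLin' ((g⁻¹ : GL (Fin a × Fin b) F) : Matrix (Fin a × Fin b) (Fin a × Fin b) F) ∘ₗ ptR v'
  have hcg : ∀ z s, f₁ (cv hP v₁ (g⁻¹ •ᵥ z)) s = f₁ (cv hP v z) (α s) := fun z s => by
    rw [← h_pt_right hP, ← h_pt_right hP, ← hα,
      form_mulVec_left ((isoOf h).inv_mem hgi), inv_inv]
  have hβ : ∀ z, cv hP v₁ (g⁻¹ •ᵥ z) = β (cv hP v z) := fun z => eq_of_form hP.h₁ fun s => by
    simp only [β, LinearMap.comp_apply, Matrix.toLin'_apply, ptR_apply, hcg, cv_pt, hv'v, one_smul]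
  have hβadj : ∀ s t, f₁ (β s) t = f₁ s (α t) := fun s t => by
    simp only [β, LinearMap.comp_apply, Matrix.toLin'_apply, ptR_apply, hcg, cv_pt, hv'v, one_smul]
  -- the similarity
  obtain ⟨μ, hμ⟩ : ∃ μ : F, ∀ s, α (β s) = μ • s := by
    obtain ⟨τ, hτ0, hτ⟩ := exists_trace_zero hP.h₂.ne_refl hP.h₂.involutive
    set T := kronGL (1 : GL (Fin a) F) (uTv hP.h₂ v₁ τ)
    have hT : T ∈ M := H.right_mem (uTv_mem_isoOf hP.h₂ hv₁ hτ) (uTv_mem_sl _ _ _)
    obtain ⟨μ, hμ⟩ := hS v (τ • (α ∘ₗ β)) hv0 hv ⟨g * T * g⁻¹,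
      M.mul_mem (M.mul_mem hg hT) (M.inv_mem hg), fun z => by
        rw [gl_mulVec_mul, gl_mulVec_mul, kron_uTv_act hP hv₁, mulVec_add, gl_mulVec_inv_mulVec,
          hα, hβ, map_smul]
        rfl⟩
    refine ⟨τ⁻¹ * μ, fun s => ?_⟩
    have := hμ s
    rw [LinearMap.smul_apply, LinearMap.comp_apply] at this
    rw [mul_smul, ← this, inv_smul_smul₀ hτ0]
  have hμ0 : μ ≠ 0 := by
    intro e
    obtain ⟨s, hs⟩ := exists_anisotropic hP.h₁
    obtain ⟨t, rfl⟩ := hαsurj s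
    refine hs ?_
    rw [← hβadj, hαinj (show α (β (α t)) = α 0 by rw [hμ, e, zero_smul, map_zero]), zero_left hP.h₁]
  have hαform : ∀ s t, f₁ (α s) (α t) = μ * f₁ s t := fun s t => by
    rw [← hβadj, hαinj (show α (β (α s)) = α (μ • s) by rw [hμ, map_smul]), hP.h₁.smul_left]
  have hμσ : σ μ = μ := by
    obtain ⟨s, hs⟩ := exists_anisotropic hP.h₁
    have h1 := self_fixed hP.h₁ (α s)
    rw [hαform, map_mul, self_fixed hP.h₁] at h1
    exact mul_right_cancel₀ hs h1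
  -- images of the perp of the line
  have hcg0 : ∀ w', f₂ v₁ w' = 0 → ∀ s, cv hP v (g •ᵥ pt s w') = 0 := fun w' hw' s =>
    eq_of_form hP.h₁ fun t => by
      obtain ⟨t, rfl⟩ := hαsurj t
      rw [zero_left hP.h₁, ← h_pt_right hP, ← hα, mem_isoOf.1 hgi, hP.prod,
        eq_zero_comm hP.h₂ hw', mul_zero]
  have hψ : ∀ w', f₂ v₁ w' = 0 → ∀ w, f₂ v w = 0 →
      ∃ ψ : F, ∀ s, cv hP w (g •ᵥ pt s w') = ψ • α s := by
    intro w' hw'
    obtain ⟨c, hc⟩ := exists_trace_eq hP.h₂ (s := - f₂ w' w') (by rw [map_neg, self_fixed hP.h₂])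
    set n := kronGL (1 : GL (Fin a) F) (eich hP.h₂ v₁ w' c)
    have hn : n ∈ M := H.right_mem (eich_mem_isoOf hP.h₂ hv₁ hw' hc) (eich_mem_sl _ _ _ _)
    have hx : g * n * g⁻¹ ∈ M := M.mul_mem (M.mul_mem hg hn) (M.inv_mem hg)
    have hact : ∀ z, cv hP v z = 0 →
        (g * n * g⁻¹) •ᵥ z = z + pt (-α (cv hP w' (g⁻¹ •ᵥ z))) v := by
      intro z hz
      rw [gl_mulVec_mul, gl_mulVec_mul, kron_eich_act hP hv₁ hw', hβ, hz, map_zero, smul_zero,
        zero_sub, pt_zero_left, add_zero, mulVec_add, gl_mulVec_inv_mulVec, hα, map_neg]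
    have hfix : ∀ s, (g * n * g⁻¹) •ᵥ pt s v = pt s v := fun s => by
      obtain ⟨t, rfl⟩ := hαsurj s
      rw [← hα, gl_mulVec_mul, gl_mulVec_mul, gl_inv_mulVec_mulVec, kron_eich_act hP hv₁ hw', cv_pt,
        cv_pt, hv₁, hw']
      simp [pt_zero_left]
    obtain ⟨φ, hφ⟩ := exists_phi H hS hx hv0 hv hfix fun z hz => ⟨_, hact z hz⟩
    intro w hw
    have h1 : ∀ t, -α (cv hP w' (g⁻¹ •ᵥ pt t w)) = φ w • t := fun t => by
      have e := (hact (pt t w) (by rw [cv_pt, eq_zero_comm hP.h₂ hw, zero_smul])).symm.trans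
        (hφ w hw t)
      exact ptR_injective hv0 (add_left_cancel e)
    have h2 : ∀ t, cv hP w' (g⁻¹ •ᵥ pt t w) = (-(φ w) / μ) • β t := fun t => by
      refine hαinj ?_
      rw [map_smul, hμ, smul_smul, div_mul_cancel₀ _ hμ0, neg_smul, ← h1, neg_neg]
    refine ⟨σ (-(φ w) / μ), fun s => eq_of_form hP.h₁ fun t => ?_⟩
    rw [hP.h₁.smul_left, ← h_pt_right hP, form_mulVec_left hgi, h_pt_left hP, h2, smul_right hP.h₁]
    congr 1
    rw [hP.h₁.herm, hβadj, ← hP.h₁.herm]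
  obtain ⟨lam, hlam⟩ := exists_norm_eq hP.h₁.ne_refl hP.h₁.involutive hμσ
  have hlam0 : lam ≠ 0 := fun e => hμ0 (by rw [← hlam, e, zero_mul])
  obtain ⟨s₀, hs₀⟩ := exists_anisotropic hP.h₁
  have hαs₀ : α s₀ ≠ 0 := fun e => hs₀ (by rw [hαinj (e.trans (map_zero α).symm), zero_left hP.h₁])
  obtain ⟨η, hη⟩ := exists_sum_dot hαs₀
  let y : (Fin b → F) →ₗ[F] (Fin b → F) := lam • (lcon η ∘ₗ
    Matrix.toLin' (g : Matrix (Fin a × Fin b) (Fin a × Fin b) F) ∘ₗ ptLeft s₀)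
  obtain ⟨A, hA⟩ := exists_gl (lam⁻¹ • α) (fun s t hst => hαinj (by
    simpa using congrArg (lam • ·) hst |> fun e => by simpa [smul_smul, hlam0] using e))
  have hAi : A ∈ isoOf f₁ := by
    intro s t
    show f₁ (A •ᵥ s) (A •ᵥ t) = f₁ s t
    rw [hA, hA, LinearMap.smul_apply, LinearMap.smul_apply, hP.h₁.smul_left, smul_right hP.h₁,
      hαform, ← hlam, map_inv₀]
    have : σ lam ≠ 0 := fun e => hlam0 (by simpa using congrArg σ.symm e)
    field_simp
  have hlcon : ∀ w z, f₂ (lcon η z) w = η ⬝ᵥ cv hP w z := by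
    intro w z
    let E : (Fin a → F) →ₗ[F] F :=
      { toFun := fun x => η ⬝ᵥ x
        map_add' := fun x x' => dotProduct_add _ _ _
        map_smul' := fun c x => dotProduct_smul _ _ _ }
    have := linear_ext (f := formL hP.h₂ w ∘ₗ lcon η) (g := E ∘ₗ cv hP w) fun x u => by
      simp [E, lcon_pt, cv_pt, hP.h₂.smul_left, dotProduct_smul, mul_comm]
    exact LinearMap.congr_fun this z
  have hy : ∀ w', f₂ v₁ w' = 0 → f₂ (y w') v = 0 ∧
      ∀ s, ∃ t, g •ᵥ pt s w' = pt (A •ᵥ s) (y w') + pt t v := by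
    intro w' hw'
    refine ⟨?_, fun s => ?_⟩
    · simp only [y, LinearMap.smul_apply, LinearMap.comp_apply, ptLeft_apply, Matrix.toLin'_apply,
        hP.h₂.smul_left, hlcon, hcg0 w' hw', dotProduct_zero, mul_zero]
    · refine ⟨_, eq_add_of_sub_eq' (eq_pt_of_cv hP hvv' fun w hw => ?_)⟩
      obtain ⟨ψ, hψ'⟩ := hψ w' hw' w hw
      have hY : f₂ (y w') w = lam * ψ := by
        simp only [y, LinearMap.smul_apply, LinearMap.comp_apply, ptLeft_apply, Matrix.toLin'_apply,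
          hP.h₂.smul_left, hlcon, hψ', dotProduct_smul, hη, smul_eq_mul, mul_one]
      rw [map_sub, hψ', cv_pt, hY, hA, LinearMap.smul_apply, smul_smul, mul_right_comm,
        mul_inv_cancel₀ hlam0, one_mul, sub_self]
  have hyv : y v₁ = lam • v := by
    simp [y, Matrix.toLin'_apply, hα, lcon_pt, hη]
  have hyiso : ∀ w w', f₂ v₁ w = 0 → f₂ v₁ w' = 0 → f₂ (y w) (y w') = f₂ w w' := by
    intro w w' hw hw'
    obtain ⟨hwv, hwt⟩ := hy w hw
    obtain ⟨hwv', hwt'⟩ := hy w' hw'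
    obtain ⟨t, ht⟩ := hwt s₀
    obtain ⟨t', ht'⟩ := hwt' s₀
    have h1 := mem_isoOf.1 hgi (pt s₀ w) (pt s₀ w')
    rw [ht, ht', hP.hh.add_left, add_right hP.hh, add_right hP.hh, hP.prod, hP.prod, hP.prod,
      hP.prod, hP.prod, hwv, eq_zero_comm hP.h₂ hwv', hv, mul_zero, mul_zero, mul_zero, add_zero,
      add_zero, add_zero, mem_isoOf.1 hAi] at h1
    exact mul_left_cancel₀ hs₀ h1
  -- extend to an isometry of the second factor
  let W : Submodule F (Fin b → F) := LinearMap.ker (formL hP.h₂ v₁)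
  have hW : ∀ {w}, w ∈ W → f₂ v₁ w = 0 := fun {w} hw => eq_zero_comm hP.h₂ hw
  have hyinj : Function.Injective (y.domRestrict W) := by
    refine (injective_iff_map_eq_zero _).2 fun ⟨w, hw⟩ e => Subtype.ext ?_
    change y w = 0 at e
    have h1 : w = f₂ w v₂ • v₁ := by
      refine eq_of_form hP.h₂ fun x => ?_
      have hx : f₂ v₁ (x - f₂ x v₁ • v₂) = 0 := by
        rw [sub_right hP.h₂, smul_right hP.h₂, hv₁v₂, mul_one, ← hP.h₂.herm, sub_self]
      have h2 : f₂ w (x - f₂ x v₁ • v₂) = 0 := by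
        rw [← hyiso w _ (hW hw) hx, e, zero_left hP.h₂]
      rw [sub_right hP.h₂, smul_right hP.h₂, sub_eq_zero] at h2
      rw [h2, hP.h₂.smul_left, ← hP.h₂.herm, mul_comm]
    have h3 := congrArg y h1
    rw [e, map_smul, hyv, smul_smul, eq_comm, smul_eq_zero, or_iff_left hv0, mul_eq_zero,
      or_iff_left hlam0] at h3
    show w = 0
    rw [h1, h3, zero_smul]
  obtain ⟨yi, hyi⟩ := LinearMap.exists_leftInverse_of_injective (y.domRestrict W)
    (LinearMap.ker_eq_bot.2 hyinj)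
  obtain ⟨p₀, hp₀⟩ := Unit.exists_form_eq hP.h₂ (formL hP.h₂ v₂ ∘ₗ W.subtype ∘ₗ yi)
  have hp₀' : ∀ w, w ∈ W → f₂ (y w) p₀ = f₂ w v₂ := fun w hw => by
    rw [hp₀]
    have := LinearMap.congr_fun hyi ⟨w, hw⟩
    simp only [LinearMap.comp_apply, LinearMap.id_apply] at this
    rw [LinearMap.comp_apply, LinearMap.comp_apply, formL_apply,
      show y w = y.domRestrict W ⟨w, hw⟩ from rfl, this]
    rfl
  have hvp : lam * f₂ v p₀ = 1 := by
    rw [← hP.h₂.smul_left, ← hyv, hp₀' v₁ hv₁, hv₁v₂]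
  obtain ⟨a₀, ha₀⟩ := exists_trace_eq hP.h₂ (s := - f₂ p₀ p₀) (by rw [map_neg, self_fixed hP.h₂])
  set p := p₀ + (lam * a₀) • v with hp
  have hpp : f₂ p p = 0 := by
    rw [hp, hP.h₂.add_left, add_right hP.h₂, add_right hP.h₂, hP.h₂.smul_left, hP.h₂.smul_left,
      smul_right hP.h₂, smul_right hP.h₂, hv, hP.h₂.herm p₀ v, map_mul]
    have hvp' := congrArg σ hvp
    rw [map_mul, map_one] at hvp'
    linear_combination ha₀ + a₀ * hvp + σ a₀ * hvp'
  have hyp : ∀ w, w ∈ W → f₂ (y w) p = f₂ w v₂ := fun w hw => by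
    rw [hp, add_right hP.h₂, smul_right hP.h₂, (hy w (hW hw)).1, mul_zero, add_zero, hp₀' w hw]
  let Bl : (Fin b → F) →ₗ[F] (Fin b → F) :=
    y ∘ₗ (LinearMap.id - (formL hP.h₂ v₁).smulRight v₂) + (formL hP.h₂ v₁).smulRight p
  have hWm : ∀ w, w - f₂ w v₁ • v₂ ∈ W := fun w => by
    show f₂ (w - f₂ w v₁ • v₂) v₁ = 0
    rw [sub_left hP.h₂, hP.h₂.smul_left, hv₂v₁, mul_one, sub_self]
  have hBl : ∀ w, Bl w = y (w - f₂ w v₁ • v₂) + f₂ w v₁ • p := fun w => rfl
  have hBiso : ∀ w w', f₂ (Bl w) (Bl w') = f₂ w w' := by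
    intro w w'
    rw [hBl, hBl, hP.h₂.add_left, add_right hP.h₂, add_right hP.h₂, hP.h₂.smul_left,
      hP.h₂.smul_left, smul_right hP.h₂, smul_right hP.h₂, hpp, hyp _ (hWm w),
      hP.h₂.herm p, hyp _ (hWm w'), hyiso _ _ (hW (hWm w)) (hW (hWm w')), ← hP.h₂.herm v₂]
    simp only [sub_left hP.h₂, sub_right hP.h₂, hP.h₂.smul_left, smul_right hP.h₂, hv₂, hv₂v₁]
    ring
  obtain ⟨B, hB⟩ := exists_gl Bl fun w w' e => eq_of_form hP.h₂ fun x => by
    rw [← hBiso, e, hBiso]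
  have hBi : B ∈ isoOf f₂ := fun w w' => by
    show f₂ (B •ᵥ w) (B •ᵥ w') = f₂ w w'
    rw [hB, hB, hBiso]
  have hBW : ∀ w', f₂ v₁ w' = 0 → B •ᵥ w' = y w' := fun w' hw' => by
    rw [hB, hBl, eq_zero_comm hP.h₂ hw', zero_smul, sub_zero, zero_smul, add_zero]
  set k := kronGL A B with hk
  have hki : k ∈ isoOf h := kron_mem_iso hP hAi hBi
  have hkv : ∀ s, k •ᵥ pt s v₁ = pt (α s) v := fun s => by
    rw [hk, kronGL_pt, hA, hBW v₁ hv₁, hyv, LinearMap.smul_apply, pt_smul_left, pt_smul_right,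
      inv_smul_smul₀ hlam0]
  set u := k⁻¹ * g with hu
  have hufix : ∀ s, u •ᵥ pt s v₁ = pt s v₁ := fun s => by
    rw [hu, gl_mulVec_mul, hα, ← hkv, gl_inv_mulVec_mulVec]
  have huW : ∀ w', f₂ v₁ w' = 0 → ∀ s, ∃ t, u •ᵥ pt s w' = pt s w' + pt t v₁ := by
    intro w' hw' s
    obtain ⟨t, ht⟩ := (hy w' hw').2 s
    obtain ⟨t', rfl⟩ := hαsurj t
    refine ⟨t', ?_⟩
    rw [hu, gl_mulVec_mul, ht, ← hBW w' hw', ← kronGL_pt, ← hkv, ← hk, mulVec_add,
      gl_inv_mulVec_mulVec, gl_inv_mulVec_mulVec]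
  have huker : ∀ z, cv hP v₁ z = 0 → ∃ s, u •ᵥ z = z + pt s v₁ := by
    intro z hz
    let E : (Fin a × Fin b → F) →ₗ[F] (Fin a × Fin b → F) :=
      LinearMap.id - ptR v₂ ∘ₗ cv hP v₁
    let D : (Fin a × Fin b → F) →ₗ[F] (Fin a × Fin b → F) :=
      (Matrix.toLin' (u : Matrix (Fin a × Fin b) (Fin a × Fin b) F) - LinearMap.id) ∘ₗ E
    have := linear_ext (f := D) (g := ptR v₁ ∘ₗ cv hP v₂ ∘ₗ D) fun s w => by
      have hE : E (pt s w) = pt s (w - f₂ w v₁ • v₂) := by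
        simp [E, cv_pt, pt_sub_right, pt_smul_right, pt_smul_left]
      obtain ⟨t, ht⟩ := huW _ (hW (hWm w)) s
      have hD : D (pt s w) = pt t v₁ := by
        simp only [D, LinearMap.comp_apply, hE, LinearMap.sub_apply, Matrix.toLin'_apply, ht,
          LinearMap.id_apply, add_sub_cancel_left]
      show D (pt s w) = ptR v₁ (cv hP v₂ (D (pt s w)))
      rw [hD, cv_pt, hv₁v₂, one_smul, ptR_apply]
    have h1 := LinearMap.congr_fun this z
    simp only [D, E, LinearMap.comp_apply, LinearMap.sub_apply, LinearMap.id_apply, hz, map_zero,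
      sub_zero, Matrix.toLin'_apply, ptR_apply] at h1
    exact ⟨_, eq_add_of_sub_eq' h1⟩
  have hucv : ∀ z, cv hP v₁ (u •ᵥ z) = cv hP v₁ z := fun z => eq_of_form hP.h₁ fun s => by
    rw [← h_pt_right hP, ← h_pt_right hP]
    conv_lhs => rw [← hufix s]
    exact mem_isoOf.1 ((isoOf h).mul_mem ((isoOf h).inv_mem hki) hgi) _ _
  have hdetu : Matrix.det (u : Matrix (Fin a × Fin b) (Fin a × Fin b) F) = 1 := by
    rw [show (u : Matrix (Fin a × Fin b) (Fin a × Fin b) F) = 1 + ((u : Matrix _ _ F) - 1) by abel]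
    refine det_one_add_cube_zero (Matrix.ext_of_mulVec_single fun i => ?_)
    rw [← mulVec_mulVec, ← mulVec_mulVec, zero_mulVec]
    simp only [sub_mulVec, one_mulVec]
    obtain ⟨t, ht⟩ := huker (u •ᵥ Pi.single i 1 - Pi.single i 1)
      (by rw [map_sub, hucv, sub_self])
    rw [ht, add_sub_cancel_left, hufix, sub_self]
  have hkd : Matrix.det (k : Matrix (Fin a × Fin b) (Fin a × Fin b) F) = 1 := by
    have e := det_eq_one (H.le hg).2
    rw [show g = k * u by rw [hu, mul_inv_cancel_left], Units.val_mul, det_mul, hdetu, mul_one] at e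
    exact e
  have hkM : k ∈ M := H.mem _ _ hAi hBi hkd
  have huM : u ∈ M := M.mul_mem (M.inv_mem hkM) hg
  rw [show g = k * u by rw [hu, mul_inv_cancel_left]]
  exact InH.mul ⟨_, _, hk⟩ (rad_inH H hS huM hv₁0 hv₁ hufix huker)

end CfsgLib.ClassicalMax.TensorUnit
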