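/-
Tensor products of two unitary forms over more than four elements: an averaging argument showing that
with only scalar root maps every member is a tensor.

The sum over the cosets of the tensor members of the conjugates of the partial trace is equivariant
for the whole group; the orbits of a root group on the other cosets contribute only to one tensor
line, so the sum is the partial trace itself, and the first factor's endomorphisms are normalised.
-/
import Cfsg.Agent.Lib.ClassicalMax.TensorUnitPair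
set_option autoImplicit false
set_option linter.unusedSectionVars false

namespace CfsgLib.ClassicalMax.TensorUnit

open Matrix Kronecker Module Cfsg.Geo
open CfsgLib.ClassicalMax.Kron
open CfsgLib.ClassicalMax.Unit
open CfsgLib.ClassicalMax.TensorSL (InH lcon lcon_pt)

local notation:80 g:81 " •ᵥ " z:80 => Matrix.mulVec (Units.val g) z

variable {F : Type*} [Field F] [DecidableEq F] {a b : ℕ}

/-- The partial trace over the second factor. -/
def ptr (ψ : Matrix (Fin a × Fin b) (Fin a × Fin b) F) : Matrix (Fin a) (Fin a) F :=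
  Matrix.of fun i k => ∑ j, ψ (i, j) (k, j)

/-- The partial trace as an endomorphism of the product. -/
def pj (ψ : Matrix (Fin a × Fin b) (Fin a × Fin b) F) : Matrix (Fin a × Fin b) (Fin a × Fin b) F :=
  ptr ψ ⊗ₖ (1 : Matrix (Fin b) (Fin b) F)

lemma ptr_left (A : Matrix (Fin a) (Fin a) F) (ψ : Matrix (Fin a × Fin b) (Fin a × Fin b) F) :
    ptr ((A ⊗ₖ (1 : Matrix (Fin b) (Fin b) F)) * ψ) = A * ptr ψ := by
  ext i k
  simp [ptr, Matrix.mul_apply, Fintype.sum_prod_type, Matrix.one_apply, Finset.mul_sum,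
    kroneckerMap_apply]
  exact Finset.sum_comm

lemma ptr_right (A : Matrix (Fin a) (Fin a) F) (ψ : Matrix (Fin a × Fin b) (Fin a × Fin b) F) :
    ptr (ψ * (A ⊗ₖ (1 : Matrix (Fin b) (Fin b) F))) = ptr ψ * A := by
  ext i k
  simp [ptr, Matrix.mul_apply, Fintype.sum_prod_type, Matrix.one_apply, Finset.sum_mul,
    kroneckerMap_apply]
  exact Finset.sum_comm

lemma ptr_comm (B : Matrix (Fin b) (Fin b) F) (ψ : Matrix (Fin a × Fin b) (Fin a × Fin b) F) :
    ptr (((1 : Matrix (Fin a) (Fin a) F) ⊗ₖ B) * ψ) =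
      ptr (ψ * ((1 : Matrix (Fin a) (Fin a) F) ⊗ₖ B)) := by
  ext i k
  simp [ptr, Matrix.mul_apply, Fintype.sum_prod_type, Matrix.one_apply, kroneckerMap_apply, mul_comm]
  exact Finset.sum_comm

lemma pj_conj (A : GL (Fin a) F) (B : GL (Fin b) F)
    (ψ : Matrix (Fin a × Fin b) (Fin a × Fin b) F) :
    pj ((kronGL A B : Matrix _ _ F) * ψ * ((kronGL A B)⁻¹ : GL (Fin a × Fin b) F).val) =
      (kronGL A B : Matrix _ _ F) * pj ψ * ((kronGL A B)⁻¹ : GL (Fin a × Fin b) F).val := by
  have e : ∀ (A : GL (Fin a) F) (B : GL (Fin b) F), (kronGL A B : Matrix _ _ F) =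
      ((A : Matrix (Fin a) (Fin a) F) ⊗ₖ (1 : Matrix (Fin b) (Fin b) F)) *
        ((1 : Matrix (Fin a) (Fin a) F) ⊗ₖ (B : Matrix (Fin b) (Fin b) F)) := fun A B => by
    rw [← mul_kronecker_mul, mul_one, one_mul]; rfl
  have e' : ∀ (A : GL (Fin a) F) (B : GL (Fin b) F), (kronGL A B : Matrix _ _ F) =
      ((1 : Matrix (Fin a) (Fin a) F) ⊗ₖ (B : Matrix (Fin b) (Fin b) F)) *
        ((A : Matrix (Fin a) (Fin a) F) ⊗ₖ (1 : Matrix (Fin b) (Fin b) F)) := fun A B => by
    rw [← mul_kronecker_mul, mul_one, one_mul]; rfl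
  have h1 : ptr ((kronGL A B : Matrix _ _ F) * ψ * ((kronGL A B)⁻¹ : GL (Fin a × Fin b) F).val) =
      (A : Matrix (Fin a) (Fin a) F) * ptr ψ * ((A⁻¹ : GL (Fin a) F) : Matrix (Fin a) (Fin a) F) := by
    rw [kronGL_inv, e A B, e' A⁻¹ B⁻¹]
    simp only [← Matrix.mul_assoc]
    rw [ptr_right]
    simp only [Matrix.mul_assoc]
    rw [ptr_left, ptr_comm]
    simp only [Matrix.mul_assoc]
    rw [← mul_kronecker_mul, one_mul, ← Units.val_mul, inv_mul_cancel, Units.val_one,
      one_kronecker_one, Matrix.mul_one]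
  rw [pj, h1, pj, kronGL_inv]
  show _ = ((A : Matrix (Fin a) (Fin a) F) ⊗ₖ (B : Matrix (Fin b) (Fin b) F)) * _ *
    (((A⁻¹ : GL (Fin a) F) : Matrix (Fin a) (Fin a) F) ⊗ₖ
      ((B⁻¹ : GL (Fin b) F) : Matrix (Fin b) (Fin b) F))
  rw [← mul_kronecker_mul, ← mul_kronecker_mul, mul_one, ← Units.val_mul, mul_inv_cancel,
    Units.val_one]

lemma pj_add (ψ φ : Matrix (Fin a × Fin b) (Fin a × Fin b) F) : pj (ψ + φ) = pj ψ + pj φ := by
  rw [pj, pj, pj, ← add_kronecker]
  congr 1
  ext i k
  simp [ptr, Finset.sum_add_distrib]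

lemma pj_smul (c : F) (ψ : Matrix (Fin a × Fin b) (Fin a × Fin b) F) : pj (c • ψ) = c • pj ψ := by
  rw [pj, pj, ← smul_kronecker]
  congr 1
  ext i k
  simp [ptr, Finset.mul_sum]

/-- The tensors as a subgroup. -/
def inHGroup (a b : ℕ) (F : Type*) [Field F] [DecidableEq F] : Subgroup (GL (Fin a × Fin b) F) where
  carrier := {g | InH g}
  one_mem' := ⟨1, 1, kronGL_one.symm⟩
  mul_mem' := InH.mul
  inv_mem' := InH.inv

lemma mem_inHGroup {g : GL (Fin a × Fin b) F} : g ∈ inHGroup a b F ↔ InH g := Iff.rfl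

variable {σ : F ≃+* F} {h : (Fin a × Fin b → F) → (Fin a × Fin b → F) → F}
  {f₁ : (Fin a → F) → (Fin a → F) → F} {f₂ : (Fin b → F) → (Fin b → F) → F}
  {M : Subgroup (GL (Fin a × Fin b) F)}

/-- The rank one endomorphism of the second factor tensored with an endomorphism of the first. -/
def psi (P : UPair σ h f₁ f₂) (X : (Fin a → F) →ₗ[F] (Fin a → F)) (x y : Fin b → F) :
    Matrix (Fin a × Fin b) (Fin a × Fin b) F :=
  LinearMap.toMatrix' (ptR x ∘ₗ X ∘ₗ cv P y)

lemma psi_mulVec (P : UPair σ h f₁ f₂) (X : (Fin a → F) →ₗ[F] (Fin a → F)) (x y : Fin b → F)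
    (z : Fin a × Fin b → F) : psi P X x y *ᵥ z = pt (X (cv P y z)) x := by
  rw [psi, LinearMap.toMatrix'_mulVec]
  rfl

variable [Fintype F] (H : Hyp σ h f₁ f₂ M)
include H

omit H in
lemma single_eq_pt (k : Fin a) (l : Fin b) :
    (Pi.single (k, l) (1 : F) : Fin a × Fin b → F) = pt (Pi.single k 1) (Pi.single l 1) := by
  funext s
  obtain ⟨i, j⟩ := s
  by_cases h1 : i = k <;> by_cases h2 : j = l <;> simp [pt, h1, h2]

lemma ptr_psi (X : (Fin a → F) →ₗ[F] (Fin a → F)) (x y : Fin b → F) :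
    ptr (psi H.pair X x y) = f₂ x y • LinearMap.toMatrix' X := by
  ext i k
  rw [ptr, Matrix.of_apply, Matrix.smul_apply, LinearMap.toMatrix'_apply, smul_eq_mul,
    ← Unit.formDual_dot H.pair.h₂, dotProduct, Finset.sum_mul]
  refine Finset.sum_congr rfl fun j _ => ?_
  have h1 : psi H.pair X x y (i, j) (k, j) =
      (psi H.pair X x y *ᵥ Pi.single (k, j) 1) (i, j) := by
    rw [Matrix.mulVec_single_one]; rfl
  rw [h1, psi_mulVec, single_eq_pt, cv_pt, map_smul]
  show (f₂ (Pi.single j 1) y • X (Pi.single k 1)) i * x j = f₂ (Pi.single j 1) y * x j * X (Pi.single k 1) i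
  rw [Pi.smul_apply, smul_eq_mul]
  ring

lemma psi_conj {B : GL (Fin b) F} (hB : B ∈ isoOf f₂) (X : (Fin a → F) →ₗ[F] (Fin a → F))
    (x y : Fin b → F) :
    (kronGL (1 : GL (Fin a) F) B).val * psi H.pair X x y *
        ((kronGL (1 : GL (Fin a) F) B)⁻¹ : GL (Fin a × Fin b) F).val =
      psi H.pair X (B •ᵥ x) (B •ᵥ y) := by
  refine Matrix.ext_of_mulVec_single fun s => ?_
  rw [← mulVec_mulVec, ← mulVec_mulVec, psi_mulVec, psi_mulVec, kronGL_pt, Units.val_one, one_mulVec]
  congr 2
  refine eq_of_form H.pair.h₁ fun t => ?_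
  rw [← h_pt_right H.pair, ← h_pt_right H.pair,
    form_mulVec_left ((isoOf h).inv_mem (kron_mem_iso H.pair (isoOf f₁).one_mem hB)), inv_inv,
    kronGL_pt, Units.val_one, one_mulVec]

set_option maxHeartbeats 2000000 in
/-- With only scalar root maps and at least three fixed scalars, every member is a tensor. -/
theorem inH_of_mem_avg (hS : OnlyScalar H.pair M) (hμ : ∃ μ : F, σ μ = μ ∧ μ ≠ 0 ∧ μ ≠ 1) :
    ∀ g ∈ M, InH g := by
  classical
  have hP := H.pair
  have hg2 := hP.h₂
  haveI := nonempty_left H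
  let H₀ : Subgroup M := (inHGroup a b F).subgroupOf M
  haveI : Fintype (M ⧸ H₀) := Fintype.ofFinite _
  let K := fixedField σ
  haveI : Fintype K := Fintype.ofFinite K
  have hK : 2 < Fintype.card K := by
    obtain ⟨μ, hμ1, hμ0, hμ2⟩ := hμ
    exact Fintype.two_lt_card_iff.2 ⟨0, 1, ⟨μ, hμ1⟩, fun e => zero_ne_one (congrArg Subtype.val e),
      fun e => hμ0 (congrArg Subtype.val e).symm, fun e => hμ2 (congrArg Subtype.val e).symm⟩
  have hKsum : ∑ t : K, (t : F) = 0 := by
    have h1 := FiniteField.sum_pow_lt_card_sub_one (K := K) 1 (by omega)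
    simp only [pow_one] at h1
    have h2 := congrArg K.subtype h1
    rw [map_sum, map_zero] at h2
    exact h2
  have hKcard : (Fintype.card K : F) = 0 := by
    have h1 : (Fintype.card K : K) = 0 := FiniteField.cast_card_eq_zero K
    have h2 := congrArg K.subtype h1
    rwa [map_natCast, map_zero] at h2
  -- the averaged partial trace
  let cj : GL (Fin a × Fin b) F → Matrix (Fin a × Fin b) (Fin a × Fin b) F → Matrix (Fin a × Fin b) (Fin a × Fin b) F := fun g ψ =>
    (g : Matrix (Fin a × Fin b) (Fin a × Fin b) F) * ψ * ((g⁻¹ : GL (Fin a × Fin b) F) : Matrix (Fin a × Fin b) (Fin a × Fin b) F)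
  have cj_mul : ∀ g g' ψ, cj (g * g') ψ = cj g (cj g' ψ) := fun g g' ψ => by
    simp only [cj, _root_.mul_inv_rev, Units.val_mul, Matrix.mul_assoc]
  have cj_one : ∀ ψ, cj 1 ψ = ψ := fun ψ => by simp [cj]
  have hbase : ∀ g, InH g → ∀ ψ, pj (cj g ψ) = cj g (pj ψ) := by
    rintro g ⟨A, B, rfl⟩ ψ
    exact pj_conj A B ψ
  let t : Matrix (Fin a × Fin b) (Fin a × Fin b) F → M ⧸ H₀ → Matrix (Fin a × Fin b) (Fin a × Fin b) F := fun ψ => Quotient.lift
    (fun g : M => cj (g : GL (Fin a × Fin b) F) (pj (cj ((g : GL (Fin a × Fin b) F))⁻¹ ψ)))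
    fun g g' hgg => by
      have h1 : g⁻¹ * g' ∈ H₀ := QuotientGroup.leftRel_apply.1 hgg
      have h2 : InH ((g : GL (Fin a × Fin b) F)⁻¹ * (g' : GL (Fin a × Fin b) F)) := by
        simpa [H₀, Subgroup.mem_subgroupOf, mem_inHGroup] using h1
      have e : (g' : GL (Fin a × Fin b) F) = g * ((g : GL (Fin a × Fin b) F)⁻¹ * g') := by group
      show _ = cj (g' : GL (Fin a × Fin b) F) (pj (cj _ ψ))
      rw [e, _root_.mul_inv_rev, cj_mul, cj_mul _ (g : GL (Fin a × Fin b) F)⁻¹, hbase _ h2.inv,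
        ← cj_mul _ _ (pj _), mul_inv_cancel, cj_one]
  have ht : ∀ ψ (g : M), t ψ (g : M ⧸ H₀) =
      cj (g : GL (Fin a × Fin b) F) (pj (cj ((g : GL (Fin a × Fin b) F))⁻¹ ψ)) := fun ψ g => rfl
  have htequiv : ∀ (g : M) ψ c,
      t (cj (g : GL (Fin a × Fin b) F) ψ) (g • c) = cj (g : GL (Fin a × Fin b) F) (t ψ c) := by
    intro g ψ c
    induction c using QuotientGroup.induction_on with
    | _ k =>
      rw [MulAction.Quotient.smul_coe, smul_eq_mul, ht, ht, Subgroup.coe_mul, _root_.mul_inv_rev,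
        cj_mul, cj_mul (k : GL (Fin a × Fin b) F)⁻¹, ← cj_mul _ (g : GL (Fin a × Fin b) F),
        inv_mul_cancel, cj_one]
  have htlin : ∀ c ψ φ (r : F), t (r • ψ + φ) c = r • t ψ c + t φ c := by
    intro c ψ φ r
    induction c using QuotientGroup.induction_on with
    | _ k =>
      simp only [ht, cj, Matrix.mul_add, Matrix.add_mul, Matrix.mul_smul, Matrix.smul_mul, pj_add,
        pj_smul]
  let base : M ⧸ H₀ := ((1 : M) : M ⧸ H₀)
  have htbase : ∀ ψ, t ψ base = pj ψ := fun ψ => by
    rw [ht]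
    simp [cj_one, cj]
  -- the deviation from the partial trace
  let D : Matrix (Fin a × Fin b) (Fin a × Fin b) F →ₗ[F] Matrix (Fin a × Fin b) (Fin a × Fin b) F :=
    { toFun := fun ψ => ∑ c ∈ Finset.univ.erase base, t ψ c
      map_add' := fun ψ φ => by
        rw [← Finset.sum_add_distrib]
        exact Finset.sum_congr rfl fun c _ => by simpa using htlin c ψ φ 1
      map_smul' := fun r ψ => by
        rw [RingHom.id_apply, Finset.smul_sum]
        refine Finset.sum_congr rfl fun c _ => ?_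
        have h0 : t 0 c = 0 := by simpa using htlin c 0 0 1
        simpa [h0] using htlin c ψ 0 r }
  -- orbits of a root group leave only one tensor line
  have horbit : ∀ v, v ≠ 0 → f₂ v v = 0 → ∀ X u, f₂ v u = 0 →
      ∀ y, ∃ s, D (psi hP X u u) *ᵥ y = pt s v := by
    intro v hv0 hv X u hvu y
    obtain ⟨τ, hτ0, hτ⟩ := exists_trace_zero hg2.ne_refl hg2.involutive
    have hτK : ∀ r : K, σ (τ * (r : F)) = -(τ * (r : F)) := fun r => by
      rw [map_mul, hτ, mem_fixedField.1 r.2, neg_mul]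
    let z : K → M := fun r => ⟨kronGL 1 (uTv hg2 v (τ * (r : F))),
      H.right_mem (uTv_mem_isoOf hg2 hv (hτK r)) (uTv_mem_sl _ _ _)⟩
    have hzadd : ∀ r r', z r * z r' = z (r + r') := fun r r' => by
      refine Subtype.ext (gl_ext_mulVec fun w => ?_)
      show (kronGL 1 (uTv hg2 v (τ * (r : F))) * kronGL 1 (uTv hg2 v (τ * (r' : F)))) •ᵥ w =
        kronGL 1 (uTv hg2 v (τ * ((r + r' : K) : F))) •ᵥ w
      rw [gl_mulVec_mul, kron_uTv_act hP hv, kron_uTv_act hP hv, kron_uTv_act hP hv, map_add, cv_pt,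
        hv, zero_smul, add_zero, Subfield.coe_add, mul_add, add_smul, pt_add_left]
      abel
    have hz0 : z 0 = 1 := by
      refine Subtype.ext (gl_ext_mulVec fun w => ?_)
      show kronGL 1 (uTv hg2 v (τ * ((0 : K) : F))) •ᵥ w = (1 : GL (Fin a × Fin b) F) •ᵥ w
      rw [kron_uTv_act hP hv]
      simp [pt_zero_left]
    have hzH : ∀ r, z r ∈ H₀ := fun r => by
      show InH _
      exact ⟨_, _, rfl⟩
    have hfix : ∀ r, cj (z r : GL (Fin a × Fin b) F) (psi hP X u u) = psi hP X u u := fun r => by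
      show _ * _ * _ = _
      rw [psi_conj H (uTv_mem_isoOf hg2 hv (hτK r))]
      rw [uTv_mulVec_of_orth hg2 hv _ (eq_zero_comm hg2 hvu)]
    have hfree : ∀ c, c ≠ base → ∀ r r', z r • c = z r' • c → r = r' := by
      intro c hc r r' e
      by_contra hne
      induction c using QuotientGroup.induction_on with
      | _ k =>
        apply hc
        have e1 : z (r - r') • (k : M ⧸ H₀) = (k : M ⧸ H₀) := by
          have := congrArg (fun c => z (-r') • c) e
          simp only [← mul_smul, hzadd, neg_add_cancel, hz0, one_smul] at this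
          rwa [neg_add_eq_sub] at this
        rw [MulAction.Quotient.smul_coe, smul_eq_mul, QuotientGroup.eq] at e1
        have e2 : InH ((k : GL (Fin a × Fin b) F)⁻¹ * kronGL 1 (uTv hg2 v (τ * ((r - r' : K) : F))) *
            (k : GL (Fin a × Fin b) F)⁻¹⁻¹) := by
          have e3 : InH ((((z (r - r') * k)⁻¹ * k : M) : GL (Fin a × Fin b) F)⁻¹) := InH.inv e1
          simpa [z, mul_assoc] using e3
        have e4 := inH_of_conj H hS (M.inv_mem k.2) hv0 hv
          (mul_ne_zero hτ0 fun e0 => hne (sub_eq_zero.1 (Subtype.ext e0))) e2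
        refine QuotientGroup.eq.2 ?_
        show InH _
        simpa using e4
    let Z : Submodule F (Fin a × Fin b → F) := LinearMap.range (ptR v)
    suffices ∀ n, ∀ s : Finset (M ⧸ H₀), s.card = n → base ∉ s →
        (∀ r, ∀ c ∈ s, z r • c ∈ s) → (∑ c ∈ s, t (psi hP X u u) c) *ᵥ y ∈ Z by
      obtain ⟨s, hs⟩ := this _ (Finset.univ.erase base) rfl (Finset.notMem_erase _ _) fun r c hc => by
        refine Finset.mem_erase.2 ⟨fun e => Finset.ne_of_mem_erase hc ?_, Finset.mem_univ _⟩
        have := congrArg (fun c => (z r)⁻¹ • c) e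
        simp only [inv_smul_smul] at this
        rw [this, MulAction.Quotient.smul_coe, smul_eq_mul, QuotientGroup.eq]
        simpa using hzH r
      exact ⟨s, hs.symm⟩
    intro n
    induction n using Nat.strong_induction_on with
    | _ n ih =>
      intro s hn hb hinv
      rcases Finset.eq_empty_or_nonempty s with rfl | ⟨c, hc⟩
      · simp
      have hcb : c ≠ base := fun e => hb (e ▸ hc)
      let O := Finset.univ.image fun r : K => z r • c
      have hO : O ⊆ s := fun d hd => by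
        obtain ⟨r, -, rfl⟩ := Finset.mem_image.1 hd
        exact hinv r c hc
      rw [← Finset.sum_sdiff hO, Matrix.add_mulVec]
      refine Z.add_mem (ih _ ?_ _ rfl (fun hm => hb (Finset.mem_sdiff.1 hm).1) fun r d hd => ?_) ?_
      · rw [← hn]
        exact Finset.card_lt_card (Finset.sdiff_ssubset hO ⟨_, Finset.mem_image_of_mem _ (Finset.mem_univ 0)⟩)
      · rw [Finset.mem_sdiff] at hd ⊢
        refine ⟨hinv r d hd.1, fun hm => hd.2 ?_⟩
        obtain ⟨r', -, e⟩ := Finset.mem_image.1 hm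
        refine Finset.mem_image.2 ⟨-r + r', Finset.mem_univ _, ?_⟩
        rw [← hzadd, mul_smul, e, ← mul_smul, hzadd, neg_add_cancel, hz0, one_smul]
      rw [Finset.sum_image fun r _ r' _ e => hfree c hcb r r' e, Matrix.sum_mulVec]
      set G := t (psi hP X u u) c
      have hterm : ∀ r : K, t (psi hP X u u) (z r • c) *ᵥ y -
          (G *ᵥ y - (τ * (r : F)) • (G *ᵥ pt (cv hP v y) v)) ∈ Z := by
        intro r
        have e1 : (z r : GL (Fin a × Fin b) F)⁻¹ = (z (-r) : GL (Fin a × Fin b) F) := by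
          refine inv_eq_of_mul_eq_one_right ?_
          have e2 : z r * z (-r) = 1 := by rw [hzadd, add_neg_cancel, hz0]
          exact congrArg Subtype.val e2
        have e3 : t (psi hP X u u) (z r • c) = cj (z r : GL (Fin a × Fin b) F) G := by
          conv_lhs => rw [← hfix r]
          exact htequiv _ _ _
        rw [e3]
        simp only [cj]
        rw [← mulVec_mulVec, ← mulVec_mulVec, e1]
        show kronGL 1 (uTv hg2 v (τ * (r : F))) •ᵥ (G *ᵥ
          (kronGL 1 (uTv hg2 v (τ * ((-r : K) : F))) •ᵥ y)) - _ ∈ Z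
        rw [kron_uTv_act hP hv, kron_uTv_act hP hv, mulVec_add, pt_smul_left, mulVec_smul,
          show τ * ((-r : K) : F) = -(τ * (r : F)) by push_cast; ring, neg_smul, ← sub_eq_add_neg,
          add_sub_cancel_left]
        exact ⟨_, rfl⟩
      have hsum : ∑ r : K, (G *ᵥ y - (τ * (r : F)) • (G *ᵥ pt (cv hP v y) v)) = 0 := by
        rw [Finset.sum_sub_distrib, Finset.sum_const, Finset.card_univ, ← Finset.sum_smul,
          ← Finset.mul_sum, hKsum, mul_zero, zero_smul, sub_zero, ← Nat.cast_smul_eq_nsmul F,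
          hKcard, zero_smul]
      have := Z.sum_mem (t := (Finset.univ : Finset K)) fun r _ => hterm r
      rwa [Finset.sum_sub_distrib, hsum, sub_zero] at this
  -- the deviation vanishes on anisotropic points
  have haniso : ∀ X u, f₂ u u ≠ 0 → D (psi hP X u u) = 0 := by
    intro X u huu
    obtain ⟨v, hvu, hv0, hv⟩ := exists_isotropic_mem hg2 (W := LinearMap.ker (formL hg2 u)) (by
      have h1 := LinearMap.finrank_range_add_finrank_ker (formL hg2 u)
      have h2 : finrank F (LinearMap.range (formL hg2 u)) ≤ 1 :=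
        (Submodule.finrank_le _).trans (by rw [finrank_self])
      rw [finrank_fin_fun] at h1
      have := H.three_le
      omega)
    replace hvu : f₂ v u = 0 := hvu
    have huv := eq_zero_comm hg2 hvu
    obtain ⟨p, hp, hvp, hpv⟩ := exists_partner hg2 hv0 hv
    set p₁ := p - (f₂ p u / f₂ u u) • u with hp₁
    have hp₁u : f₂ p₁ u = 0 := by
      rw [hp₁, sub_left hg2, hg2.smul_left, div_mul_cancel₀ _ huu, sub_self]
    have hvp₁ : f₂ v p₁ = 1 := by rw [hp₁, sub_right hg2, smul_right hg2, hvp, hvu, mul_zero, sub_zero]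
    have hp₁v : f₂ p₁ v = 1 := by rw [hg2.herm, hvp₁, map_one]
    obtain ⟨r, hr⟩ := exists_trace_eq hg2 (s := - f₂ p₁ p₁) (by rw [map_neg, self_fixed hg2])
    set v' := p₁ + r • v with hv'def
    have hv' : f₂ v' v' = 0 := by
      rw [hv'def, hg2.add_left, add_right hg2, add_right hg2, hg2.smul_left, hg2.smul_left,
        smul_right hg2, smul_right hg2, hv, hvp₁, hp₁v]
      linear_combination hr
    have hv'v : f₂ v' v = 1 := by
      rw [hv'def, hg2.add_left, hg2.smul_left, hv, hp₁v, mul_zero, add_zero]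
    have hv'u : f₂ v' u = 0 := by
      rw [hv'def, hg2.add_left, hg2.smul_left, hp₁u, hvu, mul_zero, add_zero]
    have hv'0 : v' ≠ 0 := fun e => by rw [e, zero_left hg2] at hv'v; exact zero_ne_one hv'v
    refine Matrix.ext_of_mulVec_single fun i => ?_
    obtain ⟨s, hs⟩ := horbit v hv0 hv X u hvu (Pi.single i 1)
    obtain ⟨s', hs'⟩ := horbit v' hv'0 hv' X u hv'u (Pi.single i 1)
    have h3 := congrArg (cv hP v) (hs.symm.trans hs')
    rw [cv_pt, cv_pt, hv, hv'v, zero_smul, one_smul] at h3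
    rw [hs', ← h3, pt_zero_left, zero_mulVec]
  -- polarisation
  have hpsi1 : ∀ X x x' y, psi hP X (x + x') y = psi hP X x y + psi hP X x' y := fun X x x' y =>
    Matrix.ext_of_mulVec_single fun i => by
      rw [Matrix.add_mulVec, psi_mulVec, psi_mulVec, psi_mulVec, pt_add_right]
  have hpsi2 : ∀ X x y y', psi hP X x (y + y') = psi hP X x y + psi hP X x y' := fun X x y y' =>
    Matrix.ext_of_mulVec_single fun i => by
      rw [Matrix.add_mulVec, psi_mulVec, psi_mulVec, psi_mulVec, cv_add_vec, map_add, pt_add_left]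
  have hpsi3 : ∀ X (c : F) x y, psi hP X (c • x) y = c • psi hP X x y := fun X c x y =>
    Matrix.ext_of_mulVec_single fun i => by
      rw [Matrix.smul_mulVec, psi_mulVec, psi_mulVec, pt_smul_right]
  have hpsi4 : ∀ X (c : F) x y, psi hP X x (c • y) = σ c • psi hP X x y := fun X c x y =>
    Matrix.ext_of_mulVec_single fun i => by
      rw [Matrix.smul_mulVec, psi_mulVec, psi_mulVec, cv_smul_vec, map_smul, pt_smul_left]
  obtain ⟨ω, hω⟩ : ∃ ω, σ ω ≠ ω := by
    by_contra h
    push Not at h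
    exact hg2.ne_refl (RingEquiv.ext h)
  have hall : ∀ X x y, D (psi hP X x y) = 0 := by
    intro X
    have hexp : ∀ x y l, D (psi hP X (x + l • y) (x + l • y)) = D (psi hP X x x) +
        σ l • D (psi hP X x y) + l • D (psi hP X y x) + (l * σ l) • D (psi hP X y y) := by
      intro x y l
      simp only [hpsi1, hpsi2, hpsi3, hpsi4, map_add, map_smul]
      module
    have hdiag : ∀ v, D (psi hP X v v) = 0 := by
      intro v
      by_cases hv : f₂ v v = 0
      swap
      · exact haniso X v hv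
      obtain ⟨u, huv, huu⟩ := exists_value_perp hg2 (by rw [Fintype.card_fin]; exact H.three_le) v
        (s := (1 : F)) (map_one σ)
      have hu := haniso X u (by rw [huu]; exact one_ne_zero)
      have hE : ∀ ζ, ζ * σ ζ = 1 → D (psi hP X v v) + σ ζ • D (psi hP X v u) +
          ζ • D (psi hP X u v) = 0 := fun ζ hζ => by
        have h1 := haniso X (v + ζ • u) (by
          rw [hg2.add_left, add_right hg2, add_right hg2, hg2.smul_left, hg2.smul_left,
            smul_right hg2, smul_right hg2, hv, huv, eq_zero_comm hg2 huv, huu]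
          simp [hζ])
        rw [hexp, hu, smul_zero, add_zero] at h1
        exact h1
      have h0 := hE 1 (by simp)
      rw [map_one, one_smul, one_smul] at h0
      have key : ∀ l : F, σ l ≠ l → σ l • D (psi hP X v u) = l • D (psi hP X u v) := fun l hl => by
        have hl0 : l ≠ 0 := fun e => hl (by rw [e, map_zero])
        have hs0 : σ l ≠ 0 := fun e => hl0 (σ.injective (e.trans (map_zero σ).symm))
        have h1 := hE (l / σ l) (by rw [map_div₀, hg2.involutive]; field_simp)
        rw [map_div₀, hg2.involutive] at h1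
        have h2 : (l * σ l) • (D (psi hP X v v) + (σ l / l) • D (psi hP X v u) +
            (l / σ l) • D (psi hP X u v)) = 0 := by rw [h1, smul_zero]
        rw [smul_add, smul_add, smul_smul, smul_smul,
          show l * σ l * (σ l / l) = σ l * σ l by field_simp,
          show l * σ l * (l / σ l) = l * l by field_simp] at h2
        have h3 : (σ l - l) • (σ l • D (psi hP X v u) - l • D (psi hP X u v)) = 0 := by
          linear_combination (norm := module) h2 - (l * σ l) • h0
        exact sub_eq_zero.1 ((smul_eq_zero.1 h3).resolve_left (sub_ne_zero.2 hl))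
      have h1 := key ω hω
      have h2 := key (ω + 1) (by rw [map_add, map_one]; exact fun e => hω (add_right_cancel e))
      rw [map_add, map_one, add_smul, add_smul, one_smul, one_smul, h1] at h2
      have h4 : D (psi hP X v u) = D (psi hP X u v) := add_left_cancel h2
      rw [h4] at h1
      have h5 : D (psi hP X u v) = 0 := (smul_eq_zero.1 (show (σ ω - ω) • D (psi hP X u v) = 0 by
        rw [sub_smul, h1, sub_self])).resolve_left (sub_ne_zero.2 hω)
      rwa [h4, h5, add_zero, add_zero] at h0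
    intro x y
    have hl : ∀ l : F, σ l • D (psi hP X x y) + l • D (psi hP X y x) = 0 := fun l => by
      have h1 := hexp x y l
      rw [hdiag, hdiag, hdiag, smul_zero, add_zero, zero_add] at h1
      exact h1.symm
    have h1 := hl 1
    rw [map_one, one_smul, one_smul] at h1
    have h2 : (σ ω - ω) • D (psi hP X x y) = 0 := by
      linear_combination (norm := module) hl ω - ω • h1
    exact (smul_eq_zero.1 h2).resolve_left (sub_ne_zero.2 hω)
  have hzero : ∀ ψ, D ψ = 0 := by
    intro ψ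
    rw [Matrix.matrix_eq_sum_single ψ, map_sum]
    refine Finset.sum_eq_zero fun p _ => ?_
    rw [map_sum]
    refine Finset.sum_eq_zero fun q _ => ?_
    obtain ⟨yl, hyl⟩ := Unit.exists_form_eq hg2 (LinearMap.proj q.2)
    have e : Matrix.single p q (ψ p q) = ψ p q • psi hP
        (Matrix.toLin' (Matrix.single p.1 q.1 (1 : F))) (Pi.single p.2 1) yl := by
      refine Matrix.ext_of_mulVec_single fun i => ?_
      obtain ⟨k, l⟩ := i
      rw [Matrix.smul_mulVec, psi_mulVec, single_eq_pt, cv_pt, hyl, map_smul, Matrix.toLin'_apply,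
        ← single_eq_pt]
      funext s
      obtain ⟨i, j⟩ := s
      obtain ⟨p1, p2⟩ := p
      obtain ⟨q1, q2⟩ := q
      simp only [Matrix.mulVec_single_one, Matrix.col_apply, Matrix.single_apply, Pi.smul_apply,
        smul_eq_mul, pt, LinearMap.proj_apply, Pi.single_apply, Prod.mk.injEq]
      by_cases h1 : i = p1 <;> by_cases h2 : j = p2 <;> by_cases h3 : k = q1 <;>
        by_cases h4 : l = q2 <;> simp [h1, h2, h3, h4, eq_comm]
    rw [e, map_smul, hall, smul_zero]
  -- the partial trace commutes with the group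
  have hcomm : ∀ g ∈ M, ∀ ψ, pj (cj g ψ) = cj g (pj ψ) := by
    intro g hg ψ
    have hT : ∀ ψ, ∑ c, t ψ c = pj ψ := fun ψ => by
      rw [← Finset.add_sum_erase _ _ (Finset.mem_univ base), htbase]
      show pj ψ + D ψ = _
      rw [hzero, add_zero]
    have e1 := hT (cj g ψ)
    rw [← Fintype.sum_equiv (MulAction.toPerm (⟨g, hg⟩ : M)) (fun c => cj g (t ψ c))
      (fun c => t (cj g ψ) c) fun c => (htequiv ⟨g, hg⟩ ψ c).symm] at e1
    rw [← e1, ← hT ψ]
    simp only [cj, Matrix.mul_sum, Matrix.sum_mul]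
  intro g hg
  obtain ⟨v, -, hv0, hv⟩ := exists_isotropic_mem hg2 (W := ⊤)
    (by rw [finrank_top, finrank_fin_fun]; have := H.three_le; omega)
  obtain ⟨τ, hτ0, hτ⟩ := exists_trace_zero hg2.ne_refl hg2.involutive
  refine inH_of_conj H hS hg hv0 hv hτ0 ?_
  set T := kronGL (1 : GL (Fin a) F) (uTv hg2 v τ) with hTdef
  set x := g * T * g⁻¹ with hxdef
  haveI : Nonempty (Fin b) := ⟨⟨0, by have := H.three_le; omega⟩⟩
  obtain ⟨u, huu⟩ := exists_anisotropic hg2
  -- the conjugate commutes with the endomorphisms of the first factor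
  have hxc : ∀ X : Matrix (Fin a) (Fin a) F,
      (x : Matrix (Fin a × Fin b) (Fin a × Fin b) F) * (X ⊗ₖ (1 : Matrix (Fin b) (Fin b) F)) =
        (X ⊗ₖ (1 : Matrix (Fin b) (Fin b) F)) * (x : Matrix (Fin a × Fin b) (Fin a × Fin b) F) := by
    intro X
    have e0 : pj ((f₂ u u)⁻¹ • psi hP (Matrix.toLin' X) u u) = X ⊗ₖ (1 : Matrix (Fin b) (Fin b) F) := by
      rw [pj_smul, pj, ptr_psi H, LinearMap.toMatrix'_toLin', smul_kronecker, smul_smul,
        inv_mul_cancel₀ huu, one_smul]
    have e1 := hcomm g⁻¹ (M.inv_mem hg) ((f₂ u u)⁻¹ • psi hP (Matrix.toLin' X) u u)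
    rw [e0] at e1
    have e2 : cj g (cj g⁻¹ (X ⊗ₖ (1 : Matrix (Fin b) (Fin b) F))) =
        X ⊗ₖ (1 : Matrix (Fin b) (Fin b) F) := by rw [← cj_mul, mul_inv_cancel, cj_one]
    set Y := ptr (cj g⁻¹ ((f₂ u u)⁻¹ • psi hP (Matrix.toLin' X) u u))
    have e3 : (T : Matrix (Fin a × Fin b) (Fin a × Fin b) F) * (Y ⊗ₖ (1 : Matrix (Fin b) (Fin b) F)) =
        (Y ⊗ₖ (1 : Matrix (Fin b) (Fin b) F)) * (T : Matrix (Fin a × Fin b) (Fin a × Fin b) F) := by
      show ((1 : GL (Fin a) F) : Matrix (Fin a) (Fin a) F) ⊗ₖ _ * _ = _ * (((1 : GL (Fin a) F) : Matrix (Fin a) (Fin a) F) ⊗ₖ _)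
      rw [← mul_kronecker_mul, ← mul_kronecker_mul, Units.val_one, one_mul, mul_one, one_mul, mul_one]
    have e4 : cj g⁻¹ (X ⊗ₖ (1 : Matrix (Fin b) (Fin b) F)) = Y ⊗ₖ (1 : Matrix (Fin b) (Fin b) F) :=
      e1.symm
    rw [← e2, e4]
    have hgg : ∀ N, (g⁻¹).val * (g.val * N) = N := fun N => g.inv_mul_cancel_left N
    have hTY : ∀ N, T.val * ((Y ⊗ₖ (1 : Matrix (Fin b) (Fin b) F)) * N) =
        (Y ⊗ₖ (1 : Matrix (Fin b) (Fin b) F)) * (T.val * N) := fun N => by
      rw [← Matrix.mul_assoc, e3, Matrix.mul_assoc]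
    simp only [cj, hxdef, Units.val_mul, Matrix.mul_assoc, hgg, hTY]
  obtain ⟨s₀, hs₀⟩ := exists_ne (0 : Fin a → F)
  obtain ⟨η, hη⟩ := exists_sum_dot hs₀
  let L : (Fin b → F) →ₗ[F] (Fin b → F) :=
    lcon η ∘ₗ Matrix.toLin' (x : Matrix (Fin a × Fin b) (Fin a × Fin b) F) ∘ₗ ptLeft s₀
  have hx : ∀ s w, x •ᵥ pt s w = pt s (L w) := by
    intro s w
    let E : Matrix (Fin a) (Fin a) F := Matrix.vecMulVec s η
    have hE : ∀ z, (E ⊗ₖ (1 : Matrix (Fin b) (Fin b) F)) *ᵥ z = pt s (lcon η z) := fun z => by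
      have := linear_ext (f := Matrix.toLin' (E ⊗ₖ (1 : Matrix (Fin b) (Fin b) F)))
        (g := ptLeft s ∘ₗ lcon η) fun s' w' => by
          simp [Matrix.toLin'_apply, kron_mulVec_pt, E, vecMulVec_mulVec, lcon_pt, pt_smul_left,
            pt_smul_right]
      simpa [Matrix.toLin'_apply] using LinearMap.congr_fun this z
    have h1 := congrArg (fun N : Matrix (Fin a × Fin b) (Fin a × Fin b) F => N *ᵥ pt s₀ w) (hxc E)
    simp only [← mulVec_mulVec, hE, lcon_pt, hη, one_smul] at h1
    rw [h1]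
    simp [L, Matrix.toLin'_apply]
  have hLinj : Function.Injective L := fun w w' e => by
    have h1 : x •ᵥ pt s₀ w = x •ᵥ pt s₀ w' := by rw [hx, hx, e]
    have h2 := congrArg (lcon η) (gl_mulVec_injective x h1)
    rwa [lcon_pt, lcon_pt, hη, one_smul, one_smul] at h2
  obtain ⟨B, hB⟩ := exists_gl L hLinj
  exact ⟨1, B, gl_ext_pt fun s w => by rw [hx, kronGL_pt, hB, Units.val_one, one_mulVec]⟩

end CfsgLib.ClassicalMax.TensorUnit
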