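/-
Tensor products of two unitary forms: a non-scalar root map yields transvections.
-/
import Cfsg.Agent.Lib.ClassicalMax.TensorUnitBase
set_option autoImplicit false
set_option linter.unusedSectionVars false

namespace CfsgLib.ClassicalMax.TensorUnit

open Matrix Kronecker Module Cfsg.Geo
open CfsgLib.ClassicalMax.Kron
open CfsgLib.ClassicalMax.Unit
open CfsgLib.ClassicalMax.TensorSL (InH lcon lcon_pt)

local notation:80 g:81 " •ᵥ " z:80 => Matrix.mulVec (Units.val g) z

section Form

variable {ι : Type} [Fintype ι] [DecidableEq ι] {F : Type*} [Field F] [Fintype F]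
  {σ : F ≃+* F} {f : (ι → F) → (ι → F) → F}

/-- A skew map with `f (K u) u = 0` on all isotropic vectors is a scalar. -/
lemma skew_scalar (hf : IsUnitaryForm σ f) (hι : 2 ≤ Fintype.card ι) (K : (ι → F) →ₗ[F] (ι → F))
    (hK : ∀ x y, f (K x) y + f x (K y) = 0) (h : ∀ u, f u u = 0 → f (K u) u = 0) :
    ∃ κ : F, ∀ x, K x = κ • x := by
  classical
  obtain ⟨u, -, hu0, hu⟩ := exists_isotropic_mem hf (W := ⊤)
    (by rw [finrank_top, finrank_fintype_fun_eq_card]; exact hι)
  obtain ⟨u', hu', huu', hu'u⟩ := exists_partner hf hu0 hu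
  have herm : ∀ x y, f (K x) y = - σ (f (K y) x) := fun x y => by
    rw [← hf.herm]; linear_combination hK x y
  obtain ⟨τ, hτ0, hτ⟩ := exists_trace_zero hf.ne_refl hf.involutive
  set κ := f (K u) u' with hκ
  have hκu : f (K u') u = κ := by
    have h1 := h (u + τ • u') (by
      rw [hf.add_left, add_right hf, add_right hf, hf.smul_left, hf.smul_left, smul_right hf,
        smul_right hf, hu, hu', huu', hu'u, hτ]
      ring)
    rw [map_add, map_smul, hf.add_left, add_right hf, add_right hf, hf.smul_left, hf.smul_left,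
      smul_right hf, smul_right hf, h u hu, h u' hu', hτ, ← hκ] at h1
    apply mul_left_cancel₀ hτ0
    linear_combination h1
  have hκs : σ κ = -κ := by
    rw [← neg_neg (σ κ), neg_inj]
    conv_lhs => rw [← hκu, ← herm]
  have hw : ∀ w, f w u = 0 → f w u' = 0 →
      f (K u) w = 0 ∧ f (K u') w = 0 ∧ f (K w) w = κ * f w w := by
    intro w hwu hwu'
    have hex : ∀ c, c + σ c = - f w w →
        f (K u) w + c * f (K u') w = 0 ∧ f (K w) w = κ * f w w := by
      intro c hc
      set P := f (K u) w + c * f (K u') w with hP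
      have hE : ∀ ζ, ζ * σ ζ = 1 → σ ζ * P - ζ * σ P + (f (K w) w - κ * f w w) = 0 := by
        intro ζ hζ
        have h1 := h (u + c • u' + ζ • w) (by
          simp only [hf.add_left, add_right hf, hf.smul_left, smul_right hf, hu, hu', huu', hu'u,
            hwu, hwu', eq_zero_comm hf hwu, eq_zero_comm hf hwu']
          linear_combination hc + f w w * hζ)
        simp only [map_add, map_smul, hf.add_left, add_right hf, hf.smul_left, smul_right hf,
          h u hu, h u' hu', hκu, ← hκ, herm w u, herm w u'] at h1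
        rw [hP, map_add, map_mul]
        linear_combination h1 - κ * hc - (f (K w) w) * hζ
      have h0 := hE 1 (by simp)
      rw [map_one, one_mul, one_mul] at h0
      have key : ∀ a : F, σ a ≠ a → P * σ a + a * σ P = 0 := by
        intro a ha
        have ha0 : a ≠ 0 := fun e => ha (by rw [e, map_zero])
        have hs0 : σ a ≠ 0 := fun e => ha0 (by simpa using congrArg σ.symm e)
        have h1 := hE (a / σ a) (by rw [map_div₀, hf.involutive]; field_simp)
        rw [map_div₀, hf.involutive] at h1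
        have h2 : (σ a - a) * (P * σ a + a * σ P) = 0 := by
          field_simp at h1
          linear_combination h1 - (a * σ a) * h0
        exact (mul_eq_zero.1 h2).resolve_left (sub_ne_zero.2 ha)
      obtain ⟨a, ha⟩ : ∃ a, σ a ≠ a := by
        by_contra h
        push Not at h
        exact hf.ne_refl (RingEquiv.ext h)
      have hP0 : P = 0 := by
        have h1 := key a ha
        have h2 := key (a + 1) (by rw [map_add, map_one]; exact fun e => ha (add_right_cancel e))
        rw [map_add, map_one] at h2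
        have h3 : (σ a - a) * P = 0 := by linear_combination h1 - a * (h2 - h1)
        exact (mul_eq_zero.1 h3).resolve_left (sub_ne_zero.2 ha)
      rw [hP0, map_zero] at h0
      exact ⟨hP0, by linear_combination h0⟩
    obtain ⟨c, hc⟩ := exists_trace_eq hf (s := - f w w) (by rw [map_neg, self_fixed hf])
    obtain ⟨hP1, hKw⟩ := hex c hc
    obtain ⟨hP2, -⟩ := hex (c + τ) (by rw [map_add, hτ]; linear_combination hc)
    have h2 : f (K u') w = 0 := (mul_eq_zero.1
      (show τ * f (K u') w = 0 by linear_combination hP2 - hP1)).resolve_left hτ0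
    exact ⟨by simpa [h2] using hP1, h2, hKw⟩
  have hψ : ∀ x, f (K x) x = κ * f x x := by
    intro x
    set α := f x u' with hα
    set β := f x u with hβ
    set w := x - α • u - β • u'
    have hwu : f w u = 0 := by
      simp only [w, sub_left hf, hf.smul_left, hu, hu'u, ← hβ]; ring
    have hwu' : f w u' = 0 := by
      simp only [w, sub_left hf, hf.smul_left, hu', huu', ← hα]; ring
    obtain ⟨h1, h2, h3⟩ := hw w hwu hwu'
    have h4 : f (K w) u = 0 := by rw [herm, h1, map_zero, neg_zero]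
    have h5 : f (K w) u' = 0 := by rw [herm, h2, map_zero, neg_zero]
    rw [show x = α • u + β • u' + w by simp only [w]; abel]
    simp only [map_add, map_smul, hf.add_left, add_right hf, hf.smul_left, smul_right hf, h u hu,
      h u' hu', hκu, ← hκ, h1, h2, h3, h4, h5, hu, hu', huu', hu'u, hwu, hwu',
      eq_zero_comm hf hwu, eq_zero_comm hf hwu']
    ring
  refine ⟨κ, fun x => eq_of_form hf fun y => ?_⟩
  obtain ⟨a, ha⟩ : ∃ a, σ a ≠ a := by
    by_contra h
    push Not at h
    exact hf.ne_refl (RingEquiv.ext h)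
  have hl : ∀ l, σ l * (f (K x) y - κ * f x y) + l * (f (K y) x - κ * f y x) = 0 := fun l => by
    have h1 := hψ (x + l • y)
    simp only [map_add, map_smul, hf.add_left, add_right hf, hf.smul_left, smul_right hf, hψ] at h1
    linear_combination h1
  have h1 := hl 1
  rw [map_one, one_mul, one_mul] at h1
  rw [hf.smul_left, ← sub_eq_zero]
  refine (mul_eq_zero.1 ?_).resolve_left (sub_ne_zero.2 ha)
  linear_combination hl a - a * h1

/-- The skew map obtained from a conjugation by a transvection at `u`. -/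
def dl (hf : IsUnitaryForm σ f) (u z : ι → F) (t κ : F) : (ι → F) →ₗ[F] (ι → F) :=
  (-t) • ((formL hf u).smulRight z + (formL hf z).smulRight u) -
    (t * t * κ) • (formL hf u).smulRight u

lemma dl_apply (hf : IsUnitaryForm σ f) (u z : ι → F) (t κ : F) (x : ι → F) :
    dl hf u z t κ x = (-t) • (f x u • z + f x z • u) - (t * t * κ) • (f x u • u) := rfl

end Form

variable {F : Type*} [Field F] [DecidableEq F] {a b : ℕ} {σ : F ≃+* F}
  {h : (Fin a × Fin b → F) → (Fin a × Fin b → F) → F} {f₁ : (Fin a → F) → (Fin a → F) → F}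
  {f₂ : (Fin b → F) → (Fin b → F) → F} {M : Subgroup (GL (Fin a × Fin b) F)}
  [Fintype F] (H : Hyp σ h f₁ f₂ M) {v : Fin b → F} {K K' : (Fin a → F) →ₗ[F] (Fin a → F)}
include H

lemma rk_add (hv : f₂ v v = 0) (hK : RK H.pair M v K) (hK' : RK H.pair M v K') :
    RK H.pair M v (K + K') := by
  obtain ⟨g, hg, hge⟩ := hK
  obtain ⟨g', hg', hge'⟩ := hK'
  refine ⟨g * g', M.mul_mem hg hg', fun z => ?_⟩
  rw [gl_mulVec_mul, hge', hge, map_add, cv_pt, hv, zero_smul, add_zero, LinearMap.add_apply,
    pt_add_left]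
  abel

lemma rk_neg (hv : f₂ v v = 0) (hK : RK H.pair M v K) : RK H.pair M v (-K) := by
  obtain ⟨g, hg, hge⟩ := hK
  refine ⟨g⁻¹, M.inv_mem hg, fun z => gl_mulVec_injective g ?_⟩
  show _ *ᵥ _ = _ *ᵥ _
  rw [gl_mulVec_inv_mulVec, hge, map_add, cv_pt, hv, zero_smul, add_zero, LinearMap.neg_apply,
    add_assoc, ← pt_add_left, neg_add_cancel, pt_zero_left, add_zero]

lemma rk_sub (hv : f₂ v v = 0) (hK : RK H.pair M v K) (hK' : RK H.pair M v K') :
    RK H.pair M v (K - K') := by
  rw [sub_eq_add_neg]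
  exact rk_add H hv hK (rk_neg H hv hK')

lemma rk_congr (hK : RK H.pair M v K) (e : ∀ x, K' x = K x) : RK H.pair M v K' := by
  rwa [LinearMap.ext e]

lemma rk_conj {A : GL (Fin a) F} (hA : A ∈ isoOf f₁) (hAs : A ∈ specialLinear (Fin a) F)
    (hK : RK H.pair M v K) :
    RK H.pair M v (Matrix.toLin' (A : Matrix (Fin a) (Fin a) F) ∘ₗ K ∘ₗ
      Matrix.toLin' ((A⁻¹ : GL (Fin a) F) : Matrix (Fin a) (Fin a) F)) := by
  obtain ⟨g, hg, hge⟩ := hK
  refine ⟨kronGL A 1 * g * (kronGL A 1)⁻¹, M.mul_mem (M.mul_mem (H.left_mem hA hAs) hg)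
    (M.inv_mem (H.left_mem hA hAs)), fun z => ?_⟩
  rw [gl_mulVec_mul, gl_mulVec_mul, hge, mulVec_add, gl_mulVec_inv_mulVec, kronGL_pt, Units.val_one,
    one_mulVec, kronGL_inv, inv_one, cv_kron_left H.pair]
  simp [Matrix.toLin'_apply]

lemma exists_scale_mem (hv0 : v ≠ 0) (hv : f₂ v v = 0) {l : F} (hl : l ≠ 0) :
    ∃ B ∈ isoOf f₂ ⊓ specialLinear (Fin b) F, B •ᵥ v = l • v := by
  have hg := H.pair.h₂
  obtain ⟨p, hp, hvp, hpv⟩ := exists_partner hg hv0 hv
  obtain ⟨τ, hτ0, hτ⟩ := exists_trace_zero hg.ne_refl hg.involutive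
  set β := -(τ * τ * τ) / l with hβ
  have hβ0 : β ≠ 0 := div_ne_zero (neg_ne_zero.2 (mul_ne_zero (mul_ne_zero hτ0 hτ0) hτ0)) hl
  obtain ⟨w, hwv, hwp, hww⟩ := exists_value_hyp hg (by rw [Fintype.card_fin]; exact H.three_le) hv hp hvp
    (s := -(β + σ β)) (by rw [map_neg, map_add, hg.involutive, add_comm])
  set w₂ := p + β • v + w with hw₂def
  have hw₂ : f₂ w₂ w₂ = 0 := by
    simp only [hw₂def, hg.add_left, add_right hg, hg.smul_left, smul_right hg, hp, hv, hvp, hpv,
      hwv, hwp, eq_zero_comm hg hwv, eq_zero_comm hg hwp, hww]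
    ring
  have hpw₂ : f₂ p w₂ = σ β := by
    simp only [hw₂def, add_right hg, smul_right hg, hp, hpv, eq_zero_comm hg hwp]; ring
  have hw₂v : f₂ w₂ v = 1 := by
    simp only [hw₂def, hg.add_left, hg.smul_left, hv, hpv, hwv]; ring
  have hσβ : σ β ≠ 0 := fun e => hβ0 (σ.injective (e.trans (map_zero σ).symm))
  obtain ⟨g₁, hg₁, e₁⟩ := exists_move_tau hg hv hp (by rw [hvp]; exact one_ne_zero) hτ0 hτ
  obtain ⟨g₂, hg₂, e₂⟩ := exists_move_tau hg hp hw₂ (by rw [hpw₂]; exact hσβ) hτ0 hτ
  obtain ⟨g₃, hg₃, e₃⟩ := exists_move_tau hg hw₂ hv (by rw [hw₂v]; exact one_ne_zero) hτ0 hτ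
  refine ⟨g₃ * (g₂ * g₁), mul_mem hg₃ (mul_mem hg₂ hg₁), ?_⟩
  rw [gl_mulVec_mul, gl_mulVec_mul, e₁, mulVec_smul, e₂, mulVec_smul, mulVec_smul, e₃, smul_smul,
    smul_smul, hvp, hpw₂, hw₂v, div_one, map_div₀, hg.involutive, hτ, hβ]
  congr 1
  field_simp

lemma rk_scale (hv0 : v ≠ 0) (hv : f₂ v v = 0) {μ : F} (hμ : σ μ = μ) (hμ0 : μ ≠ 0)
    (hK : RK H.pair M v K) : RK H.pair M v (μ • K) := by
  obtain ⟨l, hl⟩ := exists_norm_eq H.pair.h₂.ne_refl H.pair.h₂.involutive hμ
  have hl0 : l ≠ 0 := fun e => hμ0 (by rw [← hl, e, zero_mul])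
  obtain ⟨B, ⟨hBi, hBs⟩, hBv⟩ := exists_scale_mem H hv0 hv hl0
  obtain ⟨g, hg, hge⟩ := hK
  refine ⟨kronGL 1 B * g * (kronGL 1 B)⁻¹, M.mul_mem (M.mul_mem (H.right_mem hBi hBs) hg)
    (M.inv_mem (H.right_mem hBi hBs)), fun z => ?_⟩
  have hc : cv H.pair v ((kronGL (1 : GL (Fin a) F) B)⁻¹ •ᵥ z) = σ l • cv H.pair v z := by
    rw [← cv_smul_vec]
    refine eq_of_form H.pair.h₁ fun x => ?_
    rw [← h_pt_right H.pair, ← h_pt_right H.pair,
      form_mulVec_left ((isoOf h).inv_mem (kron_mem_iso H.pair (isoOf f₁).one_mem hBi)), inv_inv,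
      kronGL_pt, Units.val_one, one_mulVec, hBv]
  rw [gl_mulVec_mul, gl_mulVec_mul, hge, mulVec_add, gl_mulVec_inv_mulVec, kronGL_pt, Units.val_one,
    one_mulVec, hBv, hc, map_smul, LinearMap.smul_apply, ← hl, pt_smul_left, pt_smul_left,
    pt_smul_right, smul_smul, mul_comm l]

lemma rk_skew (hv0 : v ≠ 0) (hv : f₂ v v = 0) (hK : RK H.pair M v K) (x y : Fin a → F) :
    f₁ (K x) y + f₁ x (K y) = 0 := by
  obtain ⟨v', -, h1, h2⟩ := exists_partner H.pair.h₂ hv0 hv
  obtain ⟨g, hg, hge⟩ := hK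
  have hc : ∀ x, cv H.pair v (pt x v') = x := fun x => by rw [cv_pt, h2, one_smul]
  have h3 := (H.le hg).1 (pt x v') (pt y v')
  change h (g •ᵥ pt x v') (g •ᵥ pt y v') = _ at h3
  rw [hge, hge, hc, hc, H.pair.hh.add_left, add_right H.pair.hh, add_right H.pair.hh] at h3
  simp only [H.pair.prod, hv, h1, h2, mul_one, mul_zero, add_zero] at h3
  linear_combination h3

omit H in
/-- The transvection of a tensor point, from its root map. -/
lemma uTv_mem_of_rk {P : UPair σ h f₁ f₂} {u : Fin a → F} (hu : f₁ u u = 0) {c : F}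
    (hK : RK P M v (c • (formL P.h₁ u).smulRight u)) (hv : f₂ v v = 0) :
    uTv P.hh (pt u v) c ∈ M := by
  obtain ⟨g, hg, hge⟩ := hK
  have hiso : h (pt u v) (pt u v) = 0 := by rw [P.prod, hu, zero_mul]
  convert hg using 1
  refine gl_ext_mulVec fun z => ?_
  rw [uTv_mulVec P.hh hiso, hge, h_pt_right P]
  simp [pt_smul_left, smul_smul]

/-- A non-scalar root map yields a tensor point all of whose transvections lie in the group. -/
theorem exists_seed (hns : ¬ OnlyScalar H.pair M)
    (hex : 3 ≤ a ∨ ∃ μ : F, σ μ = μ ∧ μ ≠ 0 ∧ μ ≠ 1) :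
    ∃ u v, u ≠ 0 ∧ v ≠ 0 ∧ f₁ u u = 0 ∧ f₂ v v = 0 ∧ pt u v ∈ uSet H.pair.hh M := by
  simp only [OnlyScalar, not_forall] at hns
  obtain ⟨v, K, hv0, hv, hK, hns⟩ := hns
  have hf := H.pair.h₁
  have hsk := rk_skew H hv0 hv hK
  obtain ⟨u, hu, hκ⟩ : ∃ u, f₁ u u = 0 ∧ f₁ (K u) u ≠ 0 := by
    by_contra hcon
    push Not at hcon
    exact hns (skew_scalar hf (by rw [Fintype.card_fin]; exact H.two_le) K hsk hcon)
  have hu0 : u ≠ 0 := fun e => hκ (by rw [e, zero_right hf])
  set z := K u with hz
  set κ := f₁ z u with hκdef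
  have hκs : σ κ = -κ := by
    rw [hκdef, ← hf.herm]; linear_combination hsk u u
  -- the rank two root maps
  have hD : ∀ t, σ t = -t → RK H.pair M v (dl hf u z t κ) := by
    intro t ht
    have hA := uTv_mem_isoOf hf hu ht
    refine rk_congr H (rk_sub H hv (rk_conj H hA (uTv_mem_sl hf u t) hK) hK) fun x => ?_
    have hi : (uTv hf u t)⁻¹ = uTv hf u (-t) := by
      refine inv_eq_of_mul_eq_one_right (gl_ext_mulVec fun y => ?_)
      rw [gl_mulVec_mul, uTv_mulVec hf hu, uTv_mulVec hf hu, hf.add_left, hf.smul_left, hu,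
        Units.val_one, one_mulVec]
      module
    have hxz : f₁ (K x) u = - f₁ x z := by linear_combination hsk x u
    rw [dl_apply, LinearMap.sub_apply, LinearMap.comp_apply, LinearMap.comp_apply,
      Matrix.toLin'_apply, Matrix.toLin'_apply, hi, uTv_mulVec hf hu, uTv_mulVec hf hu, map_add,
      map_smul, ← hz, hf.add_left, hf.smul_left, ← hκdef, hxz]
    module
  obtain ⟨t, ht0, ht⟩ := exists_trace_zero hf.ne_refl hf.involutive
  refine ⟨u, v, hu0, hv0, hu, hv, by rw [H.pair.prod, hu, zero_mul], fun c hc => ?_⟩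
  refine uTv_mem_of_rk (P := H.pair) hu ?_ hv
  rcases Nat.lt_or_ge a 3 with ha | ha
  · -- two dimensions: scale by the fixed field
    obtain ⟨μ, hμ, hμ0, hμ1⟩ := hex.resolve_left (by omega)
    set d := - ((μ * μ - μ) * (t * t * κ)) with hd
    have hd0 : d ≠ 0 := by
      rw [hd, neg_ne_zero]
      refine mul_ne_zero ?_ (mul_ne_zero (mul_ne_zero ht0 ht0) hκ)
      rw [show μ * μ - μ = μ * (μ - 1) by ring]
      exact mul_ne_zero hμ0 (sub_ne_zero.2 hμ1)
    have h1 : RK H.pair M v (d • (formL hf u).smulRight u) := by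
      refine rk_congr H (rk_sub H hv (hD (μ * t) (by rw [map_mul, hμ, ht, mul_neg]))
        (rk_scale H hv0 hv hμ hμ0 (hD t ht))) fun x => ?_
      rw [LinearMap.sub_apply, LinearMap.smul_apply, LinearMap.smul_apply, dl_apply, dl_apply, hd,
        LinearMap.smulRight_apply, formL_apply]
      module
    rcases eq_or_ne c 0 with rfl | hc0
    · exact ⟨1, M.one_mem, fun z => by simp [pt_zero_left]⟩
    refine rk_congr H (rk_scale H hv0 hv (μ := c / d) ?_ (div_ne_zero hc0 hd0) h1) fun x => ?_
    · rw [map_div₀, hc, show σ d = -d by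
        rw [hd, map_neg, map_mul, map_sub, map_mul, map_mul, map_mul, hμ, ht, hκs]; ring,
        neg_div_neg_eq]
    · rw [smul_smul, div_mul_cancel₀ _ hd0]
  · -- at least three dimensions: an anisotropic vector orthogonal to `u` and `z`
    obtain ⟨w, hwu, hwz, hww⟩ : ∃ w, f₁ w u = 0 ∧ f₁ w z = 0 ∧ f₁ w w ≠ 0 := by
      by_contra hcon
      push Not at hcon
      let W : Submodule F (Fin a → F) := LinearMap.ker (formL hf u) ⊓ LinearMap.ker (formL hf z)
      have hW : 1 ≤ finrank F W := by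
        have h1 := LinearMap.finrank_range_add_finrank_ker (LinearMap.prod (formL hf u) (formL hf z))
        have h2 : finrank F (LinearMap.range (LinearMap.prod (formL hf u) (formL hf z))) ≤ 2 :=
          (Submodule.finrank_le _).trans (by rw [finrank_prod, finrank_self])
        rw [LinearMap.ker_prod, finrank_fin_fun] at h1
        change _ + finrank F W = a at h1
        omega
      obtain ⟨w₀, hw₀, hw₀0⟩ := Submodule.exists_mem_ne_zero_of_ne_bot
        (p := W) (fun e => by rw [e, finrank_bot] at hW; omega)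
      obtain ⟨⟨x, hx⟩, -⟩ := hf.nondegenerate _ hw₀0
      obtain ⟨hw₀u, hw₀z⟩ := hw₀
      have hw₀u' : f₁ w₀ u = 0 := hw₀u
      have hw₀z' : f₁ w₀ z = 0 := hw₀z
      have hu2 : f₁ u z ≠ 0 := ne_zero_comm hf hκ
      set β := f₁ x u / κ with hβ
      set α := (f₁ x z - β * f₁ z z) / f₁ u z with hα
      set y := x - α • u - β • z with hy
      have hyu : f₁ y u = 0 := by
        rw [hy, sub_left hf, sub_left hf, hf.smul_left, hf.smul_left, hu, ← hκdef, hβ,
          div_mul_cancel₀ _ hκ]
        ring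
      have hyz : f₁ y z = 0 := by
        rw [hy, sub_left hf, sub_left hf, hf.smul_left, hf.smul_left, hα, div_mul_cancel₀ _ hu2]
        ring
      have hl : ∀ l : F, σ l * f₁ y w₀ + l * f₁ w₀ y = 0 := fun l => by
        have h1 := hcon (y + l • w₀) (by rw [hf.add_left, hf.smul_left, hyu, hw₀u']; ring)
          (by rw [hf.add_left, hf.smul_left, hyz, hw₀z']; ring)
        rw [hf.add_left, add_right hf, add_right hf, hf.smul_left, hf.smul_left, smul_right hf,
          smul_right hf, hcon y hyu hyz, hcon w₀ hw₀u' hw₀z'] at h1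
        linear_combination h1
      obtain ⟨l, hl'⟩ : ∃ l, σ l ≠ l := by
        by_contra h
        push Not at h
        exact hf.ne_refl (RingEquiv.ext h)
      have h1 := hl 1
      rw [map_one, one_mul, one_mul] at h1
      have hyw : f₁ y w₀ = 0 := (mul_eq_zero.1 (show (σ l - l) * f₁ y w₀ = 0 by
        linear_combination hl l - l * h1)).resolve_left (sub_ne_zero.2 hl')
      apply hx
      rw [show x = y + α • u + β • z by rw [hy]; abel, hf.add_left, hf.add_left, hf.smul_left,
        hf.smul_left, hyw, eq_zero_comm hf hw₀u', eq_zero_comm hf hw₀z']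
      ring
    -- conjugate the rank two map by Siegel elements
    have hQ : ∀ w c, f₁ w u = 0 → f₁ w z = 0 → c + σ c = - f₁ w w →
        RK H.pair M v ((-(t * κ)) • ((formL hf u).smulRight w - (formL hf w).smulRight u +
          (c - σ c) • (formL hf u).smulRight u)) := by
      intro w c hwu hwz hwc
      have huw := eq_zero_comm hf hwu
      have hA := eich_mem_isoOf hf hu huw hwc
      refine rk_congr H (rk_sub H hv (rk_conj H hA (eich_mem_sl hf u w c) (hD t ht)) (hD t ht))
        fun x => ?_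
      have hAu : (eich hf u w c) •ᵥ u = u := by
        rw [eich_mulVec hf hu huw, hu, huw]; module
      have hAz : (eich hf u w c) •ᵥ z = z + κ • w + (c * κ) • u := by
        rw [eich_mulVec hf hu huw, ← hκdef, eq_zero_comm hf hwz, sub_zero]
      have hxu : f₁ ((eich hf u w c)⁻¹ •ᵥ x) u = f₁ x u := by
        rw [form_mulVec_left ((isoOf f₁).inv_mem hA), inv_inv, hAu]
      have hxz : f₁ ((eich hf u w c)⁻¹ •ᵥ x) z
          = f₁ x z + σ κ * f₁ x w + σ (c * κ) * f₁ x u := by
        rw [form_mulVec_left ((isoOf f₁).inv_mem hA), inv_inv, hAz, add_right hf, add_right hf,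
          smul_right hf, smul_right hf]
      rw [LinearMap.sub_apply, LinearMap.comp_apply, LinearMap.comp_apply, Matrix.toLin'_apply,
        Matrix.toLin'_apply, dl_apply, hxu, hxz, mulVec_sub, mulVec_smul, mulVec_smul, mulVec_add,
        mulVec_smul, mulVec_smul, mulVec_smul, hAu, hAz, dl_apply, map_mul, hκs,
        LinearMap.smul_apply, LinearMap.add_apply, LinearMap.sub_apply, LinearMap.smul_apply,
        LinearMap.smulRight_apply, LinearMap.smulRight_apply, LinearMap.smulRight_apply,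
        formL_apply, formL_apply]
      module
    -- combine
    obtain ⟨ω, hω⟩ : ∃ ω, σ ω ≠ ω := by
      by_contra h
      push Not at h
      exact hf.ne_refl (RingEquiv.ext h)
    set s := c / (-(t * κ) * f₁ w w) with hs
    have hss : σ s = -s := by
      rw [hs, map_div₀, hc, map_mul, map_neg, map_mul, ht, hκs, self_fixed hf]
      ring
    set l := s / (σ ω - ω) * ω with hl
    have hls : σ l - l = s := by
      rw [hl, map_mul, map_div₀, hss, map_sub, hf.involutive,
        show ω - σ ω = -(σ ω - ω) by ring, neg_div_neg_eq, ← mul_sub,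
        div_mul_cancel₀ _ (sub_ne_zero.2 hω)]
    clear_value l
    obtain ⟨c1, hc1⟩ := exists_trace_eq hf (s := - f₁ w w) (by rw [map_neg, self_fixed hf])
    have hlu : f₁ (l • w) u = 0 := by rw [hf.smul_left, hwu, mul_zero]
    have hlz : f₁ (l • w) z = 0 := by rw [hf.smul_left, hwz, mul_zero]
    have hc2 : l * σ l * c1 + σ (l * σ l * c1) = - f₁ (l • w) (l • w) := by
      rw [map_mul, map_mul, hf.involutive, hf.smul_left, smul_right hf]
      linear_combination (l * σ l) * hc1
    have hc3 : (c1 + l * σ l * c1 - σ l * f₁ w w) + σ (c1 + l * σ l * c1 - σ l * f₁ w w)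
        = - f₁ (w + l • w) (w + l • w) := by
      simp only [map_add, map_sub, map_mul, hf.involutive, self_fixed hf, hf.smul_left,
        smul_right hf, hf.add_left, add_right hf]
      linear_combination (1 + l * σ l) * hc1
    refine rk_congr H (rk_sub H hv (rk_add H hv (hQ w c1 hwu hwz hc1) (hQ _ _ hlu hlz hc2))
      (hQ (w + l • w) _ (by rw [hf.add_left, hwu, hlu, add_zero])
        (by rw [hf.add_left, hwz, hlz, add_zero]) hc3)) fun x => ?_
    have hce : c = -(t * κ) * f₁ w w * (σ l - l) := by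
      rw [hls, hs, mul_div_cancel₀]
      exact mul_ne_zero (neg_ne_zero.2 (mul_ne_zero ht0 hκ)) hww
    simp only [LinearMap.sub_apply, LinearMap.smul_apply, LinearMap.add_apply,
      LinearMap.smulRight_apply, formL_apply, map_add, map_sub, map_mul, hf.involutive,
      self_fixed hf, smul_right hf, add_right hf, hce]
    module

end CfsgLib.ClassicalMax.TensorUnit
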