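/-
Stabilisers of tensor products of two unitary forms are maximal in the special unitary group.
-/
import Cfsg.Agent.Lib.ClassicalMax.TensorUnitScalar
import Cfsg.Agent.Lib.ClassicalMax.TensorUnitAvg
import Cfsg.Agent.Lib.ClassicalMax.TensorUnitFill
import Cfsg.Agent.Lib.ClassicalMax.TensorTools
set_option autoImplicit false
set_option linter.unusedSectionVars false

namespace CfsgLib.ClassicalMax.TensorUnit

open Matrix Kronecker Module Cfsg.Geo
open CfsgLib.ClassicalMax.Kron
open CfsgLib.ClassicalMax.Unit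
open CfsgLib.ClassicalMax.TensorSL (InH inH_iff)

local notation:80 g:81 " •ᵥ " z:80 => Matrix.mulVec (Units.val g) z

variable {F : Type*} [Field F] [Fintype F] {σ : F ≃+* F}

/-- A field of more than four elements has a further fixed scalar. -/
lemma exists_fixed_ne (hne : σ ≠ RingEquiv.refl F) (h2 : ∀ a : F, σ (σ a) = a) {q : ℕ} (hq : 3 ≤ q)
    (hF : Fintype.card F = q ^ 2) : ∃ μ : F, σ μ = μ ∧ μ ≠ 0 ∧ μ ≠ 1 := by
  classical
  by_contra hcon
  push Not at hcon
  have hc := (exists_card_eq hne h2).1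
  rw [hF] at hc
  have hle : (fixedField σ : Set F).ncard ≤ ({0, 1} : Set F).ncard := Set.ncard_le_ncard
    (fun x hx => by
      rcases eq_or_ne x 0 with h | h
      · exact Or.inl h
      · exact Or.inr (hcon x hx h)) (Set.toFinite _)
  have h3 : ({0, 1} : Set F).ncard ≤ 2 := (Set.ncard_insert_le _ _).trans (by simp)
  rw [← Nat.card_coe_set_eq] at hle
  have hle' : Nat.card (fixedField σ) ≤ 2 := hle.trans h3
  have : q = Nat.card (fixedField σ) := Nat.pow_left_injective two_ne_zero hc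
  omega

variable {a b : ℕ} {ι : Type} [Fintype ι] [DecidableEq ι]

theorem unit_tensor_maximal {f : (ι → F) → (ι → F) → F} (hf : IsUnitaryForm σ f)
    (e : ι ≃ Fin a × Fin b) (P : GL ι F) {f₁ : (Fin a → F) → (Fin a → F) → F}
    {f₂ : (Fin b → F) → (Fin b → F) → F} (hf₁ : IsUnitaryForm σ f₁) (hf₂ : IsUnitaryForm σ f₂)
    (hform : ∀ u u' w w', f (Tensor.pureL e P u w) (Tensor.pureL e P u' w') = f₁ u u' * f₂ w w')
    (ha : 2 ≤ a) (hab : a < b)
    (hex : 3 ≤ a ∨ ∃ μ : F, σ μ = μ ∧ μ ≠ 0 ∧ μ ≠ 1) :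
    IsMaximalIn (isoOf f ⊓ specialLinear ι F)
      (tensorProductSubgroup a b e P ⊓ (isoOf f ⊓ specialLinear ι F)) := by
  classical
  let L : (Fin a × Fin b → F) →ₗ[F] (ι → F) :=
    Matrix.toLin' (P : Matrix ι ι F) ∘ₗ LinearMap.funLeft F F e
  have hL : ∀ z, L z = P •ᵥ (z ∘ e) := fun z => Matrix.toLin'_apply _ _
  have hLinv : ∀ x, L ((P⁻¹ •ᵥ x) ∘ e.symm) = x := fun x => by
    rw [hL, Function.comp_assoc, Equiv.symm_comp_self, Function.comp_id, gl_mulVec_inv_mulVec]
  have hLinj : Function.Injective L := fun z z' hz => by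
    rw [hL, hL] at hz
    exact e.surjective.injective_comp_right (gl_mulVec_injective P hz)
  have hLpt : ∀ x w, L (pt x w) = Tensor.pureL e P x w := fun x w => by
    rw [hL, Tensor.pureL_eq]; rfl
  set h : (Fin a × Fin b → F) → (Fin a × Fin b → F) → F := fun z z' => f (L z) (L z') with hh
  have hhU : IsUnitaryForm σ h :=
    { ne_refl := hf.ne_refl
      involutive := hf.involutive
      add_left := fun x y v => by simp only [hh, map_add, hf.add_left]
      smul_left := fun c x v => by simp only [hh, map_smul, hf.smul_left]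
      herm := fun v w => hf.herm _ _
      nondegenerate := fun v hv => by
        obtain ⟨⟨x, hx⟩, y, hy⟩ :=
          hf.nondegenerate (L v) fun e0 => hv (hLinj (e0.trans (map_zero L).symm))
        exact ⟨⟨(P⁻¹ •ᵥ x) ∘ e.symm, by
          show f (L _) _ ≠ 0
          rwa [hLinv]⟩, ⟨(P⁻¹ •ᵥ y) ∘ e.symm, by
          show f _ (L _) ≠ 0
          rwa [hLinv]⟩⟩ }
  have hP : UPair σ h f₁ f₂ := ⟨hhU, hf₁, hf₂, fun x x' w w' => by
    show f (L _) (L _) = _
    rw [hLpt, hLpt, hform]⟩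
  set Φ : GL (Fin a × Fin b) F ≃* GL ι F := (glReindex e.symm).trans (MulAut.conj P) with hΦ
  have hΦL : ∀ g z, (Φ g) •ᵥ L z = L (g •ᵥ z) := fun g z => by
    rw [hL, hL]
    change ((P * glReindex e.symm g * P⁻¹ : GL ι F) : Matrix ι ι F) *ᵥ _ = _
    rw [gl_mulVec_mul, gl_mulVec_mul, gl_inv_mulVec_mulVec]
    congr 1
    show ((g : Matrix (Fin a × Fin b) (Fin a × Fin b) F).submatrix e.symm.symm e.symm.symm) *ᵥ (z ∘ e) = _
    rw [Matrix.submatrix_mulVec_equiv]
    simp [Function.comp_assoc]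
  have hdet : ∀ g : GL (Fin a × Fin b) F,
      Φ g ∈ specialLinear ι F ↔ g ∈ specialLinear (Fin a × Fin b) F := by
    intro g
    rw [specialLinear, specialLinear, MonoidHom.mem_ker, MonoidHom.mem_ker, Units.ext_iff,
      Units.ext_iff, GeneralLinearGroup.val_det_apply, GeneralLinearGroup.val_det_apply,
      Units.val_one]
    have : Matrix.det (Φ g : Matrix ι ι F) =
        Matrix.det (g : Matrix (Fin a × Fin b) (Fin a × Fin b) F) := by
      rw [hΦ, MulEquiv.trans_apply, MulAut.conj_apply, Units.val_mul, Units.val_mul,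
        Matrix.det_units_conj]
      show Matrix.det (Matrix.reindex e.symm e.symm _) = _
      rw [Matrix.det_reindex_self]
    rw [this]
  have hmem : ∀ g, Φ g ∈ isoOf f ⊓ specialLinear ι F ↔
      g ∈ isoOf h ⊓ specialLinear (Fin a × Fin b) F := by
    intro g
    rw [Subgroup.mem_inf, Subgroup.mem_inf, hdet]
    refine and_congr_left fun _ => ⟨fun hg z z' => ?_, fun hg x y => ?_⟩
    · show f (L (g •ᵥ z)) (L (g •ᵥ z')) = f (L z) (L z')
      rw [← hΦL, ← hΦL]
      exact hg _ _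
    · show f (Φ g •ᵥ x) (Φ g •ᵥ y) = f x y
      rw [← hLinv x, ← hLinv y, hΦL, hΦL]
      exact hg _ _
  refine isMaximalIn_of inf_le_right ?_ ?_
  · -- a transvection at a tensor point
    have H0 : TensorSL.Hyp (M := specialLinear (Fin a × Fin b) F) := by
      refine ⟨ha, hab, fun k hk => det_eq_one hk, fun A B e => ?_⟩
      simpa [specialLinear, MonoidHom.mem_ker, Units.ext_iff] using e
    obtain ⟨v, -, hv0, hv⟩ := exists_isotropic_mem hf₂ (W := ⊤)
      (by rw [finrank_top, finrank_fin_fun]; omega)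
    haveI : Nonempty (Fin a) := ⟨⟨0, by omega⟩⟩
    obtain ⟨u, hu⟩ := exists_ne (0 : Fin a → F)
    have hp0 : pt u v ≠ 0 := pt_ne_zero hu hv0
    have hp : h (pt u v) (pt u v) = 0 := by rw [hP.prod, hv, mul_zero]
    obtain ⟨τ, hτ0, hτ⟩ := exists_trace_zero hf.ne_refl hf.involutive
    refine ⟨Φ (uTv hhU (pt u v) τ),
      (hmem _).2 ⟨uTv_mem_isoOf hhU hp hτ, uTv_mem_sl _ _ _⟩, fun hm => ?_⟩
    obtain ⟨A, B, hAB⟩ := (inH_iff e P).1 hm.1
    have hxz : ∀ z, kronGL A B •ᵥ z - z ∈ Submodule.span F {pt u v} := fun z => by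
      rw [← hAB, uTv_mulVec hhU hp, add_sub_cancel_left]
      exact Submodule.smul_mem _ _ (Submodule.mem_span_singleton_self _)
    have hfr : finrank F (Submodule.span F ({pt u v} : Set (Fin a × Fin b → F))) ≤ 1 :=
      (finrank_span_le_card _).trans (by simp)
    obtain ⟨c, hc⟩ := TensorSL.exists_scalar H0 (hfr.trans (by omega)) hxz
    obtain ⟨w, hw⟩ : ∃ w, c • (B •ᵥ w) - w ≠ 0 := by
      by_contra hcon
      push Not at hcon
      obtain ⟨⟨z, hz⟩, -⟩ := hhU.nondegenerate _ hp0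
      have h1 : uTv hhU (pt u v) τ = 1 := by
        rw [hAB]
        refine gl_ext_pt fun x w => ?_
        rw [kronGL_pt, hc, pt_smul_left, ← pt_smul_right, sub_eq_zero.1 (hcon w), Units.val_one,
          one_mulVec]
      have h2 := uTv_mulVec hhU hp τ z
      rw [h1, Units.val_one, one_mulVec, left_eq_add] at h2
      exact smul_ne_zero (mul_ne_zero hτ0 hz) hp0 h2
    have hle : LinearMap.range (ptR (a := a) (c • (B •ᵥ w) - w)) ≤ Submodule.span F {pt u v} := by
      rintro _ ⟨x, rfl⟩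
      have := hxz (pt x w)
      rw [kronGL_pt, hc, pt_smul_left] at this
      rwa [ptR_apply, pt_sub_right, pt_smul_right]
    have h3 := Submodule.finrank_mono hle
    rw [LinearMap.finrank_range_of_inj (ptR_injective hw), finrank_fin_fun] at h3
    omega
  intro M hHM hMK g hgM hgH
  set M₀ := M.comap Φ.toMonoidHom with hM₀
  have H : Hyp σ h f₁ f₂ M₀ := by
    refine ⟨hP, ha, hab, fun k hk => (hmem k).1 (hMK hk), fun A B hA hB hd => hHM ⟨?_, ?_⟩⟩
    · exact (inH_iff e P).2 ⟨A, B, rfl⟩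
    · refine (hmem _).2 ⟨kron_mem_iso hP hA hB, ?_⟩
      simpa [specialLinear, MonoidHom.mem_ker, Units.ext_iff] using hd
  have hg₀ : Φ.symm g ∈ M₀ := by
    rw [hM₀, Subgroup.mem_comap, MulEquiv.coe_toMonoidHom, Φ.apply_symm_apply]; exact hgM
  have hns : ¬ OnlyScalar H.pair M₀ := fun hS => by
    have hin : InH (Φ.symm g) := by
      by_cases hμ : ∃ μ : F, σ μ = μ ∧ μ ≠ 0 ∧ μ ≠ 1
      · exact inH_of_mem_avg H hS hμ _ hg₀
      · exact inH_of_mem H (by have := hex.resolve_right hμ; omega) hS _ hg₀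
    exact hgH ⟨Φ.apply_symm_apply g ▸ (inH_iff e P).2 hin, hMK hgM⟩
  obtain ⟨u, v, hu0, hv0, hu, hv, hseed⟩ := exists_seed H hns hex
  intro y hy
  have := iso_inf_sl_le_of_seed H hu0 hv0 hu hv hseed (by nlinarith)
    ((hmem (Φ.symm y)).1 (by rw [Φ.apply_symm_apply]; exact hy))
  rwa [hM₀, Subgroup.mem_comap, MulEquiv.coe_toMonoidHom, Φ.apply_symm_apply] at this

end CfsgLib.ClassicalMax.TensorUnit
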