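/-
Tensor products of two unitary forms: with only scalar root maps every member is a tensor.

The descent is on the kernel of the pairing between two isotropic tensor lines; the Chevalley–Warning
theorem supplies a Siegel element whose conjugate pairs a line with itself with a larger kernel.
-/
import Cfsg.Agent.Lib.ClassicalMax.TensorUnitLine
import Mathlib.FieldTheory.ChevalleyWarning
set_option autoImplicit false
set_option linter.unusedSectionVars false

namespace CfsgLib.ClassicalMax.TensorUnit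

open Matrix Kronecker Module Cfsg.Geo
open CfsgLib.ClassicalMax.Kron
open CfsgLib.ClassicalMax.Unit
open CfsgLib.ClassicalMax.TensorSL (InH lcon lcon_pt)

local notation:80 g:81 " •ᵥ " z:80 => Matrix.mulVec (Units.val g) z

section Solve

open MvPolynomial

variable {F : Type*} [Field F] [Fintype F] {σ : F ≃+* F}

/-- A hermitian pencil and a hermitian quadric have a common non-trivial real zero. -/
lemma exists_real_zero (hne : σ ≠ RingEquiv.refl F) {κ : Type} [Fintype κ] {r : ℕ} (hr : 0 < r)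
    (L : κ → Matrix (Fin r) (Fin r) F)
    (hL : ∀ k i j, σ (L k i j) = L k j i) (S : κ → κ → F) (hS : ∀ k l, σ (S k l) = S l k)
    (hκ : r + 2 < Fintype.card κ ∨ (r < Fintype.card κ ∧ ∀ k l, S k l = 0)) :
    ∃ x : κ → F, x ≠ 0 ∧ (∀ k, σ (x k) = x k) ∧
      Matrix.det (Matrix.of fun i j => ∑ k, x k * L k i j) = 0 ∧
      ∑ k, ∑ l, x k * x l * S k l = 0 := by
  classical
  let K := fixedField σ
  haveI : Fintype K := Fintype.ofFinite K
  let P₀ : Matrix (Fin r) (Fin r) (MvPolynomial κ F) :=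
    Matrix.of fun i j => ∑ k, MvPolynomial.C (L k i j) * MvPolynomial.X k
  let p₁ : MvPolynomial κ F := P₀.det
  let p₂ : MvPolynomial κ F :=
    ∑ k, ∑ l, MvPolynomial.C (S k l) * (MvPolynomial.X k * MvPolynomial.X l)
  have h₁ : MvPolynomial.map (σ : F →+* F) p₁ = p₁ := by
    show MvPolynomial.map (σ : F →+* F) P₀.det = P₀.det
    rw [RingHom.map_det, ← P₀.det_transpose]
    congr 1
    ext1 i j
    simp [P₀, hL]
  have h₂ : MvPolynomial.map (σ : F →+* F) p₂ = p₂ := by
    simp only [p₂, map_sum, map_mul, MvPolynomial.map_C, MvPolynomial.map_X, RingEquiv.coe_toRingHom,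
      hS]
    rw [Finset.sum_comm]
    exact Finset.sum_congr rfl fun k _ => Finset.sum_congr rfl fun l _ => by ring
  have hlift : ∀ p : MvPolynomial κ F, MvPolynomial.map (σ : F →+* F) p = p →
      ∃ q : MvPolynomial κ K, MvPolynomial.map K.subtype q = p := by
    intro p hp
    refine MvPolynomial.mem_range_map_iff_coeffs_subset.2 fun c hc => ?_
    obtain ⟨d, -, rfl⟩ := MvPolynomial.mem_coeffs_iff.1 hc
    refine ⟨⟨p.coeff d, ?_⟩, rfl⟩
    have := congrArg (MvPolynomial.coeff d) hp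
    rwa [MvPolynomial.coeff_map] at this
  obtain ⟨q₁, hq₁⟩ := hlift p₁ h₁
  obtain ⟨q₂, hq₂⟩ := hlift p₂ h₂
  have hdeg : ∀ q : MvPolynomial κ K,
      q.totalDegree = (MvPolynomial.map K.subtype q).totalDegree := fun q => by
    rw [MvPolynomial.totalDegree, MvPolynomial.totalDegree,
      MvPolynomial.support_map_of_injective q (f := K.subtype) Subtype.val_injective]
  have hd₁ : q₁.totalDegree ≤ r := by
    rw [hdeg, hq₁]
    show P₀.det.totalDegree ≤ r
    rw [Matrix.det_apply]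
    refine (MvPolynomial.totalDegree_finsetSum _ _).trans (Finset.sup_le fun π _ => ?_)
    refine le_trans (MvPolynomial.totalDegree_smul_le _ _) ?_
    refine (MvPolynomial.totalDegree_finsetProd _ _).trans ?_
    refine le_trans (Finset.sum_le_card_nsmul _ _ 1 fun i _ => ?_) (by simp)
    refine (MvPolynomial.totalDegree_finsetSum _ _).trans (Finset.sup_le fun k _ => ?_)
    exact (MvPolynomial.totalDegree_mul _ _).trans (by simp)
  have hd₂ : q₂.totalDegree ≤ 2 := by
    rw [hdeg, hq₂]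
    refine (MvPolynomial.totalDegree_finsetSum _ _).trans (Finset.sup_le fun k _ => ?_)
    refine (MvPolynomial.totalDegree_finsetSum _ _).trans (Finset.sup_le fun l _ => ?_)
    refine (MvPolynomial.totalDegree_mul _ _).trans ?_
    rw [MvPolynomial.totalDegree_C, zero_add]
    exact (MvPolynomial.totalDegree_mul _ _).trans (by simp)
  obtain ⟨p, hp⟩ := CharP.exists K
  haveI := hp
  have hpp : p.Prime := CharP.char_is_prime K p
  have hdvd := char_dvd_card_solutions_of_add_lt p (f₁ := q₁) (f₂ := q₂)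
    (by
      rcases hκ with h | ⟨h, hS0⟩
      · omega
      · have hq0 : q₂ = 0 := MvPolynomial.map_injective K.subtype Subtype.val_injective (by
          rw [hq₂, map_zero]
          exact Finset.sum_eq_zero fun k _ => Finset.sum_eq_zero fun l _ => by
            rw [hS0, map_zero, zero_mul])
        rw [hq0, MvPolynomial.totalDegree_zero]
        omega)
  have heval : ∀ (x : κ → K) (q : MvPolynomial κ K),
      MvPolynomial.eval (fun k => (x k : F)) (MvPolynomial.map K.subtype q)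
        = (MvPolynomial.eval x q : K) := fun x q => by
    rw [MvPolynomial.eval_map]
    exact (MvPolynomial.eval₂_comp_left K.subtype (RingHom.id K) x q).symm
  have he₁ : ∀ x : κ → K, ((MvPolynomial.eval x q₁ : K) : F)
      = Matrix.det (Matrix.of fun i j => ∑ k, (x k : F) * L k i j) := fun x => by
    rw [← heval, hq₁]
    show MvPolynomial.eval _ P₀.det = _
    rw [RingHom.map_det]
    congr 1
    ext1 i j
    simp [P₀, mul_comm]
  have he₂ : ∀ x : κ → K, ((MvPolynomial.eval x q₂ : K) : F)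
      = ∑ k, ∑ l, (x k : F) * (x l : F) * S k l := fun x => by
    rw [← heval, hq₂]
    simp only [p₂, map_sum, map_mul, MvPolynomial.eval_C, MvPolynomial.eval_X]
    exact Finset.sum_congr rfl fun k _ => Finset.sum_congr rfl fun l _ => by ring
  have h0 : MvPolynomial.eval (0 : κ → K) q₁ = 0 ∧ MvPolynomial.eval (0 : κ → K) q₂ = 0 := by
    haveI : Nonempty (Fin r) := ⟨⟨0, hr⟩⟩
    refine ⟨Subtype.ext ?_, Subtype.ext ?_⟩
    · rw [he₁]
      simp only [Pi.zero_apply, ZeroMemClass.coe_zero, zero_mul, Finset.sum_const_zero]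
      exact Matrix.det_zero
    · rw [he₂]
      simp
  have h1 : 1 < Fintype.card
      { x : κ → K // MvPolynomial.eval x q₁ = 0 ∧ MvPolynomial.eval x q₂ = 0 } := by
    have hpos : 0 < Fintype.card
        { x : κ → K // MvPolynomial.eval x q₁ = 0 ∧ MvPolynomial.eval x q₂ = 0 } :=
      Fintype.card_pos_iff.2 ⟨⟨0, h0⟩⟩
    have := Nat.le_of_dvd hpos hdvd
    have := hpp.two_le
    omega
  obtain ⟨⟨x, hx₁, hx₂⟩, hx⟩ := Fintype.exists_ne_of_one_lt_card h1 ⟨0, h0⟩
  refine ⟨fun k => (x k : F), fun e => hx (Subtype.ext (funext fun k => Subtype.ext (congrFun e k))),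
    fun k => (x k).2, ?_, ?_⟩
  · rw [← he₁, hx₁]; rfl
  · rw [← he₂, hx₂]; rfl

end Solve

variable {F : Type*} [Field F] [DecidableEq F] {a b : ℕ} {σ : F ≃+* F}
  {h : (Fin a × Fin b → F) → (Fin a × Fin b → F) → F} {f₁ : (Fin a → F) → (Fin a → F) → F}
  {f₂ : (Fin b → F) → (Fin b → F) → F} {M : Subgroup (GL (Fin a × Fin b) F)}

/-- The pairing of two tensor lines through a group element. -/
def pr (P : UPair σ h f₁ f₂) (g : GL (Fin a × Fin b) F) (v v' : Fin b → F) :
    (Fin a → F) →ₗ[F] (Fin a → F) :=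
  cv P v ∘ₗ Matrix.toLin' (g : Matrix (Fin a × Fin b) (Fin a × Fin b) F) ∘ₗ ptR v'

lemma pr_apply (P : UPair σ h f₁ f₂) (g : GL (Fin a × Fin b) F) (v v' : Fin b → F) (s : Fin a → F) :
    pr P g v v' s = cv P v (g •ᵥ pt s v') := by
  simp [pr, Matrix.toLin'_apply]

variable [Fintype F] (H : Hyp σ h f₁ f₂ M)
include H

lemma pr_adj {g : GL (Fin a × Fin b) F} (hg : g ∈ M) (v v' : Fin b → F) (s t : Fin a → F) :
    f₁ (pr H.pair g v v' s) t = f₁ s (pr H.pair g⁻¹ v' v t) := by
  rw [pr_apply, pr_apply, ← h_pt_right H.pair, form_mulVec_left (mem_iso H hg), h_pt_left H.pair]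

/-- If a conjugate of a tensor transvection is a tensor then so is the conjugating element. -/
lemma inH_of_conj (hS : OnlyScalar H.pair M) {g : GL (Fin a × Fin b) F} (hg : g ∈ M)
    {v' : Fin b → F} (hv'0 : v' ≠ 0) (hv' : f₂ v' v' = 0) {τ : F} (hτ0 : τ ≠ 0)
    (hx : InH (g * kronGL 1 (uTv H.pair.h₂ v' τ) * g⁻¹)) : InH g := by
  obtain ⟨A, B, hAB⟩ := hx
  set T := kronGL (1 : GL (Fin a) F) (uTv H.pair.h₂ v' τ) with hT
  let Z : Submodule F (Fin a × Fin b → F) := LinearMap.range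
    (Matrix.toLin' (g : Matrix (Fin a × Fin b) (Fin a × Fin b) F) ∘ₗ ptR v')
  have hxz : ∀ z, kronGL A B •ᵥ z - z ∈ Z := fun z => by
    refine ⟨τ • cv H.pair v' (g⁻¹ •ᵥ z), ?_⟩
    rw [← hAB, gl_mulVec_mul, gl_mulVec_mul, kron_uTv_act H.pair hv', mulVec_add,
      gl_mulVec_inv_mulVec, add_sub_cancel_left]
    simp [Matrix.toLin'_apply, mulVec_smul, pt_smul_left]
  have hZ : finrank F Z ≤ a := (LinearMap.finrank_range_le _).trans (by rw [finrank_fin_fun])
  have H0 : TensorSL.Hyp (M := specialLinear (Fin a × Fin b) F) := by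
    refine ⟨H.two_le, H.lt, fun k hk => det_eq_one hk, fun A B e => ?_⟩
    simpa [specialLinear, MonoidHom.mem_ker, Units.ext_iff] using e
  obtain ⟨c, hc⟩ := TensorSL.exists_scalar H0 hZ hxz
  have hmem : ∀ x w, pt x (c • (B •ᵥ w) - w) ∈ Z := fun x w => by
    have := hxz (pt x w)
    rw [kronGL_pt, hc, pt_smul_left] at this
    rwa [pt_sub_right, pt_smul_right]
  haveI := nonempty_left H
  obtain ⟨w₀, hw₀⟩ : ∃ w₀, c • (B •ᵥ w₀) - w₀ ≠ 0 := by
    by_contra hcon
    push Not at hcon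
    have h1 : g * T * g⁻¹ = 1 := by
      rw [hAB]
      refine gl_ext_pt fun x w => ?_
      rw [kronGL_pt, hc, pt_smul_left, ← pt_smul_right, sub_eq_zero.1 (hcon w), Units.val_one,
        one_mulVec]
    have h2 : T = 1 := by
      have := congrArg (fun t => g⁻¹ * t * g) h1
      simpa [mul_assoc] using this
    obtain ⟨x₀, hx₀⟩ := exists_ne (0 : Fin a → F)
    obtain ⟨v₂, -, -, hv₂⟩ := exists_partner H.pair.h₂ hv'0 hv'
    have h3 := kron_uTv_act H.pair hv' τ (pt x₀ v₂)
    rw [← hT, h2, Units.val_one, one_mulVec, cv_pt, hv₂, one_smul, left_eq_add] at h3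
    exact pt_ne_zero (smul_ne_zero hτ0 hx₀) hv'0 h3
  set d := c • (B •ᵥ w₀) - w₀
  have hline : ∀ x, ∃ t, g⁻¹ •ᵥ pt x d = pt t v' := fun x => by
    obtain ⟨t, ht⟩ := hmem x w₀
    refine ⟨t, ?_⟩
    rw [← ht]
    simp [Matrix.toLin'_apply]
  have hd : f₂ d d = 0 := by
    obtain ⟨x, hx⟩ := exists_anisotropic H.pair.h₁
    obtain ⟨t, ht⟩ := hline x
    have := mem_isoOf.1 ((isoOf h).inv_mem (mem_iso H hg)) (pt x d) (pt x d)
    rw [ht, H.pair.prod, H.pair.prod, hv', mul_zero] at this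
    exact (mul_eq_zero.1 this.symm).resolve_left hx
  simpa using InH.inv (line_inH H hS (M.inv_mem hg) hv'0 hv' hw₀ hd hline)

/-- An involution-like tensor moving the line gives a point with a larger kernel. -/
lemma inH_eigen {g : GL (Fin a × Fin b) F} (hg : g ∈ M)
    {v v' : Fin b → F} (hv0 : v ≠ 0) (hv : f₂ v v = 0) (hv'0 : v' ≠ 0) (hv' : f₂ v' v' = 0)
    (hEbot : LinearMap.ker (pr H.pair g⁻¹ v' v) = ⊥)
    {x : GL (Fin a × Fin b) F} {A : GL (Fin a) F} {B : GL (Fin b) F} (hAB : x = kronGL A B)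
    (hpar : B •ᵥ v ∉ Submodule.span F ({v} : Set (Fin b → F)))
    (huu : f₂ (B •ᵥ v) (B •ᵥ v) = 0) (huv : f₂ (B •ᵥ v) v = 0)
    (hn2 : ∀ z, x •ᵥ (x •ᵥ z - z) - (x •ᵥ z - z) = 0)
    (Zs : (Fin a → F) → (Fin a × Fin b → F))
    (hshift : ∀ s, pt (A •ᵥ s) (B •ᵥ v) - pt s v = g •ᵥ Zs s)
    (hcvZ : ∀ s, cv H.pair v' (Zs s) = 0)
    (IH : ∀ g' ∈ M, ∀ u u', u ≠ 0 → f₂ u u = 0 → u' ≠ 0 → f₂ u' u' = 0 →
      finrank F (LinearMap.ker (pr H.pair g⁻¹ v' v)) <
        finrank F (LinearMap.ker (pr H.pair g'⁻¹ u' u)) → InH g') : InH g := by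
  classical
  have hP := H.pair
  haveI := nonempty_left H
  set xw := x
  set u := B •ᵥ v with hu
  -- an eigenvector of `A`
  obtain ⟨c', s₁, hs₁0, hs₁⟩ : ∃ (c' : F) (s₁ : Fin a → F), s₁ ≠ 0 ∧ A •ᵥ s₁ = c' • s₁ := by
    have hsq : ∀ s, pt (A •ᵥ (A •ᵥ s)) (B •ᵥ u) - (2 : F) • pt (A •ᵥ s) u + pt s v = 0 := fun s => by
      have := hn2 (pt s v)
      rw [mulVec_sub, hAB, kronGL_pt, ← hu, kronGL_pt] at this
      rw [← this]
      module
    have hnu : v ∉ Submodule.span F ({u} : Set (Fin b → F)) := fun e => by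
      obtain ⟨t, ht⟩ := Submodule.mem_span_singleton.1 e
      exact hpar (Submodule.mem_span_singleton.2 ⟨t⁻¹, by
        rw [← ht, inv_smul_smul₀]
        rintro rfl
        exact hv0 (by rw [← ht, zero_smul])⟩)
    obtain ⟨φ, hφu, hφv⟩ := exists_dot_eq hnu
    obtain ⟨ψ, hψv, hψu⟩ := exists_dot_eq hpar
    have hA2 : ∀ s, (φ ⬝ᵥ (B •ᵥ u)) • (A •ᵥ (A •ᵥ s)) = -s := fun s => by
      have := congrArg (con φ) (hsq s)
      simp only [map_add, map_sub, map_smul, con_pt, hφu, hφv, zero_smul, smul_zero, sub_zero,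
        one_smul, map_zero] at this
      exact eq_neg_of_add_eq_zero_left this
    have hA1 : ∀ s, (2 : F) • (A •ᵥ s) = (ψ ⬝ᵥ (B •ᵥ u)) • (A •ᵥ (A •ᵥ s)) := fun s => by
      have := congrArg (con ψ) (hsq s)
      simp only [map_add, map_sub, map_smul, con_pt, hψu, hψv, zero_smul, add_zero, one_smul,
        map_zero] at this
      exact (sub_eq_zero.1 this).symm
    set ρ := φ ⬝ᵥ (B •ᵥ u)
    obtain ⟨s, hs⟩ := exists_ne (0 : Fin a → F)
    have hρ : ρ ≠ 0 := by
      intro e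
      have := hA2 s
      rw [e, zero_smul, eq_comm, neg_eq_zero] at this
      exact hs this
    have hA2' : A •ᵥ (A •ᵥ s) = (-ρ⁻¹) • s := by
      have := congrArg (ρ⁻¹ • ·) (hA2 s)
      simp only [inv_smul_smul₀ hρ, smul_neg] at this
      rw [this, neg_smul]
    by_cases h2 : (2 : F) = 0
    · haveI := CharTwo.of_one_ne_zero_of_two_eq_zero (one_ne_zero (α := F)) h2
      obtain ⟨d, hd⟩ := FiniteField.isSquare_of_char_two (CharP.ringChar_of_prime_eq_zero Nat.prime_two (by exact_mod_cast h2)) (-ρ⁻¹)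
      by_cases ht : A •ᵥ s - d • s = 0
      · exact ⟨d, s, hs, sub_eq_zero.1 ht⟩
      · refine ⟨d, _, ht, ?_⟩
        rw [mulVec_sub, mulVec_smul, hA2', hd]
        linear_combination (norm := module) h2 • ((d * d) • s - d • (A •ᵥ s))
    · refine ⟨(2 : F)⁻¹ * ((ψ ⬝ᵥ (B •ᵥ u)) * (-ρ⁻¹)), s, hs, ?_⟩
      rw [mul_smul, mul_smul, ← hA2', ← hA1, inv_smul_smul₀ h2]
  set u'' := c' • u - v with hu''
  have hu''0 : u'' ≠ 0 := fun e => by
    rw [hu'', sub_eq_zero] at e
    rcases eq_or_ne c' 0 with rfl | hc'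
    · exact hv0 (by rw [← e, zero_smul])
    · exact hpar (Submodule.mem_span_singleton.2 ⟨c'⁻¹, by rw [← e, inv_smul_smul₀ hc']⟩)
  have hu''iso : f₂ u'' u'' = 0 := by
    simp only [hu'', sub_left hP.h₂, sub_right hP.h₂, hP.h₂.smul_left, smul_right hP.h₂, huu, huv,
      hv, eq_zero_comm hP.h₂ huv, mul_zero, sub_zero]
  refine IH g hg u'' v' hu''0 hu''iso hv'0 hv' ?_
  rw [hEbot, finrank_bot]
  refine Submodule.one_le_finrank_iff.2 fun e => hs₁0 ?_
  rw [← Submodule.mem_bot F, ← e]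
  show pr hP g⁻¹ v' u'' s₁ = 0
  rw [pr_apply, hu'', pt_sub_right, pt_smul_right, ← pt_smul_left, ← hs₁, hshift,
    gl_inv_mulVec_mulVec, hcvZ]


set_option maxHeartbeats 1000000 in
/-- The descent step: a larger kernel is found on a conjugate of a Siegel element. -/
lemma inH_step (hS : OnlyScalar H.pair M) {g : GL (Fin a × Fin b) F} (hg : g ∈ M)
    {v v' : Fin b → F} (hv0 : v ≠ 0) (hv : f₂ v v = 0) (hv'0 : v' ≠ 0) (hv' : f₂ v' v' = 0)
    (hE : LinearMap.ker (pr H.pair g⁻¹ v' v) ≠ ⊤)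
    (hcount : a + 5 < 2 * b + finrank F (LinearMap.ker (pr H.pair g⁻¹ v' v)))
    (hfix : ∀ s ∈ LinearMap.ker (pr H.pair g⁻¹ v' v), g⁻¹ •ᵥ pt s v = pt s v')
    (IH : ∀ g' ∈ M, ∀ u u', u ≠ 0 → f₂ u u = 0 → u' ≠ 0 → f₂ u' u' = 0 →
      finrank F (LinearMap.ker (pr H.pair g⁻¹ v' v)) <
        finrank F (LinearMap.ker (pr H.pair g'⁻¹ u' u)) → InH g') : InH g := by
  classical
  have hP := H.pair
  haveI := nonempty_left H
  have hgi := mem_iso H hg
  set E := LinearMap.ker (pr hP g⁻¹ v' v) with hEdef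
  obtain ⟨v₂, hv₂, hv'v₂, hv₂v'⟩ := exists_partner hP.h₂ hv'0 hv'
  obtain ⟨τ, hτ0, hτ⟩ := exists_trace_zero hP.h₂.ne_refl hP.h₂.involutive
  obtain ⟨ω, hω⟩ : ∃ ω, σ ω ≠ ω := by
    by_contra h
    push Not at h
    exact hP.h₂.ne_refl (RingEquiv.ext h)
  -- the real family of skew maps
  let Ps := pr hP g⁻¹ v' v
  let Pp : (Fin b → F) → F → ((Fin a → F) →ₗ[F] (Fin a → F)) := fun w γ =>
    pr hP g v w ∘ₗ Ps + pr hP g v v' ∘ₗ (γ • Ps - pr hP g⁻¹ w v)
  have hPp : ∀ w γ s, Pp w γ s =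
      pr hP g v w (Ps s) + pr hP g v v' (γ • Ps s - pr hP g⁻¹ w v s) := fun w γ s => rfl
  have hskew : ∀ w γ, σ γ = -γ → ∀ s t, f₁ (Pp w γ s) t + f₁ s (Pp w γ t) = 0 := by
    intro w γ hγ s t
    rw [hPp, hPp, hP.h₁.add_left, add_right hP.h₁, pr_adj H hg, pr_adj H hg,
      hP.h₁.herm s (pr hP g v w (Ps t)), hP.h₁.herm s (pr hP g v v' _), pr_adj H hg, pr_adj H hg,
      ← hP.h₁.herm, ← hP.h₁.herm]
    show f₁ (Ps s) (pr hP g⁻¹ w v t) + f₁ (γ • Ps s - pr hP g⁻¹ w v s) (Ps t) +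
      (f₁ (pr hP g⁻¹ w v s) (Ps t) + f₁ (Ps s) (γ • Ps t - pr hP g⁻¹ w v t)) = 0
    rw [sub_left hP.h₁, hP.h₁.smul_left, sub_right hP.h₁, smul_right hP.h₁, hγ]
    ring
  have hkill : ∀ w γ, f₂ v' w = 0 → ∀ s ∈ E, Pp w γ s = 0 := by
    intro w γ hw s hs
    have h1 : Ps s = 0 := hs
    rw [hPp, h1, map_zero, smul_zero, zero_sub, pr_apply hP g⁻¹, hfix s hs, cv_pt, hw, zero_smul,
      neg_zero, map_zero, add_zero]
  -- coordinates
  obtain ⟨C, hC⟩ := Submodule.exists_isCompl E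
  have hsum := Submodule.finrank_add_eq_of_isCompl hC
  rw [finrank_fin_fun] at hsum
  have hEa : finrank F E < a := by
    have := Submodule.finrank_lt hE
    rwa [finrank_fin_fun] at this
  set r := finrank F C with hr
  let rb := Module.finBasis F C
  let W₀ : Submodule F (Fin b → F) := LinearMap.ker (formL hP.h₂ v') ⊓ LinearMap.ker (formL hP.h₂ v₂)
  have hW₀dim : b ≤ finrank F W₀ + 2 := by
    have h1 := LinearMap.finrank_range_add_finrank_ker
      (LinearMap.prod (formL hP.h₂ v') (formL hP.h₂ v₂))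
    have h2 : finrank F (LinearMap.range (LinearMap.prod (formL hP.h₂ v') (formL hP.h₂ v₂))) ≤ 2 :=
      (Submodule.finrank_le _).trans (by rw [finrank_prod, finrank_self])
    rw [LinearMap.ker_prod, finrank_fin_fun] at h1
    change _ + finrank F W₀ = b at h1
    omega
  let eb := Module.finBasis F W₀
  let wv : Fin (finrank F W₀) × Bool ⊕ Unit → (Fin b → F) := Sum.elim
    (fun p => (if p.2 then ω else 1) • (eb p.1 : Fin b → F)) (fun _ => 0)
  let γv : Fin (finrank F W₀) × Bool ⊕ Unit → F := Sum.elim (fun _ => 0) (fun _ => τ)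
  have hγv : ∀ k, σ (γv k) = -γv k := by
    rintro (k | k)
    · simp [γv]
    · simpa [γv] using hτ
  let L : Fin (finrank F W₀) × Bool ⊕ Unit → Matrix (Fin r) (Fin r) F := fun k =>
    Matrix.of fun i j => τ * f₁ (Pp (wv k) (γv k) (rb i)) (rb j)
  let S : Fin (finrank F W₀) × Bool ⊕ Unit → Fin (finrank F W₀) × Bool ⊕ Unit → F :=
    fun k l => f₂ (wv k) (wv l)
  have hL : ∀ k i j, σ (L k i j) = L k j i := fun k i j => by
    simp only [L, Matrix.of_apply, map_mul, hτ, ← hP.h₁.herm]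
    linear_combination (-τ) * hskew _ _ (hγv k) (rb j : Fin a → F) (rb i : Fin a → F)
  obtain ⟨x, hx0, hxσ, hdet, hquad⟩ := exists_real_zero hP.h₂.ne_refl (r := r) (by omega)
    L hL S (fun k l => (hP.h₂.herm _ _).symm) (Or.inl (by
      have hcount' : a + 5 < 2 * b + finrank F E := hcount
      simp only [Fintype.card_sum, Fintype.card_prod, Fintype.card_fin, Fintype.card_bool,
        Fintype.card_unit]
      omega))
  set w := ∑ k, x k • wv k with hwdef
  set γ := ∑ k, x k * γv k with hγdef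
  have hwv : ∀ k, f₂ (wv k) v' = 0 ∧ f₂ (wv k) v₂ = 0 := by
    rintro (k | k)
    · obtain ⟨h1, h2⟩ := (eb k.1).2
      change f₂ _ v' = 0 at h1
      change f₂ _ v₂ = 0 at h2
      simp only [wv, Sum.elim_inl, hP.h₂.smul_left, h1, h2, mul_zero, and_self]
    · simp [wv, zero_left hP.h₂]
  have hwv' : f₂ v' w = 0 := eq_zero_comm hP.h₂ (by
    rw [← formL_apply hP.h₂, hwdef, map_sum]
    exact Finset.sum_eq_zero fun k _ => by rw [map_smul, formL_apply, (hwv k).1, smul_zero])
  have hwv₂ : f₂ w v₂ = 0 := by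
    rw [← formL_apply hP.h₂, hwdef, map_sum]
    exact Finset.sum_eq_zero fun k _ => by rw [map_smul, formL_apply, (hwv k).2, smul_zero]
  have hγ : σ γ = -γ := by
    rw [hγdef, map_sum, ← Finset.sum_neg_distrib]
    exact Finset.sum_congr rfl fun k _ => by rw [map_mul, hxσ, hγv, mul_neg]
  have hww : f₂ w w = 0 := by
    rw [← hquad, hwdef, ← formL_apply hP.h₂, map_sum]
    refine Finset.sum_congr rfl fun k _ => ?_
    rw [map_smul, formL_apply, smul_eq_mul, hP.h₂.herm, ← formL_apply hP.h₂, map_sum, map_sum,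
      Finset.mul_sum]
    refine Finset.sum_congr rfl fun l _ => ?_
    rw [map_smul, formL_apply, smul_eq_mul, map_mul, hxσ, ← hP.h₂.herm]
    exact (mul_assoc _ _ _).symm
  have hPplin : ∀ s, Pp w γ s = ∑ k, x k • Pp (wv k) (γv k) s := by
    intro s
    have e1 : ∀ u, pr hP g v w u = ∑ k, x k • pr hP g v (wv k) u := fun u => by
      simp only [pr_apply, hwdef, ← ptLeft_apply, map_sum, map_smul, mulVec_sum, mulVec_smul]
    have e2 : pr hP g⁻¹ w v s = ∑ k, x k • pr hP g⁻¹ (wv k) v s := by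
      refine eq_of_form hP.h₁ fun u => ?_
      rw [← formL_apply hP.h₁ u (∑ k, x k • pr hP g⁻¹ (wv k) v s), map_sum]
      simp only [map_smul, formL_apply, smul_eq_mul, pr_apply, ← h_pt_right hP, hwdef,
        ← ptLeft_apply, map_sum, map_smul]
      rw [hP.hh.herm, ← formL_apply hP.hh, map_sum, map_sum]
      refine Finset.sum_congr rfl fun k _ => ?_
      rw [map_smul, formL_apply, smul_eq_mul, map_mul, hxσ, ← hP.hh.herm]
    rw [hPp, e1, e2, hγdef, Finset.sum_smul, ← Finset.sum_sub_distrib, map_sum,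
      ← Finset.sum_add_distrib]
    refine Finset.sum_congr rfl fun k _ => ?_
    rw [hPp, smul_add, ← map_smul (pr hP g v v'), smul_sub, smul_smul]
  obtain ⟨c, hc0, hc⟩ := Matrix.exists_vecMul_eq_zero_iff.2 hdet
  set s₀ : Fin a → F := ((∑ i, c i • rb i : C) : Fin a → F) with hs₀
  have hs₀0 : s₀ ≠ 0 := fun e => hc0 (funext fun i => by
    have e1 : (∑ i, c i • rb i : C) = 0 := Subtype.ext e
    exact Fintype.linearIndependent_iff.1 rb.linearIndependent c e1 i)
  have hs₀E : s₀ ∉ E := fun e =>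
    hs₀0 (Submodule.disjoint_def.1 hC.disjoint _ e (∑ i, c i • rb i : C).2)
  have hPs₀ : Pp w γ s₀ = 0 := by
    refine eq_of_form hP.h₁ fun y => ?_
    rw [zero_left hP.h₁]
    obtain ⟨ye, hye, yc, hyc, rfl⟩ := Submodule.mem_sup.1
      (hC.sup_eq_top.symm ▸ Submodule.mem_top : y ∈ E ⊔ C)
    have h1 : f₁ (Pp w γ s₀) ye = 0 := by
      have := hskew w γ hγ s₀ ye
      rwa [hkill w γ hwv' ye hye, zero_right hP.h₁, add_zero] at this
    have h2 : ∀ j, f₁ (Pp w γ s₀) (rb j) = 0 := fun j => by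
      apply mul_left_cancel₀ hτ0
      rw [mul_zero]
      refine Eq.trans ?_ (congrFun hc j)
      rw [Matrix.vecMul, dotProduct, hs₀]
      push_cast
      simp only [map_sum, map_smul, hPplin]
      rw [← formL_apply hP.h₁, map_sum, Finset.mul_sum]
      simp only [map_smul, map_sum, formL_apply, smul_eq_mul, Matrix.of_apply, Finset.mul_sum]
      rw [Finset.sum_comm]
      refine Finset.sum_congr rfl fun i _ => Finset.sum_congr rfl fun k _ => ?_
      show _ = c i * (x k * (τ * f₁ (Pp (wv k) (γv k) (rb i)) (rb j)))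
      ring
    rw [add_right hP.h₁, h1, zero_add]
    obtain ⟨d, hd⟩ : ∃ d : Fin r → F, (⟨yc, hyc⟩ : C) = ∑ j, d j • rb j :=
      ⟨_, (rb.sum_repr _).symm⟩
    rw [show yc = ((∑ j, d j • rb j : C) : Fin a → F) from congrArg Subtype.val hd, hP.h₁.herm,
      ← formL_apply hP.h₁]
    push_cast
    rw [map_sum, map_sum]
    refine Finset.sum_eq_zero fun j _ => ?_
    rw [map_smul, formL_apply, eq_zero_comm hP.h₁ (h2 j), smul_zero, map_zero]
  -- the conjugate
  have hwc : γ + σ γ = - f₂ w w := by rw [hγ, hww, add_neg_cancel, neg_zero]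
  set n := kronGL (1 : GL (Fin a) F) (eich hP.h₂ v' w γ) with hn
  have hnM : n ∈ M := H.right_mem (eich_mem_isoOf hP.h₂ hv' hwv' hwc) (eich_mem_sl _ _ _ _)
  set xw := g * n * g⁻¹ with hxw
  have hxwM : xw ∈ M := M.mul_mem (M.mul_mem hg hnM) (M.inv_mem hg)
  have hxact : ∀ z, xw •ᵥ z = z + g •ᵥ (pt (cv hP v' (g⁻¹ •ᵥ z)) w +
      pt (γ • cv hP v' (g⁻¹ •ᵥ z) - cv hP w (g⁻¹ •ᵥ z)) v') := fun z => by
    rw [hxw, hn, gl_mulVec_mul, gl_mulVec_mul, kron_eich_act hP hv' hwv', add_assoc, mulVec_add,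
      gl_mulVec_inv_mulVec]
  have hprx : ∀ s, pr hP xw v v s = Pp w γ s := fun s => by
    rw [pr_apply, hxact, map_add, cv_pt, hv, zero_smul, zero_add, mulVec_add, map_add, hPp,
      pr_apply, pr_apply, pr_apply]
    congr 3

  have hbig : finrank F E < finrank F (LinearMap.ker (pr hP xw v v)) := by
    refine Submodule.finrank_lt_finrank_of_lt (lt_of_le_of_ne (fun s hs => ?_) fun e => hs₀E ?_)
    · show pr hP xw v v s = 0
      rw [hprx, hkill w γ hwv' s hs]
    · rw [e]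
      show pr hP xw v v s₀ = 0
      rw [hprx, hPs₀]
  have hxwH : InH xw := by
    have := IH xw⁻¹ (M.inv_mem hxwM) v v hv0 hv hv0 hv (by rwa [inv_inv])
    simpa using InH.inv this
  by_cases hw0 : w = 0
  · -- a conjugate of a transvection
    have hγ0 : γ ≠ 0 := by
      intro hγ0
      refine hx0 (funext fun k => ?_)
      have hxu : x (Sum.inr ()) = 0 := by
        rw [hγdef, Fintype.sum_sum_type] at hγ0
        simpa [γv, hτ0] using hγ0
      rcases k with ⟨i, j⟩ | u
      · have h1 : ∑ i, (x (Sum.inl (i, false)) + x (Sum.inl (i, true)) * ω) • eb i = 0 := by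
          refine Subtype.ext (Eq.trans ?_ hw0)
          rw [hwdef, Fintype.sum_sum_type, Fintype.sum_prod_type, AddSubmonoidClass.coe_finsetSum,
            Finset.sum_eq_zero (f := fun u => x (Sum.inr u) • wv (Sum.inr u))
              (fun u _ => smul_zero (x (Sum.inr u))), add_zero]
          refine Finset.sum_congr rfl fun i _ => ?_
          rw [Fintype.sum_bool, Submodule.coe_smul]
          show _ = x (Sum.inl (i, true)) • (ω • (eb i : Fin b → F)) +
            x (Sum.inl (i, false)) • ((1 : F) • (eb i : Fin b → F))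
          module
        have h2 : x (Sum.inl (i, false)) + x (Sum.inl (i, true)) * ω = 0 :=
          Fintype.linearIndependent_iff.1 eb.linearIndependent _ h1 i
        have h3 := congrArg σ h2
        rw [map_add, map_mul, map_zero, hxσ, hxσ] at h3
        have h4 : x (Sum.inl (i, true)) = 0 :=
          (mul_eq_zero.1 (show x (Sum.inl (i, true)) * (σ ω - ω) = 0 by
            linear_combination h3 - h2)).resolve_right (sub_ne_zero.2 hω)
        rw [h4, zero_mul, add_zero] at h2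
        cases j
        · exact h2
        · exact h4
      · exact hxu
    refine inH_of_conj H hS hg hv'0 hv' hγ0 ?_
    convert hxwH using 1
    rw [hxw, hn, hw0]
    congr 3
    refine gl_ext_mulVec fun y => ?_
    rw [uTv_mulVec hP.h₂ hv', eich_mulVec hP.h₂ hv' (zero_right hP.h₂ _), zero_right hP.h₂]
    module
  obtain ⟨A, B, hAB⟩ := hxwH
  have hAs₀ : A •ᵥ s₀ ≠ 0 := gl_mulVec_ne_zero A hs₀0
  set u := B •ᵥ v with hu
  have huv : f₂ u v = 0 := by
    have h1 := hprx s₀
    rw [hPs₀, pr_apply, hAB, kronGL_pt, cv_pt] at h1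
    exact (smul_eq_zero.1 h1).resolve_right hAs₀
  have hu0 : u ≠ 0 := gl_mulVec_ne_zero B hv0
  have huu : f₂ u u = 0 := by
    obtain ⟨y, hy⟩ := exists_anisotropic hP.h₁
    have := mem_isoOf.1 (mem_iso H hxwM) (pt (A⁻¹ •ᵥ y) v) (pt (A⁻¹ •ᵥ y) v)
    rw [hAB, kronGL_pt, gl_mulVec_inv_mulVec, hP.prod, hP.prod, hv, mul_zero] at this
    exact (mul_eq_zero.1 this).resolve_left hy
  -- the shift of the line
  let Zs : (Fin a → F) → (Fin a × Fin b → F) := fun s => pt (Ps s) w +
    pt (γ • Ps s - pr hP g⁻¹ w v s) v'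
  have hshift : ∀ s, pt (A •ᵥ s) u - pt s v = g •ᵥ Zs s := fun s => by
    rw [hu, ← kronGL_pt, ← hAB, hxact, add_sub_cancel_left]
    simp only [Zs, Ps, pr_apply]
  have hcvZ : ∀ s, cv hP v' (Zs s) = 0 := fun s => by
    rw [map_add, cv_pt, cv_pt, eq_zero_comm hP.h₂ hwv', hv', zero_smul, zero_smul, add_zero]
  by_cases hpar : u ∈ Submodule.span F ({v} : Set (Fin b → F))
  · -- impossible
    exfalso
    obtain ⟨μ, hμ⟩ := Submodule.mem_span_singleton.1 hpar
    obtain ⟨χ, hχv', hχw⟩ : ∃ χ, f₂ v' χ = 0 ∧ f₂ w χ = 1 := by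
      have hnm : w ∉ Submodule.span F ({v'} : Set (Fin b → F)) := fun e => by
        obtain ⟨t, ht⟩ := Submodule.mem_span_singleton.1 e
        rw [← ht, hP.h₂.smul_left, hv'v₂, mul_one] at hwv₂
        exact hw0 (by rw [← ht, hwv₂, zero_smul])
      obtain ⟨φ, hφ1, hφ2⟩ := exists_dot_eq hnm
      let φL : (Fin b → F) →ₗ[F] F :=
        { toFun := fun y => φ ⬝ᵥ y
          map_add' := fun y y' => dotProduct_add _ _ _
          map_smul' := fun c y => dotProduct_smul _ _ _ }
      obtain ⟨χ, hχ⟩ := Unit.exists_form_eq hP.h₂ φL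
      exact ⟨χ, (hχ v').trans hφ1, (hχ w).trans hφ2⟩
    have hz : ∀ s, Ps s = 0 := fun s => by
      have e : g⁻¹ •ᵥ pt (μ • (A •ᵥ s) - s) v = Zs s := by
        rw [← gl_inv_mulVec_mulVec g (Zs s), ← hshift, ← hμ]
        congr 1
        rw [pt_smul_right, ← ptR_apply, map_sub, map_smul]
        rfl
      have hdE : μ • (A •ᵥ s) - s ∈ E := by
        show pr hP g⁻¹ v' v _ = 0
        rw [pr_apply, e, hcvZ]
      have h1 := congrArg (cv hP χ) ((hfix _ hdE).symm.trans e)
      rw [map_add, cv_pt, cv_pt, cv_pt, hχv', hχw] at h1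
      simpa using h1.symm
    exact hE (Submodule.eq_top_iff'.2 fun s => hz s)
  · have hEbot : E = ⊥ := by
      by_contra hne
      obtain ⟨s, hs, hs0⟩ := Submodule.exists_mem_ne_zero_of_ne_bot hne
      have h1 : xw •ᵥ pt s v = pt s v := by
        rw [hxact, hfix s hs, cv_pt, cv_pt, hv', hwv']
        simp [pt_zero_left]
      rw [hAB, kronGL_pt] at h1
      obtain ⟨η, hη⟩ := exists_sum_dot (gl_mulVec_ne_zero A hs0)
      have h2 := congrArg (lcon η) h1
      rw [lcon_pt, lcon_pt, hη, one_smul, ← hu] at h2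
      exact hpar (Submodule.mem_span_singleton.2 ⟨_, h2.symm⟩)
    have hn2 : ∀ z, xw •ᵥ (xw •ᵥ z - z) - (xw •ᵥ z - z) = 0 := fun z => by
      set y := g⁻¹ •ᵥ z
      set Z := pt (cv hP v' y) w + pt (γ • cv hP v' y - cv hP w y) v'
      have e : xw •ᵥ z - z = g •ᵥ Z := by rw [hxact, add_sub_cancel_left]
      rw [e, hxact, gl_inv_mulVec_mulVec, add_sub_cancel_left]
      have e1 : cv hP v' Z = 0 := by
        simp only [Z, map_add, cv_pt, eq_zero_comm hP.h₂ hwv', hv', zero_smul, add_zero]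
      have e2 : cv hP w Z = 0 := by
        simp only [Z, map_add, cv_pt, hww, hwv', zero_smul, add_zero]
      simp [e1, e2, pt_zero_left]
    exact inH_eigen H hg hv0 hv hv'0 hv' hEbot hAB hpar huu huv hn2 Zs hshift hcvZ IH

set_option maxHeartbeats 1000000 in
/-- The descent step on a totally singular plane, for a bijective pairing. -/
lemma inH_small (hS : OnlyScalar H.pair M) (hb : 4 ≤ b) (ha : a < 4) {g : GL (Fin a × Fin b) F}
    (hg : g ∈ M) {v v' : Fin b → F} (hv0 : v ≠ 0) (hv : f₂ v v = 0) (hv'0 : v' ≠ 0)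
    (hv' : f₂ v' v' = 0) (hE : LinearMap.ker (pr H.pair g⁻¹ v' v) = ⊥)
    (IH : ∀ g' ∈ M, ∀ u u', u ≠ 0 → f₂ u u = 0 → u' ≠ 0 → f₂ u' u' = 0 →
      finrank F (LinearMap.ker (pr H.pair g⁻¹ v' v)) <
        finrank F (LinearMap.ker (pr H.pair g'⁻¹ u' u)) → InH g') : InH g := by
  classical
  have hP := H.pair
  haveI := nonempty_left H
  obtain ⟨p, hp, hv'p, hpv'⟩ := exists_partner hP.h₂ hv'0 hv'
  let W₀ : Submodule F (Fin b → F) := LinearMap.ker (formL hP.h₂ v') ⊓ LinearMap.ker (formL hP.h₂ p)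
  obtain ⟨w, ⟨hwv', hwp⟩, hw0, hww⟩ := exists_isotropic_mem hP.h₂ (W := W₀) (by
    have h1 := LinearMap.finrank_range_add_finrank_ker
      (LinearMap.prod (formL hP.h₂ v') (formL hP.h₂ p))
    have h2 : finrank F (LinearMap.range (LinearMap.prod (formL hP.h₂ v') (formL hP.h₂ p))) ≤ 2 :=
      (Submodule.finrank_le _).trans (by rw [finrank_prod, finrank_self])
    rw [LinearMap.ker_prod, finrank_fin_fun] at h1
    change _ + finrank F W₀ = b at h1
    omega)
  replace hwv' : f₂ w v' = 0 := hwv'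
  replace hwp : f₂ w p = 0 := hwp
  have hv'w := eq_zero_comm hP.h₂ hwv'
  obtain ⟨τ, hτ0, hτ⟩ := exists_trace_zero hP.h₂.ne_refl hP.h₂.involutive
  obtain ⟨ω, hω⟩ : ∃ ω, σ ω ≠ ω := by
    by_contra h
    push Not at h
    exact hP.h₂.ne_refl (RingEquiv.ext h)
  let P₁ := pr hP g⁻¹ v' v
  let P₂ := pr hP g⁻¹ w v
  let Pp : F → F → F → ((Fin a → F) →ₗ[F] (Fin a → F)) := fun μ α δ =>
    pr hP g v w ∘ₗ (μ • P₁ + δ • P₂) + pr hP g v v' ∘ₗ (α • P₁ - σ μ • P₂)
  have hPp : ∀ μ α δ s, Pp μ α δ s =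
      pr hP g v w (μ • P₁ s + δ • P₂ s) + pr hP g v v' (α • P₁ s - σ μ • P₂ s) :=
    fun μ α δ s => rfl
  have hskew : ∀ μ α δ, σ α = -α → σ δ = -δ → ∀ s t,
      f₁ (Pp μ α δ s) t + f₁ s (Pp μ α δ t) = 0 := by
    intro μ α δ hα hδ s t
    rw [hPp, hPp, hP.h₁.add_left, add_right hP.h₁, pr_adj H hg, pr_adj H hg,
      hP.h₁.herm s (pr hP g v w _), hP.h₁.herm s (pr hP g v v' _), pr_adj H hg, pr_adj H hg,
      ← hP.h₁.herm, ← hP.h₁.herm]
    show f₁ (μ • P₁ s + δ • P₂ s) (P₂ t) + f₁ (α • P₁ s - σ μ • P₂ s) (P₁ t) +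
      (f₁ (P₂ s) (μ • P₁ t + δ • P₂ t) + f₁ (P₁ s) (α • P₁ t - σ μ • P₂ t)) = 0
    rw [hP.h₁.add_left, sub_left hP.h₁, add_right hP.h₁, sub_right hP.h₁, hP.h₁.smul_left,
      hP.h₁.smul_left, hP.h₁.smul_left, hP.h₁.smul_left, smul_right hP.h₁, smul_right hP.h₁,
      smul_right hP.h₁, smul_right hP.h₁, hα, hδ, hP.h₁.involutive]
    ring
  -- the real family
  let μv : Fin 4 → F := ![0, 0, 1, ω]
  let αv : Fin 4 → F := ![τ, 0, 0, 0]
  let δv : Fin 4 → F := ![0, τ, 0, 0]
  have hαv : ∀ k, σ (αv k) = -αv k := fun k => by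
    fin_cases k <;> simp [αv, hτ]
  have hδv : ∀ k, σ (δv k) = -δv k := fun k => by
    fin_cases k <;> simp [δv, hτ]
  let L : Fin 4 → Matrix (Fin a) (Fin a) F := fun k =>
    Matrix.of fun i j => τ * f₁ (Pp (μv k) (αv k) (δv k) (Pi.single i 1)) (Pi.single j 1)
  have hL : ∀ k i j, σ (L k i j) = L k j i := fun k i j => by
    simp only [L, Matrix.of_apply, map_mul, hτ, ← hP.h₁.herm]
    linear_combination (-τ) * hskew _ _ _ (hαv k) (hδv k) (Pi.single j 1) (Pi.single i 1)
  obtain ⟨x, hx0, hxσ, hdet, -⟩ := exists_real_zero hP.h₂.ne_refl (r := a)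
    (by have := H.two_le; omega) L hL (fun _ _ => 0) (fun _ _ => map_zero σ)
    (Or.inr ⟨by rw [Fintype.card_fin]; exact ha, fun _ _ => rfl⟩)
  set μ := x 2 + x 3 * ω with hμdef
  set α := x 0 * τ with hαdef
  set δ := x 1 * τ with hδdef
  have hα : σ α = -α := by rw [hαdef, map_mul, hxσ, hτ, mul_neg]
  have hδ : σ δ = -δ := by rw [hδdef, map_mul, hxσ, hτ, mul_neg]
  have hPplin : ∀ s, Pp μ α δ s = ∑ k, x k • Pp (μv k) (αv k) (δv k) s := by
    intro s
    simp only [Fin.sum_univ_four, hPp, μv, αv, δv, hμdef, hαdef, hδdef, map_add, map_sub, map_smul,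
      map_mul, hxσ, Matrix.cons_val_zero, Matrix.cons_val_one, Matrix.cons_val, map_zero, map_one]
    module
  obtain ⟨c, hc0, hc⟩ := Matrix.exists_vecMul_eq_zero_iff.2 hdet
  have hPc : Pp μ α δ c = 0 := by
    refine eq_of_form hP.h₁ fun y => ?_
    have h2 : ∀ j, f₁ (Pp μ α δ c) (Pi.single j 1) = 0 := fun j => by
      apply mul_left_cancel₀ hτ0
      rw [mul_zero]
      refine Eq.trans ?_ (congrFun hc j)
      rw [Matrix.vecMul, dotProduct]
      conv_lhs => rw [hPplin, ← formL_apply hP.h₁, map_sum, Finset.mul_sum, pi_eq_sum_univ' c]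
      simp only [map_sum, map_smul, formL_apply, smul_eq_mul, Matrix.of_apply, Finset.mul_sum]
      rw [Finset.sum_comm]
      refine Finset.sum_congr rfl fun i _ => Finset.sum_congr rfl fun k _ => ?_
      show _ = c i * (x k * (τ * f₁ (Pp (μv k) (αv k) (δv k) (Pi.single i 1)) (Pi.single j 1)))
      ring
    rw [zero_left hP.h₁, pi_eq_sum_univ' y, hP.h₁.herm, ← formL_apply hP.h₁, map_sum, map_sum]
    refine Finset.sum_eq_zero fun j _ => ?_
    rw [map_smul, formL_apply, eq_zero_comm hP.h₁ (h2 j), smul_zero, map_zero]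
  -- the element
  have hμw : f₂ v' (μ • w) = 0 := by rw [smul_right hP.h₂, hv'w, mul_zero]
  have hwc : α + σ α = - f₂ (μ • w) (μ • w) := by
    rw [hα, hP.h₂.smul_left, smul_right hP.h₂, hww, mul_zero, mul_zero, add_neg_cancel, neg_zero]
  set n := kronGL (1 : GL (Fin a) F) (eich hP.h₂ v' (μ • w) α) *
    kronGL 1 (uTv hP.h₂ w δ) with hn
  have hnM : n ∈ M := M.mul_mem (H.right_mem (eich_mem_isoOf hP.h₂ hv' hμw hwc) (eich_mem_sl _ _ _ _))
    (H.right_mem (uTv_mem_isoOf hP.h₂ hww hδ) (uTv_mem_sl _ _ _))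
  have hnact : ∀ y, n •ᵥ y = y + (pt (μ • cv hP v' y + δ • cv hP w y) w +
      pt (α • cv hP v' y - σ μ • cv hP w y) v') := fun y => by
    rw [hn, gl_mulVec_mul, kron_uTv_act hP hww, kron_eich_act hP hv' hμw]
    simp only [map_add, cv_pt, hwv', cv_smul_vec, smul_right hP.h₂, mul_zero, hww, pt_smul_right, ← pt_smul_left, pt_add_left,
      zero_smul, smul_zero, add_zero]
    abel
  set xw := g * n * g⁻¹ with hxw
  have hxwM : xw ∈ M := M.mul_mem (M.mul_mem hg hnM) (M.inv_mem hg)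
  have hxact : ∀ z, xw •ᵥ z = z + g •ᵥ (pt (μ • cv hP v' (g⁻¹ •ᵥ z) + δ • cv hP w (g⁻¹ •ᵥ z)) w +
      pt (α • cv hP v' (g⁻¹ •ᵥ z) - σ μ • cv hP w (g⁻¹ •ᵥ z)) v') := fun z => by
    rw [hxw, gl_mulVec_mul, gl_mulVec_mul, hnact, mulVec_add, gl_mulVec_inv_mulVec]
  let Zs : (Fin a → F) → (Fin a × Fin b → F) := fun s => pt (μ • P₁ s + δ • P₂ s) w +
    pt (α • P₁ s - σ μ • P₂ s) v'
  have hxs : ∀ s, xw •ᵥ pt s v = pt s v + g •ᵥ Zs s := fun s => by
    rw [hxact]
    simp only [Zs, P₁, P₂, pr_apply]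
  have hprx : pr hP xw v v c = 0 := by
    rw [← hPc, pr_apply, hxs, map_add, cv_pt, hv, zero_smul, zero_add, hPp, mulVec_add, map_add,
      ← pr_apply, ← pr_apply]
  have hxwH : InH xw := by
    have := IH xw⁻¹ (M.inv_mem hxwM) v v hv0 hv hv0 hv (by
      rw [inv_inv, hE, finrank_bot]
      refine Submodule.one_le_finrank_iff.2 fun e => hc0 ?_
      rw [← Submodule.mem_bot F, ← e]
      exact hprx)
    simpa using InH.inv this
  have hinj : ∀ s, P₁ s = 0 → s = 0 := fun s hs => by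
    rw [← Submodule.mem_bot F, ← hE]
    exact hs
  have hwnm : ∀ t : F, w + t • v' ≠ 0 := fun t e => by
    have h1 : f₂ (w + t • v') p = 0 := by rw [e, zero_left hP.h₂]
    rw [hP.h₂.add_left, hP.h₂.smul_left, hwp, hv'p, zero_add, mul_one] at h1
    rw [h1, zero_smul, add_zero] at e
    exact hw0 e
  by_cases hdeg : α * δ + μ * σ μ = 0
  · -- the element is a conjugate of a transvection
    by_cases hμ : μ = 0
    · rw [hμ, zero_mul, add_zero] at hdeg
      rcases mul_eq_zero.1 hdeg with hα0 | hδ0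
      · have hδ0 : δ ≠ 0 := fun hδ0 => hx0 (funext fun k => by
          have h1 : x 0 = 0 := (mul_eq_zero.1 hα0).resolve_right hτ0
          have h2 : x 1 = 0 := (mul_eq_zero.1 hδ0).resolve_right hτ0
          have h3 := congrArg σ hμ
          rw [hμdef, map_add, map_mul, hxσ, hxσ, map_zero] at h3
          have h4 : x 3 = 0 := (mul_eq_zero.1 (show x 3 * (σ ω - ω) = 0 by
            linear_combination h3 - hμ)).resolve_right (sub_ne_zero.2 hω)
          have h5 : x 2 = 0 := by linear_combination hμ - ω * h4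
          fin_cases k <;> assumption)
        refine inH_of_conj H hS hg hw0 hww hδ0 ?_
        convert hxwH using 1
        rw [hxw]
        congr 2
        refine gl_ext_mulVec fun y => ?_
        rw [hnact, kron_uTv_act hP hww, hμ, hα0]
        simp [pt_zero_left]
      · have hα0 : α ≠ 0 := fun hα0 => hx0 (funext fun k => by
          have h1 : x 0 = 0 := (mul_eq_zero.1 hα0).resolve_right hτ0
          have h2 : x 1 = 0 := (mul_eq_zero.1 hδ0).resolve_right hτ0
          have h3 := congrArg σ hμ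
          rw [hμdef, map_add, map_mul, hxσ, hxσ, map_zero] at h3
          have h4 : x 3 = 0 := (mul_eq_zero.1 (show x 3 * (σ ω - ω) = 0 by
            linear_combination h3 - hμ)).resolve_right (sub_ne_zero.2 hω)
          have h5 : x 2 = 0 := by linear_combination hμ - ω * h4
          fin_cases k <;> assumption)
        refine inH_of_conj H hS hg hv'0 hv' hα0 ?_
        convert hxwH using 1
        rw [hxw]
        congr 2
        refine gl_ext_mulVec fun y => ?_
        rw [hnact, kron_uTv_act hP hv', hμ, hδ0]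
        simp [pt_zero_left]
    · have hσμ : σ μ ≠ 0 := fun e => hμ (σ.injective (e.trans (map_zero σ).symm))
      have hδ0 : δ ≠ 0 := fun e => by
        rw [e, mul_zero, zero_add] at hdeg
        exact mul_ne_zero hμ hσμ hdeg
      set k := α / μ with hk
      have hkμ : k * μ = α := by rw [hk, div_mul_cancel₀ _ hμ]
      have hkδ : k * δ = -σ μ := by
        apply mul_right_cancel₀ hμ
        linear_combination δ * hkμ + hdeg
      have hσk : δ * σ k = μ := by
        have h1 := congrArg σ hkδ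
        rw [map_mul, map_neg, hP.h₂.involutive, hδ] at h1
        linear_combination -h1
      set u := w + k • v' with hu
      have huu : f₂ u u = 0 := by
        simp only [hu, hP.h₂.add_left, add_right hP.h₂, hP.h₂.smul_left, smul_right hP.h₂, hww,
          hwv', hv'w, hv']
        ring
      refine inH_of_conj H hS hg (hwnm k) huu hδ0 ?_
      convert hxwH using 1
      rw [hxw]
      congr 2
      refine gl_ext_mulVec fun y => ?_
      rw [hnact, kron_uTv_act hP huu, hu, cv_add_vec, cv_smul_vec, pt_add_right, pt_smul_right,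
        ← pt_smul_left]
      simp only [smul_add, smul_smul]
      rw [hσk, hkμ, hkδ, neg_smul, add_comm (δ • cv hP w y), neg_add_eq_sub]
  obtain ⟨A, B, hAB⟩ := hxwH
  have hshift : ∀ s, pt (A •ᵥ s) (B •ᵥ v) - pt s v = g •ᵥ Zs s := fun s => by
    rw [← kronGL_pt, ← hAB, hxs, add_sub_cancel_left]
  have hcvZ : ∀ s, cv hP v' (Zs s) = 0 := fun s => by
    simp only [Zs, map_add, cv_pt, hwv', hv', zero_smul, add_zero]
  have hAc : A •ᵥ c ≠ 0 := gl_mulVec_ne_zero A hc0
  have huv : f₂ (B •ᵥ v) v = 0 := by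
    have h1 := hprx
    rw [pr_apply, hAB, kronGL_pt, cv_pt] at h1
    exact (smul_eq_zero.1 h1).resolve_right hAc
  have huu : f₂ (B •ᵥ v) (B •ᵥ v) = 0 := by
    obtain ⟨y, hy⟩ := exists_anisotropic hP.h₁
    have := mem_isoOf.1 (mem_iso H hxwM) (pt (A⁻¹ •ᵥ y) v) (pt (A⁻¹ •ᵥ y) v)
    rw [hAB, kronGL_pt, gl_mulVec_inv_mulVec, hP.prod, hP.prod, hv, mul_zero] at this
    exact (mul_eq_zero.1 this).resolve_left hy
  by_cases hpar : B •ᵥ v ∈ Submodule.span F ({v} : Set (Fin b → F))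
  · exfalso
    obtain ⟨t, ht⟩ := Submodule.mem_span_singleton.1 hpar
    haveI := nonempty_left H
    obtain ⟨s, hs⟩ := exists_ne (0 : Fin a → F)
    have e : g⁻¹ •ᵥ pt (t • (A •ᵥ s) - s) v = Zs s := by
      rw [← gl_inv_mulVec_mulVec g (Zs s), ← hshift, ← ht]
      congr 1
      rw [pt_smul_right, ← ptR_apply, map_sub, map_smul]
      rfl
    have hd : t • (A •ᵥ s) - s = 0 := hinj _ (by
      show pr hP g⁻¹ v' v _ = 0
      rw [pr_apply, e, hcvZ])
    rw [hd, pt_zero_left, mulVec_zero] at e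
    have e2 : α • P₁ s - σ μ • P₂ s = 0 := by
      have h1 := congrArg (cv hP p) e.symm
      simpa [Zs, cv_pt, hwp, hv'p] using h1
    have e1 : μ • P₁ s + δ • P₂ s = 0 := by
      by_contra hne
      simp only [Zs, e2, pt_zero_left, add_zero] at e
      exact pt_ne_zero hne hw0 e.symm
    have h3 : (α * δ + μ * σ μ) • P₁ s = 0 := by
      linear_combination (norm := module) δ • e2 + σ μ • e1
    exact hs (hinj s ((smul_eq_zero.1 h3).resolve_left hdeg))
  have hn2 : ∀ z, xw •ᵥ (xw •ᵥ z - z) - (xw •ᵥ z - z) = 0 := fun z => by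
    set y := g⁻¹ •ᵥ z
    set Z := pt (μ • cv hP v' y + δ • cv hP w y) w + pt (α • cv hP v' y - σ μ • cv hP w y) v'
    have e : xw •ᵥ z - z = g •ᵥ Z := by rw [hxact, add_sub_cancel_left]
    rw [e, hxact, gl_inv_mulVec_mulVec, add_sub_cancel_left]
    have e1 : cv hP v' Z = 0 := by
      simp only [Z, map_add, cv_pt, hwv', hv', zero_smul, add_zero]
    have e2 : cv hP w Z = 0 := by
      simp only [Z, map_add, cv_pt, hww, hv'w, zero_smul, add_zero]
    simp [e1, e2, pt_zero_left]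
  exact inH_eigen H hg hv0 hv hv'0 hv' hE hAB hpar huu huv hn2 Zs hshift hcvZ IH

/-- With only scalar root maps, every member is a tensor. -/
theorem inH_of_mem (hb : 4 ≤ b) (hS : OnlyScalar H.pair M) : ∀ g ∈ M, InH g := by
  have hP := H.pair
  have key : ∀ (n : ℕ), ∀ g ∈ M, ∀ v v', v ≠ 0 → f₂ v v = 0 → v' ≠ 0 → f₂ v' v' = 0 →
      a - finrank F (LinearMap.ker (pr hP g⁻¹ v' v)) = n → InH g := by
    intro n
    induction n using Nat.strong_induction_on with
    | _ n ih =>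
      intro g hg v v' hv0 hv hv'0 hv' hn
      have IH : ∀ g' ∈ M, ∀ u u', u ≠ 0 → f₂ u u = 0 → u' ≠ 0 → f₂ u' u' = 0 →
          finrank F (LinearMap.ker (pr hP g⁻¹ v' v)) <
            finrank F (LinearMap.ker (pr hP g'⁻¹ u' u)) → InH g' := by
        intro g' hg' u u' hu0 hu hu'0 hu' hlt
        refine ih _ ?_ g' hg' u u' hu0 hu hu'0 hu' rfl
        have := Submodule.finrank_le (LinearMap.ker (pr hP g'⁻¹ u' u))
        rw [finrank_fin_fun] at this
        omega
      by_cases hEbot : LinearMap.ker (pr hP g⁻¹ v' v) = ⊥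
      · by_cases hcnt : 2 * b ≤ a + 5
        · exact inH_small H hS hb (by have := H.lt; omega) hg hv0 hv hv'0 hv' hEbot IH
        refine inH_step H hS hg hv0 hv hv'0 hv' (fun e => ?_) (by omega) (fun s hs => ?_) IH
        · rw [hEbot] at e
          have := congrArg (fun S : Submodule F (Fin a → F) => finrank F S) e
          simp only [finrank_bot, finrank_top, finrank_fin_fun] at this
          have := H.two_le
          omega
        · rw [hEbot, Submodule.mem_bot] at hs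
          rw [hs, pt_zero_left, pt_zero_left, mulVec_zero]
      -- pass to a conjugate of a transvection
      obtain ⟨τ, hτ0, hτ⟩ := exists_trace_zero hP.h₂.ne_refl hP.h₂.involutive
      have hτ' : σ (-τ) = -(-τ) := by rw [map_neg, hτ]
      set x := g * kronGL 1 (uTv hP.h₂ v' τ) * g⁻¹ with hxdef
      have hxM : x ∈ M := M.mul_mem (M.mul_mem hg
        (H.right_mem (uTv_mem_isoOf hP.h₂ hv' hτ) (uTv_mem_sl _ _ _))) (M.inv_mem hg)
      refine inH_of_conj H hS hg hv'0 hv' hτ0 ?_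
      have hxfix : ∀ s ∈ LinearMap.ker (pr hP g⁻¹ v' v), x •ᵥ pt s v = pt s v := fun s hs => by
        have h1 : cv hP v' (g⁻¹ •ᵥ pt s v) = 0 := by rw [← pr_apply]; exact hs
        rw [hxdef, gl_mulVec_mul, gl_mulVec_mul, kron_uTv_act hP hv', h1, smul_zero, pt_zero_left,
          add_zero, gl_mulVec_inv_mulVec]
      have hxfix' : ∀ s ∈ LinearMap.ker (pr hP g⁻¹ v' v), x⁻¹ •ᵥ pt s v = pt s v := fun s hs =>
        gl_mulVec_injective x (by
          show x •ᵥ _ = x •ᵥ _
          rw [gl_mulVec_inv_mulVec, hxfix s hs])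
      have hle : LinearMap.ker (pr hP g⁻¹ v' v) ≤ LinearMap.ker (pr hP x⁻¹ v v) := fun s hs => by
        show pr hP x⁻¹ v v s = 0
        rw [pr_apply, hxfix' s hs, cv_pt, hv, zero_smul]
      rcases hle.lt_or_eq with hlt | heq
      · exact IH x hxM v v hv0 hv hv0 hv (Submodule.finrank_lt_finrank_of_lt hlt)
      by_cases htop : LinearMap.ker (pr hP g⁻¹ v' v) = ⊤
      · exact line_inH H hS hxM hv0 hv hv0 hv fun s =>
          ⟨s, hxfix s (htop ▸ Submodule.mem_top)⟩
      refine inH_step H hS hxM hv0 hv hv0 hv (heq ▸ htop) ?_ (fun s hs => ?_) ?_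
      · rw [← heq]
        have h1 := Submodule.one_le_finrank_iff.2 hEbot
        have := H.lt
        omega
      · exact hxfix' s (heq ▸ hs)
      · rw [← heq]
        exact IH
  intro g hg
  obtain ⟨v, -, hv0, hv⟩ := exists_isotropic_mem hP.h₂ (W := ⊤)
    (by rw [finrank_top, finrank_fin_fun]; omega)
  exact key _ g hg v v hv0 hv hv0 hv rfl

end CfsgLib.ClassicalMax.TensorUnit
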