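/-
The standard unitary form in coordinates, norm-one scalars and sums of norm-one scalars.
-/
import Cfsg.Agent.Lib.ClassicalMax.MonBase
import Cfsg.Agent.Lib.ClassicalMax.UnitOrthSubfield
set_option autoImplicit false

namespace CfsgLib.ClassicalMax.UDec

open Matrix Cfsg.Geo MonG Unit

variable {ι : Type} [Fintype ι] [DecidableEq ι] {F : Type*} [Field F] {σ : F ≃+* F}

/-- The standard form `∑ x i * σ (y i)`. -/
def stdF (σ : F ≃+* F) (x y : ι → F) : F := ∑ i, x i * σ (y i)

lemma stdF_single (x : ι → F) (a : ι) (c : F) : stdF σ x (Pi.single a c) = x a * σ c := by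
  rw [stdF, Finset.sum_eq_single a]
  · simp
  · intro b _ hb; simp [hb]
  · simp

lemma single_stdF (x : ι → F) (a : ι) (c : F) : stdF σ (Pi.single a c) x = c * σ (x a) := by
  rw [stdF, Finset.sum_eq_single a]
  · simp
  · intro b _ hb; simp [hb]
  · simp

omit [DecidableEq ι] in
lemma stdF_self (x : ι → F) : stdF σ x x = ∑ i, x i * σ (x i) := rfl

lemma isU (hne : σ ≠ RingEquiv.refl F) (h2 : ∀ a : F, σ (σ a) = a) :
    IsUnitaryForm σ (stdF (ι := ι) σ) where
  ne_refl := hne
  involutive := h2
  add_left x y v := by simp [stdF, add_mul, Finset.sum_add_distrib]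
  smul_left c x v := by simp [stdF, Finset.mul_sum, mul_assoc]
  herm v w := by
    simp only [stdF, map_sum, map_mul, h2]
    exact Finset.sum_congr rfl fun i _ => mul_comm _ _
  nondegenerate v hv := by
    obtain ⟨i, hi⟩ := Function.ne_iff.1 hv
    refine ⟨⟨Pi.single i 1, ?_⟩, ⟨Pi.single i 1, ?_⟩⟩
    · rw [single_stdF, one_mul]
      exact fun e => hi (σ.injective (by simpa using e))
    · rw [stdF_single, map_one, mul_one]; exact hi

/-- The scalars of norm one. -/
def nOne (σ : F ≃+* F) : Subgroup Fˣ where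
  carrier := {x | (x : F) * σ x = 1}
  mul_mem' {a b} ha hb := by
    simp only [Set.mem_setOf_eq, Units.val_mul, map_mul] at *
    linear_combination ((b : F) * σ (b : F)) * ha + hb
  one_mem' := by simp
  inv_mem' {a} ha := by
    simp only [Set.mem_setOf_eq, Units.val_inv_eq_inv_val, map_inv₀] at *
    rw [← mul_inv, ha, inv_one]

lemma mem_nOne {x : Fˣ} : x ∈ nOne σ ↔ (x : F) * σ x = 1 := Iff.rfl

/-- A norm-one scalar as a field element. -/
abbrev val (x : nOne σ) : F := ((x : Fˣ) : F)

lemma val_norm (x : nOne σ) : val x * σ (val x) = 1 := x.2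

lemma val_ne_zero (x : nOne σ) : val x ≠ 0 := (x : Fˣ).ne_zero

lemma val_injective : Function.Injective (val (σ := σ)) := fun x y h =>
  Subtype.ext (Units.ext h)

lemma sigma_val (x : nOne σ) : σ (val x) = (val x)⁻¹ :=
  eq_inv_of_mul_eq_one_right (val_norm x)

lemma exists_phase {p r : F} (h : p * σ p = r * σ r) : ∃ ζ : nOne σ, val ζ * p = r := by
  by_cases hp : p = 0
  · subst hp
    have hr : r = 0 := by simpa using h.symm
    exact ⟨1, by simp [hr]⟩
  have hr : r ≠ 0 := fun e => by
    rw [e, zero_mul] at h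
    rcases mul_eq_zero.1 h with h | h
    · exact hp h
    · exact hp (σ.injective (by rw [h, map_zero]))
  have hsp : σ p ≠ 0 := fun e => hp (σ.injective (by rw [e, map_zero]))
  refine ⟨⟨Units.mk0 (r / p) (div_ne_zero hr hp), ?_⟩, by simp [val, div_mul_cancel₀ _ hp]⟩
  rw [mem_nOne, Units.val_mk0, map_div₀]
  field_simp
  linear_combination -h

variable [Fintype F]

noncomputable instance instFintypeNOne : Fintype (nOne σ) := Fintype.ofFinite _

/-- The order of the fixed field. -/
noncomputable def qq (σ : F ≃+* F) : ℕ := Nat.card (fixedField σ)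

variable (hne : σ ≠ RingEquiv.refl F) (h2 : ∀ a : F, σ (σ a) = a)
include hne h2

lemma card_F : Fintype.card F = qq σ ^ 2 := (exists_card_eq hne h2).1

lemma two_le_qq : 2 ≤ qq σ := two_le_of_card_eq_sq (card_F hne h2)

lemma qq_add_one_le : qq σ + 1 ≤ Nat.card (nOne σ) := by
  classical
  obtain ⟨hcard, hσ⟩ := exists_card_eq hne h2
  have hq := two_le_qq hne h2
  let φ : Fˣ →* Fˣ :=
    { toFun := fun x => x * Units.map σ.toRingHom.toMonoidHom x
      map_one' := by simp
      map_mul' := fun x y => by simp [mul_mul_mul_comm] }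
  have hker : φ.ker = nOne σ := by
    ext x
    rw [MonoidHom.mem_ker, mem_nOne, Units.ext_iff]
    rfl
  have hrange : Nat.card φ.range ≤ qq σ - 1 := by
    have hsub : ∀ y ∈ φ.range, y ^ (qq σ - 1) = 1 := by
      rintro _ ⟨x, rfl⟩
      refine mul_right_cancel (b := φ x) ?_
      rw [← pow_succ, one_mul, Nat.sub_add_cancel (by omega)]
      refine Units.ext ?_
      rw [Units.val_pow_eq_pow_val, qq, ← hσ]
      change σ ((x : F) * σ (x : F)) = (x : F) * σ (x : F)
      rw [map_mul, h2, mul_comm]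
    rw [Nat.card_eq_fintype_card]
    calc Fintype.card φ.range = (Finset.univ.filter fun y : Fˣ => y ∈ φ.range).card :=
          Fintype.card_subtype _
      _ ≤ (Finset.univ.filter fun y : Fˣ => y ^ (qq σ - 1) = 1).card :=
          Finset.card_le_card fun y => by simpa using hsub y
      _ ≤ qq σ - 1 := IsCyclic.card_pow_eq_one_le (by omega)
  have h := φ.ker.card_mul_index
  rw [Subgroup.index_ker, hker, Nat.card_eq_fintype_card (α := Fˣ), Fintype.card_units, card_F hne h2]
    at h
  by_contra hlt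
  have h1 : Nat.card (nOne σ) * Nat.card φ.range ≤ qq σ * (qq σ - 1) :=
    Nat.mul_le_mul (by omega) hrange
  rw [h, Nat.mul_sub, mul_one, pow_two] at h1
  have : qq σ * 2 ≤ qq σ * qq σ := Nat.mul_le_mul_left _ hq
  omega

lemma three_le_card : 3 ≤ Nat.card (nOne σ) := by
  have := qq_add_one_le hne h2
  have := two_le_qq hne h2
  omega

lemma exists_val_ne (a b : F) : ∃ ζ : nOne σ, val ζ ≠ a ∧ val ζ ≠ b := by
  classical
  obtain ⟨x, hx, hx'⟩ := Finset.exists_mem_notMem_of_card_lt_card (s := ({a, b} : Finset F))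
    (t := Finset.univ.image (val (σ := σ)))
    (Finset.card_le_two.trans_lt (by
      rw [Finset.card_image_of_injective _ val_injective, Finset.card_univ,
        ← Nat.card_eq_fintype_card]
      exact three_le_card hne h2))
  obtain ⟨ζ, -, rfl⟩ := Finset.mem_image.1 hx
  exact ⟨ζ, by simpa using hx'⟩

/-- A norm-one scalar that is not fixed. -/
lemma exists_sigma_ne : ∃ ζ : nOne σ, σ (val ζ) ≠ val ζ ∧ val ζ ≠ 1 := by
  obtain ⟨ζ, h1, h3⟩ := exists_val_ne hne h2 1 (-1)
  refine ⟨ζ, fun e => ?_, h1⟩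
  have h := val_norm ζ
  rw [e] at h
  rcases mul_self_eq_one_iff.1 h with h | h
  · exact h1 h
  · exact h3 h

omit hne in
lemma trace_fibre [DecidableEq F] {K t : F} (hK : K ≠ 0) :
    (Finset.univ.filter fun ζ : nOne σ => K * val ζ + σ (K * val ζ) = t).card ≤ 2 := by
  classical
  by_cases he : ∃ ζ : nOne σ, K * val ζ + σ (K * val ζ) = t
  · obtain ⟨ζ, hζ⟩ := he
    refine le_trans ?_ (Finset.card_le_two (a := val ζ) (b := σ (K * val ζ) / K))
    rw [← Finset.card_image_of_injective _ (val_injective (σ := σ))]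
    refine Finset.card_le_card fun x hx => ?_
    obtain ⟨η, hη, rfl⟩ := Finset.mem_image.1 hx
    have hη' := (Finset.mem_filter.1 hη).2
    rw [map_mul] at hζ hη'
    have h3 : (K * val η - K * val ζ) * (K * val η - σ K * σ (val ζ)) = 0 := by
      linear_combination (K * val η) * (hη' - hζ) - (K * σ K) * (val_norm η - val_norm ζ)
    rw [Finset.mem_insert, Finset.mem_singleton, eq_div_iff hK, map_mul]
    rcases mul_eq_zero.1 h3 with h | h
    · exact Or.inl (mul_left_cancel₀ hK (sub_eq_zero.1 h))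
    · exact Or.inr (by linear_combination h)
  · push Not at he
    rw [Finset.filter_eq_empty_iff.2 fun x _ => he x]
    simp

omit hne in
lemma image_pair [DecidableEq F] (hq : qq σ + 1 ≤ Nat.card (nOne σ)) {a b : F} (ha : a ≠ 0)
    (hb : b ≠ 0) : qq σ ^ 2 <
      2 * (Finset.univ.image fun p : nOne σ × nOne σ => a * val p.1 + b * val p.2).card := by
  classical
  rw [Nat.card_eq_fintype_card] at hq
  set I := Finset.univ.image fun p : nOne σ × nOne σ => a * val p.1 + b * val p.2 with hI
  set s : nOne σ × nOne σ → F := fun p => a * val p.1 + b * val p.2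
  have hz : (Finset.univ.filter fun p => s p = 0).card ≤ Fintype.card (nOne σ) := by
    refine Finset.card_le_card_of_injOn (fun p => p.1) (fun p _ => Finset.mem_univ _) ?_
    intro p hp p' hp' e
    simp only [Finset.coe_filter, Finset.mem_univ, true_and, Set.mem_setOf_eq, s] at hp hp'
    simp only at e
    refine Prod.ext e (val_injective (mul_left_cancel₀ hb ?_))
    rw [e] at hp
    linear_combination hp - hp'
  have hnz : (Finset.univ.filter fun p => ¬ s p = 0).card ≤ 2 * (I.erase 0).card := by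
    refine Finset.card_le_mul_card_image_of_maps_to (f := s) (fun p hp => ?_) 2 fun c hc => ?_
    · exact Finset.mem_erase.2 ⟨(Finset.mem_filter.1 hp).2, Finset.mem_image_of_mem _ (Finset.mem_univ _)⟩
    have hc0 := (Finset.mem_erase.1 hc).1
    have hK : a * σ c ≠ 0 := mul_ne_zero ha fun e => hc0 (σ.injective (by rw [e, map_zero]))
    refine le_trans ?_ (trace_fibre h2 (t := c * σ c + a * σ a - b * σ b) hK)
    refine Finset.card_le_card_of_injOn (fun p => p.1) (fun p hp => ?_) ?_
    · simp only [Finset.coe_filter, Finset.mem_filter, Finset.mem_univ, true_and, Set.mem_setOf_eq,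
        s] at hp ⊢
      have hcc := hp.2
      have hd : b * val p.2 = c - a * val p.1 := by linear_combination hcc
      have hd' := congrArg σ hd
      simp only [map_sub, map_mul, h2] at hd' ⊢
      linear_combination (b * val p.2) * hd' + (σ c - σ a * σ (val p.1)) * hd
        - (b * σ b) * val_norm p.2 + (a * σ a) * val_norm p.1
    · intro p hp p' hp' e
      simp only [Finset.coe_filter, Finset.mem_filter, Finset.mem_univ, true_and, Set.mem_setOf_eq,
        s] at hp hp'
      simp only at e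
      refine Prod.ext e (val_injective (mul_left_cancel₀ hb ?_))
      rw [e] at hp
      linear_combination hp.2 - hp'.2
  have htot := Finset.card_filter_add_card_filter_not (s := Finset.univ) (fun p => s p = 0)
  rw [Finset.card_univ, Fintype.card_prod] at htot
  set c := Fintype.card (nOne σ)
  have hcq : (qq σ + 1) * c ≤ c * c := Nat.mul_le_mul_right c hq
  have hqq : qq σ * (qq σ + 1) ≤ qq σ * c := Nat.mul_le_mul_left _ hq
  rw [add_mul, one_mul] at hcq
  rw [mul_add, mul_one] at hqq
  rw [pow_two]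
  by_cases h0 : (0 : F) ∈ I
  · have := Finset.card_erase_add_one h0
    omega
  · have he : (Finset.univ.filter fun p => s p = 0) = ∅ := Finset.filter_eq_empty_iff.2 fun p _ e =>
      h0 (Finset.mem_image.2 ⟨p, Finset.mem_univ _, e⟩)
    rw [Finset.erase_eq_of_notMem h0] at hnz
    rw [he, Finset.card_empty] at htot
    omega

/-- Every scalar is a combination of four norm-one scalars with given coefficients. -/
lemma exists_four_sum {a₁ a₂ a₃ a₄ : F} (h₁ : a₁ ≠ 0) (h₂' : a₂ ≠ 0) (h₃ : a₃ ≠ 0) (h₄ : a₄ ≠ 0)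
    (b : F) : ∃ ζ₁ ζ₂ ζ₃ ζ₄ : nOne σ, a₁ * val ζ₁ + a₂ * val ζ₂ + a₃ * val ζ₃ + a₄ * val ζ₄ = b := by
  classical
  have hq := qq_add_one_le hne h2
  have i1 := image_pair h2 hq h₁ h₂'
  have i2 := image_pair h2 hq h₃ h₄
  set I := Finset.univ.image fun p : nOne σ × nOne σ => a₁ * val p.1 + a₂ * val p.2
  set J := Finset.univ.image fun p : nOne σ × nOne σ => a₃ * val p.1 + a₄ * val p.2
  obtain ⟨x, hx⟩ : (I ∩ J.image fun y => b - y).Nonempty := by
    refine Finset.inter_nonempty_of_card_lt_card_add_card (Finset.subset_univ _)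
      (Finset.subset_univ _) ?_
    rw [Finset.card_image_of_injective _ sub_right_injective, Finset.card_univ, card_F hne h2]
    omega
  obtain ⟨hxI, hxJ⟩ := Finset.mem_inter.1 hx
  obtain ⟨p, -, hp⟩ := Finset.mem_image.1 hxI
  obtain ⟨y, hy, rfl⟩ := Finset.mem_image.1 hxJ
  obtain ⟨p', -, rfl⟩ := Finset.mem_image.1 hy
  exact ⟨p.1, p.2, p'.1, p'.2, by linear_combination hp⟩

omit [Fintype F] hne h2

/-- The monomial isometries of determinant one lie in `M`. -/
def HasU (σ : F ≃+* F) (M : Subgroup (GL ι F)) : Prop :=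
  ∀ (π : Equiv.Perm ι) (d : ι → Fˣ), (∀ y, d y ∈ nOne σ) →
    Matrix.det (mon π d : Matrix ι ι F) = 1 → mon π d ∈ M

lemma mon_mem_iso (π : Equiv.Perm ι) {d : ι → Fˣ} (hd : ∀ y, d y ∈ nOne σ) :
    mon π d ∈ isoOf (stdF (ι := ι) σ) := by
  intro x y
  change stdF σ ((mon π d : Matrix ι ι F) *ᵥ x) ((mon π d : Matrix ι ι F) *ᵥ y) = stdF σ x y
  simp only [stdF, mon_mulVec]
  refine (Equiv.sum_comp π.symm fun i => (d i : F) * x i * σ ((d i : F) * y i)).trans ?_
  refine Finset.sum_congr rfl fun i _ => ?_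
  have := mem_nOne.1 (hd i)
  rw [map_mul]
  linear_combination (x i * σ (y i)) * this

lemma sign_mem_nOne (π : Equiv.Perm ι) : ∃ ε : Fˣ, ε ∈ nOne σ ∧
    (ε : F) = (Equiv.Perm.sign π : F) ∧ (ε : F) * ε = 1 := by
  rcases Int.units_eq_one_or (Equiv.Perm.sign π) with h | h
  · exact ⟨1, by simp [mem_nOne], by simp [h], by simp⟩
  · exact ⟨-1, by simp [mem_nOne], by simp [h], by simp⟩

/-- Arbitrary phases and a permutation, compensated at one coordinate. -/
lemma exists_mon {M : Subgroup (GL ι F)} (hM : HasU σ M) (π : Equiv.Perm ι) (a : ι)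
    (d : ι → nOne σ) : ∃ D : ι → Fˣ, mon π D ∈ M ∧ (∀ y, D y ∈ nOne σ) ∧
      ∀ y, y ≠ a → (D y : F) = val (d y) := by
  obtain ⟨ε, hε, hεv, hε2⟩ := sign_mem_nOne (σ := σ) π
  set P : nOne σ := ∏ y ∈ Finset.univ.erase a, d y
  let D : ι → Fˣ := fun y => if y = a then ε * ((P : Fˣ))⁻¹ else (d y : Fˣ)
  have hD : ∀ y, D y ∈ nOne σ := fun y => by
    simp only [D]
    split_ifs
    · exact (nOne σ).mul_mem hε ((nOne σ).inv_mem P.2)
    · exact (d y).2
  refine ⟨D, hM π D hD ?_, hD, fun y hy => by simp [D, hy]⟩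
  rw [det_mon, ← Finset.mul_prod_erase _ _ (Finset.mem_univ a),
    Finset.prod_congr rfl (g := fun y => ((d y : Fˣ) : F)) fun y hy => by
      simp [D, Finset.ne_of_mem_erase hy]]
  have hP : ∏ y ∈ Finset.univ.erase a, ((d y : Fˣ) : F) = ((P : Fˣ) : F) := by
    simp only [P, SubmonoidClass.coe_finset_prod, Units.coe_prod]
  rw [hP, ← hεv]
  simp only [D, if_true, Units.val_mul, Units.val_inv_eq_inv_val]
  field_simp
  linear_combination hε2

end CfsgLib.ClassicalMax.UDec
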