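/-
Counting vanishing sums of eight weighted norm-one scalars with product in a prescribed square class.
-/
import Cfsg.Agent.Lib.ClassicalMax.UDecompBase
import Mathlib.Analysis.Fourier.FiniteAbelian.PontryaginDuality
set_option autoImplicit false

namespace CfsgLib.ClassicalMax.UDec

open Finset ComplexConjugate

variable {F : Type*} [Field F] [Fintype F] {σ : F ≃+* F}

/-- The weighted sum of a character over the norm-one scalars. -/
noncomputable def normSum (χ : nOne σ → ℂ) (ψ : AddChar F ℂ) : ℂ := ∑ ζ, χ ζ * ψ (val ζ)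

lemma mul_four_le (a b c d : ℝ) : a * b * c * d ≤ (a ^ 4 + b ^ 4 + c ^ 4 + d ^ 4) / 4 := by
  nlinarith [sq_nonneg (a * b - c * d), sq_nonneg (a ^ 2 - b ^ 2), sq_nonneg (c ^ 2 - d ^ 2)]

/-- Equal sums of two norm-one scalars are equal termwise or vanish. -/
lemma two_sum_cases {a b c d : nOne σ} (h : val a + val b = val c + val d) :
    (c = a ∧ d = b) ∨ (c = b ∧ d = a) ∨ (val b = -val a ∧ val d = -val c) := by
  by_cases h0 : val a + val b = 0
  · exact Or.inr (Or.inr ⟨eq_neg_of_add_eq_zero_right h0, eq_neg_of_add_eq_zero_right (h ▸ h0)⟩)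
  have h' := congrArg σ h
  rw [map_add, map_add, sigma_val, sigma_val, sigma_val, sigma_val] at h'
  have hp : val a * val b = val c * val d := by
    have ha := val_ne_zero a
    have hb := val_ne_zero b
    have hc := val_ne_zero c
    have hd := val_ne_zero d
    field_simp at h'
    refine mul_left_cancel₀ h0 ?_
    linear_combination -h' + (val a * val b) * h
  rcases mul_eq_zero.1 (show (val c - val a) * (val c - val b) = 0 by
    linear_combination -val c * h + hp) with e | e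
  · obtain rfl : c = a := val_injective (sub_eq_zero.1 e)
    exact Or.inl ⟨rfl, val_injective (by linear_combination -h)⟩
  · obtain rfl : c = b := val_injective (sub_eq_zero.1 e)
    exact Or.inr (Or.inl ⟨rfl, val_injective (by linear_combination -h)⟩)

lemma card_two_sum_le [DecidableEq F] (h2 : (2 : F) ≠ 0) :
    (univ.filter fun x : (nOne σ × nOne σ) × (nOne σ × nOne σ) =>
      val x.1.1 + val x.1.2 - (val x.2.1 + val x.2.2) = 0).card + 3 * Fintype.card (nOne σ)
      ≤ 3 * Fintype.card (nOne σ) ^ 2 := by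
  classical
  let m : nOne σ := ⟨-1, by simp [mem_nOne]⟩
  have hm : val m = -1 := by simp [val, m]
  have hm1 : (1 : nOne σ) ≠ m := fun e => h2 (by
    have h := congrArg val e
    rw [hm] at h
    simp only [val, Subgroup.coe_one, Units.val_one] at h
    linear_combination h)
  have hvm : ∀ a b : nOne σ, val (a * b) = val a * val b := fun a b => by simp [val]
  let TA := (univ : Finset (nOne σ × nOne σ)).image fun p => (p, p)
  let TB := ((univ : Finset (nOne σ)) ×ˢ ({1}ᶜ : Finset (nOne σ))).image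
    fun p => ((p.1, p.1 * p.2), (p.1 * p.2, p.1))
  let TD := ((univ : Finset (nOne σ)) ×ˢ ({1, m}ᶜ : Finset (nOne σ))).image
    fun p => ((p.1, p.1 * m), (p.1 * p.2, p.1 * p.2 * m))
  refine (Nat.add_le_add_right (card_le_card (t := TA ∪ (TB ∪ TD)) fun x hx => ?_) _).trans ?_
  · obtain ⟨⟨a, b⟩, c, d⟩ := x
    simp only [mem_filter, mem_univ, true_and, sub_eq_zero] at hx
    rcases two_sum_cases hx with ⟨rfl, rfl⟩ | ⟨rfl, rfl⟩ | ⟨e1, e2⟩
    · exact mem_union_left _ (mem_image.2 ⟨(c, d), mem_univ _, rfl⟩)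
    · by_cases hab : c = d
      · subst hab; exact mem_union_left _ (mem_image.2 ⟨(c, c), mem_univ _, rfl⟩)
      · refine mem_union_right _ (mem_union_left _ (mem_image.2 ⟨(d, d⁻¹ * c), ?_, by simp⟩))
        simpa [mem_product, inv_mul_eq_one] using Ne.symm hab
    · have hb : b = a * m := val_injective (by rw [hvm, hm, e1]; ring)
      have hd : d = c * m := val_injective (by rw [hvm, hm, e2]; ring)
      subst hb hd
      by_cases h1 : c = a
      · subst h1; exact mem_union_left _ (mem_image.2 ⟨(c, c * m), mem_univ _, rfl⟩)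
      by_cases h3 : c = a * m
      · subst h3
        refine mem_union_right _ (mem_union_left _ (mem_image.2 ⟨(a, m), ?_, ?_⟩))
        · simpa [mem_product] using hm1.symm
        · have hmm : m * m = 1 := val_injective (by rw [hvm, hm]; simp [val])
          rw [mul_assoc, hmm, mul_one]
      · refine mem_union_right _ (mem_union_right _ (mem_image.2 ⟨(a, a⁻¹ * c), ?_, by simp⟩))
        simp only [mem_product, mem_univ, true_and, mem_compl, mem_insert, mem_singleton, not_or,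
          inv_mul_eq_iff_eq_mul, mul_one]
        exact ⟨h1, h3⟩
  · have h0 := (card_union_le TA (TB ∪ TD)).trans (Nat.add_le_add_left (card_union_le TB TD) _)
    have hA : TA.card ≤ Fintype.card (nOne σ) * Fintype.card (nOne σ) :=
      card_image_le.trans (by simp)
    have hB : TB.card ≤ Fintype.card (nOne σ) * (Fintype.card (nOne σ) - 1) :=
      card_image_le.trans (by rw [card_product, card_univ, card_compl, card_singleton])
    have hD : TD.card ≤ Fintype.card (nOne σ) * (Fintype.card (nOne σ) - 2) :=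
      card_image_le.trans (by rw [card_product, card_univ, card_compl, card_pair hm1])
    have h2le : 2 ≤ Fintype.card (nOne σ) := by
      rw [← card_pair hm1]; exact card_le_univ _
    rw [Nat.mul_sub, mul_one] at hB
    rw [Nat.mul_sub] at hD
    have := Nat.mul_le_mul_left (Fintype.card (nOne σ)) h2le
    rw [pow_two]
    omega

lemma sum_norm_four_le [DecidableEq F] (h2 : (2 : F) ≠ 0) {χ : nOne σ → ℂ} (hχ : ∀ ζ, ‖χ ζ‖ = 1) :
    ∑ ψ : AddChar F ℂ, ‖normSum χ ψ‖ ^ 4 ≤
      Fintype.card F * (3 * (Fintype.card (nOne σ) : ℝ) ^ 2 - 3 * Fintype.card (nOne σ)) := by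
  classical
  let u : (nOne σ × nOne σ) × (nOne σ × nOne σ) → ℂ := fun x => χ x.1.1 * χ x.1.2 * conj (χ x.2.1 * χ x.2.2)
  let v : (nOne σ × nOne σ) × (nOne σ × nOne σ) → F := fun x => val x.1.1 + val x.1.2 - (val x.2.1 + val x.2.2)
  have hexp : ∀ ψ : AddChar F ℂ, ((‖normSum χ ψ‖ ^ 4 : ℝ) : ℂ) = ∑ x, u x * ψ (v x) := by
    intro ψ
    have hS2 : normSum χ ψ * normSum χ ψ =
        ∑ p : nOne σ × nOne σ, χ p.1 * χ p.2 * ψ (val p.1 + val p.2) := by
      rw [normSum, Fintype.sum_mul_sum, Fintype.sum_prod_type]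
      refine sum_congr rfl fun a _ => sum_congr rfl fun b _ => ?_
      rw [AddChar.map_add_eq_mul]; ring
    rw [show (4 : ℕ) = 2 * 2 from rfl, pow_mul, sq (‖normSum χ ψ‖ ^ 2), Complex.ofReal_mul,
      Complex.ofReal_pow, ← Complex.mul_conj', mul_mul_mul_comm, ← map_mul, hS2, map_sum,
      Fintype.sum_mul_sum, Fintype.sum_prod_type (f := fun x => u x * ψ (v x))]
    refine sum_congr rfl fun p _ => sum_congr rfl fun r _ => ?_
    simp only [u, v]
    rw [sub_eq_add_neg, AddChar.map_add_eq_mul ψ (val p.1 + val p.2), AddChar.map_neg_eq_conj,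
      map_mul]
    ring
  have h : ((∑ ψ : AddChar F ℂ, ‖normSum χ ψ‖ ^ 4 : ℝ) : ℂ) =
      Fintype.card F * ∑ x ∈ univ.filter (fun x => v x = 0), u x := by
    rw [Complex.ofReal_sum, sum_congr rfl fun ψ _ => hexp ψ, sum_comm, mul_sum, sum_filter]
    refine sum_congr rfl fun x _ => ?_
    rw [← mul_sum, AddChar.sum_apply_eq_ite]
    split_ifs <;> simp [mul_comm]
  have h0 : 0 ≤ ∑ ψ : AddChar F ℂ, ‖normSum χ ψ‖ ^ 4 := sum_nonneg fun _ _ => by positivity
  have h' := congrArg (fun z : ℂ => ‖z‖) h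
  simp only [Complex.norm_real, Real.norm_eq_abs, abs_of_nonneg h0, norm_mul, Complex.norm_natCast]
    at h'
  rw [h']
  refine mul_le_mul_of_nonneg_left ((norm_sum_le _ _).trans ?_) (Nat.cast_nonneg _)
  rw [sum_congr rfl (g := fun _ => (1 : ℝ)) fun x _ => by simp [u, hχ], sum_const, nsmul_one]
  have := card_two_sum_le (σ := σ) h2
  have h5 : (((univ.filter fun x => v x = 0).card + 3 * Fintype.card (nOne σ) : ℕ) : ℝ)
      ≤ ((3 * Fintype.card (nOne σ) ^ 2 : ℕ) : ℝ) := Nat.cast_le.2 this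
  push_cast at h5
  linarith

/-- Sums over nontrivial characters of products of eight norm sums are small. -/
lemma card_mul_norm_sum_prod_le (χ : nOne σ →* ℂ) (hχ : ∀ ζ, ‖χ ζ‖ = 1) {N : Fin 8 → F}
    (hN : ∀ l, N l ≠ 0) [DecidableEq (AddChar F ℂ)] :
    (Fintype.card (nOne σ) : ℝ) *
      ‖∑ ψ ∈ univ.erase (1 : AddChar F ℂ), ∏ l, normSum χ (ψ.mulShift (N l))‖ ≤
      (∑ ψ ∈ univ.erase (1 : AddChar F ℂ), ‖normSum χ ψ‖ ^ 4) ^ 2 := by
  classical
  set E := ∑ ψ ∈ univ.erase (1 : AddChar F ℂ), ‖normSum χ ψ‖ ^ 4 with hE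
  set C : ℝ := (Fintype.card (nOne σ) : ℝ)
  have hC0 : 0 ≤ C := Nat.cast_nonneg _
  have hshift : ∀ (r : F), r ≠ 0 → ∀ φ : AddChar F ℂ, (φ.mulShift r).mulShift r⁻¹ = φ := fun r hr φ => by
    refine DFunLike.ext _ _ fun x => ?_
    rw [AddChar.mulShift_apply, AddChar.mulShift_apply, ← mul_assoc, mul_inv_cancel₀ hr, one_mul]
  have hne : ∀ (r : F), r ≠ 0 → ∀ φ : AddChar F ℂ, φ ≠ 1 → φ.mulShift r ≠ 1 := fun r hr φ hφ e => by
    apply hφ
    rw [← hshift r hr φ, e]
    exact DFunLike.ext _ _ fun x => by simp [AddChar.mulShift_apply]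
  -- the orbit of a character under norm-one scalars
  have horb : ∀ φ : AddChar F ℂ, φ ≠ 1 → C * ‖normSum χ φ‖ ^ 4 ≤ E := by
    intro φ hφ
    have hnorm : ∀ ζ : nOne σ, ‖normSum χ (φ.mulShift (val ζ))‖ = ‖normSum χ φ‖ := fun ζ => by
      have h : χ ζ * normSum χ (φ.mulShift (val ζ)) = normSum χ φ := by
        rw [normSum, normSum, mul_sum, ← Equiv.sum_comp (Equiv.mulLeft ζ) fun x => χ x * φ (val x)]
        refine sum_congr rfl fun x _ => ?_
        simp [AddChar.mulShift_apply, val, mul_assoc]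
      rw [← h, norm_mul, hχ, one_mul]
    have hinj : Function.Injective fun ζ : nOne σ => φ.mulShift (val ζ) := fun ζ η e => by
      by_contra hne'
      apply hφ
      refine DFunLike.ext _ _ fun x => ?_
      have hd : val ζ - val η ≠ 0 := sub_ne_zero.2 fun e' => hne' (val_injective e')
      have hx := congrArg (fun θ : AddChar F ℂ => θ (x / (val ζ - val η))) e
      simp only [AddChar.mulShift_apply] at hx
      rw [show φ x = φ ((val ζ - val η) * (x / (val ζ - val η))) by rw [mul_div_cancel₀ _ hd],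
        sub_mul, AddChar.map_sub_eq_div, hx]
      simp only [AddChar.one_apply]
      exact div_self (fun h0 => by simpa [h0] using φ.norm_apply (val η * (x / (val ζ - val η))))
    calc C * ‖normSum χ φ‖ ^ 4 = ∑ ζ : nOne σ, ‖normSum χ (φ.mulShift (val ζ))‖ ^ 4 := by
          simp only [hnorm, sum_const, card_univ, nsmul_eq_mul]; rfl
      _ = ∑ θ ∈ univ.image (fun ζ : nOne σ => φ.mulShift (val ζ)), ‖normSum χ θ‖ ^ 4 :=
          (sum_image (f := fun θ => ‖normSum χ θ‖ ^ 4) fun a _ b _ h => hinj h).symm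
      _ ≤ E := sum_le_sum_of_subset_of_nonneg (fun θ hθ => by
          obtain ⟨ζ, -, rfl⟩ := mem_image.1 hθ
          exact mem_erase.2 ⟨hne _ (val_ne_zero ζ) φ hφ, mem_univ _⟩) fun _ _ _ => by positivity
  have hperm : ∀ l, ∑ ψ ∈ univ.erase (1 : AddChar F ℂ), ‖normSum χ (ψ.mulShift (N l))‖ ^ 4 = E := by
    intro l
    refine sum_nbij' (fun ψ => ψ.mulShift (N l)) (fun ψ => ψ.mulShift (N l)⁻¹) ?_ ?_ ?_ ?_ fun _ _ => rfl
    · exact fun ψ hψ => mem_erase.2 ⟨hne _ (hN l) ψ (mem_erase.1 hψ).1, mem_univ _⟩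
    · exact fun ψ hψ => mem_erase.2 ⟨hne _ (inv_ne_zero (hN l)) ψ (mem_erase.1 hψ).1, mem_univ _⟩
    · exact fun ψ _ => hshift _ (hN l) ψ
    · exact fun ψ _ => by simpa using hshift _ (inv_ne_zero (hN l)) ψ
  let a : Fin 8 → AddChar F ℂ → ℝ := fun l ψ => ‖normSum χ (ψ.mulShift (N l))‖
  calc C * ‖∑ ψ ∈ univ.erase (1 : AddChar F ℂ), ∏ l, normSum χ (ψ.mulShift (N l))‖
      ≤ C * ∑ ψ ∈ univ.erase (1 : AddChar F ℂ), ∏ l, a l ψ := by
        refine mul_le_mul_of_nonneg_left ((norm_sum_le _ _).trans (le_of_eq ?_)) hC0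
        exact sum_congr rfl fun ψ _ => norm_prod _ _
    _ ≤ ∑ ψ ∈ univ.erase (1 : AddChar F ℂ), E * ((a 4 ψ ^ 4 + a 5 ψ ^ 4 + a 6 ψ ^ 4 + a 7 ψ ^ 4) / 4) := by
        rw [mul_sum]
        refine sum_le_sum fun ψ hψ => ?_
        have ho : ∀ l, C * a l ψ ^ 4 ≤ E := fun l => horb _ (hne _ (hN l) ψ (mem_erase.1 hψ).1)
        rw [Fin.prod_univ_eight, show C * (a 0 ψ * a 1 ψ * a 2 ψ * a 3 ψ * a 4 ψ * a 5 ψ * a 6 ψ * a 7 ψ)
          = (C * (a 0 ψ * a 1 ψ * a 2 ψ * a 3 ψ)) * (a 4 ψ * a 5 ψ * a 6 ψ * a 7 ψ) by ring]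
        have hA : C * (a 0 ψ * a 1 ψ * a 2 ψ * a 3 ψ) ≤ E := by
          have := mul_le_mul_of_nonneg_left (mul_four_le (a 0 ψ) (a 1 ψ) (a 2 ψ) (a 3 ψ)) hC0
          linarith [ho 0, ho 1, ho 2, ho 3]
        exact mul_le_mul hA (mul_four_le _ _ _ _) (by positivity) (sum_nonneg fun _ _ => by positivity)
    _ = E ^ 2 := by
        rw [← mul_sum, ← sum_div, sum_add_distrib, sum_add_distrib, sum_add_distrib, hperm, hperm,
          hperm, hperm]
        ring

lemma seven_power_gt {q : ℕ} (hq : q = 3 ∨ q = 5 ∨ 7 ≤ q) :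
    13 * q ^ 6 + 18 * q ^ 2 < (q + 1) ^ 7 := by
  rcases hq with rfl | rfl | hq
  · norm_num
  · norm_num
  · obtain ⟨i, rfl⟩ : ∃ i, q = 7 + i := ⟨q - 7, by omega⟩
    ring_nf
    have : 0 ≤ i ^ 3 ∧ 0 ≤ i ^ 4 ∧ 0 ≤ i ^ 5 ∧ 0 ≤ i ^ 6 ∧ 0 ≤ i ^ 7 := by simp
    nlinarith [this.1, this.2.1, this.2.2.1, this.2.2.2.1, this.2.2.2.2]

/-- Many vanishing sums have their product in a given square class. -/
theorem card_vanishing_eight [DecidableEq F] (h2 : (2 : F) ≠ 0) {q : ℕ}
    (hF : Fintype.card F = q ^ 2) (hC : Fintype.card (nOne σ) = q + 1)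
    (hq : q = 3 ∨ q = 5 ∨ 7 ≤ q) (hodd : Odd q) {N : Fin 8 → F} (hN : ∀ l, N l ≠ 0) (t : nOne σ)
    [DecidablePred fun d : Fin 8 → nOne σ => (∑ l, val (d l) * N l) = 0 ∧ ∃ s, s * s = (∏ l, d l) * t] :
    9 * Fintype.card (nOne σ) < (univ.filter fun d : Fin 8 → nOne σ =>
      (∑ l, val (d l) * N l) = 0 ∧ ∃ s, s * s = (∏ l, d l) * t).card := by
  classical
  let sqh : nOne σ →* nOne σ := powMonoidHom 2
  let R := sqh.range
  have hR : R.index = 2 := by
    have hker : Nat.card sqh.ker = 2 := by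
      let m : nOne σ := ⟨-1, by simp [mem_nOne]⟩
      have hset : (sqh.ker : Set (nOne σ)) = {1, m} := by
        ext x
        simp only [SetLike.mem_coe, MonoidHom.mem_ker, sqh, powMonoidHom_apply, Set.mem_insert_iff,
          Set.mem_singleton_iff]
        constructor
        · intro hx
          have h := congrArg val hx
          simp only [val, SubmonoidClass.coe_pow, Units.val_pow_eq_pow_val, Subgroup.coe_one,
            Units.val_one, sq_eq_one_iff] at h
          exact h.imp (fun h => val_injective (by simp [val, h])) fun h => val_injective (by simp [val, m, h])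
        · rintro (rfl | rfl)
          · simp
          · exact val_injective (by simp [val, m])
      rw [← SetLike.coe_sort_coe, Nat.card_coe_set_eq, hset, Set.ncard_pair]
      intro e
      apply h2
      have h := congrArg val e
      simp only [val, m, Subgroup.coe_one, Units.val_one, Units.val_neg] at h
      linear_combination h
    have h1 := R.card_mul_index
    have h3 := sqh.ker.card_mul_index
    rw [Subgroup.index_ker, hker] at h3
    have : 0 < Nat.card R := Nat.card_pos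
    rw [← h3, mul_comm 2] at h1
    exact mul_left_cancel₀ this.ne' h1
  let χ : nOne σ →* ℂ :=
    { toFun := fun z => if z ∈ R then 1 else -1
      map_one' := by simp [R.one_mem]
      map_mul' := fun a b => by
        have := Subgroup.mul_mem_iff_of_index_two hR (a := a) (b := b)
        by_cases ha : a ∈ R <;> by_cases hb : b ∈ R <;> simp [ha, hb, this] }
  have hχ : ∀ z, ‖χ z‖ = 1 := fun z => by
    by_cases hz : z ∈ R <;> simp [χ, hz]
  have hχR : ∀ z, χ z = if z ∈ R then 1 else -1 := fun _ => rfl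
  have hmemR : ∀ z, z ∈ R ↔ ∃ s, s * s = z := fun z => by simp [R, sqh, sq]
  have hsum : ∑ z, χ z = 0 := by
    obtain ⟨z₀, hz₀⟩ : ∃ z₀, z₀ ∉ R := by
      by_contra h
      push Not at h
      rw [Subgroup.eq_top_iff' R |>.2 h, Subgroup.index_top] at hR
      omega
    have h : ∑ z, χ (z₀ * z) = ∑ z, χ z := Equiv.sum_comp (Equiv.mulLeft z₀) fun z => χ z
    simp only [map_mul, hχR z₀, if_neg hz₀, neg_one_mul, sum_neg_distrib] at h
    linear_combination (-(1 : ℂ) / 2) * h
  set Sol := univ.filter fun d : Fin 8 → nOne σ =>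
    (∑ l, val (d l) * N l) = 0 ∧ ∃ s, s * s = (∏ l, d l) * t with hSol
  set P : AddChar F ℂ → (nOne σ →* ℂ) → ℂ := fun ψ θ => ∏ l, normSum θ (ψ.mulShift (N l)) with hP
  set one' : nOne σ →* ℂ := 1
  have hprod : ∀ ψ (θ : nOne σ →* ℂ),
      P ψ θ = ∑ d : Fin 8 → nOne σ, θ (∏ l, d l) * ψ (∑ l, val (d l) * N l) := by
    intro ψ θ
    rw [hP]
    simp only [normSum, Fintype.prod_sum]
    refine sum_congr rfl fun d _ => ?_
    rw [prod_mul_distrib, map_prod]
    congr 1
    simp only [AddChar.mulShift_apply, mul_comm (N _)]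
    exact (map_prod (AddChar.toMonoidHom ψ) (fun l => Multiplicative.ofAdd (val (d l) * N l)) univ).symm
  have hcount : ∑ ψ, (P ψ one' + χ t * P ψ χ) = 2 * (Fintype.card F : ℂ) * (Sol.card : ℂ) := by
    simp only [hprod, mul_sum, ← sum_add_distrib]
    rw [sum_comm, card_eq_sum_ones Sol, Nat.cast_sum, mul_sum, hSol, sum_filter]
    refine sum_congr rfl fun d _ => ?_
    rw [sum_add_distrib, ← mul_sum, ← mul_sum, ← mul_sum, AddChar.sum_apply_eq_ite]
    by_cases h0 : (∑ l, val (d l) * N l) = 0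
    · rw [if_pos h0]
      by_cases hs : (∏ l, d l) * t ∈ R
      · have : χ t * χ (∏ l, d l) = 1 := by rw [← map_mul, mul_comm, hχR, if_pos hs]
        rw [if_pos ⟨h0, (hmemR _).1 hs⟩, ← mul_assoc, this]
        simp [one']; ring
      · have : χ t * χ (∏ l, d l) = -1 := by rw [← map_mul, mul_comm, hχR, if_neg hs]
        rw [if_neg fun h => hs ((hmemR _).2 h.2), ← mul_assoc, this]
        simp [one']
    · rw [if_neg h0, if_neg fun h => h0 h.1]
      simp
  set C : ℝ := (Fintype.card (nOne σ) : ℝ) with hCdef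
  have h1' : ∀ (θ : nOne σ →* ℂ) (l : Fin 8),
      normSum θ ((1 : AddChar F ℂ).mulShift (N l)) = ∑ z, θ z := fun θ l => by
    simp [normSum, AddChar.mulShift_apply]
  have hP1 : P 1 one' = ((C ^ 8 : ℝ) : ℂ) := by
    simp only [hP, h1', one', MonoidHom.one_apply, sum_const, card_univ, nsmul_one, prod_const,
      Fintype.card_fin, hCdef, Complex.ofReal_pow, Complex.ofReal_natCast]
  have hP1χ : P 1 χ = 0 := by
    simp only [hP, h1', hsum]
    exact prod_eq_zero (mem_univ (0 : Fin 8)) rfl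
  set S0 := ∑ ψ ∈ univ.erase (1 : AddChar F ℂ), P ψ one'
  set S1 := ∑ ψ ∈ univ.erase (1 : AddChar F ℂ), P ψ χ
  have hmain : ((C ^ 8 : ℝ) : ℂ) - ((2 * (Fintype.card F : ℝ) * (Sol.card : ℝ) : ℝ) : ℂ)
      = -S0 - χ t * S1 := by
    rw [sum_add_distrib, ← mul_sum, ← add_sum_erase _ _ (mem_univ (1 : AddChar F ℂ)),
      ← add_sum_erase _ _ (mem_univ (1 : AddChar F ℂ)), hP1, hP1χ] at hcount
    simp only [Complex.ofReal_mul, Complex.ofReal_ofNat, Complex.ofReal_natCast]
    linear_combination hcount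
  have hle : C ^ 8 - 2 * (Fintype.card F : ℝ) * (Sol.card : ℝ) ≤ ‖S0‖ + ‖S1‖ := by
    refine (le_abs_self _).trans ?_
    rw [← Real.norm_eq_abs, ← Complex.norm_real, Complex.ofReal_sub, hmain]
    refine (norm_sub_le _ _).trans ?_
    rw [norm_neg, norm_mul, hχ, one_mul]
  -- fourth moments
  have hQ : (Fintype.card F : ℝ) = (q : ℝ) ^ 2 := by rw [hF]; push_cast; ring
  have hCq : C = (q : ℝ) + 1 := by rw [hCdef, hC]; push_cast; ring
  have hE : ∀ θ : nOne σ →* ℂ, (∀ z, ‖θ z‖ = 1) →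
      ‖∑ z, θ z‖ ^ 4 + ∑ ψ ∈ univ.erase (1 : AddChar F ℂ), ‖normSum θ ψ‖ ^ 4
        ≤ 3 * (q : ℝ) ^ 3 * C := by
    intro θ hθ
    have h := sum_norm_four_le h2 hθ
    rw [← add_sum_erase _ _ (mem_univ (1 : AddChar F ℂ)), hQ, ← hCdef] at h
    simp only [normSum, AddChar.one_apply, mul_one] at h ⊢
    refine h.trans (le_of_eq ?_)
    rw [hCq]; ring
  have hq0 : (0 : ℝ) ≤ q := Nat.cast_nonneg q
  have hC0 : (0 : ℝ) < C := by rw [hCq]; positivity
  have hE0 : ∑ ψ ∈ univ.erase (1 : AddChar F ℂ), ‖normSum one' ψ‖ ^ 4 ≤ 2 * (q : ℝ) ^ 3 * C := by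
    have h := hE one' fun z => by simp [one']
    simp only [one', MonoidHom.one_apply, sum_const, card_univ, nsmul_one, Complex.norm_natCast,
      ← hCdef] at h ⊢
    have : (q : ℝ) ^ 3 * C ≤ C ^ 4 := by
      rw [pow_succ C 3]
      exact mul_le_mul_of_nonneg_right (pow_le_pow_left₀ hq0 (by linarith) 3) hC0.le
    linarith
  have hE1 : ∑ ψ ∈ univ.erase (1 : AddChar F ℂ), ‖normSum χ ψ‖ ^ 4 ≤ 3 * (q : ℝ) ^ 3 * C := by
    have h := hE χ hχ
    rw [hsum, norm_zero] at h
    linarith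
  have b0 := (card_mul_norm_sum_prod_le one' (fun z => by simp [one']) hN).trans
    (pow_le_pow_left₀ (sum_nonneg fun _ _ => by positivity) hE0 2)
  have b1 := (card_mul_norm_sum_prod_le χ hχ hN).trans
    (pow_le_pow_left₀ (sum_nonneg fun _ _ => by positivity) hE1 2)
  rw [← hCdef] at b0 b1
  by_contra hcon
  push Not at hcon
  have hS : (Sol.card : ℝ) ≤ 9 * C := by rw [hCdef]; exact_mod_cast hcon
  have hgt : (13 * (q : ℝ) ^ 6 + 18 * (q : ℝ) ^ 2) < ((q : ℝ) + 1) ^ 7 := by
    exact_mod_cast seven_power_gt hq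
  rw [← hCq] at hgt
  have hkey : C * (C ^ 8 - 2 * (Fintype.card F : ℝ) * (Sol.card : ℝ)) ≤ 13 * (q : ℝ) ^ 6 * C ^ 2 := by
    refine (mul_le_mul_of_nonneg_left hle hC0.le).trans ?_
    rw [mul_add]
    refine (add_le_add b0 b1).trans (le_of_eq ?_)
    ring
  rw [hQ] at hkey
  have h6 : 2 * (q : ℝ) ^ 2 * (Sol.card : ℝ) * C ≤ 2 * (q : ℝ) ^ 2 * (9 * C) * C :=
    mul_le_mul_of_nonneg_right (mul_le_mul_of_nonneg_left hS (by positivity)) hC0.le
  have h7 := mul_lt_mul_of_pos_right hgt (mul_pos hC0 hC0)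
  nlinarith

end CfsgLib.ClassicalMax.UDec
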