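/-
A non-monomial element of a unitary overgroup of the monomial group yields one fixing a coordinate line.
-/
import Cfsg.Agent.Lib.ClassicalMax.UDecompBase
import Cfsg.Agent.Lib.ClassicalMax.MonLines
import Cfsg.Agent.Lib.ClassicalMax.UDecompCharSum
set_option autoImplicit false
set_option maxHeartbeats 800000

namespace CfsgLib.ClassicalMax.UDec

open Matrix Cfsg.Geo MonG Unit

variable {ι : Type} [Fintype ι] [DecidableEq ι] {F : Type*} [Field F] [Fintype F] {σ : F ≃+* F}
  {M : Subgroup (GL ι F)}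
  (hne : σ ≠ RingEquiv.refl F) (h2 : ∀ a : F, σ (σ a) = a)
  (hM : HasU σ M) (hiso : M ≤ isoOf (stdF (ι := ι) σ)) (hn : 10 ≤ Fintype.card ι) (hno : NoLine M)

include hne h2 hM hiso hn hno

omit hne hM hn hno [Fintype F] in
lemma inv_col {g : GL ι F} (hg : g ∈ M) (z a : ι) : MonG.col g⁻¹ z a = σ (MonG.col g a z) := by
  have h := mem_isoOf.1 (hiso hg) (Pi.single a (1 : F)) (((g⁻¹ : GL ι F) : Matrix ι ι F) *ᵥ Pi.single z 1)
  rw [gl_mulVec_inv_mulVec, col_eq', col_eq'] at h
  rw [stdF_single, single_stdF, map_one, mul_one, one_mul] at h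
  rw [h, h2]

omit hne h2 hM hn hno [Fintype F] in
lemma col_norm {g : GL ι F} (hg : g ∈ M) (a : ι) : stdF σ (MonG.col g a) (MonG.col g a) = 1 := by
  rw [← col_eq', mem_isoOf.1 (hiso hg), single_stdF]
  simp

omit hne h2 hM hn hno [Fintype F] in
lemma col_orth {g : GL ι F} (hg : g ∈ M) {a b : ι} (h : a ≠ b) :
    stdF σ (MonG.col g a) (MonG.col g b) = 0 := by
  rw [← col_eq', ← col_eq', mem_isoOf.1 (hiso hg), single_stdF]
  simp [h]

omit hne h2 hiso [Fintype F] in
lemma two_supp' {g : GL ι F} (hg : g ∈ M) (hgm : ¬ Mon g) (b a : ι) :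
    ∃ y, y ≠ a ∧ MonG.col g b y ≠ 0 := by
  by_contra h
  push Not at h
  obtain ⟨y, hya, hyb, -⟩ := exists_notMem (by omega) a b b
  obtain ⟨D, hD, -, -⟩ := exists_mon hM (Equiv.swap a b) y (fun _ => 1)
  have hk : Mon (mon (Equiv.swap a b) D * g) := by
    refine hno _ (M.mul_mem hD hg) b fun i hi => ?_
    rw [← congrFun (col_eq (mon (Equiv.swap a b) D * g) b) i, gl_mulVec_mul, col_eq', mon_mulVec,
      h _ ?_, mul_zero]
    intro e
    exact hi (by rw [Equiv.symm_apply_eq] at e; simp [e])
  apply hgm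
  have := Mon_mul (Mon_inv (mon_Mon (Equiv.swap a b) D)) hk
  rwa [← mul_assoc, inv_mul_cancel, one_mul] at this

omit hn in
lemma triple {g : GL ι F} (hg : g ∈ M) {a b z z' y : ι} (hzz : z ≠ z') (ha : MonG.col g a z = 0)
    (ha' : MonG.col g a z' = 0) (hbz : MonG.col g b z ≠ 0) (hyz : y ≠ z) (hyz' : y ≠ z')
    (hby : MonG.col g b y ≠ 0) [DecidableEq F] :
    (Finset.univ.filter fun c => MonG.col g c z ≠ 0).card ≤ 3 ∧
      (Pi.single z (1 : F) : ι → F) ∈
        Submodule.span F (MonG.col g '' {c | MonG.col g c z ≠ 0}) ∧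
      (Pi.single z' (1 : F) : ι → F) ∈
        Submodule.span F (MonG.col g '' {c | MonG.col g c z ≠ 0}) := by
  classical
  obtain ⟨t⟩ := Function.Embedding.nonempty_of_card_le (α := Fin 3) (β := nOne σ)
    (by rw [← Nat.card_eq_fintype_card (α := nOne σ)]; simpa using three_le_card hne h2)
  have hmem : ∀ i, mon 1 (dfun z (t i : Fˣ) z' ((t i : Fˣ))⁻¹) ∈ M := fun i => by
    refine hM _ _ (fun x => ?_) (by rw [det_mon, prod_dfun hzz]; simp)
    unfold dfun
    rw [Function.update_apply, Function.update_apply]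
    split_ifs
    · exact (nOne σ).inv_mem (t i).2
    · exact (t i).2
    · exact (nOne σ).one_mem
  have hfix : ∀ i, (mon 1 (dfun z (t i : Fˣ) z' ((t i : Fˣ))⁻¹) : Matrix ι ι F) *ᵥ MonG.col g a
      = (1 : F) • MonG.col g a := fun i => by
    funext x
    rw [dg_mulVec, one_smul]
    by_cases h1 : x = z
    · simp [h1, ha]
    by_cases h3 : x = z'
    · simp [h3, ha']
    simp [dfun, h1, h3]
  choose π c hc he using fun i => perm_cols hno hg (hmem i) (hfix i) b
  have hinj : Function.Injective π := fun i j hij => by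
    have e : c j • ((mon 1 (dfun z (t i : Fˣ) z' ((t i : Fˣ))⁻¹) : Matrix ι ι F) *ᵥ MonG.col g b)
        = c i • ((mon 1 (dfun z (t j : Fˣ) z' ((t j : Fˣ))⁻¹) : Matrix ι ι F) *ᵥ MonG.col g b) := by
      rw [he, he, hij, smul_smul, smul_smul, mul_comm]
    rw [dg_mulVec, dg_mulVec] at e
    have e1 := congrFun e y
    have e2 := congrFun e z
    simp [dfun, hyz, hyz', hzz] at e1 e2
    have hcc : c j = c i := e1.resolve_right hby
    rw [hcc] at e2
    have := (mul_left_cancel₀ (hc i) e2)
    exact t.injective (val_injective (mul_right_cancel₀ hbz this))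
  set A : ι → F := MonG.col g b - Pi.single z (MonG.col g b z) - Pi.single z' (MonG.col g b z')
  set W := Submodule.span F (Set.range ![A, Pi.single z (1 : F), Pi.single z' (1 : F)])
  have hW : ∀ i, MonG.col g (π i) ∈ W := fun i => by
    rw [show MonG.col g (π i) = (c i)⁻¹ • (c i • MonG.col g (π i)) by rw [inv_smul_smul₀ (hc i)], ← he i,
      dg_mulVec]
    refine W.smul_mem _ ?_
    rw [show (fun x => ((dfun z (t i : Fˣ) z' ((t i : Fˣ))⁻¹ x : Fˣ) : F) * MonG.col g b x) =
        A + (val (t i) * MonG.col g b z) • Pi.single z 1 + ((val (t i))⁻¹ * MonG.col g b z') • Pi.single z' 1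
        from ?_]
    · exact W.add_mem (W.add_mem (Submodule.subset_span ⟨0, rfl⟩)
        (W.smul_mem _ (Submodule.subset_span ⟨1, rfl⟩))) (W.smul_mem _ (Submodule.subset_span ⟨2, rfl⟩))
    funext x
    by_cases h1 : x = z
    · subst h1; simp [A, dfun, val, hzz]
    by_cases h3 : x = z'
    · subst h3; simp [A, dfun, val, h1]
    simp [A, dfun, h1, h3]
  have heq : Submodule.span F (Set.range (MonG.col g ∘ π)) = W := by
    refine Submodule.eq_of_le_of_finrank_le (Submodule.span_le.2 (Set.range_subset_iff.2 hW)) ?_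
    rw [finrank_span_eq_card ((linearIndependent_col g).comp π hinj)]
    exact (finrank_range_le_card (R := F) ![A, Pi.single z (1 : F), Pi.single z' (1 : F)]).trans
      (by simp)
  have hnz : ∀ i, MonG.col g (π i) z ≠ 0 := fun i e => by
    have := congrFun (he i) z
    rw [dg_mulVec] at this
    simp [dfun, hzz, e, hbz] at this
  have hmemW : ∀ v ∈ W, v ∈ Submodule.span F (MonG.col g '' {c | MonG.col g c z ≠ 0}) := by
    rw [← heq]
    intro v hv
    refine Submodule.span_mono ?_ hv
    rintro _ ⟨i, rfl⟩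
    exact ⟨π i, hnz i, rfl⟩
  refine ⟨?_, hmemW _ (Submodule.subset_span ⟨1, rfl⟩), hmemW _ (Submodule.subset_span ⟨2, rfl⟩)⟩
  refine le_trans (Finset.card_le_card (t := Finset.univ.image π) fun d hd => ?_)
    (Finset.card_image_le.trans (by simp))
  simp only [Finset.mem_filter, Finset.mem_univ, true_and] at hd
  rw [Finset.mem_image]
  by_contra hcon
  apply hd
  have h3 : (Pi.single z (1 : F) : ι → F) ∈ LinearMap.ker (formL (isU hne h2) (MonG.col g d)) := by
    have h4 : Submodule.span F (Set.range (MonG.col g ∘ π)) ≤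
        LinearMap.ker (formL (isU hne h2) (MonG.col g d)) := by
      refine Submodule.span_le.2 (Set.range_subset_iff.2 fun i => ?_)
      exact col_orth hiso hg fun e => hcon ⟨i, Finset.mem_univ _, e⟩
    exact h4 (heq ▸ Submodule.subset_span ⟨1, rfl⟩)
  rw [LinearMap.mem_ker, formL_apply, single_stdF, one_mul] at h3
  exact σ.injective (by rw [h3, map_zero])

lemma five_zeros {g : GL ι F} (hg : g ∈ M) (hgm : ¬ Mon g) {a : ι} {Z : Finset ι}
    (hZ : 5 ≤ Z.card) (hz : ∀ z ∈ Z, MonG.col g a z = 0) : False := by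
  classical
  obtain ⟨z, hzZ⟩ := Finset.card_pos.1 (by omega : 0 < Z.card)
  obtain ⟨b, hb⟩ := exists_row_ne_zero g z
  obtain ⟨k, hkz, hk⟩ := two_supp' hM hn hno hg hgm b z
  set Z' := (Z.erase z).erase k with hZ'
  have hcard : 3 ≤ Z'.card := by
    have h1 := Finset.card_erase_add_one hzZ
    have h3 := Finset.pred_card_le_card_erase (s := Z.erase z) (a := k)
    rw [hZ']
    omega
  obtain ⟨Z'', hsub, hc3⟩ := Finset.exists_subset_card_eq hcard
  have hmem : ∀ x ∈ Z'', x ∈ Z ∧ x ≠ z ∧ x ≠ k := fun x hx => by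
    have := hsub hx
    simp only [hZ', Finset.mem_erase] at this
    exact ⟨this.2.2, this.2.1, this.1⟩
  set S := Finset.univ.filter fun c => MonG.col g c z ≠ 0
  have htr := fun x (hx : x ∈ Z'') => triple hne h2 hM hiso hno hg (hmem x hx).2.1.symm (hz z hzZ)
    (hz x (hmem x hx).1) hb hkz (hmem x hx).2.2.symm hk
  obtain ⟨x₀, hx₀⟩ := Finset.card_pos.1 (by omega : 0 < Z''.card)
  have hS : S.card ≤ 3 := (htr x₀ hx₀).1
  set W := Submodule.span F (MonG.col g '' {c | MonG.col g c z ≠ 0}) with hW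
  have hWdim : Module.finrank F W ≤ 3 := by
    have : MonG.col g '' {c | MonG.col g c z ≠ 0} = ((S.image (MonG.col g) : Finset (ι → F)) : Set (ι → F)) := by
      simp [S]
    rw [hW, this]
    exact (finrank_span_finset_le_card _).trans (Finset.card_image_le.trans hS)
  let e : ↥(insert z Z'') → ι → F := fun x => Pi.single (x : ι) 1
  have he : LinearIndependent F e := by
    have h0 := ((Pi.basisFun F ι).linearIndependent.comp (fun x : ↥(insert z Z'') => (x : ι))
      Subtype.val_injective)
    have h1 : e = (Pi.basisFun F ι) ∘ fun x : ↥(insert z Z'') => (x : ι) := by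
      funext x; simp [e]
    rwa [h1]
  have h5 := finrank_span_eq_card he
  have hle : Submodule.span F (Set.range e) ≤ W := by
    refine Submodule.span_le.2 (Set.range_subset_iff.2 ?_)
    rintro ⟨x, hx⟩
    rcases Finset.mem_insert.1 hx with rfl | hx
    · exact (htr x₀ hx₀).2.1
    · exact (htr x hx).2.2
  have h6 := Submodule.finrank_mono hle
  rw [h5, Fintype.card_coe, Finset.card_insert_of_notMem fun h => (hmem z h).2.1 rfl] at h6
  omega

lemma col_one_zero {g : GL ι F} (hg : g ∈ M) (hgm : ¬ Mon g) {a z z' : ι} (ha : MonG.col g a z = 0)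
    (ha' : MonG.col g a z' = 0) : z = z' := by
  classical
  by_contra hzz
  obtain ⟨b, hb⟩ := exists_row_ne_zero g z
  by_cases h : ∃ y, y ≠ z ∧ y ≠ z' ∧ MonG.col g b y ≠ 0
  · obtain ⟨y, h1, h3, h4⟩ := h
    have hc := (triple hne h2 hM hiso hno hg hzz ha ha' hb h1 h3 h4).1
    refine five_zeros hne h2 hM hiso hn hno (M.inv_mem hg)
      (fun h => hgm (by simpa using Mon_inv h)) (a := z)
      (Z := (Finset.univ.filter fun c => MonG.col g c z ≠ 0)ᶜ) ?_ fun c hc => ?_
    · rw [Finset.card_compl]; omega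
    · simp only [Finset.mem_compl, Finset.mem_filter, Finset.mem_univ, true_and, not_not] at hc
      rw [inv_col h2 hiso hg, hc, map_zero]
  push Not at h
  refine five_zeros hne h2 hM hiso hn hno hg hgm (a := b) (Z := ({z, z'} : Finset ι)ᶜ) ?_
    fun y hy => ?_
  · rw [Finset.card_compl, Finset.card_pair hzz]; omega
  · simp only [Finset.mem_compl, Finset.mem_insert, Finset.mem_singleton, not_or] at hy
    exact h y hy.1 hy.2

lemma row_one_zero {g : GL ι F} (hg : g ∈ M) (hgm : ¬ Mon g) {b b' z : ι} (hb : MonG.col g b z = 0)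
    (hb' : MonG.col g b' z = 0) : b = b' :=
  col_one_zero hne h2 hM hiso hn hno (M.inv_mem hg) (fun h => hgm (by simpa using Mon_inv h))
    (a := z) (by rw [inv_col h2 hiso hg, hb, map_zero]) (by rw [inv_col h2 hiso hg, hb', map_zero])

omit hne h2 hM hiso hn hno [Fintype F] in
lemma card_moved_le (g : GL ι F) {W : Submodule F (ι → F)} (hW : Module.finrank F W ≤ 2)
    {s : Finset ι} {π : ι → ι} (c : ι → F) (hs : ∀ b ∈ s, π b ≠ b)
    (hmem : ∀ b ∈ s, c b • MonG.col g (π b) - MonG.col g b ∈ W) : s.card ≤ 4 := by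
  classical
  by_contra hcon
  obtain ⟨v₁, hv₁⟩ := Finset.card_pos.1 (by omega : 0 < s.card)
  obtain ⟨v₂, hv₂, hv₂'⟩ := Finset.exists_mem_notMem_of_card_lt_card (s := ({v₁, π v₁} : Finset ι))
    (t := s) (Finset.card_le_two.trans_lt (by omega))
  obtain ⟨v₃, hv₃, hv₃'⟩ := Finset.exists_mem_notMem_of_card_lt_card
    (s := ({v₁, π v₁, v₂, π v₂} : Finset ι)) (t := s) (Finset.card_le_four.trans_lt (by omega))
  simp only [Finset.mem_insert, Finset.mem_singleton, not_or] at hv₂' hv₃'
  let v : Fin 3 → ι := ![v₁, v₂, v₃]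
  have hvs : ∀ i, v i ∈ s := by intro i; fin_cases i <;> assumption
  let d : Fin 3 → ι → F := fun i => c (v i) • MonG.col g (π (v i)) - MonG.col g (v i)
  have hd : LinearIndependent F d := by
    refine Fintype.linearIndependent_iff.2 fun r hr => ?_
    let w : ι → F := ∑ i, r i • (c (v i) • Pi.single (π (v i)) 1 - Pi.single (v i) 1)
    have hw : w = 0 := by
      apply gl_mulVec_injective g
      simp only [mulVec_zero, w, mulVec_sum, mulVec_smul, mulVec_sub, col_eq']
      exact hr
    have ev : ∀ j, ∑ i, r i * (c (v i) * (if v j = π (v i) then 1 else 0) -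
        (if v j = v i then 1 else 0)) = 0 := fun j => by
      have := congrFun hw (v j)
      simpa [w, Finset.sum_apply, Pi.single_apply] using this
    have e3 := ev 2
    have e2 := ev 1
    have e1 := ev 0
    simp [Fin.sum_univ_three, v, hv₃'.1, hv₃'.2.1, hv₃'.2.2.1, hv₃'.2.2.2,
      (hs v₃ hv₃).symm] at e3
    simp [Fin.sum_univ_three, v, e3, hv₂'.1, hv₂'.2, (hs v₂ hv₂).symm] at e2
    simp [Fin.sum_univ_three, v, e3, e2, (hs v₁ hv₁).symm] at e1
    intro i
    fin_cases i <;> assumption
  have h5 := finrank_span_eq_card hd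
  have h6 := Submodule.finrank_mono (show Submodule.span F (Set.range d) ≤ W from
    Submodule.span_le.2 (Set.range_subset_iff.2 fun i => hmem _ (hvs i)))
  rw [h5, Fintype.card_fin] at h6
  omega

lemma zero_false {g : GL ι F} (hg : g ∈ M) (hgm : ¬ Mon g) {a z : ι} (ha : MonG.col g a z = 0) :
    False := by
  classical
  have hcz : ∀ y, y ≠ z → MonG.col g a y ≠ 0 := fun y hy e =>
    hy (col_one_zero hne h2 hM hiso hn hno hg hgm e ha)
  have hrz : ∀ b, b ≠ a → MonG.col g b z ≠ 0 := fun b hb e =>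
    hb (row_one_zero hne h2 hM hiso hn hno hg hgm e ha)
  by_cases hA : ∃ l : nOne σ, l ^ Fintype.card ι ≠ 1
  · obtain ⟨l, hl⟩ := hA
    set η : nOne σ := (l ^ Fintype.card ι)⁻¹ with hη
    let D : ι → Fˣ := Function.update (fun _ => (l : Fˣ)) z ((l : Fˣ) * (η : Fˣ))
    have hDm : mon 1 D ∈ M := by
      refine hM _ _ (fun y => ?_) ?_
      · simp only [D, Function.update_apply]
        split_ifs
        · exact (nOne σ).mul_mem l.2 η.2
        · exact l.2
      · rw [det_mon, map_one, Units.val_one, Int.cast_one, one_mul, ← Units.coe_prod,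
          Finset.prod_update_of_mem (Finset.mem_univ z), Finset.prod_const,
          ← Finset.compl_eq_univ_sdiff, Finset.card_compl, Finset.card_singleton]
        rw [mul_comm (l : Fˣ) (η : Fˣ), mul_assoc, ← pow_succ', Nat.sub_add_cancel (by omega), hη]
        simp
    have hfix : (mon 1 D : Matrix ι ι F) *ᵥ MonG.col g a = val l • MonG.col g a := by
      funext y
      rw [dg_mulVec, Pi.smul_apply, smul_eq_mul]
      by_cases hy : y = z
      · simp [hy, ha]
      · simp [D, hy, val]
    obtain ⟨b, hba, -⟩ := exists_notMem (by omega) a a a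
    obtain ⟨b', c, hc, he⟩ := perm_cols hno hg hDm hfix b
    have hbb : b' ≠ b := by
      rintro rfl
      obtain ⟨y, hy, hy'⟩ := two_supp' hM hn hno hg hgm b' z
      have e1 := congrFun he y
      have e2 := congrFun he z
      rw [dg_mulVec, Pi.smul_apply, smul_eq_mul] at e1 e2
      simp [D, hy] at e1
      simp [D] at e2
      have h1 := (e1.resolve_right hy').symm
      have h3 := e2.resolve_right (hrz b' hba)
      rw [h1] at h3
      have : val η = 1 := mul_left_cancel₀ (val_ne_zero l) (by rw [mul_one]; exact h3)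
      have h' : η = 1 := by simpa [val] using this
      exact hl (inv_eq_one.1 h')
    obtain ⟨b'', h1, h3, h4⟩ := exists_notMem (by omega) a b b'
    refine h1 (row_one_zero hne h2 hM hiso hn hno hg hgm ?_ ha)
    have hdec : c • MonG.col g b' - val l • MonG.col g b
        = Pi.single z (val l * (val η - 1) * MonG.col g b z) := by
      rw [← he, dg_mulVec]
      funext y
      by_cases hy : y = z
      · subst hy; simp [D, val]; ring
      · simp [D, hy, val]
    have h5 := congrArg (fun x => stdF σ (MonG.col g b'') x) hdec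
    simp only [stdF_single] at h5
    rw [sub_right (isU hne h2), smul_right (isU hne h2), smul_right (isU hne h2),
      col_orth hiso hg h4, col_orth hiso hg h3, mul_zero, mul_zero, sub_zero] at h5
    refine (mul_eq_zero.1 h5.symm).resolve_right fun e => ?_
    have e' : val l * (val η - 1) * MonG.col g b z = 0 := σ.injective (by rw [e, map_zero])
    rcases mul_eq_zero.1 e' with e' | e'
    · rcases mul_eq_zero.1 e' with e' | e'
      · exact val_ne_zero l e'
      · have h' : η = 1 := by simpa [val] using sub_eq_zero.1 e'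
        exact hl (inv_eq_one.1 h')
    · exact hrz b hba e'
  push Not at hA
  have hq : qq σ + 1 ≤ Fintype.card ι := by
    refine (qq_add_one_le hne h2).trans ?_
    rw [Nat.card_eq_fintype_card, ← Finset.card_univ,
      ← Finset.card_image_of_injective Finset.univ (f := fun x : nOne σ => (x : Fˣ))
        Subtype.val_injective]
    refine (Finset.card_le_card (t := Finset.univ.filter fun x : Fˣ => x ^ Fintype.card ι = 1)
      fun x hx => ?_).trans (IsCyclic.card_pow_eq_one_le (by omega))
    obtain ⟨y, -, rfl⟩ := Finset.mem_image.1 hx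
    exact Finset.mem_filter.2 ⟨Finset.mem_univ _, by
      rw [← SubmonoidClass.coe_pow, hA y, OneMemClass.coe_one]⟩
  -- two coordinates of equal norm
  obtain ⟨k, hk, l, hl, hkl, hN⟩ := Finset.exists_ne_map_eq_of_card_lt_of_maps_to
    (s := Finset.univ.erase z) (t := (Finset.univ.filter fun x : F => σ x = x).erase 0)
    (f := fun y => MonG.col g a y * σ (MonG.col g a y))
    (by
      rw [Finset.card_erase_of_mem (Finset.mem_univ z), Finset.card_univ,
        Finset.card_erase_of_mem (by simp)]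
      have : (Finset.univ.filter fun x : F => σ x = x).card = qq σ := by
        rw [qq, Nat.card_eq_fintype_card, Fintype.card_subtype]
        rfl
      omega)
    (fun y hy => by
      have hy0 := hcz y (Finset.ne_of_mem_erase hy)
      refine Finset.mem_erase.2 ⟨mul_ne_zero hy0 fun e => hy0 (σ.injective (by rw [e, map_zero])),
        Finset.mem_filter.2 ⟨Finset.mem_univ _, ?_⟩⟩
      rw [map_mul, h2, mul_comm])
  have hkz := Finset.ne_of_mem_erase hk
  have hlz := Finset.ne_of_mem_erase hl
  obtain ⟨p, hp⟩ := exists_phase (σ := σ) hN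
  let D : ι → Fˣ := Function.update (dfun k (p : Fˣ) l ((p : Fˣ))⁻¹) z (-1)
  have hDo : ∀ y, y ≠ k → y ≠ l → y ≠ z → D y = 1 := fun y h1 h3 h4 => by
    simp [D, dfun, h1, h3, h4]
  have hh : mon (Equiv.swap k l) D ∈ M := by
    refine hM _ _ (fun y => ?_) ?_
    · simp only [D, dfun, Function.update_apply, Pi.one_apply]
      split_ifs
      · simp [mem_nOne]
      · exact (nOne σ).inv_mem p.2
      · exact p.2
      · exact (nOne σ).one_mem
    · rw [det_mon, Equiv.Perm.sign_swap hkl,
        ← Finset.prod_subset (Finset.subset_univ ({k, l, z} : Finset ι)) (fun y _ hy => by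
          simp only [Finset.mem_insert, Finset.mem_singleton, not_or] at hy
          simp [hDo y hy.1 hy.2.1 hy.2.2]),
        Finset.prod_insert (by simp [hkl, hkz]), Finset.prod_pair hlz]
      simp [D, dfun, hkl, hkz, hlz]
  set h := mon (Equiv.swap k l) D with hh'
  have happ : ∀ x : ι → F, ∀ y, ((h : Matrix ι ι F) *ᵥ x) y =
      if y = k then (val p)⁻¹ * x l else if y = l then val p * x k else
        if y = z then - x z else x y := fun x y => by
    rw [hh', mon_mulVec, Equiv.symm_swap]
    split_ifs with h1 h3 h4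
    · subst h1; simp [D, dfun, hlz, val]
    · subst h3; simp [D, dfun, hkl, hkz, val]
    · subst h4; simp [D, Equiv.swap_apply_of_ne_of_ne h1 h3]
    · simp [Equiv.swap_apply_of_ne_of_ne h1 h3, hDo y h1 h3 h4]
  have hfix : (h : Matrix ι ι F) *ᵥ MonG.col g a = (1 : F) • MonG.col g a := by
    funext y
    rw [happ, one_smul]
    split_ifs with h1 h3 h4
    · subst h1; rw [← hp, inv_mul_cancel_left₀ (val_ne_zero p)]
    · subst h3; exact hp
    · subst h4; simp [ha]
    · rfl
  choose π c hc he using fun b => perm_cols hno hg hh hfix b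
  have heig : ∀ b, π b = b → c b = 1 := fun b hb => by
    obtain ⟨y, hy1, hy2, hy3, hy⟩ : ∃ y, y ≠ k ∧ y ≠ l ∧ y ≠ z ∧ MonG.col g b y ≠ 0 := by
      obtain ⟨y₁, hy₁⟩ : ∃ y₁, y₁ ∉ ({k, l, z} : Finset ι) := by
        obtain ⟨y, h1, h3, h4⟩ := exists_notMem (by omega) k l z
        exact ⟨y, by simp [h1, h3, h4]⟩
      obtain ⟨y₂, hy₂⟩ : ∃ y₂, y₂ ∉ ({k, l, z, y₁} : Finset ι) := by
        by_contra hcon
        push Not at hcon
        have := Finset.card_le_card (fun x (_ : x ∈ (Finset.univ : Finset ι)) => hcon x)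
        rw [Finset.card_univ] at this
        have := this.trans Finset.card_le_four
        omega
      simp only [Finset.mem_insert, Finset.mem_singleton, not_or] at hy₁ hy₂
      by_cases h0 : MonG.col g b y₁ = 0
      · exact ⟨y₂, hy₂.1, hy₂.2.1, hy₂.2.2.1, fun e =>
          hy₂.2.2.2 (col_one_zero hne h2 hM hiso hn hno hg hgm e h0)⟩
      · exact ⟨y₁, hy₁.1, hy₁.2.1, hy₁.2.2, h0⟩
    have e := congrFun (he b) y
    rw [hb, happ, if_neg hy1, if_neg hy2, if_neg hy3, Pi.smul_apply, smul_eq_mul] at e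
    exact (mul_right_cancel₀ hy (by rw [one_mul]; exact e)).symm
  let w₁ : ι → F := Pi.single l 1 - (val p)⁻¹ • Pi.single k 1
  have hdiff : ∀ x : ι → F, (h : Matrix ι ι F) *ᵥ x - x
      = (val p * x k - x l) • w₁ + (-(2 * x z)) • Pi.single z 1 := fun x => by
    funext y
    rw [Pi.sub_apply, happ]
    have := val_ne_zero p
    split_ifs with h1 h3 h4
    · subst h1; simp [w₁, hkl, hkz]; field_simp; ring
    · subst h3; simp [w₁, h1, hlz]
    · subst h4; simp [w₁, h1, h3]; ring
    · simp [w₁, h1, h3, h4]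
  set W := Submodule.span F (Set.range ![w₁, Pi.single z (1 : F)])
  have hW : Module.finrank F W ≤ 2 :=
    (finrank_range_le_card (R := F) ![w₁, Pi.single z (1 : F)]).trans (by simp)
  have hmov : ∀ b, c b • MonG.col g (π b) - MonG.col g b ∈ W := fun b => by
    rw [← he, hdiff]
    exact W.add_mem (W.smul_mem _ (Submodule.subset_span ⟨0, rfl⟩))
      (W.smul_mem _ (Submodule.subset_span ⟨1, rfl⟩))
  by_cases hchar : (2 : F) = 0
  · -- characteristic two
    obtain ⟨v, hv⟩ : ∃ v, π v ≠ v := by
      by_contra hall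
      push Not at hall
      have e : h * g = g := by
        refine Units.ext (Matrix.ext_of_mulVec_single fun b => ?_)
        rw [Units.val_mul, ← mulVec_mulVec, col_eq', he, hall, heig b (hall b), one_smul]
      have e2 : h = 1 := mul_right_cancel (e.trans (one_mul g).symm)
      have e3 := happ (Pi.single k 1) k
      rw [e2, if_pos rfl, Units.val_one, one_mulVec] at e3
      simp [hkl.symm] at e3
    have hva : v ≠ a := by
      rintro rfl
      refine hv (col_smul_inj g (hc v) (c' := (1 : F)) ?_)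
      rw [← he v]; exact hfix
    set v' := π v
    have hv'a : v' ≠ a := fun e => by
      have h1 : (h : Matrix ι ι F) *ᵥ MonG.col g v = (h : Matrix ι ι F) *ᵥ (c v • MonG.col g a) := by
        rw [mulVec_smul, hfix, one_smul, he v]
        exact congrArg _ (congrArg _ e)
      have h3 := gl_mulVec_injective h h1
      exact hva (col_smul_inj g one_ne_zero (c' := c v) (by rw [one_smul]; exact h3))
    obtain ⟨ζ, hζ1, -⟩ := exists_val_ne hne h2 1 1
    let E : ι → Fˣ := Function.update (dfun v (ζ : Fˣ) v' (ζ : Fˣ)) a (((ζ : Fˣ) * ζ)⁻¹)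
    have hEo : ∀ b, b ≠ v → b ≠ v' → b ≠ a → E b = 1 := fun b h1 h3 h4 => by
      simp [E, dfun, h1, h3, h4]
    have hE : mon 1 E ∈ M := by
      refine hM _ _ (fun y => ?_) ?_
      · simp only [E, dfun, Function.update_apply, Pi.one_apply]
        split_ifs
        · exact (nOne σ).inv_mem ((nOne σ).mul_mem ζ.2 ζ.2)
        · exact ζ.2
        · exact ζ.2
        · exact (nOne σ).one_mem
      · rw [det_mon, ← Finset.prod_subset (Finset.subset_univ ({v, v', a} : Finset ι)) (fun y _ hy => by
            simp only [Finset.mem_insert, Finset.mem_singleton, not_or] at hy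
            simp [hEo y hy.1 hy.2.1 hy.2.2]),
          Finset.prod_insert (by simp [(Ne.symm hv), hva]), Finset.prod_pair hv'a]
        simp [E, dfun, (Ne.symm hv), hva, hv'a]
    set x := g * mon 1 E * g⁻¹ with hx
    have hxM : x ∈ M := M.mul_mem (M.mul_mem hg hE) (M.inv_mem hg)
    have hcn : c v * σ (c v) = 1 := by
      have h1 := mem_isoOf.1 (hiso hh) (MonG.col g v) (MonG.col g v)
      rw [he v, (isU hne h2).smul_left, smul_right (isU hne h2), col_norm hiso hg,
        col_norm hiso hg, mul_one] at h1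
      exact h1
    have hvz : c v * MonG.col g v' z = MonG.col g v z := by
      have e := congrFun (he v) z
      rw [happ, if_neg hkz.symm, if_neg hlz.symm, if_pos rfl, Pi.smul_apply, smul_eq_mul] at e
      linear_combination -e - MonG.col g v z * hchar
    have hcol : MonG.col x z = Pi.single z 1 +
        ((val ζ - 1) * σ (MonG.col g v z)) • (MonG.col g v + (h : Matrix ι ι F) *ᵥ MonG.col g v) := by
      have h1 : (mon 1 E : Matrix ι ι F) *ᵥ (MonG.col g⁻¹ z) = MonG.col g⁻¹ z +
          (((val ζ - 1) * σ (MonG.col g v z)) • Pi.single v 1 +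
            ((val ζ - 1) * σ (MonG.col g v' z)) • Pi.single v' 1) := by
        funext b
        rw [dg_mulVec]
        by_cases hb1 : b = v
        · subst hb1; simp [E, dfun, hva, (Ne.symm hv), inv_col h2 hiso hg, val]; ring
        by_cases hb3 : b = v'
        · subst hb3; simp [E, dfun, hv'a, hv, inv_col h2 hiso hg, val]; ring
        by_cases hb4 : b = a
        · subst hb4; simp [hb1, hb3, inv_col h2 hiso hg, ha]
        simp [hEo b hb1 hb3 hb4, hb1, hb3]
      rw [← col_eq', hx, gl_mulVec_mul, gl_mulVec_mul, col_eq', h1, mulVec_add, ← col_eq',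
        gl_mulVec_inv_mulVec, mulVec_add, mulVec_smul, mulVec_smul, col_eq', col_eq', he v,
        smul_add, smul_smul]
      congr 3
      rw [← hvz, map_mul]
      linear_combination -((val ζ - 1) * σ (MonG.col g v' z)) * hcn
    have hsum0 : ∀ y, y ≠ k → y ≠ l →
        (MonG.col g v + (h : Matrix ι ι F) *ᵥ MonG.col g v) y = 0 := fun y h1 h3 => by
      rw [Pi.add_apply, happ, if_neg h1, if_neg h3]
      split_ifs with h4
      · subst h4; ring
      · linear_combination MonG.col g v y * hchar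
    have hxz : MonG.col x z z = 1 := by
      rw [hcol, Pi.add_apply, Pi.smul_apply, hsum0 z hkz.symm hlz.symm]; simp
    have hxm : ¬ Mon x := by
      intro hxm
      obtain ⟨z', hz'⟩ := hxm z
      obtain ⟨y, hy, hy'⟩ : ∃ y, y ≠ z ∧ MonG.col x z y ≠ 0 := by
        by_contra hcon
        push Not at hcon
        apply hv
        refine col_smul_inj g (hc v) (c' := (1 : F)) ?_
        rw [← he v, one_smul]
        funext y
        have hy2 : (MonG.col g v + (h : Matrix ι ι F) *ᵥ MonG.col g v) y = 0 := by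
          by_cases h1 : y = k ∨ y = l
          · have hyz : y ≠ z := by rcases h1 with h1 | h1 <;> subst h1 <;> assumption
            have e := hcon y hyz
            rw [hcol, Pi.add_apply, Pi.single_eq_of_ne hyz, zero_add, Pi.smul_apply,
              smul_eq_mul] at e
            refine (mul_eq_zero.1 e).resolve_left (mul_ne_zero (sub_ne_zero.2 hζ1) fun e' => ?_)
            exact hrz v hva (σ.injective (by rw [e', map_zero]))
          · push Not at h1; exact hsum0 y h1.1 h1.2
        rw [Pi.add_apply] at hy2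
        linear_combination hy2 - MonG.col g v y * hchar
      exact hy' (hz' y fun e => by
        subst e
        exact zero_ne_one (α := F) ((hz' z (Ne.symm hy)).symm.trans hxz))
    obtain ⟨y₁, h1, h3, h4⟩ := exists_notMem (by omega) k l z
    obtain ⟨y₂, hy₂⟩ : ∃ y₂, y₂ ∉ ({k, l, z, y₁} : Finset ι) := by
      by_contra hcon
      push Not at hcon
      have := Finset.card_le_card (fun x (_ : x ∈ (Finset.univ : Finset ι)) => hcon x)
      rw [Finset.card_univ] at this
      have := this.trans Finset.card_le_four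
      omega
    simp only [Finset.mem_insert, Finset.mem_singleton, not_or] at hy₂
    have hzero : ∀ y, y ≠ k → y ≠ l → y ≠ z → MonG.col x z y = 0 := fun y h1 h3 h4 => by
      rw [hcol, Pi.add_apply, Pi.smul_apply, hsum0 y h1 h3, Pi.single_eq_of_ne h4]; simp
    exact hy₂.2.2.2 (col_one_zero hne h2 hM hiso hn hno hxM hxm
      (hzero y₂ hy₂.1 hy₂.2.1 hy₂.2.2.1) (hzero y₁ h1 h3 h4))
  · -- odd characteristic: every other column moves
    have hall : ∀ b ∈ Finset.univ.erase a, π b ≠ b := fun b hb hbb => by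
      have e := congrFun (he b) z
      rw [hbb, heig b hbb, happ, if_neg hkz.symm, if_neg hlz.symm, if_pos rfl, one_smul] at e
      exact mul_ne_zero hchar (hrz b (Finset.ne_of_mem_erase hb)) (by linear_combination -e)
    have := card_moved_le g hW c hall fun b _ => hmov b
    rw [Finset.card_erase_of_mem (Finset.mem_univ a), Finset.card_univ] at this
    omega

lemma neighbour {g : GL ι F} (hg : g ∈ M) (a : ι) {m : GL ι F}
    (hm : m ∈ M) (h0 : stdF σ ((m : Matrix ι ι F) *ᵥ MonG.col g a) (MonG.col g a) = 0) :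
    ∃ b, b ≠ a ∧ ∃ c : nOne σ, (m : Matrix ι ι F) *ᵥ MonG.col g a = val c • MonG.col g b := by
  classical
  set k := g⁻¹ * m * g with hk
  have hkM : k ∈ M := M.mul_mem (M.mul_mem (M.inv_mem hg) hm) hg
  have hkv : MonG.col k a = ((g⁻¹ : GL ι F) : Matrix ι ι F) *ᵥ ((m : Matrix ι ι F) *ᵥ MonG.col g a) := by
    rw [← col_eq', hk, gl_mulVec_mul, gl_mulVec_mul, col_eq']
  have hka : MonG.col k a a = 0 := by
    have h1 := form_mulVec_left (hiso (M.inv_mem hg))
      ((m : Matrix ι ι F) *ᵥ MonG.col g a) (Pi.single a (1 : F))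
    rw [inv_inv, col_eq', h0, ← hkv, stdF_single, map_one, mul_one] at h1
    exact h1
  have hmon : Mon k := by_contra fun hc => zero_false hne h2 hM hiso hn hno hkM hc hka
  obtain ⟨b, hb⟩ := hmon a
  have hcol : MonG.col k a = MonG.col k a b • Pi.single b (1 : F) := by
    funext y
    by_cases hy : y = b
    · subst hy; simp
    · simp [hy, MonG.col, hb y hy]
  have hne0 : MonG.col k a b ≠ 0 := fun e => by
    rw [e, zero_smul, ← col_eq'] at hcol
    exact gl_mulVec_ne_zero k (fun e' => by simpa using congrFun e' a) hcol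
  have hn1 : MonG.col k a b * σ (MonG.col k a b) = 1 := by
    have h1 := col_norm hiso hkM a
    rw [hcol, (isU hne h2).smul_left, smul_right (isU hne h2), single_stdF] at h1
    simpa using h1
  refine ⟨b, fun e => hne0 (e ▸ hka), ⟨Units.mk0 _ hne0, mem_nOne.2 hn1⟩, ?_⟩
  have h5 : (g : Matrix ι ι F) *ᵥ (MonG.col k a) = MonG.col k a b • MonG.col g b := by
    conv_lhs => rw [hcol]
    rw [mulVec_smul, col_eq']
  have h6 : (g : Matrix ι ι F) *ᵥ (MonG.col k a) = (m : Matrix ι ι F) *ᵥ MonG.col g a := by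
    rw [hkv, gl_mulVec_inv_mulVec]
  exact h6.symm.trans h5

lemma blocks_false {g : GL ι F} (hg : g ∈ M) {a : ι} (hfull : ∀ y, MonG.col g a y ≠ 0) {K : Type}
    [Fintype K] [DecidableEq K] (bl : ι → K) (hbl : Function.Surjective bl) (π : Equiv.Perm ι)
    (hπ : ∀ y, bl (π y) = bl y) (d₀ : ι → nOne σ)
    (hsum : ∀ κ, ∑ y ∈ Finset.univ.filter (fun y => bl y = κ),
      val (d₀ y) * MonG.col g a y * σ (MonG.col g a (π y)) = 0)
    (htarget : ∀ ε : nOne σ, val ε = (Equiv.Perm.sign π : F) →
      ∃ s : K → nOne σ, ∏ y, s (bl y) = (ε * ∏ y, d₀ y)⁻¹)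
    (hcount : (Fintype.card ι - 1) * Fintype.card (nOne σ) * Fintype.card (nOne σ)
      < Fintype.card (nOne σ) ^ Fintype.card K) : False := by
  classical
  set x := MonG.col g a with hx
  let φ : (K → nOne σ) →* nOne σ :=
    { toFun := fun s => ∏ y, s (bl y)
      map_one' := by simp
      map_mul' := fun s s' => by simp [Finset.prod_mul_distrib] }
  have hcard : Fintype.card (nOne σ) ^ Fintype.card K ≤
      Fintype.card φ.ker * Fintype.card (nOne σ) := by
    have h := φ.ker.card_mul_index
    rw [Subgroup.index_ker, Nat.card_eq_fintype_card, Nat.card_eq_fintype_card (α := K → nOne σ),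
      Fintype.card_fun] at h
    rw [← h]
    refine Nat.mul_le_mul_left _ ?_
    rw [← Nat.card_eq_fintype_card]
    exact Subgroup.card_le_card_group _
  obtain ⟨ε, hε, hεv, hε2⟩ := sign_mem_nOne (σ := σ) π
  obtain ⟨s₀, hs₀⟩ := htarget ⟨ε, hε⟩ hεv
  let D : φ.ker → ι → Fˣ := fun s y => ((d₀ y * (s₀ * (s : K → nOne σ)) (bl y) : nOne σ) : Fˣ)
  have hD : ∀ s, mon π (D s) ∈ M := fun s => by
    refine hM _ _ (fun y => SetLike.coe_mem _) ?_
    have hs : ∏ y, (s : K → nOne σ) (bl y) = 1 := s.2
    have h3 : (⟨ε, hε⟩ : nOne σ) * ∏ y, (d₀ y * (s₀ * (s : K → nOne σ)) (bl y)) = 1 := by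
      simp only [Pi.mul_apply, Finset.prod_mul_distrib, hs, hs₀, mul_one]
      group
    have h4 := congrArg (fun x : nOne σ => val x) h3
    simp only [val, Subgroup.coe_mul, SubmonoidClass.coe_finset_prod, Units.val_mul, Units.coe_prod,
      Subgroup.coe_one, Units.val_one] at h4
    rw [det_mon, ← hεv]
    simpa [D] using h4
  have happ : ∀ s y, ((mon π (D s) : Matrix ι ι F) *ᵥ x) (π y)
      = val (d₀ y) * val ((s₀ * (s : K → nOne σ)) (bl y)) * x y := fun s y => by
    simp [mon_mulVec, D, val]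
  have horth : ∀ s, stdF σ ((mon π (D s) : Matrix ι ι F) *ᵥ x) x = 0 := fun s => by
    rw [stdF, ← Equiv.sum_comp π, ← Finset.sum_fiberwise Finset.univ bl]
    refine Finset.sum_eq_zero fun κ _ => ?_
    rw [Finset.sum_congr rfl (g := fun y =>
      val ((s₀ * (s : K → nOne σ)) κ) * (val (d₀ y) * x y * σ (x (π y)))) fun y hy => by
        rw [happ, (Finset.mem_filter.1 hy).2]; ring]
    rw [← Finset.mul_sum, hsum, mul_zero]
  choose b hb c hc using fun s => neighbour hne h2 hM hiso hn hno hg a (hD s) (horth s)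
  have hinj : Function.Injective fun s : φ.ker =>
      ((⟨b s, hb s⟩, c s) : {y : ι // y ≠ a} × nOne σ) := by
    intro s s' h
    simp only [Prod.mk.injEq, Subtype.mk.injEq] at h
    have e : (mon π (D s) : Matrix ι ι F) *ᵥ x = (mon π (D s') : Matrix ι ι F) *ᵥ x := by
      rw [hc s, hc s', h.1, h.2]
    refine Subtype.ext (funext fun κ => ?_)
    obtain ⟨y, rfl⟩ := hbl κ
    have e2 := congrFun e (π y)
    rw [happ, happ] at e2
    exact mul_left_cancel (val_injective (mul_left_cancel₀ (val_ne_zero (d₀ y))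
      (mul_right_cancel₀ (hfull y) e2)))
  have h5 := Fintype.card_le_of_injective _ hinj
  rw [Fintype.card_prod, Fintype.card_subtype_compl, Fintype.card_subtype_eq] at h5
  have h6 := Nat.mul_le_mul_right (Fintype.card (nOne σ)) h5
  omega

lemma partition_false {g : GL ι F} (hg : g ∈ M) {a : ι} (hfull : ∀ y, MonG.col g a y ≠ 0) {b m : ℕ}
    (e : ι ≃ (Fin b × Fin 5) ⊕ (Fin m × Fin 2))
    (hsurj : ∀ t : nOne σ, ∃ s : Fin b ⊕ Fin m → nOne σ,
      (∏ i, s (Sum.inl i) ^ 5) * ∏ i, s (Sum.inr i) ^ 2 = t)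
    (hcount : (Fintype.card ι - 1) * Fintype.card (nOne σ) * Fintype.card (nOne σ)
      < Fintype.card (nOne σ) ^ (b + m)) : False := by
  classical
  set x := MonG.col g a with hx
  have hσ0 : ∀ y, σ (x y) ≠ 0 := fun y e' => hfull y (σ.injective (by rw [e', map_zero]))
  have hblock : ∀ i : Fin b, ∃ p : Fin 5 → nOne σ,
      ∑ l, val (p l) * x (e.symm (Sum.inl (i, l))) * σ (x (e.symm (Sum.inl (i, l)))) = 0 := by
    intro i
    have h0 : ∀ l, x (e.symm (Sum.inl (i, l))) * σ (x (e.symm (Sum.inl (i, l)))) ≠ 0 :=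
      fun l => mul_ne_zero (hfull _) (hσ0 _)
    obtain ⟨ζ₁, ζ₂, ζ₃, ζ₄, hζ⟩ := exists_four_sum hne h2 (h0 1) (h0 2) (h0 3) (h0 4)
      (-(x (e.symm (Sum.inl (i, 0))) * σ (x (e.symm (Sum.inl (i, 0))))))
    refine ⟨![1, ζ₁, ζ₂, ζ₃, ζ₄], ?_⟩
    simp [Fin.sum_univ_five, val]
    linear_combination hζ
  choose p hp using hblock
  have hpair : ∀ i : Fin m, ∃ r : nOne σ,
      x (e.symm (Sum.inr (i, 0))) * σ (x (e.symm (Sum.inr (i, 1)))) +
        val r * x (e.symm (Sum.inr (i, 1))) * σ (x (e.symm (Sum.inr (i, 0)))) = 0 := by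
    intro i
    obtain ⟨r, hr⟩ := exists_phase (σ := σ)
      (p := x (e.symm (Sum.inr (i, 1))) * σ (x (e.symm (Sum.inr (i, 0)))))
      (r := -(x (e.symm (Sum.inr (i, 0))) * σ (x (e.symm (Sum.inr (i, 1))))))
      (by simp only [map_mul, map_neg, h2]; ring)
    exact ⟨r, by linear_combination hr⟩
  choose r hr using hpair
  let τ : Equiv.Perm ((Fin b × Fin 5) ⊕ (Fin m × Fin 2)) :=
    Equiv.sumCongr (Equiv.refl _) (Equiv.prodCongr (Equiv.refl _) (Equiv.swap 0 1))
  let π : Equiv.Perm ι := (e.trans τ).trans e.symm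
  let bl : ι → Fin b ⊕ Fin m := fun y => Sum.map Prod.fst Prod.fst (e y)
  let d₀ : ι → nOne σ := fun y =>
    Sum.elim (fun il => p il.1 il.2) (fun il => ![1, r il.1] il.2) (e y)
  refine blocks_false hne h2 hM hiso hn hno hg hfull bl ?_ π (fun y => ?_) d₀ (fun κ => ?_)
    (fun ε _ => ?_) (by simpa using hcount)
  · rintro (i | i)
    · exact ⟨e.symm (Sum.inl (i, 0)), by simp [bl]⟩
    · exact ⟨e.symm (Sum.inr (i, 0)), by simp [bl]⟩
  · simp only [bl, π, Equiv.trans_apply, Equiv.apply_symm_apply]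
    rcases e y with il | il <;> simp [τ]
  · rw [Finset.sum_filter, ← Equiv.sum_comp e.symm, Fintype.sum_sum_type, Fintype.sum_prod_type,
      Fintype.sum_prod_type]
    rcases κ with i | i
    · rw [Finset.sum_eq_single i]
      · simpa [bl, d₀, π, τ] using hp i
      · intro j _ hj; simp [bl, hj]
      · simp
    · rw [Finset.sum_eq_zero (fun j _ => by simp [bl]), zero_add, Finset.sum_eq_single i]
      · simpa [bl, d₀, π, τ, Fin.sum_univ_two, val] using hr i
      · intro j _ hj; simp [bl, hj]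
      · simp
  · obtain ⟨s, hs⟩ := hsurj (ε * ∏ y, d₀ y)⁻¹
    refine ⟨s, ?_⟩
    rw [← Equiv.prod_comp e.symm, Fintype.prod_sum_type, Fintype.prod_prod_type,
      Fintype.prod_prod_type, ← hs]
    simp [bl, Finset.prod_const]

omit [DecidableEq ι] hne h2 hM hiso hn hno [Fintype F] in
lemma growth (r₀ c₀ : ℕ) {C : ℕ} (hC : 3 ≤ C) (h0 : c₀ < C ^ r₀) (hr₀ : 2 ≤ r₀) (i : ℕ) :
    c₀ + 2 * i < C ^ (r₀ + i) := by
  induction i with
  | zero => simpa using h0
  | succ i ih =>
    have h1 : C ^ 2 ≤ C ^ (r₀ + i) := Nat.pow_le_pow_right (by omega) (by omega)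
    have h3 : 3 * C ^ (r₀ + i) ≤ C ^ (r₀ + (i + 1)) := by
      rw [← add_assoc, pow_succ, mul_comm]
      exact Nat.mul_le_mul_left _ hC
    have h4 : 9 ≤ C ^ 2 := by rw [pow_two]; exact Nat.mul_le_mul hC hC
    omega

omit hM hiso hn hno in
lemma card_nOne : Fintype.card (nOne σ) = qq σ + 1 := by
  classical
  refine le_antisymm ?_ ((qq_add_one_le hne h2).trans_eq Nat.card_eq_fintype_card)
  obtain ⟨-, hσ⟩ := exists_card_eq hne h2
  rw [← Finset.card_univ, ← Finset.card_image_of_injective Finset.univ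
    (f := fun x : nOne σ => (x : Fˣ)) Subtype.val_injective]
  refine (Finset.card_le_card (t := Finset.univ.filter fun x : Fˣ => x ^ (qq σ + 1) = 1)
    fun x hx => ?_).trans (IsCyclic.card_pow_eq_one_le (by omega))
  obtain ⟨y, -, rfl⟩ := Finset.mem_image.1 hx
  refine Finset.mem_filter.2 ⟨Finset.mem_univ _, Units.ext ?_⟩
  rw [Units.val_pow_eq_pow_val, pow_succ', qq, ← hσ]
  exact y.2

omit [DecidableEq ι] hne h2 hM hiso hn hno [Fintype F] in
lemma split_three {f : Fin 3 → ι} (hf : Function.Injective f) {A : Type} [Fintype A]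
    (hA : Fintype.card A + 3 = Fintype.card ι) :
    ∃ e : ι ≃ Fin 3 ⊕ A, ∀ l, e.symm (Sum.inl l) = f l := by
  classical
  have h := Fintype.card_congr (Equiv.sumCompl fun y => y ∈ Set.range f)
  rw [Fintype.card_sum, ← Fintype.card_congr (Equiv.ofInjective f hf), Fintype.card_fin] at h
  have h' : Fintype.card A = Fintype.card {y // y ∉ Set.range f} := by omega
  let e₁ : {y // y ∉ Set.range f} ≃ A := (Fintype.equivOfCardEq h').symm
  exact ⟨(Equiv.sumCompl fun y => y ∈ Set.range f).symm.trans
    (Equiv.sumCongr (Equiv.ofInjective f hf).symm e₁), fun l => rfl⟩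

/-- Dimension twelve, with three coordinates whose norms cancel after phases. -/
lemma triangle_false {g : GL ι F} (hg : g ∈ M) {a : ι} (hfull : ∀ y, MonG.col g a y ≠ 0)
    (h12 : Fintype.card ι = 12) {f : Fin 3 → ι} (hf : Function.Injective f) (z : Fin 3 → nOne σ)
    (hz : ∑ l, val (z l) * MonG.col g a (f l) * σ (MonG.col g a (f l)) = 0)
    (hC : 4 ≤ Fintype.card (nOne σ)) : False := by
  classical
  obtain ⟨e, he⟩ := split_three hf (A := Fin 5 ⊕ (Fin 2 × Fin 2)) (by simp [h12])
  set x := MonG.col g a with hx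
  have hσ0 : ∀ y, σ (x y) ≠ 0 := fun y e' => hfull y (σ.injective (by rw [e', map_zero]))
  obtain ⟨p, hp⟩ : ∃ p : Fin 5 → nOne σ, ∑ l, val (p l) * x (e.symm (Sum.inr (Sum.inl l))) *
      σ (x (e.symm (Sum.inr (Sum.inl l)))) = 0 := by
    set y : Fin 5 → ι := fun l => e.symm (Sum.inr (Sum.inl l)) with hy
    have h0 : ∀ l, x (y l) * σ (x (y l)) ≠ 0 := fun l => mul_ne_zero (hfull _) (hσ0 _)
    obtain ⟨ζ₁, ζ₂, ζ₃, ζ₄, hζ⟩ := exists_four_sum hne h2 (h0 1) (h0 2) (h0 3) (h0 4)
      (-(x (y 0) * σ (x (y 0))))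
    refine ⟨![1, ζ₁, ζ₂, ζ₃, ζ₄], ?_⟩
    simp [Fin.sum_univ_five, val, hy] at hζ ⊢
    linear_combination hζ
  have hpair : ∀ i : Fin 2, ∃ r : nOne σ,
      x (e.symm (Sum.inr (Sum.inr (i, 0)))) * σ (x (e.symm (Sum.inr (Sum.inr (i, 1))))) +
        val r * x (e.symm (Sum.inr (Sum.inr (i, 1)))) *
          σ (x (e.symm (Sum.inr (Sum.inr (i, 0))))) = 0 := by
    intro i
    obtain ⟨r, hr⟩ := exists_phase (σ := σ)
      (p := x (e.symm (Sum.inr (Sum.inr (i, 1)))) * σ (x (e.symm (Sum.inr (Sum.inr (i, 0))))))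
      (r := -(x (e.symm (Sum.inr (Sum.inr (i, 0)))) * σ (x (e.symm (Sum.inr (Sum.inr (i, 1)))))))
      (by simp only [map_mul, map_neg, h2]; ring)
    exact ⟨r, by linear_combination hr⟩
  choose r hr using hpair
  let τ : Equiv.Perm (Fin 3 ⊕ Fin 5 ⊕ (Fin 2 × Fin 2)) :=
    Equiv.sumCongr (Equiv.refl _)
      (Equiv.sumCongr (Equiv.refl _) (Equiv.prodCongr (Equiv.refl _) (Equiv.swap 0 1)))
  let π : Equiv.Perm ι := (e.trans τ).trans e.symm
  let cls : Fin 3 ⊕ Fin 5 ⊕ (Fin 2 × Fin 2) → Fin 2 ⊕ Fin 2 :=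
    Sum.elim (fun _ => Sum.inl 0) (Sum.elim (fun _ => Sum.inl 1) fun il => Sum.inr il.1)
  let d₀ : ι → nOne σ := fun y =>
    Sum.elim z (Sum.elim p fun il => ![1, r il.1] il.2) (e y)
  refine blocks_false hne h2 hM hiso hn hno hg hfull (fun y => cls (e y)) ?_ π (fun y => ?_) d₀
    (fun κ => ?_) (fun ε _ => ?_) ?_
  · rintro (i | i)
    · fin_cases i
      · exact ⟨e.symm (Sum.inl 0), by simp [cls]⟩
      · exact ⟨e.symm (Sum.inr (Sum.inl 0)), by simp [cls]⟩
    · exact ⟨e.symm (Sum.inr (Sum.inr (i, 0))), by simp [cls]⟩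
  · simp only [π, Equiv.trans_apply, Equiv.apply_symm_apply]
    rcases e y with il | il | il <;> simp [τ, cls]
  · rw [Finset.sum_filter, ← Equiv.sum_comp e.symm, Fintype.sum_sum_type, Fintype.sum_sum_type,
      Fintype.sum_prod_type]
    rcases κ with i | i
    · fin_cases i
      · have hz' : ∑ l, val (z l) * x (e.symm (Sum.inl l)) * σ (x (e.symm (Sum.inl l))) = 0 := by
          simpa only [he] using hz
        simpa [cls, d₀, π, τ] using hz'
      · simpa [cls, d₀, π, τ] using hp
    · fin_cases i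
      · simpa [cls, d₀, π, τ, Fin.sum_univ_two, val] using hr 0
      · simpa [cls, d₀, π, τ, Fin.sum_univ_two, val] using hr 1
  · set t := (ε * ∏ y, d₀ y)⁻¹
    refine ⟨Sum.elim ![t, 1] ![t⁻¹, 1], ?_⟩
    rw [← Equiv.prod_comp e.symm, Fintype.prod_sum_type, Fintype.prod_sum_type,
      Fintype.prod_prod_type]
    simp [cls, Fin.prod_univ_two, Finset.prod_const]
    group
  · rw [show Fintype.card (Fin 2 ⊕ Fin 2) = 2 + 2 by simp, pow_add, h12, mul_assoc, ← pow_two]
    refine Nat.mul_lt_mul_of_pos_right ?_ (pow_pos (by omega) _)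
    have := Nat.pow_le_pow_left hC 2
    omega

/-- Dimension twelve, all norms equal up to sign, with a fourth root of unity of norm one. -/
lemma equal_norms_false {g : GL ι F} (hg : g ∈ M) {a : ι} (hfull : ∀ y, MonG.col g a y ≠ 0)
    (h12 : Fintype.card ι = 12) (w : nOne σ) (hw : val w * val w = -1)
    (heq : ∀ y y', (MonG.col g a y * σ (MonG.col g a y)) ^ 2 =
      (MonG.col g a y' * σ (MonG.col g a y')) ^ 2)
    (hC : 4 ≤ Fintype.card (nOne σ)) : False := by
  classical
  obtain ⟨e⟩ : Nonempty (ι ≃ Fin 6 × Fin 2) := Fintype.card_eq.1 (by simp [h12])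
  set x := MonG.col g a with hx
  have hpair : ∀ i : Fin 6, ∃ r : nOne σ, val r * val r = 1 ∧
      x (e.symm (i, 0)) * σ (x (e.symm (i, 0))) +
        val r * x (e.symm (i, 1)) * σ (x (e.symm (i, 1))) = 0 := by
    intro i
    set y := e.symm (i, 0)
    set y' := e.symm (i, 1)
    obtain ⟨r, hr⟩ := exists_phase (σ := σ) (p := x y' * σ (x y')) (r := -(x y * σ (x y)))
      (by simp only [map_mul, map_neg, h2]; linear_combination heq y' y)
    have hN : x y' * σ (x y') ≠ 0 :=
      mul_ne_zero (hfull _) fun e' => hfull y' (σ.injective (by rw [e', map_zero]))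
    refine ⟨r, mul_right_cancel₀ (mul_ne_zero hN hN) ?_, by linear_combination hr⟩
    linear_combination heq y y' + (val r * (x y' * σ (x y')) - x y * σ (x y)) * hr
  choose r hr1 hr using hpair
  let d₀ : ι → nOne σ := fun y => ![1, r (e y).1] (e y).2
  refine blocks_false hne h2 hM hiso hn hno hg hfull (fun y => (e y).1)
    (fun i => ⟨e.symm (i, 0), by simp⟩) 1 (fun y => rfl) d₀ (fun κ => ?_) (fun ε hε => ?_) ?_
  · rw [Finset.sum_filter, ← Equiv.sum_comp e.symm, Fintype.sum_prod_type,
      Finset.sum_eq_single κ]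
    · simpa [d₀, Fin.sum_univ_two, val] using hr κ
    · intro j _ hj; simp [hj]
    · simp
  · set t := (ε * ∏ y, d₀ y)⁻¹ with ht
    have hd : ∀ y, d₀ y * d₀ y = 1 := fun y => by
      refine val_injective ?_
      have : ∀ (i : Fin 6) (l : Fin 2), val (![1, r i] l) * val (![1, r i] l) = 1 := fun i l => by
        fin_cases l
        · simp [val]
        · simpa using hr1 i
      simpa [d₀, val] using this (e y).1 (e y).2
    have hε1 : ε = 1 := val_injective (by rw [hε]; simp [val])
    have htt : t * t = 1 := by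
      rw [ht, hε1, one_mul, ← mul_inv, ← Finset.prod_mul_distrib, Finset.prod_congr rfl fun y _ => hd y]
      simp
    have hsq : ∃ u : nOne σ, u * u = t := by
      have h1 := congrArg val htt
      simp only [val, Subgroup.coe_mul, Units.val_mul, Subgroup.coe_one, Units.val_one] at h1
      rcases mul_self_eq_one_iff.1 h1 with h | h
      · exact ⟨1, val_injective (by simp [val, h])⟩
      · exact ⟨w, val_injective (by simp only [val, Subgroup.coe_mul, Units.val_mul]; rw [h]; exact hw)⟩
    obtain ⟨u, hu⟩ := hsq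
    refine ⟨Pi.mulSingle 0 u, ?_⟩
    rw [← Equiv.prod_comp e.symm, Fintype.prod_prod_type, Fintype.prod_eq_single (0 : Fin 6)]
    · simp [sq, hu]
    · intro j hj; simp [Pi.mulSingle_eq_of_ne hj]
  · rw [show Fintype.card (Fin 6) = 4 + 2 by simp, pow_add, h12, mul_assoc, ← pow_two]
    refine Nat.mul_lt_mul_of_pos_right ?_ (pow_pos (by omega) _)
    have := Nat.pow_le_pow_left hC 4
    omega

/-- Dimension twelve with few norm-one scalars, in odd characteristic. -/
lemma small_twelve_false {g : GL ι F} (hg : g ∈ M) {a : ι} (hfull : ∀ y, MonG.col g a y ≠ 0)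
    (h12 : Fintype.card ι = 12) (hchar : (2 : F) ≠ 0) (hsmall : Fintype.card (nOne σ) ≤ 11)
    (hC : 4 ≤ Fintype.card (nOne σ)) : False := by
  classical
  set q := qq σ with hq
  have hCq : Fintype.card (nOne σ) = q + 1 := card_nOne hne h2
  obtain ⟨-, hσ⟩ := exists_card_eq hne h2
  set N : ι → F := fun y => MonG.col g a y * σ (MonG.col g a y) with hN
  have hN0 : ∀ y, N y ≠ 0 := fun y =>
    mul_ne_zero (hfull _) fun e' => hfull y (σ.injective (by rw [e', map_zero]))
  have hNs : ∀ y, σ (N y) = N y := fun y => by simp only [N, map_mul, h2]; exact mul_comm _ _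
  have hNq : ∀ y, N y ^ (q - 1) = 1 := fun y => by
    refine mul_right_cancel₀ (hN0 y) ?_
    rw [← pow_succ, one_mul, Nat.sub_add_cancel (by omega : 1 ≤ q), hq, qq, ← hσ]
    exact hNs y
  have hqodd : q % 2 = 1 := by
    have h1 : ringChar F ≠ 2 := fun e => hchar (by
      have := ringChar.Nat.cast_ringChar (R := F)
      rw [e] at this
      exact_mod_cast this)
    have h3 := FiniteField.odd_card_of_char_ne_two h1
    rw [card_F hne h2, ← hq, Nat.pow_mod] at h3
    rcases Nat.mod_two_eq_zero_or_one q with h | h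
    · rw [h] at h3; simp at h3
    · exact h
  have hq0 : ((q : F)) ^ 2 = 0 := by
    have h4 := FiniteField.cast_card_eq_zero F
    rw [card_F hne h2, ← hq] at h4
    exact_mod_cast h4
  have hqF : (q : F) = 0 := pow_eq_zero_iff (by norm_num) |>.1 hq0
  have hsum3 : ∀ (i j k : ι), i ≠ j → i ≠ k → j ≠ k → ∀ ζ : nOne σ,
      (N i + val ζ * N j) * (N i + (val ζ)⁻¹ * N j) = N k * N k → False := by
    intro i j k hij hik hjk ζ hζ
    obtain ⟨η, hη⟩ := exists_phase (σ := σ) (p := N k) (r := -(N i + val ζ * N j))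
      (by rw [hNs, map_neg, map_add, hNs, map_mul, hNs, sigma_val]; linear_combination -hζ)
    have hf : Function.Injective ![i, j, k] := fun u v huv => by
      fin_cases u <;> fin_cases v <;> first
        | rfl
        | exact absurd huv hij | exact absurd huv.symm hij
        | exact absurd huv hik | exact absurd huv.symm hik
        | exact absurd huv hjk | exact absurd huv.symm hjk
    refine triangle_false hne h2 hM hiso hn hno hg hfull h12 hf ![1, ζ, η] ?_ hC
    simp [Fin.sum_univ_three, val, N] at hη ⊢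
    linear_combination hη
  have hfibre : ∃ i j k, i ≠ j ∧ i ≠ k ∧ j ≠ k ∧ N i ^ 2 = N j ^ 2 ∧ N i ^ 2 = N k ^ 2 := by
    set r := (q - 1) / 2 with hr
    have hmaps : ∀ y ∈ (Finset.univ : Finset ι),
        N y ^ 2 ∈ (Polynomial.nthRootsFinset r (1 : F)) := fun y _ => by
      rw [Polynomial.mem_nthRootsFinset (by omega), ← pow_mul, show 2 * r = q - 1 by omega]
      exact hNq y
    have hcard : (Polynomial.nthRootsFinset r (1 : F)).card * 2 < (Finset.univ : Finset ι).card := by
      have h1 : (Polynomial.nthRootsFinset r (1 : F)).card ≤ r := by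
        rw [Polynomial.nthRootsFinset_def]
        exact (Multiset.toFinset_card_le _).trans (Polynomial.card_nthRoots r 1)
      rw [Finset.card_univ, h12]
      omega
    obtain ⟨u, -, hu⟩ := Finset.exists_lt_card_fiber_of_mul_lt_card_of_maps_to hmaps hcard
    obtain ⟨i, j, k, hi, hj, hk, hij, hik, hjk⟩ := Finset.two_lt_card_iff.1 hu
    simp only [Finset.mem_filter, Finset.mem_univ, true_and] at hi hj hk
    exact ⟨i, j, k, hij, hik, hjk, hi.trans hj.symm, hi.trans hk.symm⟩
  by_cases hω : ∃ w : nOne σ, val w ^ 2 + val w + 1 = 0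
  · obtain ⟨w, hw⟩ := hω
    obtain ⟨i, j, k, hij, hik, hjk, e1, e2⟩ := hfibre
    have hinv : (val w)⁻¹ = -(1 + val w) := inv_eq_of_mul_eq_one_right (by linear_combination -hw)
    rcases sq_eq_sq_iff_eq_or_eq_neg.1 e1 with h | h
    · refine hsum3 i j k hij hik hjk w ?_
      rw [hinv]
      rw [h] at e2 ⊢
      linear_combination e2 - N j * N j * hw
    · obtain ⟨m, hm, hmv, -⟩ : ∃ m : Fˣ, m ∈ nOne σ ∧ (m : F) = -1 ∧ True :=
        ⟨-1, by simp [mem_nOne], by simp, trivial⟩
      refine hsum3 i j k hij hik hjk (⟨m, hm⟩ * w) ?_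
      have hv : val ((⟨m, hm⟩ : nOne σ) * w) = - val w := by simp [val, hmv]
      rw [hv, inv_neg, hinv]
      rw [h] at e2 ⊢
      linear_combination e2 - N j * N j * hw
  have h3 : (3 : F) ≠ 0 := fun e => hω ⟨1, by simp [val]; linear_combination e⟩
  have hq7 : q = 7 := by
    by_contra hne7
    have hq_cases : q = 3 ∨ q = 5 ∨ q = 9 := by omega
    rcases hq_cases with h | h | h
    · exact h3 (by rw [h] at hqF; exact_mod_cast hqF)
    · haveI : Fact (Nat.Prime 3) := ⟨Nat.prime_three⟩
      obtain ⟨w, hw⟩ := exists_prime_orderOf_dvd_card (G := nOne σ) 3 (by rw [hCq, h]; norm_num)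
      refine hω ⟨w, ?_⟩
      have h1 : w ^ 3 = 1 := by rw [← hw]; exact pow_orderOf_eq_one w
      have hw1 : val w ≠ 1 := fun e => by
        rw [show w = 1 from val_injective (by rw [e]; simp [val]), orderOf_one] at hw
        omega
      have h4 := congrArg val h1
      simp only [val, SubmonoidClass.coe_pow, Units.val_pow_eq_pow_val, Subgroup.coe_one,
        Units.val_one] at h4
      refine (mul_eq_zero.1 (?_ : (val w - 1) * (val w ^ 2 + val w + 1) = 0)).resolve_left
        (sub_ne_zero.2 hw1)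
      linear_combination h4
    · refine h3 (mul_self_eq_zero.1 ?_)
      rw [h] at hqF
      push_cast at hqF
      linear_combination hqF
  have h7 : (7 : F) = 0 := by rw [hq7] at hqF; exact_mod_cast hqF
  obtain ⟨γ, hγ⟩ := IsCyclic.exists_ofOrder_eq_natCard (α := nOne σ)
  rw [Nat.card_eq_fintype_card, hCq, hq7] at hγ
  have hw : val (γ ^ 2) * val (γ ^ 2) = -1 := by
    have h8 : γ ^ 8 = 1 := by rw [show (8 : ℕ) = orderOf γ by omega]; exact pow_orderOf_eq_one γ
    have h4 : γ ^ 4 ≠ 1 := fun e => by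
      have := Nat.le_of_dvd (by norm_num) (orderOf_dvd_of_pow_eq_one e)
      omega
    have h8' := congrArg val h8
    simp only [val, SubmonoidClass.coe_pow, Units.val_pow_eq_pow_val, Subgroup.coe_one,
      Units.val_one] at h8' ⊢
    rw [← pow_add]
    refine ((mul_self_eq_one_iff.1 (by rw [← pow_add]; exact h8')).resolve_left fun e => h4 ?_)
    exact val_injective (by simp [val]; exact e)
  by_cases hdiff : ∀ y y', N y ^ 2 = N y' ^ 2
  · exact equal_norms_false hne h2 hM hiso hn hno hg hfull h12 _ hw hdiff hC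
  push Not at hdiff
  obtain ⟨i, j, -, hij, -, -, e1, -⟩ := hfibre
  obtain ⟨k, hk⟩ : ∃ k, N k ^ 2 ≠ N i ^ 2 := by
    obtain ⟨y, y', hy⟩ := hdiff
    by_cases hyi : N y ^ 2 = N i ^ 2
    · exact ⟨y', fun e => hy (hyi.trans e.symm)⟩
    · exact ⟨y, hyi⟩
  have hik : i ≠ k := fun e => hk (e ▸ rfl)
  have hjk : j ≠ k := fun e => hk (e ▸ e1.symm)
  have hN6 : ∀ y, (N y ^ 2) ^ 3 = 1 := fun y => by
    rw [← pow_mul]
    have := hNq y
    rwa [hq7] at this
  have hu : (N k ^ 2 - 2 * N i ^ 2) * (N k ^ 2 - 4 * N i ^ 2) = 0 := by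
    have h6 : (N k ^ 2 - N i ^ 2) *
        ((N k ^ 2) ^ 2 + N k ^ 2 * N i ^ 2 + (N i ^ 2) ^ 2) = 0 := by
      linear_combination hN6 k - hN6 i
    have h5 := (mul_eq_zero.1 h6).resolve_left (sub_ne_zero.2 hk)
    linear_combination h5 + ((N i ^ 2) ^ 2 - N k ^ 2 * N i ^ 2) * h7
  rcases mul_eq_zero.1 hu with h | h
  · refine hsum3 i j k hij hik hjk (γ ^ 2) ?_
    have hinv : (val (γ ^ 2))⁻¹ = - val (γ ^ 2) :=
      inv_eq_of_mul_eq_one_right (by linear_combination -hw)
    rw [hinv]
    linear_combination -h - e1 - N j * N j * hw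
  · rcases sq_eq_sq_iff_eq_or_eq_neg.1 e1 with h' | h'
    · refine hsum3 i j k hij hik hjk 1 ?_
      simp only [val, Subgroup.coe_one, Units.val_one, inv_one, one_mul]
      rw [h'] at h ⊢
      linear_combination -h
    · obtain ⟨m, hm, hmv⟩ : ∃ m : Fˣ, m ∈ nOne σ ∧ (m : F) = -1 :=
        ⟨-1, by simp [mem_nOne], by simp⟩
      refine hsum3 i j k hij hik hjk ⟨m, hm⟩ ?_
      simp only [val, hmv]
      rw [h'] at h ⊢
      linear_combination -h

/-- Dimension ten, odd characteristic: one pair and eight fixed coordinates. -/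
lemma ten_odd_false {g : GL ι F} (hg : g ∈ M) {a : ι} (hfull : ∀ y, MonG.col g a y ≠ 0)
    (h10 : Fintype.card ι = 10) (hchar : (2 : F) ≠ 0) : False := by
  classical
  obtain ⟨e⟩ : Nonempty (ι ≃ Fin 8 ⊕ Fin 2) := Fintype.card_eq.1 (by simp [h10])
  set q := qq σ with hq
  have hCq : Fintype.card (nOne σ) = q + 1 := card_nOne hne h2
  have hqodd : Odd q := by
    have h1 : ringChar F ≠ 2 := fun e => hchar (by
      have := ringChar.Nat.cast_ringChar (R := F)
      rw [e] at this
      exact_mod_cast this)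
    have h3 := FiniteField.odd_card_of_char_ne_two h1
    rw [card_F hne h2, ← hq, Nat.pow_mod] at h3
    rcases Nat.mod_two_eq_zero_or_one q with h | h
    · rw [h] at h3; simp at h3
    · exact Nat.odd_iff.2 h
  have hq3 : q = 3 ∨ q = 5 ∨ 7 ≤ q := by
    have := two_le_qq hne h2
    obtain ⟨i, hi⟩ := hqodd
    omega
  set x := MonG.col g a with hx
  have hσ0 : ∀ y, σ (x y) ≠ 0 := fun y e' => hfull y (σ.injective (by rw [e', map_zero]))
  set y0 := e.symm (Sum.inr 0)
  set y1 := e.symm (Sum.inr 1)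
  obtain ⟨r, hr⟩ := exists_phase (σ := σ) (p := x y1 * σ (x y0)) (r := -(x y0 * σ (x y1)))
    (by simp only [map_mul, map_neg, h2]; ring)
  let ε : nOne σ := ⟨-1, by simp [mem_nOne]⟩
  let N : Fin 8 → F := fun l => x (e.symm (Sum.inl l)) * σ (x (e.symm (Sum.inl l)))
  have hN : ∀ l, N l ≠ 0 := fun l => mul_ne_zero (hfull _) (hσ0 _)
  have hcount := card_vanishing_eight (σ := σ) hchar (q := q) (card_F hne h2) hCq hq3 hqodd hN (ε * r)
  set Sol := Finset.univ.filter fun d : Fin 8 → nOne σ =>
    (∑ l, val (d l) * N l) = 0 ∧ ∃ s, s * s = (∏ l, d l) * (ε * r)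
  have hex : ∀ d : Sol, ∃ s : nOne σ, s * s * ((∏ l, d.1 l) * r) = ε := fun d => by
    obtain ⟨u, hu⟩ := (Finset.mem_filter.1 d.2).2.2
    refine ⟨u⁻¹, val_injective ?_⟩
    have hu' := congrArg val hu
    simp only [val, ε, Subgroup.coe_mul, Units.val_mul, InvMemClass.coe_inv, Units.val_inv_eq_inv_val,
      Units.val_neg, Units.val_one] at hu' ⊢
    have := val_ne_zero u
    field_simp
    linear_combination hu'
  choose s hs using hex
  let π : Equiv.Perm ι :=
    (e.trans (Equiv.sumCongr (Equiv.refl (Fin 8)) (Equiv.swap (0 : Fin 2) 1))).trans e.symm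
  let d₀ : Sol → ι → nOne σ := fun d y => Sum.elim d.1 ![s d, r * s d] (e y)
  let D : Sol → ι → Fˣ := fun d y => (d₀ d y : Fˣ)
  have hsign : Equiv.Perm.sign π = -1 := by
    have : π = Equiv.swap y0 y1 := by
      ext y
      obtain ⟨z, rfl⟩ := e.symm.surjective y
      rcases z with l | l
      · simp [π, y0, y1, Equiv.swap_apply_of_ne_of_ne]
      · fin_cases l <;> simp [π, y0, y1]
    rw [this, Equiv.Perm.sign_swap (by simp [y0, y1])]
  have hD : ∀ d, mon π (D d) ∈ M := fun d => by
    refine hM _ _ (fun y => SetLike.coe_mem _) ?_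
    have h3 : ε * ∏ y, d₀ d y = 1 := by
      refine val_injective ?_
      have h := congrArg val (hs d)
      rw [← Equiv.prod_comp e.symm, Fintype.prod_sum_type]
      simp only [d₀, Equiv.apply_symm_apply, Sum.elim_inl, Sum.elim_inr, Fin.prod_univ_two,
        Matrix.cons_val_zero, Matrix.cons_val_one]
      simp only [val, ε, Subgroup.coe_mul, Units.val_mul, Subgroup.coe_one, Units.val_neg,
        Units.val_one] at h ⊢
      linear_combination -h
    have h4 := congrArg (fun x : nOne σ => val x) h3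
    simp only [val, ε, Subgroup.coe_mul, SubmonoidClass.coe_finset_prod, Units.val_mul,
      Units.coe_prod, Subgroup.coe_one, Units.val_one, Units.val_neg] at h4
    rw [det_mon, hsign]
    simpa [D] using h4
  have happ : ∀ d y, ((mon π (D d) : Matrix ι ι F) *ᵥ x) (π y) = val (d₀ d y) * x y := fun d y => by
    simp [mon_mulVec, D, val]
  have horth : ∀ d, stdF σ ((mon π (D d) : Matrix ι ι F) *ᵥ x) x = 0 := fun d => by
    rw [stdF, ← Equiv.sum_comp π]
    simp only [happ]
    rw [← Equiv.sum_comp e.symm, Fintype.sum_sum_type, Fin.sum_univ_two]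
    have h0 := (Finset.mem_filter.1 d.2).2.1
    simp only [d₀, π, N, Equiv.trans_apply, Equiv.apply_symm_apply, Sum.elim_inl, Sum.elim_inr,
      Equiv.sumCongr_apply, Sum.map_inl, Sum.map_inr, Equiv.refl_apply, id_eq,
      Equiv.swap_apply_left, Equiv.swap_apply_right, Matrix.cons_val_zero, Matrix.cons_val_one,
      val, Subgroup.coe_mul, Units.val_mul] at h0 ⊢
    rw [Finset.sum_congr rfl (g := fun l => ((d.1 l : Fˣ) : F) *
      (x (e.symm (Sum.inl l)) * σ (x (e.symm (Sum.inl l))))) fun l _ => by ring, h0]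
    simp only [val] at hr
    linear_combination ((s d : Fˣ) : F) * hr
  choose b hb c hc using fun d => neighbour hne h2 hM hiso hn hno hg a (hD d) (horth d)
  have hinj : Function.Injective fun d : Sol =>
      ((⟨b d, hb d⟩, c d) : {y : ι // y ≠ a} × nOne σ) := by
    intro d d' h
    simp only [Prod.mk.injEq, Subtype.mk.injEq] at h
    have e' : (mon π (D d) : Matrix ι ι F) *ᵥ x = (mon π (D d') : Matrix ι ι F) *ᵥ x := by
      rw [hc d, hc d', h.1, h.2]
    refine Subtype.ext (funext fun l => ?_)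
    have e2 := congrFun e' (π (e.symm (Sum.inl l)))
    rw [happ, happ] at e2
    simpa [d₀] using val_injective (mul_right_cancel₀ (hfull _) e2)
  have h5 := Fintype.card_le_of_injective _ hinj
  rw [Fintype.card_prod, Fintype.card_subtype_compl, Fintype.card_subtype_eq, h10,
    Fintype.card_coe] at h5
  omega

/-- Dimension eleven with three norm-one scalars. -/
lemma eleven_small_false {g : GL ι F} (hg : g ∈ M) {a : ι} (hfull : ∀ y, MonG.col g a y ≠ 0)
    (h11 : Fintype.card ι = 11) (hC : Fintype.card (nOne σ) = 3) : False := by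
  classical
  obtain ⟨f⟩ : Nonempty (Fin 3 ↪ ι) := Function.Embedding.nonempty_of_card_le (by simp [h11])
  obtain ⟨e, he⟩ := split_three f.injective (A := Fin 4 × Fin 2) (by simp [h11])
  set x := MonG.col g a with hx
  obtain ⟨hcardF, hσ⟩ := exists_card_eq hne h2
  have hq : Nat.card (fixedField σ) = 2 := by
    have := card_nOne hne h2 (σ := σ)
    rw [hC] at this
    change qq σ = 2
    omega
  have hN : ∀ y, x y * σ (x y) = 1 := fun y => by
    have hy : x y * σ (x y) ≠ 0 :=
      mul_ne_zero (hfull _) fun e' => hfull y (σ.injective (by rw [e', map_zero]))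
    have h := hσ (x y * σ (x y))
    rw [map_mul, h2, hq, mul_comm (σ (x y))] at h
    exact mul_right_cancel₀ hy (by rw [one_mul, ← pow_two]; exact h.symm)
  obtain ⟨w, hw1, -⟩ := exists_val_ne hne h2 (1 : F) 1
  have hw : 1 + val w + val w * val w = 0 := by
    have h1 : w ^ 3 = 1 := by
      rw [← hC]
      exact pow_card_eq_one
    have h4 := congrArg val h1
    simp only [val, SubmonoidClass.coe_pow, Units.val_pow_eq_pow_val, Subgroup.coe_one,
      Units.val_one] at h4
    refine (mul_eq_zero.1 (?_ : (val w - 1) * (1 + val w + val w * val w) = 0)).resolve_left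
      (sub_ne_zero.2 hw1)
    linear_combination h4
  have hpair : ∀ i : Fin 4, ∃ r : nOne σ,
      x (e.symm (Sum.inr (i, 0))) * σ (x (e.symm (Sum.inr (i, 1)))) +
        val r * x (e.symm (Sum.inr (i, 1))) * σ (x (e.symm (Sum.inr (i, 0)))) = 0 := by
    intro i
    obtain ⟨r, hr⟩ := exists_phase (σ := σ)
      (p := x (e.symm (Sum.inr (i, 1))) * σ (x (e.symm (Sum.inr (i, 0)))))
      (r := -(x (e.symm (Sum.inr (i, 0))) * σ (x (e.symm (Sum.inr (i, 1))))))
      (by simp only [map_mul, map_neg, h2]; ring)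
    exact ⟨r, by linear_combination hr⟩
  choose r hr using hpair
  let τ : Equiv.Perm (Fin 3 ⊕ (Fin 4 × Fin 2)) :=
    Equiv.sumCongr (Equiv.refl _) (Equiv.prodCongr (Equiv.refl _) (Equiv.swap 0 1))
  let π : Equiv.Perm ι := (e.trans τ).trans e.symm
  let cls : Fin 3 ⊕ (Fin 4 × Fin 2) → Unit ⊕ Fin 4 :=
    Sum.elim (fun _ => Sum.inl ()) fun il => Sum.inr il.1
  let d₀ : ι → nOne σ := fun y => Sum.elim ![1, w, w * w] (fun il => ![1, r il.1] il.2) (e y)
  refine blocks_false hne h2 hM hiso hn hno hg hfull (fun y => cls (e y)) ?_ π (fun y => ?_) d₀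
    (fun κ => ?_) (fun ε _ => ?_) ?_
  · rintro (i | i)
    · exact ⟨e.symm (Sum.inl 0), by simp [cls]⟩
    · exact ⟨e.symm (Sum.inr (i, 0)), by simp [cls]⟩
  · simp only [π, Equiv.trans_apply, Equiv.apply_symm_apply]
    rcases e y with il | il <;> simp [τ, cls]
  · rw [Finset.sum_filter, ← Equiv.sum_comp e.symm, Fintype.sum_sum_type, Fintype.sum_prod_type]
    rcases κ with i | i
    · have h3 : ∑ l, val (![1, w, w * w] l) * x (e.symm (Sum.inl l)) * σ (x (e.symm (Sum.inl l))) = 0 := by
        simp only [mul_assoc, hN, mul_one, Fin.sum_univ_three]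
        simpa [val] using hw
      simpa [cls, d₀, π, τ] using h3
    · rw [Finset.sum_eq_zero (fun l _ => by simp [cls]), zero_add, Finset.sum_eq_single i]
      · simpa [cls, d₀, π, τ, Fin.sum_univ_two, val] using hr i
      · intro j _ hj; simp [cls, hj]
      · simp
  · set t := (ε * ∏ y, d₀ y)⁻¹
    have h3 : t ^ 3 = 1 := by rw [← hC]; exact pow_card_eq_one
    refine ⟨Sum.elim (fun _ => 1) (Pi.mulSingle (0 : Fin 4) (t ^ 2)), ?_⟩
    rw [← Equiv.prod_comp e.symm, Fintype.prod_sum_type, Fintype.prod_prod_type,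
      Fintype.prod_eq_single (0 : Fin 4)]
    · simp [cls, Fin.prod_univ_two]
      rw [← pow_mul, show 2 * 2 = 3 + 1 from rfl, pow_succ, h3, one_mul]
    · intro j hj; simp [cls, Pi.mulSingle_eq_of_ne hj]
  · rw [h11, hC, show Fintype.card (Unit ⊕ Fin 4) = 5 by simp]
    norm_num

lemma noline_false {g : GL ι F} (hg : g ∈ M) (hgm : ¬ Mon g) : False := by
  classical
  obtain ⟨a⟩ : Nonempty ι := Fintype.card_pos_iff.1 (by omega)
  have hfull : ∀ y, MonG.col g a y ≠ 0 := fun y e => zero_false hne h2 hM hiso hn hno hg hgm e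
  set C := Fintype.card (nOne σ) with hC
  have hC3 : 3 ≤ C := by rw [hC, ← Nat.card_eq_fintype_card]; exact three_le_card hne h2
  have count : ∀ k : ℕ, Fintype.card ι - 1 < C ^ k →
      (Fintype.card ι - 1) * C * C < C ^ (k + 2) := fun k hk => by
    rw [pow_add, mul_assoc, ← pow_two]
    exact Nat.mul_lt_mul_of_pos_right hk (pow_pos (by omega) _)
  have equ : ∀ b m, Fintype.card ι = b * 5 + m * 2 →
      Nonempty (ι ≃ (Fin b × Fin 5) ⊕ (Fin m × Fin 2)) := fun b m h =>
    Fintype.card_eq.1 (by simpa using h)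
  rcases Nat.even_or_odd (Fintype.card ι) with ⟨j, hj⟩ | ⟨j, hj⟩
  · by_cases hchar : (2 : F) = 0
    · have hsq : ∀ t : nOne σ, ∃ x, x ^ 2 = t := fun t => by
        refine Finite.injective_iff_surjective.1 (fun x y hxy => val_injective ?_) t
        have h1 := congrArg val hxy
        simp only [val, SubmonoidClass.coe_pow, Units.val_pow_eq_pow_val] at h1
        have h3 : (val x - val y) * (val x - val y) = 0 := by
          linear_combination h1 - (val x * val y - val y * val y) * hchar
        exact sub_eq_zero.1 (mul_self_eq_zero.1 h3)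
      obtain h5 | h6 | h7 := (show j = 5 ∨ j = 6 ∨ 7 ≤ j by omega)
      · obtain ⟨e⟩ := equ 0 5 (by omega)
        refine partition_false hne h2 hM hiso hn hno hg hfull e (fun t => ?_) ?_
        · obtain ⟨x, hx⟩ := hsq t
          refine ⟨Sum.elim (fun _ => 1) (Pi.mulSingle (0 : Fin 5) x), ?_⟩
          simp only [Sum.elim_inl, Sum.elim_inr, one_pow, Finset.prod_const_one, one_mul]
          rw [Fintype.prod_eq_single (0 : Fin 5) fun z hz => by simp only [Pi.mulSingle_eq_of_ne hz, one_pow]]
          simpa using hx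
        · rw [show 0 + 5 = 3 + 2 from rfl]
          refine count _ ?_
          have := Nat.pow_le_pow_left hC3 3
          omega
      · obtain ⟨e⟩ := equ 0 6 (by omega)
        refine partition_false hne h2 hM hiso hn hno hg hfull e (fun t => ?_) ?_
        · obtain ⟨x, hx⟩ := hsq t
          refine ⟨Sum.elim (fun _ => 1) (Pi.mulSingle (0 : Fin 6) x), ?_⟩
          simp only [Sum.elim_inl, Sum.elim_inr, one_pow, Finset.prod_const_one, one_mul]
          rw [Fintype.prod_eq_single (0 : Fin 6) fun z hz => by simp only [Pi.mulSingle_eq_of_ne hz, one_pow]]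
          simpa using hx
        · rw [show 0 + 6 = 4 + 2 from rfl]
          refine count _ ?_
          have := Nat.pow_le_pow_left hC3 4
          omega
      obtain ⟨i, rfl⟩ : ∃ i, j = 7 + i := ⟨j - 7, by omega⟩
      obtain ⟨e⟩ := equ 0 (7 + i) (by omega)
      refine partition_false hne h2 hM hiso hn hno hg hfull e (fun t => ?_) ?_
      · have hinj : Function.Injective fun x : nOne σ => x ^ 2 := fun x y hxy => by
          refine val_injective ?_
          have h1 := congrArg val hxy
          simp only [val, SubmonoidClass.coe_pow, Units.val_pow_eq_pow_val] at h1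
          have h3 : (val x - val y) * (val x - val y) = 0 := by
            linear_combination h1 - (val x * val y - val y * val y) * hchar
          exact sub_eq_zero.1 (mul_self_eq_zero.1 h3)
        obtain ⟨x, hx⟩ := (Finite.injective_iff_surjective.1 hinj) t
        refine ⟨Sum.elim (fun _ => 1) (Pi.mulSingle (⟨0, by omega⟩ : Fin (7 + i)) x), ?_⟩
        simp only [Sum.elim_inl, Sum.elim_inr, one_pow, Finset.prod_const_one, one_mul]
        rw [Fintype.prod_eq_single (⟨0, by omega⟩ : Fin (7 + i)) fun z hz => by simp only [Pi.mulSingle_eq_of_ne hz, one_pow]]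
        simpa using hx
      · rw [zero_add, show 7 + i = (5 + i) + 2 by omega]
        refine count _ ?_
        have := growth 5 13 hC3 ((by norm_num : 13 < 3 ^ 5).trans_le
          (Nat.pow_le_pow_left hC3 5)) (by omega) i
        omega
    · have hC4 : 4 ≤ C := by
        by_contra hlt
        have h1 := qq_add_one_le hne h2
        rw [Nat.card_eq_fintype_card, ← hC] at h1
        have h3 : qq σ = 2 := by have := two_le_qq hne h2; omega
        have h4 := FiniteField.cast_card_eq_zero F
        rw [card_F hne h2, h3] at h4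
        exact hchar (mul_self_eq_zero.1 (by push_cast at h4; linear_combination h4))
      obtain h5 | h6 | h7 := (show j = 5 ∨ j = 6 ∨ 7 ≤ j by omega)
      · exact ten_odd_false hne h2 hM hiso hn hno hg hfull (by omega) hchar
      · by_cases hbig : 12 ≤ C
        · obtain ⟨e⟩ := equ 2 1 (by omega)
          refine partition_false hne h2 hM hiso hn hno hg hfull e (fun t => ?_) ?_
          · refine ⟨Sum.elim ![t, 1] ![(t ^ 2)⁻¹], ?_⟩
            simp [Fin.prod_univ_two]
            group
          · rw [show 2 + 1 = 1 + 2 from rfl]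
            refine count _ ?_
            rw [pow_one]
            omega
        · exact small_twelve_false hne h2 hM hiso hn hno hg hfull (by omega) hchar (by omega) hC4
      obtain ⟨i, rfl⟩ : ∃ i, j = 7 + i := ⟨j - 7, by omega⟩
      obtain ⟨e⟩ := equ 2 (2 + i) (by omega)
      refine partition_false hne h2 hM hiso hn hno hg hfull e (fun t => ?_) ?_
      · refine ⟨Sum.elim (Pi.mulSingle (0 : Fin 2) t)
          (Pi.mulSingle (⟨0, by omega⟩ : Fin (2 + i)) ((t ^ 2)⁻¹)), ?_⟩
        simp only [Sum.elim_inl, Sum.elim_inr]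
        rw [Fintype.prod_eq_single (0 : Fin 2) fun z hz => by simp only [Pi.mulSingle_eq_of_ne hz, one_pow],
          Fintype.prod_eq_single (⟨0, by omega⟩ : Fin (2 + i)) fun z hz => by simp only [Pi.mulSingle_eq_of_ne hz, one_pow]]
        simp only [Pi.mulSingle_eq_same]
        group
      · rw [show 2 + (2 + i) = (2 + i) + 2 by omega]
        refine count _ ?_
        have := growth 2 13 hC3 ((by norm_num : 13 < 4 ^ 2).trans_le
          (Nat.pow_le_pow_left hC4 2)) (by omega) i
        omega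
  · obtain h5 | h6 := (show j = 5 ∨ 6 ≤ j by omega)
    · by_cases hC4 : 4 ≤ C
      · obtain ⟨e⟩ := equ 1 3 (by omega)
        refine partition_false hne h2 hM hiso hn hno hg hfull e (fun t => ?_) ?_
        · refine ⟨Sum.elim (fun _ => t) (Pi.mulSingle (0 : Fin 3) ((t ^ 2)⁻¹)), ?_⟩
          simp only [Sum.elim_inl, Sum.elim_inr, Fin.prod_univ_one]
          rw [Fintype.prod_eq_single (0 : Fin 3) fun z hz => by simp only [Pi.mulSingle_eq_of_ne hz, one_pow]]
          simp only [Pi.mulSingle_eq_same]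
          group
        · rw [show 1 + 3 = 2 + 2 from rfl]
          refine count _ ?_
          have := Nat.pow_le_pow_left hC4 2
          omega
      · exact eleven_small_false hne h2 hM hiso hn hno hg hfull (by omega) (by omega)
    obtain ⟨i, rfl⟩ : ∃ i, j = 6 + i := ⟨j - 6, by omega⟩
    obtain ⟨e⟩ := equ 1 (4 + i) (by omega)
    refine partition_false hne h2 hM hiso hn hno hg hfull e (fun t => ?_) ?_
    · refine ⟨Sum.elim (fun _ => t)
        (Pi.mulSingle (⟨0, by omega⟩ : Fin (4 + i)) ((t ^ 2)⁻¹)), ?_⟩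
      simp only [Sum.elim_inl, Sum.elim_inr, Fin.prod_univ_one]
      rw [Fintype.prod_eq_single (⟨0, by omega⟩ : Fin (4 + i)) fun z hz => by simp only [Pi.mulSingle_eq_of_ne hz, one_pow]]
      simp only [Pi.mulSingle_eq_same]
      group
    · rw [show 1 + (4 + i) = (3 + i) + 2 by omega]
      refine count _ ?_
      have := growth 3 12 hC3 ((by norm_num : 12 < 3 ^ 3).trans_le
        (Nat.pow_le_pow_left hC3 3)) (by omega) i
      omega

omit hno in
/-- Some non-monomial element of `M` fixes a coordinate line. -/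
theorem exists_fix_line {g : GL ι F} (hg : g ∈ M) (hgm : ¬ Mon g) :
    ∃ k ∈ M, ¬ Mon k ∧ ∃ a, ∀ y, y ≠ a → (k : Matrix ι ι F) y a = 0 := by
  by_contra hcon
  exact noline_false hne h2 hM hiso hn (fun k hk a ha => by_contra fun h => hcon ⟨k, hk, h, a, ha⟩)
    hg hgm

end CfsgLib.ClassicalMax.UDec
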