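/-
Overgroups of the monomial unitary group with an element fixing a coordinate line contain all transvections.
-/
import Cfsg.Agent.Lib.ClassicalMax.UDecompLine
set_option autoImplicit false
set_option maxHeartbeats 800000

namespace CfsgLib.ClassicalMax.UDec

open Matrix Cfsg.Geo MonG Unit

variable {ι : Type} [Fintype ι] [DecidableEq ι] {F : Type*} [Field F] [Fintype F] [DecidableEq F]
  {σ : F ≃+* F} {M : Subgroup (GL ι F)}
  (hne : σ ≠ RingEquiv.refl F) (h2 : ∀ a : F, σ (σ a) = a)
  (hM : HasU σ M) (hiso : M ≤ isoOf (stdF (ι := ι) σ)) (hn : 10 ≤ Fintype.card ι)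

/-- `u` is orthogonal to `e_a` and carries compensated pseudo-reflections in `M`. -/
def InR (σ : F ≃+* F) (M : Subgroup (GL ι F)) (a : ι) (u : ι → F) : Prop :=
  u a = 0 ∧ stdF σ u u = 1 ∧ ∀ ζ : nOne σ, ∃ h ∈ M, ∀ x, (h : Matrix ι ι F) *ᵥ x =
    x + ((val ζ - 1) * stdF σ x u) • u + ((σ (val ζ) - 1) * x a) • Pi.single a 1

omit [DecidableEq F] in
lemma exists_trace_zero_avoid (hne : σ ≠ RingEquiv.refl F) (h2 : ∀ a : F, σ (σ a) = a)
    (hq : qq σ ≠ 2) (e : F) : ∃ c : F, c ≠ 0 ∧ c ≠ e ∧ σ c = -c := by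
  classical
  obtain ⟨τ, hτ0, hτ⟩ := exists_trace_zero hne h2
  have h3 : (2 : ℕ) < Fintype.card (fixedField σ) := by
    have := two_le_qq hne h2
    rw [← Nat.card_eq_fintype_card]
    change 2 < qq σ
    omega
  obtain ⟨l, hmem, hl⟩ := Finset.exists_mem_notMem_of_card_lt_card
    (s := ({0, e / τ} : Finset F)) (t := Finset.univ.image fun x : fixedField σ => (x : F))
    (Finset.card_le_two.trans_lt (by
      rw [Finset.card_image_of_injective _ Subtype.val_injective, Finset.card_univ]; exact h3))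
  simp only [Finset.mem_insert, Finset.mem_singleton, not_or] at hl
  obtain ⟨x, -, rfl⟩ := Finset.mem_image.1 hmem
  refine ⟨(x : F) * τ, mul_ne_zero hl.1 hτ0, fun h => hl.2 ?_, ?_⟩
  · rw [← h, mul_div_cancel_right₀ _ hτ0]
  · rw [map_mul, mem_fixedField.1 x.2, hτ, mul_neg]

include hne h2 hM hiso hn

omit hn [DecidableEq F] in
lemma inR_col {k : GL ι F} (hk : k ∈ M) {a b : ι} (hab : b ≠ a)
    (ha : ∀ y, y ≠ a → (k : Matrix ι ι F) y a = 0) : InR σ M a (MonG.col k b) := by
  have hf := isU (ι := ι) hne h2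
  have hcol : MonG.col k a = MonG.col k a a • Pi.single a (1 : F) := by
    funext y
    by_cases hy : y = a
    · subst hy; simp
    · simp [hy, MonG.col, ha y hy]
  set c := MonG.col k a a with hc
  have hcn : c * σ c = 1 := by
    have h1 := col_norm hiso hk a
    rw [hcol, hf.smul_left, smul_right hf, single_stdF] at h1
    simpa using h1
  have hua : MonG.col k b a = 0 := by
    have h1 := col_orth hiso hk hab
    rw [hcol, smul_right hf, stdF_single, map_one, mul_one] at h1
    exact (mul_eq_zero.1 h1).resolve_left fun e => by rw [e, mul_zero] at hcn; exact zero_ne_one hcn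
  refine ⟨hua, col_norm hiso hk b, fun ζ => ?_⟩
  have hd : mon 1 (dfun b (ζ : Fˣ) a ((ζ : Fˣ))⁻¹) ∈ M := by
    refine hM _ _ (fun x => ?_) (by rw [det_mon, prod_dfun hab]; simp)
    unfold dfun
    rw [Function.update_apply, Function.update_apply]
    split_ifs
    · exact (nOne σ).inv_mem ζ.2
    · exact ζ.2
    · exact (nOne σ).one_mem
  refine ⟨_, M.mul_mem (M.mul_mem hk hd) (M.inv_mem hk), fun x => ?_⟩
  set y := ((k⁻¹ : GL ι F) : Matrix ι ι F) *ᵥ x with hy
  have hy' : ∀ i, y i = stdF σ x (MonG.col k i) := fun i => by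
    have h1 := form_mulVec_left (hiso (M.inv_mem hk)) x (Pi.single i (1 : F))
    rw [inv_inv, col_eq', stdF_single, map_one, mul_one] at h1
    exact h1
  have hdy : (mon 1 (dfun b (ζ : Fˣ) a ((ζ : Fˣ))⁻¹) : Matrix ι ι F) *ᵥ y
      = y + (((val ζ - 1) * y b) • Pi.single b 1 + ((σ (val ζ) - 1) * y a) • Pi.single a 1) := by
    funext i
    rw [dg_mulVec, sigma_val]
    by_cases h1 : i = b
    · subst h1; simp [dfun, hab, val]; ring
    by_cases h3 : i = a
    · subst h3; simp [dfun, h1, val]; ring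
    simp [dfun, h1, h3]
  rw [gl_mulVec_mul, gl_mulVec_mul, ← hy, hdy, mulVec_add, mulVec_add, mulVec_smul, mulVec_smul,
    col_eq', col_eq', hy, gl_mulVec_inv_mulVec, ← hy, hy', hy', ← add_assoc]
  congr 1
  rw [hcol, smul_right hf, stdF_single, map_one, mul_one, smul_smul]
  congr 1
  linear_combination ((σ (val ζ) - 1) * x a) * hcn

omit hn [DecidableEq F] hM in
lemma inR_conj {a : ι} {u : ι → F} (hu : InR σ M a u) {h : GL ι F} (hh : h ∈ M) {c : F}
    (hha : (h : Matrix ι ι F) *ᵥ Pi.single a 1 = c • Pi.single a 1) :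
    InR σ M a ((h : Matrix ι ι F) *ᵥ u) := by
  have hf := isU (ι := ι) hne h2
  have hhi := mem_isoOf.1 (hiso hh)
  have hcn : c * σ c = 1 := by
    have h1 := hhi (Pi.single a 1) (Pi.single a 1)
    rw [hha, hf.smul_left, smul_right hf, single_stdF] at h1
    simpa using h1
  have hc0 : c ≠ 0 := fun e => by rw [e, zero_mul] at hcn; exact zero_ne_one hcn
  refine ⟨?_, by rw [hhi]; exact hu.2.1, fun ζ => ?_⟩
  · have h1 := hhi u (Pi.single a 1)
    rw [hha, smul_right hf, stdF_single, stdF_single, hu.1] at h1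
    simp at h1
    exact h1.resolve_left hc0
  obtain ⟨P, hP, hPx⟩ := hu.2.2 ζ
  refine ⟨_, M.mul_mem (M.mul_mem hh hP) (M.inv_mem hh), fun x => ?_⟩
  have h1 := form_mulVec_left (hiso (M.inv_mem hh)) x u
  have h3 := form_mulVec_left (hiso (M.inv_mem hh)) x (Pi.single a (1 : F))
  rw [inv_inv] at h1 h3
  rw [hha, smul_right hf, stdF_single, stdF_single, map_one, mul_one, mul_one] at h3
  rw [gl_mulVec_mul, gl_mulVec_mul, hPx, mulVec_add, mulVec_add, gl_mulVec_inv_mulVec, mulVec_smul,
    mulVec_smul, hha, h1, h3, smul_smul]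
  congr 2
  linear_combination ((σ (val ζ) - 1) * x a) * hcn

omit hn [DecidableEq F] in
lemma inR_mon {a : ι} {u : ι → F} (hu : InR σ M a u) (π : Equiv.Perm ι) (hπ : π a = a)
    (d : ι → nOne σ) : InR σ M a fun y => val (d (π.symm y)) * u (π.symm y) := by
  obtain ⟨D, hD, -, hD'⟩ := exists_mon hM π a d
  have h1 := inR_conj hne h2 hiso hu hD (c := (D a : F))
    (by rw [mon_mulVec_single, hπ, mul_one, ← Pi.single_smul, smul_eq_mul, mul_one])
  have e : (mon π D : Matrix ι ι F) *ᵥ u = fun y => val (d (π.symm y)) * u (π.symm y) := by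
    funext y
    rw [mon_mulVec]
    by_cases h : π.symm y = a
    · rw [h, hu.1, mul_zero, mul_zero]
    · rw [hD' _ h]
  rwa [e] at h1

omit hne h2 hM hiso hn [Fintype F] [DecidableEq F] in
lemma exists_perm_out (A fx : Finset ι) (h : 2 * A.card + fx.card ≤ Fintype.card ι) :
    ∀ A' ⊆ A, Disjoint A fx → ∃ π : Equiv.Perm ι, (∀ y ∈ fx, π y = y) ∧
      ∀ y ∈ A', π y ∉ A ∪ fx := by
  intro A' hA' hdis
  induction A' using Finset.induction with
  | empty => exact ⟨1, fun y _ => rfl, by simp⟩
  | insert x A' hx ih =>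
    obtain ⟨π, h1, h3⟩ := ih ((Finset.subset_insert _ _).trans hA')
    have hxA : x ∈ A := hA' (Finset.mem_insert_self _ _)
    have hcard : A'.card + 1 ≤ A.card := by
      have := Finset.card_le_card hA'
      rwa [Finset.card_insert_of_notMem hx] at this
    obtain ⟨z, -, hz⟩ := Finset.exists_mem_notMem_of_card_lt_card
      (s := A ∪ fx ∪ A'.image π) (t := Finset.univ)
      (by
        have e1 := Finset.card_union_le (A ∪ fx) (A'.image π)
        have e2 := Finset.card_union_le A fx
        have e3 := Finset.card_image_le (s := A') (f := π)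
        rw [Finset.card_univ]
        omega)
    simp only [Finset.mem_union, Finset.mem_image, not_or, not_exists, not_and] at hz
    refine ⟨(Equiv.swap (π x) z) * π, fun y hy => ?_, fun y hy => ?_⟩
    · rw [Equiv.Perm.mul_apply, h1 y hy, Equiv.swap_apply_of_ne_of_ne]
      · intro e
        have : x = y := π.injective ((e.symm.trans (h1 y hy).symm))
        subst this
        exact Finset.disjoint_left.1 hdis hxA hy
      · rintro rfl
        exact hz.1.2 hy
    · rw [Equiv.Perm.mul_apply]
      rcases Finset.mem_insert.1 hy with rfl | hy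
      · rw [Equiv.swap_apply_left, Finset.mem_union, not_or]
        exact hz.1
      · rw [Equiv.swap_apply_of_ne_of_ne (fun e => hx (by rw [← π.injective e]; exact hy)) (fun e => hz.2 y hy e)]
        exact h3 y hy

omit [DecidableEq F] in
lemma exists_large {k : GL ι F} (hk : k ∈ M) (hkm : ¬ Mon k) {a : ι}
    (ha : ∀ y, y ≠ a → (k : Matrix ι ι F) y a = 0) :
    ∀ r ≤ 5, ∃ u, InR σ M a u ∧ ∃ S : Finset ι, r ≤ S.card ∧ ∀ y ∈ S, u y ≠ 0 := by
  classical
  have hf := isU (ι := ι) hne h2
  intro r hr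
  induction r with
  | zero =>
    obtain ⟨b, hb, -⟩ := exists_notMem (by omega) a a a
    exact ⟨_, inR_col hne h2 hM hiso hk hb ha, ∅, le_rfl, by simp⟩
  | succ r ih =>
    by_cases hr2 : r + 1 ≤ 2
    · obtain ⟨b, hb, y, y', hyy, h1, h3⟩ : ∃ b, b ≠ a ∧ ∃ y y', y ≠ y' ∧ MonG.col k b y ≠ 0 ∧
          MonG.col k b y' ≠ 0 := by
        by_contra hcon
        push Not at hcon
        apply hkm
        intro b
        by_cases hb : b = a
        · exact ⟨a, fun y hy => hb ▸ ha y hy⟩
        obtain ⟨y₀, hy₀⟩ : ∃ y₀, MonG.col k b y₀ ≠ 0 := Function.ne_iff.1 (fun e => by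
          have := gl_mulVec_ne_zero k (x := Pi.single b 1) (fun e' => by simpa using congrFun e' b)
          rw [col_eq'] at this
          exact this e)
        exact ⟨y₀, fun y hy => hcon b hb y₀ y (Ne.symm hy) hy₀⟩
      refine ⟨_, inR_col hne h2 hM hiso hk hb ha, {y, y'}, ?_, fun x hx => ?_⟩
      · rw [Finset.card_pair hyy]; exact hr2
      · rcases Finset.mem_insert.1 hx with rfl | hx
        · exact h1
        · rw [Finset.mem_singleton.1 hx]; exact h3
    obtain ⟨u, hu, S₀, hS₀, hS₀u⟩ := ih (by omega)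
    set S := Finset.univ.filter fun y => u y ≠ 0 with hS
    have hSu : ∀ y, y ∈ S ↔ u y ≠ 0 := fun y => by simp [S]
    have hSr : r ≤ S.card := hS₀.trans (Finset.card_le_card fun y hy => (hSu y).2 (hS₀u y hy))
    by_cases hbig : r + 1 ≤ S.card
    · exact ⟨u, hu, S, hbig, fun y hy => (hSu y).1 hy⟩
    obtain ⟨b, hb⟩ := Finset.card_pos.1 (show 0 < S.card by omega)
    have haS : a ∉ S := fun h => (hSu a).1 h hu.1
    obtain ⟨π, hπ1, hπ2⟩ := exists_perm_out (ι := ι) (S.erase b) {a, b}
      (by have := Finset.card_le_two (a := a) (b := b); rw [Finset.card_erase_of_mem hb]; omega)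
      _ subset_rfl (by
        rw [Finset.disjoint_left]
        intro x hx hx'
        rcases Finset.mem_insert.1 hx' with rfl | hx'
        · exact haS (Finset.mem_of_mem_erase hx)
        · exact Finset.ne_of_mem_erase hx (Finset.mem_singleton.1 hx'))
    set u' : ι → F := fun y => u (π.symm y) with hu'
    have hu'R : InR σ M a u' := by
      have := inR_mon hne h2 hM hiso hu π (hπ1 a (by simp)) (fun _ => 1)
      simpa [val] using this
    have hπb : π b = b := hπ1 b (by simp)
    have hu'b : u' b = u b := by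
      simp only [hu', show π.symm b = b by rw [Equiv.symm_apply_eq, hπb]]
    have hout : ∀ j ∈ S.erase b, u' j = 0 := fun j hj => by
      by_contra hne'
      have hi : π.symm j ∈ S := (hSu _).2 hne'
      by_cases hib : π.symm j = b
      · rw [Equiv.symm_apply_eq, hπb] at hib
        exact Finset.ne_of_mem_erase hj hib
      · exact hπ2 _ (Finset.mem_erase.2 ⟨hib, hi⟩)
          (by rw [Equiv.apply_symm_apply]; exact Finset.mem_union_left _ hj)
    have hβ : stdF σ u' u = u b * σ (u b) := by
      rw [stdF, Finset.sum_eq_single b]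
      · rw [hu'b]
      · intro j _ hj
        by_cases hjS : j ∈ S
        · rw [hout j (Finset.mem_erase.2 ⟨hj, hjS⟩), zero_mul]
        · have : u j = 0 := by simpa [hSu] using hjS
          rw [this, map_zero, mul_zero]
      · simp
    have hub := (hSu b).1 hb
    have hσub : σ (u b) ≠ 0 := fun e => hub (σ.injective (by rw [e, map_zero]))
    obtain ⟨ζ, hζ, hζ1⟩ := exists_sigma_ne hne h2
    obtain ⟨P, hP, hPx⟩ := hu.2.2 ζ
    have hPa : (P : Matrix ι ι F) *ᵥ Pi.single a 1 = σ (val ζ) • Pi.single a 1 := by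
      rw [hPx, single_stdF, hu.1, map_zero]
      simp only [mul_zero, zero_smul, add_zero, Pi.single_eq_same, mul_one]
      module
    have hy := inR_conj hne h2 hiso hu'R hP hPa
    refine ⟨_, hy, insert b (S.erase b ∪ (S.erase b).image π), ?_, ?_⟩
    · have hdis : Disjoint (S.erase b) ((S.erase b).image π) := by
        rw [Finset.disjoint_left]
        intro x hx hx'
        obtain ⟨i, hi, rfl⟩ := Finset.mem_image.1 hx'
        exact hπ2 i hi (Finset.mem_union_left _ hx)
      rw [Finset.card_insert_of_notMem, Finset.card_union_of_disjoint hdis,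
        Finset.card_image_of_injective _ π.injective, Finset.card_erase_of_mem hb]
      · omega
      · intro hb'
        rcases Finset.mem_union.1 hb' with hb' | hb'
        · exact Finset.ne_of_mem_erase hb' rfl
        · obtain ⟨i, hi, e⟩ := Finset.mem_image.1 hb'
          exact hπ2 i hi (Finset.mem_union_right _ (by simp [e]))
    · intro y hy
      rw [hPx, hu'R.1, hβ]
      simp only [Pi.add_apply, Pi.smul_apply, smul_eq_mul, mul_zero, zero_mul, add_zero]
      rcases Finset.mem_insert.1 hy with rfl | hy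
      · rw [hu'b]
        intro e
        have h1 : u y * (1 + (val ζ - 1) * (u y * σ (u y))) = 0 := by linear_combination e
        have h3 := (mul_eq_zero.1 h1).resolve_left hub
        apply hζ
        have h4 := congrArg σ h3
        rw [map_add, map_mul, map_mul, map_sub, map_one, map_zero, h2] at h4
        have h5 : (σ (val ζ) - val ζ) * (u y * σ (u y)) = 0 := by linear_combination h4 - h3
        exact sub_eq_zero.1 ((mul_eq_zero.1 h5).resolve_right (mul_ne_zero hub hσub))
      rcases Finset.mem_union.1 hy with hy | hy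
      · rw [hout y hy, zero_add]
        exact mul_ne_zero (mul_ne_zero (sub_ne_zero.2 hζ1) (mul_ne_zero hub hσub))
          ((hSu y).1 (Finset.mem_of_mem_erase hy))
      · obtain ⟨i, hi, rfl⟩ := Finset.mem_image.1 hy
        have h0 : u (π i) = 0 := by
          by_contra hne'
          by_cases hib : π i = b
          · exact hπ2 i hi (Finset.mem_union_right _ (by simp [hib]))
          · exact hπ2 i hi (Finset.mem_union_left _ (Finset.mem_erase.2 ⟨hib, (hSu _).2 hne'⟩))
        rw [h0, mul_zero, add_zero]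
        simp only [hu', Equiv.symm_apply_apply]
        exact (hSu i).1 (Finset.mem_of_mem_erase hi)

omit hn in
/-- The difference of two members of `InR` with pairing one is a centre of transvections in `M`. -/
lemma centre_mem {a : ι} {u : ι → F} (hu : InR σ M a u) (d : ι → nOne σ)
    (hd : ∑ y, (val (d y) - 1) * (u y * σ (u y)) = 0) :
    (fun y => (val (d y) - 1) * u y) ∈ uSet (isU hne h2) M := by
  classical
  have hf := isU (ι := ι) hne h2
  set u' : ι → F := fun y => val (d y) * u y with hu'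
  set v : ι → F := fun y => (val (d y) - 1) * u y with hv
  have hu'R : InR σ M a u' := inR_mon hne h2 hM hiso hu 1 rfl d
  have hvu : stdF σ v u = 0 := by
    rw [← hd, stdF]; exact Finset.sum_congr rfl fun y _ => by simp [v, mul_assoc]
  have huu' : u' = u + v := funext fun y => by simp [u', v]; ring
  have hvv : stdF σ v v = 0 := by
    have h1 := hu'R.2.1
    rw [huu', hf.add_left, add_right hf, add_right hf, hu.2.1, hvu, eq_zero_comm hf hvu] at h1
    linear_combination h1
  have hva : v a = 0 := by simp [v, hu.1]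
  -- the product of two compensated reflections
  have hg : ∀ ζ : nOne σ, ∃ h ∈ M, ∀ x, (h : Matrix ι ι F) *ᵥ x =
      x + ((val ζ - 1) * stdF σ x v) • u +
        (-(σ (val ζ) - 1) * stdF σ x u + (val ζ - 1) * stdF σ x v) • v := by
    intro ζ
    obtain ⟨P, hP, hPx⟩ := hu'R.2.2 ζ
    obtain ⟨Q, hQ, hQx⟩ := hu.2.2 ζ⁻¹
    have hinv : val ζ⁻¹ = σ (val ζ) := by rw [sigma_val]; simp [val]
    refine ⟨P * Q, M.mul_mem hP hQ, fun x => ?_⟩
    rw [gl_mulVec_mul, hQx, hPx, hinv, h2]
    have e1 : stdF σ (x + ((σ (val ζ) - 1) * stdF σ x u) • u +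
        ((val ζ - 1) * x a) • Pi.single a 1) u' =
        stdF σ x u + stdF σ x v + (σ (val ζ) - 1) * stdF σ x u := by
      rw [hf.add_left, hf.add_left, hf.smul_left, hf.smul_left, single_stdF, hu'R.1, huu',
        add_right hf, add_right hf, hu.2.1, eq_zero_comm hf hvu]
      simp
    rw [e1]
    have hn1 := val_norm ζ
    funext y
    simp only [Pi.add_apply, Pi.smul_apply, smul_eq_mul, hu.1, huu']
    by_cases hy : y = a
    · subst hy
      simp [hu.1, hva]
      linear_combination x y * hn1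
    · simp [hy]
      linear_combination (stdF σ x u * u y + stdF σ x u * v y) * hn1
  choose G hG hGx using hg
  have hfv : ∀ ζ x, stdF σ ((G ζ : Matrix ι ι F) *ᵥ x) v = stdF σ x v := fun ζ x => by
    rw [hGx, hf.add_left, hf.add_left, hf.smul_left, hf.smul_left, hvv, eq_zero_comm hf hvu]
    ring
  have hfu : ∀ ζ x, stdF σ ((G ζ : Matrix ι ι F) *ᵥ x) u
      = stdF σ x u + (val ζ - 1) * stdF σ x v := fun ζ x => by
    rw [hGx, hf.add_left, hf.add_left, hf.smul_left, hf.smul_left, hvu, hu.2.1]
    ring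
  let A : AddSubgroup F :=
    { carrier := {x | uTv hf v (x - σ x) ∈ M}
      zero_mem' := by
        simp only [Set.mem_setOf_eq, map_zero, sub_zero]
        have : uTv hf v 0 = 1 := gl_ext_mulVec fun x => by
          rw [uTv_mulVec hf hvv, zero_mul, zero_smul, add_zero, Units.val_one, one_mulVec]
        rw [this]; exact M.one_mem
      add_mem' := fun {x y} hx hy => by
        simp only [Set.mem_setOf_eq] at *
        rw [map_add, add_sub_add_comm, ← uTv_mul hf hvv]
        exact M.mul_mem hx hy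
      neg_mem' := fun {x} hx => by
        simp only [Set.mem_setOf_eq] at *
        have : uTv hf v (-x - σ (-x)) = (uTv hf v (x - σ x))⁻¹ := by
          refine eq_inv_of_mul_eq_one_left ?_
          rw [uTv_mul hf hvv]
          refine gl_ext_mulVec fun z => ?_
          rw [uTv_mulVec hf hvv, map_neg, Units.val_one, one_mulVec,
            show -x - -σ x + (x - σ x) = 0 by ring, zero_mul, zero_smul, add_zero]
        rw [this]; exact M.inv_mem hx }
  have hA : ∀ ζ η : nOne σ, val (ζ * η⁻¹) + val η - val ζ ∈ A := fun ζ η => by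
    have h1 := val_norm ζ
    have h3 := val_norm η
    set c := val (ζ * η⁻¹) + val η - val ζ - σ (val (ζ * η⁻¹) + val η - val ζ) with hc
    have hcv : c = (σ (val η) - 1) * (val ζ - 1) - (σ (val ζ) - 1) * (val η - 1) := by
      have e : val (ζ * η⁻¹) = val ζ * σ (val η) := by
        rw [sigma_val η]; simp [val]
      rw [hc, e, map_sub, map_add, map_mul, h2]
      ring
    have key : uTv hf v c = G ζ * G η * (G η * G ζ)⁻¹ := by
      rw [eq_mul_inv_iff_mul_eq]
      refine gl_ext_mulVec fun x => ?_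
      rw [gl_mulVec_mul, uTv_mulVec hf hvv, gl_mulVec_mul, gl_mulVec_mul]
      simp only [hGx, hf.add_left, hf.smul_left, hvv, eq_zero_comm hf hvu, hvu, hu.2.1, hcv]
      module
    change uTv hf v c ∈ M
    rw [key]
    exact M.mul_mem (M.mul_mem (hG ζ) (hG η)) (M.inv_mem (M.mul_mem (hG η) (hG ζ)))
  have hS0 : ∑ η : nOne σ, val η = 0 := by
    obtain ⟨ε, hε, -⟩ := exists_val_ne hne h2 1 1
    have h1 : ∑ η : nOne σ, val (ε * η) = ∑ η : nOne σ, val η :=
      Equiv.sum_comp (Equiv.mulLeft ε) (fun η => val η)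
    have h3 : (val ε - 1) * ∑ η : nOne σ, val η = 0 := by
      rw [sub_mul, one_mul, Finset.mul_sum, sub_eq_zero, ← h1]
      exact Finset.sum_congr rfl fun η _ => by simp [val]
    exact (mul_eq_zero.1 h3).resolve_left (sub_ne_zero.2 hε)
  have hC1 : (Fintype.card (nOne σ) : F) = 1 := by
    have hle : Fintype.card (nOne σ) ≤ qq σ + 1 := by
      rw [← Finset.card_univ, ← Finset.card_image_of_injective Finset.univ
        (f := fun x : nOne σ => (x : Fˣ)) Subtype.val_injective]
      refine (Finset.card_le_card (t := Finset.univ.filter fun x : Fˣ => x ^ (qq σ + 1) = 1)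
        fun x hx => ?_).trans (IsCyclic.card_pow_eq_one_le (by omega))
      obtain ⟨y, -, rfl⟩ := Finset.mem_image.1 hx
      refine Finset.mem_filter.2 ⟨Finset.mem_univ _, Units.ext ?_⟩
      rw [Units.val_pow_eq_pow_val, Units.val_one, pow_succ, qq,
        ← (exists_card_eq hne h2).2, mul_comm]
      exact val_norm y
    have hge := qq_add_one_le hne h2
    rw [Nat.card_eq_fintype_card] at hge
    have h4 := FiniteField.cast_card_eq_zero F
    rw [card_F hne h2, Nat.cast_pow] at h4
    rw [le_antisymm hle hge, Nat.cast_add, Nat.cast_one, eq_zero_of_pow_eq_zero h4, zero_add]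
  have hC : ∀ ζ : nOne σ, val ζ ∈ A := fun ζ => by
    have h1 := A.sum_mem (t := (Finset.univ : Finset (nOne σ))) fun η _ => hA ζ η
    rw [Finset.sum_sub_distrib, Finset.sum_add_distrib, hS0, Finset.sum_const, Finset.card_univ,
      nsmul_eq_mul, hC1, one_mul] at h1
    have e : ∑ η : nOne σ, val (ζ * η⁻¹) = 0 := by
      rw [← hS0]
      exact Equiv.sum_comp ((Equiv.inv _).trans (Equiv.mulLeft ζ)) (fun η => val η)
    rw [e, add_zero, zero_sub] at h1
    simpa using A.neg_mem h1
  have hall : ∀ x : F, x ∈ A := fun x => by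
    obtain ⟨z₁, z₂, z₃, z₄, hz⟩ := exists_four_sum hne h2 (one_ne_zero (α := F))
      (one_ne_zero (α := F)) (one_ne_zero (α := F)) (one_ne_zero (α := F)) x
    rw [← hz, one_mul, one_mul, one_mul, one_mul]
    exact A.add_mem (A.add_mem (A.add_mem (hC _) (hC _)) (hC _)) (hC _)
  refine ⟨hvv, fun c hc => ?_⟩
  obtain ⟨e, he⟩ := exists_trace_eq hf (s := 1) (map_one σ)
  have h1 : uTv hf v (c * e - σ (c * e)) ∈ M := hall (c * e)
  rwa [map_mul, hc, show c * e - -c * σ e = c by linear_combination c * he] at h1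

omit hM hiso hn in
/-- Phases on two coordinates making an isotropic combination. -/
lemma exists_pair {A B : F} (hA : A ≠ 0) (hB : B ≠ 0) (hA' : σ A = A) (hB' : σ B = B) :
    ∃ ζ η : nOne σ, val ζ ≠ 1 ∧ val η ≠ 1 ∧
      (val ζ - 1) * A + (val η - 1) * B ≠ 0 ∧
      (val ζ - 1) * A + (val η - 1) * B + σ ((val ζ - 1) * A + (val η - 1) * B) = 0 := by
  classical
  set U := (Finset.univ : Finset (nOne σ)).erase 1
  have hU : qq σ ≤ U.card := by
    rw [Finset.card_erase_of_mem (Finset.mem_univ _), Finset.card_univ, ← Nat.card_eq_fintype_card]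
    have := qq_add_one_le hne h2
    omega
  set T : F → Finset F := fun K => U.image fun ζ => K * (val ζ + σ (val ζ) - 2)
  have hT : ∀ K : F, K ≠ 0 → σ K = K → qq σ ≤ 2 * (T K).card := fun K hK hK' => by
    refine hU.trans (Finset.card_le_mul_card_image _ 2 fun t ht => ?_)
    refine (Finset.card_le_card fun ζ hζ => ?_).trans (trace_fibre h2 (t := t + 2 * K) hK)
    simp only [Finset.mem_filter, Finset.mem_univ, true_and] at hζ ⊢
    rw [← hζ.2, map_mul, hK']; ring
  have hsub : ∀ K : F, K ≠ 0 → σ K = K →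
      T K ⊆ (Finset.univ.filter fun x : F => σ x = x).erase 0 := fun K hK hK' x hx => by
    obtain ⟨ζ, hζ, rfl⟩ := Finset.mem_image.1 hx
    refine Finset.mem_erase.2 ⟨mul_ne_zero hK fun e => ?_, Finset.mem_filter.2 ⟨Finset.mem_univ _, ?_⟩⟩
    · refine Finset.ne_of_mem_erase hζ (val_injective ?_)
      have h1 : (val ζ - 1) * (val ζ - 1) = 0 := by
        linear_combination val ζ * e - val_norm ζ
      simpa [val] using sub_eq_zero.1 (mul_self_eq_zero.1 h1)
    · rw [map_mul, map_sub, map_add, h2, hK', map_ofNat]; ring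
  obtain ⟨x, hx⟩ : (T A ∩ T (-B)).Nonempty := by
    refine Finset.inter_nonempty_of_card_lt_card_add_card (hsub A hA hA')
      (hsub (-B) (neg_ne_zero.2 hB) (by rw [map_neg, hB'])) ?_
    have h1 := hT A hA hA'
    have h3 := hT (-B) (neg_ne_zero.2 hB) (by rw [map_neg, hB'])
    have h4 : (Finset.univ.filter fun x : F => σ x = x).card = qq σ := by
      rw [qq, Nat.card_eq_fintype_card, Fintype.card_subtype]
      exact congrArg Finset.card (Finset.filter_congr fun x _ => mem_fixedField.symm)
    have := two_le_qq hne h2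
    rw [Finset.card_erase_of_mem (by simp), h4]
    omega
  obtain ⟨hx1, hx2⟩ := Finset.mem_inter.1 hx
  obtain ⟨ζ, hζ, rfl⟩ := Finset.mem_image.1 hx1
  obtain ⟨η, hη, e⟩ := Finset.mem_image.1 hx2
  have hne1 : ∀ {z : nOne σ}, z ∈ U → val z ≠ 1 := fun hz h =>
    Finset.ne_of_mem_erase hz (val_injective (by simpa [val] using h))
  have hinv : ∀ z : nOne σ, val z⁻¹ = σ (val z) := fun z => by rw [sigma_val]; simp [val]
  by_cases h0 : (val ζ - 1) * A + (val η - 1) * B = 0
  · by_cases h1 : (val ζ - 1) * A + (σ (val η) - 1) * B = 0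
    · have h3 : σ (val η) = val η := by
        have h5 : (σ (val η) - val η) * B = 0 := by linear_combination h1 - h0
        exact sub_eq_zero.1 ((mul_eq_zero.1 h5).resolve_right hB)
      have h4 : σ (val ζ) = val ζ := by
        have h5 := congrArg σ h0
        rw [map_add, map_mul, map_mul, map_sub, map_sub, map_one, hA', hB', h3, map_zero] at h5
        have h6 : (σ (val ζ) - val ζ) * A = 0 := by linear_combination h5 - h0
        exact sub_eq_zero.1 ((mul_eq_zero.1 h6).resolve_right hA)
      have hm : ∀ {z : nOne σ}, z ∈ U → σ (val z) = val z → val z = -1 := fun {z} hz hs => by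
        have h := val_norm z
        rw [hs] at h
        exact (mul_self_eq_one_iff.1 h).resolve_left (hne1 hz)
      have hζm := hm hζ h4
      have hηm := hm hη h3
      rw [hζm, hηm] at h0
      have h20 : (2 : F) ≠ 0 := fun h => hne1 hζ (by rw [hζm]; linear_combination -h)
      have hAB : A = -B := by
        have : (2 : F) * (A + B) = 0 := by linear_combination -h0
        exact eq_neg_of_add_eq_zero_left ((mul_eq_zero.1 this).resolve_left h20)
      obtain ⟨z, hz, hz1⟩ := exists_sigma_ne hne h2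
      refine ⟨z, z⁻¹, hz1, ?_, ?_, ?_⟩
      · rw [hinv]; exact fun h => hz1 (σ.injective (by rw [h, map_one]))
      · rw [hinv, hAB]
        intro h
        have : (σ (val z) - val z) * B = 0 := by linear_combination h
        exact hz (sub_eq_zero.1 ((mul_eq_zero.1 this).resolve_right hB))
      · rw [hinv, map_add, map_mul, map_mul, map_sub, map_sub, map_one, h2, hA', hB', hAB]
        ring
    · refine ⟨ζ, η⁻¹, hne1 hζ, ?_, ?_, ?_⟩
      · rw [hinv]; exact fun h => hne1 hη (σ.injective (by rw [h, map_one]))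
      · rw [hinv]; exact h1
      · rw [hinv, map_add, map_mul, map_mul, map_sub, map_sub, map_one, h2, hA', hB']
        linear_combination -e
  · refine ⟨ζ, η, hne1 hζ, hne1 hη, h0, ?_⟩
    rw [map_add, map_mul, map_mul, map_sub, map_sub, map_one, hA', hB']
    linear_combination -e

omit hn in
/-- A centre with two non-zero coordinates gives one supported on exactly two coordinates. -/
lemma exists_two {a i j : ι} (hij : i ≠ j) {w : ι → F} (hw : w ∈ uSet (isU hne h2) M)
    (hwa : w a = 0) (hi : w i ≠ 0) (hj : w j ≠ 0) :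
    ∃ p r : F, p ≠ 0 ∧ r ≠ 0 ∧
      (Pi.single i p + Pi.single j r : ι → F) ∈ uSet (isU hne h2) M := by
  have hf := isU (ι := ι) hne h2
  have hσ0 : ∀ x : F, x ≠ 0 → σ x ≠ 0 := fun x hx e => hx (σ.injective (by rw [e, map_zero]))
  have hfix : ∀ x : F, σ (x * σ x) = x * σ x := fun x => by rw [map_mul, h2, mul_comm]
  obtain ⟨ζ, η, hζ, hη, hS, hS0⟩ := exists_pair hne h2 (mul_ne_zero hi (hσ0 _ hi))
    (mul_ne_zero hj (hσ0 _ hj)) (hfix _) (hfix _)
  obtain ⟨D, hD, -, hD'⟩ := exists_mon hM 1 a (Function.update (Function.update 1 i ζ) j η)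
  have hai : a ≠ i := fun e => hi (e ▸ hwa)
  have haj : a ≠ j := fun e => hj (e ▸ hwa)
  have hw' := uSet_mulVec hf hD (hiso hD) hw
  set p := (val ζ - 1) * w i
  set r := (val η - 1) * w j
  have hsum : (mon 1 D : Matrix ι ι F) *ᵥ w + (-1 : F) • w = Pi.single i p + Pi.single j r := by
    funext y
    rw [Pi.add_apply, dg_mulVec, Pi.smul_apply, smul_eq_mul, Pi.add_apply]
    by_cases hy : y = a
    · subst hy; simp [hwa, hai, haj]
    simp only [hD' y hy]
    by_cases hyi : y = i
    · subst hyi; simp [hij, val, p]; ring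
    by_cases hyj : y = j
    · subst hyj; simp [hyi, val, r]; ring
    simp [hyi, hyj, val]
  refine ⟨p, r, mul_ne_zero (sub_ne_zero.2 hζ) hi, mul_ne_zero (sub_ne_zero.2 hη) hj, ?_⟩
  rw [← hsum]
  refine uSet_add hf hw' (uSet_smul hf (-1) hw) ?_ ?_
  · have e : stdF σ w ((mon 1 D : Matrix ι ι F) *ᵥ w)
        = σ ((val ζ - 1) * (w i * σ (w i)) + (val η - 1) * (w j * σ (w j))) := by
      have h1 := congrArg (fun x => stdF σ w x) hsum
      simp only [add_right hf, smul_right hf, stdF_single, hw.1, mul_zero, add_zero] at h1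
      rw [h1]
      simp only [p, r, map_mul, map_add, map_sub, map_one, h2]
      ring
    rw [hf.smul_left, e]
    exact mul_ne_zero (by norm_num) (hσ0 _ hS)
  · rw [hsum, hf.add_left, add_right hf, add_right hf, single_stdF, single_stdF, single_stdF,
      single_stdF]
    simp [hij, hij.symm, p, r]
    simp only [map_add, map_mul, map_sub, map_one, h2] at hS0
    linear_combination (w i * σ (w i)) * val_norm ζ + (w j * σ (w j)) * val_norm η - hS0

omit hn in
/-- Monomial images of a centre. -/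
lemma exists_image {z x : ι → F} (hz : z ∈ uSet (isU hne h2) M) (π : Equiv.Perm ι) {k : ι}
    (hk : z k = 0) (hN : ∀ y, x (π y) * σ (x (π y)) = z y * σ (z y)) :
    x ∈ uSet (isU hne h2) M := by
  have hf := isU (ι := ι) hne h2
  choose d hd using fun y => exists_phase (σ := σ) (hN y).symm
  obtain ⟨D, hD, -, hD'⟩ := exists_mon hM π k d
  have h1 := uSet_mulVec hf hD (hiso hD) hz
  have e : (mon π D : Matrix ι ι F) *ᵥ z = x := by
    funext y
    obtain ⟨y', rfl⟩ := π.surjective y
    rw [mon_mulVec, Equiv.symm_apply_apply]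
    by_cases hy : y' = k
    · subst hy
      have := hd y'
      rw [hk, mul_zero] at this
      rw [hk, mul_zero, this]
    · rw [hD' y' hy, hd]
  rwa [e] at h1

lemma two_mem {i₀ j₀ : ι} (hij₀ : i₀ ≠ j₀) {p₀ r₀ : F} (hp₀ : p₀ ≠ 0)
    (h₀ : (Pi.single i₀ p₀ + Pi.single j₀ r₀ : ι → F) ∈ uSet (isU hne h2) M)
    {i j : ι} (hij : i ≠ j) {p r : F} (hpr : p * σ p + r * σ r = 0) :
    (Pi.single i p + Pi.single j r : ι → F) ∈ uSet (isU hne h2) M := by
  classical
  have hf := isU (ι := ι) hne h2
  have hsp : σ p₀ ≠ 0 := fun e => hp₀ (σ.injective (by rw [e, map_zero]))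
  have hpr₀ : p₀ * σ p₀ + r₀ * σ r₀ = 0 := by
    have := h₀.1
    rw [hf.add_left, add_right hf, add_right hf, single_stdF, single_stdF, single_stdF,
      single_stdF] at this
    simpa [hij₀, hij₀.symm] using this
  obtain ⟨l, hl⟩ := exists_norm_eq hne h2 (s := (p * σ p) / (p₀ * σ p₀))
    (by rw [map_div₀, map_mul, map_mul, h2, h2, mul_comm p, mul_comm p₀])
  have hl' : l * σ l * (p₀ * σ p₀) = p * σ p := by
    rw [hl, div_mul_cancel₀ _ (mul_ne_zero hp₀ hsp)]
  obtain ⟨k, hki, hkj, -⟩ := exists_notMem (by omega) i₀ j₀ j₀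
  obtain ⟨π, hπi, hπj⟩ : ∃ π : Equiv.Perm ι, π i₀ = i ∧ π j₀ = j := by
    refine ⟨Equiv.swap (Equiv.swap i₀ i j₀) j * Equiv.swap i₀ i, ?_, by simp⟩
    rw [Equiv.Perm.mul_apply, Equiv.swap_apply_left, Equiv.swap_apply_of_ne_of_ne _ hij]
    intro e
    exact hij₀ ((Equiv.swap i₀ i).injective (by rw [Equiv.swap_apply_left]; exact e))
  refine exists_image hne h2 hM hiso (uSet_smul hf l h₀) π (k := k)
    (by simp [hki, hkj]) fun y => ?_
  by_cases hyi : y = i₀
  · subst hyi
    simp [hπi, hij, hij₀]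
    linear_combination -hl'
  by_cases hyj : y = j₀
  · subst hyj
    simp [hπj, hij.symm, hij₀.symm]
    linear_combination hpr + hl' - (l * σ l) * hpr₀
  have h1 : π y ≠ i := fun e => hyi (π.injective (e.trans hπi.symm))
  have h3 : π y ≠ j := fun e => hyj (π.injective (e.trans hπj.symm))
  simp [hyi, hyj, h1, h3]

/-- One step of the induction: a pair of coordinates whose norms do not cancel. -/
lemma pair_step {v : ι → F} {i j k : ι} (hij : i ≠ j) (hki : k ≠ i) (hkj : k ≠ j)
    (hvi : v i ≠ 0) (hvj : v j ≠ 0) (hq : qq σ ≠ 2) (hv : stdF σ v v = 0)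
    (hs : v i * σ (v i) + v j * σ (v j) ≠ 0)
    (htwo : ∀ i j : ι, i ≠ j → ∀ p r : F, p * σ p + r * σ r = 0 →
      (Pi.single i p + Pi.single j r : ι → F) ∈ uSet (isU hne h2) M)
    (ih : ∀ w : ι → F, stdF σ w w = 0 → w j = 0 → (∀ y, v y = 0 → w y = 0) →
      w ∈ uSet (isU hne h2) M) : v ∈ uSet (isU hne h2) M := by
  classical
  have hf := isU (ι := ι) hne h2
  have hσ0 : ∀ x : F, x ≠ 0 → σ x ≠ 0 := fun x hx e => hx (σ.injective (by rw [e, map_zero]))
  obtain ⟨β, hβ⟩ := exists_norm_eq hne h2 (s := (-1 : F)) (by simp)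
  have hβ0 : β ≠ 0 := fun e => by rw [e, zero_mul] at hβ; exact one_ne_zero (neg_eq_zero.1 hβ.symm)
  set x : ι → F := Pi.single i 1 + Pi.single j β with hx
  have hxT : x ∈ uSet (isU hne h2) M := htwo i j hij 1 β (by rw [hβ]; simp)
  have hxf : ∀ w : ι → F, stdF σ w x = w i + w j * σ β := fun w => by
    rw [hx, add_right hf, stdF_single, stdF_single, map_one, mul_one]
  obtain ⟨c₁, hc₁0, hc₁1, hc₁⟩ := exists_trace_zero_avoid hne h2 hq (-1)
  have hc1 : 1 + c₁ ≠ 0 := fun e => hc₁1 (eq_neg_of_add_eq_zero_right e)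
  -- first step
  have hh : ∀ ζ : nOne σ, ∃ m ∈ M, ∀ w : ι → F, ∀ y,
      (y = i → ((m : Matrix ι ι F) *ᵥ w) y = w i) ∧
      (y = j → ((m : Matrix ι ι F) *ᵥ w) y = val ζ * w j) ∧
      (w y = 0 → ((m : Matrix ι ι F) *ᵥ w) y = 0) := fun ζ => by
    obtain ⟨D, hD, -, hD'⟩ := exists_mon hM 1 k (Function.update 1 j ζ)
    refine ⟨_, hD, fun w y => ⟨?_, ?_, fun h => by rw [dg_mulVec]; simp [h]⟩⟩
    · rintro rfl; rw [dg_mulVec]; simp only; rw [hD' y hki.symm]; simp [hij, val]
    · rintro rfl; rw [dg_mulVec]; simp only; rw [hD' y hkj.symm]; simp [val]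
  choose H hH hHap using hh
  set s := v i * σ (v i) + v j * σ (v j) with hsdef
  have hsfix : σ s = s := by rw [hsdef, map_add, map_mul, map_mul, h2, h2]; ring
  set K := c₁ * σ β * v j * σ ((1 + c₁) * v i) with hK
  have hK0 : K ≠ 0 := mul_ne_zero (mul_ne_zero (mul_ne_zero hc₁0 (hσ0 _ hβ0)) hvj)
    (hσ0 _ (mul_ne_zero hc1 hvi))
  set w₁ : nOne σ → F := fun ζ => (1 + c₁) * v i + c₁ * σ β * (val ζ * v j)
  set A := Finset.univ.image fun ζ : nOne σ => w₁ ζ * σ (w₁ ζ)
  have hA : qq σ + 1 ≤ 2 * A.card := by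
    refine (qq_add_one_le hne h2).trans ?_
    rw [Nat.card_eq_fintype_card, ← Finset.card_univ]
    refine Finset.card_le_mul_card_image _ 2 fun t _ => ?_
    refine (Finset.card_le_card fun ζ hζ => ?_).trans (trace_fibre h2
      (t := t - ((1 + c₁) * v i * σ ((1 + c₁) * v i)
        + c₁ * σ β * v j * σ (c₁ * σ β * v j))) hK0)
    simp only [Finset.mem_filter, Finset.mem_univ, true_and] at hζ ⊢
    rw [← hζ]
    simp only [K, w₁, map_add, map_mul, h2, map_one]
    linear_combination (-(c₁ * σ β * v j) * (σ c₁ * β * σ (v j))) * val_norm ζ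
  set Z := Finset.univ.filter fun c : F => σ c = -c
  set B := Z.image fun c => (1 + c) * σ (1 + c) * s
  have hfix : (Finset.univ.filter fun x : F => σ x = x).card = qq σ := by
    rw [qq, Nat.card_eq_fintype_card, Fintype.card_subtype]
    exact congrArg Finset.card (Finset.filter_congr fun x _ => mem_fixedField.symm)
  have hB : qq σ ≤ 2 * B.card := by
    refine le_trans ?_ (Finset.card_le_mul_card_image Z 2 fun t ht => ?_)
    · obtain ⟨τ, hτ0, hτ⟩ := exists_trace_zero hne h2
      rw [← hfix]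
      refine Finset.card_le_card_of_injOn (fun x => x * τ) (fun x hx => ?_)
        fun x _ y _ e => mul_right_cancel₀ hτ0 e
      simp only [Finset.coe_filter, Finset.mem_univ, true_and, Set.mem_setOf_eq, Z] at hx ⊢
      rw [map_mul, hx, hτ, mul_neg]
    · obtain ⟨c₀, hc₀, rfl⟩ := Finset.mem_image.1 ht
      refine (Finset.card_le_card fun c hc => ?_).trans (Finset.card_le_two (a := c₀) (b := -c₀))
      simp only [Z, Finset.mem_filter, Finset.mem_univ, true_and] at hc hc₀
      have h1 := mul_right_cancel₀ hs hc.2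
      rw [map_add, map_add, map_one, hc.1, hc₀] at h1
      have h3 : (c - c₀) * (c + c₀) = 0 := by linear_combination -h1
      rw [Finset.mem_insert, Finset.mem_singleton]
      rcases mul_eq_zero.1 h3 with h | h
      · exact Or.inl (sub_eq_zero.1 h)
      · exact Or.inr (eq_neg_of_add_eq_zero_left h)
  obtain ⟨t, ht⟩ : (A ∩ B).Nonempty := by
    refine Finset.inter_nonempty_of_card_lt_card_add_card
      (s := Finset.univ.filter fun x : F => σ x = x) ?_ ?_ (by rw [hfix]; omega)
    · intro t ht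
      obtain ⟨ζ, -, rfl⟩ := Finset.mem_image.1 ht
      refine Finset.mem_filter.2 ⟨Finset.mem_univ _, ?_⟩
      rw [map_mul, h2, mul_comm]
    · intro t ht
      obtain ⟨c, -, rfl⟩ := Finset.mem_image.1 ht
      refine Finset.mem_filter.2 ⟨Finset.mem_univ _, ?_⟩
      rw [map_mul, map_mul, h2, hsfix]; ring
  obtain ⟨htA, htB⟩ := Finset.mem_inter.1 ht
  obtain ⟨ζ, -, rfl⟩ := Finset.mem_image.1 htA
  obtain ⟨c, hcZ, hmatch⟩ := Finset.mem_image.1 htB
  have hc : σ c = -c := (Finset.mem_filter.1 hcZ).2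
  obtain ⟨u, hu⟩ := exists_norm_eq hne h2 hsfix
  set m₁ := uTv hf x c₁ * H ζ with hm₁
  have hm₁M : m₁ ∈ M := M.mul_mem (hxT.2 c₁ hc₁) (hH ζ)
  set w := (m₁ : Matrix ι ι F) *ᵥ v with hw
  set L := v i + val ζ * v j * σ β with hL
  have hwy : ∀ y, w y = ((H ζ : Matrix ι ι F) *ᵥ v) y + c₁ * L * x y := fun y => by
    rw [hw, hm₁, gl_mulVec_mul, uTv_mulVec hf hxT.1, hxf, (hHap ζ v i).1 rfl, (hHap ζ v j).2.1 rfl]
    rfl
  have hwi : w i = w₁ ζ := by
    rw [hwy, (hHap ζ v i).1 rfl, hx]; simp [hij, w₁, L]; ring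
  have hwj : w j = val ζ * v j + c₁ * L * β := by
    rw [hwy, (hHap ζ v j).2.1 rfl, hx]; simp [hij.symm]
  have hwsum : w i * σ (w i) + w j * σ (w j) = s := by
    rw [hwy, (hHap ζ v i).1 rfl, hwj, hx, hsdef, hL]
    simp [hij, map_add, map_mul, h2, hc₁]
    linear_combination (v j * σ (v j)) * val_norm ζ
      + (-(c₁ * c₁) * (v i + val ζ * v j * σ β) * (σ (v i) + σ (val ζ) * σ (v j) * β)) * hβ
  set yi := (1 + c) * u
  set yj := c * β * u
  have hni : w i * σ (w i) = yi * σ yi := by
    rw [hwi, ← hmatch]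
    simp only [yi, map_mul]
    linear_combination -((1 + c) * σ (1 + c)) * hu
  have hnj : w j * σ (w j) = yj * σ yj := by
    have e : w j * σ (w j) = s - w i * σ (w i) := by linear_combination hwsum
    rw [e, hni]
    simp only [yi, yj, map_mul, map_add, map_one, hc]
    linear_combination (c * c * u * σ u) * hβ - hu
  obtain ⟨φ, hφ⟩ := exists_phase (σ := σ) hni
  obtain ⟨ψ, hψ⟩ := exists_phase (σ := σ) hnj
  obtain ⟨D, hD, -, hD'⟩ := exists_mon hM 1 k (Function.update (Function.update 1 i φ) j ψ)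
  have hnc : σ (-c) = -(-c) := by rw [map_neg, hc]
  set m₂ := uTv hf x (-c) * mon 1 D with hm₂
  have hm : m₂ * m₁ ∈ M := M.mul_mem (M.mul_mem (hxT.2 _ hnc) hD) hm₁M
  set z := ((m₂ * m₁ : GL ι F) : Matrix ι ι F) *ᵥ v with hz
  have hzy : ∀ y, z y = (D y : F) * w y + -c * (yi + yj * σ β) * x y := fun y => by
    rw [hz, gl_mulVec_mul, ← hw, hm₂, gl_mulVec_mul, uTv_mulVec hf hxT.1, hxf, dg_mulVec]
    simp only [Pi.add_apply, Pi.smul_apply, smul_eq_mul]
    rw [hD' i hki.symm, hD' j hkj.symm]
    simp [hij, ← hφ, ← hψ]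
  have hzj : z j = 0 := by
    rw [hzy, hD' j hkj.symm, hx]
    simp [hij.symm, hψ, yi, yj]
    linear_combination (-(c * c * β * u)) * hβ
  have hzT : z ∈ uSet (isU hne h2) M := by
    refine ih z ((mem_isoOf.1 (hiso hm) v v).trans hv) hzj fun y hy => ?_
    have hyi : y ≠ i := fun e => hvi (e ▸ hy)
    have hyj : y ≠ j := fun e => hvj (e ▸ hy)
    rw [hzy, hwy, (hHap ζ v y).2.2 hy, hx]
    simp [hyi, hyj]
  have h5 := uSet_mulVec hf (M.inv_mem hm) (hiso (M.inv_mem hm)) hzT
  rwa [hz, gl_inv_mulVec_mulVec] at h5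

omit [DecidableEq F] hM hiso hn [DecidableEq ι] in
lemma norm_eq_one_of_two (hq : qq σ = 2) {x : F} (hx : x ≠ 0) : x * σ x = 1 := by
  have := FiniteField.pow_card_sub_one_eq_one x hx
  rw [card_F hne h2, hq] at this
  rw [(exists_card_eq hne h2).2, ← qq, hq, ← this]
  ring

/-- All transvections lie in an overgroup with an element fixing a coordinate line. -/
theorem line_uSet {k : GL ι F} (hk : k ∈ M) (hkm : ¬ Mon k) {a : ι}
    (ha : ∀ y, y ≠ a → (k : Matrix ι ι F) y a = 0) {v : ι → F} (hv : stdF σ v v = 0) :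
    v ∈ uSet (isU hne h2) M := by
  classical
  have hf := isU (ι := ι) hne h2
  obtain ⟨u, hu, S₀, hS₀, hS₀u⟩ := exists_large hne h2 hM hiso hn hk hkm ha 5 le_rfl
  obtain ⟨J, hJS, hJ⟩ := Finset.exists_subset_card_eq hS₀
  obtain ⟨e⟩ := Fintype.card_eq.1 (show Fintype.card (Fin 5) = Fintype.card J by simp [hJ])
  set j : Fin 5 → ι := fun l => (e l : ι)
  have hjinj : Function.Injective j := Subtype.val_injective.comp e.injective
  have hju : ∀ l, u (j l) ≠ 0 := fun l => hS₀u _ (hJS (e l).2)
  have hN : ∀ l, u (j l) * σ (u (j l)) ≠ 0 := fun l =>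
    mul_ne_zero (hju l) fun h => hju l (σ.injective (by rw [h, map_zero]))
  -- phases on the five coordinates
  have hvec : ∀ p : Fin 5 → nOne σ, ∑ l, (val (p l) - 1) * (u (j l) * σ (u (j l))) = 0 →
      ∃ w ∈ uSet (isU hne h2) M, w a = 0 ∧ (∀ l, w (j l) = (val (p l) - 1) * u (j l)) ∧
        ∀ y, (∀ l, y ≠ j l) → w y = 0 := by
    intro p hp
    set d : ι → nOne σ := Function.extend j p fun _ => 1
    have hd : ∀ l, d (j l) = p l := hjinj.extend_apply p _
    have hd' : ∀ y, (∀ l, y ≠ j l) → d y = 1 := fun y hy =>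
      Function.extend_apply' _ _ _ (by rintro ⟨l, rfl⟩; exact hy l rfl)
    refine ⟨_, centre_mem hne h2 hM hiso hu d ?_, by simp [hu.1], fun l => by simp [hd],
      fun y hy => by simp [hd' y hy, val]⟩
    rw [← hp, ← Finset.sum_subset (Finset.subset_univ (Finset.univ.image j)) fun y _ hy => by
      rw [hd' y fun l h => hy (Finset.mem_image.2 ⟨l, Finset.mem_univ _, h.symm⟩)]
      simp [val]]
    rw [Finset.sum_image fun x _ y _ h => hjinj h]
    simp [hd]
  obtain ⟨ω, hω, -⟩ := exists_val_ne hne h2 1 1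
  -- a centre with two non-zero coordinates
  obtain ⟨w₀, hw₀, hw₀a, i₀, j₀, hij₀, hi₀, hj₀⟩ : ∃ w ∈ uSet (isU hne h2) M, w a = 0 ∧
      ∃ i j : ι, i ≠ j ∧ w i ≠ 0 ∧ w j ≠ 0 := by
    obtain ⟨z₁, z₂, z₃, z₄, hz⟩ := exists_four_sum hne h2 (hN 1) (hN 2) (hN 3) (hN 4)
      ((∑ l, u (j l) * σ (u (j l))) - val ω * (u (j 0) * σ (u (j 0))))
    have hp : ∑ l, (val (![ω, z₁, z₂, z₃, z₄] l) - 1) * (u (j l) * σ (u (j l))) = 0 := by
      simp only [Fin.sum_univ_five] at hz ⊢
      simp [val]
      linear_combination hz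
    obtain ⟨w, hw, hwa, hwj, hw0⟩ := hvec _ hp
    refine ⟨w, hw, hwa, ?_⟩
    have hw1 : w (j 0) ≠ 0 := by
      rw [hwj]; exact mul_ne_zero (sub_ne_zero.2 (by simpa using hω)) (hju 0)
    by_contra hcon
    push Not at hcon
    apply hw1
    have h0 := hw.1
    rw [stdF, Finset.sum_eq_single (j 0) (fun y _ hy => by
      rw [hcon (j 0) y hy.symm hw1, zero_mul]) (by simp)] at h0
    rcases mul_eq_zero.1 h0 with h | h
    · exact h
    · exact σ.injective (by rw [h, map_zero])
  obtain ⟨p₀, r₀, hp₀, -, h₀⟩ := exists_two hne h2 hM hiso hij₀ hw₀ hw₀a hi₀ hj₀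
  have htwo : ∀ i j : ι, i ≠ j → ∀ p r : F, p * σ p + r * σ r = 0 →
      (Pi.single i p + Pi.single j r : ι → F) ∈ uSet (isU hne h2) M :=
    fun i j hij p r h => two_mem hne h2 hM hiso hn hij₀ hp₀ h₀ hij h
  suffices ∀ N, ∀ v : ι → F, (Finset.univ.filter fun y => v y ≠ 0).card = N → stdF σ v v = 0 →
      v ∈ uSet (isU hne h2) M from this _ v rfl hv
  intro N
  induction N using Nat.strong_induction_on with
  | _ N IH =>
  intro v hN' hv
  set S := Finset.univ.filter fun y => v y ≠ 0 with hS
  have hsmall : ∀ w : ι → F, stdF σ w w = 0 → ∀ y₀ ∈ S, w y₀ = 0 →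
      (∀ y, v y = 0 → w y = 0) → w ∈ uSet (isU hne h2) M := by
    intro w hw y₀ hy₀ hwy hsub
    refine IH _ ?_ w rfl hw
    rw [← hN']
    refine Finset.card_lt_card ⟨fun y hy => ?_, fun h => ?_⟩
    · simp only [S, Finset.mem_filter, Finset.mem_univ, true_and] at hy ⊢
      exact fun e => hy (hsub y e)
    · exact (Finset.mem_filter.1 (h hy₀)).2 hwy
  have hSv : ∀ y, y ∈ S ↔ v y ≠ 0 := fun y => by simp [S]
  by_cases hs3 : N ≤ 2
  · obtain ⟨i, j', hij, hrest⟩ : ∃ i j' : ι, i ≠ j' ∧ ∀ y, y ≠ i → y ≠ j' → v y = 0 := by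
      obtain ⟨i, hi, -⟩ := exists_notMem (by omega) a a a
      by_cases h2' : S.card = 2
      · obtain ⟨x, y, hxy, hSxy⟩ := Finset.card_eq_two.1 h2'
        refine ⟨x, y, hxy, fun z h1 h3 => ?_⟩
        by_contra hz
        have := (hSv z).2 hz
        rw [hSxy] at this
        simp [h1, h3] at this
      · have hle : S.card ≤ 1 := by omega
        by_cases h0 : S = ∅
        · exact ⟨a, i, hi.symm, fun y _ _ => by
            by_contra hy
            have := (hSv y).2 hy
            simp [h0] at this⟩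
        · obtain ⟨x, hx⟩ := Finset.nonempty_iff_ne_empty.2 h0
          obtain ⟨x', hx', -⟩ := exists_notMem (by omega) x x x
          refine ⟨x, x', hx'.symm, fun y h1 _ => ?_⟩
          by_contra hy
          exact h1 (Finset.card_le_one.1 hle y ((hSv y).2 hy) x hx)
    have e : v = Pi.single i (v i) + Pi.single j' (v j') := by
      funext y
      by_cases h1 : y = i
      · subst h1; simp [hij]
      by_cases h3 : y = j'
      · subst h3; simp [h1]
      simp [h1, h3, hrest y h1 h3]
    rw [e]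
    refine htwo i j' hij _ _ ?_
    rw [stdF, Fintype.sum_eq_add i j' hij fun y hy => by rw [hrest y hy.1 hy.2, zero_mul]] at hv
    exact hv
  have h3 : 3 ≤ S.card := by omega
  by_cases hq : qq σ = 2
  · -- the field with four elements
    have h20 : (2 : F) = 0 := by
      have h4 := FiniteField.cast_card_eq_zero F
      rw [card_F hne h2, hq] at h4
      exact mul_self_eq_zero.1 (by push_cast at h4; linear_combination h4)
    have hone := fun {x : F} (hx : x ≠ 0) => norm_eq_one_of_two hne h2 hq hx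
    have hωtr : val ω + σ (val ω) = 1 := by
      have h1 := hone (sub_ne_zero.2 hω)
      rw [map_sub, map_one] at h1
      linear_combination -h1 + val_norm ω
    have hsq : (S.card : F) = 0 := by
      rw [← hv, stdF, ← Finset.sum_subset (Finset.subset_univ S) fun y _ hy => by
        rw [hSv, not_not] at hy; rw [hy, zero_mul],
        Finset.sum_congr rfl (g := fun _ => (1 : F)) fun y hy => hone ((hSv y).1 hy)]
      simp
    have h4 : 4 ≤ S.card := by
      by_contra hlt
      rw [show S.card = 3 by omega] at hsq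
      exact one_ne_zero (α := F) (by push_cast at hsq; linear_combination hsq - h20)
    obtain ⟨w, hw, hwa, hwj, hw0⟩ := hvec ![ω, ω, ω⁻¹, ω⁻¹, 1] (by
      simp only [Fin.sum_univ_five, hone (hju _)]
      simp [val, sigma_val] at *
      linear_combination 2 * hωtr + h20 * (-1))
    have hinv : val ω⁻¹ = σ (val ω) := by rw [sigma_val]; simp [val]
    have hω' : val ω⁻¹ ≠ 1 := by
      rw [hinv]; exact fun h => hω (σ.injective (by rw [h, map_one]))
    set W := Finset.univ.image fun l : Fin 4 => j l.castSucc with hW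
    have hWw : ∀ y, y ∈ W ↔ w y ≠ 0 := fun y => by
      constructor
      · intro hy
        obtain ⟨l, -, rfl⟩ := Finset.mem_image.1 hy
        rw [hwj]
        refine mul_ne_zero (sub_ne_zero.2 ?_) (hju _)
        fin_cases l <;> simp_all
      · intro hy
        obtain ⟨l, rfl⟩ : ∃ l, y = j l := by
          by_contra hc
          push Not at hc
          exact hy (hw0 y hc)
        rw [hwj] at hy
        refine Finset.mem_image.2 ?_
        refine Fin.lastCases ?_ (fun l _ => ⟨l, Finset.mem_univ _, rfl⟩) l hy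
        intro hy
        exfalso
        simp [val, show (Fin.last 4 : Fin 5) = 4 from rfl] at hy
    have hW4 : W.card = 4 := by
      rw [hW, Finset.card_image_of_injective _ fun x y h => Fin.castSucc_injective 4 (hjinj h)]
      simp
    have hfour : ∀ x : ι → F, (Finset.univ.filter fun y => x y ≠ 0).card = 4 →
        x ∈ uSet (isU hne h2) M := by
      intro x hx
      set X := Finset.univ.filter fun y => x y ≠ 0
      obtain ⟨e'⟩ : Nonempty ({y // y ∈ W} ≃ {y // y ∈ X}) := Fintype.card_eq.1 (by simp [hW4, hx])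
      set π := e'.extendSubtype
      obtain ⟨k', -, hk'⟩ := Finset.exists_mem_notMem_of_card_lt_card (s := W) (t := Finset.univ)
        (by rw [hW4, Finset.card_univ]; omega)
      refine exists_image hne h2 hM hiso hw π (k := k') (by simpa [hWw] using hk') fun y => ?_
      by_cases hy : y ∈ W
      · have := e'.extendSubtype_mem y hy
        rw [hone ((hWw y).1 hy), hone (by simpa [X, π] using this)]
      · have := e'.extendSubtype_not_mem y hy
        simp only [hWw, not_not] at hy
        rw [hy]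
        simp [X, π] at this
        simp [π, this]
    by_cases hS4 : S.card = 4
    · exact hfour v hS4
    obtain ⟨I, hIS, hI⟩ := Finset.exists_subset_card_eq h4
    obtain ⟨e'⟩ := Fintype.card_eq.1 (show Fintype.card (Fin 4) = Fintype.card I by simp [hI])
    set i : Fin 4 → ι := fun l => (e' l : ι)
    have hiinj : Function.Injective i := Subtype.val_injective.comp e'.injective
    have hiv : ∀ l, v (i l) ≠ 0 := fun l => (hSv _).1 (hIS (e' l).2)
    set P : Fin 4 → nOne σ := ![1, 1, ω, ω⁻¹]
    set x : ι → F := Function.extend i (fun l => val (P l) * v (i l)) fun _ => 0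
    have hx1 : ∀ l, x (i l) = val (P l) * v (i l) := hiinj.extend_apply _ _
    have hx0 : ∀ y, (∀ l, y ≠ i l) → x y = 0 := fun y hy =>
      Function.extend_apply' _ _ _ (by rintro ⟨l, rfl⟩; exact hy l rfl)
    have hxS : (Finset.univ.filter fun y => x y ≠ 0) = Finset.univ.image i := by
      ext y
      simp only [Finset.mem_filter, Finset.mem_univ, true_and, Finset.mem_image]
      constructor
      · intro hy
        by_contra hc
        push Not at hc
        exact hy (hx0 y fun l => (hc l).symm)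
      · rintro ⟨l, rfl⟩
        rw [hx1]
        exact mul_ne_zero (val_ne_zero _) (hiv l)
    have hxT : x ∈ uSet (isU hne h2) M := hfour x (by
      rw [hxS, Finset.card_image_of_injective _ hiinj]; simp)
    have hxv : stdF σ x v = 1 := by
      rw [stdF, ← Finset.sum_subset (Finset.subset_univ (Finset.univ.image i)) fun y _ hy => by
        rw [hx0 y fun l h => hy (Finset.mem_image.2 ⟨l, Finset.mem_univ _, h.symm⟩), zero_mul],
        Finset.sum_image fun x _ y _ h => hiinj h]
      simp only [hx1, mul_assoc, hone (hiv _), mul_one]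
      simp [P, Fin.sum_univ_four, val, sigma_val] at hωtr ⊢
      linear_combination hωtr + h20
    have hvx : stdF σ v x = 1 := by rw [hf.herm, hxv, map_one]
    have hy1 : stdF σ (v - x) (v - x) = 0 := by
      rw [sub_left hf, sub_right hf, sub_right hf, hv, hxT.1, hxv, hvx]
      linear_combination -h20
    have hyT : v - x ∈ uSet (isU hne h2) M := by
      refine hsmall _ hy1 (i 0) ((hSv _).2 (hiv 0)) ?_ fun y hy => ?_
      · rw [Pi.sub_apply, hx1]; simp [P, val]
      · rw [Pi.sub_apply, hy, hx0 y fun l h => hiv l (h ▸ hy), sub_zero]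
    have h5 := uSet_add hf hxT hyT (by rw [sub_left hf, hvx, hxT.1, sub_zero]; exact one_ne_zero)
      (by rwa [add_sub_cancel])
    rwa [add_sub_cancel] at h5
  · -- larger fields
    have hpair : ∀ (w : ι → F), stdF σ w w = 0 → (∀ y, v y = 0 → w y = 0) →
        ∀ i j k : ι, i ∈ S → j ∈ S → i ≠ j → k ≠ i → k ≠ j →
        w i * σ (w i) + w j * σ (w j) ≠ 0 → w ∈ uSet (isU hne h2) M := by
      intro w hw hsub i j k hi hj hij hki hkj hs
      by_cases hwi : w i = 0
      · exact hsmall w hw i hi hwi hsub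
      by_cases hwj : w j = 0
      · exact hsmall w hw j hj hwj hsub
      exact pair_step hne h2 hM hiso hn hij hki hkj hwi hwj hq hw hs htwo
        fun z hz hzj hz' => hsmall z hz j hj hzj fun y hy => hz' y (hsub y hy)
    obtain ⟨T, hTS, hT⟩ := Finset.exists_subset_card_eq h3
    obtain ⟨i, j, l, hij, hil, hjl, rfl⟩ := Finset.card_eq_three.1 hT
    have hi : i ∈ S := hTS (by simp)
    have hj : j ∈ S := hTS (by simp)
    have hl : l ∈ S := hTS (by simp)
    by_cases e1 : v i * σ (v i) + v j * σ (v j) ≠ 0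
    · exact hpair v hv (fun y h => h) i j l hi hj hij hil.symm hjl.symm e1
    by_cases e2 : v i * σ (v i) + v l * σ (v l) ≠ 0
    · exact hpair v hv (fun y h => h) i l j hi hl hil hij.symm hjl e2
    by_cases e3 : v j * σ (v j) + v l * σ (v l) ≠ 0
    · exact hpair v hv (fun y h => h) j l i hj hl hjl hij hil e3
    push Not at e1 e2 e3
    have hNi : v i * σ (v i) ≠ 0 := mul_ne_zero ((hSv i).1 hi) fun h =>
      (hSv i).1 hi (σ.injective (by rw [h, map_zero]))
    have h20 : (2 : F) = 0 := by
      have : (2 : F) * (v i * σ (v i)) = 0 := by linear_combination e1 + e2 - e3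
      exact (mul_eq_zero.1 this).resolve_right hNi
    have hneg : ∀ x : F, -x = x := fun x => by linear_combination -x * h20
    obtain ⟨c, hc0, hc1, hc⟩ := exists_trace_zero_avoid hne h2 hq 1
    obtain ⟨ε, hεσ, -⟩ := exists_sigma_ne hne h2
    obtain ⟨β, hβ⟩ := exists_norm_eq hne h2 (s := (-1 : F)) (by simp)
    obtain ⟨ζ, hζ⟩ := exists_phase (σ := σ) (p := v j * σ β) (r := val ε * v i) (by
      simp only [map_mul, h2]
      linear_combination (v j * σ (v j)) * hβ - (v i * σ (v i)) * val_norm ε - e1)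
    have hx := htwo i j hij 1 β (by rw [hβ]; simp)
    obtain ⟨D, hD, -, hD'⟩ := exists_mon hM 1 l (Function.update 1 j ζ)
    set m := uTv hf (Pi.single i 1 + Pi.single j β) c * mon 1 D
    have hm : m ∈ M := M.mul_mem (hx.2 c hc) hD
    set w := (m : Matrix ι ι F) *ᵥ v with hw
    have hwy : ∀ y, w y = (D y : F) * v y
        + c * (v i + val ε * v i) * (Pi.single i 1 + Pi.single j β : ι → F) y := fun y => by
      rw [hw, gl_mulVec_mul, uTv_mulVec hf hx.1, dg_mulVec, add_right hf, stdF_single, stdF_single,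
        map_one, mul_one, hD' i hil, hD' j hjl]
      simp [hij, ← hζ, val]
      ring
    have hsub : ∀ y, v y = 0 → w y = 0 := fun y hy => by
      rw [hwy, hy]
      have h1 : y ≠ i := fun e => (hSv i).1 hi (e ▸ hy)
      have h3 : y ≠ j := fun e => (hSv j).1 hj (e ▸ hy)
      simp [h1, h3]
    have hwT : w ∈ uSet (isU hne h2) M := by
      refine hpair w ((mem_isoOf.1 (hiso hm) v v).trans hv) hsub i l j hi hl hil hij.symm hjl ?_
      have hwl : w l * σ (w l) = v l * σ (v l) := by
        have hDl : (D l : F) * σ (D l : F) = 1 := by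
          have h1 := mem_isoOf.1 (hiso hD) (Pi.single l (1 : F)) (Pi.single l 1)
          rw [mon_mulVec_single, single_stdF, single_stdF] at h1
          simpa [Equiv.Perm.one_def] using h1
        rw [hwy]
        simp [hil.symm, hjl.symm]
        linear_combination (v l * σ (v l)) * hDl
      rw [hwl, hwy, hD' i hil]
      simp [hij, val]
      intro e
      have hcc : σ c = c := by rw [hc, hneg]
      simp only [map_add, map_mul, map_one, hcc] at e
      have h1 : (c * (c + 1)) * ((val ε + σ (val ε)) * (v i * σ (v i))) = 0 := by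
        linear_combination e - e2 - (c * c + c) * (v i * σ (v i)) * h20
          - (c * c * (v i * σ (v i))) * val_norm ε
      have hc01 : c * (c + 1) ≠ 0 := mul_ne_zero hc0 fun h => hc1 (by
        rw [eq_neg_of_add_eq_zero_left h, hneg])
      have h6 := (mul_eq_zero.1 ((mul_eq_zero.1 h1).resolve_left hc01)).resolve_right hNi
      exact hεσ (by rw [eq_neg_of_add_eq_zero_right h6, hneg])
    have h5 := uSet_mulVec hf (M.inv_mem hm) (hiso (M.inv_mem hm)) hwT
    rwa [hw, gl_inv_mulVec_mulVec] at h5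

end CfsgLib.ClassicalMax.UDec
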