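/-
Prescribed pairings and transitivity of transvections in unitary spaces of dimension four, including
singular vectors.
-/
import Cfsg.Agent.Lib.ClassicalMax.UnitFourDecomp.Gen
set_option autoImplicit false
set_option linter.unusedSectionVars false

namespace CfsgLib.ClassicalMax.Unit

open Matrix Cfsg.Geo

variable {ι : Type} [Fintype ι] [DecidableEq ι] {F : Type*} [Field F] [Fintype F] [DecidableEq F]
  {σ : F ≃+* F} {f : (ι → F) → (ι → F) → F}

variable (hf : IsUnitaryForm σ f)

include hf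

/-- A vector with prescribed pairings with two independent vectors and prescribed norm. -/
lemma exists_prescribed_four_any {W : Submodule F (ι → F)} (hW : IsNondegenerateOn f W)
    (hdim : 4 ≤ Module.finrank F W) {b b' : ι → F} (hb : b ∈ W) (hb' : b' ∈ W)
    (hli : LinearIndependent F ![b, b']) (α β : F) {s : F} (hs : σ s = s)
    (hor : f b b ≠ 0 ∨ α ≠ 0) : ∃ z ∈ W, f b z = α ∧ f b' z = β ∧ f z z = s := by
  by_cases hbn : f b b ≠ 0
  · exact exists_prescribed_four hf hW hdim hb hb' hli hbn α β hs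
  push Not at hbn
  have hα : α ≠ 0 := hor.resolve_left (not_not.2 hbn)
  by_cases hb'n : f b' b' ≠ 0
  · obtain ⟨z, hz, h1, h2, h3⟩ := exists_prescribed_four hf hW hdim hb' hb
      (LinearIndependent.pair_symm_iff.1 hli) hb'n β α hs
    exact ⟨z, hz, h2, h1, h3⟩
  push Not at hb'n
  by_cases hX : f b b' ≠ 0
  · obtain ⟨ω, hω⟩ : ∃ ω, σ ω + ω ≠ 0 := by
      obtain ⟨t, ht⟩ := exists_trace_eq hf (s := (1 : F)) (map_one σ)
      exact ⟨t, fun e => one_ne_zero (α := F) (by linear_combination e - ht)⟩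
    set c := ω / f b' b with hc
    have hX' : f b' b ≠ 0 := ne_zero_comm hf hX
    have hn : f (b + c • b') (b + c • b') ≠ 0 := by
      rw [hf.add_left, add_right hf, add_right hf, hf.smul_left, hf.smul_left, smul_right hf,
        smul_right hf, hbn, hb'n, hf.herm b b', hc, div_mul_cancel₀ _ hX', map_div₀, div_mul_cancel₀ _
          (fun e => hX' (by simpa using congrArg σ.symm e))]
      simpa [add_comm] using hω
    have hli' : LinearIndependent F ![b + c • b', b'] := by
      refine LinearIndependent.pair_iff.2 fun u v h => ?_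
      rw [smul_add, smul_smul, add_assoc, ← add_smul] at h
      obtain ⟨h1, h2⟩ := LinearIndependent.pair_iff.1 hli _ _ h
      rw [h1, zero_mul, zero_add] at h2
      exact ⟨h1, h2⟩
    obtain ⟨z, hz, h1, h2, h3⟩ := exists_prescribed_four hf hW hdim
      (W.add_mem hb (W.smul_mem c hb')) hb' hli' hn (α + c * β) β hs
    rw [hf.add_left, hf.smul_left, h2] at h1
    exact ⟨z, hz, add_right_cancel h1, h2, h3⟩
  push Not at hX
  let v : Fin 2 → W := ![⟨b, hb⟩, ⟨b', hb'⟩]
  have hv : LinearIndependent F v := by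
    apply LinearIndependent.of_comp W.subtype
    convert hli using 1
    funext i
    fin_cases i <;> rfl
  obtain ⟨φ, hφ⟩ := LinearMap.exists_extend ((Module.Basis.span hv).constr F ![α, β])
  obtain ⟨z₀, hz₀, hz⟩ := exists_riesz hf hW φ
  have hφv : ∀ i, φ (v i) = ![α, β] i := fun i => by
    have := congrArg (fun t => t (Module.Basis.span hv i)) hφ
    rw [LinearMap.comp_apply, Module.Basis.constr_basis] at this
    rw [← this, Submodule.subtype_apply, Module.Basis.span_apply]
  have hz1 : f b z₀ = α := (hz ⟨b, hb⟩).trans (hφv 0)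
  have hz2 : f b' z₀ = β := (hz ⟨b', hb'⟩).trans (hφv 1)
  obtain ⟨t, ht⟩ := exists_trace_eq hf (s := s - f z₀ z₀) (by rw [map_sub, hs, self_fixed hf])
  refine ⟨z₀ + (t / α) • b, W.add_mem hz₀ (W.smul_mem _ hb), ?_, ?_, ?_⟩
  · rw [add_right hf, smul_right hf, hbn, hz1, mul_zero, add_zero]
  · rw [add_right hf, smul_right hf, eq_zero_comm hf hX, hz2, mul_zero, add_zero]
  · rw [hf.add_left, add_right hf, add_right hf, hf.smul_left, hf.smul_left, smul_right hf,
      smul_right hf, hbn, hz1, hf.herm z₀ b, hz1, ← map_mul, div_mul_cancel₀ _ hα]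
    linear_combination ht

lemma exists_tvGroup_mulVec_four_any {W : Submodule F (ι → F)} (hW : IsNondegenerateOn f W)
    (hdim : 4 ≤ Module.finrank F W) {b b' : ι → F} (hb : b ∈ W) (hb' : b' ∈ W) (hb0 : b ≠ 0)
    (hb'0 : b' ≠ 0) (hs : f b b = f b' b') :
    ∃ t ∈ tvGroup hf W, (t : Matrix ι ι F) *ᵥ b = b' := by
  obtain ⟨τ, hτ0, hτ⟩ := exists_trace_zero hf.ne_refl hf.involutive
  set s := f b b with hsdef
  have hσs : σ s = s := self_fixed hf b
  have hor : ∀ x : ι → F, f x x = s → f x x ≠ 0 ∨ s + τ ≠ 0 := fun x hx => by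
    by_cases h0 : s = 0
    · exact Or.inr (by rw [h0, zero_add]; exact hτ0)
    · exact Or.inl (by rw [hx]; exact h0)
  -- the independent case
  have indep : ∀ b b' : ι → F, b ∈ W → b' ∈ W → f b b = s → f b' b' = s →
      LinearIndependent F ![b, b'] → ∃ t ∈ tvGroup hf W, (t : Matrix ι ι F) *ᵥ b = b' := by
    intro b b' hb hb' h1 h2 hli
    obtain ⟨z, hz, hz1, hz2, hz3⟩ := exists_prescribed_four_any hf hW hdim hb hb' hli (s + τ) (s + τ) hσs (hor b h1)
    have hz1' : f z b = s - τ := by rw [hf.herm, hz1, map_add, hσs, hτ, sub_eq_add_neg]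
    have hz2' : f z b' = s - τ := by rw [hf.herm, hz2, map_add, hσs, hτ, sub_eq_add_neg]
    obtain ⟨t₁, ht₁, e₁⟩ := exists_uTv_mulVec hf hb hz (h1.trans hz3.symm)
      (by rw [sub_left hf, sub_right hf, sub_right hf, h1, hz3, hz1, hz1']; ring)
      (by rw [sub_right hf, hz1, h1, add_sub_cancel_left]; exact hτ0)
    obtain ⟨t₂, ht₂, e₂⟩ := exists_uTv_mulVec hf hz hb' (hz3.trans h2.symm)
      (by rw [sub_left hf, sub_right hf, sub_right hf, h2, hz3, hz2, hz2']; ring)
      (by rw [sub_right hf, hz2', hz3]; simpa using hτ0)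
    exact ⟨t₂ * t₁, mul_mem ht₂ ht₁, by rw [gl_mulVec_mul, e₁, e₂]⟩
  by_cases hli : LinearIndependent F ![b, b']
  · exact indep b b' hb hb' rfl hs.symm hli
  obtain ⟨p, hp, hpb⟩ : ∃ p ∈ W, p ∉ Submodule.span F {b} := by
    apply SetLike.not_le_iff_exists.1
    intro hle
    have := Submodule.finrank_mono hle
    rw [finrank_span_singleton hb0] at this
    omega
  have hbp : LinearIndependent F ![b, p] := by
    rw [LinearIndependent.pair_iff' hb0]
    exact fun a e => hpb (Submodule.mem_span_singleton.2 ⟨a, e⟩)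
  obtain ⟨z, hz, hz1, -, hz3⟩ := exists_prescribed_four_any hf hW hdim hb hp hbp (s + τ) 0 hσs (hor b rfl)
  have hbz : LinearIndependent F ![b, z] := by
    rw [LinearIndependent.pair_iff' hb0]
    intro a e
    rw [← e, smul_right hf] at hz1
    rw [← e, hf.smul_left, smul_right hf] at hz3
    have e1 : a * (σ a * s) = s := hz3
    have e2 : a * s = s - τ := by
      have := congrArg σ hz1
      rw [map_mul, map_add, hf.involutive, hσs, hτ, ← sub_eq_add_neg] at this
      exact this
    have e3 : σ a * s = s + τ := hz1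
    apply hτ0
    refine mul_self_eq_zero.1 ?_
    linear_combination -s * e1 + σ a * s * e2 + (s - τ) * e3
  obtain ⟨l, hl⟩ : ∃ l : F, l • b = b' := by
    rw [LinearIndependent.pair_iff' hb0] at hli
    push Not at hli
    exact hli
  have hl0 : l ≠ 0 := fun e => hb'0 (by rw [← hl, e, zero_smul])
  have hzb' : LinearIndependent F ![z, b'] := by
    have hz0 : z ≠ 0 := fun e => by
      have := LinearIndependent.ne_zero 1 hbz
      exact this e
    rw [LinearIndependent.pair_iff' hz0]
    intro a e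
    rw [LinearIndependent.pair_iff' hb0] at hbz
    have ha : a ≠ 0 := fun h => hb'0 (by rw [← e, h, zero_smul])
    exact hbz (a⁻¹ * l) (by rw [← smul_smul, hl, ← e, smul_smul, inv_mul_cancel₀ ha, one_smul])
  obtain ⟨t₁, ht₁, e₁⟩ := indep b z hb hz rfl hz3 hbz
  obtain ⟨t₂, ht₂, e₂⟩ := indep z b' hz hb' hz3 hs.symm hzb'
  exact ⟨t₂ * t₁, mul_mem ht₂ ht₁, by rw [gl_mulVec_mul, e₁, e₂]⟩


end CfsgLib.ClassicalMax.Unit
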