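/-
Maximality of stabilisers of totally singular subspaces in special unitary groups.
-/
import Cfsg.Agent.Lib.ClassicalMax.UnitGen
import Cfsg.Agent.Lib.ClassicalMax.UnitSympSubfield
set_option autoImplicit false

namespace CfsgLib.ClassicalMax.Unit

open Matrix Cfsg.Geo

variable {ι : Type} [Fintype ι] [DecidableEq ι] {F : Type*} [Field F] [Fintype F]
  {σ : F ≃+* F} {f : (ι → F) → (ι → F) → F}

lemma exists_perp_ne_zero (hf : IsUnitaryForm σ f) {W : Submodule F (ι → F)} {x : ι → F}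
    (hx : x ∉ W) : ∃ y ∈ perp hf W, f x y ≠ 0 := by
  obtain ⟨φ, hφx, hφW⟩ := Submodule.exists_dual_map_eq_bot_of_notMem hx inferInstance
  obtain ⟨y, hy⟩ := exists_form_eq hf φ
  refine ⟨y, fun w hw => eq_zero_comm hf ?_, by rwa [hy]⟩
  rw [hy]
  exact (Submodule.mem_bot F).1 (hφW ▸ Submodule.mem_map_of_mem hw)

theorem unitary_singular_stabilizer_maximal (hf : IsUnitaryForm σ f) (hn : 7 ≤ Fintype.card ι)
    (W : Submodule F (ι → F)) (hW0 : W ≠ ⊥) (hW : IsTotallySingularFor f W) :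
    IsMaximalIn (isoOf f ⊓ specialLinear ι F)
      (subspaceStabilizer W ⊓ (isoOf f ⊓ specialLinear ι F)) := by
  classical
  obtain ⟨τ, hτ0, hτ⟩ := exists_trace_zero hf.ne_refl hf.involutive
  obtain ⟨w₀, hw₀, hw₀0⟩ := Submodule.exists_mem_ne_zero_of_ne_bot hW0
  obtain ⟨y₀, hy₀⟩ := (hf.nondegenerate w₀ hw₀0).1
  set P := perp hf W with hP
  have hWP : ∀ w ∈ W, w ∈ P := fun w hw x hx => hW w hw x hx
  have hspan := isotropic_span_of_mem hf (W := ⊤) Submodule.mem_top (hW w₀ hw₀ w₀ hw₀)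
    ⟨y₀, Submodule.mem_top, hy₀⟩
  refine CfsgLib.ClassicalMax.isMaximalIn_of inf_le_right ?_ ?_
  · obtain ⟨v, hv, hvw⟩ : ∃ v, f v v = 0 ∧ f v w₀ ≠ 0 := by
      by_contra hcon
      push Not at hcon
      have : y₀ ∈ LinearMap.ker (formL hf w₀) := by
        have h : (⊤ : Submodule F (ι → F)) ≤ LinearMap.ker (formL hf w₀) := by
          rw [← hspan]; exact Submodule.span_le.2 fun v hv => hcon v hv.2
        exact h trivial
      exact hy₀ this
    refine ⟨uTv hf v τ, ⟨uTv_mem_isoOf hf hv hτ, uTv_mem_sl hf v τ⟩, fun h => ?_⟩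
    have h1 := (CfsgLib.ClassicalMax.mem_subspaceStabilizer.1 h.1 w₀).1 hw₀
    have hne : τ * f w₀ v ≠ 0 := mul_ne_zero hτ0 (ne_zero_comm hf hvw)
    rw [uTv_mulVec hf hv, Submodule.add_mem_iff_right _ hw₀, Submodule.smul_mem_iff _ hne] at h1
    exact hvw (hW v h1 w₀ hw₀)
  intro M hHM hMK g hgM hgH
  have hgK := hMK hgM
  have hgi : g ∈ isoOf f := hgK.1
  have hPS : ∀ v ∈ P, f v v = 0 → v ∈ uSet hf M := by
    refine fun v hv hv0 => ⟨hv0, fun c hc => hHM ⟨?_, uTv_mem_isoOf hf hv0 hc, uTv_mem_sl hf v c⟩⟩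
    refine CfsgLib.ClassicalMax.mem_subspaceStabilizer_of_forall fun x hx => ?_
    rw [uTv_mulVec_of_orth hf hv0 c (eq_zero_comm hf (hv x hx))]
    exact hx
  have hWperp : ∀ x, (∀ y ∈ P, f x y = 0) → x ∈ W := by
    intro x hx
    by_contra h
    obtain ⟨y, hy, hy'⟩ := exists_perp_ne_zero hf h
    exact hy' (hx y hy)
  -- a vector of the set outside the orthogonal subspace
  obtain ⟨u₀, hu₀, hu₀P⟩ : ∃ u ∈ uSet hf M, u ∉ P := by
    by_contra hcon
    push Not at hcon
    have hgWP : ∀ w ∈ W, (g : Matrix ι ι F) *ᵥ w ∈ P := fun w hw =>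
      hcon _ (uSet_mulVec hf hgM hgi (hPS w (hWP w hw) (hW w hw w hw)))
    have hgW : ∀ w ∈ W, (g : Matrix ι ι F) *ᵥ w ∈ W := by
      by_contra hc
      push Not at hc
      obtain ⟨w₁, hw₁, hw₁'⟩ := hc
      set u := (g : Matrix ι ι F) *ᵥ w₁ with hu
      have hu0 : f u u = 0 := (hgi w₁ w₁).trans (hW w₁ hw₁ w₁ hw₁)
      obtain ⟨y, hy, hy'⟩ := exists_perp_ne_zero hf hw₁'
      have hs := isotropic_span_of_mem hf (hgWP w₁ hw₁) hu0 ⟨y, hy, ne_zero_comm hf hy'⟩
      have hgP : ∀ v ∈ P, (g : Matrix ι ι F) *ᵥ v ∈ P := by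
        intro v hv
        rw [← hs] at hv
        have hle : Submodule.span F {w | w ∈ perp hf W ∧ f w w = 0} ≤
            P.comap (Matrix.toLin' (g : Matrix ι ι F)) := Submodule.span_le.2 fun v hv => by
          simpa using hcon _ (uSet_mulVec hf hgM hgi (hPS v hv.1 hv.2))
        simpa using hle hv
      obtain ⟨y', hy'', e⟩ := CfsgLib.ClassicalMax.exists_preimage_mem hgP hy
      apply hy'
      rw [← e, hu, mem_isoOf.1 hgi]
      exact eq_zero_comm hf (hy'' w₁ hw₁)
    exact hgH ⟨CfsgLib.ClassicalMax.mem_subspaceStabilizer_of_forall hgW, hgK⟩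
  refine iso_inf_sl_le hf hn fun v c hv hc => ?_
  suffices hvS : v ∈ uSet hf M from hvS.2 c hc
  by_cases hvP : v ∈ P
  · exact hPS v hvP hv
  obtain ⟨a₀, ha₀, ha₀u⟩ : ∃ w ∈ W, f u₀ w ≠ 0 := by
    by_contra hcc; push Not at hcc; exact hu₀P hcc
  -- a scaling of `u₀` agrees with `v` on some vector of `W`
  obtain ⟨u, hu, a, ha, hua, hva⟩ : ∃ u ∈ uSet hf M, ∃ a ∈ W, f u a = 1 ∧ f v a = 1 := by
    have scale : ∀ u a : ι → F, a ∈ W → f u a ≠ 0 → f u a = f v a →
        ∃ b ∈ W, f u b = 1 ∧ f v b = 1 := by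
      intro u a ha hne he
      refine ⟨σ (f u a)⁻¹ • a, W.smul_mem _ ha, ?_, ?_⟩ <;>
        rw [smul_right hf, hf.involutive]
      · exact inv_mul_cancel₀ hne
      · rw [← he]; exact inv_mul_cancel₀ hne
    by_cases hk : ∃ a ∈ W, f u₀ a = f v a ∧ f u₀ a ≠ 0
    · obtain ⟨a, ha, he, hne⟩ := hk
      exact ⟨u₀, hu₀, scale u₀ a ha hne he⟩
    · push Not at hk
      set l := f v a₀ / f u₀ a₀ with hl
      have hprop : ∀ w ∈ W, f v w = l * f u₀ w := by
        intro w hw
        by_contra hne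
        set μ := f u₀ w / f u₀ a₀ with hμ
        set k := w - σ μ • a₀ with hk'
        have hku : f u₀ k = 0 := by
          rw [hk', sub_right hf, smul_right hf, hf.involutive, hμ]; field_simp; ring
        have hkv : f v k ≠ 0 := by
          rw [hk', sub_right hf, smul_right hf, hf.involutive]
          intro e
          refine hne ?_
          rw [hl]
          rw [hμ] at e
          linear_combination e
        refine ha₀u ?_
        have h := hk (a₀ + σ ((f u₀ a₀ - f v a₀) / f v k) • k)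
          (W.add_mem ha₀ (W.smul_mem _ (W.sub_mem hw (W.smul_mem _ ha₀))))
          (by rw [add_right hf, add_right hf, smul_right hf, smul_right hf, hf.involutive, hku,
                mul_zero, add_zero, div_mul_cancel₀ _ hkv]; ring)
        rwa [add_right hf, smul_right hf, hku, mul_zero, add_zero] at h
      have hl0 : l ≠ 0 := fun e => hvP fun w hw => by rw [hprop w hw, e, zero_mul]
      exact ⟨l • u₀, uSet_smul hf l hu₀, scale _ a₀ ha₀
        (by rw [hf.smul_left]; exact mul_ne_zero hl0 ha₀u) (by rw [hf.smul_left, hprop a₀ ha₀])⟩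
  set b := v - u with hb
  have hab : f a b = 0 := by
    rw [hb, sub_right hf, hf.herm a v, hf.herm a u, hva, hua, map_one, sub_self]
  have hba : f b a = 0 := eq_zero_comm hf hab
  obtain ⟨t, ht⟩ := exists_trace_eq hf (s := f b b) (self_fixed hf b)
  have haa : f a a = 0 := hW a ha a ha
  -- the root element carrying `u` towards `v`
  set φ : ι → F := formDual hf a with hφ
  set ψ : ι → F := -(formDual hf b) + (-t + f b b) • formDual hf a with hψ
  have hφb : φ ⬝ᵥ b = 0 := by rw [hφ, formDual_dot, hba]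
  have hψa : ψ ⬝ᵥ a = 0 := by
    rw [hψ, add_dotProduct, neg_dotProduct, smul_dotProduct, formDual_dot, formDual_dot, hab, haa,
      smul_zero, neg_zero, add_zero]
  set E := tvGL a ψ * tvGL b φ with hE
  have hEv : ∀ x, (E : Matrix ι ι F) *ᵥ x = x + f x a • b + (- f x b + (-t) * f x a) • a := by
    intro x
    rw [hE, gl_mulVec_mul, tvGL_mulVec hφb, tvGL_mulVec hψa, hψ, hφ]
    simp only [add_dotProduct, neg_dotProduct, smul_dotProduct, formDual_dot, hf.add_left,
      hf.smul_left, hba, smul_eq_mul]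
    module
  have hEH : E ∈ subspaceStabilizer W ⊓ (isoOf f ⊓ specialLinear ι F) := by
    refine ⟨CfsgLib.ClassicalMax.mem_subspaceStabilizer_of_forall fun x hx => ?_, fun x y => ?_,
      (specialLinear ι F).mul_mem (tvGL_mem_sl _ _) (tvGL_mem_sl _ _)⟩
    · rw [hEv, hW x hx a ha, zero_smul, add_zero]
      exact W.add_mem hx (W.smul_mem _ ha)
    · change f ((E : Matrix ι ι F) *ᵥ x) ((E : Matrix ι ι F) *ᵥ y) = f x y
      rw [hEv, hEv]
      simp only [hf.add_left, add_right hf, hf.smul_left, smul_right hf, map_add, map_neg, map_mul,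
        hab, hba, haa]
      rw [← hf.herm a y, ← hf.herm b y]
      linear_combination (-(f x a * f a y)) * ht
  have h1 := uSet_mulVec hf (hHM hEH) hEH.2.1 hu
  rw [hEv, hua, one_smul, hb, add_sub_cancel] at h1
  set δ := - f u (v - u) + -t * 1 with hδ
  have hδ' : σ δ = -δ := by
    have h0 := h1.1
    rw [hf.add_left, add_right hf, add_right hf, hf.smul_left, hf.smul_left, smul_right hf,
      smul_right hf, hv, haa, hva, hf.herm a v, hva, map_one] at h0
    linear_combination h0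
  have h2 := uSet_mulVec hf (hHM (show uTv hf a (-δ) ∈ _ from
    ⟨CfsgLib.ClassicalMax.mem_subspaceStabilizer_of_forall fun x hx => by
      rw [uTv_mulVec_of_orth hf haa _ (hW x hx a ha)]; exact hx,
      uTv_mem_isoOf hf haa (by rw [map_neg, hδ']), uTv_mem_sl hf _ _⟩))
    (uTv_mem_isoOf hf haa (by rw [map_neg, hδ'])) h1
  rw [uTv_mulVec hf haa, hf.add_left, hf.smul_left, hva, haa, mul_zero, add_zero, mul_one,
    add_assoc, ← add_smul, add_neg_cancel, zero_smul, add_zero] at h2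
  exact h2

end CfsgLib.ClassicalMax.Unit
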