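/-
Maximality of stabilisers of non-degenerate subspaces in special unitary groups.
-/
import Cfsg.Agent.Lib.ClassicalMax.UnitParabolic
import Cfsg.Agent.Lib.ClassicalMax.UnitGenFourAny
import Cfsg.Agent.Lib.ClassicalMax.UnitShort
set_option autoImplicit false

namespace CfsgLib.ClassicalMax.Unit

open Matrix Cfsg.Geo

variable {ι : Type} [Fintype ι] [DecidableEq ι] {F : Type*} [Field F] [Fintype F]
  {σ : F ≃+* F} {f : (ι → F) → (ι → F) → F}

/-- The isotropic vectors avoid two hyperplanes when they span. -/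
lemma exists_isotropic_both (hf : IsUnitaryForm σ f) {P : Submodule F (ι → F)}
    (hs : Submodule.span F {w | w ∈ P ∧ f w w = 0} = P) (a b : (ι → F) →ₗ[F] F)
    (ha : ∃ x ∈ P, a x ≠ 0) (hb : ∃ x ∈ P, b x ≠ 0) :
    ∃ v ∈ P, f v v = 0 ∧ a v ≠ 0 ∧ b v ≠ 0 := by
  have one : ∀ a : (ι → F) →ₗ[F] F, (∃ x ∈ P, a x ≠ 0) → ∃ v ∈ P, f v v = 0 ∧ a v ≠ 0 := by
    rintro a ⟨x, hx, hx'⟩
    by_contra hcon
    push Not at hcon
    apply hx'
    rw [← hs] at hx
    exact (Submodule.span_le.2 (fun w hw => hcon w hw.1 hw.2) hx : x ∈ LinearMap.ker a)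
  obtain ⟨v₁, h₁, i₁, ha₁⟩ := one a ha
  obtain ⟨v₂, h₂, i₂, hb₂⟩ := one b hb
  by_cases hb1 : b v₁ = 0
  · by_cases ha2 : a v₂ = 0
    · obtain ⟨r, hr, hiso⟩ := exists_isotropic_comb hf i₁ i₂
      exact ⟨_, P.add_mem h₁ (P.smul_mem r h₂), hiso, by simp [ha₁, ha2], by simp [hb1, hr, hb₂]⟩
    · exact ⟨v₂, h₂, i₂, ha2, hb₂⟩
  · exact ⟨v₁, h₁, i₁, ha₁, hb1⟩

/-- An isometry supported on `W` carrying one vector of `W` to another of the same norm. -/
lemma exists_iso_in (hf : IsUnitaryForm σ f) {W : Submodule F (ι → F)}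
    (hW : IsNondegenerateOn f W) {a a' : ι → F} (ha : a ∈ W) (ha' : a' ∈ W) (ha0 : a ≠ 0)
    (ha'0 : a' ≠ 0) (hs : f a a = f a' a') :
    ∃ h : GL ι F, h ∈ isoOf f ∧ (∃ ζ : Fˣ, (ζ : F) * σ ζ = 1 ∧ Matrix.GeneralLinearGroup.det h = ζ) ∧
      (∀ x, (h : Matrix ι ι F) *ᵥ x - x ∈ W) ∧ (∀ x ∈ perp hf W, (h : Matrix ι ι F) *ᵥ x = x) ∧
      (h : Matrix ι ι F) *ᵥ a = a' := by
  classical
  let Good : GL ι F → Prop := fun h =>
    h ∈ isoOf f ∧ (∃ ζ : Fˣ, (ζ : F) * σ ζ = 1 ∧ Matrix.GeneralLinearGroup.det h = ζ) ∧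
      (∀ x, (h : Matrix ι ι F) *ᵥ x - x ∈ W) ∧ (∀ x ∈ perp hf W, (h : Matrix ι ι F) *ᵥ x = x)
  suffices ∃ h, Good h ∧ (h : Matrix ι ι F) *ᵥ a = a' by
    obtain ⟨h, ⟨h1, h2, h3, h4⟩, h5⟩ := this
    exact ⟨h, h1, h2, h3, h4, h5⟩
  have hmul : ∀ g h, Good g → Good h → Good (g * h) := by
    rintro g h ⟨g1, ⟨ζ, hζ, hdζ⟩, g3, g4⟩ ⟨h1, ⟨η, hη, hdη⟩, h3, h4⟩
    refine ⟨(isoOf f).mul_mem g1 h1, ⟨ζ * η, ?_, ?_⟩, fun x => ?_, fun x hx => ?_⟩
    · rw [Units.val_mul, map_mul]; linear_combination ((η : F) * σ (η : F)) * hζ + hη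
    · rw [map_mul, hdζ, hdη]
    · rw [gl_mulVec_mul]
      simpa using W.add_mem (g3 ((h : Matrix ι ι F) *ᵥ x)) (h3 x)
    · rw [gl_mulVec_mul, h4 x hx, g4 x hx]
  have hrefl : ∀ d ∈ W, ∀ (hd : f d d ≠ 0) (ζ : Fˣ), (ζ : F) * σ ζ = 1 → Good (qRefl hf d hd ζ) := by
    intro d hd hd0 ζ hζ
    refine ⟨qRefl_mem_isoOf hf d hd0 ζ hζ, ⟨ζ, hζ, Units.ext (det_qMat hf hd0 ζ)⟩, fun x => ?_,
      fun x hx => ?_⟩
    · rw [qRefl_mulVec, add_sub_cancel_left]; exact W.smul_mem _ hd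
    · rw [qRefl_mulVec, hx d hd, mul_zero, zero_smul, add_zero]
  have htv : ∀ d ∈ W, f d d = 0 → ∀ c, σ c = -c → Good (uTv hf d c) := by
    intro d hd hd0 c hc
    refine ⟨uTv_mem_isoOf hf hd0 hc, ⟨1, by simp, (uTv_mem_sl hf d c : _)⟩, fun x => ?_,
      fun x hx => ?_⟩
    · rw [uTv_mulVec hf hd0, add_sub_cancel_left]; exact W.smul_mem _ hd
    · exact uTv_mulVec_of_orth hf hd0 c (hx d hd)
  have step : ∀ p q : ι → F, p ∈ W → q ∈ W → f p p = f q q → f p (p - q) ≠ 0 →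
      ∃ h, Good h ∧ (h : Matrix ι ι F) *ᵥ p = q := by
    intro p q hp hq hpq hA
    set d := p - q with hd
    have hdd : f d d = f p d + σ (f p d) := by
      rw [hd, sub_left hf, sub_right hf, sub_right hf, map_sub, self_fixed hf, ← hf.herm q p, hpq]
      ring
    by_cases hd0 : f d d = 0
    · have hc : σ (-(f p d)⁻¹) = -(-(f p d)⁻¹) := by
        rw [map_neg, map_inv₀, show σ (f p d) = - f p d by linear_combination -hdd + hd0, inv_neg]
      refine ⟨_, htv d (W.sub_mem hp hq) hd0 _ hc, ?_⟩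
      rw [uTv_mulVec hf hd0, neg_mul, inv_mul_cancel₀ hA, neg_one_smul, hd]
      abel
    · have hσA : σ (f p d) ≠ 0 := fun e => hA (by simpa using congrArg σ.symm e)
      set ζ₁ : Fˣ := Units.mk0 (- σ (f p d) / f p d) (div_ne_zero (neg_ne_zero.2 hσA) hA) with hζ₁
      have hζ₁n : (ζ₁ : F) * σ ζ₁ = 1 := by
        rw [hζ₁, Units.val_mk0, map_div₀, map_neg, hf.involutive]
        field_simp
      refine ⟨_, hrefl d (W.sub_mem hp hq) hd0 ζ₁ hζ₁n, ?_⟩
      rw [qRefl_mulVec, hζ₁, Units.val_mk0,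
        show (- σ (f p d) / f p d - 1) / f d d * f p d = -1 by
          field_simp
          linear_combination hdd, neg_one_smul, hd]
      abel
  by_cases hA : f a (a - a') = 0
  · rw [sub_right hf, sub_eq_zero] at hA
    by_cases hs0 : f a a = 0
    · have hspan := isotropic_span_of_mem hf ha hs0 (hW a ha ha0).1
      obtain ⟨x, hx, hx'⟩ := (hW a ha ha0).1
      obtain ⟨y, hy, hy'⟩ := (hW a' ha' ha'0).1
      obtain ⟨z, hz, hz0, hza, hza'⟩ := exists_isotropic_both hf hspan (formL hf a) (formL hf a')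
        ⟨x, hx, hx'⟩ ⟨y, hy, hy'⟩
      obtain ⟨h₁, g₁, e₁⟩ := step a z ha hz (hs0.trans hz0.symm)
        (by rw [sub_right hf, hs0, zero_sub]; exact neg_ne_zero.2 (ne_zero_comm hf hza))
      obtain ⟨h₂, g₂, e₂⟩ := step z a' hz ha' (hz0.trans (hs.symm.trans hs0).symm)
        (by rw [sub_right hf, hz0, zero_sub]; exact neg_ne_zero.2 hza')
      exact ⟨h₂ * h₁, hmul _ _ g₂ g₁, by rw [gl_mulVec_mul, e₁, e₂]⟩
    · obtain ⟨ζ, hζ, hζ1⟩ := exists_norm_one_ne_one hf.ne_refl hf.involutive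
      have hζ0 : ζ ≠ 0 := fun e => by simp [e] at hζ
      have g₁ := hrefl a ha hs0 (Units.mk0 ζ hζ0) hζ
      have e₁ : (qRefl hf a hs0 (Units.mk0 ζ hζ0) : Matrix ι ι F) *ᵥ a = ζ • a := by
        rw [qRefl_mulVec, Units.val_mk0, div_mul_cancel₀ _ hs0, sub_smul, one_smul, add_sub_cancel]
      obtain ⟨h₂, g₂, e₂⟩ := step (ζ • a) a' (W.smul_mem ζ ha) ha'
        (by rw [hf.smul_left, smul_right hf, ← mul_assoc, hζ, one_mul, hs])
        (by
          rw [sub_right hf, hf.smul_left, smul_right hf, ← mul_assoc, hζ, one_mul, hf.smul_left, ← hA]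
          intro e
          apply hζ1
          have : (ζ - 1) * f a a = 0 := by linear_combination -e
          exact sub_eq_zero.1 ((mul_eq_zero.1 this).resolve_right hs0))
      exact ⟨h₂ * _, hmul _ _ g₂ g₁, by rw [gl_mulVec_mul, e₁, e₂]⟩
  · exact step a a' ha ha' hs hA

theorem unitary_nondegenerate_stabilizer_maximal (hf : IsUnitaryForm σ f) (W : Submodule F (ι → F))
    (hW0 : W ≠ ⊥) (hW : IsNondegenerateOn f W) (hdim : 2 * Module.finrank F W < Fintype.card ι)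
    (hn : 6 ≤ Fintype.card ι) :
    IsMaximalIn (isoOf f ⊓ specialLinear ι F)
      (subspaceStabilizer W ⊓ (isoOf f ⊓ specialLinear ι F)) := by
  classical
  obtain ⟨τ, hτ0, hτ⟩ := exists_trace_zero hf.ne_refl hf.involutive
  set P := perp hf W with hPdef
  have hPnd : IsNondegenerateOn f P := by
    intro b hb hb0
    obtain ⟨x, hx⟩ := (hf.nondegenerate b hb0).1
    obtain ⟨a, ha, hc⟩ := exists_split hf hW x
    have hne : f (x - a) b ≠ 0 := by
      rwa [sub_left hf, eq_zero_comm hf (hb a ha), sub_zero]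
    exact ⟨⟨_, hc, hne⟩, ⟨_, hc, ne_zero_comm hf hne⟩⟩
  have hWP0 : ∀ a ∈ W, ∀ b ∈ P, f a b = 0 := fun a ha b hb => eq_zero_comm hf (hb a ha)
  have hsum : Module.finrank F W + Module.finrank F P = Fintype.card ι := by
    rw [← Submodule.finrank_sup_add_finrank_inf_eq]
    have h1 : W ⊔ P = ⊤ := eq_top_iff.2 fun x _ => by
      obtain ⟨a, ha, ha'⟩ := exists_split hf hW x
      exact Submodule.mem_sup.2 ⟨a, ha, _, ha', add_sub_cancel _ _⟩
    have h2 : W ⊓ P = ⊥ := eq_bot_iff.2 fun x hx =>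
      (Submodule.mem_bot F).2 (eq_zero_of_mem_perp hf hW hx.1 hx.2)
    rw [h1, h2, finrank_top, finrank_bot, add_zero, Module.finrank_fintype_fun_eq_card]
  have hP7 : 4 ≤ Module.finrank F P := by omega
  have hP0 : P ≠ ⊥ := fun e => by rw [e, finrank_bot] at hP7; exact absurd hP7 (by norm_num)
  -- an isotropic vector in `P`, hence spanning
  obtain ⟨z₀, hz₀, hz₀ne, hz₀0⟩ := exists_isotropic_mem hf (W := P) (by omega)
  have hPspan : Submodule.span F {w | w ∈ P ∧ f w w = 0} = P :=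
    isotropic_span_of_mem hf hz₀ hz₀0 (hPnd z₀ hz₀ hz₀ne).1
  obtain ⟨p₀, hp₀, hp₀'⟩ := exists_value_in hf hPnd le_rfl (by omega) (map_one σ)
  have hp₀n : f p₀ p₀ ≠ 0 := by rw [hp₀']; exact one_ne_zero
  refine CfsgLib.ClassicalMax.isMaximalIn_of inf_le_right ?_ ?_
  · -- a transvection moving `W`
    obtain ⟨a, ha, ha0⟩ := Submodule.exists_mem_ne_zero_of_ne_bot hW0
    obtain ⟨z, hz, hza⟩ := (hW a ha ha0).1
    obtain ⟨b, hb, hb0, hbb⟩ : ∃ b ∈ P, b ≠ 0 ∧ f b b = - f a a := by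
      by_cases haa : f a a = 0
      · exact ⟨z₀, hz₀, hz₀ne, by rw [hz₀0, haa, neg_zero]⟩
      obtain ⟨b, hb, hbb⟩ := exists_value_in hf hPnd le_rfl (by omega)
        (s := - f a a) (by rw [map_neg, self_fixed hf])
      exact ⟨b, hb, fun e => haa (by rw [e, zero_left hf] at hbb; simpa using hbb.symm), hbb⟩
    have hu : f (a + b) (a + b) = 0 := by
      rw [hf.add_left, add_right hf, add_right hf, hWP0 a ha b hb, hb a ha, hbb]; ring
    refine ⟨uTv hf (a + b) τ, ⟨uTv_mem_isoOf hf hu hτ, uTv_mem_sl hf _ _⟩, fun h => ?_⟩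
    have h1 := (CfsgLib.ClassicalMax.mem_subspaceStabilizer.1 h.1 z).1 hz
    have hne : τ * f z (a + b) ≠ 0 := by
      rw [add_right hf, hWP0 z hz b hb, add_zero]; exact mul_ne_zero hτ0 hza
    rw [uTv_mulVec hf hu, Submodule.add_mem_iff_right _ hz, Submodule.smul_mem_iff _ hne,
      Submodule.add_mem_iff_right _ ha] at h1
    exact hb0 (eq_zero_of_mem_perp hf hW h1 hb)
  intro M hHM hMK g hgM hgH
  have hgK := hMK hgM
  have hgi : g ∈ isoOf f := hgK.1
  have hPS : ∀ v ∈ P, f v v = 0 → v ∈ uSet hf M := by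
    refine fun v hv hv0 => ⟨hv0, fun c hc => hHM ⟨?_, uTv_mem_isoOf hf hv0 hc, uTv_mem_sl hf v c⟩⟩
    refine CfsgLib.ClassicalMax.mem_subspaceStabilizer_of_forall fun x hx => ?_
    rw [uTv_mulVec_of_orth hf hv0 c (hWP0 x hx v hv)]
    exact hx
  have hWS : ∀ v ∈ W, f v v = 0 → v ∈ uSet hf M := by
    refine fun v hv hv0 => ⟨hv0, fun c hc => hHM ⟨?_, uTv_mem_isoOf hf hv0 hc, uTv_mem_sl hf v c⟩⟩
    refine CfsgLib.ClassicalMax.mem_subspaceStabilizer_of_forall fun x hx => ?_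
    rw [uTv_mulVec hf hv0]
    exact W.add_mem hx (W.smul_mem _ hv)
  have hnorm : ∀ a ∈ W, ∀ b ∈ P, f (a + b) (a + b) = f a a + f b b := fun a ha b hb => by
    rw [hf.add_left, add_right hf, add_right hf, hWP0 a ha b hb, hb a ha]; ring
  -- the stabiliser moves both components
  have htrans : ∀ a a' b b' : ι → F, a ∈ W → a' ∈ W → b ∈ P → b' ∈ P → a ≠ 0 → a' ≠ 0 → b ≠ 0 →
      b' ≠ 0 → f a a = f a' a' → f b b = f b' b' → a + b ∈ uSet hf M → a' + b' ∈ uSet hf M := by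
    intro a a' b b' ha ha' hb hb' ha0 ha'0 hb0 hb'0 hsa hsb hab
    obtain ⟨h, hhi, ⟨ζ, hζ, hdet⟩, hhW, hhP, hha⟩ := exists_iso_in hf hW ha ha' ha0 ha'0 hsa
    have hζi : ((ζ⁻¹ : Fˣ) : F) * σ ((ζ⁻¹ : Fˣ) : F) = 1 := by
      rw [Units.val_inv_eq_inv_val, map_inv₀, ← mul_inv, hζ, inv_one]
    set h' := h * qRefl hf p₀ hp₀n ζ⁻¹ with hh'
    have hh'H : h' ∈ subspaceStabilizer W ⊓ (isoOf f ⊓ specialLinear ι F) := by
      refine ⟨CfsgLib.ClassicalMax.mem_subspaceStabilizer_of_forall fun x hx => ?_,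
        (isoOf f).mul_mem hhi (qRefl_mem_isoOf hf _ _ _ hζi), ?_⟩
      · rw [hh', gl_mulVec_mul, qRefl_mulVec, hWP0 x hx p₀ hp₀, mul_zero, zero_smul, add_zero]
        simpa using W.add_mem (hhW x) hx
      · change Matrix.GeneralLinearGroup.det h' = 1
        rw [hh', map_mul, hdet]
        refine Units.ext ?_
        rw [Units.val_mul, Units.val_one]
        change (ζ : F) * (qMat hf p₀ ((ζ⁻¹ : Fˣ) : F)).det = 1
        rw [det_qMat hf hp₀n, Units.mul_inv]
    have h1 := uSet_mulVec hf (hHM hh'H) hh'H.2.1 hab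
    set b₁ := (qRefl hf p₀ hp₀n ζ⁻¹ : Matrix ι ι F) *ᵥ b with hb₁
    have hb₁P : b₁ ∈ P := by rw [hb₁, qRefl_mulVec]; exact P.add_mem hb (P.smul_mem _ hp₀)
    have he : (h' : Matrix ι ι F) *ᵥ (a + b) = a' + b₁ := by
      rw [hh', gl_mulVec_mul, mulVec_add, ← hb₁, mulVec_add, hhP b₁ hb₁P,
        qRefl_mulVec, hWP0 a ha p₀ hp₀, mul_zero, zero_smul, add_zero, hha]
    rw [he] at h1
    have hb₁n : f b₁ b₁ = f b' b' := by
      rw [hb₁, mem_isoOf.1 (qRefl_mem_isoOf hf _ _ _ hζi), hsb]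
    obtain ⟨t, ht, htb⟩ := exists_tvGroup_mulVec_four_any hf hPnd hP7 hb₁P hb' (gl_mulVec_ne_zero _ hb0) hb'0 hb₁n
    have hle : tvGroup hf P ≤ subspaceStabilizer W ⊓ (isoOf f ⊓ specialLinear ι F) := by
      refine (Subgroup.closure_le _).2 ?_
      rintro _ ⟨v, c, hv, hv0, hc, rfl⟩
      exact ⟨CfsgLib.ClassicalMax.mem_subspaceStabilizer_of_forall fun x hx => by
        rw [uTv_mulVec_of_orth hf hv0 c (hWP0 x hx v hv)]; exact hx,
        uTv_mem_isoOf hf hv0 hc, uTv_mem_sl hf v c⟩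
    have hta : ∀ t ∈ tvGroup hf P, (t : Matrix ι ι F) *ᵥ a' = a' := by
      intro t ht
      induction ht using Subgroup.closure_induction with
      | mem t ht =>
        obtain ⟨v, c, hv, hv0, -, rfl⟩ := ht
        exact uTv_mulVec_of_orth hf hv0 c (hWP0 a' ha' v hv)
      | one => simp
      | mul x y _ _ hx hy => rw [gl_mulVec_mul, hy, hx]
      | inv x _ hx => conv_lhs => rw [← hx, gl_inv_mulVec_mulVec]
    have h2 := uSet_mulVec hf (hHM (hle ht)) (hle ht).2.1 h1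
    rwa [mulVec_add, hta t ht, htb] at h2
  -- a mixed vector
  obtain ⟨a₁, b₁, ha₁, hb₁, ha₁0, hb₁0, h₁⟩ : ∃ a b : ι → F, a ∈ W ∧ b ∈ P ∧ a ≠ 0 ∧ b ≠ 0 ∧
      a + b ∈ uSet hf M := by
    by_contra hcon
    push Not at hcon
    have hcov : ∀ y ∈ P, f y y = 0 →
        (g : Matrix ι ι F) *ᵥ y ∈ W ∨ (g : Matrix ι ι F) *ᵥ y ∈ P := by
      intro y hy hy0
      obtain ⟨a, ha, hb⟩ := exists_split hf hW ((g : Matrix ι ι F) *ᵥ y)
      by_cases ha0 : a = 0
      · exact Or.inr (by simpa [ha0] using hb)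
      by_cases hb0 : (g : Matrix ι ι F) *ᵥ y - a = 0
      · exact Or.inl (by rw [sub_eq_zero.1 hb0]; exact ha)
      exact absurd (by rw [add_sub_cancel]; exact uSet_mulVec hf hgM hgi (hPS y hy hy0))
        (hcon a _ ha hb ha0 hb0)
    have hgP : ∀ y ∈ P, (g : Matrix ι ι F) *ᵥ y ∈ P := by
      suffices ∀ y ∈ P, f y y = 0 → (g : Matrix ι ι F) *ᵥ y ∈ P by
        intro y hy
        rw [← hPspan] at hy
        have hle : Submodule.span F {w | w ∈ P ∧ f w w = 0} ≤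
            P.comap (Matrix.toLin' (g : Matrix ι ι F)) :=
          Submodule.span_le.2 fun v hv => by simpa using this v hv.1 hv.2
        simpa using hle hy
      intro y₁ hy₁ hy₁0
      by_contra hc
      have hy₁ne : y₁ ≠ 0 := fun e => hc (by rw [e, mulVec_zero]; exact zero_mem _)
      have hall : ∀ y ∈ P, f y y = 0 → (g : Matrix ι ι F) *ᵥ y ∈ W := by
        intro y hy hy0
        rcases eq_or_ne y 0 with rfl | hyne
        · rw [mulVec_zero]; exact zero_mem _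
        obtain ⟨x, hx, hx'⟩ := (hPnd y₁ hy₁ hy₁ne).1
        obtain ⟨x₂, hx₂, hx₂'⟩ := (hPnd y hy hyne).1
        obtain ⟨z, hz, hz0, hz1, hz2⟩ := exists_isotropic_both hf hPspan (formL hf y₁) (formL hf y)
          ⟨x, hx, hx'⟩ ⟨x₂, hx₂, hx₂'⟩
        have hgz : (g : Matrix ι ι F) *ᵥ z ∈ W := by
          refine (hcov z hz hz0).resolve_right fun h => ?_
          refine hz1 ?_
          change f z y₁ = 0
          rw [← mem_isoOf.1 hgi z y₁]
          exact h _ ((hcov y₁ hy₁ hy₁0).resolve_right hc)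
        refine (hcov y hy hy0).resolve_right fun h => ?_
        refine hz2 ?_
        change f z y = 0
        rw [← mem_isoOf.1 hgi z y]
        exact hWP0 _ hgz _ h
      have hle : P.map (Matrix.toLin' (g : Matrix ι ι F)) ≤ W := by
        rw [← hPspan, Submodule.map_le_iff_le_comap, Submodule.span_le]
        exact fun v hv => by simpa using hall v hv.1 hv.2
      have := Submodule.finrank_mono hle
      rw [← (Submodule.equivMapOfInjective _
        (fun x y e => gl_mulVec_injective g (by simpa using e)) P).finrank_eq] at this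
      omega
    refine hgH ⟨CfsgLib.ClassicalMax.mem_subspaceStabilizer_of_forall fun w hw => ?_, hgK⟩
    obtain ⟨a, ha, hb⟩ := exists_split hf hW ((g : Matrix ι ι F) *ᵥ w)
    suffices (g : Matrix ι ι F) *ᵥ w - a = 0 by rw [sub_eq_zero.1 this]; exact ha
    refine eq_zero_of_mem_perp hf hPnd hb fun y hy => ?_
    obtain ⟨y', hy', rfl⟩ := CfsgLib.ClassicalMax.exists_preimage_mem hgP hy
    rw [sub_left hf, mem_isoOf.1 hgi, hWP0 w hw y' hy', hWP0 a ha _ hy, sub_zero]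
  have hiso₁ : f a₁ a₁ + f b₁ b₁ = 0 := (hnorm a₁ ha₁ b₁ hb₁).symm.trans h₁.1
  -- a vector with an anisotropic component
  obtain ⟨a, b, ha, hb, hb0, hsa, hab⟩ : ∃ a b : ι → F, a ∈ W ∧ b ∈ P ∧ b ≠ 0 ∧ f a a ≠ 0 ∧
      a + b ∈ uSet hf M := by
    by_cases hs : f a₁ a₁ = 0
    · have hs' : f b₁ b₁ = 0 := by rwa [hs, zero_add] at hiso₁
      obtain ⟨x, hx, hx'⟩ := (hW a₁ ha₁ ha₁0).1
      obtain ⟨a₂, ha₂, ha₂0, hX', -⟩ := exists_isotropic_both hf
        (isotropic_span_of_mem hf ha₁ hs ⟨x, hx, hx'⟩) (formL hf a₁) (formL hf a₁)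
        ⟨x, hx, hx'⟩ ⟨x, hx, hx'⟩
      have hX : f a₁ a₂ ≠ 0 := ne_zero_comm hf hX'
      have ha₂ne : a₂ ≠ 0 := fun e => hX (by rw [e, zero_right hf])
      obtain ⟨ω, hω⟩ : ∃ ω, σ ω ≠ ω := by
        by_contra h
        push Not at h
        exact hf.ne_refl (RingEquiv.ext h)
      obtain ⟨p, hp, hpp⟩ := exists_value_in hf hPnd le_rfl (by omega) (map_one σ)
      have hpn : f p p ≠ 0 := by rw [hpp]; exact one_ne_zero
      have hli' : LinearIndependent F ![b₁, p] := by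
        rw [LinearIndependent.pair_iff' hb₁0]
        exact fun c e => hpn (by rw [← e, hf.smul_left, smul_right hf, hs', mul_zero, mul_zero])
      obtain ⟨b₂, hb₂, hYp, hY, hb₂0⟩ := exists_prescribed_four_any hf hPnd hP7 hp hb₁
        (LinearIndependent.pair_symm_iff.1 hli') 1 (ω * f a₁ a₂) (s := 0) (map_zero σ) (Or.inl hpn)
      have hb₂ne : b₂ ≠ 0 := fun e => by rw [e, zero_right hf] at hYp; exact zero_ne_one hYp
      have h₂ := htrans a₁ a₂ b₁ b₂ ha₁ ha₂ hb₁ hb₂ ha₁0 ha₂ne hb₁0 hb₂ne (hs.trans ha₂0.symm)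
        (hs'.trans hb₂0.symm) h₁
      have h₃ := uSet_mulVec hf (h₂.2 τ hτ) (uTv_mem_isoOf hf h₂.1 hτ) h₁
      rw [uTv_mulVec hf h₂.1, smul_add] at h₃
      set κ := τ * f (a₁ + b₁) (a₂ + b₂) with hκ
      have hκv : κ = τ * (1 + ω) * f a₁ a₂ := by
        rw [hκ, hf.add_left, add_right hf, add_right hf, hWP0 a₁ ha₁ b₂ hb₂, hb₁ a₂ ha₂, hY]
        ring
      have hna : f (a₁ + κ • a₂) (a₁ + κ • a₂) ≠ 0 := by
        rw [hf.add_left, add_right hf, add_right hf, hf.smul_left, hf.smul_left, smul_right hf,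
          smul_right hf, hs, ha₂0, hκv, map_mul, map_mul, map_add, map_one, hτ, hf.herm a₂ a₁]
        have hXσ : σ (f a₁ a₂) ≠ 0 := fun e => hX (by simpa using congrArg σ.symm e)
        have : τ * (ω - σ ω) * f a₁ a₂ * σ (f a₁ a₂) ≠ 0 :=
          mul_ne_zero (mul_ne_zero (mul_ne_zero hτ0 (sub_ne_zero.2 (Ne.symm hω))) hX) hXσ
        intro e
        apply this
        linear_combination e
      refine ⟨a₁ + κ • a₂, b₁ + κ • b₂, W.add_mem ha₁ (W.smul_mem _ ha₂),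
        P.add_mem hb₁ (P.smul_mem _ hb₂), fun e => hna ?_, hna, ?_⟩
      · have := h₃.1
        rw [show a₁ + b₁ + (κ • a₂ + κ • b₂) = (a₁ + κ • a₂) + (b₁ + κ • b₂) by abel, e, add_zero] at this
        exact this
      · rwa [show a₁ + b₁ + (κ • a₂ + κ • b₂) = (a₁ + κ • a₂) + (b₁ + κ • b₂) by abel] at h₃
    · exact ⟨a₁, b₁, ha₁, hb₁, hb₁0, hs, h₁⟩
  have ha0 : a ≠ 0 := fun e => hsa (by rw [e, zero_left hf])
  -- every vector with anisotropic components
  have haniso : ∀ a' b', a' ∈ W → b' ∈ P → f a' a' ≠ 0 → f (a' + b') (a' + b') = 0 →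
      a' + b' ∈ uSet hf M := by
    intro a' b' ha' hb' hsa' h0
    rw [hnorm a' ha' b' hb'] at h0
    have ha'0 : a' ≠ 0 := fun e => hsa' (by rw [e, zero_left hf])
    have hb'0 : b' ≠ 0 := fun e => hsa' (by rwa [e, zero_left hf, add_zero] at h0)
    obtain ⟨κ, hκ⟩ := exists_norm_eq hf.ne_refl hf.involutive (s := f a' a' / f a a)
      (by rw [map_div₀, self_fixed hf, self_fixed hf])
    have hκ0 : κ ≠ 0 := fun e => by
      rw [e, zero_mul] at hκ
      exact div_ne_zero hsa' hsa hκ.symm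
    obtain ⟨x, hx, hxb⟩ := (hPnd b hb hb0).1
    obtain ⟨y, hy, hy0, hyb, -⟩ := exists_isotropic_both hf hPspan (formL hf b) (formL hf b)
      ⟨x, hx, hxb⟩ ⟨x, hx, hxb⟩
    have hyb' : f y b ≠ 0 := hyb
    set y' := (κ / (τ * f y b)) • y with hy'
    have h := uSet_mulVec hf (hab.2 τ hτ) (uTv_mem_isoOf hf hab.1 hτ)
      (uSet_smul hf (κ / (τ * f y b)) (hPS y hy hy0))
    rw [← hy', uTv_mulVec hf hab.1] at h
    have hk : τ * f y' (a + b) = κ := by
      rw [hy', hf.smul_left, add_right hf, hy a ha, zero_add]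
      field_simp
    rw [hk, show y' + κ • (a + b) = κ • a + (y' + κ • b) by rw [smul_add]; abel] at h
    have hn1 : f (κ • a) (κ • a) = f a' a' := by
      rw [hf.smul_left, smul_right hf, ← mul_assoc, hκ, div_mul_cancel₀ _ hsa]
    have hwP : y' + κ • b ∈ P := P.add_mem (P.smul_mem _ hy) (P.smul_mem _ hb)
    have hn2 : f (y' + κ • b) (y' + κ • b) = f b' b' := by
      have e := h.1
      rw [hnorm _ (W.smul_mem _ ha) _ hwP, hn1] at e
      linear_combination e - h0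
    refine htrans (κ • a) a' (y' + κ • b) b' (W.smul_mem _ ha) ha' hwP hb' (smul_ne_zero hκ0 ha0)
      ha'0 (fun e => ?_) hb'0 hn1 hn2 h
    rw [e, zero_left hf] at hn2
    rw [← hn2, add_zero] at h0
    exact hsa' h0
  refine iso_inf_sl_le_four hf (by omega) fun v c hv hc => ?_
  suffices hvS : v ∈ uSet hf M from hvS.2 c hc
  obtain ⟨a', ha', hb'⟩ := exists_split hf hW v
  by_cases ha'0 : a' = 0
  · exact hPS v (by simpa [ha'0] using hb') hv
  by_cases hb'0 : v - a' = 0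
  · rw [sub_eq_zero.1 hb'0] at hv ⊢; exact hWS a' ha' hv
  by_cases hsa' : f a' a' = 0
  · -- isotropic components: combine two anisotropic ones
    obtain ⟨l, hl0, hl⟩ : ∃ l : F, l ≠ 0 ∧
        f (l • a' - a) (l • a' - a) ≠ 0 := by
      by_cases hX : f a' a = 0
      · refine ⟨1, one_ne_zero, ?_⟩
        rw [one_smul, sub_left hf, sub_right hf, sub_right hf, hsa', hX, eq_zero_comm hf hX]
        simpa using hsa
      · refine ⟨τ / f a' a, div_ne_zero hτ0 hX, ?_⟩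
        rw [sub_left hf, sub_right hf, sub_right hf, hf.smul_left, hf.smul_left, smul_right hf,
          smul_right hf, hsa', hf.herm a a', map_div₀, hτ]
        have hX' : σ (f a' a) ≠ 0 := fun e => hX (by simpa using congrArg σ.symm e)
        rw [div_mul_cancel₀ _ hX, div_mul_cancel₀ _ hX']
        simpa using hsa
    set a₂ := l • a' - a with ha₂
    have ha₂W : a₂ ∈ W := W.sub_mem (W.smul_mem _ ha') ha
    obtain ⟨p, hp, hp0, hbp⟩ : ∃ p ∈ P, p ≠ 0 ∧ f b p = 0 := by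
      let L := (formL hf b).comp P.subtype
      have h := LinearMap.finrank_range_add_finrank_ker L
      have h' : Module.finrank F (LinearMap.range L) ≤ 1 := by
        simpa using Submodule.finrank_le (LinearMap.range L)
      obtain ⟨⟨p, hpP⟩, hp, hp0⟩ := Submodule.exists_mem_ne_zero_of_ne_bot (p := LinearMap.ker L)
        (fun e => by rw [e, finrank_bot] at h; omega)
      exact ⟨p, hpP, fun e => hp0 (Subtype.ext e), eq_zero_comm hf hp⟩
    have hbn : f b b ≠ 0 := by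
      have e := hab.1
      rw [hnorm a ha b hb] at e
      intro e'
      rw [e', add_zero] at e
      exact hsa e
    have hli' : LinearIndependent F ![p, b] := by
      rw [LinearIndependent.pair_iff' hp0]
      intro c hc
      apply hbn
      conv_lhs => arg 2; rw [← hc]
      rw [smul_right hf, hbp, mul_zero]
    obtain ⟨b₂, hb₂, hb₂p, hb₂b, hb₂n⟩ := exists_prescribed_four_any hf hPnd hP7 hp hb hli' 1
      (τ⁻¹ - f a a₂) (s := - f a₂ a₂) (by rw [map_neg, self_fixed hf]) (Or.inr one_ne_zero)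
    have h₂ := haniso a₂ b₂ ha₂W hb₂ hl (by rw [hnorm a₂ ha₂W b₂ hb₂, hb₂n, add_neg_cancel])
    have h₃ := uSet_mulVec hf (h₂.2 τ hτ) (uTv_mem_isoOf hf h₂.1 hτ) hab
    rw [uTv_mulVec hf h₂.1, hf.add_left, add_right hf, add_right hf, hWP0 a ha b₂ hb₂, hb a₂ ha₂W,
      hb₂b, add_zero, zero_add, add_sub_cancel, mul_inv_cancel₀ hτ0, one_smul,
      show a + b + (a₂ + b₂) = l • a' + (b + b₂) by rw [ha₂]; abel] at h₃
    have hne : b + b₂ ≠ 0 := fun e => by
      have := congrArg (fun z => f p z) e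
      simp only [add_right hf, eq_zero_comm hf hbp, hb₂p, zero_right hf, zero_add] at this
      exact one_ne_zero this
    have h₄ := uSet_smul hf l⁻¹ h₃
    rw [smul_add, smul_smul, inv_mul_cancel₀ hl0, one_smul] at h₄
    have hn4 : f (l⁻¹ • (b + b₂)) (l⁻¹ • (b + b₂)) = f (v - a') (v - a') := by
      have e := h₄.1
      rw [hnorm a' ha' _ (P.smul_mem _ (P.add_mem hb hb₂)), hsa', zero_add] at e
      have e' := hnorm a' ha' _ hb'
      rw [add_sub_cancel, hv, hsa', zero_add] at e'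
      rw [e, ← e']
    have := htrans a' a' (l⁻¹ • (b + b₂)) (v - a') ha' ha' (P.smul_mem _ (P.add_mem hb hb₂)) hb'
      ha'0 ha'0 (smul_ne_zero (inv_ne_zero hl0) hne) hb'0 rfl hn4 h₄
    rwa [add_sub_cancel] at this
  · have := haniso a' (v - a') ha' hb' hsa' (by rwa [add_sub_cancel])
    rwa [add_sub_cancel] at this

end CfsgLib.ClassicalMax.Unit
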