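/-
Unitary overgroups of the stabiliser of a decomposition into blocks of dimension at least two.
-/
import Cfsg.Agent.Lib.ClassicalMax.UDecompMon
import Cfsg.Agent.Lib.ClassicalMax.BlockMax
import Cfsg.Agent.Lib.ClassicalMax.UnitNondeg
set_option autoImplicit false
set_option maxHeartbeats 800000

namespace CfsgLib.ClassicalMax.UDec

open Matrix Cfsg.Geo MonG Unit BlockG

variable {t m : ℕ} {F : Type*} [Field F] [Fintype F] [DecidableEq F] {σ : F ≃+* F}

/-- The vectors supported in one block. -/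
def blk (F : Type*) [Field F] (t m : ℕ) (j : Fin t) : Submodule F (Fin t × Fin m → F) where
  carrier := {x | ∀ i, i.1 ≠ j → x i = 0}
  add_mem' {a b} ha hb i hi := by simp [ha i hi, hb i hi]
  zero_mem' i _ := rfl
  smul_mem' c a ha i hi := by simp [ha i hi]

/-- The component in one block. -/
def pr (j : Fin t) (x : Fin t × Fin m → F) : Fin t × Fin m → F := fun i => if i.1 = j then x i else 0

omit [Fintype F] [DecidableEq F] in
lemma pr_mem (j : Fin t) (x : Fin t × Fin m → F) : pr j x ∈ blk F t m j :=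
  fun i hi => if_neg hi

omit [Fintype F] [DecidableEq F] in
lemma stdF_pr {j : Fin t} {x : Fin t × Fin m → F} (hx : x ∈ blk F t m j) (y : Fin t × Fin m → F) :
    stdF σ x (pr j y) = stdF σ x y := by
  refine Finset.sum_congr rfl fun i _ => ?_
  by_cases h : i.1 = j
  · simp [pr, h]
  · simp [hx i h]

omit [Fintype F] [DecidableEq F] in
lemma stdF_blk_ne {j l : Fin t} (h : j ≠ l) {x y : Fin t × Fin m → F} (hx : x ∈ blk F t m j)
    (hy : y ∈ blk F t m l) : stdF σ x y = 0 := by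
  refine Finset.sum_eq_zero fun i _ => ?_
  by_cases hi : i.1 = j
  · rw [hy i fun e => h (hi.symm.trans e), map_zero, mul_zero]
  · rw [hx i hi, zero_mul]

omit [DecidableEq F] [Fintype F] in
lemma finrank_blk (j : Fin t) : Module.finrank F (blk F t m j) = m := by
  let e : blk F t m j ≃ₗ[F] (Fin m → F) :=
    { toFun := fun x i => (x : Fin t × Fin m → F) (j, i)
      map_add' := fun x y => rfl
      map_smul' := fun c x => rfl
      invFun := fun y => ⟨fun i => if i.1 = j then y i.2 else 0, fun i hi => if_neg hi⟩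
      left_inv := fun x => Subtype.ext (funext fun i => by
        by_cases h : i.1 = j
        · simp only [h, if_true]; exact congrArg _ (Prod.ext h.symm rfl)
        · simp only [h, if_false]; exact (x.2 i h).symm)
      right_inv := fun y => funext fun i => by simp }
  rw [e.finrank_eq, Module.finrank_fin_fun]

variable (hne : σ ≠ RingEquiv.refl F) (h2 : ∀ a : F, σ (σ a) = a) {M : Subgroup (GL (Fin t × Fin m) F)}

/-- The block-permuting isometries of determinant one lie in `M`. -/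
def HasUB (σ : F ≃+* F) (M : Subgroup (GL (Fin t × Fin m) F)) : Prop :=
  ∀ h, h ∈ isoOf (stdF (ι := Fin t × Fin m) σ) → h ∈ specialLinear (Fin t × Fin m) F → Bst h → h ∈ M

variable (hM : HasUB σ M) (hiso : M ≤ isoOf (stdF (ι := Fin t × Fin m) σ)) (hm : 2 ≤ m)

include hne h2 hM hiso hm

omit hM hiso hm [DecidableEq F] [Fintype F] in
lemma blk_nondeg (j : Fin t) : IsNondegenerateOn (stdF σ) (blk F t m j) := by
  intro w hw hw0
  obtain ⟨i, hi⟩ := Function.ne_iff.1 hw0
  have hij : i.1 = j := by_contra fun h => hi (hw i h)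
  have hmem : (Pi.single i (1 : F) : Fin t × Fin m → F) ∈ blk F t m j := fun y hy =>
    Pi.single_eq_of_ne (fun e => hy (by rw [e, hij])) 1
  refine ⟨⟨_, hmem, ?_⟩, ⟨_, hmem, ?_⟩⟩
  · rw [single_stdF, one_mul]
    exact fun e => hi (σ.injective (by simpa using e))
  · rw [stdF_single, map_one, mul_one]; exact hi

omit hM hiso hm hne h2 [Fintype F] [DecidableEq F] in
lemma bst_of_local {j : Fin t} {h : GL (Fin t × Fin m) F}
    (h1 : ∀ x ∈ blk F t m j, (h : Matrix (Fin t × Fin m) (Fin t × Fin m) F) *ᵥ x ∈ blk F t m j)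
    (h3 : ∀ x, (∀ i, i.1 = j → x i = 0) → (h : Matrix (Fin t × Fin m) (Fin t × Fin m) F) *ᵥ x = x) : Bst h := by
  intro j'
  refine ⟨j', fun i y hi hy => ?_⟩
  rw [← congrFun (col_eq h i) y]
  by_cases hj : j' = j
  · subst hj
    exact h1 _ (fun z hz => Pi.single_eq_of_ne (fun e => hz (by rw [e, hi])) 1) y hy
  · rw [h3 _ fun z hz => Pi.single_eq_of_ne (fun e => hj (by rw [← hi, ← e, hz])) 1]
    exact Pi.single_eq_of_ne (fun e => hy (by rw [e, hi])) 1

omit hM hiso in
lemma exists_in_blk {j : Fin t} {v : Fin t × Fin m → F} (hv : v ∈ blk F t m j) (hv0 : v ≠ 0) (γ : F)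
    {s : F} (hs : σ s = s) (hor : γ ≠ 0 ∨ 3 ≤ m ∨ stdF σ v v ≠ 0) :
    ∃ u ∈ blk F t m j, stdF σ u v = γ ∧ stdF σ u u = s := by
  have hf := isU (ι := Fin t × Fin m) hne h2
  have hnd := blk_nondeg hne h2 (m := m) j
  set L := (formL hf v).comp (blk F t m j).subtype
  set W' := blk F t m j ⊓ LinearMap.ker (formL hf v) with hW'
  have hdim : m ≤ Module.finrank F W' + 1 := by
    have h := LinearMap.finrank_range_add_finrank_ker L
    have h' : Module.finrank F (LinearMap.range L) ≤ 1 := by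
      simpa using Submodule.finrank_le (LinearMap.range L)
    have hle : (LinearMap.ker L).map (blk F t m j).subtype ≤ W' := by
      rintro _ ⟨y, hy, rfl⟩; exact ⟨y.2, hy⟩
    have h3 := Submodule.finrank_mono hle
    rw [Submodule.finrank_map_subtype_eq] at h3
    rw [finrank_blk] at h
    omega
  by_cases hN : stdF σ v v = 0
  · by_cases hγ : γ = 0
    · subst hγ
      have h3 : 3 ≤ m := by simpa [hN] using hor
      obtain ⟨u, hu, hu'⟩ := exists_value_in hf hnd (K := W') inf_le_left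
        (by rw [finrank_blk]; omega) hs
      exact ⟨u, hu.1, hu.2, hu'⟩
    obtain ⟨x, hx, hxv⟩ := (hnd v hv hv0).1
    obtain ⟨z, hz, hzv⟩ : ∃ z ∈ blk F t m j, stdF σ z v = 1 :=
      ⟨(stdF σ x v)⁻¹ • x, Submodule.smul_mem _ _ hx, by rw [hf.smul_left, inv_mul_cancel₀ hxv]⟩
    obtain ⟨a, ha⟩ := exists_trace_eq hf (s := s - γ * σ γ * stdF σ z z) (by
      rw [map_sub, hs, map_mul, map_mul, h2, self_fixed hf]; ring)
    have hσγ : σ γ ≠ 0 := fun e => hγ (σ.injective (by rw [e, map_zero]))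
    refine ⟨γ • z + (a / σ γ) • v, Submodule.add_mem _ (Submodule.smul_mem _ _ hz)
      (Submodule.smul_mem _ _ hv), ?_, ?_⟩
    · rw [hf.add_left, hf.smul_left, hf.smul_left, hzv, hN]; ring
    · rw [hf.add_left, add_right hf, add_right hf, hf.smul_left, hf.smul_left, hf.smul_left,
        hf.smul_left, smul_right hf, smul_right hf, smul_right hf, smul_right hf, hzv, hN,
        hf.herm v z, hzv, map_one, map_div₀, h2]
      field_simp
      linear_combination (γ * σ γ) * ha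
  · have hnd' : IsNondegenerateOn (stdF σ) W' := by
      intro w hw hw0
      obtain ⟨x, hx, hxw⟩ := (hnd w hw.1 hw0).1
      have hvw : stdF σ v w = 0 := eq_zero_comm hf hw.2
      have hxW : x - (stdF σ x v / stdF σ v v) • v ∈ W' := by
        refine ⟨Submodule.sub_mem _ hx (Submodule.smul_mem _ _ hv), ?_⟩
        change stdF σ _ v = 0
        rw [sub_left hf, hf.smul_left, div_mul_cancel₀ _ hN, sub_self]
      have h1 : stdF σ (x - (stdF σ x v / stdF σ v v) • v) w ≠ 0 := by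
        rwa [sub_left hf, hf.smul_left, hvw, mul_zero, sub_zero]
      exact ⟨⟨_, hxW, h1⟩, ⟨_, hxW, ne_zero_comm hf h1⟩⟩
    obtain ⟨e, he, he'⟩ := exists_value_in hf hnd' le_rfl (by omega)
      (s := s - γ * σ γ / stdF σ v v) (by
        rw [map_sub, hs, map_div₀, map_mul, h2, self_fixed hf, mul_comm (σ γ)])
    refine ⟨(γ / stdF σ v v) • v + e, Submodule.add_mem _ (Submodule.smul_mem _ _ hv) he.1, ?_, ?_⟩
    · rw [hf.add_left, hf.smul_left, div_mul_cancel₀ _ hN, show stdF σ e v = 0 from he.2, add_zero]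
    · have hev : stdF σ e v = 0 := he.2
      rw [hf.add_left, add_right hf, add_right hf, hf.smul_left, hf.smul_left, smul_right hf,
        smul_right hf, hev, eq_zero_comm hf hev, he', map_div₀, self_fixed hf]
      field_simp
      ring

lemma trans_blk {j : Fin t} {a a' : Fin t × Fin m → F} (ha : a ∈ blk F t m j)
    (ha' : a' ∈ blk F t m j) (hN : stdF σ a a ≠ 0) (hs : stdF σ a a = stdF σ a' a') :
    ∃ h ∈ M, (h : Matrix (Fin t × Fin m) (Fin t × Fin m) F) *ᵥ a = a' ∧
      ∀ x, (∀ i, i.1 = j → x i = 0) → (h : Matrix (Fin t × Fin m) (Fin t × Fin m) F) *ᵥ x = x := by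
  classical
  have hf := isU (ι := Fin t × Fin m) hne h2
  have hnd := blk_nondeg hne h2 (m := m) j
  have ha0 : a ≠ 0 := fun e => hN (by rw [e, zero_left hf])
  have ha'0 : a' ≠ 0 := fun e => hN (by rw [hs, e, zero_left hf])
  obtain ⟨h₀, hi₀, ⟨ζ, hζ, hdet⟩, hW₀, hP₀, he₀⟩ := exists_iso_in hf hnd ha ha' ha0 ha'0 hs
  obtain ⟨p, hp, hpa, hp1⟩ := exists_in_blk hne h2 hm ha' ha'0 0 (map_one σ)
    (Or.inr (Or.inr (hs ▸ hN)))
  have hpn : stdF σ p p ≠ 0 := by rw [hp1]; exact one_ne_zero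
  have hperp : ∀ x : Fin t × Fin m → F, (∀ i, i.1 = j → x i = 0) → ∀ w ∈ blk F t m j,
      stdF σ x w = 0 := fun x hx w hw => Finset.sum_eq_zero fun i _ => by
    by_cases hi : i.1 = j
    · rw [hx i hi, zero_mul]
    · rw [hw i hi, map_zero, mul_zero]
  have hζi : ((ζ⁻¹ : Fˣ) : F) * σ ((ζ⁻¹ : Fˣ) : F) = 1 := by
    rw [Units.val_inv_eq_inv_val, map_inv₀, ← mul_inv, hζ, inv_one]
  set h := qRefl hf p hpn ζ⁻¹ * h₀ with hh
  have hfix : ∀ x, (∀ i, i.1 = j → x i = 0) → (h : Matrix (Fin t × Fin m) (Fin t × Fin m) F) *ᵥ x = x := fun x hx => by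
    rw [hh, gl_mulVec_mul, hP₀ x (fun w hw => hperp x hx w hw), qRefl_mulVec, hperp x hx p hp,
      mul_zero, zero_smul, add_zero]
  refine ⟨h, hM h ((isoOf _).mul_mem (qRefl_mem_isoOf hf p hpn _ hζi) hi₀) ?_ ?_, ?_, hfix⟩
  · change Matrix.GeneralLinearGroup.det h = 1
    rw [hh, map_mul, hdet]
    refine Units.ext ?_
    rw [Units.val_mul, Units.val_one]
    change (qMat hf p ((ζ⁻¹ : Fˣ) : F)).det * (ζ : F) = 1
    rw [det_qMat hf hpn, Units.inv_mul]
  · refine bst_of_local (j := j) (fun x hx => ?_) hfix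
    rw [hh, gl_mulVec_mul, qRefl_mulVec]
    refine Submodule.add_mem _ ?_ (Submodule.smul_mem _ _ hp)
    simpa using Submodule.add_mem _ (hW₀ x) hx
  · rw [hh, gl_mulVec_mul, he₀, qRefl_mulVec, hf.herm a' p, hpa, map_zero, mul_zero, zero_smul,
      add_zero]

lemma two_block {w : Fin t × Fin m → F} (hw : w ∈ uSet (isU hne h2) M) {j l : Fin t} (hjl : j ≠ l)
    (hj : pr j w ≠ 0) (hl : pr l w ≠ 0) :
    ∃ p ∈ blk F t m j, ∃ r ∈ blk F t m l, stdF σ p p ≠ 0 ∧ p + r ∈ uSet (isU hne h2) M := by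
  classical
  have hf := isU (ι := Fin t × Fin m) hne h2
  obtain ⟨dj, hdj, hdj1, hdjn⟩ := exists_in_blk hne h2 hm (pr_mem j w) hj 1 (map_one σ)
    (Or.inl one_ne_zero)
  obtain ⟨dl, hdl, hdl1, hdln⟩ := exists_in_blk hne h2 hm (pr_mem l w) hl 1
    (s := -1) (by simp) (Or.inl one_ne_zero)
  rw [stdF_pr hdj] at hdj1
  rw [stdF_pr hdl] at hdl1
  have hjn : stdF σ dj dj ≠ 0 := by rw [hdjn]; exact one_ne_zero
  have hln : stdF σ dl dl ≠ 0 := by rw [hdln]; exact neg_ne_zero.2 one_ne_zero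
  obtain ⟨ζ, hζσ, hζ1⟩ := exists_sigma_ne hne h2
  have hζi : (((ζ : Fˣ)⁻¹ : Fˣ) : F) = σ (val ζ) := by rw [sigma_val]; simp [val]
  have hζin : (((ζ : Fˣ)⁻¹ : Fˣ) : F) * σ (((ζ : Fˣ)⁻¹ : Fˣ) : F) = 1 := by
    rw [hζi, h2, mul_comm]; exact val_norm ζ
  set h := qRefl hf dj hjn (ζ : Fˣ) * qRefl hf dl hln (ζ : Fˣ)⁻¹ with hh
  have hhiso : h ∈ isoOf (stdF σ) := (isoOf _).mul_mem (qRefl_mem_isoOf hf _ _ _ (val_norm ζ))
    (qRefl_mem_isoOf hf _ _ _ hζin)
  have hb : ∀ (i : Fin t) (d : Fin t × Fin m → F) (hd : d ∈ blk F t m i) (hn : stdF σ d d ≠ 0)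
      (η : Fˣ), Bst (qRefl hf d hn η) := fun i d hd hn η => by
    refine bst_of_local (j := i) (fun x hx => ?_) (fun x hx => ?_)
    · rw [qRefl_mulVec]
      exact Submodule.add_mem _ hx (Submodule.smul_mem _ _ hd)
    · have : stdF σ x d = 0 := Finset.sum_eq_zero fun y _ => by
        by_cases hy : y.1 = i
        · rw [hx y hy, zero_mul]
        · rw [hd y hy, map_zero, mul_zero]
      rw [qRefl_mulVec, this, mul_zero, zero_smul, add_zero]
  have hhM : h ∈ M := by
    refine hM h hhiso ?_ (bst_mul (hb j dj hdj hjn _) (hb l dl hdl hln _))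
    change Matrix.GeneralLinearGroup.det h = 1
    rw [hh, map_mul]
    refine Units.ext ?_
    rw [Units.val_mul, Units.val_one]
    change (qMat hf dj ((ζ : Fˣ) : F)).det * (qMat hf dl (((ζ : Fˣ)⁻¹ : Fˣ) : F)).det = 1
    rw [det_qMat hf hjn, det_qMat hf hln, Units.mul_inv]
  have hjl0 : stdF σ dl dj = 0 := stdF_blk_ne hjl.symm hdl hdj
  have hwj : stdF σ w dj = 1 := by rw [hf.herm, hdj1, map_one]
  have hwl : stdF σ w dl = 1 := by rw [hf.herm, hdl1, map_one]
  set p := (val ζ - 1) • dj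
  set r := (-(σ (val ζ) - 1)) • dl
  have e : (h : Matrix (Fin t × Fin m) (Fin t × Fin m) F) *ᵥ w + (-1 : F) • w = p + r := by
    rw [hh, gl_mulVec_mul, qRefl_mulVec, qRefl_mulVec, hf.add_left, hf.smul_left, hjl0, hwj, hwl,
      hdjn, hdln, hζi]
    simp only [p, r, val]
    match_scalars <;> ring
  refine ⟨p, Submodule.smul_mem _ _ hdj, r, Submodule.smul_mem _ _ hdl, ?_, ?_⟩
  · rw [hf.smul_left, smul_right hf, hdjn, mul_one]
    exact mul_ne_zero (sub_ne_zero.2 hζ1) fun h' => hζ1 (σ.injective (by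
      rw [map_sub, map_one] at h'; rw [sub_eq_zero.1 h', map_one]))
  · rw [← e]
    refine uSet_add hf (uSet_mulVec hf hhM hhiso hw) (uSet_smul hf (-1) hw) ?_ ?_
    · have e2 : stdF σ w ((h : Matrix (Fin t × Fin m) (Fin t × Fin m) F) *ᵥ w) = σ (val ζ) - val ζ := by
        have h1 := congrArg (fun x => stdF σ w x) e
        simp only [p, r, add_right hf, smul_right hf, hw.1, hwj, hwl, mul_zero, add_zero] at h1
        rw [h1, map_neg, map_sub, map_sub, map_one, h2]
        ring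
      rw [hf.smul_left, e2]
      exact mul_ne_zero (by norm_num) (sub_ne_zero.2 hζσ)
    · rw [e, hf.add_left, add_right hf, add_right hf, hf.smul_left, hf.smul_left, hf.smul_left,
        hf.smul_left, smul_right hf, smul_right hf, smul_right hf, smul_right hf, hjl0,
        eq_zero_comm hf hjl0, hdjn, hdln, map_neg, map_sub, map_sub, map_one, h2]
      ring

/-- All transvections lie in an overgroup of the block stabiliser that is not inside it. -/
theorem block_uSet (hex : 3 ≤ m ∨ qq σ ≠ 2) {g : GL (Fin t × Fin m) F} (hg : g ∈ M) (hgb : ¬ Bst g)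
    {v : Fin t × Fin m → F} (hv : stdF σ v v = 0) : v ∈ uSet (isU hne h2) M := by
  classical
  have hf := isU (ι := Fin t × Fin m) hne h2
  have hnd := fun j => blk_nondeg hne h2 (m := m) (t := t) j
  obtain ⟨τ, hτ0, hτ⟩ := exists_trace_zero hne h2
  have hone : ∀ j, ∀ x ∈ blk F t m j, stdF σ x x = 0 → x ∈ uSet hf M := fun j x hx hx0 =>
    ⟨hx0, fun c hc => hM _ (uTv_mem_isoOf hf hx0 hc) (uTv_mem_sl hf x c)
      (bst_of_local (j := j) (fun y hy => by
        rw [uTv_mulVec hf hx0]; exact Submodule.add_mem _ hy (Submodule.smul_mem _ _ hx))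
        fun y hy => uTv_mulVec_of_orth hf hx0 c (Finset.sum_eq_zero fun i _ => by
          by_cases hi : i.1 = j
          · rw [hy i hi, zero_mul]
          · rw [hx i hi, map_zero, mul_zero]))⟩
  have hout : ∀ {j l : Fin t}, j ≠ l → ∀ {x}, x ∈ blk F t m l → ∀ i, i.1 = j → x i = 0 :=
    fun hjl _ hx i hi => hx i fun e => hjl (hi.symm.trans e)
  -- a vector with two non-zero blocks
  obtain ⟨w, hw, j₀, l₀, hjl₀, hj₀, hl₀⟩ : ∃ w ∈ uSet hf M, ∃ j l : Fin t, j ≠ l ∧
      pr j w ≠ 0 ∧ pr l w ≠ 0 := by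
    by_contra hcon
    push Not at hcon
    apply hgb
    have hsing : ∀ j, ∀ x ∈ blk F t m j, stdF σ x x = 0 →
        ∃ l, (g : Matrix (Fin t × Fin m) (Fin t × Fin m) F) *ᵥ x ∈ blk F t m l := by
      intro j x hx hx0
      set y := (g : Matrix (Fin t × Fin m) (Fin t × Fin m) F) *ᵥ x
      by_cases hy : y = 0
      · exact ⟨j, by rw [hy]; exact zero_mem _⟩
      obtain ⟨i, hi⟩ := Function.ne_iff.1 hy
      refine ⟨i.1, fun i' hi' => ?_⟩
      have h1 := hcon y (uSet_mulVec hf hg (hiso hg) (hone j x hx hx0)) i.1 i'.1 (Ne.symm hi')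
        (fun e => hi (by simpa [pr] using congrFun e i))
      simpa [pr] using congrFun h1 i'
    intro j
    obtain ⟨β, hβ⟩ := exists_norm_eq hne h2 (s := (-1 : F)) (by simp)
    set a : Fin t × Fin m := (j, ⟨0, by omega⟩)
    set b : Fin t × Fin m := (j, ⟨1, by omega⟩)
    have hab : a ≠ b := fun e => by simpa [a, b] using congrArg Prod.snd e
    set x₀ : Fin t × Fin m → F := Pi.single a 1 + Pi.single b β with hx₀
    have hx₀m : x₀ ∈ blk F t m j := fun i hi => by
      rw [hx₀, Pi.add_apply, Pi.single_eq_of_ne (fun e => hi (by rw [e])),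
        Pi.single_eq_of_ne (fun e => hi (by rw [e])), add_zero]
    have hx₀0 : x₀ ≠ 0 := fun e => by
      have := congrFun e a
      simp [hx₀, hab] at this
    have hx₀n : stdF σ x₀ x₀ = 0 := by
      rw [hx₀, hf.add_left, add_right hf, add_right hf, single_stdF, single_stdF, single_stdF,
        single_stdF]
      simp [hab, hab.symm, hβ]
    obtain ⟨l, hl⟩ := hsing j x₀ hx₀m hx₀n
    have hall : ∀ x ∈ blk F t m j, stdF σ x x = 0 → (g : Matrix (Fin t × Fin m) (Fin t × Fin m) F) *ᵥ x ∈ blk F t m l := by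
      intro x hx hx0
      obtain ⟨l', hl'⟩ := hsing j x hx hx0
      by_cases hll : l' = l
      · exact hll ▸ hl'
      by_cases hgx : (g : Matrix (Fin t × Fin m) (Fin t × Fin m) F) *ᵥ x = 0
      · rw [hgx]; exact zero_mem _
      exfalso
      have hxx : stdF σ x x₀ = 0 := by
        rw [← mem_isoOf.1 (hiso hg) x x₀]; exact stdF_blk_ne hll hl' hl
      obtain ⟨l'', hl''⟩ := hsing j (x + x₀) (Submodule.add_mem _ hx hx₀m) (by
        rw [hf.add_left, add_right hf x x x₀, add_right hf x₀ x x₀, hx0, hx₀n, hxx, eq_zero_comm hf hxx]; ring)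
      rw [mulVec_add] at hl''
      obtain ⟨i, hi⟩ := Function.ne_iff.1 hgx
      obtain ⟨i₀, hi₀⟩ := Function.ne_iff.1 (gl_mulVec_ne_zero g hx₀0)
      have h1 : i.1 = l' := by_contra fun h => hi (hl' i h)
      have h3 : i₀.1 = l := by_contra fun h => hi₀ (hl i₀ h)
      have h4 : i.1 = l'' := by_contra fun h => hi (by
        have := hl'' i h
        rwa [Pi.add_apply, hl i (by rw [h1]; exact hll), add_zero] at this)
      have h5 : i₀.1 = l'' := by_contra fun h => hi₀ (by
        have := hl'' i₀ h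
        rwa [Pi.add_apply, hl' i₀ (by rw [h3]; exact Ne.symm hll), zero_add] at this)
      exact hll (by rw [← h1, ← h3, h4, h5])
    refine ⟨l, fun i y hi hy => ?_⟩
    rw [← congrFun (col_eq g i) y]
    have hspan := isotropic_span_of_mem hf hx₀m hx₀n (hnd j x₀ hx₀m hx₀0).1
    have hle : blk F t m j ≤ (blk F t m l).comap (Matrix.toLin' (g : Matrix (Fin t × Fin m) (Fin t × Fin m) F)) := by
      rw [← hspan, Submodule.span_le]
      exact fun x hx => by simpa using hall x hx.1 hx.2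
    exact hle (x := Pi.single i 1) (fun z hz => Pi.single_eq_of_ne (fun e => hz (by rw [e, hi])) 1)
      y hy
  obtain ⟨p₀, hp₀, r₀, hr₀, hn₀, h₀⟩ := two_block hne h2 hM hiso hm hw hjl₀ hj₀ hl₀
  have hsum : ∀ {j l : Fin t}, j ≠ l → ∀ {p r}, p ∈ blk F t m j → r ∈ blk F t m l →
      stdF σ (p + r) (p + r) = stdF σ p p + stdF σ r r := fun hjl _ _ hp hr => by
    rw [hf.add_left, add_right hf, add_right hf, stdF_blk_ne hjl hp hr, stdF_blk_ne hjl.symm hr hp]
    ring
  set a₀ := stdF σ p₀ p₀ with ha₀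
  have ha₀' : σ a₀ = a₀ := self_fixed hf p₀
  -- transitivity on a pair of blocks
  have htr : ∀ {j l : Fin t}, j ≠ l → ∀ {p p' r r'}, p ∈ blk F t m j → p' ∈ blk F t m j →
      r ∈ blk F t m l → r' ∈ blk F t m l → stdF σ p p ≠ 0 → stdF σ p p = stdF σ p' p' →
      p + r ∈ uSet hf M → p' + r' ∈ uSet hf M ∨ stdF σ r r ≠ stdF σ r' r' := by
    intro j l hjl p p' r r' hp hp' hr hr' hn hs hT
    by_cases hrr : stdF σ r r = stdF σ r' r'
    swap
    · exact Or.inr hrr
    refine Or.inl ?_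
    have hrn : stdF σ r r ≠ 0 := fun e => hn (by
      have := hT.1; rwa [hsum hjl hp hr, e, add_zero] at this)
    obtain ⟨h₁, hh₁, e₁, f₁⟩ := trans_blk hne h2 hM hiso hm hp hp' hn hs
    obtain ⟨h₂, hh₂, e₂, f₂⟩ := trans_blk hne h2 hM hiso hm hr hr' hrn hrr
    have h1 := uSet_mulVec hf hh₁ (hiso hh₁) hT
    rw [mulVec_add, e₁, f₁ r (hout hjl hr)] at h1
    have h3 := uSet_mulVec hf hh₂ (hiso hh₂) h1
    rwa [mulVec_add, e₂, f₂ p' (hout hjl.symm hp')] at h3
  -- every pair of blocks with the first norm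
  have hA : ∀ j l : Fin t, j ≠ l → ∀ p r, p ∈ blk F t m j → r ∈ blk F t m l →
      stdF σ p p = a₀ → stdF σ r r = -a₀ → p + r ∈ uSet hf M := by
    intro j l hjl p r hp hr hpn hrn
    obtain ⟨π, hπj, hπl⟩ : ∃ π : Equiv.Perm (Fin t), π j₀ = j ∧ π l₀ = l := by
      refine ⟨Equiv.swap (Equiv.swap j₀ j l₀) l * Equiv.swap j₀ j, ?_, by simp⟩
      rw [Equiv.Perm.mul_apply, Equiv.swap_apply_left, Equiv.swap_apply_of_ne_of_ne _ hjl]
      intro e
      exact hjl₀ ((Equiv.swap j₀ j).injective (by rw [Equiv.swap_apply_left]; exact e))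
    set Pm : Equiv.Perm (Fin t × Fin m) := Equiv.prodCongr π (Equiv.refl _) with hPm
    obtain ⟨ε, hε, hεv, hε2⟩ := sign_mem_nOne (σ := σ) Pm
    set d : Fin t × Fin m → Fˣ := Function.update 1 (j₀, ⟨0, by omega⟩) ε
    have hd : ∀ y, d y ∈ nOne σ := fun y => by
      simp only [d, Function.update_apply, Pi.one_apply]
      split_ifs
      · exact hε
      · exact (nOne σ).one_mem
    have hdM : mon Pm d ∈ M := by
      refine hM _ (mon_mem_iso Pm hd) ?_ (fun b => ⟨π b, fun i y hi hy => ?_⟩)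
      · change Matrix.GeneralLinearGroup.det (mon Pm d) = 1
        refine Units.ext ?_
        rw [Matrix.GeneralLinearGroup.val_det_apply, det_mon, Units.val_one, ← hεv,
          Fintype.prod_eq_single (j₀, (⟨0, by omega⟩ : Fin m)) fun y hy => by simp [d, hy]]
        simp [d, hε2]
      · have : y ≠ Pm i := fun e => hy (by rw [e, hPm]; simp [hi])
        simp [coe_mon, monMat, this]
    have hmem : ∀ {b : Fin t} {x}, x ∈ blk F t m b → (mon Pm d : Matrix (Fin t × Fin m) (Fin t × Fin m) F) *ᵥ x ∈ blk F t m (π b) :=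
      fun {b x} hx i hi => by
        rw [mon_mulVec, hx _ ?_, mul_zero]
        intro e
        apply hi
        simp [hPm] at e
        rw [← e, Equiv.apply_symm_apply]
    have h1 := uSet_mulVec hf hdM (hiso hdM) h₀
    rw [mulVec_add] at h1
    have hn1 : stdF σ ((mon Pm d : Matrix (Fin t × Fin m) (Fin t × Fin m) F) *ᵥ p₀) ((mon Pm d : Matrix (Fin t × Fin m) (Fin t × Fin m) F) *ᵥ p₀) = a₀ :=
      mem_isoOf.1 (hiso hdM) p₀ p₀
    have hn2 : stdF σ ((mon Pm d : Matrix (Fin t × Fin m) (Fin t × Fin m) F) *ᵥ r₀) ((mon Pm d : Matrix (Fin t × Fin m) (Fin t × Fin m) F) *ᵥ r₀) = -a₀ := by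
      rw [mem_isoOf.1 (hiso hdM)]
      have := h₀.1
      rw [hsum hjl₀ hp₀ hr₀] at this
      linear_combination this
    refine (htr hjl (hπj ▸ hmem hp₀) hp (hπl ▸ hmem hr₀) hr (by rw [hn1]; exact hn₀)
      (hn1.trans hpn.symm) h1).resolve_right (not_not_intro (hn2.trans hrn.symm))
  -- every anisotropic profile
  have hB : ∀ j l : Fin t, j ≠ l → ∀ P R, P ∈ blk F t m j → R ∈ blk F t m l →
      stdF σ P P ≠ 0 → stdF σ P P + stdF σ R R = 0 → P + R ∈ uSet hf M := by
    intro j l hjl P R hP hR hPn hPR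
    have hRn : stdF σ R R ≠ 0 := fun e => hPn (by rwa [e, add_zero] at hPR)
    obtain ⟨p, hp, hpn⟩ := exists_value_in hf (hnd j) le_rfl (by rw [finrank_blk]; omega) ha₀'
    obtain ⟨r, hr, hrn⟩ := exists_value_in hf (hnd l) le_rfl (by rw [finrank_blk]; omega)
      (s := -a₀) (by rw [map_neg, ha₀'])
    have hp0 : p ≠ 0 := fun e => hn₀ (by rw [← hpn, e, zero_left hf])
    have hr0 : r ≠ 0 := fun e => hn₀ (by rw [← neg_eq_zero, ← hrn, e, zero_left hf])
    obtain ⟨γ, hγ⟩ := exists_trace_eq hf (s := 2 * a₀ - stdF σ P P)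
      (by rw [map_sub, map_mul, map_ofNat, ha₀', self_fixed hf])
    obtain ⟨p', hp', hp'γ, hp'n⟩ := exists_in_blk hne h2 hm hp hp0 γ ha₀'
      (Or.inr (Or.inr (by rw [hpn]; exact hn₀)))
    obtain ⟨r', hr', hr'δ, hr'n⟩ := exists_in_blk hne h2 hm hr hr0 (τ - γ) (s := -a₀)
      (by rw [map_neg, ha₀']) (Or.inr (Or.inr (by rw [hrn]; exact neg_ne_zero.2 hn₀)))
    have hx := hA j l hjl p r hp hr hpn hrn
    have hy := uSet_smul hf (-1) (hA j l hjl p' r' hp' hr' hp'n hr'n)
    have hf1 : stdF σ p' r = 0 := stdF_blk_ne hjl hp' hr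
    have hf2 : stdF σ r' p = 0 := stdF_blk_ne hjl.symm hr' hp
    have e1 : stdF σ (p - p') (p - p') = stdF σ P P := by
      rw [sub_left hf, sub_right hf, sub_right hf, hpn, hp'n, hp'γ, hf.herm p p', hp'γ]
      linear_combination -hγ
    have e2 : stdF σ (r - r') (r - r') = stdF σ R R := by
      rw [sub_left hf, sub_right hf, sub_right hf, hrn, hr'n, hr'δ, hf.herm r r', hr'δ, map_sub, hτ]
      linear_combination hγ - hPR
    have e3 : p + r + (-1 : F) • (p' + r') = (p - p') + (r - r') := by module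
    have h5 := uSet_add hf hx hy (by
      rw [hf.smul_left, hf.add_left, add_right hf, add_right hf, hp'γ, hr'δ, hf1, hf2]
      intro e
      exact hτ0 (by linear_combination -e)) (by
      rw [e3, hsum hjl (Submodule.sub_mem _ hp hp') (Submodule.sub_mem _ hr hr'), e1, e2, hPR])
    rw [e3] at h5
    exact (htr hjl (Submodule.sub_mem _ hp hp') hP (Submodule.sub_mem _ hr hr') hR
      (by rw [e1]; exact hPn) e1 h5).resolve_right (not_not_intro e2)
  have havoid : ∀ e : F, ∃ c : F, c ≠ 0 ∧ σ c = -c ∧ (c ≠ e ∨ 3 ≤ m) := fun e => by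
    rcases hex with h | h
    · exact ⟨τ, hτ0, hτ, Or.inr h⟩
    · obtain ⟨c, h1, h3, h4⟩ := exists_trace_zero_avoid hne h2 h e
      exact ⟨c, h1, h4, Or.inl h3⟩
  -- every pair of blocks
  have hC : ∀ j l : Fin t, j ≠ l → ∀ P R, P ∈ blk F t m j → R ∈ blk F t m l →
      stdF σ (P + R) (P + R) = 0 → P + R ∈ uSet hf M := by
    intro j l hjl P R hP hR h0
    rw [hsum hjl hP hR] at h0
    by_cases hPn : stdF σ P P = 0
    swap
    · exact hB j l hjl P R hP hR hPn h0
    have hRn : stdF σ R R = 0 := by rwa [hPn, zero_add] at h0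
    by_cases hP0 : P = 0
    · rw [hP0, zero_add]; exact hone l R hR hRn
    by_cases hR0 : R = 0
    · rw [hR0, add_zero]; exact hone j P hP hPn
    obtain ⟨γ, hγ0, hγ, hγ'⟩ := havoid τ
    obtain ⟨p, hp, hpγ, hpn⟩ := exists_in_blk hne h2 hm hP hP0 γ (map_one σ) (Or.inl hγ0)
    obtain ⟨r, hr, hrγ, hrn⟩ := exists_in_blk hne h2 hm hR hR0 (τ - γ) (s := -1) (by simp) (by
      rcases hγ' with h | h
      · exact Or.inl (sub_ne_zero.2 (Ne.symm h))
      · exact Or.inr (Or.inl h))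
    have e1 : stdF σ (P - p) (P - p) = 1 := by
      rw [sub_left hf, sub_right hf, sub_right hf, hPn, hpn, hpγ, hf.herm P p, hpγ, hγ]; ring
    have e2 : stdF σ (R - r) (R - r) = -1 := by
      rw [sub_left hf, sub_right hf, sub_right hf, hRn, hrn, hrγ, hf.herm R r, hrγ, map_sub, hγ, hτ]
      ring
    have hx := hB j l hjl p r hp hr (by rw [hpn]; exact one_ne_zero) (by rw [hpn, hrn]; ring)
    have hy := hB j l hjl (P - p) (R - r) (Submodule.sub_mem _ hP hp) (Submodule.sub_mem _ hR hr)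
      (by rw [e1]; exact one_ne_zero) (by rw [e1, e2]; ring)
    have e3 : p + r + (P - p + (R - r)) = P + R := by module
    have h5 := uSet_add hf hx hy (by
      rw [hf.add_left, add_right hf, add_right hf, stdF_blk_ne hjl (Submodule.sub_mem _ hP hp) hr,
        stdF_blk_ne hjl.symm (Submodule.sub_mem _ hR hr) hp, sub_left hf, sub_left hf, hpn, hrn,
        hf.herm P p, hpγ, hf.herm R r, hrγ, map_sub, hγ, hτ]
      intro e
      exact hτ0 (by linear_combination -e)) (by rw [e3, hsum hjl hP hR, hPn, hRn, add_zero])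
    rwa [e3] at h5
  suffices ∀ N, ∀ v : Fin t × Fin m → F, (Finset.univ.filter fun j => pr j v ≠ 0).card = N →
      stdF σ v v = 0 → v ∈ uSet hf M from this _ v rfl hv
  intro N
  induction N using Nat.strong_induction_on with
  | _ N IH =>
  intro v hN hv
  set S := Finset.univ.filter fun j => pr j v ≠ 0 with hS
  have hvS : ∀ i, v i ≠ 0 → i.1 ∈ S := fun i hi =>
    Finset.mem_filter.2 ⟨Finset.mem_univ _, fun e => hi (by simpa [pr] using congrFun e i)⟩
  by_cases h1 : ∃ j, ∀ i, i.1 ≠ j → v i = 0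
  · obtain ⟨j, hj⟩ := h1
    exact hone j v hj hv
  push Not at h1
  obtain ⟨j, hj⟩ : ∃ j, pr j v ≠ 0 := by
    obtain ⟨i, -, hi⟩ := h1 j₀
    exact ⟨i.1, fun e => hi (by simpa [pr] using congrFun e i)⟩
  obtain ⟨i, hij, hi⟩ := h1 j
  set l := i.1
  have hl : pr l v ≠ 0 := fun e => hi (by simpa [pr, l] using congrFun e i)
  have hnj : σ (stdF σ (pr j v) (pr j v)) = stdF σ (pr j v) (pr j v) := self_fixed hf _
  obtain ⟨c, hc0, hc, hc'⟩ := havoid (stdF σ (pr j v) (pr j v))
  obtain ⟨u, hu, huv, hun⟩ := exists_in_blk hne h2 hm (pr_mem l v) hl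
    (c - stdF σ (pr j v) (pr j v)) (s := -stdF σ (pr j v) (pr j v)) (by rw [map_neg, hnj]) (by
      rcases hc' with h | h
      · exact Or.inl (sub_ne_zero.2 h)
      · exact Or.inr (Or.inl h))
  rw [stdF_pr hu] at huv
  set x := pr j v + u with hx
  have hx0 : stdF σ x x = 0 := by rw [hx, hsum (Ne.symm hij) (pr_mem j v) hu, hun, add_neg_cancel]
  have hxT : x ∈ uSet hf M := hC j l (Ne.symm hij) _ _ (pr_mem j v) hu hx0
  have hxv : stdF σ x v = c := by
    rw [hx, hf.add_left, huv, ← stdF_pr (pr_mem j v) v, add_sub_cancel]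
  have hy0 : stdF σ (v - x) (v - x) = 0 := by
    rw [sub_left hf, sub_right hf, sub_right hf, hv, hx0, hxv, hf.herm v x, hxv, hc]; ring
  have hyT : v - x ∈ uSet hf M := by
    refine IH _ ?_ (v - x) rfl hy0
    rw [← hN]
    refine Finset.card_lt_card ⟨fun b hb => ?_, fun h => ?_⟩
    · by_contra hbS
      refine (Finset.mem_filter.1 hb).2 (funext fun y => ?_)
      by_cases hy : y.1 = b
      · have hvy : v y = 0 := by_contra fun h => hbS (hy ▸ hvS y h)
        have hbl : y.1 ≠ l := fun e => hbS (Finset.mem_filter.2 ⟨Finset.mem_univ _, by rw [← hy, e]; exact hl⟩)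
        simp [pr, hy, hx, hvy, hu y hbl]
      · simp [pr, hy]
    · refine (Finset.mem_filter.1 (h (Finset.mem_filter.2 ⟨Finset.mem_univ j, hj⟩))).2
        (funext fun y => ?_)
      by_cases hy : y.1 = j
      · simp [pr, hy, hx, hu y (by rw [hy]; exact Ne.symm hij)]
      · simp [pr, hy]
  have h5 := uSet_add hf hxT hyT (by
    rw [sub_left hf, hf.herm v x, hxv, hx0, sub_zero]
    exact fun e => hc0 (σ.injective (by rw [e, map_zero]))) (by rwa [add_sub_cancel])
  rwa [add_sub_cancel] at h5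

end CfsgLib.ClassicalMax.UDec
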