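/-
Stabilisers of non-degenerate decompositions are maximal in special unitary groups.
-/
import Cfsg.Agent.Lib.ClassicalMax.UDecompBlock
import Cfsg.Agent.Lib.ClassicalMax.BlockTransport
set_option autoImplicit false
set_option maxHeartbeats 800000

namespace CfsgLib.ClassicalMax.UDec

open Matrix Cfsg.Geo MonG Unit BlockG

variable {ι : Type} [Fintype ι] [DecidableEq ι] {F : Type*} [Field F] [Fintype F]
  {σ : F ≃+* F} {f : (ι → F) → (ι → F) → F}

lemma exists_onb (hf : IsUnitaryForm σ f) : ∀ (k : ℕ) (W : Submodule F (ι → F)),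
    IsNondegenerateOn f W → Module.finrank F W = k →
      ∃ v : Fin k → ι → F, (∀ i, v i ∈ W) ∧ ∀ i j, f (v i) (v j) = if i = j then 1 else 0 := by
  classical
  intro k
  induction k with
  | zero => exact fun W _ _ => ⟨fun i => i.elim0, fun i => i.elim0, fun i => i.elim0⟩
  | succ k ih =>
    intro W hW hdim
    obtain ⟨u, hu, hu1⟩ := exists_value_in hf hW le_rfl (by omega) (map_one σ)
    have hu0 : f u u ≠ 0 := by rw [hu1]; exact one_ne_zero
    set W' := W ⊓ LinearMap.ker (formL hf u)
    have hW' : IsNondegenerateOn f W' := by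
      intro w hw hw0
      obtain ⟨x, hx, hxw⟩ := (hW w hw.1 hw0).1
      have hmem : x - f x u • u ∈ W' := ⟨W.sub_mem hx (W.smul_mem _ hu), by
        change f _ u = 0
        rw [sub_left hf, hf.smul_left, hu1, mul_one, sub_self]⟩
      have h1 : f (x - f x u • u) w ≠ 0 := by
        rwa [sub_left hf, hf.smul_left, eq_zero_comm hf hw.2, mul_zero, sub_zero]
      exact ⟨⟨_, hmem, h1⟩, ⟨_, hmem, ne_zero_comm hf h1⟩⟩
    have hge : k ≤ Module.finrank F W' := by
      set L := (formL hf u).comp W.subtype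
      have h := LinearMap.finrank_range_add_finrank_ker L
      have h' : Module.finrank F (LinearMap.range L) ≤ 1 := by
        simpa using Submodule.finrank_le (LinearMap.range L)
      have hle : (LinearMap.ker L).map W.subtype ≤ W' := by
        rintro _ ⟨y, hy, rfl⟩; exact ⟨y.2, hy⟩
      have h3 := Submodule.finrank_mono hle
      rw [Submodule.finrank_map_subtype_eq] at h3
      omega
    have hlt : W' < W := lt_of_le_of_ne inf_le_left fun e =>
      hu0 ((e.symm ▸ hu : u ∈ W').2)
    have := Submodule.finrank_lt_finrank_of_lt hlt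
    obtain ⟨v, hv, hvo⟩ := ih W' hW' (by omega)
    refine ⟨Fin.cons u v, Fin.cases hu fun i => (hv i).1, ?_⟩
    refine Fin.cases (Fin.cases ?_ fun j => ?_) (fun i => Fin.cases ?_ fun j => ?_)
    · simpa using hu1
    · rw [Fin.cons_zero, Fin.cons_succ, eq_zero_comm hf (show f (v j) u = 0 from (hv j).2)]
      exact (if_neg (Fin.succ_ne_zero j).symm).symm
    · rw [Fin.cons_zero, Fin.cons_succ, show f (v i) u = 0 from (hv i).2]
      exact (if_neg (Fin.succ_ne_zero i)).symm
    · simp [hvo]

/-- Orthonormal coordinates adapted to a non-degenerate decomposition. -/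
theorem exists_transport_iso (hf : IsUnitaryForm σ f) {t m : ℕ} {D : Fin t → Submodule F (ι → F)}
    (hD : IsNondegenerateMDecomposition f m D) :
    ∃ Ψ : GL (Fin t × Fin m) F ≃* GL ι F,
      (∀ g, Matrix.det (Ψ g : Matrix ι ι F)
        = Matrix.det (g : Matrix (Fin t × Fin m) (Fin t × Fin m) F)) ∧
      (∀ g, Ψ g ∈ isoOf f ↔ g ∈ isoOf (stdF σ)) ∧
      ∀ g, Ψ g ∈ decompositionStabilizer D ↔ Bst g := by
  classical
  choose v hv hvo using fun j => exists_onb hf m (D j) (hD.nondegenerate j) (hD.decomp.finrank_eq j)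
  let b₀ : Fin t × Fin m → ι → F := fun k => v k.1 k.2
  have horth : ∀ k k', f (b₀ k) (b₀ k') = if k = k' then 1 else 0 := fun k k' => by
    obtain ⟨j, i⟩ := k
    obtain ⟨j', i'⟩ := k'
    by_cases h : j = j'
    · subst h; simp [b₀, hvo]
    · simp only [b₀, hD.orthogonal j j' h _ (hv j i) _ (hv j' i')]
      simp [h]
  have hlin : LinearIndependent F b₀ := by
    refine Fintype.linearIndependent_iff.2 fun c hc k => ?_
    have h1 := congrArg (formL hf (b₀ k)) hc
    simpa [horth, map_sum, zero_left hf] using h1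
  have hc : Fintype.card ι = Fintype.card (Fin t × Fin m) := by
    rw [← Unit.Frame.card_blocks hD.decomp, Fintype.card_prod, Fintype.card_fin, Fintype.card_fin,
      mul_comm]
  haveI : Nonempty (Fin t × Fin m) :=
    ⟨(⟨0, by have := hD.decomp.two_le; omega⟩, ⟨0, hD.decomp.pos⟩)⟩
  let b : Module.Basis (Fin t × Fin m) F (ι → F) :=
    basisOfLinearIndependentOfCardEqFinrank hlin (by rw [Module.finrank_fintype_fun_eq_card, hc])
  have hbe : ∀ k, b k = b₀ k := fun k => by simp [b]
  have hb : ∀ k, b k ∈ D k.1 := fun k => by rw [hbe]; exact hv k.1 k.2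
  obtain ⟨e⟩ : Nonempty (ι ≃ Fin t × Fin m) := Fintype.card_eq.1 hc
  let A : Matrix ι ι F := Matrix.of fun r c => b (e c) r
  have h1 : ∀ x : ι → F, A *ᵥ x = ∑ k, x (e.symm k) • b k := fun x => by
    funext r
    rw [← e.sum_comp (fun k => x (e.symm k) • b k)]
    simp [A, mulVec, dotProduct, mul_comm]
  have hA : IsUnit A := by
    refine Matrix.mulVec_injective_iff_isUnit.1 fun x y h => ?_
    simp only [h1] at h
    funext i
    have := Fintype.linearIndependent_iff.1 b.linearIndependent
      (fun k => x (e.symm k) - y (e.symm k))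
      (by simp only [sub_smul, Finset.sum_sub_distrib, h, sub_self]) (e i)
    simpa [sub_eq_zero] using this
  let P : GL ι F := hA.unit
  let Ψ : GL (Fin t × Fin m) F ≃* GL ι F := (glReindex e.symm).trans (MulAut.conj P)
  have hΨ : ∀ g, (Ψ g : Matrix ι ι F) = (P : Matrix ι ι F) *
      ((g : Matrix (Fin t × Fin m) (Fin t × Fin m) F).submatrix e e) *
        ((P⁻¹ : GL ι F) : Matrix ι ι F) := fun g => rfl
  let L : (Fin t × Fin m → F) → (ι → F) := fun z => ∑ k, z k • b k
  have hPL : ∀ z, (P : Matrix ι ι F) *ᵥ (z ∘ e) = L z := fun z => by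
    change A *ᵥ _ = _
    rw [h1]
    simp [L]
  have happ : ∀ g z, (Ψ g : Matrix ι ι F) *ᵥ L z
      = L ((g : Matrix (Fin t × Fin m) (Fin t × Fin m) F) *ᵥ z) := fun g z => by
    rw [hΨ, ← hPL, ← hPL, mulVec_mulVec, Matrix.mul_assoc, ← Units.val_mul, inv_mul_cancel,
      Units.val_one, Matrix.mul_one, ← mulVec_mulVec, Matrix.submatrix_mulVec_equiv]
    simp [Function.comp_assoc]
  have hLf : ∀ z w, f (L z) (L w) = stdF σ z w := fun z w => by
    have e1 : ∀ k, f (b k) (L w) = σ (w k) := fun k => by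
      rw [hf.herm]
      congr 1
      simp only [L, ← formL_apply hf (b k), map_sum, map_smul, smul_eq_mul]
      simp [hbe, horth]
    have h2' : f (L z) (L w) = formL hf (L w) (L z) := rfl
    rw [h2', stdF]
    change formL hf (L w) (∑ k, z k • b k) = _
    rw [map_sum]
    exact Finset.sum_congr rfl fun k _ => by rw [map_smul, formL_apply, e1, smul_eq_mul]
  have hLs : ∀ x, L (fun k => b.repr x k) = x := fun x => b.sum_repr x
  have hcol : ∀ g i, (Ψ g : Matrix ι ι F) *ᵥ b i
      = ∑ y, (g : Matrix (Fin t × Fin m) (Fin t × Fin m) F) y i • b y := fun g i => by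
    have h2' : b i = L (Pi.single i 1) := by
      simp only [L]
      rw [Finset.sum_eq_single i (fun k _ hk => by simp [hk]) (by simp)]
      simp
    conv_lhs => rw [h2', happ]
    simp [L]
  have hspan : ∀ j, D j = Submodule.span F (b '' {k | k.1 = j}) := fun j => by
    refine (Submodule.eq_of_le_of_finrank_eq (Submodule.span_le.2 ?_) ?_).symm
    · rintro _ ⟨k, hk, rfl⟩
      exact hk ▸ hb k
    · rw [hD.decomp.finrank_eq]
      let f' : Fin m → ι → F := fun i => b (j, i)
      have hr : b '' {k | k.1 = j} = Set.range f' := by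
        ext v
        constructor
        · rintro ⟨⟨a, i⟩, rfl, rfl⟩; exact ⟨i, rfl⟩
        · rintro ⟨i, rfl⟩; exact ⟨(j, i), rfl, rfl⟩
      have hf' : LinearIndependent F f' :=
        b.linearIndependent.comp (fun i => (j, i)) fun i i' h => congrArg Prod.snd h
      rw [hr, finrank_span_eq_card hf', Fintype.card_fin]
  refine ⟨Ψ, fun g => ?_, fun g => ⟨fun h x y => ?_, fun h x y => ?_⟩,
    fun g => ⟨fun h j => ?_, fun h => ?_⟩⟩
  · rw [hΨ, Matrix.det_units_conj, Matrix.det_submatrix_equiv_self]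
  · change stdF σ ((g : Matrix (Fin t × Fin m) (Fin t × Fin m) F) *ᵥ x) ((g : Matrix (Fin t × Fin m) (Fin t × Fin m) F) *ᵥ y) = stdF σ x y
    rw [← hLf, ← happ, ← happ, mem_isoOf.1 h, hLf]
  · change f ((Ψ g : Matrix ι ι F) *ᵥ x) ((Ψ g : Matrix ι ι F) *ᵥ y) = f x y
    rw [← hLs x, ← hLs y, happ, happ, hLf, hLf, mem_isoOf.1 h]
  · obtain ⟨π, hπ⟩ := h
    refine ⟨π j, fun i y hi hy => ?_⟩
    have h1 : (Ψ g : Matrix ι ι F) *ᵥ b i ∈ D (π j) := by
      rw [← hπ j]
      exact ⟨b i, hi ▸ hb i, Matrix.toLin'_apply _ _⟩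
    rw [hcol, hspan] at h1
    have h2' := (Module.Basis.mem_span_image b).1 h1
    have h3 : b.repr (∑ z, (g : Matrix (Fin t × Fin m) (Fin t × Fin m) F) z i • b z) y
        = (g : Matrix (Fin t × Fin m) (Fin t × Fin m) F) y i := by
      simp [Finsupp.single_apply]
    rw [← h3]
    exact Finsupp.notMem_support_iff.1 fun hm => hy (h2' hm)
  · choose π hπ using h
    have hle : ∀ j, (D j).map (Matrix.toLin' (Ψ g : Matrix ι ι F)) ≤ D (π j) := fun j => by
      rw [hspan j, Submodule.map_span, Submodule.span_le]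
      rintro _ ⟨_, ⟨i, hi, rfl⟩, rfl⟩
      rw [Matrix.toLin'_apply, hcol]
      refine Submodule.sum_mem _ fun y _ => ?_
      by_cases hy : y.1 = π j
      · exact Submodule.smul_mem _ _ (hy ▸ hb y)
      · rw [hπ j i y hi hy, zero_smul]; exact Submodule.zero_mem _
    have hinjg : Function.Injective (Matrix.toLin' (Ψ g : Matrix ι ι F)) := fun x y hxy =>
      gl_mulVec_injective (Ψ g) (by simpa using hxy)
    have heq : ∀ j, (D j).map (Matrix.toLin' (Ψ g : Matrix ι ι F)) = D (π j) := fun j =>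
      Submodule.eq_of_le_of_finrank_eq (hle j) (by
        rw [← (Submodule.equivMapOfInjective _ hinjg (D j)).finrank_eq, hD.decomp.finrank_eq,
          hD.decomp.finrank_eq])
    have hinj : Function.Injective π := fun a c hac => by
      by_contra hne
      have hDe : D a = D c := Submodule.map_injective_of_injective hinjg (by rw [heq, heq, hac])
      have hdis := hD.decomp.indep.pairwiseDisjoint hne
      rw [Function.onFun, hDe, disjoint_self] at hdis
      have h4 := hD.decomp.finrank_eq c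
      rw [hdis, finrank_bot] at h4
      exact absurd hD.decomp.pos (by omega)
    exact ⟨Equiv.ofBijective π hinj.bijective_of_finite, heq⟩

variable [DecidableEq F]

/-- Stabilisers of non-degenerate decompositions are maximal in the special unitary group. -/
theorem decomposition_maximal (hf : IsUnitaryForm σ f) {t m : ℕ}
    {D : Fin t → Submodule F (ι → F)} (hD : IsNondegenerateMDecomposition f m D)
    (hn : 10 ≤ Fintype.card ι) (hex : m = 2 → qq σ ≠ 2) :
    IsMaximalIn (isoOf f ⊓ specialLinear ι F)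
      (decompositionStabilizer D ⊓ (isoOf f ⊓ specialLinear ι F)) := by
  classical
  have hne := hf.ne_refl
  have h2 := hf.involutive
  have hs := isU (ι := Fin t × Fin m) hne h2
  have hmt := Unit.Frame.card_blocks hD.decomp
  have hcard : 10 ≤ Fintype.card (Fin t × Fin m) := by
    simp only [Fintype.card_prod, Fintype.card_fin]; rw [mul_comm]; omega
  obtain ⟨Ψ, hdet, hiso, hst⟩ := exists_transport_iso hf hD
  have hslI : ∀ g, Ψ g ∈ specialLinear ι F ↔ g ∈ specialLinear (Fin t × Fin m) F := fun g => by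
    simp only [specialLinear, MonoidHom.mem_ker, Units.ext_iff, Matrix.GeneralLinearGroup.val_det_apply,
      Units.val_one, hdet]
  refine CfsgLib.ClassicalMax.isMaximalIn_of inf_le_right ?_ ?_
  · obtain ⟨τ, hτ0, hτ⟩ := exists_trace_zero hne h2
    have h2t := hD.decomp.two_le
    set b : Fin t × Fin m := (⟨0, by omega⟩, ⟨0, hD.decomp.pos⟩)
    set c : Fin t × Fin m := (⟨1, by omega⟩, ⟨0, hD.decomp.pos⟩)
    have hbc : b.1 ≠ c.1 := fun e => by simp [b, c] at e
    have hbc' : b ≠ c := fun e => hbc (congrArg Prod.fst e)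
    obtain ⟨a, hab, hac, -⟩ := MonG.exists_notMem (by omega) b c c
    obtain ⟨d, hdb, hdc, hda⟩ := MonG.exists_notMem (by omega) b c a
    obtain ⟨β, hβ⟩ := exists_norm_eq hne h2 (s := (-1 : F)) (by simp)
    have hβ0 : β ≠ 0 := fun e => by
      rw [e, zero_mul] at hβ; exact one_ne_zero (neg_eq_zero.1 hβ.symm)
    set x : Fin t × Fin m → F := Pi.single a 1 + Pi.single b β + Pi.single c 1 + Pi.single d β
    have hx0 : stdF σ x x = 0 := by
      simp only [x, hs.add_left, add_right hs, single_stdF]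
      simp [hab, hab.symm, hac, hac.symm, hda, hda.symm, hbc', hbc'.symm, hdb, hdb.symm, hdc,
        hdc.symm, hβ]
    refine ⟨Ψ (uTv hs x τ), ⟨(hiso _).2 (uTv_mem_isoOf hs hx0 hτ),
      (hslI _).2 (uTv_mem_sl hs x τ)⟩, fun h => ?_⟩
    obtain ⟨j', hj'⟩ := (hst _).1 h.1 a.1
    have hval : ∀ y, y ≠ a → (uTv hs x τ : Matrix _ _ F) y a = τ * x y := fun y hy => by
      rw [← congrFun (col_eq (uTv hs x τ) a) y, uTv_mulVec hs hx0, single_stdF]
      simp [x, hab.symm, hac.symm, hda.symm, hy]
      ring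
    by_cases hj : b.1 = j'
    · have h1 := hj' a c rfl (hj ▸ hbc.symm)
      rw [hval c hac.symm] at h1
      exact hτ0 (by simpa [x, hac.symm, hbc'.symm, hdc.symm] using h1)
    · have h1 := hj' a b rfl hj
      rw [hval b hab.symm] at h1
      exact mul_ne_zero hτ0 hβ0 (by simpa [x, hab.symm, hbc', hdb.symm] using h1)
  intro M hHM hMK g hgM hgH
  set M' := M.comap Ψ.toMonoidHom with hM'
  have hiso' : M' ≤ isoOf (stdF σ) := fun k hk => (hiso k).1 (hMK hk).1
  have hB : HasUB σ M' := fun h h1 h3 h4 => hHM ⟨(hst h).2 h4, (hiso h).2 h1, (hslI h).2 h3⟩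
  have hgM' : Ψ.symm g ∈ M' := by
    change Ψ (Ψ.symm g) ∈ M
    rwa [MulEquiv.apply_symm_apply]
  have hgb' : ¬ Bst (Ψ.symm g) := fun hb => hgH ⟨by simpa using (hst _).2 hb, hMK hgM⟩
  have hall : ∀ v : Fin t × Fin m → F, stdF σ v v = 0 → v ∈ uSet hs M' := by
    intro v hv
    have hpos := hD.decomp.pos
    rcases Nat.lt_or_ge m 2 with h | h
    · have hm1 : m = 1 := by omega
      haveI : Subsingleton (Fin m) := by rw [hm1]; infer_instance
      have hB' : ∀ k : GL (Fin t × Fin m) F, Mon k → Bst k := fun k hk j => by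
        obtain ⟨b', hb'⟩ := hk (j, ⟨0, hpos⟩)
        refine ⟨b'.1, fun i y hi hy => ?_⟩
        rw [show i = (j, ⟨0, hpos⟩) from Prod.ext hi (Subsingleton.elim _ _)]
        exact hb' y fun e => hy (e ▸ rfl)
      have hU : HasU σ M' := fun π d hd hdet1 => hB _ (mon_mem_iso π hd) (by
        simp only [specialLinear, MonoidHom.mem_ker, Units.ext_iff,
          Matrix.GeneralLinearGroup.val_det_apply, Units.val_one]
        exact hdet1) (hB' _ (mon_Mon π d))
      obtain ⟨k, hk, hkm, a, ha⟩ := exists_fix_line hne h2 hU hiso' hcard hgM'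
        fun hm => hgb' (hB' _ hm)
      exact line_uSet hne h2 hU hiso' hcard hk hkm ha hv
    · exact block_uSet hne h2 hB hiso' h (by
        by_cases hm2 : m = 2
        · exact Or.inr (hex hm2)
        · exact Or.inl (by omega)) hgM' hgb' hv
  have hle : isoOf (stdF σ) ⊓ specialLinear (Fin t × Fin m) F ≤ M' :=
    iso_inf_sl_le hs (by omega) fun v c hv hc => (hall v hv).2 c hc
  intro x hx
  have h1 : Ψ.symm x ∈ M' := hle ⟨(hiso _).1 (by rw [MulEquiv.apply_symm_apply]; exact hx.1),
    (hslI _).1 (by rw [MulEquiv.apply_symm_apply]; exact hx.2)⟩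
  change Ψ (Ψ.symm x) ∈ M at h1
  rwa [MulEquiv.apply_symm_apply] at h1

end CfsgLib.ClassicalMax.UDec
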