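/-
Stabilisers of a pair of complementary totally singular subspaces are maximal in unitary groups.
-/
import Cfsg.Agent.Lib.ClassicalMax.UnitShort
import Cfsg.Agent.Lib.ClassicalMax.UnitSympSubfield
import Cfsg.Agent.Lib.ClassicalMax.UnitGenFive
set_option autoImplicit false

namespace CfsgLib.ClassicalMax.Unit.Pair

open Matrix Cfsg.Geo

variable {ι : Type} [Fintype ι] [DecidableEq ι] {F : Type*} [Field F] [Fintype F]
  {σ : F ≃+* F} {f : (ι → F) → (ι → F) → F}

/-- Two complementary totally singular subspaces of half the dimension. -/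
structure IsPair (σ : F ≃+* F) (f : (ι → F) → (ι → F) → F) (A B : Submodule F (ι → F)) : Prop where
  hf : IsUnitaryForm σ f
  tsA : ∀ a ∈ A, ∀ a' ∈ A, f a a' = 0
  tsB : ∀ b ∈ B, ∀ b' ∈ B, f b b' = 0
  split : ∀ x, ∃ a ∈ A, ∃ b ∈ B, a + b = x
  disj : A ⊓ B = ⊥
  dimA : 3 ≤ Module.finrank F A
  dimB : Module.finrank F B = Module.finrank F A

variable {A B : Submodule F (ι → F)}

omit [Fintype F] in
lemma IsPair.symm (P : IsPair σ f A B) : IsPair σ f B A where
  hf := P.hf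
  tsA := P.tsB
  tsB := P.tsA
  split x := by
    obtain ⟨a, ha, b, hb, h⟩ := P.split x
    exact ⟨b, hb, a, ha, by rw [← h, add_comm]⟩
  disj := by rw [inf_comm, P.disj]
  dimA := P.dimB ▸ P.dimA
  dimB := P.dimB.symm

omit [Fintype F] in
lemma IsPair.exists_ne (P : IsPair σ f A B) {a : ι → F} (ha : a ∈ A) (ha0 : a ≠ 0) :
    ∃ b ∈ B, f a b ≠ 0 := by
  by_contra hcon
  push Not at hcon
  obtain ⟨x, hx⟩ := (P.hf.nondegenerate a ha0).2
  obtain ⟨c, hc, b, hb, rfl⟩ := P.split x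
  exact hx (by rw [add_right P.hf, P.tsA a ha c hc, hcon b hb, add_zero])

omit [Fintype F] in
/-- Few vectors leave room in a subspace of dimension at least seven. -/
lemma exists_avoid {W : Submodule F (ι → F)} (hW : 3 ≤ Module.finrank F W) {k l : ℕ}
    (φ : Fin k → (ι → F) →ₗ[F] F) (s : Fin l → ι → F) (hkl : k + l < 3) :
    ∃ w ∈ W, (∀ i, φ i w = 0) ∧ w ∉ Submodule.span F (Set.range s) := by
  let L : W →ₗ[F] (Fin k → F) := LinearMap.pi fun i => (φ i).comp W.subtype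
  have h1 := LinearMap.finrank_range_add_finrank_ker L
  have h2 : Module.finrank F (LinearMap.range L) ≤ k := by
    simpa using Submodule.finrank_le (LinearMap.range L)
  have h3 : Module.finrank F (Submodule.span F (Set.range s)) ≤ l :=
    (finrank_range_le_card s).trans (by simp)
  by_contra hcon
  push Not at hcon
  have h4 : (LinearMap.ker L).map W.subtype ≤ Submodule.span F (Set.range s) := by
    rintro _ ⟨w, hw, rfl⟩
    exact hcon w w.2 fun i => congrFun hw i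
  have h5 := Submodule.finrank_mono h4
  rw [Submodule.finrank_map_subtype_eq] at h5
  omega

lemma IsPair.sep (P : IsPair σ f A B) {u : ι → F} (hu : u ∈ B) {k : ℕ} (s : Fin k → ι → F)
    (hs : ∀ i, s i ∈ B) (hu' : u ∉ Submodule.span F (Set.range s)) :
    ∃ a ∈ A, f u a = 1 ∧ ∀ i, f (s i) a = 0 := by
  obtain ⟨φ, hφu, hφs⟩ := Submodule.exists_dual_map_eq_bot_of_notMem hu' inferInstance
  obtain ⟨z, hz⟩ := Unit.exists_form_eq P.hf φ
  obtain ⟨a, ha, b, hb, rfl⟩ := P.split z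
  have h : ∀ w ∈ B, f w a = φ w := fun w hw => by
    rw [← hz, add_right P.hf, P.tsB w hw b hb, add_zero]
  refine ⟨σ (φ u)⁻¹ • a, A.smul_mem _ ha, by
    rw [smul_right P.hf, P.hf.involutive, h u hu, inv_mul_cancel₀ hφu], fun i => ?_⟩
  have h0 : φ (s i) = 0 := (Submodule.mem_bot F).1
    (hφs ▸ Submodule.mem_map_of_mem (Submodule.subset_span ⟨i, rfl⟩))
  rw [smul_right P.hf, h (s i) (hs i), h0, mul_zero]

omit [Fintype F] [DecidableEq ι] [Fintype ι] in
lemma exists_sub_conj_ne_zero (hf : IsUnitaryForm σ f) {t : F} (ht : t ≠ 0) :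
    ∃ d : F, d ≠ 0 ∧ d * t - σ (d * t) ≠ 0 := by
  obtain ⟨r, hr⟩ : ∃ r, σ r ≠ r := by
    by_contra h
    push Not at h
    exact hf.ne_refl (RingEquiv.ext h)
  refine ⟨r / t, fun e => hr ?_, ?_⟩
  · rw [div_eq_zero_iff, or_iff_left ht] at e
    rw [e, map_zero]
  · rw [div_mul_cancel₀ _ ht]
    exact sub_ne_zero.2 (Ne.symm hr)

variable [DecidableEq F]

omit [Fintype F] in
/-- The commutator of two short root elements sharing a point is a transvection. -/
lemma ush_comm_eq (hf : IsUnitaryForm σ f) {p v w : ι → F} (hp : f p p = 0) (hv0 : f v v = 0)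
    (hw0 : f w w = 0) (hv : f p v = 0) (hw : f p w = 0) (c d : F) :
    ush hf p w d * ush hf p v c * ush hf p w (-d) * ush hf p v (-c)
      = uTv hf p (σ c * d * f w v - c * σ d * f v w) := by
  have hv' : f v p = 0 := eq_zero_comm hf hv
  have hw' : f w p = 0 := eq_zero_comm hf hw
  refine gl_ext_mulVec fun x => ?_
  simp only [gl_mulVec_mul, ush_mulVec hf hp hv, ush_mulVec hf hp hw, uTv_mulVec hf hp,
    hf.add_left, sub_left hf, hf.smul_left, hp, hv, hw, hv', hw', hv0, hw0, map_neg]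
  module

omit [Fintype F] in
lemma transvection_of_two (hf : IsUnitaryForm σ f) {M : Subgroup (GL ι F)} {p v w : ι → F}
    (hp : f p p = 0) (hv0 : f v v = 0) (hw0 : f w w = 0) (hv : f p v = 0) (hw : f p w = 0)
    (hvw : f v w ≠ 0) {c : F} (hc : c ≠ 0) (h1 : ush hf p v c ∈ M)
    (h1' : ∀ d, ush hf p w d ∈ M) :
    ∃ k : F, k ≠ 0 ∧ σ k = -k ∧ uTv hf p k ∈ M := by
  have hwv : f w v = σ (f v w) := hf.herm _ _
  obtain ⟨d, -, hd⟩ := exists_sub_conj_ne_zero hf
    (mul_ne_zero ((map_ne_zero σ).2 hc) ((map_ne_zero σ).2 hvw))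
  refine ⟨d * (σ c * σ (f v w)) - σ (d * (σ c * σ (f v w))), hd,
    by rw [map_sub, hf.involutive, neg_sub], ?_⟩
  rw [show d * (σ c * σ (f v w)) - σ (d * (σ c * σ (f v w)))
      = σ c * d * f w v - c * σ d * f v w by
    rw [hwv, map_mul, map_mul, hf.involutive, hf.involutive]; ring,
    ← ush_comm_eq hf hp hv0 hw0 hv hw, ← ush_inv hf hp hv0 hv, ← ush_inv hf hp hw0 hw]
  exact M.mul_mem (M.mul_mem (M.mul_mem (h1' d) h1) (M.inv_mem (h1' d))) (M.inv_mem h1)

omit [Fintype F] in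
/-- A short root element meeting two others gives a transvection. -/
lemma transvection_of_three (hf : IsUnitaryForm σ f) {M : Subgroup (GL ι F)}
    {u v a b w : ι → F} {c : F} (hc : c ≠ 0) (hu : f u u = 0) (hv : f v v = 0) (ha : f a a = 0)
    (hb : f b b = 0) (hw : f w w = 0) (huv : f u v = 0) (hab : f a b = 0) (hva : f v a = 0)
    (hvb : f v b = 0) (hub : f u b = 0) (hua : f u a ≠ 0) (hbw : f b w = 0) (hvw : f v w ≠ 0)
    (h1 : ush hf u v c ∈ M) (h1' : ush hf a b 1 ∈ M) (h1'' : ∀ d, ush hf b w d ∈ M) :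
    ∃ k : F, k ≠ 0 ∧ σ k = -k ∧ uTv hf b k ∈ M := by
  have h := M.mul_mem (M.mul_mem h1' h1) (M.inv_mem h1')
  have hai := ush_mem_isoOf hf ha hb hab 1
  have e1 : (ush hf a b 1 : Matrix ι ι F) *ᵥ v = v := by
    rw [ush_mulVec hf ha hab, hva, hvb]; simp
  have e2 : (ush hf a b 1 : Matrix ι ι F) *ᵥ u = u + f u a • b := by
    rw [ush_mulVec hf ha hab, hub]; simp
  rw [ush_conj hf hai hu huv, e1, e2] at h
  have hρb : f (f u a • b) (f u a • b) = 0 := by
    rw [hf.smul_left, smul_right hf, hb, mul_zero, mul_zero]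
  have hρv : f (f u a • b) v = 0 := by rw [hf.smul_left, eq_zero_comm hf hvb, mul_zero]
  have hs : f (u + f u a • b) (u + f u a • b) = 0 := by
    rw [← e2, mem_isoOf.1 hai, hu]
  rw [ush_add_left hf hu hρb hs hv huv hρv, hf.smul_left, eq_zero_comm hf hub, mul_zero, mul_zero,
    show uTv hf v (0 : F) = 1 from gl_ext_mulVec fun y => by rw [uTv_mulVec hf hv]; simp,
    mul_one, ush_smul_left hf hb (eq_zero_comm hf hvb)] at h
  have h3 := (M.mul_mem_cancel_left h1).1 h
  exact transvection_of_two hf hb hv hw (eq_zero_comm hf hvb) hbw hvw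
    (mul_ne_zero ((map_ne_zero σ).2 hua) hc) h3 h1''

variable {M : Subgroup (GL ι F)}

/-- The short root elements of the stabiliser. -/
def Contains (hf : IsUnitaryForm σ f) (A B : Submodule F (ι → F)) (M : Subgroup (GL ι F)) :
    Prop :=
  ∀ a ∈ A, ∀ b ∈ B, f a b = 0 → ∀ c, ush hf a b c ∈ M

omit [Fintype F] in
lemma Contains.symm (P : IsPair σ f A B) (hM : Contains P.hf A B M) : Contains P.hf B A M :=
  fun b hb a ha h c => by
    rw [ush_swap P.hf (P.tsB b hb b hb) (P.tsA a ha a ha) h]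
    exact hM a ha b hb (eq_zero_comm P.hf h) _

/-- A short root element whose second vector has its `B`-part orthogonal to both `A`-parts. -/
lemma transvection_of_aligned (P : IsPair σ f A B) (hM : Contains P.hf A B M)
    {u1 u2 v1 b : ι → F} (hu1 : u1 ∈ A) (hu2 : u2 ∈ B) (hv1 : v1 ∈ A) (hb : b ∈ B) (hb0 : b ≠ 0)
    (hub1 : f u1 b = 0) (hvb1 : f v1 b = 0) (hspan : u2 ∉ Submodule.span F {b}) {c : F} (hc : c ≠ 0)
    (huu : f (u1 + u2) (u1 + u2) = 0) (hvv : f (v1 + b) (v1 + b) = 0)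
    (huv : f (u1 + u2) (v1 + b) = 0) (h1 : ush P.hf (u1 + u2) (v1 + b) c ∈ M) :
    ∃ p ∈ B, p ≠ 0 ∧ ∃ k : F, k ≠ 0 ∧ σ k = -k ∧ uTv P.hf p k ∈ M := by
  have hf := P.hf
  obtain ⟨a, ha, hau, hao⟩ := P.sep hu2 ![b] (by intro i; fin_cases i; exact hb)
    (by rwa [Matrix.range_cons, Matrix.range_empty, Set.union_empty])
  obtain ⟨r, hr0, hr⟩ := exists_sub_conj_ne_zero hf hc
  set d := σ r with hd
  have hbb := P.tsB b hb b hb
  have haa := P.tsA a ha a ha
  have hba : f b a = 0 := hao 0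
  have hab : f a b = 0 := eq_zero_comm hf hba
  have hh : ush hf a b d ∈ M := hM a ha b hb hab d
  have hai := ush_mem_isoOf hf haa hbb hab d
  have hua : f (u1 + u2) a = 1 := by rw [hf.add_left, P.tsA u1 hu1 a ha, zero_add, hau]
  have hub : f (u1 + u2) b = 0 := by rw [hf.add_left, hub1, P.tsB u2 hu2 b hb, add_zero]
  have hva : f (v1 + b) a = 0 := by rw [hf.add_left, P.tsA v1 hv1 a ha, zero_add, hba]
  have hvb : f (v1 + b) b = 0 := by rw [hf.add_left, hvb1, hbb, add_zero]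
  have e1 : (ush hf a b d : Matrix ι ι F) *ᵥ (v1 + b) = v1 + b := by
    rw [ush_mulVec hf haa hab, hva, hvb]; simp
  have e2 : (ush hf a b d : Matrix ι ι F) *ᵥ (u1 + u2) = (u1 + u2) + d • b := by
    rw [ush_mulVec hf haa hab, hua, hub]; simp
  have h := M.mul_mem (M.mul_mem hh h1) (M.inv_mem hh)
  rw [ush_conj hf hai huu huv, e1, e2] at h
  have hρb : f (d • b) (d • b) = 0 := by rw [hf.smul_left, smul_right hf, hbb, mul_zero, mul_zero]
  have hρv : f (d • b) (v1 + b) = 0 := by rw [hf.smul_left, eq_zero_comm hf hvb, mul_zero]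
  have hs : f ((u1 + u2) + d • b) ((u1 + u2) + d • b) = 0 := by rw [← e2, mem_isoOf.1 hai, huu]
  rw [ush_add_left hf huu hρb hs hvv huv hρv, hf.smul_left, eq_zero_comm hf hub, mul_zero, mul_zero,
    show uTv hf (v1 + b) (0 : F) = 1 from gl_ext_mulVec fun y => by rw [uTv_mulVec hf hvv]; simp,
    mul_one, ush_smul_left hf hbb (eq_zero_comm hf hvb)] at h
  have h3 := (M.mul_mem_cancel_left h1).1 h
  rw [hd, hf.involutive] at h3
  have hbv1 : f b v1 = 0 := eq_zero_comm hf hvb1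
  have h4 := Contains.symm P hM b hb v1 hv1 hbv1 (r * c)
  refine ⟨b, hb, hb0, r * c - σ (r * c), hr, by rw [map_sub, hf.involutive, neg_sub],
    (M.mul_mem_cancel_left h4).1 ?_⟩
  convert h3 using 1
  refine gl_ext_mulVec fun x => ?_
  simp only [gl_mulVec_mul, ush_mulVec hf hbb hbv1, uTv_mulVec hf hbb,
    ush_mulVec hf hbb (eq_zero_comm hf hvb), add_right hf, hf.add_left, hf.smul_left, hbb, hbv1,
    eq_zero_comm hf hbv1, map_mul]
  module

/-- A short root element outside the stabiliser gives a transvection on one of the subspaces. -/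
lemma transvection_of_sh (P : IsPair σ f A B) (hM : Contains P.hf A B M)
    {u1 u2 v1 v2 : ι → F} (hu1 : u1 ∈ A) (hu2 : u2 ∈ B) (hv1 : v1 ∈ A) (hv2 : v2 ∈ B)
    (hne : v2 ≠ 0) (hspan : u2 ∉ Submodule.span F {v2})
    (huu : f (u1 + u2) (u1 + u2) = 0) (hvv : f (v1 + v2) (v1 + v2) = 0)
    (huv : f (u1 + u2) (v1 + v2) = 0) (hall : ∀ c, ush P.hf (u1 + u2) (v1 + v2) c ∈ M) :
    ∃ p ∈ B, p ≠ 0 ∧ ∃ k : F, k ≠ 0 ∧ σ k = -k ∧ uTv P.hf p k ∈ M := by
  have hf := P.hf
  obtain ⟨b, hb, hbφ, hb00⟩ := exists_avoid (W := B) (P.dimB ▸ P.dimA)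
    ![formL hf u1, formL hf v1] (![] : Fin 0 → ι → F) (by omega)
  have hbu1 : f u1 b = 0 := eq_zero_comm hf (hbφ 0)
  have hbv1 : f v1 b = 0 := eq_zero_comm hf (hbφ 1)
  have hb0 : b ≠ 0 := fun e => hb00 (by rw [e]; exact zero_mem _)
  by_cases hin : b ∈ Submodule.span F {u2, v2}
  · obtain ⟨α, β, hαβ⟩ := Submodule.mem_span_pair.1 hin
    by_cases hα : α = 0
    · rw [hα, zero_smul, zero_add] at hαβ
      have hβ : β ≠ 0 := fun e => hb0 (by rw [← hαβ, e, zero_smul])
      have hz : ∀ {x : ι → F}, f x b = 0 → f x v2 = 0 := fun {x} h => by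
        rw [← hαβ, smul_right hf] at h
        exact (mul_eq_zero.1 h).resolve_left ((map_ne_zero σ).2 hβ)
      exact transvection_of_aligned P hM hu1 hu2 hv1 hv2 hne (hz hbu1) (hz hbv1) hspan one_ne_zero
        huu hvv huv (hall 1)
    obtain ⟨c, hc, hcβ⟩ : ∃ c : F, c ≠ 0 ∧ σ (c * β) = c * β := by
      by_cases hβ : β = 0
      · exact ⟨1, one_ne_zero, by rw [hβ, mul_zero, map_zero]⟩
      · exact ⟨σ β, (map_ne_zero σ).2 hβ, by rw [map_mul, hf.involutive, mul_comm]⟩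
    have hvu : f (v1 + v2) (u1 + u2) = 0 := eq_zero_comm hf huv
    have hw : α • (u1 + u2) + β • (v1 + v2) = (α • u1 + β • v1) + b := by rw [← hαβ]; module
    have hvw : f (v1 + v2) ((α • u1 + β • v1) + b) = 0 := by
      rw [← hw, add_right hf, smul_right hf, smul_right hf, hvu, hvv, mul_zero, mul_zero, add_zero]
    have hgen : ∀ U V : ι → F, f U U = 0 → f V V = 0 → f U V = 0 → f V U = 0 →
        f (α • U + β • V) (α • U + β • V) = 0 ∧
          ush hf V (α • U + β • V) c = ush hf U V (-σ (c * α)) := by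
      intro U V h1 h2 h3 h4
      have hVW : f V (α • U + β • V) = 0 := by
        rw [add_right hf, smul_right hf, smul_right hf, h4, h2, mul_zero, mul_zero, add_zero]
      refine ⟨by simp [hf.add_left, add_right hf, hf.smul_left, smul_right hf, h1, h2, h3, h4],
        gl_ext_mulVec fun x => ?_⟩
      rw [ush_mulVec hf h2 hVW, ush_mulVec hf h1 h3, add_right hf, smul_right hf, smul_right hf,
        map_neg, hf.involutive]
      rw [map_mul] at hcβ ⊢
      match_scalars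
      all_goals first | ring1 | linear_combination -(f x V) * hcβ
    obtain ⟨hww', hmem'⟩ := hgen _ _ huu hvv huv hvu
    have hww : f ((α • u1 + β • v1) + b) ((α • u1 + β • v1) + b) = 0 := by rwa [hw] at hww'
    have hmem : ush hf (v1 + v2) ((α • u1 + β • v1) + b) c ∈ M := by
      rw [hw] at hmem'
      rw [hmem']
      exact hall _
    have hbsp : v2 ∉ Submodule.span F {b} := fun hmem => by
      obtain ⟨t, ht⟩ := Submodule.mem_span_singleton.1 hmem
      have ht0 : t ≠ 0 := fun e => hne (by rw [← ht, e, zero_smul])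
      refine hspan (Submodule.mem_span_singleton.2 ⟨(t * α)⁻¹ * (1 - t * β), ?_⟩)
      rw [← hαβ, smul_add, smul_smul, smul_smul] at ht
      rw [mul_smul, sub_smul, one_smul, show v2 - (t * β) • v2 = (t * α) • u2 from
        (eq_sub_of_add_eq ht).symm, smul_smul, inv_mul_cancel₀ (mul_ne_zero ht0 hα), one_smul]
    refine transvection_of_aligned P hM hv1 hv2 (A.add_mem (A.smul_mem α hu1) (A.smul_mem β hv1)) hb
      hb0 hbv1 ?_ hbsp hc hvv hww hvw hmem
    rw [hf.add_left, hf.smul_left, hf.smul_left, hbu1, hbv1, mul_zero, mul_zero, add_zero]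
  have hbs := hin
  have hn1 : u2 ∉ Submodule.span F (Set.range ![v2, b]) := by
    rw [Matrix.range_cons_cons_empty]
    intro hmem
    obtain ⟨p, q, hpq⟩ := Submodule.mem_span_pair.1 hmem
    by_cases hq : q = 0
    · rw [hq, zero_smul, add_zero] at hpq
      exact hspan (Submodule.mem_span_singleton.2 ⟨p, hpq⟩)
    · exact hbs (Submodule.mem_span_pair.2 ⟨q⁻¹, -(q⁻¹ * p), by
        rw [← hpq, smul_add, smul_smul, smul_smul, inv_mul_cancel₀ hq, one_smul]; module⟩)
  have hn2 : v2 ∉ Submodule.span F (Set.range ![b]) := by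
    rw [Matrix.range_cons, Matrix.range_empty, Set.union_empty]
    intro hmem
    obtain ⟨q, hq⟩ := Submodule.mem_span_singleton.1 hmem
    have hq0 : q ≠ 0 := fun e => hne (by rw [← hq, e, zero_smul])
    exact hbs (Submodule.mem_span_pair.2 ⟨0, q⁻¹, by
      rw [← hq, smul_smul, inv_mul_cancel₀ hq0, one_smul, zero_smul, zero_add]⟩)
  obtain ⟨a, ha, hau, hao⟩ := P.sep hu2 ![v2, b] (by intro i; fin_cases i <;> assumption) hn1
  obtain ⟨a', ha', hav, hao'⟩ := P.sep hv2 ![b] (by intro i; fin_cases i; exact hb) hn2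
  have hab : f a b = 0 := eq_zero_comm hf (hao 1)
  have hba' : f b a' = 0 := hao' 0
  obtain ⟨k, hk⟩ := transvection_of_three hf (a := a) (b := b) (w := a') one_ne_zero huu hvv (P.tsA a ha a ha)
    (P.tsB b hb b hb) (P.tsA a' ha' a' ha') huv hab
    (by rw [hf.add_left, P.tsA v1 hv1 a ha, zero_add]; exact hao 0)
    (by rw [hf.add_left, hbv1, P.tsB v2 hv2 b hb, add_zero])
    (by rw [hf.add_left, hbu1, P.tsB u2 hu2 b hb, add_zero])
    (by rw [hf.add_left, P.tsA u1 hu1 a ha, zero_add, hau]; exact one_ne_zero)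
    hba' (by rw [hf.add_left, P.tsA v1 hv1 a' ha', zero_add, hav]; exact one_ne_zero)
    (hall 1) (hM a ha b hb hab 1) (Contains.symm P hM b hb a' ha' hba')
  exact ⟨b, hb, hb0, k, hk⟩

/-- An element of an overgroup moving a point of `A` out of both subspaces gives a transvection. -/
lemma exists_transvection (P : IsPair σ f A B) (hM : Contains P.hf A B M)
    {g : GL ι F} (hg : g ∈ M) (hgi : g ∈ isoOf f) {x : ι → F} (hx : x ∈ A)
    (hA : (g : Matrix ι ι F) *ᵥ x ∉ A) (hB : (g : Matrix ι ι F) *ᵥ x ∉ B) :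
    ∃ p, (p ∈ A ∨ p ∈ B) ∧ p ≠ 0 ∧ ∃ k : F, k ≠ 0 ∧ σ k = -k ∧ uTv P.hf p k ∈ M := by
  classical
  have hf := P.hf
  have key : ∀ y ∈ B, f x y = 0 → ∀ c,
      ush hf ((g : Matrix ι ι F) *ᵥ x) ((g : Matrix ι ι F) *ᵥ y) c ∈ M := fun y hy hxy c => by
    rw [← ush_conj hf hgi (P.tsA x hx x hx) hxy]
    exact M.mul_mem (M.mul_mem hg (hM x hx y hy hxy c)) (M.inv_mem hg)
  obtain ⟨u1, hu1, u2, hu2, hu⟩ := P.split ((g : Matrix ι ι F) *ᵥ x)
  have hu10 : u1 ≠ 0 := fun e => hB (by rw [← hu, e, zero_add]; exact hu2)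
  have hu20 : u2 ≠ 0 := fun e => hA (by rw [← hu, e, add_zero]; exact hu1)
  obtain ⟨y, hy, hxy, hy0, v1, hv1, v2, hv2, hv, hcase⟩ : ∃ y ∈ B, f x y = 0 ∧ y ≠ 0 ∧
      ∃ v1 ∈ A, ∃ v2 ∈ B, v1 + v2 = (g : Matrix ι ι F) *ᵥ y ∧
        (v2 = 0 ∨ u2 ∉ Submodule.span F {v2}) := by
    by_contra hcon
    push Not at hcon
    obtain ⟨y₁, hy₁, hy₁x, hy₁s⟩ := exists_avoid (W := B) (P.dimB ▸ P.dimA)
      ![formL hf x] ![(0 : ι → F)] (by omega)
    obtain ⟨y₂, hy₂, hy₂x, hy₂s⟩ := exists_avoid (W := B) (P.dimB ▸ P.dimA)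
      ![formL hf x] ![y₁] (by omega)
    rw [Matrix.range_cons, Matrix.range_empty, Set.union_empty] at hy₂s
    have hy₁0 : y₁ ≠ 0 := fun e => hy₁s (by rw [e]; exact zero_mem _)
    have hx₁ : f x y₁ = 0 := eq_zero_comm hf (hy₁x 0)
    have hx₂ : f x y₂ = 0 := eq_zero_comm hf (hy₂x 0)
    obtain ⟨a₁, ha₁, b₁, hb₁, e₁⟩ := P.split ((g : Matrix ι ι F) *ᵥ y₁)
    obtain ⟨a₂, ha₂, b₂, hb₂, e₂⟩ := P.split ((g : Matrix ι ι F) *ᵥ y₂)
    obtain ⟨-, hs₁⟩ := hcon y₁ hy₁ hx₁ hy₁0 a₁ ha₁ b₁ hb₁ e₁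
    obtain ⟨-, hs₂⟩ := hcon y₂ hy₂ hx₂ (fun e => hy₂s (by rw [e]; exact zero_mem _))
      a₂ ha₂ b₂ hb₂ e₂
    obtain ⟨t₁, ht₁⟩ := Submodule.mem_span_singleton.1 hs₁
    obtain ⟨t₂, ht₂⟩ := Submodule.mem_span_singleton.1 hs₂
    obtain ⟨h3, -⟩ := hcon (t₁ • y₁ - t₂ • y₂) (B.sub_mem (B.smul_mem _ hy₁) (B.smul_mem _ hy₂))
      (by rw [sub_right hf, smul_right hf, smul_right hf, hx₁, hx₂]; ring)
      (fun e => by
        have ht₂0 : t₂ ≠ 0 := fun h => hu20 (by rw [← ht₂, h, zero_smul])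
        refine hy₂s (Submodule.mem_span_singleton.2 ⟨t₂⁻¹ * t₁, ?_⟩)
        rw [mul_smul, sub_eq_zero.1 e, smul_smul, inv_mul_cancel₀ ht₂0, one_smul])
      (t₁ • a₁ - t₂ • a₂) (A.sub_mem (A.smul_mem _ ha₁) (A.smul_mem _ ha₂))
      (t₁ • b₁ - t₂ • b₂) (B.sub_mem (B.smul_mem _ hb₁) (B.smul_mem _ hb₂))
      (by rw [mulVec_sub, mulVec_smul, mulVec_smul, ← e₁, ← e₂]; module)
    exact h3 (by rw [ht₁, ht₂, sub_self])
  have huu : f (u1 + u2) (u1 + u2) = 0 := by rw [hu]; exact (hgi x x).trans (P.tsA x hx x hx)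
  have hvv : f (v1 + v2) (v1 + v2) = 0 := by rw [hv]; exact (hgi y y).trans (P.tsB y hy y hy)
  have huv : f (u1 + u2) (v1 + v2) = 0 := by rw [hu, hv]; exact (hgi x y).trans hxy
  have hsh : ∀ c, ush hf (u1 + u2) (v1 + v2) c ∈ M := fun c => by rw [hu, hv]; exact key y hy hxy c
  by_cases hv20 : v2 = 0
  swap
  · obtain ⟨p, hp, hp'⟩ := transvection_of_sh P hM hu1 hu2 hv1 hv2 hv20
      (hcase.resolve_left hv20) huu hvv huv hsh
    exact ⟨p, Or.inr hp, hp'⟩
  subst hv20
  rw [add_zero] at hv huv hvv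
  simp only [add_zero] at hsh
  have hv10 : v1 ≠ 0 := fun e => gl_mulVec_ne_zero g hy0 (by rw [← hv, e])
  have hu2v : f u2 v1 = 0 := by
    rwa [hf.add_left, P.tsA u1 hu1 v1 hv1, zero_add] at huv
  have hu1v := P.tsA u1 hu1 v1 hv1
  by_cases hsp : u1 ∈ Submodule.span F {v1}
  · -- the element is a short root element of the stabiliser times a transvection
    obtain ⟨t, ht⟩ := Submodule.mem_span_singleton.1 hsp
    have ht0 : t ≠ 0 := fun e => hu10 (by rw [← ht, e, zero_smul])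
    subst ht
    obtain ⟨c, -, hc⟩ := exists_sub_conj_ne_zero hf ((map_ne_zero σ).2 ht0)
    refine ⟨v1, Or.inl hv1, hv10, c * σ t - σ (c * σ t), hc,
      by rw [map_sub, hf.involutive, neg_sub], ?_⟩
    have hu2u2 := P.tsB u2 hu2 u2 hu2
    have hs := Contains.symm P hM u2 hu2 v1 hv1 hu2v c
    have e : ush hf (t • v1 + u2) v1 c = ush hf u2 v1 c * uTv hf v1 (c * σ t - σ (c * σ t)) := by
      refine gl_ext_mulVec fun z => ?_
      simp only [gl_mulVec_mul, ush_mulVec hf huu huv, ush_mulVec hf hu2u2 hu2v,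
        uTv_mulVec hf hvv, add_right hf, smul_right hf, hf.add_left, hf.smul_left, map_mul,
        hf.involutive, hvv, hu2v, eq_zero_comm hf hu2v]
      module
    have h' := hsh c
    rw [e] at h'
    exact (M.mul_mem_cancel_left hs).1 h'
  by_cases h12 : f u1 u2 = 0
  · -- the element splits off a short root element on `A`
    have hu2u2 := P.tsB u2 hu2 u2 hu2
    have hu1u1 := P.tsA u1 hu1 u1 hu1
    have hroot : ush hf u1 v1 1 ∈ M := by
      have hs := Contains.symm P hM u2 hu2 v1 hv1 hu2v 1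
      have h := hsh 1
      rw [ush_add_left hf hu1u1 hu2u2 huu hvv hu1v hu2v, eq_zero_comm hf h12, mul_zero,
        show uTv hf v1 (0 : F) = 1 from gl_ext_mulVec fun y => by rw [uTv_mulVec hf hvv]; simp,
        mul_one] at h
      exact (M.mul_mem_cancel_right hs).1 h
    obtain ⟨b, hb, hbu, hbv⟩ := P.symm.sep hu1 ![v1] (by intro i; fin_cases i; exact hv1)
      (by rwa [Matrix.range_cons, Matrix.range_empty, Set.union_empty])
    have hvb : f v1 b = 0 := hbv 0
    have hmem : ush hf v1 u1 (-σ 1) ∈ M := by rwa [← ush_swap hf hu1u1 hvv hu1v]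
    obtain ⟨k, hk⟩ := transvection_of_two hf (p := v1) (v := u1) (w := b) hvv hu1u1
      (P.tsB b hb b hb) (eq_zero_comm hf hu1v) hvb (by rw [hbu]; exact one_ne_zero)
      (c := -σ 1) (by simp) hmem (hM v1 hv1 b hb hvb)
    exact ⟨v1, Or.inl hv1, hv10, k, hk⟩
  obtain ⟨a, ha, haφ, has0⟩ := exists_avoid (W := A) P.dimA
    ![formL hf u2] ![v1] (by omega)
  have hau2 : f a u2 = 0 := haφ 0
  rw [Matrix.range_cons, Matrix.range_empty, Set.union_empty] at has0
  have ha0 : a ≠ 0 := fun e => has0 (by rw [e]; exact zero_mem _)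
  have has : a ∉ Submodule.span F {u1, v1} := fun hmem => by
    obtain ⟨p, r, hpr⟩ := Submodule.mem_span_pair.1 hmem
    rw [← hpr, hf.add_left, hf.smul_left, hf.smul_left, eq_zero_comm hf hu2v, mul_zero, add_zero]
      at hau2
    have hp := (mul_eq_zero.1 hau2).resolve_right h12
    exact has0 (Submodule.mem_span_singleton.2 ⟨r, by rw [← hpr, hp, zero_smul, zero_add]⟩)
  have hn1 : u1 ∉ Submodule.span F (Set.range ![v1, a]) := by
    rw [Matrix.range_cons_cons_empty]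
    intro hmem
    obtain ⟨p, q, hpq⟩ := Submodule.mem_span_pair.1 hmem
    by_cases hq : q = 0
    · rw [hq, zero_smul, add_zero] at hpq
      exact hsp (Submodule.mem_span_singleton.2 ⟨p, hpq⟩)
    · exact has (Submodule.mem_span_pair.2 ⟨q⁻¹, -(q⁻¹ * p), by
        rw [← hpq, smul_add, smul_smul, smul_smul, inv_mul_cancel₀ hq, one_smul]; module⟩)
  have hn2 : v1 ∉ Submodule.span F (Set.range ![a]) := by
    rw [Matrix.range_cons, Matrix.range_empty, Set.union_empty]
    intro hmem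
    obtain ⟨q, hq⟩ := Submodule.mem_span_singleton.1 hmem
    have hq0 : q ≠ 0 := fun e => hv10 (by rw [← hq, e, zero_smul])
    exact has (Submodule.mem_span_pair.2 ⟨0, q⁻¹, by
      rw [← hq, smul_smul, inv_mul_cancel₀ hq0, one_smul, zero_smul, zero_add]⟩)
  obtain ⟨b, hb, hbu, hbo⟩ := P.symm.sep hu1 ![v1, a] (by intro i; fin_cases i <;> assumption) hn1
  obtain ⟨b', hb', hbv, hbo'⟩ := P.symm.sep hv1 ![a] (by intro i; fin_cases i; exact ha) hn2
  have hab : f a b = 0 := hbo 1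
  have hab' : f a b' = 0 := hbo' 0
  obtain ⟨k, hk⟩ := transvection_of_three hf (a := b) (b := a) (w := b') one_ne_zero huu hvv
    (P.tsB b hb b hb) (P.tsA a ha a ha) (P.tsB b' hb' b' hb') huv
    (eq_zero_comm hf hab) (hbo 0) (P.tsA v1 hv1 a ha)
    (by rw [hf.add_left, P.tsA u1 hu1 a ha, zero_add, eq_zero_comm hf hau2])
    (by rw [hf.add_left, hbu, P.tsB u2 hu2 b hb, add_zero]; exact one_ne_zero)
    hab' (by rw [hbv]; exact one_ne_zero) (hsh 1)
    (Contains.symm P hM b hb a ha (eq_zero_comm hf hab) 1) (hM a ha b' hb' hab')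
  exact ⟨a, Or.inl ha, ha0, k, hk⟩

/-- An isometry of determinant one interchanging the two subspaces. -/
lemma IsPair.exists_swap (P : IsPair σ f A B) :
    ∃ s ∈ isoOf f ⊓ specialLinear ι F, (∀ a ∈ A, (s : Matrix ι ι F) *ᵥ a ∈ B) ∧
      (∀ b ∈ B, (s : Matrix ι ι F) *ᵥ b ∈ A) := by
  classical
  have hf := P.hf
  obtain ⟨τ, hτ0, hτ⟩ := exists_trace_zero hf.ne_refl hf.involutive
  have hτ' : σ (-τ⁻¹) = -(-τ⁻¹) := by rw [map_neg, map_inv₀, hτ, inv_neg]
  let e := Module.finBasis F A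
  have hdual : ∀ i, ∃ b ∈ B, ∀ j, f (e j : ι → F) b = if j = i then 1 else 0 := by
    intro i
    obtain ⟨z, hz⟩ := exists_pairing hf (v := fun j => (e j : ι → F))
      (e.linearIndependent.map' A.subtype (Submodule.ker_subtype _))
      (fun j => if j = i then 1 else 0)
    obtain ⟨a, ha, b, hb, rfl⟩ := P.split z
    refine ⟨b, hb, fun j => ?_⟩
    rw [← hz j, add_right hf, P.tsA _ (e j).2 a ha, zero_add]
  choose d hdB hd using hdual
  have hde : ∀ i j, f (d i) (e j : ι → F) = if j = i then 1 else 0 := fun i j => by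
    rw [hf.herm, hd]; split_ifs <;> simp
  have hdli : LinearIndependent F d := by
    refine Fintype.linearIndependent_iff.2 fun c hc j => ?_
    have h := congrArg (formL hf (e j : ι → F)) hc
    simpa [hde, zero_left hf] using h
  -- B is spanned by the dual vectors
  have hspanB : ∀ b ∈ B, b ∈ Submodule.span F (Set.range d) := by
    intro b hb
    rw [Submodule.eq_of_le_of_finrank_eq (Submodule.span_le.2 (Set.range_subset_iff.2 hdB))
      (by rw [finrank_span_eq_card hdli, Fintype.card_fin, P.dimB])]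
    exact hb
  -- interchange the pairs in a given set
  have key : ∀ t : Finset (Fin (Module.finrank F A)), ∃ s ∈ isoOf f ⊓ specialLinear ι F,
      ∀ i, (s : Matrix ι ι F) *ᵥ (e i : ι → F) = (if i ∈ t then -τ⁻¹ • d i else (e i : ι → F)) ∧
        (s : Matrix ι ι F) *ᵥ d i = (if i ∈ t then τ • (e i : ι → F) else d i) := by
    intro t
    induction t using Finset.induction with
    | empty => exact ⟨1, one_mem _, fun i => by simp⟩
    | insert j t hj ih =>
      obtain ⟨s, hs, hs'⟩ := ih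
      have hee := P.tsA _ (e j).2 _ (e j).2
      have hdd := P.tsB _ (hdB j) _ (hdB j)
      set w := uTv hf (e j : ι → F) τ * uTv hf (d j) (-τ⁻¹) * uTv hf (e j : ι → F) τ with hw
      have hwm : w ∈ isoOf f ⊓ specialLinear ι F := mul_mem (mul_mem
        ⟨uTv_mem_isoOf hf hee hτ, uTv_mem_sl hf _ _⟩ ⟨uTv_mem_isoOf hf hdd hτ', uTv_mem_sl hf _ _⟩)
        ⟨uTv_mem_isoOf hf hee hτ, uTv_mem_sl hf _ _⟩
      have hwe : (w : Matrix ι ι F) *ᵥ (e j : ι → F) = -τ⁻¹ • d j := by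
        simp only [hw, gl_mulVec_mul, uTv_mulVec hf hee, uTv_mulVec hf hdd, hee, hd, hde, if_true,
          hf.add_left, hf.smul_left, mul_zero, zero_smul, add_zero, zero_add, mul_one]
        match_scalars <;> field_simp <;> ring
      have hwd : (w : Matrix ι ι F) *ᵥ d j = τ • (e j : ι → F) := by
        simp only [hw, gl_mulVec_mul, uTv_mulVec hf hee, uTv_mulVec hf hdd, hee, hdd, hd, hde,
          if_true, hf.add_left, hf.smul_left, mul_zero, add_zero, zero_add, mul_one]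
        match_scalars <;> field_simp <;> ring
      have hwf : ∀ z, f z (e j : ι → F) = 0 → f z (d j) = 0 → (w : Matrix ι ι F) *ᵥ z = z :=
        fun z h1 h2 => by
          rw [hw, gl_mulVec_mul, gl_mulVec_mul, uTv_mulVec_of_orth hf hee _ h1,
            uTv_mulVec_of_orth hf hdd _ h2, uTv_mulVec_of_orth hf hee _ h1]
      refine ⟨w * s, mul_mem hwm hs, fun i => ?_⟩
      rw [gl_mulVec_mul w s, gl_mulVec_mul w s, (hs' i).1, (hs' i).2]
      by_cases hij : i = j
      · subst hij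
        rw [if_neg hj, if_neg hj, if_pos (Finset.mem_insert_self _ _),
          if_pos (Finset.mem_insert_self _ _)]
        exact ⟨hwe, hwd⟩
      have hfe : (w : Matrix ι ι F) *ᵥ (e i : ι → F) = e i :=
        hwf _ (P.tsA _ (e i).2 _ (e j).2) (by rw [hd, if_neg hij])
      have hfd : (w : Matrix ι ι F) *ᵥ d i = d i :=
        hwf _ (by rw [hde, if_neg (Ne.symm hij)]) (P.tsB _ (hdB i) _ (hdB j))
      simp only [Finset.mem_insert, hij, false_or]
      split_ifs <;> simp [mulVec_smul, neg_mulVec, mulVec_neg, hfe, hfd]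
  obtain ⟨s, hs, hs'⟩ := key Finset.univ
  refine ⟨s, hs, fun a ha => ?_, fun b hb => ?_⟩
  · rw [show a = ((∑ i, e.repr ⟨a, ha⟩ i • e i : A) : ι → F) by rw [e.sum_repr],
      Submodule.coe_sum, mulVec_sum]
    refine Submodule.sum_mem _ fun i _ => ?_
    rw [Submodule.coe_smul, mulVec_smul, (hs' i).1, if_pos (Finset.mem_univ i)]
    exact B.smul_mem _ (B.smul_mem _ (hdB i))
  · obtain ⟨c, rfl⟩ := (Submodule.mem_span_range_iff_exists_fun F).1 (hspanB b hb)
    rw [mulVec_sum]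
    refine Submodule.sum_mem _ fun i _ => ?_
    rw [mulVec_smul, (hs' i).2, if_pos (Finset.mem_univ i)]
    exact A.smul_mem _ (A.smul_mem _ (e i).2)

theorem pair_stabilizer_maximal (P : IsPair σ f A B) (hn : 5 ≤ Fintype.card ι)
    {D : Fin 2 → Submodule F (ι → F)} (hA : D 0 = A) (hB : D 1 = B) :
    IsMaximalIn (isoOf f ⊓ specialLinear ι F)
      (decompositionStabilizer D ⊓ (isoOf f ⊓ specialLinear ι F)) := by
  classical
  have hf := P.hf
  have hmap : ∀ (g : GL ι F) (U W : Submodule F (ι → F)),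
      Module.finrank F U = Module.finrank F W → (∀ x ∈ U, (g : Matrix ι ι F) *ᵥ x ∈ W) →
      U.map (Matrix.toLin' (g : Matrix ι ι F)) = W := by
    intro g U W e h
    refine Submodule.eq_of_le_of_finrank_eq
      (Submodule.map_le_iff_le_comap.2 fun x hx => by simpa using h x hx) ?_
    rw [← e]
    exact (LinearEquiv.finrank_eq (Submodule.equivMapOfInjective _ (fun a b h =>
      gl_mulVec_injective g (by simpa using h)) U)).symm
  set H := decompositionStabilizer D ⊓ (isoOf f ⊓ specialLinear ι F)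
  have hstab : ∀ g ∈ isoOf f ⊓ specialLinear ι F, (∀ a ∈ A, (g : Matrix ι ι F) *ᵥ a ∈ A) →
      (∀ b ∈ B, (g : Matrix ι ι F) *ᵥ b ∈ B) → g ∈ H := by
    intro g hg h1 h2
    refine ⟨⟨1, fun i => ?_⟩, hg⟩
    fin_cases i
    · simp only [Fin.zero_eta, hA, Equiv.Perm.one_apply]
      exact hmap g A A rfl h1
    · simp only [Fin.mk_one, hB, Equiv.Perm.one_apply]
      exact hmap g B B rfl h2
  have hswap : ∀ g ∈ isoOf f ⊓ specialLinear ι F, (∀ a ∈ A, (g : Matrix ι ι F) *ᵥ a ∈ B) →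
      (∀ b ∈ B, (g : Matrix ι ι F) *ᵥ b ∈ A) → g ∈ H := by
    intro g hg h1 h2
    refine ⟨⟨Equiv.swap 0 1, fun i => ?_⟩, hg⟩
    fin_cases i
    · simp only [Fin.zero_eta, hA, Equiv.swap_apply_left, hB]
      exact hmap g A B P.dimB.symm h1
    · simp only [Fin.mk_one, hB, Equiv.swap_apply_right, hA]
      exact hmap g B A P.dimB h2
  have hHsh : Contains hf A B H := fun a ha b hb hab c =>
    hstab _ ⟨ush_mem_isoOf hf (P.tsA a ha a ha) (P.tsB b hb b hb) hab _, ush_mem_sl hf _ _ _⟩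
      (fun x hx => by
        rw [ush_mulVec hf (P.tsA a ha a ha) hab, P.tsA x hx a ha, mul_zero, zero_smul, add_zero]
        exact A.sub_mem hx (A.smul_mem _ ha))
      (fun x hx => by
        rw [ush_mulVec hf (P.tsA a ha a ha) hab, P.tsB x hx b hb, mul_zero, zero_smul, sub_zero]
        exact B.add_mem hx (B.smul_mem _ hb))
  obtain ⟨τ, hτ0, hτ⟩ := exists_trace_zero hf.ne_refl hf.involutive
  refine isMaximalIn_of inf_le_right ?_ ?_
  · obtain ⟨a, ha, ha0⟩ := Submodule.exists_mem_ne_zero_of_ne_bot (p := A) fun h => by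
      have := P.dimA; rw [h, finrank_bot] at this; omega
    obtain ⟨b, hb, hab⟩ := P.exists_ne ha ha0
    have hbb := P.tsB b hb b hb
    refine ⟨uTv hf b τ, ⟨uTv_mem_isoOf hf hbb hτ, uTv_mem_sl hf _ _⟩, fun h => ?_⟩
    obtain ⟨π, hπ⟩ := h.1
    have h1 : (uTv hf b τ : Matrix ι ι F) *ᵥ a ∈ D (π 0) := by
      rw [← hπ 0, hA]; exact ⟨a, ha, Matrix.toLin'_apply _ _⟩
    rw [uTv_mulVec hf hbb] at h1
    rcases (by omega : π 0 = 0 ∨ π 0 = 1) with e | e
    · rw [e, hA, A.add_mem_iff_right ha] at h1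
      have hbA : b ∈ A := by
        have := A.smul_mem (τ * f a b)⁻¹ h1
        rwa [smul_smul, inv_mul_cancel₀ (mul_ne_zero hτ0 hab), one_smul] at this
      exact hab (P.tsA a ha b hbA)
    · rw [e, hB, B.add_mem_iff_left (B.smul_mem _ hb)] at h1
      exact ha0 ((Submodule.mem_bot F).1 (P.disj ▸ ⟨ha, h1⟩))
  intro M hHM hMK g hgM hgH
  have hgi := (hMK hgM).1
  have hM : Contains hf A B M := fun a ha b hb h c => hHM (hHsh a ha b hb h c)
  obtain ⟨p, hp, hp0, k, hk, hkσ, hpk⟩ :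
      ∃ p, (p ∈ A ∨ p ∈ B) ∧ p ≠ 0 ∧ ∃ k : F, k ≠ 0 ∧ σ k = -k ∧ uTv hf p k ∈ M := by
    by_cases hx : ∃ x ∈ A, (g : Matrix ι ι F) *ᵥ x ∉ A ∧ (g : Matrix ι ι F) *ᵥ x ∉ B
    · obtain ⟨x, hx, h1, h2'⟩ := hx
      exact exists_transvection P hM hgM hgi hx h1 h2'
    by_cases hy : ∃ x ∈ B, (g : Matrix ι ι F) *ᵥ x ∉ B ∧ (g : Matrix ι ι F) *ᵥ x ∉ A
    · obtain ⟨x, hx, h1, h2'⟩ := hy
      obtain ⟨p, hp, r⟩ := exists_transvection P.symm (Contains.symm P hM) hgM hgi hx h1 h2'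
      exact ⟨p, hp.symm, r⟩
    exfalso
    push Not at hx hy
    have hone : ∀ W : Submodule F (ι → F), (∀ x ∈ W, (g : Matrix ι ι F) *ᵥ x ∈ A ∨
        (g : Matrix ι ι F) *ᵥ x ∈ B) →
        (∀ x ∈ W, (g : Matrix ι ι F) *ᵥ x ∈ A) ∨ (∀ x ∈ W, (g : Matrix ι ι F) *ᵥ x ∈ B) := by
      intro W hW
      by_contra hc
      push Not at hc
      obtain ⟨⟨x, hx, hxA⟩, y, hy, hyB⟩ := hc
      have hxB := (hW x hx).resolve_left hxA
      have hyA := (hW y hy).resolve_right hyB
      rcases hW _ (W.add_mem hx hy) with h | h <;> rw [mulVec_add] at h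
      · exact hxA ((A.add_mem_iff_left hyA).1 h)
      · exact hyB ((B.add_mem_iff_right hxB).1 h)
    have hA' := hone A fun x hx' => or_iff_not_imp_left.2 (hx x hx')
    have hB' := hone B fun x hx' => (or_iff_not_imp_left.2 (hy x hx')).symm
    have hboth : ∀ W : Submodule F (ι → F), W = A ∨ W = B → ¬ ((∀ x ∈ A, (g : Matrix ι ι F) *ᵥ x ∈ W)
        ∧ ∀ x ∈ B, (g : Matrix ι ι F) *ᵥ x ∈ W) := by
      rintro W hW ⟨h1, h2'⟩
      have htop : ∀ x, x ∈ W := fun x => by
        rw [← gl_mulVec_inv_mulVec g x]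
        obtain ⟨a, ha, b, hb, e⟩ := P.split (((g⁻¹ : GL ι F) : Matrix ι ι F) *ᵥ x)
        rw [← e, mulVec_add]
        exact W.add_mem (h1 a ha) (h2' b hb)
      obtain ⟨a, ha, ha0⟩ := Submodule.exists_mem_ne_zero_of_ne_bot (p := A) fun h => by
        have := P.dimA; rw [h, finrank_bot] at this; omega
      obtain ⟨b, hb, hab⟩ := P.exists_ne ha ha0
      rcases hW with rfl | rfl
      · exact hab (P.tsA a ha b (htop b))
      · exact hab (P.tsB a (htop a) b hb)
    rcases hA' with hAA | hAB <;> rcases hB' with hBA | hBB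
    · exact hboth A (Or.inl rfl) ⟨hAA, hBA⟩
    · exact hgH (hstab g (hMK hgM) hAA hBB)
    · exact hgH (hswap g (hMK hgM) hAB hBA)
    · exact hboth B (Or.inr rfl) ⟨hAB, hBB⟩
  obtain ⟨s, hs, hsA, hsB⟩ := P.exists_swap
  have hsH : s ∈ H := hswap s hs hsA hsB
  obtain ⟨p, hp, hp0, hpk⟩ : ∃ p ∈ A, p ≠ 0 ∧ uTv hf p k ∈ M := by
    rcases hp with hp | hp
    · exact ⟨p, hp, hp0, hpk⟩
    · refine ⟨(s : Matrix ι ι F) *ᵥ p, hsB p hp, gl_mulVec_ne_zero s hp0, ?_⟩
      rw [← uTv_conj hf hs.1 (P.tsB p hp p hp)]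
      exact M.mul_mem (M.mul_mem (hHM hsH) hpk) (M.inv_mem (hHM hsH))
  -- transitivity on `A`
  have hmove : ∀ q ∈ A, q ≠ 0 → uTv hf q k ∈ M → ∀ a ∈ A, a ∉ Submodule.span F {q} →
      uTv hf a k ∈ M := by
    intro q hq hq0 hqk a ha hna
    have hn : q ∉ Submodule.span F (Set.range ![a - q]) := by
      rw [Matrix.range_cons, Matrix.range_empty, Set.union_empty]
      intro hmem
      obtain ⟨r, hr⟩ := Submodule.mem_span_singleton.1 hmem
      have hr0 : r ≠ 0 := fun e => hq0 (by rw [← hr, e, zero_smul])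
      exact hna (Submodule.mem_span_singleton.2 ⟨1 + r⁻¹, by
        rw [add_smul, one_smul]
        nth_rewrite 2 [← hr]
        rw [smul_smul, inv_mul_cancel₀ hr0, one_smul]; abel⟩)
    obtain ⟨b, hb, h1, h2'⟩ := P.symm.sep hq ![a - q] (by
      intro i; fin_cases i; exact A.sub_mem ha hq) hn
    have hba : f b (a - q) = 0 := eq_zero_comm hf (h2' 0)
    have hbb := P.tsB b hb b hb
    have hh : ush hf b (a - q) 1 ∈ M := Contains.symm P hM b hb (a - q) (A.sub_mem ha hq) hba 1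
    have := M.mul_mem (M.mul_mem hh hqk) (M.inv_mem hh)
    rwa [uTv_conj hf (ush_mem_isoOf hf hbb (P.tsA _ (A.sub_mem ha hq) _ (A.sub_mem ha hq)) hba 1)
      (P.tsA q hq q hq), ush_mulVec hf hbb hba, h1, P.tsA q hq _ (A.sub_mem ha hq), one_mul,
      one_smul, mul_zero, zero_smul, sub_zero, add_sub_cancel] at this
  have hall : ∀ a ∈ A, a ≠ 0 → uTv hf a k ∈ M := by
    intro a ha ha0
    by_cases hsp : a ∈ Submodule.span F {p}
    · obtain ⟨a', ha', -, ha's⟩ := exists_avoid P.dimA (![] : Fin 0 → (ι → F) →ₗ[F] F) ![p]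
        (by omega)
      rw [Matrix.range_cons, Matrix.range_empty, Set.union_empty] at ha's
      refine hmove a' ha' (fun e => ha's (by rw [e]; exact zero_mem _)) (hmove p hp hp0 hpk a' ha' ha's)
        a ha fun hmem => ha's ?_
      obtain ⟨r, hr⟩ := Submodule.mem_span_singleton.1 hmem
      have hr0 : r ≠ 0 := fun e => ha0 (by rw [← hr, e, zero_smul])
      rwa [← hr, Submodule.smul_mem_iff _ hr0] at hsp
    · exact hmove p hp hp0 hpk a ha hsp
  have hAS : ∀ a ∈ A, a ∈ uSet hf M := by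
    intro a ha
    refine ⟨P.tsA a ha a ha, fun c hc => ?_⟩
    have h1 : ∀ {v : ι → F}, uTv hf v (0 : F) = 1 := fun {v} => by
      rw [uTv, zero_smul, tvGL_zero_right]
    by_cases ha0 : a = 0
    · rw [ha0, uTv, tvGL_zero_left]; exact M.one_mem
    obtain ⟨l, hl⟩ := exists_norm_eq hf.ne_refl hf.involutive (s := c / k)
      (by rw [map_div₀, hc, hkσ, neg_div_neg_eq])
    by_cases hl0 : l = 0
    · rw [hl0, zero_mul] at hl
      rw [show c = 0 by simpa [hk] using hl.symm, h1]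
      exact M.one_mem
    have := hall (l • a) (A.smul_mem _ ha) (by simp [hl0, ha0])
    rwa [show uTv hf (l • a) k = uTv hf a c from gl_ext_mulVec fun x => by
      rw [uTv_mulVec hf (by rw [hf.smul_left, smul_right hf, P.tsA a ha a ha, mul_zero, mul_zero]),
        uTv_mulVec hf (P.tsA a ha a ha), smul_right hf, smul_smul]
      congr 2
      have hc' : c = k * (l * σ l) := by rw [hl]; field_simp
      rw [hc']; ring] at this
  have hBS : ∀ b ∈ B, b ∈ uSet hf M := by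
    intro b hb
    obtain ⟨w, hw, e⟩ : ∃ w ∈ A, (s : Matrix ι ι F) *ᵥ w = b := by
      have := hmap s A B P.dimB.symm hsA
      rw [← this] at hb
      obtain ⟨w, hw, e⟩ := hb
      exact ⟨w, hw, by simpa using e⟩
    rw [← e]
    exact uSet_mulVec hf (hHM hsH) hs.1 (hAS w hw)
  -- adding along a transvection
  have hadd : ∀ v w : ι → F, v ∈ uSet hf M → w ∈ uSet hf M → ∀ r : F, f v w ≠ 0 →
      σ (r / f v w) = -(r / f v w) → v + r • w ∈ uSet hf M := by
    intro v w hv hw r hne hr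
    have := uSet_mulVec hf (hw.2 _ hr) (uTv_mem_isoOf hf hw.1 hr) hv
    rwa [uTv_mulVec hf hw.1, div_mul_cancel₀ _ hne] at this
  refine iso_inf_sl_le_five hf hn fun v c hv hc => ?_
  suffices hvS : v ∈ uSet hf M from hvS.2 c hc
  obtain ⟨a, ha, b, hb, rfl⟩ := P.split v
  have htr : σ (f a b) = -f a b := by
    rw [hf.add_left, add_right hf, add_right hf, P.tsA a ha a ha, P.tsB b hb b hb, hf.herm b a] at hv
    linear_combination hv
  by_cases hab : f a b = 0
  swap
  · simpa using hadd a b (hAS a ha) (hBS b hb) 1 hab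
      (by rw [map_div₀, map_one, htr, div_neg])
  by_cases hb0 : b = 0
  · rw [hb0, add_zero]; exact hAS a ha
  obtain ⟨a₀, ha₀, hne⟩ := P.symm.exists_ne hb hb0
  set a' := σ (τ / f b a₀) • a₀ with ha'def
  have ha'A : a' ∈ A := A.smul_mem _ ha₀
  have hba' : f b a' = τ := by
    rw [ha'def, smul_right hf, hf.involutive, div_mul_cancel₀ _ hne]
  have ha'b : f a' b = -τ := by rw [hf.herm, hba', hτ]
  have h1 := hadd (a + a') b (hAS _ (A.add_mem ha ha'A)) (hBS b hb) 1
    (by rw [hf.add_left, hab, zero_add, ha'b]; exact neg_ne_zero.2 hτ0)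
    (by rw [hf.add_left, hab, zero_add, ha'b, map_div₀, map_one, map_neg, hτ]; ring)
  rw [one_smul] at h1
  have hval : f (a + a' + b) a' = τ := by
    rw [hf.add_left, hf.add_left, P.tsA a ha a' ha'A, P.tsA a' ha'A a' ha'A, hba']; ring
  have h3 := hadd _ a' h1 (hAS a' ha'A) (-1) (by rw [hval]; exact hτ0)
    (by rw [hval, map_div₀, map_neg, map_one, hτ]; ring)
  convert h3 using 1
  module

end CfsgLib.ClassicalMax.Unit.Pair
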