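/-
Stabilisers of non-degenerate subspaces in special unitary groups, orthogonal complement of
dimension at least four.
-/
import Cfsg.Agent.Lib.ClassicalMax.UnitNondeg
import Cfsg.Agent.Lib.ClassicalMax.UnitFourDecomp.Gen
set_option autoImplicit false
set_option linter.unusedSectionVars false

namespace CfsgLib.ClassicalMax.Unit

open Matrix Cfsg.Geo

variable {ι : Type} [Fintype ι] [DecidableEq ι] {F : Type*} [Field F] [Fintype F] [DecidableEq F]
  {σ : F ≃+* F} {f : (ι → F) → (ι → F) → F}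

variable (hf : IsUnitaryForm σ f)

include hf

/-- Prescribed pairings and norm in dimension four, no anisotropy assumption. -/
lemma exists_prescribed_pair {W : Submodule F (ι → F)} (hW : IsNondegenerateOn f W)
    (hdim : 4 ≤ Module.finrank F W) {b b' : ι → F} (hb : b ∈ W) (hb' : b' ∈ W)
    (hli : LinearIndependent F ![b, b']) (α β : F) {s : F} (hs : σ s = s)
    (hne : f b b ≠ 0 ∨ α ≠ 0) :
    ∃ z ∈ W, f b z = α ∧ f b' z = β ∧ f z z = s := by
  classical
  by_cases hbn : f b b = 0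
  swap
  · exact exists_prescribed_four hf hW hdim hb hb' hli hbn α β hs
  have hα : α ≠ 0 := hne.resolve_left (fun h => h hbn)
  have hli' : LinearIndependent F ![b', b] := LinearIndependent.pair_symm_iff.1 hli
  by_cases hb'n : f b' b' = 0
  swap
  · obtain ⟨z, hz, h1, h2, h3⟩ := exists_prescribed_four hf hW hdim hb' hb hli' hb'n β α hs
    exact ⟨z, hz, h2, h1, h3⟩
  obtain ⟨t, ht⟩ := exists_trace_eq hf (s := (1 : F)) (map_one σ)
  by_cases hγ : f b b' = 0
  · -- the two vectors span a totally singular line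
    let v : Fin 2 → W := ![⟨b, hb⟩, ⟨b', hb'⟩]
    have hv : LinearIndependent F v := by
      apply LinearIndependent.of_comp W.subtype
      convert hli using 1
      funext i
      fin_cases i <;> rfl
    obtain ⟨φ, hφ⟩ := LinearMap.exists_extend ((Module.Basis.span hv).constr F ![α, β])
    obtain ⟨z₀, hz₀, hz⟩ := exists_riesz hf hW φ
    have hφv : ∀ i, φ (v i) = ![α, β] i := fun i => by
      have := congrArg (fun t => t (Module.Basis.span hv i)) hφ
      rw [LinearMap.comp_apply, Module.Basis.constr_basis] at this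
      rw [← this, Submodule.subtype_apply, Module.Basis.span_apply]
    have e1 : f b z₀ = α := (hz ⟨b, hb⟩).trans (hφv 0)
    have e2 : f b' z₀ = β := (hz ⟨b', hb'⟩).trans (hφv 1)
    obtain ⟨w, hw⟩ := exists_trace_eq hf (s := s - f z₀ z₀) (by rw [map_sub, hs, self_fixed hf])
    refine ⟨z₀ + (w / α) • b, W.add_mem hz₀ (W.smul_mem _ hb), ?_, ?_, ?_⟩
    · rw [add_right hf, smul_right hf, hbn, mul_zero, add_zero, e1]
    · rw [add_right hf, smul_right hf, eq_zero_comm hf hγ, mul_zero, add_zero, e2]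
    · have e3 : f z₀ b = σ α := by rw [hf.herm, e1]
      rw [hf.add_left, add_right hf, add_right hf, hf.smul_left, hf.smul_left, smul_right hf,
        smul_right hf, hbn, e1, e3, ← map_mul, div_mul_cancel₀ _ hα]
      linear_combination hw
  · -- a combination is anisotropic
    set l := σ (t / f b b') with hl
    have hv' : f (b + l • b') (b + l • b') = 1 := by
      rw [hf.add_left, add_right hf, add_right hf, hf.smul_left, hf.smul_left, smul_right hf,
        smul_right hf, hbn, hb'n, hf.herm b' b, hl, hf.involutive, ← map_mul,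
        div_mul_cancel₀ _ hγ]
      linear_combination ht
    have hli2 : LinearIndependent F ![b + l • b', b'] := by
      refine LinearIndependent.pair_iff.2 fun c d h => ?_
      obtain ⟨h1, h2⟩ := LinearIndependent.pair_iff.1 hli c (c * l + d) (by rw [← h]; module)
      rw [h1, zero_mul, zero_add] at h2
      exact ⟨h1, h2⟩
    obtain ⟨z, hzW, h1, h2, h3⟩ := exists_prescribed_four hf hW hdim
      (W.add_mem hb (W.smul_mem _ hb')) hb' hli2 (by rw [hv']; exact one_ne_zero) (α + l * β) β hs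
    refine ⟨z, hzW, ?_, h2, h3⟩
    rw [hf.add_left, hf.smul_left, h2] at h1
    exact add_right_cancel h1

/-- Transvections are transitive on the non-zero vectors of given norm, dimension four. -/
lemma exists_tvGroup_mulVec_pair {W : Submodule F (ι → F)} (hW : IsNondegenerateOn f W)
    (hdim : 4 ≤ Module.finrank F W) {b b' : ι → F} (hb : b ∈ W) (hb' : b' ∈ W) (hb0 : b ≠ 0)
    (hb'0 : b' ≠ 0) (hs : f b b = f b' b') :
    ∃ t ∈ tvGroup hf W, (t : Matrix ι ι F) *ᵥ b = b' := by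
  classical
  by_cases hbn : f b b = 0
  swap
  · exact exists_tvGroup_mulVec_four hf hW hdim hb hb' hb0 hb'0 hs hbn
  obtain ⟨τ, hτ0, hτ⟩ := exists_trace_zero hf.ne_refl hf.involutive
  -- the independent case
  have indep : ∀ b b' : ι → F, b ∈ W → b' ∈ W → f b b = 0 → f b' b' = 0 →
      LinearIndependent F ![b, b'] → ∃ t ∈ tvGroup hf W, (t : Matrix ι ι F) *ᵥ b = b' := by
    intro b b' hb hb' h1 h2 hli
    obtain ⟨z, hz, hz1, hz2, hz3⟩ := exists_prescribed_pair hf hW hdim hb hb' hli τ τ (map_zero σ)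
      (Or.inr hτ0)
    have hz1' : f z b = -τ := by rw [hf.herm, hz1, hτ]
    have hz2' : f z b' = -τ := by rw [hf.herm, hz2, hτ]
    obtain ⟨t₁, ht₁, e₁⟩ := exists_uTv_mulVec hf hb hz (h1.trans hz3.symm)
      (by rw [sub_left hf, sub_right hf, sub_right hf, h1, hz3, hz1, hz1']; ring)
      (by rw [sub_right hf, hz1, h1, sub_zero]; exact hτ0)
    obtain ⟨t₂, ht₂, e₂⟩ := exists_uTv_mulVec hf hz hb' (hz3.trans h2.symm)
      (by rw [sub_left hf, sub_right hf, sub_right hf, h2, hz3, hz2, hz2']; ring)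
      (by rw [sub_right hf, hz2', hz3]; simpa using hτ0)
    exact ⟨t₂ * t₁, mul_mem ht₂ ht₁, by rw [gl_mulVec_mul, e₁, e₂]⟩
  by_cases hli : LinearIndependent F ![b, b']
  · exact indep b b' hb hb' hbn (hs.symm.trans hbn) hli
  obtain ⟨p, hp, hpb⟩ : ∃ p ∈ W, p ∉ Submodule.span F {b} := by
    apply SetLike.not_le_iff_exists.1
    intro hle
    have := Submodule.finrank_mono hle
    rw [finrank_span_singleton hb0] at this
    omega
  have hbp : LinearIndependent F ![b, p] := by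
    rw [LinearIndependent.pair_iff' hb0]
    exact fun a e => hpb (Submodule.mem_span_singleton.2 ⟨a, e⟩)
  obtain ⟨z, hz, hz1, -, hz3⟩ := exists_prescribed_pair hf hW hdim hb hp hbp 1 0 (map_zero σ)
    (Or.inr one_ne_zero)
  obtain ⟨l, hl⟩ : ∃ l : F, l • b = b' := by
    rw [LinearIndependent.pair_iff' hb0] at hli
    push Not at hli
    exact hli
  have hbz : LinearIndependent F ![b, z] := by
    rw [LinearIndependent.pair_iff' hb0]
    intro a e
    rw [← e, smul_right hf, hbn, mul_zero] at hz1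
    exact zero_ne_one hz1
  have hz0 : z ≠ 0 := by simpa using LinearIndependent.ne_zero 1 hbz
  have hzb' : LinearIndependent F ![z, b'] := by
    rw [LinearIndependent.pair_iff' hz0]
    intro a e
    rw [LinearIndependent.pair_iff' hb0] at hbz
    have ha : a ≠ 0 := fun h => hb'0 (by rw [← e, h, zero_smul])
    exact hbz (a⁻¹ * l) (by rw [← smul_smul, hl, ← e, smul_smul, inv_mul_cancel₀ ha, one_smul])
  obtain ⟨t₁, ht₁, e₁⟩ := indep b z hb hz hbn hz3 hbz
  obtain ⟨t₂, ht₂, e₂⟩ := indep z b' hz hb' hz3 (hs.symm.trans hbn) hzb'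
  exact ⟨t₂ * t₁, mul_mem ht₂ ht₁, by rw [gl_mulVec_mul, e₁, e₂]⟩

omit hf

theorem nondegenerate_stabilizer_maximal_of_four (hf : IsUnitaryForm σ f) (W : Submodule F (ι → F))
    (hW0 : W ≠ ⊥) (hW : IsNondegenerateOn f W) (hdim : 2 * Module.finrank F W < Fintype.card ι)
    (hP4 : 4 + Module.finrank F W ≤ Fintype.card ι) :
    IsMaximalIn (isoOf f ⊓ specialLinear ι F)
      (subspaceStabilizer W ⊓ (isoOf f ⊓ specialLinear ι F)) := by
  classical
  obtain ⟨τ, hτ0, hτ⟩ := exists_trace_zero hf.ne_refl hf.involutive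
  set P := perp hf W with hPdef
  have hPnd : IsNondegenerateOn f P := by
    intro b hb hb0
    obtain ⟨x, hx⟩ := (hf.nondegenerate b hb0).1
    obtain ⟨a, ha, hc⟩ := exists_split hf hW x
    have hne : f (x - a) b ≠ 0 := by
      rwa [sub_left hf, eq_zero_comm hf (hb a ha), sub_zero]
    exact ⟨⟨_, hc, hne⟩, ⟨_, hc, ne_zero_comm hf hne⟩⟩
  have hWP0 : ∀ a ∈ W, ∀ b ∈ P, f a b = 0 := fun a ha b hb => eq_zero_comm hf (hb a ha)
  have hsum : Module.finrank F W + Module.finrank F P = Fintype.card ι := by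
    rw [← Submodule.finrank_sup_add_finrank_inf_eq]
    have h1 : W ⊔ P = ⊤ := eq_top_iff.2 fun x _ => by
      obtain ⟨a, ha, ha'⟩ := exists_split hf hW x
      exact Submodule.mem_sup.2 ⟨a, ha, _, ha', add_sub_cancel _ _⟩
    have h2 : W ⊓ P = ⊥ := eq_bot_iff.2 fun x hx =>
      (Submodule.mem_bot F).2 (eq_zero_of_mem_perp hf hW hx.1 hx.2)
    rw [h1, h2, finrank_top, finrank_bot, add_zero, Module.finrank_fintype_fun_eq_card]
  have hP7 : 4 ≤ Module.finrank F P := by omega
  have hP0 : P ≠ ⊥ := fun e => by rw [e, finrank_bot] at hP7; exact absurd hP7 (by norm_num)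
  -- an isotropic vector in `P`, hence spanning
  obtain ⟨q, hq, hq0⟩ := Submodule.exists_mem_ne_zero_of_ne_bot hP0
  obtain ⟨q', hq', hqq'⟩ : ∃ q' ∈ P, q' ∉ Submodule.span F {q} := by
    apply SetLike.not_le_iff_exists.1
    intro hle
    have := Submodule.finrank_mono hle
    rw [finrank_span_singleton hq0] at this
    omega
  have hli : LinearIndependent F ![q, q'] := by
    rw [LinearIndependent.pair_iff' hq0]
    exact fun c e => hqq' (Submodule.mem_span_singleton.2 ⟨c, e⟩)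
  obtain ⟨z₀, hz₀, hz₀q, -, hz₀0⟩ := exists_prescribed_pair hf hPnd hP7 hq hq' hli 1 0 (s := 0) (map_zero σ) (Or.inr one_ne_zero)
  have hz₀ne : z₀ ≠ 0 := fun e => by rw [e, zero_right hf] at hz₀q; exact zero_ne_one hz₀q
  have hPspan : Submodule.span F {w | w ∈ P ∧ f w w = 0} = P :=
    isotropic_span_of_mem hf hz₀ hz₀0 (hPnd z₀ hz₀ hz₀ne).1
  obtain ⟨p₀, hp₀, hp₀'⟩ := exists_value_in hf hPnd le_rfl (by omega) (map_one σ)
  have hp₀n : f p₀ p₀ ≠ 0 := by rw [hp₀']; exact one_ne_zero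
  refine CfsgLib.ClassicalMax.isMaximalIn_of inf_le_right ?_ ?_
  · -- a transvection moving `W`
    obtain ⟨a, ha, ha0⟩ := Submodule.exists_mem_ne_zero_of_ne_bot hW0
    obtain ⟨z, hz, hza⟩ := (hW a ha ha0).1
    obtain ⟨b, hb, hb0, hbb⟩ : ∃ b ∈ P, b ≠ 0 ∧ f b b = - f a a := by
      obtain ⟨b, hb, hbq, -, hbb⟩ := exists_prescribed_pair hf hPnd hP7 hq hq' hli 1 0
        (s := - f a a) (by rw [map_neg, self_fixed hf]) (Or.inr one_ne_zero)
      exact ⟨b, hb, fun e => by rw [e, zero_right hf] at hbq; exact zero_ne_one hbq, hbb⟩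
    have hu : f (a + b) (a + b) = 0 := by
      rw [hf.add_left, add_right hf, add_right hf, hWP0 a ha b hb, hb a ha, hbb]; ring
    refine ⟨uTv hf (a + b) τ, ⟨uTv_mem_isoOf hf hu hτ, uTv_mem_sl hf _ _⟩, fun h => ?_⟩
    have h1 := (CfsgLib.ClassicalMax.mem_subspaceStabilizer.1 h.1 z).1 hz
    have hne : τ * f z (a + b) ≠ 0 := by
      rw [add_right hf, hWP0 z hz b hb, add_zero]; exact mul_ne_zero hτ0 hza
    rw [uTv_mulVec hf hu, Submodule.add_mem_iff_right _ hz, Submodule.smul_mem_iff _ hne,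
      Submodule.add_mem_iff_right _ ha] at h1
    exact hb0 (eq_zero_of_mem_perp hf hW h1 hb)
  intro M hHM hMK g hgM hgH
  have hgK := hMK hgM
  have hgi : g ∈ isoOf f := hgK.1
  have hPS : ∀ v ∈ P, f v v = 0 → v ∈ uSet hf M := by
    refine fun v hv hv0 => ⟨hv0, fun c hc => hHM ⟨?_, uTv_mem_isoOf hf hv0 hc, uTv_mem_sl hf v c⟩⟩
    refine CfsgLib.ClassicalMax.mem_subspaceStabilizer_of_forall fun x hx => ?_
    rw [uTv_mulVec_of_orth hf hv0 c (hWP0 x hx v hv)]
    exact hx
  have hWS : ∀ v ∈ W, f v v = 0 → v ∈ uSet hf M := by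
    refine fun v hv hv0 => ⟨hv0, fun c hc => hHM ⟨?_, uTv_mem_isoOf hf hv0 hc, uTv_mem_sl hf v c⟩⟩
    refine CfsgLib.ClassicalMax.mem_subspaceStabilizer_of_forall fun x hx => ?_
    rw [uTv_mulVec hf hv0]
    exact W.add_mem hx (W.smul_mem _ hv)
  have hnorm : ∀ a ∈ W, ∀ b ∈ P, f (a + b) (a + b) = f a a + f b b := fun a ha b hb => by
    rw [hf.add_left, add_right hf, add_right hf, hWP0 a ha b hb, hb a ha]; ring
  -- the stabiliser moves both components
  have htrans : ∀ a a' b b' : ι → F, a ∈ W → a' ∈ W → b ∈ P → b' ∈ P → a ≠ 0 → a' ≠ 0 → b ≠ 0 →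
      b' ≠ 0 → f a a = f a' a' → f b b = f b' b' → a + b ∈ uSet hf M → a' + b' ∈ uSet hf M := by
    intro a a' b b' ha ha' hb hb' ha0 ha'0 hb0 hb'0 hsa hsb hab
    obtain ⟨h, hhi, ⟨ζ, hζ, hdet⟩, hhW, hhP, hha⟩ := exists_iso_in hf hW ha ha' ha0 ha'0 hsa
    have hζi : ((ζ⁻¹ : Fˣ) : F) * σ ((ζ⁻¹ : Fˣ) : F) = 1 := by
      rw [Units.val_inv_eq_inv_val, map_inv₀, ← mul_inv, hζ, inv_one]
    set h' := h * qRefl hf p₀ hp₀n ζ⁻¹ with hh'
    have hh'H : h' ∈ subspaceStabilizer W ⊓ (isoOf f ⊓ specialLinear ι F) := by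
      refine ⟨CfsgLib.ClassicalMax.mem_subspaceStabilizer_of_forall fun x hx => ?_,
        (isoOf f).mul_mem hhi (qRefl_mem_isoOf hf _ _ _ hζi), ?_⟩
      · rw [hh', gl_mulVec_mul, qRefl_mulVec, hWP0 x hx p₀ hp₀, mul_zero, zero_smul, add_zero]
        simpa using W.add_mem (hhW x) hx
      · change Matrix.GeneralLinearGroup.det h' = 1
        rw [hh', map_mul, hdet]
        refine Units.ext ?_
        rw [Units.val_mul, Units.val_one]
        change (ζ : F) * (qMat hf p₀ ((ζ⁻¹ : Fˣ) : F)).det = 1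
        rw [det_qMat hf hp₀n, Units.mul_inv]
    have h1 := uSet_mulVec hf (hHM hh'H) hh'H.2.1 hab
    set b₁ := (qRefl hf p₀ hp₀n ζ⁻¹ : Matrix ι ι F) *ᵥ b with hb₁
    have hb₁P : b₁ ∈ P := by rw [hb₁, qRefl_mulVec]; exact P.add_mem hb (P.smul_mem _ hp₀)
    have he : (h' : Matrix ι ι F) *ᵥ (a + b) = a' + b₁ := by
      rw [hh', gl_mulVec_mul, mulVec_add, ← hb₁, mulVec_add, hhP b₁ hb₁P,
        qRefl_mulVec, hWP0 a ha p₀ hp₀, mul_zero, zero_smul, add_zero, hha]
    rw [he] at h1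
    have hb₁n : f b₁ b₁ = f b' b' := by
      rw [hb₁, mem_isoOf.1 (qRefl_mem_isoOf hf _ _ _ hζi), hsb]
    obtain ⟨t, ht, htb⟩ := exists_tvGroup_mulVec_pair hf hPnd hP7 hb₁P hb' (gl_mulVec_ne_zero _ hb0) hb'0 hb₁n
    have hle : tvGroup hf P ≤ subspaceStabilizer W ⊓ (isoOf f ⊓ specialLinear ι F) := by
      refine (Subgroup.closure_le _).2 ?_
      rintro _ ⟨v, c, hv, hv0, hc, rfl⟩
      exact ⟨CfsgLib.ClassicalMax.mem_subspaceStabilizer_of_forall fun x hx => by
        rw [uTv_mulVec_of_orth hf hv0 c (hWP0 x hx v hv)]; exact hx,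
        uTv_mem_isoOf hf hv0 hc, uTv_mem_sl hf v c⟩
    have hta : ∀ t ∈ tvGroup hf P, (t : Matrix ι ι F) *ᵥ a' = a' := by
      intro t ht
      induction ht using Subgroup.closure_induction with
      | mem t ht =>
        obtain ⟨v, c, hv, hv0, -, rfl⟩ := ht
        exact uTv_mulVec_of_orth hf hv0 c (hWP0 a' ha' v hv)
      | one => simp
      | mul x y _ _ hx hy => rw [gl_mulVec_mul, hy, hx]
      | inv x _ hx => conv_lhs => rw [← hx, gl_inv_mulVec_mulVec]
    have h2 := uSet_mulVec hf (hHM (hle ht)) (hle ht).2.1 h1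
    rwa [mulVec_add, hta t ht, htb] at h2
  -- a mixed vector
  obtain ⟨a₁, b₁, ha₁, hb₁, ha₁0, hb₁0, h₁⟩ : ∃ a b : ι → F, a ∈ W ∧ b ∈ P ∧ a ≠ 0 ∧ b ≠ 0 ∧
      a + b ∈ uSet hf M := by
    by_contra hcon
    push Not at hcon
    have hcov : ∀ y ∈ P, f y y = 0 →
        (g : Matrix ι ι F) *ᵥ y ∈ W ∨ (g : Matrix ι ι F) *ᵥ y ∈ P := by
      intro y hy hy0
      obtain ⟨a, ha, hb⟩ := exists_split hf hW ((g : Matrix ι ι F) *ᵥ y)
      by_cases ha0 : a = 0
      · exact Or.inr (by simpa [ha0] using hb)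
      by_cases hb0 : (g : Matrix ι ι F) *ᵥ y - a = 0
      · exact Or.inl (by rw [sub_eq_zero.1 hb0]; exact ha)
      exact absurd (by rw [add_sub_cancel]; exact uSet_mulVec hf hgM hgi (hPS y hy hy0))
        (hcon a _ ha hb ha0 hb0)
    have hgP : ∀ y ∈ P, (g : Matrix ι ι F) *ᵥ y ∈ P := by
      suffices ∀ y ∈ P, f y y = 0 → (g : Matrix ι ι F) *ᵥ y ∈ P by
        intro y hy
        rw [← hPspan] at hy
        have hle : Submodule.span F {w | w ∈ P ∧ f w w = 0} ≤
            P.comap (Matrix.toLin' (g : Matrix ι ι F)) :=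
          Submodule.span_le.2 fun v hv => by simpa using this v hv.1 hv.2
        simpa using hle hy
      intro y₁ hy₁ hy₁0
      by_contra hc
      have hy₁ne : y₁ ≠ 0 := fun e => hc (by rw [e, mulVec_zero]; exact zero_mem _)
      have hall : ∀ y ∈ P, f y y = 0 → (g : Matrix ι ι F) *ᵥ y ∈ W := by
        intro y hy hy0
        rcases eq_or_ne y 0 with rfl | hyne
        · rw [mulVec_zero]; exact zero_mem _
        obtain ⟨x, hx, hx'⟩ := (hPnd y₁ hy₁ hy₁ne).1
        obtain ⟨x₂, hx₂, hx₂'⟩ := (hPnd y hy hyne).1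
        obtain ⟨z, hz, hz0, hz1, hz2⟩ := exists_isotropic_both hf hPspan (formL hf y₁) (formL hf y)
          ⟨x, hx, hx'⟩ ⟨x₂, hx₂, hx₂'⟩
        have hgz : (g : Matrix ι ι F) *ᵥ z ∈ W := by
          refine (hcov z hz hz0).resolve_right fun h => ?_
          refine hz1 ?_
          change f z y₁ = 0
          rw [← mem_isoOf.1 hgi z y₁]
          exact h _ ((hcov y₁ hy₁ hy₁0).resolve_right hc)
        refine (hcov y hy hy0).resolve_right fun h => ?_
        refine hz2 ?_
        change f z y = 0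
        rw [← mem_isoOf.1 hgi z y]
        exact hWP0 _ hgz _ h
      have hle : P.map (Matrix.toLin' (g : Matrix ι ι F)) ≤ W := by
        rw [← hPspan, Submodule.map_le_iff_le_comap, Submodule.span_le]
        exact fun v hv => by simpa using hall v hv.1 hv.2
      have := Submodule.finrank_mono hle
      rw [← (Submodule.equivMapOfInjective _
        (fun x y e => gl_mulVec_injective g (by simpa using e)) P).finrank_eq] at this
      omega
    refine hgH ⟨CfsgLib.ClassicalMax.mem_subspaceStabilizer_of_forall fun w hw => ?_, hgK⟩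
    obtain ⟨a, ha, hb⟩ := exists_split hf hW ((g : Matrix ι ι F) *ᵥ w)
    suffices (g : Matrix ι ι F) *ᵥ w - a = 0 by rw [sub_eq_zero.1 this]; exact ha
    refine eq_zero_of_mem_perp hf hPnd hb fun y hy => ?_
    obtain ⟨y', hy', rfl⟩ := CfsgLib.ClassicalMax.exists_preimage_mem hgP hy
    rw [sub_left hf, mem_isoOf.1 hgi, hWP0 w hw y' hy', hWP0 a ha _ hy, sub_zero]
  have hiso₁ : f a₁ a₁ + f b₁ b₁ = 0 := (hnorm a₁ ha₁ b₁ hb₁).symm.trans h₁.1
  -- a vector with an anisotropic component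
  obtain ⟨a, b, ha, hb, hb0, hsa, hab⟩ : ∃ a b : ι → F, a ∈ W ∧ b ∈ P ∧ b ≠ 0 ∧ f a a ≠ 0 ∧
      a + b ∈ uSet hf M := by
    by_cases hs : f a₁ a₁ = 0
    · have hs' : f b₁ b₁ = 0 := by rwa [hs, zero_add] at hiso₁
      obtain ⟨x, hx, hx'⟩ := (hW a₁ ha₁ ha₁0).1
      obtain ⟨a₂, ha₂, ha₂0, hX', -⟩ := exists_isotropic_both hf
        (isotropic_span_of_mem hf ha₁ hs ⟨x, hx, hx'⟩) (formL hf a₁) (formL hf a₁)
        ⟨x, hx, hx'⟩ ⟨x, hx, hx'⟩
      have hX : f a₁ a₂ ≠ 0 := ne_zero_comm hf hX'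
      have ha₂ne : a₂ ≠ 0 := fun e => hX (by rw [e, zero_right hf])
      obtain ⟨ω, hω⟩ : ∃ ω, σ ω ≠ ω := by
        by_contra h
        push Not at h
        exact hf.ne_refl (RingEquiv.ext h)
      obtain ⟨p, hp, hpb⟩ : ∃ p ∈ P, p ∉ Submodule.span F {b₁} := by
        apply SetLike.not_le_iff_exists.1
        intro hle
        have := Submodule.finrank_mono hle
        rw [finrank_span_singleton hb₁0] at this
        omega
      have hli' : LinearIndependent F ![b₁, p] := by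
        rw [LinearIndependent.pair_iff' hb₁0]
        exact fun c e => hpb (Submodule.mem_span_singleton.2 ⟨c, e⟩)
      obtain ⟨b₂, hb₂, hY, hYp, hb₂0⟩ := exists_prescribed_pair hf hPnd hP7 hb₁ hp hli'
        (ω * f a₁ a₂) 1 (s := 0) (map_zero σ) (Or.inr (mul_ne_zero (fun e => hω (by rw [e, map_zero])) hX))
      have hb₂ne : b₂ ≠ 0 := fun e => by rw [e, zero_right hf] at hYp; exact zero_ne_one hYp
      have h₂ := htrans a₁ a₂ b₁ b₂ ha₁ ha₂ hb₁ hb₂ ha₁0 ha₂ne hb₁0 hb₂ne (hs.trans ha₂0.symm)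
        (hs'.trans hb₂0.symm) h₁
      have h₃ := uSet_mulVec hf (h₂.2 τ hτ) (uTv_mem_isoOf hf h₂.1 hτ) h₁
      rw [uTv_mulVec hf h₂.1, smul_add] at h₃
      set κ := τ * f (a₁ + b₁) (a₂ + b₂) with hκ
      have hκv : κ = τ * (1 + ω) * f a₁ a₂ := by
        rw [hκ, hf.add_left, add_right hf, add_right hf, hWP0 a₁ ha₁ b₂ hb₂, hb₁ a₂ ha₂, hY]
        ring
      have hna : f (a₁ + κ • a₂) (a₁ + κ • a₂) ≠ 0 := by
        rw [hf.add_left, add_right hf, add_right hf, hf.smul_left, hf.smul_left, smul_right hf,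
          smul_right hf, hs, ha₂0, hκv, map_mul, map_mul, map_add, map_one, hτ, hf.herm a₂ a₁]
        have hXσ : σ (f a₁ a₂) ≠ 0 := fun e => hX (by simpa using congrArg σ.symm e)
        have : τ * (ω - σ ω) * f a₁ a₂ * σ (f a₁ a₂) ≠ 0 :=
          mul_ne_zero (mul_ne_zero (mul_ne_zero hτ0 (sub_ne_zero.2 (Ne.symm hω))) hX) hXσ
        intro e
        apply this
        linear_combination e
      refine ⟨a₁ + κ • a₂, b₁ + κ • b₂, W.add_mem ha₁ (W.smul_mem _ ha₂),
        P.add_mem hb₁ (P.smul_mem _ hb₂), fun e => hna ?_, hna, ?_⟩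
      · have := h₃.1
        rw [show a₁ + b₁ + (κ • a₂ + κ • b₂) = (a₁ + κ • a₂) + (b₁ + κ • b₂) by abel, e, add_zero] at this
        exact this
      · rwa [show a₁ + b₁ + (κ • a₂ + κ • b₂) = (a₁ + κ • a₂) + (b₁ + κ • b₂) by abel] at h₃
    · exact ⟨a₁, b₁, ha₁, hb₁, hb₁0, hs, h₁⟩
  have ha0 : a ≠ 0 := fun e => hsa (by rw [e, zero_left hf])
  -- every vector with anisotropic components
  have haniso : ∀ a' b', a' ∈ W → b' ∈ P → f a' a' ≠ 0 → f (a' + b') (a' + b') = 0 →
      a' + b' ∈ uSet hf M := by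
    intro a' b' ha' hb' hsa' h0
    rw [hnorm a' ha' b' hb'] at h0
    have ha'0 : a' ≠ 0 := fun e => hsa' (by rw [e, zero_left hf])
    have hb'0 : b' ≠ 0 := fun e => hsa' (by rwa [e, zero_left hf, add_zero] at h0)
    obtain ⟨κ, hκ⟩ := exists_norm_eq hf.ne_refl hf.involutive (s := f a' a' / f a a)
      (by rw [map_div₀, self_fixed hf, self_fixed hf])
    have hκ0 : κ ≠ 0 := fun e => by
      rw [e, zero_mul] at hκ
      exact div_ne_zero hsa' hsa hκ.symm
    obtain ⟨x, hx, hxb⟩ := (hPnd b hb hb0).1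
    obtain ⟨y, hy, hy0, hyb, -⟩ := exists_isotropic_both hf hPspan (formL hf b) (formL hf b)
      ⟨x, hx, hxb⟩ ⟨x, hx, hxb⟩
    have hyb' : f y b ≠ 0 := hyb
    set y' := (κ / (τ * f y b)) • y with hy'
    have h := uSet_mulVec hf (hab.2 τ hτ) (uTv_mem_isoOf hf hab.1 hτ)
      (uSet_smul hf (κ / (τ * f y b)) (hPS y hy hy0))
    rw [← hy', uTv_mulVec hf hab.1] at h
    have hk : τ * f y' (a + b) = κ := by
      rw [hy', hf.smul_left, add_right hf, hy a ha, zero_add]
      field_simp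
    rw [hk, show y' + κ • (a + b) = κ • a + (y' + κ • b) by rw [smul_add]; abel] at h
    have hn1 : f (κ • a) (κ • a) = f a' a' := by
      rw [hf.smul_left, smul_right hf, ← mul_assoc, hκ, div_mul_cancel₀ _ hsa]
    have hwP : y' + κ • b ∈ P := P.add_mem (P.smul_mem _ hy) (P.smul_mem _ hb)
    have hn2 : f (y' + κ • b) (y' + κ • b) = f b' b' := by
      have e := h.1
      rw [hnorm _ (W.smul_mem _ ha) _ hwP, hn1] at e
      linear_combination e - h0
    refine htrans (κ • a) a' (y' + κ • b) b' (W.smul_mem _ ha) ha' hwP hb' (smul_ne_zero hκ0 ha0)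
      ha'0 (fun e => ?_) hb'0 hn1 hn2 h
    rw [e, zero_left hf] at hn2
    rw [← hn2, add_zero] at h0
    exact hsa' h0
  have hW1 : 1 ≤ Module.finrank F W := Submodule.one_le_finrank_iff.2 hW0
  refine iso_inf_sl_le_five hf (by omega) fun v c hv hc => ?_
  suffices hvS : v ∈ uSet hf M from hvS.2 c hc
  obtain ⟨a', ha', hb'⟩ := exists_split hf hW v
  by_cases ha'0 : a' = 0
  · exact hPS v (by simpa [ha'0] using hb') hv
  by_cases hb'0 : v - a' = 0
  · rw [sub_eq_zero.1 hb'0] at hv ⊢; exact hWS a' ha' hv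
  by_cases hsa' : f a' a' = 0
  · -- isotropic components: combine two anisotropic ones
    obtain ⟨l, hl0, hl⟩ : ∃ l : F, l ≠ 0 ∧
        f (l • a' - a) (l • a' - a) ≠ 0 := by
      by_cases hX : f a' a = 0
      · refine ⟨1, one_ne_zero, ?_⟩
        rw [one_smul, sub_left hf, sub_right hf, sub_right hf, hsa', hX, eq_zero_comm hf hX]
        simpa using hsa
      · refine ⟨τ / f a' a, div_ne_zero hτ0 hX, ?_⟩
        rw [sub_left hf, sub_right hf, sub_right hf, hf.smul_left, hf.smul_left, smul_right hf,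
          smul_right hf, hsa', hf.herm a a', map_div₀, hτ]
        have hX' : σ (f a' a) ≠ 0 := fun e => hX (by simpa using congrArg σ.symm e)
        rw [div_mul_cancel₀ _ hX, div_mul_cancel₀ _ hX']
        simpa using hsa
    set a₂ := l • a' - a with ha₂
    have ha₂W : a₂ ∈ W := W.sub_mem (W.smul_mem _ ha') ha
    obtain ⟨p, hp, hp0, hbp⟩ : ∃ p ∈ P, p ≠ 0 ∧ f b p = 0 := by
      let L := (formL hf b).comp P.subtype
      have h := LinearMap.finrank_range_add_finrank_ker L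
      have h' : Module.finrank F (LinearMap.range L) ≤ 1 := by
        simpa using Submodule.finrank_le (LinearMap.range L)
      obtain ⟨⟨p, hpP⟩, hp, hp0⟩ := Submodule.exists_mem_ne_zero_of_ne_bot (p := LinearMap.ker L)
        (fun e => by rw [e, finrank_bot] at h; omega)
      exact ⟨p, hpP, fun e => hp0 (Subtype.ext e), eq_zero_comm hf hp⟩
    have hbn : f b b ≠ 0 := by
      have e := hab.1
      rw [hnorm a ha b hb] at e
      intro e'
      rw [e', add_zero] at e
      exact hsa e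
    have hli' : LinearIndependent F ![p, b] := by
      rw [LinearIndependent.pair_iff' hp0]
      intro c hc
      apply hbn
      conv_lhs => arg 2; rw [← hc]
      rw [smul_right hf, hbp, mul_zero]
    obtain ⟨b₂, hb₂, hb₂p, hb₂b, hb₂n⟩ := exists_prescribed_pair hf hPnd hP7 hp hb hli' 1
      (τ⁻¹ - f a a₂) (s := - f a₂ a₂) (by rw [map_neg, self_fixed hf]) (Or.inr one_ne_zero)
    have h₂ := haniso a₂ b₂ ha₂W hb₂ hl (by rw [hnorm a₂ ha₂W b₂ hb₂, hb₂n, add_neg_cancel])
    have h₃ := uSet_mulVec hf (h₂.2 τ hτ) (uTv_mem_isoOf hf h₂.1 hτ) hab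
    rw [uTv_mulVec hf h₂.1, hf.add_left, add_right hf, add_right hf, hWP0 a ha b₂ hb₂, hb a₂ ha₂W,
      hb₂b, add_zero, zero_add, add_sub_cancel, mul_inv_cancel₀ hτ0, one_smul,
      show a + b + (a₂ + b₂) = l • a' + (b + b₂) by rw [ha₂]; abel] at h₃
    have hne : b + b₂ ≠ 0 := fun e => by
      have := congrArg (fun z => f p z) e
      simp only [add_right hf, eq_zero_comm hf hbp, hb₂p, zero_right hf, zero_add] at this
      exact one_ne_zero this
    have h₄ := uSet_smul hf l⁻¹ h₃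
    rw [smul_add, smul_smul, inv_mul_cancel₀ hl0, one_smul] at h₄
    have hn4 : f (l⁻¹ • (b + b₂)) (l⁻¹ • (b + b₂)) = f (v - a') (v - a') := by
      have e := h₄.1
      rw [hnorm a' ha' _ (P.smul_mem _ (P.add_mem hb hb₂)), hsa', zero_add] at e
      have e' := hnorm a' ha' _ hb'
      rw [add_sub_cancel, hv, hsa', zero_add] at e'
      rw [e, ← e']
    have := htrans a' a' (l⁻¹ • (b + b₂)) (v - a') ha' ha' (P.smul_mem _ (P.add_mem hb hb₂)) hb'
      ha'0 ha'0 (smul_ne_zero (inv_ne_zero hl0) hne) hb'0 rfl hn4 h₄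
    rwa [add_sub_cancel] at this
  · have := haniso a' (v - a') ha' hb' hsa' (by rwa [add_sub_cancel])
    rwa [add_sub_cancel] at this

end CfsgLib.ClassicalMax.Unit
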