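/-
Root elements produced from an orthogonal subfield group and one outer root element, for small
dimensions.
-/
import Cfsg.Agent.Lib.ClassicalMax.UnitShort
set_option autoImplicit false

namespace CfsgLib.ClassicalMax.Unit.OrthSix

open Matrix Cfsg.Geo

variable {ι : Type} [Fintype ι] [DecidableEq ι] {F : Type*} [Field F]
  {σ : F ≃+* F} {f : (ι → F) → (ι → F) → F}

/-- The element acts as the Siegel map with parameters `y`, `C` at `v`. -/
def IsSgAt (f : (ι → F) → (ι → F) → F) (g : GL ι F) (v y : ι → F) (C : F) : Prop :=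
  ∀ x, (g : Matrix ι ι F) *ᵥ x = x + f x v • y + (C * f x v - f x y) • v

lemma IsSgAt.mul (hf : IsUnitaryForm σ f) {g h : GL ι F} {v y z : ι → F} {C D : F}
    (hvv : f v v = 0) (hyv : f y v = 0) (hzv : f z v = 0) (hg : IsSgAt f g v y C)
    (hh : IsSgAt f h v z D) : IsSgAt f (g * h) v (y + z) (C + D - f z y) := fun x => by
  rw [gl_mulVec_mul, hh, hg]
  simp only [hf.add_left, hf.smul_left, add_right hf, hvv, eq_zero_comm hf hyv, hzv]
  module

variable [DecidableEq F]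

lemma isSgAt_ush (hf : IsUnitaryForm σ f) {v w : ι → F} (hvv : f v v = 0) (hvw : f v w = 0) :
    IsSgAt f (ush hf v w 1) v w 0 := fun x => by
  rw [ush_mulVec hf hvv hvw, map_one]
  module

lemma isSgAt_ush_inv (hf : IsUnitaryForm σ f) {v w : ι → F} (hvv : f v v = 0) (hww : f w w = 0)
    (hvw : f v w = 0) : IsSgAt f (ush hf v w 1)⁻¹ v (-w) 0 := fun x => by
  rw [ush_inv hf hvv hww hvw, ush_mulVec hf hvv hvw, map_neg, map_one,
    show f x (-w) = -f x w by rw [← neg_one_smul F, smul_right hf, map_neg, map_one, neg_one_mul]]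
  module

/-- A root element at `v` towards `r` from one at `v` and two rational ones at `r`. -/
lemma mixed_root (hf : IsUnitaryForm σ f) {M : Subgroup (GL ι F)} {v x r w₁ w₂ : ι → F}
    (hvv : f v v = 0) (hxx : f x x = 0) (hrr : f r r = 0) (h11 : f w₁ w₁ = 0) (h22 : f w₂ w₂ = 0)
    (hr1 : f r w₁ = 0) (hr2 : f r w₂ = 0) (hvx : f v x = 0) (hvr : f v r = 0)
    (hvp : f v (w₁ + w₂) = 0) (hsym : f w₁ w₂ = f w₂ w₁) (m1 : ush hf r w₁ 1 ∈ M)
    (m2 : ush hf r w₂ 1 ∈ M) (hm : ush hf v x 1 ∈ M) :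
    ush hf v r (-4 * f w₂ w₁ * f x r) ∈ M := by
  set h := f w₂ w₁ with hh
  set ρ := f x r with hρ
  set N := ush hf r w₁ 1 * ush hf r w₂ 1 with hN
  have hNM : N ∈ M := M.mul_mem m1 m2
  have hNi : N ∈ isoOf f := (isoOf f).mul_mem (ush_mem_isoOf hf hrr h11 hr1 1)
    (ush_mem_isoOf hf hrr h22 hr2 1)
  have h1r : f w₁ r = 0 := eq_zero_comm hf hr1
  have h2r : f w₂ r = 0 := eq_zero_comm hf hr2
  have hNx : IsSgAt f N r (w₁ + w₂) (-h) := fun z => by
    rw [(isSgAt_ush hf hrr hr1).mul hf hrr h1r h2r (isSgAt_ush hf hrr hr2) z, zero_add, zero_sub]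
  have hNx' : IsSgAt f N⁻¹ r (-(w₁ + w₂)) (-h) := fun z => by
    have n1 : f (-w₁) r = 0 := by rw [← neg_one_smul F, hf.smul_left, h1r, mul_zero]
    have n2 : f (-w₂) r = 0 := by rw [← neg_one_smul F, hf.smul_left, h2r, mul_zero]
    have hn : f (-w₁) (-w₂) = f w₁ w₂ := by
      rw [← neg_one_smul F w₁, ← neg_one_smul F w₂, hf.smul_left, smul_right hf, map_neg, map_one]
      ring
    rw [hN, _root_.mul_inv_rev, (isSgAt_ush_inv hf hrr h22 hr2).mul hf hrr n2 n1
      (isSgAt_ush_inv hf hrr h11 hr1) z, hn, hsym, zero_add, zero_sub, ← neg_add, add_comm w₂ w₁]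
  have hNv : (N : Matrix ι ι F) *ᵥ v = v := by rw [hNx v, hvr, hvp]; simp
  have hNv' : ((N⁻¹ : GL ι F) : Matrix ι ι F) *ᵥ v = v := by
    conv_lhs => rw [← hNv]
    exact gl_inv_mulVec_mulVec N v
  set y₁ := (N : Matrix ι ι F) *ᵥ x with hy₁
  set y₂ := ((N⁻¹ : GL ι F) : Matrix ι ι F) *ᵥ x with hy₂
  have hA : ush hf v y₁ 1 ∈ M := by
    have := M.mul_mem (M.mul_mem hNM hm) (M.inv_mem hNM)
    rwa [ush_conj hf hNi hvv hvx, hNv] at this
  have hB : ush hf v y₂ 1 ∈ M := by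
    have := M.mul_mem (M.mul_mem (M.inv_mem hNM) hm) (M.inv_mem (M.inv_mem hNM))
    rwa [ush_conj hf ((isoOf f).inv_mem hNi) hvv hvx, hNv'] at this
  have hvy₁ : f v y₁ = 0 := by
    have h : f ((N : Matrix ι ι F) *ᵥ v) y₁ = 0 := (hNi v x).trans hvx
    rwa [hNv] at h
  have hvy₂ : f v y₂ = 0 := by
    have h : f (((N⁻¹ : GL ι F) : Matrix ι ι F) *ᵥ v) y₂ = 0 :=
      ((isoOf f).inv_mem hNi v x).trans hvx
    rwa [hNv'] at h
  have h11y : f y₁ y₁ = 0 := (hNi x x).trans hxx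
  have h22y : f y₂ y₂ = 0 := ((isoOf f).inv_mem hNi x x).trans hxx
  set s := -2 * h * ρ with hs
  have hY : y₁ + y₂ = (2 : F) • x + s • r := by
    rw [hy₁, hy₂, hNx x, hNx' x, show f x (-(w₁ + w₂)) = -f x (w₁ + w₂) by
      rw [← neg_one_smul F, smul_right hf, map_neg, map_one, neg_one_mul], hs, hρ]
    module
  have hh' : σ h = h := by rw [hh, ← hf.herm, hsym]
  have hxv : f x v = 0 := eq_zero_comm hf hvx
  have hy1v : f y₁ v = 0 := eq_zero_comm hf hvy₁
  have hy2v : f y₂ v = 0 := eq_zero_comm hf hvy₂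
  have sA := isSgAt_ush hf hvv hvy₁
  have sB := isSgAt_ush hf hvv hvy₂
  have sE := isSgAt_ush_inv hf hvv hxx hvx
  have hnv : f (-x) v = 0 := by rw [← neg_one_smul F, hf.smul_left, hxv, mul_zero]
  have s1 := sA.mul hf hvv hy1v hy2v sB
  have s2 := sB.mul hf hvv hy2v hy1v sA
  have h12v : f (y₁ + y₂) v = 0 := by rw [hf.add_left, hy1v, hy2v, add_zero]
  have h21v : f (y₂ + y₁) v = 0 := by rw [hf.add_left, hy1v, hy2v, add_zero]
  have s3 := s1.mul hf hvv h12v h21v s2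
  have s4 := sE.mul hf hvv hnv hnv sE
  have hEv : f (-x + -x) v = 0 := by rw [hf.add_left, hnv, add_zero]
  have s5 := s4.mul hf hvv hEv hEv s4
  have s6 := s3.mul hf hvv (by rw [hf.add_left, h12v, h21v, add_zero])
    (by rw [hf.add_left, hEv, add_zero]) s5
  have hmem := M.mul_mem (M.mul_mem (M.mul_mem hA hB) (M.mul_mem hB hA))
    (M.mul_mem (M.mul_mem (M.inv_mem hm) (M.inv_mem hm)) (M.mul_mem (M.inv_mem hm) (M.inv_mem hm)))
  suffices e : ush hf v r (-4 * h * ρ) = ush hf v y₁ 1 * ush hf v y₂ 1 *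
      (ush hf v y₂ 1 * ush hf v y₁ 1) * ((ush hf v x 1)⁻¹ * (ush hf v x 1)⁻¹ *
      ((ush hf v x 1)⁻¹ * (ush hf v x 1)⁻¹)) from e ▸ hmem
  refine gl_ext_mulVec fun z => ?_
  rw [s6 z, ush_mulVec hf hvv hvr]
  have hy2 : y₂ = (2 : F) • x + s • r - y₁ := by rw [← hY]; abel
  have hxr' : f r x = σ ρ := by rw [hρ, ← hf.herm]
  have e22 := h22y
  rw [hy2] at e22 ⊢
  simp only [show ∀ u : ι → F, -u = (-1 : F) • u from fun u => (neg_one_smul F u).symm,
    sub_eq_add_neg (a := (2 : F) • x + s • r), hf.add_left, hf.smul_left, add_right hf, smul_right hf,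
    map_neg, map_one, map_mul, map_ofNat, hxx, hrr, h11y, hxr', ← hρ] at e22 ⊢
  match_scalars <;>
    simp only [hs, map_neg, map_mul, map_ofNat, hh'] at e22 ⊢ <;>
    first
      | ring1
      | linear_combination (-(f z v)) * e22

omit [DecidableEq F] in
/-- The element acts on the totally singular plane spanned by `a`, `b` through four parameters. -/
def IsPlane (f : (ι → F) → (ι → F) → F) (g : GL ι F) (a b : ι → F) (α β γ δ : F) : Prop :=
  ∀ y, (g : Matrix ι ι F) *ᵥ y = y + (α * f y a + β * f y b) • a + (γ * f y a + δ * f y b) • b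

omit [DecidableEq F] in
lemma IsPlane.mul (hf : IsUnitaryForm σ f) {g h : GL ι F} {a b : ι → F} {α β γ δ α' β' γ' δ' : F}
    (haa : f a a = 0) (hbb : f b b = 0) (hab : f a b = 0) (hg : IsPlane f g a b α β γ δ)
    (hh : IsPlane f h a b α' β' γ' δ') :
    IsPlane f (g * h) a b (α + α') (β + β') (γ + γ') (δ + δ') := fun y => by
  rw [gl_mulVec_mul, hh, hg]
  simp only [hf.add_left, hf.smul_left, haa, hbb, hab, eq_zero_comm hf hab]
  module

omit [DecidableEq F] in
lemma IsPlane.inv (hf : IsUnitaryForm σ f) {g : GL ι F} {a b : ι → F} {α β γ δ : F}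
    (haa : f a a = 0) (hbb : f b b = 0) (hab : f a b = 0) (hg : IsPlane f g a b α β γ δ) :
    IsPlane f g⁻¹ a b (-α) (-β) (-γ) (-δ) := fun y => by
  refine gl_mulVec_injective g ?_
  change (g : Matrix ι ι F) *ᵥ (((g⁻¹ : GL ι F) : Matrix ι ι F) *ᵥ y) = (g : Matrix ι ι F) *ᵥ _
  rw [gl_mulVec_inv_mulVec, hg]
  simp only [hf.add_left, hf.smul_left, haa, hbb, hab, eq_zero_comm hf hab]
  module

omit [DecidableEq F] in
lemma IsPlane.conj (hf : IsUnitaryForm σ f) {g T : GL ι F} {a b : ι → F} {α β γ δ ε : F}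
    (hT : T ∈ isoOf f) (hTa : (T : Matrix ι ι F) *ᵥ a = a)
    (hTb : (T : Matrix ι ι F) *ᵥ b = b + ε • a) (hε : σ ε = ε) (hg : IsPlane f g a b α β γ δ) :
    IsPlane f (T * g * T⁻¹) a b (α + ε * (β + γ) + ε * ε * δ) (β + ε * δ) (γ + ε * δ) δ := fun y => by
  have e1 : f (((T⁻¹ : GL ι F) : Matrix ι ι F) *ᵥ y) a = f y a := by
    rw [form_mulVec_left ((isoOf f).inv_mem hT), inv_inv, hTa]
  have e2 : f (((T⁻¹ : GL ι F) : Matrix ι ι F) *ᵥ y) b = f y b + ε * f y a := by
    rw [form_mulVec_left ((isoOf f).inv_mem hT), inv_inv, hTb, add_right hf, smul_right hf, hε]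
  rw [gl_mulVec_mul, gl_mulVec_mul, hg, mulVec_add, mulVec_add, mulVec_smul, mulVec_smul,
    gl_mulVec_inv_mulVec, hTa, hTb, e1, e2]
  module

lemma IsPlane.eq_uTv (hf : IsUnitaryForm σ f) {g : GL ι F} {a b : ι → F} {α : F}
    (haa : f a a = 0) (hg : IsPlane f g a b α 0 0 0) : uTv hf a α = g := by
  refine gl_ext_mulVec fun y => ?_
  rw [hg, uTv_mulVec hf haa]
  module

/-- From a root element at an irrational point of a totally singular rational plane, a
transvection at a rational point of the plane. -/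
lemma plane_seed (hf : IsUnitaryForm σ f) (h2 : (2 : F) ≠ 0) {M : Subgroup (GL ι F)}
    {a b x z : ι → F} {τ : F} (hτ0 : τ ≠ 0) (hτ : σ τ = -τ) (haa : f a a = 0) (hbb : f b b = 0)
    (hab : f a b = 0) (hxx : f x x = 0) (hvx : f (a + τ • b) x = 0)
    (hm : ush hf (a + τ • b) x 1 ∈ M) (hN : ush hf a b 1 ∈ M)
    (hHab : ∀ β, σ β = β → ush hf b a β ∈ M) (hzz : f z z = 0) (haz : f a z = 0)
    (hbz : f b z = -1) (hT : ush hf a z 1 ∈ M) (hne : f x a + τ * f x b ≠ 0) :
    ∃ c, c ≠ 0 ∧ σ c = -c ∧ uTv hf a c ∈ M := by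
  have hba : f b a = 0 := eq_zero_comm hf hab
  set v := a + τ • b with hv
  have hvv : f v v = 0 := by
    simp only [hv, hf.add_left, hf.smul_left, add_right hf, smul_right hf, haa, hbb, hab, hba]
    ring
  set ρa := f x a with hρa
  set ρb := f x b with hρb
  set C := σ ρa * ρb - σ ρb * ρa with hC
  set N := ush hf a b 1
  have hNi : N ∈ isoOf f := ush_mem_isoOf hf haa hbb hab 1
  have hNv : (N : Matrix ι ι F) *ᵥ v = v := by
    rw [ush_mulVec hf haa hab]
    simp only [hv, hf.add_left, hf.smul_left, haa, hbb, hab, hba, mul_zero, add_zero, zero_smul,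
      sub_zero]
  set z' := ρa • b - ρb • a with hz'
  have hNx : (N : Matrix ι ι F) *ᵥ x = x + z' := by
    rw [ush_mulVec hf haa hab, map_one, one_mul, one_mul, hz']
    abel
  set D := N * ush hf v x 1 * N⁻¹ * (ush hf v x 1)⁻¹ with hD
  have hDM : D ∈ M := M.mul_mem (M.mul_mem (M.mul_mem hN hm) (M.inv_mem hN)) (M.inv_mem hm)
  have hvz' : f v z' = 0 := by
    simp only [hv, hz', sub_eq_add_neg, ← neg_smul, hf.add_left, hf.smul_left, add_right hf,
      smul_right hf, haa, hbb, hab, hba]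
    ring
  have hxv : f x v = 0 := eq_zero_comm hf hvx
  have hD' : IsPlane f D a b (σ ρb - ρb + C) (τ * ρb - σ ρa - C * τ) (ρa + τ * σ ρb + C * τ)
      (-(τ * ρa) - τ * σ ρa - C * (τ * τ)) := fun y => by
    have hvy : f v (x + z') = 0 := by rw [add_right hf, hvx, hvz', add_zero]
    rw [hD, ush_conj hf hNi hvv hvx, hNv, hNx]
    rw [(isSgAt_ush hf hvv hvy).mul hf hvv (eq_zero_comm hf hvy)
      (by rw [← neg_one_smul F, hf.smul_left, hxv, mul_zero]) (isSgAt_ush_inv hf hvv hxx hvx) y]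
    simp only [hv, hz', sub_eq_add_neg,
      show ∀ u : ι → F, -u = (-1 : F) • u from fun u => (neg_one_smul F u).symm, smul_smul,
      hf.smul_left, add_right hf, smul_right hf, map_neg, map_one, map_mul, hxx, hτ,
      ← hρa, ← hρb, hC]
    module
  set α := σ ρb - ρb + C with hα
  set β := τ * ρb - σ ρa - C * τ with hβ
  set γ := ρa + τ * σ ρb + C * τ with hγ
  set δ := -(τ * ρa) - τ * σ ρa - C * (τ * τ) with hδ
  have hσC : σ C = -C := by
    rw [hC, map_sub, map_mul, map_mul, hf.involutive, hf.involutive]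
    ring
  set T := ush hf a z 1
  have hTi : T ∈ isoOf f := ush_mem_isoOf hf haa hzz haz 1
  have hTa : (T : Matrix ι ι F) *ᵥ a = a := by rw [ush_mulVec hf haa haz, haa, haz]; simp
  have hTb : (T : Matrix ι ι F) *ᵥ b = b + (1 : F) • a := by
    rw [ush_mulVec hf haa haz, hba, hbz, map_one]
    module
  have hTa' : ((T⁻¹ : GL ι F) : Matrix ι ι F) *ᵥ a = a := by
    conv_lhs => rw [← hTa]
    exact gl_inv_mulVec_mulVec T a
  have hTb' : ((T⁻¹ : GL ι F) : Matrix ι ι F) *ᵥ b = b + (-1 : F) • a := by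
    have h := gl_inv_mulVec_mulVec T b
    rw [hTb, one_smul, mulVec_add, hTa'] at h
    rw [neg_one_smul, ← sub_eq_add_neg, eq_sub_iff_add_eq]
    exact h
  have hD1 := hD'.conj hf hTi hTa hTb (map_one σ)
  have hD2 := hD'.conj hf ((isoOf f).inv_mem hTi) hTa' hTb' (by rw [map_neg, map_one])
  have hDi := hD'.inv hf haa hbb hab
  have hM1 : T * D * T⁻¹ ∈ M := M.mul_mem (M.mul_mem hT hDM) (M.inv_mem hT)
  have hM2 : T⁻¹ * D * T⁻¹⁻¹ ∈ M := M.mul_mem (M.mul_mem (M.inv_mem hT) hDM) (M.inv_mem (M.inv_mem hT))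
  by_cases hd : δ = 0
  swap
  · have hE := ((hD1.mul hf haa hbb hab hD2).mul hf haa hbb hab hDi).mul hf haa hbb hab hDi
    refine ⟨2 * δ, mul_ne_zero h2 hd, ?_, ?_⟩
    · simp only [hδ, map_mul, map_sub, map_neg, map_ofNat, hτ, hσC, hf.involutive]
      ring
    · rw [IsPlane.eq_uTv hf (b := b) haa (g := T * D * T⁻¹ * (T⁻¹ * D * T⁻¹⁻¹) * D⁻¹ * D⁻¹)
        fun y => by rw [hE y]; module]
      exact M.mul_mem (M.mul_mem (M.mul_mem hM1 hM2) (M.inv_mem hDM)) (M.inv_mem hDM)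
  by_cases hbg : β + γ = 0
  swap
  · have hE := hD1.mul hf haa hbb hab hDi
    refine ⟨β + γ, hbg, ?_, ?_⟩
    · simp only [hβ, hγ, map_mul, map_sub, map_add, hτ, hσC, hf.involutive]
      ring
    · rw [IsPlane.eq_uTv hf (b := b) haa (g := T * D * T⁻¹ * D⁻¹)
        fun y => by rw [hE y, hd]; module]
      exact M.mul_mem hM1 (M.inv_mem hDM)
  have hd' : ρa + σ ρa + C * τ = 0 := by
    refine (mul_eq_zero.1 (show τ * (ρa + σ ρa + C * τ) = 0 from ?_)).resolve_left hτ0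
    rw [hδ] at hd
    linear_combination -hd
  have hne' : α ≠ 0 := fun ha => hne ((mul_eq_zero.1 (show (2 : F) * (ρa + τ * ρb) = 0 by
    rw [hα] at ha
    rw [hβ, hγ] at hbg
    linear_combination hd' + hbg - τ * ha)).resolve_left h2)
  have hβr : σ β = β := by
    rw [hβ, map_sub, map_sub, map_mul, map_mul, hτ, hσC, hf.involutive]
    rw [hβ, hγ] at hbg
    linear_combination -hbg
  have hU : IsPlane f (ush hf b a β) a b 0 β (-β) 0 := fun y => by
    rw [ush_mulVec hf hbb hba, hβr]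
    module
  have hE := hD'.mul hf haa hbb hab (hU.inv hf haa hbb hab)
  refine ⟨α, hne', ?_, ?_⟩
  · simp only [hα, map_sub, map_add, hσC, hf.involutive]
    ring
  · rw [IsPlane.eq_uTv hf (b := b) haa (g := D * (ush hf b a β)⁻¹) fun y => by
      rw [hE y, hd, show γ = -β from eq_neg_of_add_eq_zero_right hbg]
      module]
    exact M.mul_mem hDM (M.inv_mem (hHab β hβr))

end CfsgLib.ClassicalMax.Unit.OrthSix
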