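/-
An orthogonal subfield group is maximal in the special unitary group of dimension at least six,
odd characteristic.
-/
import Cfsg.Agent.Lib.ClassicalMax.UnitOrthSubfield
import Cfsg.Agent.Lib.ClassicalMax.UnitGenFive
import Cfsg.Agent.Lib.ClassicalMax.UnitOrthSixBase
import Cfsg.Agent.Lib.ClassicalMax.QuadSimSmall
set_option autoImplicit false

namespace CfsgLib.ClassicalMax.Unit

open Matrix Cfsg.Geo QuadraticMap
open CfsgLib.Classical.Quad (NDPolar)
open CfsgLib.ClassicalMax.QuadSmall (exists_perp_three)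
open CfsgLib.ClassicalMax.QuadSim (exists_singular_avoid exists_dual_vec perp_le_of_singular
  finrank_span_two_le finrank_span_three_le)

variable {ι : Type} [Fintype ι] [DecidableEq ι] {F : Type*} [Field F] [Fintype F]
  {σ : F ≃+* F} {f : (ι → F) → (ι → F) → F}

set_option maxHeartbeats 1600000 in
theorem orth_subfield_maximal_six (hf : IsUnitaryForm σ f) (h2 : (2 : F) ≠ 0)
    (hn : 6 ≤ Fintype.card ι) (F₀ : Subfield F)
    (hcard : Fintype.card F = Nat.card F₀ ^ 2) (hF₀ : ∀ a ∈ F₀, σ a = a) (P : GL ι F)
    (hP : IsFormRationalStructure f F₀ 1 P) :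
    IsMaximalIn (isoOf f ⊓ specialLinear ι F)
      (subfieldSubgroup F₀ P ⊓ (isoOf f ⊓ specialLinear ι F)) := by
  classical
  haveI : Fintype F₀ := Fintype.ofFinite F₀
  have hfixed : ∀ a, σ a = a → a ∈ F₀ := by
    have hc := (exists_card_eq hf.ne_refl hf.involutive).1
    rw [hcard] at hc
    have hK : F₀ ≤ fixedField σ := fun a ha => hF₀ a ha
    have heq : (F₀ : Set F) = fixedField σ := Set.eq_of_subset_of_ncard_le hK (by
      rw [← Nat.card_coe_set_eq, ← Nat.card_coe_set_eq]
      exact le_of_eq (Nat.pow_left_injective two_ne_zero hc).symm) (Set.toFinite _)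
    intro a ha
    have : a ∈ (fixedField σ : Set F) := ha
    rwa [← heq] at this
  have h20 : (2 : F₀) ≠ 0 := fun h => h2 (congrArg Subtype.val h)
  have hF : ∀ c : F₀, σ (c : F) = c := fun c => hF₀ _ c.2
  obtain ⟨τ, hτ0, hτ⟩ := exists_trace_zero hf.ne_refl hf.involutive
  have hττ : τ * τ ∈ F₀ := hfixed _ (by rw [map_mul, hτ, neg_mul_neg])
  -- scalars over the subfield
  have hscal : ∀ l : F, ∃ x y : F₀, l = (x : F) + τ * y := by
    intro l
    refine ⟨⟨(l + σ l) / 2, hfixed _ ?_⟩, ⟨(l - σ l) / (2 * τ), hfixed _ ?_⟩, ?_⟩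
    · rw [map_div₀, map_add, hf.involutive, map_ofNat, add_comm]
    · rw [map_div₀, map_sub, map_mul, hf.involutive, map_ofNat, hτ, mul_neg, div_neg, ← neg_div,
        neg_sub]
    · field_simp
      ring
  have hscal0 : ∀ x y : F, σ x = x → σ y = y → x + τ * y = 0 → x = 0 ∧ y = 0 := by
    intro x y hx hy h
    have h' := congrArg σ h
    rw [map_add, map_mul, hx, hy, hτ, map_zero] at h'
    have hx0 : x = 0 := (mul_eq_zero.1 (show (2 : F) * x = 0 by linear_combination h + h')).resolve_left h2
    rw [hx0, zero_add] at h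
    exact ⟨hx0, (mul_eq_zero.1 h).resolve_left hτ0⟩
  -- the rational vectors
  let e : (ι → F₀) → (ι → F) := ratVec P
  have eadd : ∀ x y, e (x + y) = e x + e y := ratVec_add P
  have esmul : ∀ (c : F₀) x, e (c • x) = (c : F) • e x := ratVec_smul P
  have e0 : e 0 = 0 := by simpa using eadd 0 0
  have eneg : ∀ x, e (-x) = -e x := fun x => eq_neg_of_add_eq_zero_left (by rw [← eadd, neg_add_cancel, e0])
  have esub : ∀ x y, e (x - y) = e x - e y := fun x y => by rw [sub_eq_add_neg, eadd, eneg, sub_eq_add_neg]
  have einj : Function.Injective e := ratVec_injective P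
  have hcoord : ∀ v : ι → F, ∃ a b : ι → F₀, v = e a + τ • e b := by
    intro v
    choose a b hab using fun i => hscal ((((P⁻¹ : GL ι F) : Matrix ι ι F) *ᵥ v) i)
    refine ⟨a, b, ?_⟩
    simp only [e, ratVec]
    rw [← mulVec_smul, ← mulVec_add]
    conv_lhs => rw [← gl_mulVec_inv_mulVec P v]
    exact congrArg _ (funext fun i => by rw [hab i]; rfl)
  have huniq : ∀ a b : ι → F₀, e a + τ • e b = 0 → a = 0 ∧ b = 0 := by
    intro a b h
    have h' := congrArg (fun z => ((P⁻¹ : GL ι F) : Matrix ι ι F) *ᵥ z) h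
    simp only [e, ratVec, mulVec_add, mulVec_smul, gl_inv_mulVec_mulVec, mulVec_zero] at h'
    exact ⟨funext fun i => Subtype.ext (hscal0 _ _ (hF _) (hF _) (congrFun h' i)).1,
      funext fun i => Subtype.ext (hscal0 _ _ (hF _) (hF _) (congrFun h' i)).2⟩
  have hindep : ∀ a b : ι → F₀, LinearIndependent F₀ ![a, b] → ∀ (l : F) (r : ι → F₀),
      e a + τ • e b ≠ l • e r := by
    intro a b hab l r h
    obtain ⟨x, y, rfl⟩ := hscal l
    obtain ⟨ha, hb⟩ := huniq (a - x • r) (b - y • r) (by
      rw [esub, esub, esmul, esmul, smul_sub, smul_smul]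
      linear_combination (norm := module) h)
    rw [sub_eq_zero] at ha hb
    subst ha hb
    rw [LinearIndependent.pair_iff] at hab
    by_cases hy : y = 0
    · exact one_ne_zero (hab 0 1 (by rw [hy]; simp)).2
    · exact hy (hab y (-x) (by rw [smul_smul, smul_smul]; module)).1
  have hline : ∀ a b : ι → F₀, ¬ LinearIndependent F₀ ![a, b] →
      ∃ (l : F) (r : ι → F₀), e a + τ • e b = l • e r := by
    intro a b h
    by_cases ha : a = 0
    · exact ⟨τ, b, by rw [ha, e0, zero_add]⟩
    · rw [LinearIndependent.pair_iff' ha] at h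
      push Not at h
      obtain ⟨c, rfl⟩ := h
      exact ⟨1 + τ * (c : F), a, by rw [esmul, smul_smul, add_smul, one_smul]⟩
  -- the rational form
  have hmem : ∀ x y, f (e x) (e y) ∈ F₀ := fun x y => by
    have := hP _ _ (fun i => (x i).2) (fun i => (y i).2)
    rwa [one_mul] at this
  have hfix : ∀ x y, σ (f (e x) (e y)) = f (e x) (e y) := fun x y => hF₀ _ (hmem x y)
  have hsym : ∀ x y, f (e y) (e x) = f (e x) (e y) := fun x y => by rw [hf.herm, hfix]
  let B : (ι → F₀) →ₗ[F₀] (ι → F₀) →ₗ[F₀] F₀ := LinearMap.mk₂ F₀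
    (fun x y => ⟨f (e x) (e y), hmem x y⟩)
    (fun x x' y => Subtype.ext (by simp [eadd, hf.add_left]))
    (fun c x y => Subtype.ext (by simp [esmul, hf.smul_left]))
    (fun x y y' => Subtype.ext (by simp [eadd, add_right hf]))
    (fun c x y => Subtype.ext (by simp [esmul, smul_right hf, hF]))
  let Q : QuadraticForm F₀ (ι → F₀) := LinearMap.BilinMap.toQuadraticMap B
  have hQ : ∀ x, (Q x : F) = f (e x) (e x) := fun x => rfl
  have hpol : ∀ x y, ((polar Q x y : F₀) : F) = 2 * f (e x) (e y) := fun x y => by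
    simp only [polar, Subfield.coe_sub, hQ, eadd, hf.add_left, add_right hf, hsym x y]
    ring
  have hperp : ∀ x y, polar Q x y = 0 ↔ f (e x) (e y) = 0 := fun x y => by
    rw [Subtype.ext_iff, hpol]
    exact ⟨fun h => (mul_eq_zero.1 h).resolve_left h2, fun h => by rw [h, mul_zero]; rfl⟩
  have hsing : ∀ x, Q x = 0 ↔ f (e x) (e x) = 0 := fun x => by
    rw [Subtype.ext_iff, hQ]; rfl
  have hpar : ∀ x A C, f (e x) (e A + τ • e C) = f (e x) (e A) + τ * (-f (e x) (e C)) := by
    intro x A C
    rw [add_right hf, smul_right hf, hτ]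
    ring
  have hpar0 : ∀ x A C, f (e x) (e A + τ • e C) = 0 → polar Q x A = 0 ∧ polar Q x C = 0 := by
    intro x A C h
    rw [hpar] at h
    obtain ⟨h1, h3⟩ := hscal0 _ _ (hfix _ _) (by rw [map_neg, hfix]) h
    exact ⟨(hperp _ _).2 h1, (hperp _ _).2 (neg_eq_zero.1 h3)⟩
  have hnd : NDPolar Q := by
    intro x hx
    by_contra hx0
    obtain ⟨z, hz⟩ := (hf.nondegenerate (e x) fun h => hx0 (einj (h.trans e0.symm))).1
    obtain ⟨a, b, rfl⟩ := hcoord z
    apply hz
    rw [hf.add_left, hf.smul_left, (hperp _ _).1 (by rw [polar_comm]; exact hx a),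
      (hperp _ _).1 (by rw [polar_comm]; exact hx b), mul_zero, add_zero]
  -- auxiliary facts about the rational form
  have hL1 : ∀ u A : ι → F₀, (∀ x, polar Q x u = 0 → polar Q x A = 0) →
      A ∈ Submodule.span F₀ {u} := by
    intro u A h
    by_contra hA
    obtain ⟨y, hy1, hy2⟩ := exists_dual_vec hnd hA
    have := h y (by rw [polar_comm]; exact hy2 u (Submodule.mem_span_singleton_self u))
    rw [polar_comm, hy1] at this
    exact one_ne_zero this
  have hspan2 : ∀ a b x : ι → F₀, polar Q x a = 0 → polar Q x b = 0 →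
      ∀ d ∈ Submodule.span F₀ {a, b}, polar Q x d = 0 := by
    intro a b x ha hb d hd
    obtain ⟨s, t, rfl⟩ := Submodule.mem_span_pair.1 hd
    rw [polar_add_right, polar_smul_right, polar_smul_right, ha, hb, smul_zero, smul_zero, add_zero]
  have hpres : ∀ a b : ι → F₀, LinearIndependent F₀ ![a, b] → ∀ α β : F₀,
      ∃ p, Q p = 0 ∧ polar Q a p = α ∧ polar Q b p = β := by
    intro a b hab α β
    have hd := finrank_span_two_le a b
    by_cases hex : ∃ s, Q s = 0 ∧ s ∉ Submodule.span F₀ {a, b} ∧
        ∀ d ∈ Submodule.span F₀ {a, b}, polar Q s d = 0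
    swap
    · push Not at hex
      have hmem : ∀ s, Q s = 0 → (∀ d ∈ Submodule.span F₀ {a, b}, polar Q s d = 0) →
          s ∈ Submodule.span F₀ {a, b} := fun s hs hsD => by
        by_contra hn'
        obtain ⟨d, hd, hd'⟩ := hex s hs hn'
        exact hd' (hsD d hd)
      obtain ⟨s, hs0, hsn, hsD⟩ := exists_perp_three (Q := Q) h20 (Submodule.span F₀ {a, b}) (by omega)
      obtain ⟨v, hv0, hvn, hvD⟩ := exists_singular_avoid (Q := Q) h20 (Submodule.span F₀ {a, b})
        (Submodule.span F₀ {s}) (by rw [finrank_span_singleton hsn]; omega)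
      have hsv : Submodule.span F₀ (Set.range ![s, v]) = Submodule.span F₀ {a, b} := by
        have hli : LinearIndependent F₀ ![s, v] := (LinearIndependent.pair_iff' hsn).2 fun c hc =>
          hvn (Submodule.mem_span_singleton.2 ⟨c, hc⟩)
        refine Submodule.eq_of_le_of_finrank_le (Submodule.span_le.2 ?_) ?_
        · rintro _ ⟨i, rfl⟩
          fin_cases i
          exacts [hmem s hs0 hsD, hmem v hv0 hvD]
        · rw [finrank_span_eq_card hli, Fintype.card_fin]
          exact hd
      have hts : ∀ x ∈ Submodule.span F₀ {a, b}, ∀ d ∈ Submodule.span F₀ {a, b}, polar Q x d = 0 := by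
        intro x hx d hd
        rw [← hsv] at hx
        refine Submodule.span_induction ?_ ?_ ?_ ?_ hx
        · rintro _ ⟨i, rfl⟩
          fin_cases i
          exacts [hsD d hd, hvD d hd]
        · exact polar_zero_left Q d
        · intro y z _ _ hy hz
          rw [polar_add_left, hy, hz, add_zero]
        · intro c y _ hy
          rw [polar_smul_left, hy, smul_zero]
      have haS : a ∈ Submodule.span F₀ {a, b} := Submodule.subset_span (by simp)
      have hbS : b ∈ Submodule.span F₀ {a, b} := Submodule.subset_span (by simp)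
      have hQ0 : ∀ x ∈ Submodule.span F₀ {a, b}, Q x = 0 := fun x hx => by
        have h := hts x hx x hx
        rw [Classical.Quad.polar_self'] at h
        exact (mul_eq_zero.1 h).resolve_left h20
      have ha : a ∉ Submodule.span F₀ {b} := fun h => by
        obtain ⟨c, hc⟩ := Submodule.mem_span_singleton.1 h
        exact one_ne_zero (LinearIndependent.pair_iff.1 hab 1 (-c) (by rw [← hc]; module)).1
      have hb : b ∉ Submodule.span F₀ {a} := fun h => by
        obtain ⟨c, hc⟩ := Submodule.mem_span_singleton.1 h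
        exact one_ne_zero (LinearIndependent.pair_iff.1 hab (-c) 1 (by rw [← hc]; module)).2
      obtain ⟨ya, hya, hya'⟩ := exists_dual_vec hnd ha
      obtain ⟨yb, hyb, hyb'⟩ := exists_dual_vec hnd hb
      set y := α • ya + β • yb with hy
      have e1 : polar Q a y = α := by
        rw [hy, polar_add_right, polar_smul_right, polar_smul_right, hya,
          hyb' a (Submodule.mem_span_singleton_self a)]
        simp
      have e2 : polar Q b y = β := by
        rw [hy, polar_add_right, polar_smul_right, polar_smul_right, hyb,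
          hya' b (Submodule.mem_span_singleton_self b)]
        simp
      clear_value y
      by_cases hα : α = 0
      · by_cases hβ : β = 0
        · exact ⟨0, QuadraticMap.map_zero Q, by rw [polar_zero_right, hα], by rw [polar_zero_right, hβ]⟩
        refine ⟨y + (-(Q y) / β) • b, ?_, ?_, ?_⟩
        · rw [Classical.Quad.Q_comb1, hQ0 b hbS, polar_comm, e2]; field_simp; ring
        · rw [polar_add_right, polar_smul_right, hts a haS b hbS, e1, smul_zero, add_zero]
        · rw [polar_add_right, polar_smul_right, hts b hbS b hbS, e2, smul_zero, add_zero]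
      · refine ⟨y + (-(Q y) / α) • a, ?_, ?_, ?_⟩
        · rw [Classical.Quad.Q_comb1, hQ0 a haS, polar_comm, e1]; field_simp; ring
        · rw [polar_add_right, polar_smul_right, hts a haS a haS, e1, smul_zero, add_zero]
        · rw [polar_add_right, polar_smul_right, hts b hbS a haS, e2, smul_zero, add_zero]
    obtain ⟨s, hs0, hsE, hsD⟩ := hex
    have ha : a ∉ Submodule.span F₀ {b, s} := by
      intro h
      obtain ⟨x, y, hxy⟩ := Submodule.mem_span_pair.1 h
      by_cases hy : y = 0
      · rw [hy, zero_smul, add_zero] at hxy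
        exact one_ne_zero (LinearIndependent.pair_iff.1 hab 1 (-x) (by rw [← hxy]; module)).1
      · refine hsE (Submodule.mem_span_pair.2 ⟨y⁻¹, -(y⁻¹ * x), ?_⟩)
        rw [← hxy]
        linear_combination (norm := module) (inv_mul_cancel₀ hy) • s
    have hb : b ∉ Submodule.span F₀ {a, s} := by
      intro h
      obtain ⟨x, y, hxy⟩ := Submodule.mem_span_pair.1 h
      by_cases hy : y = 0
      · rw [hy, zero_smul, add_zero] at hxy
        exact one_ne_zero (LinearIndependent.pair_iff.1 hab (-x) 1 (by rw [← hxy]; module)).2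
      · refine hsE (Submodule.mem_span_pair.2 ⟨-(y⁻¹ * x), y⁻¹, ?_⟩)
        rw [← hxy]
        linear_combination (norm := module) (inv_mul_cancel₀ hy) • s
    obtain ⟨ya, hya, hya'⟩ := exists_dual_vec hnd ha
    obtain ⟨yb, hyb, hyb'⟩ := exists_dual_vec hnd hb
    obtain ⟨ys, hys, hys'⟩ := exists_dual_vec hnd hsE
    have hsa : polar Q a s = 0 := by rw [polar_comm]; exact hsD a (Submodule.subset_span (by simp))
    have hsb : polar Q b s = 0 := by rw [polar_comm]; exact hsD b (Submodule.subset_span (by simp))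
    set y := α • ya + β • yb + ys with hy
    have e1 : polar Q a y = α := by
      rw [hy, polar_add_right, polar_add_right, polar_smul_right, polar_smul_right, hya,
        hyb' a (Submodule.subset_span (by simp)), hys' a (Submodule.subset_span (by simp))]
      simp
    have e2 : polar Q b y = β := by
      rw [hy, polar_add_right, polar_add_right, polar_smul_right, polar_smul_right, hyb,
        hya' b (Submodule.subset_span (by simp)), hys' b (Submodule.subset_span (by simp))]
      simp
    have e3 : polar Q y s = 1 := by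
      rw [polar_comm, hy, polar_add_right, polar_add_right, polar_smul_right, polar_smul_right, hys,
        hya' s (Submodule.subset_span (by simp)), hyb' s (Submodule.subset_span (by simp))]
      simp
    clear_value y
    refine ⟨y + (-Q y) • s, ?_, ?_, ?_⟩
    · rw [Classical.Quad.Q_comb1, hs0, e3]; ring
    · rw [polar_add_right, polar_smul_right, hsa, e1, smul_zero, add_zero]
    · rw [polar_add_right, polar_smul_right, hsb, e2, smul_zero, add_zero]
  -- root elements of the subfield group
  set H := subfieldSubgroup F₀ P ⊓ (isoOf f ⊓ specialLinear ι F) with hH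
  have hush : ∀ p q, Q p = 0 → Q q = 0 → polar Q p q = 0 → ush hf (e p) (e q) 1 ∈ H := by
    intro p q hp hq hpq
    rw [hsing] at hp hq
    rw [hperp] at hpq
    refine ⟨mem_subfieldSubgroup_of_forall P fun x => ⟨1, x + B x p • q - B x q • p, ?_⟩,
      ush_mem_isoOf hf hp hq hpq 1, ush_mem_sl hf _ _ _⟩
    change _ = (1 : F) • e _
    rw [ush_mulVec hf hp hpq, one_smul, esub, eadd, esmul, esmul, one_mul, map_one, one_mul]
    rfl
  have hmove1 : ∀ r r', Q r = 0 → Q r' = 0 → polar Q r r' = 0 → LinearIndependent F₀ ![r, r'] →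
      ∃ h ∈ H, (h : Matrix ι ι F) *ᵥ e r = e r' := by
    intro r r' hr hr' hrr hli
    have hw : Q (r' - r) = 0 := by
      rw [show r' - r = r' + (-1 : F₀) • r by module, Classical.Quad.Q_comb1, hr, hr', polar_comm, hrr]
      ring
    have hnot : r ∉ Submodule.span F₀ {r' - r} := by
      intro h
      obtain ⟨c, hc⟩ := Submodule.mem_span_singleton.1 h
      have := LinearIndependent.pair_iff.1 hli (c + 1) (-c) (by linear_combination (norm := module) -hc)
      exact one_ne_zero (α := F₀) (by linear_combination this.1 + this.2)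
    obtain ⟨y, hy1, hy2⟩ := exists_dual_vec hnd hnot
    have hwr : polar Q (r' - r) r = 0 := by
      rw [polar_sub_left, polar_comm Q r' r, hrr, Classical.Quad.polar_singular_self hr, sub_zero]
    set s := (2 : F₀) • y + (-(Q ((2 : F₀) • y) / 2)) • r with hs
    have hs0 : Q s = 0 := by
      rw [hs, Classical.Quad.Q_comb1, hr, polar_smul_left, polar_comm Q y r, hy1, smul_eq_mul]
      field_simp
      ring
    have hrs : polar Q r s = 2 := by
      rw [hs, polar_add_right, polar_smul_right, polar_smul_right, hy1,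
        Classical.Quad.polar_singular_self hr]
      simp
    have hsw : polar Q s (r' - r) = 0 := by
      rw [polar_comm, hs, polar_add_right, polar_smul_right, polar_smul_right,
        hy2 _ (Submodule.mem_span_singleton_self _), hwr]
      simp
    clear_value s
    have hfrs : f (e r) (e s) = 1 := by
      have := hpol r s
      rw [hrs] at this
      exact mul_left_cancel₀ h2 (this.symm.trans (mul_one (2 : F)).symm)
    refine ⟨_, hush s (r' - r) hs0 hw hsw, ?_⟩
    rw [ush_mulVec hf ((hsing _).1 hs0) ((hperp _ _).1 hsw), hfrs,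
      (hperp _ _).1 (show polar Q r (r' - r) = 0 by rw [polar_comm]; exact hwr), mul_zero, zero_smul,
      sub_zero, mul_one, one_smul, esub, add_sub_cancel]
  have hmove : ∀ r r', r ≠ 0 → r' ≠ 0 → Q r = 0 → Q r' = 0 →
      ∃ h ∈ H, (h : Matrix ι ι F) *ᵥ e r = e r' := by
    intro r r' hr0 hr'0 hr hr'
    suffices ∃ m, Q m = 0 ∧ polar Q r m = 0 ∧ polar Q m r' = 0 ∧ LinearIndependent F₀ ![r, m] ∧
        LinearIndependent F₀ ![m, r'] by
      obtain ⟨m, hm, hm1, hm2, li1, li2⟩ := this
      obtain ⟨h₁, hh₁, e₁⟩ := hmove1 r m hr hm hm1 li1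
      obtain ⟨h₂, hh₂, e₂⟩ := hmove1 m r' hm hr' hm2 li2
      exact ⟨h₂ * h₁, H.mul_mem hh₂ hh₁, by rw [gl_mulVec_mul, e₁, e₂]⟩
    suffices ∃ m, Q m = 0 ∧ polar Q r m = 0 ∧ polar Q m r' = 0 ∧ m ∉ Submodule.span F₀ {r} ∧
        m ∉ Submodule.span F₀ {r'} by
      obtain ⟨m, hm, hm1, hm2, n1, n2⟩ := this
      exact ⟨m, hm, hm1, hm2,
        (LinearIndependent.pair_iff' hr0).2 fun c hc => n1 (Submodule.mem_span_singleton.2 ⟨c, hc⟩),
        LinearIndependent.pair_symm_iff.1 ((LinearIndependent.pair_iff' hr'0).2 fun c hc =>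
          n2 (Submodule.mem_span_singleton.2 ⟨c, hc⟩))⟩
    have hd := finrank_span_two_le r r'
    by_cases hrr : polar Q r r' = 0
    · obtain ⟨m, hm, hmE, hmD⟩ : ∃ m, Q m = 0 ∧ (m ∉ Submodule.span F₀ {r} ∧
          m ∉ Submodule.span F₀ {r'}) ∧ ∀ d ∈ Submodule.span F₀ {r, r'}, polar Q m d = 0 := by
        by_cases hli : LinearIndependent F₀ ![r, r']
        · refine ⟨r + r', by rw [QuadraticMap.map_add Q, hr, hr', hrr]; ring, ⟨fun h => ?_, fun h => ?_⟩,
            fun d hd => ?_⟩
          · obtain ⟨c, hc⟩ := Submodule.mem_span_singleton.1 h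
            exact one_ne_zero (LinearIndependent.pair_iff.1 hli (1 - c) 1
              (by linear_combination (norm := module) -hc)).2
          · obtain ⟨c, hc⟩ := Submodule.mem_span_singleton.1 h
            exact one_ne_zero (LinearIndependent.pair_iff.1 hli 1 (1 - c)
              (by linear_combination (norm := module) -hc)).1
          · obtain ⟨s, t, rfl⟩ := Submodule.mem_span_pair.1 hd
            simp only [polar_add_right, polar_add_left, polar_smul_right, hrr, polar_comm Q r' r,
              Classical.Quad.polar_singular_self hr, Classical.Quad.polar_singular_self hr',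
              smul_zero, add_zero]
        · rw [LinearIndependent.pair_iff' hr0] at hli
          push Not at hli
          obtain ⟨c, rfl⟩ := hli
          have hc0 : c ≠ 0 := fun h => hr'0 (by rw [h, zero_smul])
          obtain ⟨m, hm, hmE, hmD⟩ := exists_singular_avoid (Q := Q) h20 (Submodule.span F₀ {r})
            (Submodule.span F₀ {r}) (by rw [finrank_span_singleton hr0]; omega)
          refine ⟨m, hm, ⟨hmE, fun h => ?_⟩, fun d hd => ?_⟩
          · obtain ⟨k, hk⟩ := Submodule.mem_span_singleton.1 h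
            exact hmE (Submodule.mem_span_singleton.2 ⟨k * c, by rw [← smul_smul, hk]⟩)
          · obtain ⟨s, t, rfl⟩ := Submodule.mem_span_pair.1 hd
            have := hmD r (Submodule.mem_span_singleton_self r)
            simp only [polar_add_right, polar_smul_right, this, smul_zero, add_zero]
      exact ⟨m, hm, by rw [polar_comm]; exact hmD r (Submodule.subset_span (by simp)),
        hmD r' (Submodule.subset_span (by simp)), hmE⟩
    · obtain ⟨m, hm, hm0, hmD⟩ := exists_perp_three (Q := Q) h20 (Submodule.span F₀ {r, r'}) (by omega)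
      have m1 := hmD r (Submodule.subset_span (by simp))
      have m2 := hmD r' (Submodule.subset_span (by simp))
      refine ⟨m, hm, by rw [polar_comm]; exact m1, m2, fun h => ?_, fun h => ?_⟩
      · obtain ⟨c, rfl⟩ := Submodule.mem_span_singleton.1 h
        rw [polar_smul_left, smul_eq_mul] at m2
        exact hm0 (by rw [(mul_eq_zero.1 m2).resolve_right hrr, zero_smul])
      · obtain ⟨c, rfl⟩ := Submodule.mem_span_singleton.1 h
        rw [polar_smul_left, smul_eq_mul, polar_comm] at m1
        exact hm0 (by rw [(mul_eq_zero.1 m1).resolve_right hrr, zero_smul])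
  refine CfsgLib.ClassicalMax.isMaximalIn_of inf_le_right ?_ ?_
  · obtain ⟨r, hr, hr0, -⟩ := exists_singular_avoid (Q := Q) h20 ⊥ ⊥ (by simp; omega)
    rw [Submodule.mem_bot] at hr0
    obtain ⟨x, hx⟩ := Classical.Quad.exists_polar_one hnd hr0
    have hr' := (hsing _).1 hr
    refine ⟨uTv hf (e r) τ, ⟨uTv_mem_isoOf hf hr' hτ, uTv_mem_sl hf _ _⟩, fun h => ?_⟩
    obtain ⟨l, s, hls⟩ := exists_of_mem_subfieldSubgroup P h.1 x
    rw [uTv_mulVec hf hr', ← smul_smul] at hls
    refine hindep x (B x r • r) ?_ l s (by rw [esmul]; exact hls)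
    refine LinearIndependent.pair_iff.2 fun s t hst => ?_
    have h1 := congrArg (fun z => polar Q r z) hst
    simp only [polar_add_right, polar_smul_right, hx, Classical.Quad.polar_singular_self hr] at h1
    have hs : s = 0 := by simpa [polar_zero_right] using h1
    refine ⟨hs, ?_⟩
    rw [hs, zero_smul, zero_add, smul_smul, smul_eq_zero] at hst
    refine (mul_eq_zero.1 (hst.resolve_right hr0)).resolve_right fun hB => ?_
    have : polar Q x r = 0 := (hperp _ _).2 (congrArg Subtype.val hB)
    rw [polar_comm, hx] at this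
    exact one_ne_zero this
  intro M hHM hMK g hgM hgH
  have hgi : g ∈ isoOf f := (hMK hgM).1
  have hginv : g⁻¹ ∈ isoOf f := (isoOf f).inv_mem hgi
  -- a singular rational point with irrational image
  obtain ⟨u₁, hu₁, hu₁0, a, b, hab, hgab⟩ : ∃ u₁, Q u₁ = 0 ∧ u₁ ≠ 0 ∧ ∃ a b,
      LinearIndependent F₀ ![a, b] ∧ (g : Matrix ι ι F) *ᵥ e u₁ = e a + τ • e b := by
    by_contra hcon
    push Not at hcon
    have himg : ∀ x, Q x = 0 → x ≠ 0 → ∃ (l : F) (r : ι → F₀), l ≠ 0 ∧
        (g : Matrix ι ι F) *ᵥ e x = l • e r := by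
      intro x hx hx0
      obtain ⟨a, b, hab⟩ := hcoord ((g : Matrix ι ι F) *ᵥ e x)
      obtain ⟨l, r, hlr⟩ := hline a b fun h => hcon x hx hx0 a b h hab
      refine ⟨l, r, fun hl => ?_, hab.trans hlr⟩
      rw [hl, zero_smul] at hlr
      exact gl_mulVec_ne_zero g (fun h => hx0 (einj (h.trans e0.symm))) (hab.trans hlr)
    have hpair : ∀ x y, Q x = 0 → Q y = 0 → polar Q x y = 0 → LinearIndependent F₀ ![x, y] →
        ∀ (lx ly : F) (rx ry : ι → F₀), lx ≠ 0 → (g : Matrix ι ι F) *ᵥ e x = lx • e rx →
        (g : Matrix ι ι F) *ᵥ e y = ly • e ry → ly / lx ∈ F₀ := by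
      intro x y hx hy hxy hli lx ly rx ry hlx hgx hgy
      obtain ⟨s, t, hst⟩ := hscal (ly / lx)
      have hly : ly = ((s : F) + τ * t) * lx := by rw [← hst, div_mul_cancel₀ _ hlx]
      by_cases ht : t = 0
      · rw [hst, ht]; simp
      exfalso
      have hxy0 : x + y ≠ 0 := fun h => one_ne_zero
        (LinearIndependent.pair_iff.1 hli 1 1 (by rwa [one_smul, one_smul])).1
      obtain ⟨l, r, -, hlr⟩ := himg (x + y) (by rw [QuadraticMap.map_add Q, hx, hy, hxy]; ring) hxy0
      rw [eadd, mulVec_add, hgx, hgy, hly] at hlr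
      have hli' : LinearIndependent F₀ ![rx + s • ry, t • ry] := by
        refine LinearIndependent.pair_iff.2 fun c d hcd => ?_
        have h1 : (g : Matrix ι ι F) *ᵥ
            ((((c : F) * ((s : F) + τ * t)) • e x) + ((c * s + d * t : F₀) : F) • e y) = 0 := by
          have h := congrArg e hcd
          simp only [eadd, esmul, smul_add, smul_smul, e0] at h
          rw [mulVec_add, mulVec_smul, mulVec_smul, hgx, hgy, hly]
          simp only [Subfield.coe_add, Subfield.coe_mul]
          linear_combination (norm := module) (((s : F) + τ * t) * lx) • h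
        have h2 : e ((c * s) • x + (c * s + d * t) • y) + τ • e ((c * t) • x) = 0 := by
          refine gl_mulVec_injective g (Eq.trans ?_ (h1.trans (mulVec_zero _).symm))
          simp only [eadd, esmul, Subfield.coe_add, Subfield.coe_mul]
          congr 1
          module
        obtain ⟨h3, h4⟩ := huniq _ _ h2
        have hx0 : x ≠ 0 := LinearIndependent.ne_zero 0 hli
        have hc : c = 0 := (mul_eq_zero.1 ((smul_eq_zero.1 h4).resolve_right hx0)).resolve_right ht
        have hd := (LinearIndependent.pair_iff.1 hli _ _ h3).2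
        rw [hc, zero_mul, zero_add] at hd
        exact ⟨hc, (mul_eq_zero.1 hd).resolve_right ht⟩
      refine hindep _ _ hli' (l / lx) r ?_
      rw [eadd, esmul, esmul, div_eq_inv_mul, ← smul_smul, ← hlr]
      match_scalars <;> field_simp
    obtain ⟨x₀, hx₀, hx₀0, -⟩ := exists_singular_avoid (Q := Q) h20 ⊥ ⊥ (by simp; omega)
    rw [Submodule.mem_bot] at hx₀0
    obtain ⟨l₀, r₀, hl₀, hg₀⟩ := himg x₀ hx₀ hx₀0
    let S : AddSubgroup (ι → F₀) :=
      { carrier := {x | ∃ r, (g : Matrix ι ι F) *ᵥ e x = l₀ • e r}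
        zero_mem' := ⟨0, by rw [e0, mulVec_zero, smul_zero]⟩
        add_mem' := by
          rintro x y ⟨r, hr⟩ ⟨s, hs⟩
          exact ⟨r + s, by rw [eadd, eadd, mulVec_add, hr, hs, smul_add]⟩
        neg_mem' := by
          rintro x ⟨r, hr⟩
          exact ⟨-r, by rw [eneg, eneg, mulVec_neg, hr, smul_neg]⟩ }
    have hS : ∀ x, x ∈ S := by
      intro x
      refine perp_le_of_singular (Q := Q) hnd h20 (D := ⊥) (by simp; omega) S
        (fun y hy _ => ?_) (fun d hd => by rw [(Submodule.mem_bot F₀).1 hd]; simp [polar_zero_right])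
      by_cases hy0 : y = 0
      · rw [hy0]; exact S.zero_mem
      obtain ⟨ly, ry, hly, hgy⟩ := himg y hy hy0
      have := finrank_span_two_le x₀ y
      by_cases hdep : ∃ c : F₀, c • x₀ = y
      · obtain ⟨c, rfl⟩ := hdep
        refine ⟨c • r₀, ?_⟩
        rw [esmul, esmul, mulVec_smul, hg₀, smul_comm]
      push Not at hdep
      have hli : LinearIndependent F₀ ![x₀, y] := (LinearIndependent.pair_iff' hx₀0).2 hdep
      have q3 : ly / l₀ ∈ F₀ := by
        by_cases hxy : polar Q x₀ y = 0
        · exact hpair x₀ y hx₀ hy hxy hli _ _ _ _ hl₀ hg₀ hgy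
        obtain ⟨z, hz, hz0, hzD⟩ := exists_perp_three (Q := Q) h20 (Submodule.span F₀ {x₀, y}) (by omega)
        have z1 := hzD x₀ (Submodule.subset_span (by simp))
        have z2 := hzD y (Submodule.subset_span (by simp))
        obtain ⟨lz, rz, hlz, hgz⟩ := himg z hz hz0
        have q1 := hpair x₀ z hx₀ hz (by rw [polar_comm]; exact z1)
          ((LinearIndependent.pair_iff' hx₀0).2 fun c hc => hz0 (by
            rw [← hc, polar_smul_left, smul_eq_mul] at z2
            rw [← hc, (mul_eq_zero.1 z2).resolve_right hxy, zero_smul])) _ _ _ _ hl₀ hg₀ hgz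
        have q2 := hpair y z hy hz (by rw [polar_comm]; exact z2)
          ((LinearIndependent.pair_iff' hy0).2 fun c hc => hz0 (by
            rw [← hc, polar_smul_left, smul_eq_mul, polar_comm] at z1
            rw [← hc, (mul_eq_zero.1 z1).resolve_right hxy, zero_smul])) _ _ _ _ hly hgy hgz
        have := F₀.div_mem q1 q2
        rwa [div_div_div_cancel_left' _ _ hlz] at this
      refine ⟨(⟨_, q3⟩ : F₀) • ry, ?_⟩
      rw [esmul, smul_smul, hgy]
      change _ = (l₀ * (ly / l₀)) • _
      rw [mul_div_cancel₀ _ hl₀]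
    exact hgH ⟨mem_subfieldSubgroup_of_forall P fun x => ⟨l₀, (hS x).choose, (hS x).choose_spec⟩,
      hMK hgM⟩
  set v := (g : Matrix ι ι F) *ᵥ e u₁ with hv
  have hvv : f v v = 0 := (hgi _ _).trans ((hsing _).1 hu₁)
  -- images of points orthogonal to the first
  have hsep : ∀ y : ι → F, (∀ l : F, y ≠ l • v) → ∃ w, Q w = 0 ∧ polar Q u₁ w = 0 ∧
      f ((g : Matrix ι ι F) *ᵥ e w) y ≠ 0 := by
    intro y hy
    by_contra hcon
    push Not at hcon
    set z := ((g⁻¹ : GL ι F) : Matrix ι ι F) *ᵥ y with hzdef
    have hxz : ∀ x, polar Q x u₁ = 0 → f (e x) z = 0 := by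
      intro x hx
      rw [hzdef, ← form_mulVec_left hgi]
      refine perp_le_of_singular (Q := Q) hnd h20 (D := Submodule.span F₀ {u₁})
        (by rw [finrank_span_singleton hu₁0]; omega)
        { carrier := {x | f ((g : Matrix ι ι F) *ᵥ e x) y = 0}
          zero_mem' := by simp [e0, zero_left hf]
          add_mem' := fun {x y} hx hy => by
            simp only [Set.mem_setOf_eq] at hx hy ⊢
            rw [eadd, mulVec_add, hf.add_left, hx, hy, add_zero]
          neg_mem' := fun {x} hx => by
            simp only [Set.mem_setOf_eq] at hx ⊢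
            rw [eneg, mulVec_neg, ← neg_one_smul F, hf.smul_left, hx, mul_zero] }
        (fun y hy hy' => hcon y hy (by rw [polar_comm]; exact hy' u₁ (Submodule.mem_span_singleton_self u₁)))
        (fun d hd => by
          obtain ⟨k, rfl⟩ := Submodule.mem_span_singleton.1 hd
          rw [polar_smul_right, hx, smul_zero])
    obtain ⟨A, C, hAC⟩ := hcoord z
    have hA := hL1 u₁ A fun x hx => (hpar0 x A C (hAC ▸ hxz x hx)).1
    have hC := hL1 u₁ C fun x hx => (hpar0 x A C (hAC ▸ hxz x hx)).2
    obtain ⟨s, rfl⟩ := Submodule.mem_span_singleton.1 hA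
    obtain ⟨t, rfl⟩ := Submodule.mem_span_singleton.1 hC
    refine hy ((s : F) + τ * t) ?_
    rw [hv, ← mulVec_smul, add_smul, ← smul_smul, ← esmul, ← esmul, ← hAC, hzdef,
      gl_mulVec_inv_mulVec]
  have hperpsum : ∀ x A C, polar Q x A = 0 → polar Q x C = 0 → f (e x) (e A + τ • e C) = 0 := by
    intro x A C hA hC
    rw [hpar, (hperp _ _).1 hA, (hperp _ _).1 hC]
    ring
  have himage : ∀ w, Q w = 0 → polar Q u₁ w = 0 →
      f v ((g : Matrix ι ι F) *ᵥ e w) = 0 ∧
      f ((g : Matrix ι ι F) *ᵥ e w) ((g : Matrix ι ι F) *ᵥ e w) = 0 ∧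
      ush hf v ((g : Matrix ι ι F) *ᵥ e w) 1 ∈ M := by
    intro w hw hu₁w
    refine ⟨(hgi _ _).trans ((hperp _ _).1 hu₁w), (hgi _ _).trans ((hsing _).1 hw), ?_⟩
    have := M.mul_mem (M.mul_mem hgM (hHM (hush u₁ w hu₁ hw hu₁w))) (M.inv_mem hgM)
    rwa [ush_conj hf hgi ((hsing _).1 hu₁) ((hperp _ _).1 hu₁w), ← hv] at this
  obtain ⟨r, hr, hr0, c₀, hc₀0, hc₀, hc₀M⟩ : ∃ r, Q r = 0 ∧ r ≠ 0 ∧
      ∃ c, c ≠ 0 ∧ σ c = -c ∧ uTv hf (e r) c ∈ M := by
    by_cases hts : Q a = 0 ∧ Q b = 0 ∧ polar Q a b = 0
    · -- a totally singular plane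
      obtain ⟨hQa, hQb, hπ⟩ := hts
      obtain ⟨w, hw, hu₁w, hwy⟩ := hsep (e a + (-τ) • e b) fun l hl => by
        obtain ⟨x, y, rfl⟩ := hscal l
        obtain ⟨h1, h3⟩ := huniq ((x - 1) • a + ((⟨_, hττ⟩ : F₀) * y) • b)
          (y • a + (x + 1) • b) (by
          rw [hgab] at hl
          simp only [eadd, esmul, Subfield.coe_mul, Subfield.coe_sub, Subfield.coe_add,
            OneMemClass.coe_one]
          linear_combination (norm := module) -hl)
        exact h20 (by linear_combination (LinearIndependent.pair_iff.1 hab _ _ h3).2 -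
          (LinearIndependent.pair_iff.1 hab _ _ h1).1)
      obtain ⟨hvv', hv'v', hN'M⟩ := himage w hw hu₁w
      obtain ⟨z, hz, haz, hbz⟩ := hpres a b hab 0 (-2)
      have hne' : f ((g : Matrix ι ι F) *ᵥ e w) (e a) + τ * f ((g : Matrix ι ι F) *ᵥ e w) (e b) ≠ 0 :=
        fun h => hwy (by rw [add_right hf, smul_right hf, map_neg, hτ, neg_neg, h])
      refine ⟨a, hQa, LinearIndependent.ne_zero 0 hab, ?_⟩
      rw [hgab] at hvv' hN'M
      refine OrthSix.plane_seed hf h2 (z := e z) hτ0 hτ ((hsing _).1 hQa) ((hsing _).1 hQb)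
        ((hperp _ _).1 hπ) hv'v' hvv' hN'M (hHM (hush a b hQa hQb hπ)) (fun β hβ => ?_)
        ((hsing _).1 hz) ((hperp _ _).1 haz) ?_ (hHM (hush a z hQa hz haz)) hne'
      · have hba : f (e b) (e a) = 0 := eq_zero_comm hf ((hperp _ _).1 hπ)
        have h := hHM (hush b ((⟨β, hfixed β hβ⟩ : F₀) • a) hQb
          (by rw [QuadraticMap.map_smul, hQa, smul_zero])
          (by rw [polar_smul_right, polar_comm, hπ, smul_zero]))
        rw [esmul] at h
        convert h using 1
        refine gl_ext_mulVec fun y => ?_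
        rw [ush_mulVec hf ((hsing _).1 hQb) hba, ush_mulVec hf ((hsing _).1 hQb)
          (by rw [smul_right hf, hba, mul_zero]), smul_right hf, hβ, map_one]
        module
      · refine mul_left_cancel₀ h2 ?_
        rw [← hpol, hbz, mul_neg, mul_one]
        rfl
    -- a non-degenerate plane
    obtain ⟨r, hr, hr0, hrD⟩ := exists_perp_three (Q := Q) h20 (Submodule.span F₀ {a, b})
      (by have := finrank_span_two_le a b; omega)
    have haS : a ∈ Submodule.span F₀ {a, b} := Submodule.subset_span (by simp)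
    have hbS : b ∈ Submodule.span F₀ {a, b} := Submodule.subset_span (by simp)
    have hra : polar Q r a = 0 := hrD a haS
    have hrb : polar Q r b = 0 := hrD b hbS
    have hPnd : ∀ s t : F₀, polar Q (s • a + t • b) a = 0 → polar Q (s • a + t • b) b = 0 →
        s = 0 ∧ t = 0 := by
      intro s t h1 h3
      simp only [polar_add_left, polar_smul_left, Classical.Quad.polar_self', polar_comm Q b a,
        smul_eq_mul] at h1 h3
      have hQab : Q a = (⟨_, hττ⟩ : F₀) * Q b := by
        refine Subtype.ext ?_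
        rw [Subfield.coe_mul, hQ, hQ]
        have h := hvv
        rw [hgab, hf.add_left, add_right hf, add_right hf, hf.smul_left, hf.smul_left, smul_right hf,
          smul_right hf, hsym a b, hτ] at h
        linear_combination h
      set π := polar Q a b with hπ
      set T : F₀ := ⟨_, hττ⟩ with hT
      have hdet : π * π - 4 * T * (Q b * Q b) ≠ 0 := by
        intro h
        by_cases hb : Q b = 0
        · exact hts ⟨by rw [hQab, hb, mul_zero], hb,
            mul_self_eq_zero.1 (by rw [hb] at h; linear_combination h)⟩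
        set k : F₀ := π / (2 * Q b) with hk
        have hkk : (k : F) * k = τ * τ := by
          have e1 : k * k = T := by
            rw [hk, div_mul_div_comm, div_eq_iff (mul_ne_zero (mul_ne_zero h20 hb) (mul_ne_zero h20 hb))]
            linear_combination h
          exact congrArg Subtype.val e1
        have hτF : τ ∈ F₀ := by
          rcases mul_self_eq_mul_self_iff.1 hkk with h' | h'
          · exact h' ▸ k.2
          · rw [show τ = -(k : F) by rw [h', neg_neg]]
            exact F₀.neg_mem k.2
        have h' := hF₀ _ hτF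
        rw [hτ] at h'
        exact mul_ne_zero h2 hτ0 (by linear_combination -h')
      rw [hQab] at h1
      exact ⟨(mul_eq_zero.1 (show (π * π - 4 * T * (Q b * Q b)) * s = 0 by
          linear_combination π * h3 - 2 * Q b * h1)).resolve_left hdet,
        (mul_eq_zero.1 (show (π * π - 4 * T * (Q b * Q b)) * t = 0 by
          linear_combination π * h1 - 2 * T * Q b * h3)).resolve_left hdet⟩
    have hrab : r ∉ Submodule.span F₀ {a, b} := fun h => by
      obtain ⟨s, t, rfl⟩ := Submodule.mem_span_pair.1 h
      obtain ⟨h1, h3⟩ := hPnd s t hra hrb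
      exact hr0 (by rw [h1, h3, zero_smul, zero_smul, add_zero])
    obtain ⟨y, hry, hy⟩ := exists_dual_vec hnd hrab
    set s₁ := y + (-(Q y)) • r with hs₁
    have hrs : polar Q r s₁ = 1 := by
      rw [hs₁, polar_add_right, polar_smul_right, Classical.Quad.polar_singular_self hr, hry]; simp
    have hs : Q s₁ = 0 := by rw [hs₁, Classical.Quad.Q_comb1, hr, polar_comm Q y r, hry]; ring
    have hsa : polar Q s₁ a = 0 := by
      rw [hs₁, polar_add_left, polar_smul_left, hra, polar_comm, hy a haS]; simp
    have hsb : polar Q s₁ b = 0 := by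
      rw [hs₁, polar_add_left, polar_smul_left, hrb, polar_comm, hy b hbS]; simp
    clear_value s₁
    set D4 := Submodule.span F₀ {a, b} ⊔ Submodule.span F₀ {r, s₁} with hD4
    obtain ⟨p, hpD, hQp⟩ : ∃ p, p ∈ QuadSim.perpOf Q D4 ∧ Q p ≠ 0 := by
      by_contra hcon
      push Not at hcon
      have hinf : D4 ⊓ QuadSim.perpOf Q D4 = ⊥ := by
        rw [Submodule.eq_bot_iff]
        rintro x ⟨hx, hx'⟩
        have hx' := QuadSim.mem_perpOf.1 hx'
        obtain ⟨z₁, hz₁, z₂, hz₂, rfl⟩ := Submodule.mem_sup.1 hx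
        obtain ⟨s, t, rfl⟩ := Submodule.mem_span_pair.1 hz₁
        obtain ⟨γ, δ, rfl⟩ := Submodule.mem_span_pair.1 hz₂
        have xa := hx' a (Submodule.mem_sup_left haS)
        have xb := hx' b (Submodule.mem_sup_left hbS)
        have xr := hx' r (Submodule.mem_sup_right (Submodule.subset_span (by simp)))
        have xs := hx' s₁ (Submodule.mem_sup_right (Submodule.subset_span (by simp)))
        simp only [polar_add_left, polar_smul_left, polar_comm Q a r, polar_comm Q b r, hra, hrb,
          polar_comm Q a s₁, polar_comm Q b s₁, hsa, hsb, Classical.Quad.polar_singular_self hr,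
          Classical.Quad.polar_singular_self hs, polar_comm Q s₁ r, hrs, smul_eq_mul, mul_zero,
          mul_one, zero_add, add_zero] at xr xs xa xb
        subst xr xs
        obtain ⟨h1, h3⟩ := hPnd s t (by simpa [polar_add_left, polar_smul_left] using xa)
          (by simpa [polar_add_left, polar_smul_left] using xb)
        rw [h1, h3]
        simp
      have hdim := QuadSim.finrank_perpOf (Q := Q) D4
      have htop : D4 ⊔ QuadSim.perpOf Q D4 = ⊤ := by
        refine Submodule.eq_top_of_finrank_eq (le_antisymm (Submodule.finrank_le _) ?_)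
        have h := Submodule.finrank_sup_add_finrank_inf_eq D4 (QuadSim.perpOf Q D4)
        rw [hinf, finrank_bot] at h
        rw [Module.finrank_fintype_fun_eq_card]
        omega
      have hne : QuadSim.perpOf Q D4 ≠ ⊥ := fun h => by
        rw [h, finrank_bot] at hdim
        have h1 := finrank_span_two_le a b
        have h3 := finrank_span_two_le r s₁
        have h4 : Module.finrank F₀ D4 ≤ _ :=
          Submodule.finrank_add_le_finrank_add_finrank (Submodule.span F₀ {a, b})
            (Submodule.span F₀ {r, s₁})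
        omega
      obtain ⟨x, hx, hx0⟩ := Submodule.exists_mem_ne_zero_of_ne_bot hne
      refine hx0 (hnd x fun z => ?_)
      obtain ⟨z₁, hz₁, z₂, hz₂, rfl⟩ := Submodule.mem_sup.1
        (show z ∈ D4 ⊔ QuadSim.perpOf Q D4 from htop ▸ Submodule.mem_top)
      rw [polar_add_right, QuadSim.mem_perpOf.1 hx z₁ hz₁, zero_add, polar, hcon x hx, hcon z₂ hz₂,
        hcon _ (add_mem hx hz₂), sub_zero, sub_zero]
    rw [QuadSim.mem_perpOf] at hpD
    have hpr : polar Q p r = 0 := hpD r (Submodule.mem_sup_right (Submodule.subset_span (by simp)))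
    have hpa : polar Q p a = 0 := hpD a (Submodule.mem_sup_left haS)
    have hpb : polar Q p b = 0 := hpD b (Submodule.mem_sup_left hbS)
    obtain ⟨u, hu, hur, hpu⟩ : ∃ u, Q u = 0 ∧ polar Q u r = 0 ∧ polar Q p u ≠ 0 := by
      by_contra hcon
      push Not at hcon
      have h := perp_le_of_singular (Q := Q) hnd h20 (D := Submodule.span F₀ {r})
        (by rw [finrank_span_singleton hr0]; omega) (LinearMap.ker (polarBilin Q p)).toAddSubgroup
        (fun y hy hy' => LinearMap.mem_ker.2 (hcon y hy (hy' r (Submodule.mem_span_singleton_self r))))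
        (x := p) (fun d hd => by
          obtain ⟨k, rfl⟩ := Submodule.mem_span_singleton.1 hd
          rw [polar_smul_right, hpr, smul_zero])
      have h' : polar Q p p = 0 := LinearMap.mem_ker.1 h
      rw [Classical.Quad.polar_self'] at h'
      exact mul_ne_zero h20 hQp h'
    set κ := Q p / polar Q p u with hκ
    set w₁ := κ • u with hw₁def
    set w₂ := p + (-κ) • u with hw₂def
    have hw₁ : Q w₁ = 0 := by rw [hw₁def, QuadraticMap.map_smul, hu, smul_zero]
    have hw₂ : Q w₂ = 0 := by
      rw [hw₂def, Classical.Quad.Q_comb1, hu, hκ]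
      field_simp
      ring
    have hw₁r : polar Q r w₁ = 0 := by
      rw [hw₁def, polar_smul_right, polar_comm, hur, smul_zero]
    have hw₂r : polar Q r w₂ = 0 := by
      rw [hw₂def, polar_add_right, polar_smul_right, polar_comm Q r p, hpr, polar_comm Q r u, hur,
        smul_zero, add_zero]
    have hw12 : w₁ + w₂ = p := by rw [hw₁def, hw₂def]; module
    have hrr : f (e r) (e r) = 0 := (hsing _).1 hr
    have hrv : f (e r) v = 0 := hgab ▸ hperpsum r a b hra hrb
    have hvr : f v (e r) = 0 := eq_zero_comm hf hrv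
    obtain ⟨w, hw, hu₁w, hwr⟩ := hsep (e r) fun l hl => by
      rcases eq_or_ne l 0 with rfl | hl0
      · rw [zero_smul] at hl
        exact hr0 (einj (hl.trans e0.symm))
      · refine hindep a b hab l⁻¹ r ?_
        rw [← hgab, hl, smul_smul, inv_mul_cancel₀ hl0, one_smul]
    obtain ⟨hvv', hv'v', hN'M⟩ := himage w hw hu₁w
    set v' := (g : Matrix ι ι F) *ᵥ e w with hv'
    set t := -4 * f (e w₂) (e w₁) * f v' (e r) with ht
    have ht0 : t ≠ 0 := by
      refine mul_ne_zero (mul_ne_zero (neg_ne_zero.2 ?_) ?_) hwr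
      · rw [show (4 : F) = 2 * 2 by norm_num]
        exact mul_ne_zero h2 h2
      · intro h
        have h' := (hperp _ _).2 h
        apply hQp
        rw [← hw12, QuadraticMap.map_add Q, hw₁, hw₂, polar_comm, h']
        ring
    set K := ush hf v (e r) t with hK
    have hKi : K ∈ isoOf f := ush_mem_isoOf hf hvv hrr hvr _
    have hKM : K ∈ M :=
      OrthSix.mixed_root hf hvv hv'v' hrr ((hsing _).1 hw₁) ((hsing _).1 hw₂) ((hperp _ _).1 hw₁r)
        ((hperp _ _).1 hw₂r) hvv' hvr
        (eq_zero_comm hf (by rw [← eadd, hw12]; exact hgab ▸ hperpsum p a b hpa hpb))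
        (hsym _ _) (hHM (hush r w₁ hr hw₁ hw₁r)) (hHM (hush r w₂ hr hw₂ hw₂r)) hN'M
    -- a transvection at a rational point
    obtain ⟨w', hw', hrw', hμ⟩ : ∃ w', Q w' = 0 ∧ polar Q r w' = 0 ∧ t * f (e w') v ∉ F₀ := by
      by_contra hcon
      push Not at hcon
      have hall : ∀ x, polar Q x r = 0 → t * f (e x) v ∈ F₀ := by
        intro x hx
        exact perp_le_of_singular (Q := Q) hnd h20 (D := Submodule.span F₀ {r})
          (by rw [finrank_span_singleton hr0]; omega)
          { carrier := {x | t * f (e x) v ∈ F₀}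
            zero_mem' := by simp [e0, zero_left hf]
            add_mem' := fun {x y} hx hy => by
              simp only [Set.mem_setOf_eq] at hx hy ⊢
              rw [eadd, hf.add_left, mul_add]; exact F₀.add_mem hx hy
            neg_mem' := fun {x} hx => by
              simp only [Set.mem_setOf_eq] at hx ⊢
              rw [eneg, ← neg_one_smul F, hf.smul_left, mul_left_comm, neg_one_mul]
              exact F₀.neg_mem hx }
          (fun y hy hy' => hcon y hy (by rw [polar_comm]; exact hy' r (Submodule.mem_span_singleton_self r)))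
          (fun d hd => by
            obtain ⟨k, rfl⟩ := Submodule.mem_span_singleton.1 hd
            rw [polar_smul_right, hx, smul_zero])
      obtain ⟨x, y, hxy⟩ := hscal (σ t)
      have hz : σ t • v = e (x • a + ((⟨_, hττ⟩ : F₀) * y) • b) + τ • e (y • a + x • b) := by
        rw [hxy, hgab]
        simp only [eadd, esmul, Subfield.coe_mul]
        module
      obtain ⟨k, hk⟩ := Submodule.mem_span_singleton.1 (hL1 r (y • a + x • b) fun z hz' => by
        have h := hF₀ _ (hall z hz')
        rw [show t * f (e z) v = f (e z) (σ t • v) by rw [smul_right hf, hf.involutive], hz, hpar,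
          map_add, map_mul, map_neg, hfix, hfix, hτ] at h
        refine (hperp _ _).2 ?_
        have h' : (2 * τ) * f (e z) (e (y • a + x • b)) = 0 := by linear_combination h
        exact (mul_eq_zero.1 h').resolve_left (mul_ne_zero h2 hτ0))
      have hk0 : k = 0 := by
        by_contra hk0
        refine hrab ((Submodule.smul_mem_iff _ hk0).1 (hk ▸ ?_))
        exact add_mem (Submodule.smul_mem _ _ (Submodule.subset_span (by simp)))
          (Submodule.smul_mem _ _ (Submodule.subset_span (by simp)))
      rw [hk0, zero_smul] at hk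
      obtain ⟨h1, h3⟩ := LinearIndependent.pair_iff.1 hab y x hk.symm
      apply ht0
      rw [← hf.involutive t, hxy, h1, h3]
      simp
    have hw'r := (hperp _ _).1 hrw'
    refine ⟨r, hr, hr0, ?_⟩
    set μ := t * f (e w') v with hμdef
    refine ⟨μ - σ μ, fun h => hμ (hfixed _ (sub_eq_zero.1 h).symm),
      by rw [map_sub, hf.involutive, neg_sub], ?_⟩
    set W := ush hf (e r) (e w') 1 with hW
    have hWM : W ∈ M := hHM (hush r w' hr hw' hrw')
    suffices uTv hf (e r) (μ - σ μ) = W⁻¹ * (K * W * K⁻¹) from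
      this ▸ M.mul_mem (M.inv_mem hWM) (M.mul_mem (M.mul_mem hKM hWM) (M.inv_mem hKM))
    have e1 : (K : Matrix ι ι F) *ᵥ e r = e r := by
      rw [hK, ush_mulVec hf hvv hvr, hrv, hrr]
      simp
    have e2 : (K : Matrix ι ι F) *ᵥ e w' = e w' + μ • e r := by
      rw [hK, ush_mulVec hf hvv hvr, eq_zero_comm hf hw'r, mul_zero, zero_smul, sub_zero]
    rw [eq_inv_mul_iff_mul_eq, hW, ush_conj hf hKi hrr hw'r, e1, e2]
    clear_value μ
    refine gl_ext_mulVec fun x => ?_
    simp only [gl_mulVec_mul, ush_mulVec hf hrr hw'r, uTv_mulVec hf hrr,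
      ush_mulVec hf hrr (show f (e r) (e w' + μ • e r) = 0 by
        rw [add_right hf, smul_right hf, hw'r, hrr, mul_zero, add_zero]),
      hf.add_left, add_right hf, hf.smul_left, smul_right hf, hrr, hw'r, map_one]
    module
  have hrr : f (e r) (e r) = 0 := (hsing _).1 hr
  have hrat : ∀ x, Q x = 0 → e x ∈ uSet hf M := by
    intro x hx
    refine ⟨(hsing _).1 hx, fun d hd => ?_⟩
    by_cases hx0 : x = 0
    · rw [show uTv hf (e x) d = 1 from gl_ext_mulVec fun z => by
        rw [uTv_mulVec hf ((hsing _).1 hx), hx0, e0]; simp]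
      exact M.one_mem
    have hx' := (hsing _).1 hx
    have key : ∀ l : F₀, uTv hf (e x) (c₀ * ((l : F) * l)) ∈ M := by
      intro l
      by_cases hl : l = 0
      · rw [hl]
        simp only [ZeroMemClass.coe_zero, mul_zero]
        rw [show uTv hf (e x) 0 = 1 from gl_ext_mulVec fun z => by
          rw [uTv_mulVec hf hx']; simp]
        exact M.one_mem
      obtain ⟨h, hh, he⟩ := hmove r (l • x) hr0 (smul_ne_zero hl hx0) hr
        (by rw [QuadraticMap.map_smul, hx, smul_zero])
      have := M.mul_mem (M.mul_mem (hHM hh) hc₀M) (M.inv_mem (hHM hh))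
      rwa [uTv_conj hf (hMK (hHM hh)).1 hrr, he, esmul, uTv_smul hf hx', hF] at this
    have hk : d / c₀ ∈ F₀ := hfixed _ (by rw [map_div₀, hd, hc₀, neg_div_neg_eq])
    set k : F₀ := ⟨_, hk⟩ with hkdef
    have := M.mul_mem (key ((k + 1) / 2)) (M.inv_mem (key ((k - 1) / 2)))
    rwa [uTv_inv_eq hf hx', uTv_mul hf hx', show c₀ * ((((k + 1) / 2 : F₀) : F) * _) +
      -(c₀ * ((((k - 1) / 2 : F₀) : F) * ((((k - 1) / 2 : F₀) : F)))) = d by
        have : (k : F) * c₀ = d := div_mul_cancel₀ d hc₀0
        rw [← this]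
        simp only [Subfield.coe_add, Subfield.coe_sub, Subfield.coe_div, OneMemClass.coe_one,
          show ((2 : F₀) : F) = 2 from rfl]
        field_simp
        ring] at this
  -- spreading
  refine iso_inf_sl_le_five hf (by omega) fun z d hz hd => ?_
  suffices hzS : z ∈ uSet hf M from hzS.2 d hd
  obtain ⟨a, b, rfl⟩ := hcoord z
  by_cases hli : LinearIndependent F₀ ![a, b]
  swap
  · obtain ⟨l, s, hls⟩ := hline a b hli
    rw [hls] at hz ⊢
    by_cases hl : l = 0
    · rw [hl, zero_smul, ← zero_smul F (e 0)]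
      exact uSet_smul hf 0 (hrat 0 (by simp))
    · refine uSet_smul hf l (hrat s ((hsing _).2 ?_))
      rw [hf.smul_left, smul_right hf] at hz
      exact (mul_eq_zero.1 ((mul_eq_zero.1 hz).resolve_left hl)).resolve_left
        fun h => hl (by simpa using congrArg σ h)
  -- two singular non-orthogonal parts
  have hii : ∀ a b, Q a = 0 → Q b = 0 → polar Q a b ≠ 0 → e a + τ • e b ∈ uSet hf M := by
    intro a b ha hb hab
    refine uSet_add hf (hrat a ha) (uSet_smul hf τ (hrat b hb)) ?_ ?_
    · rw [hf.smul_left, hsym]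
      exact mul_ne_zero hτ0 fun h => hab ((hperp _ _).2 h)
    · rw [hf.add_left, add_right hf, add_right hf, hf.smul_left, hf.smul_left, smul_right hf,
        smul_right hf, hτ, hsym a b, (hsing _).1 ha, (hsing _).1 hb]
      ring
  have hshift : ∀ p a' b', Q p = 0 → Q a' = 0 → Q b' = 0 → polar Q a' b' ≠ 0 → polar Q a' p ≠ 0 →
      ∀ l : F, e a + τ • e b = l • e p + (e a' + τ • e b') → e a + τ • e b ∈ uSet hf M := by
    intro p a' b' hp ha hb hab hap l hl
    by_cases hl0 : l = 0
    · rw [hl, hl0, zero_smul, zero_add]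
      exact hii a' b' ha hb hab
    rw [hl] at hz ⊢
    refine uSet_add hf (uSet_smul hf l (hrat p hp)) (hii a' b' ha hb hab) ?_ hz
    apply ne_zero_comm hf
    rw [hf.smul_left]
    refine mul_ne_zero hl0 fun h => hap ?_
    rw [polar_comm]
    exact (hpar0 _ _ _ h).1
  by_cases hgen : ∃ α β : F₀, α ≠ 0 ∧ β ≠ 0 ∧ Q (β • a + (-α) • b) ≠ 0
  · obtain ⟨α, β, hα, hβ, hne⟩ := hgen
    obtain ⟨p, hp, hap, hbp⟩ := hpres a b hli α β
    set a' := a + (-(Q a / α)) • p with ha'
    set b' := b + (-(Q b / β)) • p with hb'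
    have hQa' : Q a' = 0 := by
      rw [ha', Classical.Quad.Q_comb1, hp, hap]; field_simp; ring
    have hQb' : Q b' = 0 := by
      rw [hb', Classical.Quad.Q_comb1, hp, hbp]; field_simp; ring
    have hap' : polar Q a' p = α := by
      rw [ha', polar_add_left, polar_smul_left, hap, Classical.Quad.polar_singular_self hp,
        smul_zero, add_zero]
    have hab' : polar Q a' b' ≠ 0 := by
      intro h
      apply hne
      rw [ha', hb', polar_add_left, polar_add_right, polar_add_right, polar_smul_left,
        polar_smul_left, polar_smul_right, polar_smul_right, hap, polar_comm Q p b, hbp,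
        Classical.Quad.polar_singular_self hp] at h
      simp only [smul_eq_mul] at h
      field_simp at h
      rw [Classical.Quad.Q_comb1, QuadraticMap.map_smul, polar_smul_left, smul_eq_mul, smul_eq_mul]
      linear_combination -h
    refine hshift p a' b' hp hQa' hQb' hab' (hap' ▸ hα) ((Q a / α : F₀) + τ * (Q b / β : F₀)) ?_
    rw [ha', hb', eadd, eadd, esmul, esmul]
    simp only [Subfield.coe_neg]
    module
  push Not at hgen
  have hp1 : Q (a + b) = 0 := by
    have := hgen 1 (-1) one_ne_zero (neg_ne_zero.2 one_ne_zero)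
    rwa [show (-1 : F₀) • a + (-1 : F₀) • b = (-1 : F₀) • (a + b) by module,
      QuadraticMap.map_smul, neg_mul_neg, one_mul, one_smul] at this
  have hm1 : Q (a - b) = 0 := by
    have := hgen 1 1 one_ne_zero one_ne_zero
    rwa [show (1 : F₀) • a + (-1 : F₀) • b = a - b by module] at this
  have hab0 : polar Q a b = 0 := by
    have h1 := hp1
    have h3 := hm1
    rw [QuadraticMap.map_add Q] at h1
    rw [sub_eq_add_neg, QuadraticMap.map_add Q, QuadraticMap.map_neg, polar_neg_right] at h3
    exact (mul_eq_zero.1 (show (2 : F₀) * polar Q a b = 0 by linear_combination h1 - h3)).resolve_left h20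
  have hQab : Q a = -Q b := by
    have h1 := hp1
    rw [QuadraticMap.map_add Q, hab0, add_zero] at h1
    exact eq_neg_of_add_eq_zero_left h1
  by_cases hQb : Q b = 0
  · obtain ⟨p, hp, hap, hbp⟩ := hpres a b hli 1 0
    refine hshift p a (b - p) hp (by rw [hQab, hQb, neg_zero]) ?_ ?_ (hap ▸ one_ne_zero) τ ?_
    · rw [sub_eq_add_neg, QuadraticMap.map_add Q, QuadraticMap.map_neg, polar_neg_right, hQb, hp, hbp]
      simp
    · rw [polar_sub_right, hab0, hap, zero_sub]
      exact neg_ne_zero.2 one_ne_zero
    · rw [esub]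
      module
  · set l₁ : F := (1 + τ) / 2 with hl₁
    set l₂ : F := (1 - τ) / 2 with hl₂
    have hz' : e a + τ • e b = l₁ • e (a + b) + l₂ • e (a - b) := by
      rw [hl₁, hl₂, eadd, esub]
      match_scalars <;> field_simp <;> ring
    rw [hz'] at hz ⊢
    refine uSet_add hf (uSet_smul hf _ (hrat _ hp1)) (uSet_smul hf _ (hrat _ hm1)) ?_ hz
    rw [hf.smul_left, smul_right hf]
    have hne1 : l₁ ≠ 0 := fun h => one_ne_zero ((hscal0 1 1 (map_one σ) (map_one σ) (by
      rw [hl₁, div_eq_zero_iff] at h; simpa [h2] using h)).1)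
    have hne2 : l₂ ≠ 0 := fun h => one_ne_zero ((hscal0 1 (-1) (map_one σ) (by rw [map_neg, map_one]) (by
      rw [hl₂, div_eq_zero_iff] at h; simpa [h2, sub_eq_add_neg] using h)).1)
    refine mul_ne_zero hne2 (mul_ne_zero (fun h => hne1 (by simpa using congrArg σ h)) fun h => hQb ?_)
    have h5 : polar Q (a - b) (a + b) = 0 := (hperp _ _).2 h
    rw [polar_sub_left, polar_add_right, polar_add_right, Classical.Quad.polar_self',
      Classical.Quad.polar_self', polar_comm Q b a, hab0, hQab] at h5
    exact (mul_eq_zero.1 (show (2 : F₀) * (2 * Q b) = 0 by linear_combination -h5)).resolve_left h20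
      |> fun h6 => (mul_eq_zero.1 h6).resolve_left h20

end CfsgLib.ClassicalMax.Unit
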