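/-
Tensor decompositions of the standard unitary form, stated with the `q`-power map.
-/
import Cfsg.Agent.Lib.ClassicalMax.TensorUnitMax
import Cfsg.Agent.Lib.ClassicalMax.UnitStd

set_option autoImplicit false

namespace CfsgLib.ClassicalMax.TensorUnit

open CfsgLib.ClassicalMax Cfsg

/-- The stabiliser of a tensor decomposition of the standard unitary form is maximal. -/
theorem pow_tensor_maximal {F : Type*} [Field F] [Fintype F] {n q : ℕ}
    (hF : Fintype.card F = q ^ 2) {n₁ n₂ : ℕ} (h1 : 2 ≤ n₁) (h12 : n₁ < n₂)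
    (hex : 3 ≤ n₁ ∨ 3 ≤ q) (e : Fin n ≃ Fin n₁ × Fin n₂) (P : Matrix.GeneralLinearGroup (Fin n) F)
    {f₁ : (Fin n₁ → F) → (Fin n₁ → F) → F} {f₂ : (Fin n₂ → F) → (Fin n₂ → F) → F}
    (hf₁ : Cfsg.Geo.IsUnitaryFormPow q f₁) (hf₂ : Cfsg.Geo.IsUnitaryFormPow q f₂)
    (hT : Cfsg.Geo.IsTensorFormStructure (fun x : F => x ^ q) (Cfsg.hermForm n F q) f₁ f₂ e P) :
    Cfsg.Geo.IsMaximalIn (Cfsg.GU n F q ⊓ Cfsg.Geo.specialLinear (Fin n) F)
      (Cfsg.Geo.tensorProductSubgroup n₁ n₂ e P ⊓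
        (Cfsg.GU n F q ⊓ Cfsg.Geo.specialLinear (Fin n) F)) := by
  classical
  obtain ⟨σ, hσ, hσ2, hne⟩ := Unit.exists_powEquiv hF
  have hq := Unit.two_le_of_card_eq_sq hF
  have hH := Unit.isUnitaryForm_hermForm hF n hσ hne
  have hu₁ : Cfsg.Geo.IsUnitaryForm σ f₁ :=
    ⟨hne, hσ2, hf₁.add_left, hf₁.smul_left, fun v w => by rw [hσ]; exact hf₁.herm v w,
      hf₁.nondegenerate⟩
  have hu₂ : Cfsg.Geo.IsUnitaryForm σ f₂ :=
    ⟨hne, hσ2, hf₂.add_left, hf₂.smul_left, fun v w => by rw [hσ]; exact hf₂.herm v w,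
      hf₂.nondegenerate⟩
  obtain ⟨c, hc0, hc⟩ := hT
  have hmul : ∀ x y : F, (x * y) ^ q = x ^ q * y ^ q := fun x y => mul_pow x y q
  have hgram : ∀ {m : ℕ} {g : (Fin m → F) → (Fin m → F) → F}, Cfsg.Geo.IsUnitaryForm σ g →
      ∀ u v, Cfsg.Geo.formOfGram (fun x : F => x ^ q) (Cfsg.Geo.gramMatrix g) u v = g u v :=
    fun {m g} hg u v => Tensor.formOfGram_gram hg.add_left hg.smul_left (Unit.add_right hg)
      (fun d v x => by rw [← hσ]; exact Unit.smul_right hg d v x) u v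
  have hform := Tensor.form_pureL e P hmul hc (hgram hu₁) (hgram hu₂)
  haveI : Nonempty (Fin n₁) := ⟨⟨0, by omega⟩⟩
  haveI : Nonempty (Fin n₂) := ⟨⟨0, by omega⟩⟩
  obtain ⟨x, hx⟩ := TensorUnit.exists_anisotropic hu₁
  obtain ⟨w, hw⟩ := TensorUnit.exists_anisotropic hu₂
  have hcσ : σ c = c := by
    have h := Unit.self_fixed hH (Tensor.pureL e P x w)
    rw [hform, map_mul, map_mul, Unit.self_fixed hu₁, Unit.self_fixed hu₂] at h
    exact mul_right_cancel₀ (mul_ne_zero hx hw) h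
  have hu₁' : Cfsg.Geo.IsUnitaryForm σ fun u v => c * f₁ u v :=
    { ne_refl := hne
      involutive := hσ2
      add_left := fun u v z => by simp only [hu₁.add_left, mul_add]
      smul_left := fun d u v => by simp only [hu₁.smul_left]; ring
      herm := fun u v => by simp only [map_mul, hcσ, ← hu₁.herm]
      nondegenerate := fun v hv => by
        obtain ⟨⟨z, hz⟩, y, hy⟩ := hu₁.nondegenerate v hv
        exact ⟨⟨z, mul_ne_zero hc0 hz⟩, y, mul_ne_zero hc0 hy⟩ }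
  rw [Unit.GU_eq_isoOf]
  refine TensorUnit.unit_tensor_maximal hH e P hu₁' hu₂
    (fun u u' z z' => by rw [hform, mul_assoc]) h1 h12 ?_
  exact hex.imp_right fun h => TensorUnit.exists_fixed_ne hne hσ2 h hF


end CfsgLib.ClassicalMax.TensorUnit
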